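import Cfsg.Agent.Lib.D8.T.T0IG0

/-! Certificates (generated, helper29). -/

set_option maxRecDepth 100000
set_option Elab.async false

namespace Cfsg.Lib.D8.T0I

universe u

noncomputable def p193 : Pf := (.ext (nat_lit 0) (nat_lit 0) (nat_lit 0x1080020040010) (nat_lit 0x1002004008003001) (nat_lit 0x2003004008) (nat_lit 0x1004001) (nat_lit 0x1005004) (nat_lit 0xa00400200100b004002001) (.dfs (nat_lit 1) (nat_lit 0x1002003004008) (nat_lit 0x100200300400b) (nat_lit 4097) (nat_lit 4097) (nat_lit 0) (nat_lit 0) (nat_lit 2) (nat_lit 0) (nat_lit 0) (nat_lit 4) (nat_lit 1) (nat_lit 0) (nat_lit 4224) (nat_lit 128) (nat_lit 0x1000004000014000024000034) (nat_lit 0x10001000100010) (.cD (nat_lit 4) (.dfs (nat_lit 4) (nat_lit 0x1004006008010) (nat_lit 0x1004006008014) (nat_lit 0x1002001) (nat_lit 0x1002001) (nat_lit 0) (nat_lit 0) (nat_lit 2) (nat_lit 0) (nat_lit 0) (nat_lit 5) (nat_lit 1) (nat_lit 0) (nat_lit 1) (nat_lit 0) (nat_lit 1) (nat_lit 0x200020002000200020002000200020)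 (.cD (nat_lit 5) (.kS (nat_lit 0) (nat_lit 0x400c010020002008008000002) (nat_lit 4116) (nat_lit 0x800400200d) (nat_lit 0x800800000400801002000200100800800000400c010020005001004)) (.cD (nat_lit 21) (.kS (nat_lit 0) (nat_lit 0x400c010020002008008000002) (nat_lit 4180) (nat_lit 0x800400200d) (nat_lit 0x800800000400801002000200100800800000400c01002000d001004)) (.cD (nat_lit 37) (.kS (nat_lit 0) (nat_lit 0x400c010020002008008000002) (nat_lit 4148) (nat_lit 0x800400200d) (nat_lit 0x800800000400801002000200100800800000400c010020015001004)) (.cD (nat_lit 53) (.kS (nat_lit 0) (nat_lit 0x400c010020002008008000002) (nat_lit 4212) (nat_lit 0x800400200d) (nat_lit 0x800800000400801002000200100800800000400c01002001d001004)) (.cD (nat_lit 69) (.cut (nat_lit 0)) (.cD (nat_lit 85) (.kS (nat_lit 0) (nat_lit 0x800c010020002001) (nat_lit 4117) (nat_lit 0x800400200d) (nat_lit 0xc00401002000100100400801002000200100800c010020007001003)) (.cD (nat_lit 101) (.kS (nat_lit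 0) (nat_lit 0x400c010020002008008000002) (nat_lit 4196) (nat_lit 0x800400200d) (nat_lit 0x800800000400801002000200100800800000400c010020019001004)) (.cD (nat_lit 117) (.kS (nat_lit 0) (nat_lit 0x400c010020002008008000002) (nat_lit 4132) (nat_lit 0x800400200d) (nat_lit 0x800800000400801002000200100800800000400c010020011001004)) .nil))))))))) (.cD (nat_lit 20) (.dfs (nat_lit 4) (nat_lit 0x1004006008010) (nat_lit 0x1004006008014) (nat_lit 0x1002001) (nat_lit 0x1002001) (nat_lit 0) (nat_lit 0) (nat_lit 2) (nat_lit 0) (nat_lit 0) (nat_lit 5) (nat_lit 1) (nat_lit 0) (nat_lit 1) (nat_lit 0) (nat_lit 1) (nat_lit 0x200020002000200020002000200020) (.cD (nat_lit 5) (.iso x118 s192 (nat_lit 0) (nat_lit 0x1080040020010008004002041) (nat_lit 0x80040020010008004002041) [(nat_lit 0x2001000800400a001001001), (nat_lit 0x20010008004002001003001)] (.cut (nat_lit 0))) (.cD (nat_lit 21) (.kS (nat_lit 0) (nat_lit 0x800c010020002001) (nat_lit 4101) (nat_lit 0x800400200d)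 (nat_lit 0xc00401002000500100400801002000200100800c010020003001003)) (.cD (nat_lit 37) (.kS (nat_lit 0) (nat_lit 0x400c010020002008008000002) (nat_lit 4148) (nat_lit 0x800400200d) (nat_lit 0x800800000400801002000200100800800000400c010020015001004)) (.cD (nat_lit 53) (.kS (nat_lit 0) (nat_lit 0x400c010020002008008000002) (nat_lit 4212) (nat_lit 0x800400200d) (nat_lit 0x800800000400801002000200100800800000400c01002001d001004)) (.cD (nat_lit 69) (.kS (nat_lit 0) (nat_lit 0x400c010020002008008000002) (nat_lit 4164) (nat_lit 0x800400200d) (nat_lit 0x800800000400801002000200100800800000400c010020009001004)) (.cD (nat_lit 85) (.kS (nat_lit 0) (nat_lit 0x400c010020002008008000002) (nat_lit 4100) (nat_lit 0x800400200d) (nat_lit 0x800800000400801002000200100800800000400c010020001001004)) (.cD (nat_lit 101) (.kS (nat_lit 0) (nat_lit 0x400c010020002008008000002) (nat_lit 4196) (nat_lit 0x800400200d) (nat_lit 0x800800000400801002000200100800800000400c010020019001004))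 (.cD (nat_lit 117) (.kS (nat_lit 0) (nat_lit 0x400c010020002008008000002) (nat_lit 4132) (nat_lit 0x800400200d) (nat_lit 0x800800000400801002000200100800800000400c010020011001004)) .nil))))))))) (.cD (nat_lit 36) (.dfs (nat_lit 4) (nat_lit 0x1004006008010) (nat_lit 0x1004006008014) (nat_lit 0x1002001) (nat_lit 0x1002001) (nat_lit 0) (nat_lit 0) (nat_lit 2) (nat_lit 0) (nat_lit 0) (nat_lit 5) (nat_lit 1) (nat_lit 0) (nat_lit 1) (nat_lit 0) (nat_lit 1) (nat_lit 0x200020002000200020002000200020) (.cD (nat_lit 5) (.kS (nat_lit 0) (nat_lit 0x400c010020002008008000002) (nat_lit 4116) (nat_lit 0x800400200d) (nat_lit 0x800800000400801002000200100800800000400c010020005001004)) (.cD (nat_lit 21) (.kS (nat_lit 0) (nat_lit 0x400c010020002008008000002) (nat_lit 4180) (nat_lit 0x800400200d) (nat_lit 0x800800000400801002000200100800800000400c01002000d001004)) (.cD (nat_lit 37) (.kS (nat_lit 0) (nat_lit 0x400c010020002008008000002) (nat_lit 4148) (nat_lit 0x800400200d)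 (nat_lit 0x800800000400801002000200100800800000400c010020015001004)) (.cD (nat_lit 53) (.kS (nat_lit 0) (nat_lit 0x400c010020002008008000002) (nat_lit 4212) (nat_lit 0x800400200d) (nat_lit 0x800800000400801002000200100800800000400c01002001d001004)) (.cD (nat_lit 69) (.kS (nat_lit 0) (nat_lit 0x400c010020002008008000002) (nat_lit 4164) (nat_lit 0x800400200d) (nat_lit 0x800800000400801002000200100800800000400c010020009001004)) (.cD (nat_lit 85) (.kS (nat_lit 0) (nat_lit 0x400c010020002008008000002) (nat_lit 4100) (nat_lit 0x800400200d) (nat_lit 0x800800000400801002000200100800800000400c010020001001004)) (.cD (nat_lit 101) (.iso x118 s192 (nat_lit 0) (nat_lit 0x1080040020010008004002021) (nat_lit 0x80040020010008004002021) [(nat_lit 0x20010008004012001001001), (nat_lit 0x20010008004002001003001)] (.cut (nat_lit 0))) (.cD (nat_lit 117) (.kS (nat_lit 0) (nat_lit 0x800c010020002001) (nat_lit 4117) (nat_lit 0x800400200d) (nat_lit 0xc00401002001100100400801002000200100800c010020007001003))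 .nil))))))))) (.cD (nat_lit 52) (.dfs (nat_lit 4) (nat_lit 0x1004006008010) (nat_lit 0x1004006008014) (nat_lit 0x1002001) (nat_lit 0x1002001) (nat_lit 0) (nat_lit 0) (nat_lit 2) (nat_lit 0) (nat_lit 0) (nat_lit 5) (nat_lit 1) (nat_lit 0) (nat_lit 1) (nat_lit 0) (nat_lit 1) (nat_lit 0x200020002000200020002000200020) (.cD (nat_lit 5) (.kS (nat_lit 0) (nat_lit 0x400c010020002008008000002) (nat_lit 4116) (nat_lit 0x800400200d) (nat_lit 0x800800000400801002000200100800800000400c010020005001004)) (.cD (nat_lit 21) (.kS (nat_lit 0) (nat_lit 0x400c010020002008008000002) (nat_lit 4180) (nat_lit 0x800400200d) (nat_lit 0x800800000400801002000200100800800000400c01002000d001004)) (.cD (nat_lit 37) (.iso x118 s192 (nat_lit 0) (nat_lit 0x1080040020010008004002061) (nat_lit 0x80040020010008004002061) [(nat_lit 0x2001000800401a001001001), (nat_lit 0x20010008004002001003001)] (.cut (nat_lit 0))) (.cD (nat_lit 53) (.kS (nat_lit 0) (nat_lit 0x800c010020002001) (nat_lit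 4101) (nat_lit 0x800400200d) (nat_lit 0xc00401002001500100400801002000200100800c010020003001003)) (.cD (nat_lit 69) (.kS (nat_lit 0) (nat_lit 0x400c010020002008008000002) (nat_lit 4164) (nat_lit 0x800400200d) (nat_lit 0x800800000400801002000200100800800000400c010020009001004)) (.cD (nat_lit 85) (.kS (nat_lit 0) (nat_lit 0x400c010020002008008000002) (nat_lit 4100) (nat_lit 0x800400200d) (nat_lit 0x800800000400801002000200100800800000400c010020001001004)) (.cD (nat_lit 101) (.kS (nat_lit 0) (nat_lit 0x400c010020002008008000002) (nat_lit 4196) (nat_lit 0x800400200d) (nat_lit 0x800800000400801002000200100800800000400c010020019001004)) (.cD (nat_lit 117) (.kS (nat_lit 0) (nat_lit 0x400c010020002008008000002) (nat_lit 4132) (nat_lit 0x800400200d) (nat_lit 0x800800000400801002000200100800800000400c010020011001004)) .nil))))))))) .nil))))))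
theorem c193 : (chk [(x118, s192)] [g199] p193).n x118 s193 = true := by decide +kernel
noncomputable def p194 : Pf := (.ext (nat_lit 0) (nat_lit 0) (nat_lit 0x1080020040010) (nat_lit 0x1002004008001001) (nat_lit 0x2003004008) (nat_lit 4097) (nat_lit 4100) (nat_lit 0xb004002001) (.dfs (nat_lit 1) (nat_lit 0x1002003004008) (nat_lit 0x100200300400b) (nat_lit 4097) (nat_lit 4097) (nat_lit 4) (nat_lit 0) (nat_lit 2) (nat_lit 0) (nat_lit 0) (nat_lit 4) (nat_lit 1) (nat_lit 0) (nat_lit 1) (nat_lit 0) (nat_lit 1) (nat_lit 0) .nil))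
theorem c194 : (chk [] [] p194).n x126 s194 = true := by decide +kernel
noncomputable def p195 : Pf := (.ext (nat_lit 0) (nat_lit 0) (nat_lit 0x1080020040010) (nat_lit 0x1002004008001001) (nat_lit 0x2003004008) (nat_lit 4097) (nat_lit 4100) (nat_lit 0xb004002001) (.dfs (nat_lit 1) (nat_lit 0x1002003004008) (nat_lit 0x100200300400b) (nat_lit 4097) (nat_lit 4097) (nat_lit 6) (nat_lit 0) (nat_lit 2) (nat_lit 0) (nat_lit 0) (nat_lit 4) (nat_lit 1) (nat_lit 0) (nat_lit 1) (nat_lit 0) (nat_lit 1) (nat_lit 0) .nil))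
theorem c195 : (chk [] [] p195).n x128 s195 = true := by decide +kernel
noncomputable def p196 : Pf := (.lft (nat_lit 0x40010020008002004001003001) (nat_lit 0) (nat_lit 0x1064060044040) (nat_lit 0x4002001000800400200b) (.extn a155 (nat_lit 0x40020010008004002001) (nat_lit 0x1008020010040) (nat_lit 2) (nat_lit 0) (nat_lit 0) (nat_lit 0) (nat_lit 0x1000100010001) (.cE (nat_lit 0) b199 (nat_lit 0) (.cut (nat_lit 0)) .nil (.cE (nat_lit 16) b292 (nat_lit 0) (.cut (nat_lit 1)) .nil (.cE (nat_lit 32) (nat_lit 0x7d07c07f07e07307207107007507407707607b07a07907806d06c06f06e06306206106006506406706606b06a06906805d05c05f05e05305205105005505405705605b05a05905804d04c04f04e04304204104004504404704604b04a04904801501401701601b01a01901801d01c01f01e01301201101000500400700600b00a00900800d00c00f00e00300200100003503403703603b03a03903803d03c03f03e03303203103002502402702602b02a02902802d02c02f02e023022021020) (nat_lit 0) (.cas (nat_lit 32) (.kb (nat_lit 32) (nat_lit 0) (nat_lit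 0x1080040020010008004)) (.cas (nat_lit 36) (.kb (nat_lit 36) (nat_lit 0) (nat_lit 0x1040020010088004001)) (.cas (nat_lit 38) (.kc (nat_lit 38) (nat_lit 0x1800404100100001f004003)) (.cas (nat_lit 40) (.kc (nat_lit 40) (nat_lit 0x1c003001)) (.cas (nat_lit 52) (.kb (nat_lit 52) (nat_lit 0) (nat_lit 0x1040020010008004002)) (.cas (nat_lit 96) (.kc (nat_lit 96) (nat_lit 0x16002000006007002)) (.cas (nat_lit 102) (.kc (nat_lit 102) (nat_lit 0x1b004080080000002)) (.iso x127 ⟨[], [], [nat_lit 1, nat_lit 129, nat_lit 161, nat_lit 5, nat_lit 193, nat_lit 17, nat_lit 177], [], [], [], false, false, []⟩ (nat_lit 0) (nat_lit 0x10040100020400010080a0020) (nat_lit 0x3010001040004080020008) [] (.kT (nat_lit 4099) (nat_lit 0x10c10b10a1081011005001) (nat_lit 0x1080040020008004002) (nat_lit 0x800400e0018004002) (nat_lit 0x1002003003003005003001053003053004007003043) (nat_lit 0x10020050030050000810030810000a10030a10000b10030b10000c10000d50030910020a50020b5)))))))))) .nil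 (.cE (nat_lit 48) b293 (nat_lit 0) (.cut (nat_lit 2)) .nil .nil))))))
theorem c196 : (chk [(x118, s193), (x126, s194), (x128, s195)] [g298] p196).n x99 s196 = true := by decide +kernel
noncomputable def p197 : Pf := (.ext (nat_lit 1) (nat_lit 0) (nat_lit 0x1040030020004) (nat_lit 0x1002004008005001) (nat_lit 0x2003004008) (nat_lit 0x1009003) (nat_lit 0x100a009) (nat_lit 0xb004002001009004002001) (.dfs (nat_lit 3) (nat_lit 0x1002003004008) (nat_lit 0x1002003004009) (nat_lit 4097) (nat_lit 4097) (nat_lit 0) (nat_lit 0) (nat_lit 2) (nat_lit 1) (nat_lit 0) (nat_lit 9) (nat_lit 1) (nat_lit 0) (nat_lit 4160) (nat_lit 64) (nat_lit 0x1000009000019000029000039) (nat_lit 0x200020002000200) (.cD (nat_lit 9) (.dfs (nat_lit 9) (nat_lit 0x1004006008010) (nat_lit 0x1004006008016) (nat_lit 0x1002001) (nat_lit 0x1002001) (nat_lit 0) (nat_lit 0) (nat_lit 2) (nat_lit 1) (nat_lit 0) (nat_lit 10) (nat_lit 1) (nat_lit 0) (nat_lit 1) (nat_lit 0) (nat_lit 1) (nat_lit 0x4400440044004400)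 (.cD (nat_lit 10) (.cut (nat_lit 0)) (.cD (nat_lit 14) (.iso x99 s196 (nat_lit 0) (nat_lit 0x1040020010008004002021) (nat_lit 0x40020010008004002021) [(nat_lit 0x2001000800400e005001040040000002), (nat_lit 0x40020010008004002011003001), (nat_lit 0x8004002001005001)] (.cut (nat_lit 0))) (.cD (nat_lit 26) (.kS (nat_lit 1) (nat_lit 0x400c01002800200b001000002) (nat_lit 0x100303e) (nat_lit 0x800400200901000800401a001) (nat_lit 0x200200000400801002000200100100100b00000400c01002800201f001004)) (.cD (nat_lit 30) (.kS (nat_lit 1) (nat_lit 0x400c01002800200b001000002) (nat_lit 0x100301a) (nat_lit 0x800400200901000800401a001) (nat_lit 0x200200000400801002000200100100100b00000400c01002800201b001004)) (.cD (nat_lit 42) (.kS (nat_lit 1) (nat_lit 0x400c01002800200b001000002) (nat_lit 0x100300e) (nat_lit 0x800400200901000800401a001) (nat_lit 0x200200000400801002000200100100100b00000400c01002800200f001004)) (.cD (nat_lit 46) (.kS (nat_lit 1) (nat_lit 0x400c01002800200b001000002)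 (nat_lit 0x100302a) (nat_lit 0x800400200901000800401a001) (nat_lit 0x200200000400801002000200100100100b00000400c01002800200b001004)) (.cD (nat_lit 58) (.iso x99 s196 (nat_lit 0) (nat_lit 0x1040020010008004002031) (nat_lit 0x40020010008004002031) [(nat_lit 0x20010008004012011001001), (nat_lit 0x40020010008004002031003001), (nat_lit 0x8004002001005001)] (.cut (nat_lit 0))) (.cD (nat_lit 62) (.iso x99 s196 (nat_lit 0) (nat_lit 0x1040020010008004002011) (nat_lit 0x40020010008004002011) [(nat_lit 0x2001000800401e015001040040000002), (nat_lit 0x40020010008004002021003001), (nat_lit 0x8004002001005001)] (.cut (nat_lit 0))) .nil))))))))) (.cD (nat_lit 25) (.dfs (nat_lit 9) (nat_lit 0x1004006008010) (nat_lit 0x1004006008016) (nat_lit 0x1002001) (nat_lit 0x1002001) (nat_lit 0) (nat_lit 0) (nat_lit 2) (nat_lit 1) (nat_lit 0) (nat_lit 10) (nat_lit 1) (nat_lit 0) (nat_lit 1) (nat_lit 0) (nat_lit 1) (nat_lit 0x4400440044004400) (.cD (nat_lit 10) (.kS (nat_lit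 1) (nat_lit 0x400c01002800200b001000002) (nat_lit 0x101703e) (nat_lit 0x800400200901000800401a001) (nat_lit 0x200200000400801002000200100100100b00000400c01002801e01f001004)) (.cD (nat_lit 14) (.kS (nat_lit 1) (nat_lit 0x400c01002800200b001000002) (nat_lit 0x101701a) (nat_lit 0x800400200901000800401a001) (nat_lit 0x200200000400801002000200100100100b00000400c01002801e01b001004)) (.cD (nat_lit 26) (.kS (nat_lit 1) (nat_lit 0x400c01002800200b001000002) (nat_lit 0x101700a) (nat_lit 0x800400200901000800401a001) (nat_lit 0x200200000400801002000200100100100b00000400c01002801e003001004)) (.cD (nat_lit 30) (.kS (nat_lit 1) (nat_lit 0x400c01002800200b001000002) (nat_lit 0x101702e) (nat_lit 0x800400200901000800401a001) (nat_lit 0x200200000400801002000200100100100b00000400c01002801e007001004)) (.cD (nat_lit 42) (.kS (nat_lit 1) (nat_lit 0x400c01002800200b001000002) (nat_lit 0x101703a) (nat_lit 0x800400200901000800401a001) (nat_lit 0x200200000400801002000200100100100b00000400c01002801e013001004))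 (.cD (nat_lit 46) (.kS (nat_lit 1) (nat_lit 0x400c01002800200b001000002) (nat_lit 0x101701e) (nat_lit 0x800400200901000800401a001) (nat_lit 0x200200000400801002000200100100100b00000400c01002801e017001004)) (.cD (nat_lit 58) (.kS (nat_lit 1) (nat_lit 0x400c01002800200b001000002) (nat_lit 0x101700e) (nat_lit 0x800400200901000800401a001) (nat_lit 0x200200000400801002000200100100100b00000400c01002801e00f001004)) (.cD (nat_lit 62) (.kS (nat_lit 1) (nat_lit 0x400c01002800200b001000002) (nat_lit 0x101702a) (nat_lit 0x800400200901000800401a001) (nat_lit 0x200200000400801002000200100100100b00000400c01002801e00b001004)) .nil))))))))) (.cD (nat_lit 41) (.dfs (nat_lit 9) (nat_lit 0x1004006008010) (nat_lit 0x1004006008016) (nat_lit 0x1002001) (nat_lit 0x1002001) (nat_lit 0) (nat_lit 0) (nat_lit 2) (nat_lit 1) (nat_lit 0) (nat_lit 10) (nat_lit 1) (nat_lit 0) (nat_lit 1) (nat_lit 0) (nat_lit 1) (nat_lit 0x4400440044004400) (.cD (nat_lit 10) (.kS (nat_lit 1) (nat_lit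 0x400c01002800200b001000002) (nat_lit 0x102700e) (nat_lit 0x800400200901000800401a001) (nat_lit 0x200200000400801002000200100100100b00000400c01002800e00f001004)) (.cD (nat_lit 14) (.kS (nat_lit 1) (nat_lit 0x400c01002800200b001000002) (nat_lit 0x102702a) (nat_lit 0x800400200901000800401a001) (nat_lit 0x200200000400801002000200100100100b00000400c01002800e00b001004)) (.cD (nat_lit 26) (.kS (nat_lit 1) (nat_lit 0x800c010020002001) (nat_lit 4154) (nat_lit 0x8004002009) (nat_lit 0xc00401002000900100400801002000200100800c010020013001003)) (.cD (nat_lit 30) (.kS (nat_lit 1) (nat_lit 0x800c010020002001) (nat_lit 4126) (nat_lit 0x8004002009) (nat_lit 0xc00401002000900100400801002000200100800c010020017001003)) (.cD (nat_lit 42) (.kS (nat_lit 1) (nat_lit 0x800c010020002001) (nat_lit 4106) (nat_lit 0x8004002009) (nat_lit 0xc00401002000900100400801002000200100800c010020003001003)) (.cD (nat_lit 46) (.kS (nat_lit 1) (nat_lit 0x800c010020002001) (nat_lit 4142)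 (nat_lit 0x8004002009) (nat_lit 0xc00401002000900100400801002000200100800c010020007001003)) (.cD (nat_lit 58) (.kS (nat_lit 1) (nat_lit 0x400c01002800200b001000002) (nat_lit 0x102703e) (nat_lit 0x800400200901000800401a001) (nat_lit 0x200200000400801002000200100100100b00000400c01002800e01f001004)) (.cD (nat_lit 62) (.kS (nat_lit 1) (nat_lit 0x400c01002800200b001000002) (nat_lit 0x102701a) (nat_lit 0x800400200901000800401a001) (nat_lit 0x200200000400801002000200100100100b00000400c01002800e01b001004)) .nil))))))))) (.cD (nat_lit 57) (.dfs (nat_lit 9) (nat_lit 0x1004006008010) (nat_lit 0x1004006008016) (nat_lit 0x1002001) (nat_lit 0x1002001) (nat_lit 0) (nat_lit 0) (nat_lit 2) (nat_lit 1) (nat_lit 0) (nat_lit 10) (nat_lit 1) (nat_lit 0) (nat_lit 1) (nat_lit 0) (nat_lit 1) (nat_lit 0x4400440044004400) (.cD (nat_lit 10) (.kS (nat_lit 1) (nat_lit 0x400c01002800200b001000002) (nat_lit 0x103303a) (nat_lit 0x800400200901000800401a001) (nat_lit 0x200200000400801002000200100100100b00000400c010028012013001004))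 (.cD (nat_lit 14) (.kS (nat_lit 1) (nat_lit 0x400c01002800200b001000002) (nat_lit 0x103301e) (nat_lit 0x800400200901000800401a001) (nat_lit 0x200200000400801002000200100100100b00000400c010028012017001004)) (.cD (nat_lit 26) (.kS (nat_lit 1) (nat_lit 0x400c01002800200b001000002) (nat_lit 0x103300e) (nat_lit 0x800400200901000800401a001) (nat_lit 0x200200000400801002000200100100100b00000400c01002801200f001004)) (.cD (nat_lit 30) (.kS (nat_lit 1) (nat_lit 0x400c01002800200b001000002) (nat_lit 0x103302a) (nat_lit 0x800400200901000800401a001) (nat_lit 0x200200000400801002000200100100100b00000400c01002801200b001004)) (.cD (nat_lit 42) (.kS (nat_lit 1) (nat_lit 0x400c01002800200b001000002) (nat_lit 0x103303e) (nat_lit 0x800400200901000800401a001) (nat_lit 0x200200000400801002000200100100100b00000400c01002801201f001004)) (.cD (nat_lit 46) (.kS (nat_lit 1) (nat_lit 0x400c01002800200b001000002) (nat_lit 0x103301a) (nat_lit 0x800400200901000800401a001) (nat_lit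 0x200200000400801002000200100100100b00000400c01002801201b001004)) (.cD (nat_lit 58) (.kS (nat_lit 1) (nat_lit 0x400c01002800200b001000002) (nat_lit 0x103300a) (nat_lit 0x800400200901000800401a001) (nat_lit 0x200200000400801002000200100100100b00000400c010028012003001004)) (.cD (nat_lit 62) (.kS (nat_lit 1) (nat_lit 0x400c01002800200b001000002) (nat_lit 0x103302e) (nat_lit 0x800400200901000800401a001) (nat_lit 0x200200000400801002000200100100100b00000400c010028012007001004)) .nil))))))))) .nil))))))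
theorem c197 : (chk [(x99, s196)] [g198] p197).n x99 s197 = true := by decide +kernel
noncomputable def p198 : Pf := (.ext (nat_lit 0) (nat_lit 0) (nat_lit 0x1040010020008002004) (nat_lit 0x20010008004002001001001) (nat_lit 0x400801002c) (nat_lit 4097) (nat_lit 4097) (nat_lit 0x21010008002004009) (.dfs (nat_lit 1) (nat_lit 0x100400801002c) (nat_lit 0x1002008010023) (nat_lit 0x1020002001) (nat_lit 0x1021004009) (nat_lit 6) (nat_lit 0) (nat_lit 2) (nat_lit 0) (nat_lit 0) (nat_lit 1) (nat_lit 1) (nat_lit 0) (nat_lit 1) (nat_lit 0) (nat_lit 1) (nat_lit 0x2000200020002) (.cD (nat_lit 1) (.cut (nat_lit 3)) (.cD (nat_lit 17) (.cut (nat_lit 2)) (.cD (nat_lit 33) (.cut (nat_lit 1)) (.cD (nat_lit 49) (.cut (nat_lit 0)) .nil))))))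
theorem c198 : (chk [(x99, s178), (x99, s184), (x99, s190), (x99, s197)] [] p198).n x99 s198 = true := by decide +kernel
noncomputable def p199 : Pf := (.lft (nat_lit 0x20008018001004002001001) (nat_lit 5) (nat_lit 0x1030020) (nat_lit 0x20010008004002001) (.extn a154 (nat_lit 0x20010008004002001) (nat_lit 0x1004010008020) (nat_lit 2) (nat_lit 0) (nat_lit 0) (nat_lit 1) (nat_lit 0x20202020) (.cE (nat_lit 5) b198 t198 (.cut (nat_lit 0)) .nil (.cE (nat_lit 13) b397 (nat_lit 0) (.cut (nat_lit 1)) .nil (.cE (nat_lit 21) b398 (nat_lit 0) (.cut (nat_lit 2)) .nil (.cE (nat_lit 29) b399 (nat_lit 0) (.cut (nat_lit 3)) .nil .nil))))))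
theorem c199 : (chk [(x99, s198), (x91, s156), (x98, s169), (x97, s168)] [] p199).n x84 s199 = true := by decide +kernel
noncomputable def p200 : Pf := (.ext (nat_lit 1) (nat_lit 0) (nat_lit 0x1020018010002) (nat_lit 0x500200c008005001001000001002004008005003) (nat_lit 0x300200400b) (nat_lit 0x1004001) (nat_lit 0x1001004) (nat_lit 0x800400200300a004002003) (.dfs (nat_lit 1) (nat_lit 0x100300200400b) (nat_lit 0x100100200400b) (nat_lit 0x1008001) (nat_lit 0x100a003) (nat_lit 0) (nat_lit 0) (nat_lit 2) (nat_lit 1) (nat_lit 0) (nat_lit 4) (nat_lit 1) (nat_lit 0) (nat_lit 4098) (nat_lit 2) (nat_lit 0x100000400000c00002400002c) (nat_lit 0x101000001010) (.cD (nat_lit 4) (.dfs (nat_lit 4) (nat_lit 0x100100400c016) (nat_lit 0x100100400c012) (nat_lit 0x1010008002) (nat_lit 0x1010008006) (nat_lit 0) (nat_lit 0) (nat_lit 2) (nat_lit 0) (nat_lit 0) (nat_lit 1) (nat_lit 1) (nat_lit 0) (nat_lit 4128) (nat_lit 32) (nat_lit 0x1000001000009) (nat_lit 514) (.cD (nat_lit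 1) (.cut (nat_lit 1)) (.cD (nat_lit 9) (.kA false (nat_lit 0x1a00801802c001001008018028001001001000003)) .nil))) (.cD (nat_lit 12) (.dfs (nat_lit 4) (nat_lit 0x100d00400c016) (nat_lit 0x100d00400c012) (nat_lit 0x1010008002001) (nat_lit 0x1010008006001) (nat_lit 0) (nat_lit 0) (nat_lit 2) (nat_lit 0) (nat_lit 0) (nat_lit 1) (nat_lit 1) (nat_lit 0) (nat_lit 4128) (nat_lit 32) (nat_lit 0x1000001000009) (nat_lit 514) (.cD (nat_lit 1) (.kA false (nat_lit 0x200801802c001001008018028001001001000003)) (.cD (nat_lit 9) (.cut (nat_lit 0)) .nil))) (.cD (nat_lit 36) (.kc (nat_lit 32) (nat_lit 0x4006017001021003010001004)) (.cD (nat_lit 44) (.kb (nat_lit 24) (nat_lit 0x10002021004017002006005004) (nat_lit 0x1020010008004002001)) .nil))))))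
theorem c200 : (chk [(x84, s170), (x84, s199)] [] p200).n x84 s200 = true := by decide +kernel
noncomputable def p201 : Pf := (.ext (nat_lit 0) (nat_lit 0) (nat_lit 0x1020008010004) (nat_lit 0xd002004008002001001000001002004008001003) (nat_lit 0x100200400b) (nat_lit 0x1002001) (nat_lit 0x1003001) (nat_lit 0x800400200300a004002001) (.dfs (nat_lit 1) (nat_lit 0x100100200400b) (nat_lit 0x1001002004009) (nat_lit 4104) (nat_lit 4106) (nat_lit 0) (nat_lit 0) (nat_lit 2) (nat_lit 0) (nat_lit 0) (nat_lit 1) (nat_lit 1) (nat_lit 0) (nat_lit 4128) (nat_lit 32) (nat_lit 0x100000100000500000900000d) (nat_lit 8738) (.cD (nat_lit 1) (.dfs (nat_lit 2) (nat_lit 0x1002004008016) (nat_lit 0x1006004008012) (nat_lit 0x1010001) (nat_lit 0x1010005) (nat_lit 0) (nat_lit 0) (nat_lit 2) (nat_lit 0) (nat_lit 0) (nat_lit 3) (nat_lit 1) (nat_lit 0) (nat_lit 4100) (nat_lit 4) (nat_lit 0x100000700000f) (nat_lit 32896) (.cD (nat_lit 7) (.cut (nat_lit 1)) (.cD (nat_lit 15) (.iso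 x84 s200 (nat_lit 0) (nat_lit 0x1020010008004002009) (nat_lit 0x20010008004002009) [(nat_lit 0x20010008004012001001001), (nat_lit 0x8004002001003001), (nat_lit 0x8004002001005001)] (.cut (nat_lit 1))) .nil))) (.cD (nat_lit 5) (.dfs (nat_lit 2) (nat_lit 0x1002004008016) (nat_lit 0x1006004008012) (nat_lit 0x1010001) (nat_lit 0x1010005) (nat_lit 0) (nat_lit 0) (nat_lit 2) (nat_lit 0) (nat_lit 0) (nat_lit 3) (nat_lit 1) (nat_lit 0) (nat_lit 4100) (nat_lit 4) (nat_lit 0x100002300002b) (nat_lit 0x80800000000) (.cD (nat_lit 35) (.cut (nat_lit 0)) (.cD (nat_lit 43) (.iso x84 s155 (nat_lit 0) (nat_lit 0x1020010008004002009) (nat_lit 0x20010008004002009) [(nat_lit 0x20010008004012001001001), (nat_lit 0x8004002001003001), (nat_lit 0x8004002001005001)] (.cut (nat_lit 0))) .nil))) (.cD (nat_lit 9) (.dfs (nat_lit 2) (nat_lit 0x1002004008016) (nat_lit 0x1006004008012) (nat_lit 0x1010001) (nat_lit 0x1010005) (nat_lit 0) (nat_lit 0) (nat_lit 2) (nat_lit 0) (nat_lit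 0) (nat_lit 3) (nat_lit 1) (nat_lit 0) (nat_lit 4100) (nat_lit 4) (nat_lit 0x100000700000f) (nat_lit 32896) (.cD (nat_lit 7) (.kA true (nat_lit 0xf00801802c001001008018020001002)) (.cD (nat_lit 15) (.kA true (nat_lit 0x1f00801802c001001008018020001002)) .nil))) (.cD (nat_lit 13) (.dfs (nat_lit 2) (nat_lit 0x1002004008016) (nat_lit 0x1006004008012) (nat_lit 0x1010001) (nat_lit 0x1010005) (nat_lit 0) (nat_lit 0) (nat_lit 2) (nat_lit 0) (nat_lit 0) (nat_lit 3) (nat_lit 1) (nat_lit 0) (nat_lit 4100) (nat_lit 4) (nat_lit 0x100002300002b) (nat_lit 0x80800000000) (.cD (nat_lit 35) (.kA true (nat_lit 0x2b00801802c001001008018020001002)) (.cD (nat_lit 43) (.kA true (nat_lit 0x3b00801802c001001008018020001002)) .nil))) .nil))))))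
theorem c201 : (chk [(x84, s155), (x84, s200)] [g197] p201).n x84 s201 = true := by decide +kernel
noncomputable def p202 : Pf := (.anc (nat_lit 34) (nat_lit 0x9001000005004002) (nat_lit 0x1001010008002) (.dfs (nat_lit 2) (nat_lit 1) (nat_lit 1) (nat_lit 4097) (nat_lit 4097) (nat_lit 0) (nat_lit 0) (nat_lit 0) (nat_lit 0) (nat_lit 0) (nat_lit 0) (nat_lit 1) (nat_lit 0) (nat_lit 0x1004002) (nat_lit 16386) (nat_lit 0x100100200000400100a00000c00102200002400102a00002c) (nat_lit 0x101151501011514) (.cD (nat_lit 2) (.dfs (nat_lit 8) (nat_lit 1) (nat_lit 1) (nat_lit 0x1002001) (nat_lit 0x1002001) (nat_lit 0) (nat_lit 0) (nat_lit 0) (nat_lit 0) (nat_lit 0) (nat_lit 0) (nat_lit 1) (nat_lit 0) (nat_lit 1) (nat_lit 0) (nat_lit 1) (nat_lit 0x505050505050504) (.cD (nat_lit 2) (.kc (nat_lit 10) (nat_lit 0x3001001)) (.cD (nat_lit 8) (.dfs (nat_lit 16) (nat_lit 1) (nat_lit 1) (nat_lit 0x1004002001) (nat_lit 0x1004002001) (nat_lit 0) (nat_lit 0) (nat_lit 0) (nat_lit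 0) (nat_lit 0) (nat_lit 0) (nat_lit 1) (nat_lit 0) (nat_lit 1) (nat_lit 0) (nat_lit 1) (nat_lit 0x505050505050504) (.cD (nat_lit 2) (.kc (nat_lit 18) (nat_lit 0x5001001)) (.cD (nat_lit 8) (.kc (nat_lit 24) (nat_lit 0x3001001)) (.cD (nat_lit 10) (.kc (nat_lit 26) (nat_lit 0x7001001)) (.cD (nat_lit 16) (.dfs (nat_lit 1) (nat_lit 0x1004001003008) (nat_lit 0x1005001003008) (nat_lit 4098) (nat_lit 4098) (nat_lit 2) (nat_lit 0) (nat_lit 2) (nat_lit 1) (nat_lit 0) (nat_lit 4) (nat_lit 1) (nat_lit 0) (nat_lit 1) (nat_lit 0) (nat_lit 1) (nat_lit 0) .nil) (.cD (nat_lit 18) (.kA true (nat_lit 0x900100000500100300d001009001000003)) (.cD (nat_lit 24) (.kA true (nat_lit 0x100400300800100c004002005005009001000003)) (.cD (nat_lit 26) (.kA true (nat_lit 0x100400300800100c004002005005009001000003)) (.cD (nat_lit 32) (.kc (nat_lit 50) (nat_lit 0x9001001)) (.cD (nat_lit 34) (.kc (nat_lit 48) (nat_lit 0xd001001)) (.cD (nat_lit 40) (.kc (nat_lit 58) (nat_lit 0xb001001))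 (.cD (nat_lit 42) (.kc (nat_lit 56) (nat_lit 0xf001001)) (.cD (nat_lit 48) (.kc (nat_lit 32) (nat_lit 0x1002009001000002)) (.cD (nat_lit 50) (.kc (nat_lit 32) (nat_lit 0xd001009001000002)) (.cD (nat_lit 56) (.kb (nat_lit 24) (nat_lit 0x1009000003001002) (nat_lit 0x1020010008004002001)) (.cD (nat_lit 58) (.kb (nat_lit 24) (nat_lit 0x100900000d002002) (nat_lit 0x1020010008004002001)) .nil)))))))))))))))) (.cD (nat_lit 10) (.dfs (nat_lit 16) (nat_lit 1) (nat_lit 1) (nat_lit 0x1004002001) (nat_lit 0x1004002001) (nat_lit 0) (nat_lit 0) (nat_lit 0) (nat_lit 0) (nat_lit 0) (nat_lit 0) (nat_lit 1) (nat_lit 0) (nat_lit 1) (nat_lit 0) (nat_lit 1) (nat_lit 0x505050505050504) (.cD (nat_lit 2) (.kc (nat_lit 18) (nat_lit 0x5001001)) (.cD (nat_lit 8) (.kc (nat_lit 26) (nat_lit 0x7001001)) (.cD (nat_lit 10) (.kc (nat_lit 24) (nat_lit 0x3001001)) (.cD (nat_lit 16) (.kA true (nat_lit 0x100400300800100c004002005005009001000003)) (.cD (nat_lit 18) (.dfs (nat_lit 1)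 (nat_lit 4102) (nat_lit 4103) (nat_lit 1) (nat_lit 1) (nat_lit 2) (nat_lit 0) (nat_lit 1) (nat_lit 4104) (nat_lit 0x20010008004002009) (nat_lit 0) (nat_lit 1) (nat_lit 0) (nat_lit 1) (nat_lit 0) (nat_lit 1) (nat_lit 0) .nil) (.cD (nat_lit 24) (.kA true (nat_lit 0x400300500800100400100300c001002)) (.cD (nat_lit 26) (.kA true (nat_lit 0x400700100800100400100300c001002)) (.cD (nat_lit 32) (.kc (nat_lit 50) (nat_lit 0x9001001)) (.cD (nat_lit 34) (.kc (nat_lit 48) (nat_lit 0xd001001)) (.cD (nat_lit 40) (.kc (nat_lit 56) (nat_lit 0xf001001)) (.cD (nat_lit 42) (.kc (nat_lit 58) (nat_lit 0xb001001)) (.cD (nat_lit 48) (.kc (nat_lit 32) (nat_lit 0x1002009001000002)) (.cD (nat_lit 50) (.kc (nat_lit 32) (nat_lit 0xd001009001000002)) (.cD (nat_lit 56) (.kb (nat_lit 8) (nat_lit 0x100900000d002006005003) (nat_lit 0x1020010008004002001)) (.cD (nat_lit 58) (.kb (nat_lit 24) (nat_lit 0x100900000d002002) (nat_lit 0x1020010008004002001)) .nil)))))))))))))))) (.cD (nat_lit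 16) (.kF (nat_lit 2) (nat_lit 0x3006002009001000002006001003)) (.cD (nat_lit 18) (.kF (nat_lit 2) (nat_lit 0x1006002009001000002006001003)) (.cD (nat_lit 24) (.dfs (nat_lit 16) (nat_lit 1) (nat_lit 1) (nat_lit 0x1004002001) (nat_lit 0x1004002001) (nat_lit 0) (nat_lit 0) (nat_lit 0) (nat_lit 0) (nat_lit 0) (nat_lit 0) (nat_lit 1) (nat_lit 0) (nat_lit 1) (nat_lit 0) (nat_lit 1) (nat_lit 0x505050505050504) (.cD (nat_lit 2) (.kc (nat_lit 18) (nat_lit 0x5001001)) (.cD (nat_lit 8) (.kA true (nat_lit 0x400200100800100400100300c001002)) (.cD (nat_lit 10) (.kA true (nat_lit 0x400600500800100400100300c001002)) (.cD (nat_lit 16) (.kA true (nat_lit 0x100400300800100c004002005005009001000003)) (.cD (nat_lit 18) (.kA true (nat_lit 0x400500600800100400100300c001002)) (.cD (nat_lit 24) (.kc (nat_lit 24) (nat_lit 0x3001001)) (.cD (nat_lit 26) (.kc (nat_lit 26) (nat_lit 0x7001001)) (.cD (nat_lit 32) (.kc (nat_lit 50) (nat_lit 0x9001001)) (.cD (nat_lit 34) (.kc (nat_lit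 48) (nat_lit 0xd001001)) (.cD (nat_lit 40) (.kb (nat_lit 24) (nat_lit 0x1009000003001002) (nat_lit 0x1020010008004002001)) (.cD (nat_lit 42) (.kb (nat_lit 8) (nat_lit 0x100900000d002002) (nat_lit 0x1020010008004002001)) (.cD (nat_lit 48) (.kc (nat_lit 32) (nat_lit 0x1002009001000002)) (.cD (nat_lit 50) (.kc (nat_lit 32) (nat_lit 0xd001009001000002)) (.cD (nat_lit 56) (.kc (nat_lit 58) (nat_lit 0xb001001)) (.cD (nat_lit 58) (.kc (nat_lit 56) (nat_lit 0xf001001)) .nil)))))))))))))))) (.cD (nat_lit 26) (.dfs (nat_lit 16) (nat_lit 1) (nat_lit 1) (nat_lit 0x1004002001) (nat_lit 0x1004002001) (nat_lit 0) (nat_lit 0) (nat_lit 0) (nat_lit 0) (nat_lit 0) (nat_lit 0) (nat_lit 1) (nat_lit 0) (nat_lit 1) (nat_lit 0) (nat_lit 1) (nat_lit 0x505050505050504) (.cD (nat_lit 2) (.kc (nat_lit 18) (nat_lit 0x5001001)) (.cD (nat_lit 8) (.kA true (nat_lit 0x400200500800100400100300c001002)) (.cD (nat_lit 10) (.kA true (nat_lit 0x400600100800100400100300c001002)) (.cD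 (nat_lit 16) (.kA true (nat_lit 0x100400300800100c004002005005009001000003)) (.cD (nat_lit 18) (.kA true (nat_lit 0x400500200800100400100300c001002)) (.cD (nat_lit 24) (.kc (nat_lit 26) (nat_lit 0x7001001)) (.cD (nat_lit 26) (.kc (nat_lit 24) (nat_lit 0x3001001)) (.cD (nat_lit 32) (.kc (nat_lit 50) (nat_lit 0x9001001)) (.cD (nat_lit 34) (.kc (nat_lit 48) (nat_lit 0xd001001)) (.cD (nat_lit 40) (.kb (nat_lit 24) (nat_lit 0x100900000d002006002003) (nat_lit 0x1020010008004002001)) (.cD (nat_lit 42) (.kb (nat_lit 8) (nat_lit 0x100900000d002002) (nat_lit 0x1020010008004002001)) (.cD (nat_lit 48) (.kc (nat_lit 32) (nat_lit 0x1002009001000002)) (.cD (nat_lit 50) (.kc (nat_lit 32) (nat_lit 0xd001009001000002)) (.cD (nat_lit 56) (.kc (nat_lit 56) (nat_lit 0xf001001)) (.cD (nat_lit 58) (.kc (nat_lit 58) (nat_lit 0xb001001)) .nil)))))))))))))))) (.cD (nat_lit 32) (.kc (nat_lit 42) (nat_lit 0x5001001)) (.cD (nat_lit 34) (.kc (nat_lit 40) (nat_lit 0x7001001))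 (.cD (nat_lit 40) (.kF (nat_lit 8) (nat_lit 0x900100000f005006001006001003)) (.cD (nat_lit 42) (.kF (nat_lit 8) (nat_lit 0x900100000b005006001006001003)) (.cD (nat_lit 48) (.kb (nat_lit 8) (nat_lit 0x1009000001001002) (nat_lit 0x1020010008004002001)) (.cD (nat_lit 50) (.kb (nat_lit 8) (nat_lit 0x100900000300100e006003) (nat_lit 0x1020010008004002001)) (.cD (nat_lit 56) (.kF (nat_lit 8) (nat_lit 0x9001000003005006001006001003)) (.cD (nat_lit 58) (.kF (nat_lit 8) (nat_lit 0x9001000007005006001006001003)) .nil)))))))))))))))) (.cD (nat_lit 4) (.dfs (nat_lit 8) (nat_lit 1) (nat_lit 1) (nat_lit 0x1002001) (nat_lit 0x1002001) (nat_lit 0) (nat_lit 0) (nat_lit 0) (nat_lit 0) (nat_lit 0) (nat_lit 0) (nat_lit 1) (nat_lit 0) (nat_lit 1) (nat_lit 0) (nat_lit 1) (nat_lit 0x1111111111111110) (.cD (nat_lit 4) (.kc (nat_lit 10) (nat_lit 0x3001001)) (.cD (nat_lit 8) (.dfs (nat_lit 16) (nat_lit 1) (nat_lit 1) (nat_lit 0x1004002001) (nat_lit 0x1004002001) (nat_lit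 0) (nat_lit 0) (nat_lit 0) (nat_lit 0) (nat_lit 0) (nat_lit 0) (nat_lit 1) (nat_lit 0) (nat_lit 1) (nat_lit 0) (nat_lit 1) (nat_lit 0x1111111111111110) (.cD (nat_lit 4) (.kc (nat_lit 18) (nat_lit 0x5001001)) (.cD (nat_lit 8) (.kc (nat_lit 24) (nat_lit 0x3001001)) (.cD (nat_lit 12) (.kc (nat_lit 26) (nat_lit 0x7001001)) (.cD (nat_lit 16) (.kA false (nat_lit 0x500400200c002008004002005003009001000003)) (.cD (nat_lit 20) (.kA false (nat_lit 0x900100000400500200d002009001000003)) (.cD (nat_lit 24) (.kA false (nat_lit 0x700400200c002008004002005003009001000003)) (.cD (nat_lit 28) (.kA false (nat_lit 0x300400200c002008004002005003009001000003)) (.cD (nat_lit 32) (.kc (nat_lit 50) (nat_lit 0x9001001)) (.cD (nat_lit 36) (.kc (nat_lit 48) (nat_lit 0xd001001)) (.cD (nat_lit 40) (.kc (nat_lit 58) (nat_lit 0xb001001)) (.cD (nat_lit 44) (.kc (nat_lit 56) (nat_lit 0xf001001)) (.cD (nat_lit 48) (.kc (nat_lit 32) (nat_lit 0x1002009001000002)) (.cD (nat_lit 52) (.kc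 (nat_lit 32) (nat_lit 0xd001009001000002)) (.cD (nat_lit 56) (.kb (nat_lit 24) (nat_lit 0x1009000003001002) (nat_lit 0x1020010008004002001)) (.cD (nat_lit 60) (.kb (nat_lit 24) (nat_lit 0x100900000d002002) (nat_lit 0x1020010008004002001)) .nil)))))))))))))))) (.cD (nat_lit 12) (.dfs (nat_lit 16) (nat_lit 1) (nat_lit 1) (nat_lit 0x1004002001) (nat_lit 0x1004002001) (nat_lit 0) (nat_lit 0) (nat_lit 0) (nat_lit 0) (nat_lit 0) (nat_lit 0) (nat_lit 1) (nat_lit 0) (nat_lit 1) (nat_lit 0) (nat_lit 1) (nat_lit 0x1111111111111110) (.cD (nat_lit 4) (.kc (nat_lit 18) (nat_lit 0x5001001)) (.cD (nat_lit 8) (.kc (nat_lit 26) (nat_lit 0x7001001)) (.cD (nat_lit 12) (.kc (nat_lit 24) (nat_lit 0x3001001)) (.cD (nat_lit 16) (.kA false (nat_lit 0x500400600c002008004002005003009001000003)) (.cD (nat_lit 20) (.kA false (nat_lit 0x900100000400500600d002009001000003)) (.cD (nat_lit 24) (.kA false (nat_lit 0x300400600c002008004002005003009001000003)) (.cD (nat_lit 28) (.kA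 false (nat_lit 0x700400600c002008004002005003009001000003)) (.cD (nat_lit 32) (.kc (nat_lit 50) (nat_lit 0x9001001)) (.cD (nat_lit 36) (.kc (nat_lit 48) (nat_lit 0xd001001)) (.cD (nat_lit 40) (.kc (nat_lit 56) (nat_lit 0xf001001)) (.cD (nat_lit 44) (.kc (nat_lit 58) (nat_lit 0xb001001)) (.cD (nat_lit 48) (.kc (nat_lit 32) (nat_lit 0x1002009001000002)) (.cD (nat_lit 52) (.kc (nat_lit 32) (nat_lit 0xd001009001000002)) (.cD (nat_lit 56) (.kb (nat_lit 24) (nat_lit 0x100900000d00200e004003) (nat_lit 0x1020010008004002001)) (.cD (nat_lit 60) (.kb (nat_lit 24) (nat_lit 0x100900000d002002) (nat_lit 0x1020010008004002001)) .nil)))))))))))))))) (.cD (nat_lit 16) (.kF (nat_lit 8) (nat_lit 0x900100000c005004001006001003)) (.cD (nat_lit 20) (.kF (nat_lit 8) (nat_lit 0x9001000008005004001006001003)) (.cD (nat_lit 24) (.dfs (nat_lit 16) (nat_lit 1) (nat_lit 1) (nat_lit 0x1004002001) (nat_lit 0x1004002001) (nat_lit 0) (nat_lit 0) (nat_lit 0) (nat_lit 0) (nat_lit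 0) (nat_lit 0) (nat_lit 1) (nat_lit 0) (nat_lit 1) (nat_lit 0) (nat_lit 1) (nat_lit 0x1111111111111110) (.cD (nat_lit 4) (.kc (nat_lit 18) (nat_lit 0x5001001)) (.cD (nat_lit 8) (.kA false (nat_lit 0x700400100c002008004002005003009001000003)) (.cD (nat_lit 12) (.kA false (nat_lit 0x300400500c002008004002005003009001000003)) (.cD (nat_lit 16) (.kA false (nat_lit 0x500400300c002008004002005003009001000003)) (.cD (nat_lit 20) (.kA false (nat_lit 0x900100000400500700d002009001000003)) (.cD (nat_lit 24) (.kc (nat_lit 24) (nat_lit 0x3001001)) (.cD (nat_lit 28) (.kc (nat_lit 26) (nat_lit 0x7001001)) (.cD (nat_lit 32) (.kc (nat_lit 50) (nat_lit 0x9001001)) (.cD (nat_lit 36) (.kc (nat_lit 48) (nat_lit 0xd001001)) (.cD (nat_lit 40) (.kb (nat_lit 24) (nat_lit 0x1009000003001002) (nat_lit 0x1020010008004002001)) (.cD (nat_lit 44) (.kb (nat_lit 8) (nat_lit 0x100900000d002002) (nat_lit 0x1020010008004002001)) (.cD (nat_lit 48) (.kc (nat_lit 32) (nat_lit 0x1002009001000002))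 (.cD (nat_lit 52) (.kc (nat_lit 32) (nat_lit 0xd001009001000002)) (.cD (nat_lit 56) (.kc (nat_lit 58) (nat_lit 0xb001001)) (.cD (nat_lit 60) (.kc (nat_lit 56) (nat_lit 0xf001001)) .nil)))))))))))))))) (.cD (nat_lit 28) (.dfs (nat_lit 16) (nat_lit 1) (nat_lit 1) (nat_lit 0x1004002001) (nat_lit 0x1004002001) (nat_lit 0) (nat_lit 0) (nat_lit 0) (nat_lit 0) (nat_lit 0) (nat_lit 0) (nat_lit 1) (nat_lit 0) (nat_lit 1) (nat_lit 0) (nat_lit 1) (nat_lit 0x1111111111111110) (.cD (nat_lit 4) (.kc (nat_lit 18) (nat_lit 0x5001001)) (.cD (nat_lit 8) (.kA false (nat_lit 0x300400100c002008004002005003009001000003)) (.cD (nat_lit 12) (.kA false (nat_lit 0x700400500c002008004002005003009001000003)) (.cD (nat_lit 16) (.kA false (nat_lit 0x500400700c002008004002005003009001000003)) (.cD (nat_lit 20) (.kA false (nat_lit 0x900100000400500300d002009001000003)) (.cD (nat_lit 24) (.kc (nat_lit 26) (nat_lit 0x7001001)) (.cD (nat_lit 28) (.kc (nat_lit 24) (nat_lit 0x3001001))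 (.cD (nat_lit 32) (.kc (nat_lit 50) (nat_lit 0x9001001)) (.cD (nat_lit 36) (.kc (nat_lit 48) (nat_lit 0xd001001)) (.cD (nat_lit 40) (.kb (nat_lit 24) (nat_lit 0x100900000d002006003003) (nat_lit 0x1020010008004002001)) (.cD (nat_lit 44) (.kb (nat_lit 8) (nat_lit 0x100900000d002002) (nat_lit 0x1020010008004002001)) (.cD (nat_lit 48) (.kc (nat_lit 32) (nat_lit 0x1002009001000002)) (.cD (nat_lit 52) (.kc (nat_lit 32) (nat_lit 0xd001009001000002)) (.cD (nat_lit 56) (.kc (nat_lit 56) (nat_lit 0xf001001)) (.cD (nat_lit 60) (.kc (nat_lit 58) (nat_lit 0xb001001)) .nil)))))))))))))))) (.cD (nat_lit 32) (.kc (nat_lit 42) (nat_lit 0x5001001)) (.cD (nat_lit 36) (.kc (nat_lit 40) (nat_lit 0x7001001)) (.cD (nat_lit 40) (.kF (nat_lit 8) (nat_lit 0x9001000003005004001006001003)) (.cD (nat_lit 44) (.kF (nat_lit 8) (nat_lit 0x9001000007005004001006001003)) (.cD (nat_lit 48) (.kb (nat_lit 8) (nat_lit 0x1009000001001002) (nat_lit 0x1020010008004002001)) (.cD (nat_lit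 52) (.kb (nat_lit 8) (nat_lit 0x100900000300100e006003) (nat_lit 0x1020010008004002001)) (.cD (nat_lit 56) (.kF (nat_lit 8) (nat_lit 0x900100000f005004001006001003)) (.cD (nat_lit 60) (.kF (nat_lit 8) (nat_lit 0x900100000b005004001006001003)) .nil)))))))))))))))) (.cD (nat_lit 8) (.kF (nat_lit 2) (nat_lit 0x1002001004005005009001000004001006004)) (.cD (nat_lit 10) (.kF (nat_lit 2) (nat_lit 0x1002001004005005009001000004001006004)) (.cD (nat_lit 12) (.kF (nat_lit 2) (nat_lit 0x1002001004005005009001000004001006004)) (.cD (nat_lit 16) (.dfs (nat_lit 8) (nat_lit 1) (nat_lit 1) (nat_lit 0x1002001) (nat_lit 0x1002001) (nat_lit 0) (nat_lit 0) (nat_lit 0) (nat_lit 0) (nat_lit 0) (nat_lit 0) (nat_lit 1) (nat_lit 0) (nat_lit 0x1004002) (nat_lit 16386) (nat_lit 0x100100200000400100a00000c00102200002400102a00002c) (nat_lit 0x101151501011514) (.cD (nat_lit 2) (.kF (nat_lit 8) (nat_lit 0x9001000001006001002)) (.cD (nat_lit 4) (.kF (nat_lit 8) (nat_lit 0x9001000001006001002))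 (.cD (nat_lit 8) (.dfs (nat_lit 16) (nat_lit 1) (nat_lit 1) (nat_lit 0x1004002001) (nat_lit 0x1004002001) (nat_lit 0) (nat_lit 0) (nat_lit 0) (nat_lit 0) (nat_lit 0) (nat_lit 0) (nat_lit 1) (nat_lit 0) (nat_lit 0x1004002) (nat_lit 16386) (nat_lit 0x100100200000400100a00000c00102200002400102a00002c) (nat_lit 0x101151501011514) (.cD (nat_lit 2) (.kA true (nat_lit 0x500400600c002009001000002)) (.cD (nat_lit 4) (.kA false (nat_lit 0x100400200c002009001000002)) (.cD (nat_lit 8) (.kc (nat_lit 24) (nat_lit 0x3001001)) (.cD (nat_lit 10) (.kA true (nat_lit 0x700400600c002009001000002)) (.cD (nat_lit 12) (.kA false (nat_lit 0x300400200c002009001000002)) (.cD (nat_lit 16) (.kc (nat_lit 18) (nat_lit 0x5001001)) (.cD (nat_lit 24) (.kc (nat_lit 26) (nat_lit 0x7001001)) (.cD (nat_lit 32) (.kc (nat_lit 50) (nat_lit 0x9001001)) (.cD (nat_lit 34) (.kc (nat_lit 32) (nat_lit 0x1002008002002)) (.cD (nat_lit 36) (.kc (nat_lit 32) (nat_lit 0xc00300d001009001000003)) (.cD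 (nat_lit 40) (.kc (nat_lit 58) (nat_lit 0xb001001)) (.cD (nat_lit 42) (.kb (nat_lit 24) (nat_lit 0x8001003001002) (nat_lit 0x1020010008004002001)) (.cD (nat_lit 44) (.kb (nat_lit 24) (nat_lit 0x100900000d00200e004003) (nat_lit 0x1020010008004002001)) (.cD (nat_lit 48) (.kc (nat_lit 48) (nat_lit 0xd001001)) (.cD (nat_lit 56) (.kc (nat_lit 56) (nat_lit 0xf001001)) .nil)))))))))))))))) (.cD (nat_lit 10) (.dfs (nat_lit 16) (nat_lit 1) (nat_lit 1) (nat_lit 0x1004002001) (nat_lit 0x1004002001) (nat_lit 0) (nat_lit 0) (nat_lit 0) (nat_lit 0) (nat_lit 0) (nat_lit 0) (nat_lit 1) (nat_lit 0) (nat_lit 1) (nat_lit 0) (nat_lit 1) (nat_lit 0x505050505050504) (.cD (nat_lit 2) (.kA true (nat_lit 0x500400700c002009001000002)) (.cD (nat_lit 8) (.kA true (nat_lit 0x700400500c002009001000002)) (.cD (nat_lit 10) (.kc (nat_lit 24) (nat_lit 0x3001001)) (.cD (nat_lit 16) (.kc (nat_lit 18) (nat_lit 0x5001001)) (.cD (nat_lit 18) (.dfs (nat_lit 1) (nat_lit 4100) (nat_lit 4101)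 (nat_lit 1) (nat_lit 1) (nat_lit 2) (nat_lit 0) (nat_lit 1) (nat_lit 4112) (nat_lit 0x20010008004002009) (nat_lit 0) (nat_lit 1) (nat_lit 0) (nat_lit 1) (nat_lit 0) (nat_lit 1) (nat_lit 0) .nil) (.cD (nat_lit 24) (.kA true (nat_lit 0x300400100c002009001000002)) (.cD (nat_lit 26) (.kc (nat_lit 26) (nat_lit 0x7001001)) (.cD (nat_lit 32) (.kc (nat_lit 50) (nat_lit 0x9001001)) (.cD (nat_lit 34) (.kc (nat_lit 32) (nat_lit 0x1002008002002)) (.cD (nat_lit 40) (.kb (nat_lit 24) (nat_lit 0x100900000d002002) (nat_lit 0x1020010008004002001)) (.cD (nat_lit 42) (.kc (nat_lit 58) (nat_lit 0xb001001)) (.cD (nat_lit 48) (.kc (nat_lit 48) (nat_lit 0xd001001)) (.cD (nat_lit 50) (.kc (nat_lit 32) (nat_lit 0x400100d001009001000003)) (.cD (nat_lit 56) (.kb (nat_lit 8) (nat_lit 0x100900000d002002) (nat_lit 0x1020010008004002001)) (.cD (nat_lit 58) (.kc (nat_lit 56) (nat_lit 0xf001001)) .nil)))))))))))))))) (.cD (nat_lit 12) (.dfs (nat_lit 16) (nat_lit 1) (nat_lit 1) (nat_lit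 0x1004002001) (nat_lit 0x1004002001) (nat_lit 0) (nat_lit 0) (nat_lit 0) (nat_lit 0) (nat_lit 0) (nat_lit 0) (nat_lit 1) (nat_lit 0) (nat_lit 1) (nat_lit 0) (nat_lit 1) (nat_lit 0x1111111111111110) (.cD (nat_lit 4) (.kA false (nat_lit 0x100400300c002009001000002)) (.cD (nat_lit 8) (.kA false (nat_lit 0x300400100c002009001000002)) (.cD (nat_lit 12) (.kc (nat_lit 24) (nat_lit 0x3001001)) (.cD (nat_lit 16) (.kc (nat_lit 18) (nat_lit 0x5001001)) (.cD (nat_lit 20) (.kA false (nat_lit 0x500400700c002009001000002)) (.cD (nat_lit 24) (.kA false (nat_lit 0x700400500c002009001000002)) (.cD (nat_lit 28) (.kc (nat_lit 26) (nat_lit 0x7001001)) (.cD (nat_lit 32) (.kc (nat_lit 50) (nat_lit 0x9001001)) (.cD (nat_lit 36) (.kc (nat_lit 32) (nat_lit 0xc00300d001009001000003)) (.cD (nat_lit 40) (.kb (nat_lit 24) (nat_lit 0x100900000d002002) (nat_lit 0x1020010008004002001)) (.cD (nat_lit 44) (.kc (nat_lit 58) (nat_lit 0xb001001)) (.cD (nat_lit 48) (.kc (nat_lit 48) (nat_lit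 0xd001001)) (.cD (nat_lit 52) (.kc (nat_lit 32) (nat_lit 0x400400d001009001000003)) (.cD (nat_lit 56) (.kb (nat_lit 8) (nat_lit 0x100900000d002002) (nat_lit 0x1020010008004002001)) (.cD (nat_lit 60) (.kc (nat_lit 56) (nat_lit 0xf001001)) .nil)))))))))))))))) (.cD (nat_lit 16) (.kc (nat_lit 10) (nat_lit 0x3001001)) (.cD (nat_lit 24) (.dfs (nat_lit 16) (nat_lit 1) (nat_lit 1) (nat_lit 0x1004002001) (nat_lit 0x1004002001) (nat_lit 0) (nat_lit 0) (nat_lit 0) (nat_lit 0) (nat_lit 0) (nat_lit 0) (nat_lit 1) (nat_lit 0) (nat_lit 0x1004002) (nat_lit 16386) (nat_lit 0x100100200000400100a00000c00102200002400102a00002c) (nat_lit 0x101151501011514) (.cD (nat_lit 2) (.kA true (nat_lit 0x500400200c002009001000002)) (.cD (nat_lit 4) (.kA false (nat_lit 0x100400600c002009001000002)) (.cD (nat_lit 8) (.kc (nat_lit 26) (nat_lit 0x7001001)) (.cD (nat_lit 10) (.kA true (nat_lit 0x300400200c002009001000002)) (.cD (nat_lit 12) (.kA false (nat_lit 0x700400600c002009001000002))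 (.cD (nat_lit 16) (.kc (nat_lit 18) (nat_lit 0x5001001)) (.cD (nat_lit 24) (.kc (nat_lit 24) (nat_lit 0x3001001)) (.cD (nat_lit 32) (.kc (nat_lit 50) (nat_lit 0x9001001)) (.cD (nat_lit 34) (.kc (nat_lit 32) (nat_lit 0x1002008002002)) (.cD (nat_lit 36) (.kc (nat_lit 32) (nat_lit 0xc00300d001009001000003)) (.cD (nat_lit 40) (.kc (nat_lit 56) (nat_lit 0xf001001)) (.cD (nat_lit 42) (.kb (nat_lit 8) (nat_lit 0x100900000d002006005003) (nat_lit 0x1020010008004002001)) (.cD (nat_lit 44) (.kb (nat_lit 24) (nat_lit 0x100900000d00200e004003) (nat_lit 0x1020010008004002001)) (.cD (nat_lit 48) (.kc (nat_lit 48) (nat_lit 0xd001001)) (.cD (nat_lit 56) (.kc (nat_lit 58) (nat_lit 0xb001001)) .nil)))))))))))))))) (.cD (nat_lit 32) (.kc (nat_lit 42) (nat_lit 0x5001001)) (.cD (nat_lit 34) (.kb (nat_lit 8) (nat_lit 0x4001001001002) (nat_lit 0x1020010008004002001)) (.cD (nat_lit 36) (.kb (nat_lit 8) (nat_lit 0x1009000005004001001003) (nat_lit 0x1020010008004002001)) (.cD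 (nat_lit 40) (.kF (nat_lit 8) (nat_lit 0x9001000001006001002)) (.cD (nat_lit 42) (.kF (nat_lit 8) (nat_lit 0x9001000001006001002)) (.cD (nat_lit 44) (.kF (nat_lit 8) (nat_lit 0x9001000001006001002)) (.cD (nat_lit 48) (.kc (nat_lit 40) (nat_lit 0x7001001)) (.cD (nat_lit 56) (.kF (nat_lit 8) (nat_lit 0x9001000001006001002)) .nil)))))))))))))))) (.cD (nat_lit 24) (.kF (nat_lit 2) (nat_lit 0x1002001004005005009001000004001006004)) (.cD (nat_lit 32) (.kc (nat_lit 32) (nat_lit 0x3001001)) (.cD (nat_lit 34) (.kc (nat_lit 32) (nat_lit 0x4006003001002)) (.cD (nat_lit 36) (.kc (nat_lit 32) (nat_lit 0x4004003001002)) (.cD (nat_lit 40) (.kb (nat_lit 8) (nat_lit 0x3002001) (nat_lit 0x1020010008004002001)) (.cD (nat_lit 42) (.kb (nat_lit 8) (nat_lit 0x300200e006002) (nat_lit 0x1020010008004002001)) (.cD (nat_lit 44) (.kb (nat_lit 24) (nat_lit 0x3002006003002) (nat_lit 0x1020010008004002001)) (.cD (nat_lit 48) (.kc (nat_lit 32) (nat_lit 0x3001001)) (.cD (nat_lit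 56) (.kb (nat_lit 24) (nat_lit 0x3002001) (nat_lit 0x1020010008004002001)) .nil)))))))))))))))))
theorem c202 : (chk [] [] p202).n x129 s202 = true := by decide +kernel
noncomputable def p203 : Pf := (.clm (.cut (nat_lit 0)) (.dfs (nat_lit 16) (nat_lit 1) (nat_lit 1) (nat_lit 1) (nat_lit 1) (nat_lit 0) (nat_lit 0) (nat_lit 0) (nat_lit 0) (nat_lit 0) (nat_lit 0) (nat_lit 1) (nat_lit 0) (nat_lit 0x1002001) (nat_lit 8193) (nat_lit 0x1001001000002001005000006001011000012001015000016) (nat_lit 0x11771176) (.cD (nat_lit 1) (.kc (nat_lit 16) (nat_lit 0x4006001001002)) (.cD (nat_lit 2) (.kc (nat_lit 16) (nat_lit 0x4004001001002)) (.cD (nat_lit 4) (.dfs (nat_lit 8) (nat_lit 1) (nat_lit 1) (nat_lit 4097) (nat_lit 4097) (nat_lit 0) (nat_lit 0) (nat_lit 0) (nat_lit 0) (nat_lit 0) (nat_lit 0) (nat_lit 0x1002001) (nat_lit 1) (nat_lit 1) (nat_lit 0) (nat_lit 1) (nat_lit 0x11111110) (.cD (nat_lit 4) (.kc (nat_lit 24) (nat_lit 0x3001001)) (.cD (nat_lit 8) (.dfs (nat_lit 4) (nat_lit 1) (nat_lit 1) (nat_lit 0x1002001) (nat_lit 0x1002001) (nat_lit 0) (nat_lit 0) (nat_lit 0) (nat_lit 0) (nat_lit 0) (nat_lit 0) (nat_lit 0x1002001) (nat_lit 2) (nat_lit 1) (nat_lit 0) (nat_lit 1) (nat_lit 0x11111110) (.cD (nat_lit 4) (.kc (nat_lit 20) (nat_lit 0x5001001)) (.cD (nat_lit 8) (.kc (nat_lit 12) (nat_lit 0x3001001)) (.cD (nat_lit 12) (.kc (nat_lit 28) (nat_lit 0x7001001)) (.cD (nat_lit 16) (.dfs (nat_lit 2) (nat_lit 1) (nat_lit 1) (nat_lit 0x1004002001) (nat_lit 0x1004002001) (nat_lit 0) (nat_lit 0) (nat_lit 0) (nat_lit 0) (nat_lit 0) (nat_lit 0) (nat_lit 1) (nat_lit 0) (nat_lit 0x1002001) (nat_lit 8193) (nat_lit 0x1001001000002001005000006001011000012001015000016) (nat_lit 0x11771176) (.cD (nat_lit 1) (.kA true (nat_lit 0x500100900200100800400500200300100400c002002003)) (.cD (nat_lit 2) (.dfs (nat_lit 1) (nat_lit 0x1001004008002) (nat_lit 0x1005004008002) (nat_lit 1) (nat_lit 1) (nat_lit 0) (nat_lit 0) (nat_lit 2) (nat_lit 0) (nat_lit 0) (nat_lit 1) (nat_lit 1) (nat_lit 0) (nat_lit 4098) (nat_lit 2) (nat_lit 0x1000001000005000011000015) (nat_lit 0x220022) (.cD (nat_lit 1) (.extn a5 (nat_lit 0x10008004002001) (nat_lit 0x1002008004010) (nat_lit 2) (nat_lit 0) (nat_lit 0) (nat_lit 0) (nat_lit 0x10100101) (.cE (nat_lit 0) b6 t6 (.cut (nat_lit 3)) .nil (.cE (nat_lit 8) b136 (nat_lit 0) (.cut (nat_lit 4)) .nil (.cE (nat_lit 20) (nat_lit 0xb00a00900801b01a01901800300200100001301201101000f00e00d00c01f01e01d01c007006005004017016015014) (nat_lit 0) (.iso x17 s94 (nat_lit 2) (nat_lit 0x1020010008004002009) (nat_lit 0x20010008004002009) [(nat_lit 0x8004002001003001), (nat_lit 0x8004002001005001)] (.cut (nat_lit 3))) .nil (.cE (nat_lit 28) (nat_lit 0x300200100001301201101000b00a00900801b01a01901800700600500401701601501400f00e00d00c01f01e01d01c) (nat_lit 0) (.iso x58 s95 (nat_lit 3) (nat_lit 0x1020010008004002009) (nat_lit 0x20010008004002009) [(nat_lit 0x8004002001003001)] (.cut (nat_lit 4))) .nil .nil))))) (.cD (nat_lit 5) (.kc (nat_lit 16) (nat_lit 0xc005009002006005010001004)) (.cD (nat_lit 17) (.kc (nat_lit 16) (nat_lit 0xc00500d001006005010001004)) (.cD (nat_lit 21) (.extn a102 (nat_lit 0x10008004002001) (nat_lit 0x1002008004010) (nat_lit 2) (nat_lit 0) (nat_lit 0) (nat_lit 0) (nat_lit 0x10100101) (.cE (nat_lit 0) b137 t137 (.cut (nat_lit 1)) .nil (.cE (nat_lit 8) b196 (nat_lit 0) (.cut (nat_lit 2)) .nil (.cE (nat_lit 20) (nat_lit 0x1f00a01d00800f01a00d01801700201500000701200501001b00e01900c00b01e00901c013006011004003016001014) (nat_lit 0) (.iso x1 s23 (nat_lit 0) (nat_lit 0x1020010008004002009) (nat_lit 0x20010008004002009) [(nat_lit 0x8004002001003001), (nat_lit 0x8004002001005001)] (.cut (nat_lit 1))) .nil (.cE (nat_lit 28) (nat_lit 0x1700201500000701200501001f00a01d00800f01a00d01801300601100400301600101401b00e01900c00b01e00901c) (nat_lit 0) (.iso x16 s24 (nat_lit 1) (nat_lit 0x1020010008004002009) (nat_lit 0x20010008004002009) [(nat_lit 0x8004002001003001), (nat_lit 0x8004002001005001)] (.cut (nat_lit 2))) .nil .nil))))) .nil))))) (.cD (nat_lit 4) (.kc (nat_lit 18) (nat_lit 0x9001001)) (.cD (nat_lit 5) (.kc (nat_lit 16) (nat_lit 0xc003005002006005008001004)) (.cD (nat_lit 6) (.kA false (nat_lit 0x3004008002001001004002008001002)) (.cD (nat_lit 8) (.kc (nat_lit 10) (nat_lit 0x5001001)) (.cD (nat_lit 12) (.kc (nat_lit 26) (nat_lit 0xd001001)) (.cD (nat_lit 16) (.kc (nat_lit 6) (nat_lit 0x3001001)) (.cD (nat_lit 17) (.kA true (nat_lit 0x700100900200100a00400500200300300400c002002003)) (.cD (nat_lit 18) (.kA false (nat_lit 0x9004008002001001004002008001002)) (.cD (nat_lit 20) (.kc (nat_lit 22) (nat_lit 0xb001001)) (.cD (nat_lit 21) (.kA false (nat_lit 0x500e00200800200700300100e00500a00e00200300100300700200a00400a00b00200700200f004001006005001004002008001007)) (.cD (nat_lit 22) (.kA false (nat_lit 0xf00100800200100b004001002003001004002008001003)) (.cD (nat_lit 24) (.kc (nat_lit 14) (nat_lit 0x7001001)) (.cD (nat_lit 28) (.kc (nat_lit 30) (nat_lit 0xf001001)) .nil)))))))))))))))) (.cD (nat_lit 20) (.dfs (nat_lit 2) (nat_lit 1) (nat_lit 1) (nat_lit 0x1004002001) (nat_lit 0x1004002001) (nat_lit 0) (nat_lit 0) (nat_lit 0) (nat_lit 0) (nat_lit 0) (nat_lit 0) (nat_lit 1) (nat_lit 0) (nat_lit 0x1002001) (nat_lit 8193) (nat_lit 0x1001001000002001005000006001011000012001015000016) (nat_lit 0x11771176) (.cD (nat_lit 1) (.kA true (nat_lit 0x500100900a00100800400500300300100400c00a002003)) (.cD (nat_lit 2) (.dfs (nat_lit 1) (nat_lit 0x100100400800a) (nat_lit 0x100500400800a) (nat_lit 4098) (nat_lit 4098) (nat_lit 0) (nat_lit 0) (nat_lit 2) (nat_lit 0) (nat_lit 0) (nat_lit 1) (nat_lit 1) (nat_lit 0) (nat_lit 4098) (nat_lit 2) (nat_lit 0x1000001000005000011000015) (nat_lit 0x220022) (.cD (nat_lit 1) (.kA true (nat_lit 0x100801901400100800400d00700600900101c00d00100800400300600500100800c010001005)) (.cD (nat_lit 5) (.kc (nat_lit 16) (nat_lit 0xc005009002006005010001004)) (.cD (nat_lit 17) (.kc (nat_lit 16) (nat_lit 0xc00501d001007005014002004)) (.cD (nat_lit 21) (.kc (nat_lit 16) (nat_lit 0xc00500d001006005010001004)) .nil))))) (.cD (nat_lit 4) (.kc (nat_lit 18) (nat_lit 0x9001001)) (.cD (nat_lit 5) (.kc (nat_lit 16) (nat_lit 0xc003005002006005008001004)) (.cD (nat_lit 6) (.kA false (nat_lit 0x500900200800200a004003002003001004002008001003)) (.cD (nat_lit 8) (.kc (nat_lit 10) (nat_lit 0x5001001)) (.cD (nat_lit 12) (.kc (nat_lit 26) (nat_lit 0xd001001)) (.cD (nat_lit 16) (.kc (nat_lit 22) (nat_lit 0xb001001)) (.cD (nat_lit 17) (.kc (nat_lit 16) (nat_lit 0x400400100200500500d00300d00200700500a002007)) (.cD (nat_lit 18) (.kA false (nat_lit 0x500b002008002009004003002003001004002008001003)) (.cD (nat_lit 20) (.kc (nat_lit 6) (nat_lit 0x3001001)) (.cD (nat_lit 21) (.kc (nat_lit 16) (nat_lit 0xc00300500200700500a002004)) (.cD (nat_lit 22) (.kA false (nat_lit 0x500300200800200b004003002003001004002008001003)) (.cD (nat_lit 24) (.kc (nat_lit 30) (nat_lit 0xf001001)) (.cD (nat_lit 28) (.kc (nat_lit 14) (nat_lit 0x7001001)) .nil)))))))))))))))) (.cD (nat_lit 24) (.dfs (nat_lit 2) (nat_lit 1) (nat_lit 1) (nat_lit 0x1004002001) (nat_lit 0x1004002001) (nat_lit 0) (nat_lit 0) (nat_lit 0) (nat_lit 0) (nat_lit 0) (nat_lit 0) (nat_lit 1) (nat_lit 0) (nat_lit 0x1002001) (nat_lit 8193) (nat_lit 0x1001001000002001005000006001011000012001015000016) (nat_lit 0x11771176) (.cD (nat_lit 1) (.dfs (nat_lit 1) (nat_lit 0x100100400c006) (nat_lit 0x100500400c006) (nat_lit 0x1008002) (nat_lit 0x1008002) (nat_lit 0) (nat_lit 0) (nat_lit 2) (nat_lit 1) (nat_lit 0) (nat_lit 2) (nat_lit 1) (nat_lit 0) (nat_lit 4097) (nat_lit 1) (nat_lit 0x1000002000006000012000016) (nat_lit 0x440044) (.cD (nat_lit 2) (.extn (nat_lit 0x1f01501601400700d00e00c01701d01e01c00f00500600401b01101201000300900a00801301901a01800b001002000) (nat_lit 0x10008004002001) (nat_lit 4100) (nat_lit 1) (nat_lit 4100) (nat_lit 0x10008004002001) (nat_lit 0) (nat_lit 0) .nil) (.cD (nat_lit 6) (.kc (nat_lit 16) (nat_lit 0x400600100200600300c002004)) (.cD (nat_lit 18) (.kc (nat_lit 16) (nat_lit 0x400400d001006005010001004)) (.cD (nat_lit 22) (.kA false (nat_lit 0x1500101000c00100b00400100200501d00801000c002003)) .nil))))) (.cD (nat_lit 2) (.kA false (nat_lit 0x5001007008002008004005002003001004002008001003)) (.cD (nat_lit 4) (.kc (nat_lit 18) (nat_lit 0x9001001)) (.cD (nat_lit 5) (.kc (nat_lit 16) (nat_lit 0xc003005002006005008001004)) (.cD (nat_lit 6) (.kc (nat_lit 16) (nat_lit 0x4004001002006003006002004)) (.cD (nat_lit 8) (.kc (nat_lit 10) (nat_lit 0x5001001)) (.cD (nat_lit 12) (.kc (nat_lit 26) (nat_lit 0xd001001)) (.cD (nat_lit 16) (.kc (nat_lit 14) (nat_lit 0x7001001)) (.cD (nat_lit 17) (.kc (nat_lit 16) (nat_lit 0xc005003001006003006002004)) (.cD (nat_lit 18) (.kc (nat_lit 16) (nat_lit 0xc003003001006003006002004)) (.cD (nat_lit 20) (.kc (nat_lit 30) (nat_lit 0xf001001)) (.cD (nat_lit 21) (.kA false (nat_lit 0xf00b00c00600100f00b00500600400e00f00900300200f004005006005001004002008001005)) (.cD (nat_lit 22) (.kA false (nat_lit 0x500f00900800200b004005002003001004002008001003)) (.cD (nat_lit 24) (.kc (nat_lit 6) (nat_lit 0x3001001)) (.cD (nat_lit 28) (.kc (nat_lit 22) (nat_lit 0xb001001)) .nil)))))))))))))))) (.cD (nat_lit 28) (.dfs (nat_lit 2) (nat_lit 1) (nat_lit 1) (nat_lit 0x1004002001) (nat_lit 0x1004002001) (nat_lit 0) (nat_lit 0) (nat_lit 0) (nat_lit 0) (nat_lit 0) (nat_lit 0) (nat_lit 1) (nat_lit 0) (nat_lit 0x1002001) (nat_lit 8193) (nat_lit 0x1001001000002001005000006001011000012001015000016) (nat_lit 0x11771176) (.cD (nat_lit 1) (.dfs (nat_lit 1) (nat_lit 0x100100400c00e) (nat_lit 0x100500400c00e) (nat_lit 0x1008002) (nat_lit 0x1008002) (nat_lit 0) (nat_lit 0) (nat_lit 2) (nat_lit 1) (nat_lit 0) (nat_lit 2) (nat_lit 1) (nat_lit 0) (nat_lit 4097) (nat_lit 1) (nat_lit 0x1000002000006000012000016) (nat_lit 0x440044) (.cD (nat_lit 2) (.kA false (nat_lit 0x200801001c00100100801c004001002008004010001003)) (.cD (nat_lit 6) (.kc (nat_lit 16) (nat_lit 0xc00301900101600100700301c002005)) (.cD (nat_lit 18) (.kc (nat_lit 16) (nat_lit 0xc00500900201a002006005010001005)) (.cD (nat_lit 22) (.kc (nat_lit 16) (nat_lit 0x400400d001006005010001004)) .nil))))) (.cD (nat_lit 2) (.kA false (nat_lit 0x5001007008002008004007002003001004002008001003)) (.cD (nat_lit 4) (.kc (nat_lit 18) (nat_lit 0x9001001)) (.cD (nat_lit 5) (.kc (nat_lit 16) (nat_lit 0xc003005002006005008001004)) (.cD (nat_lit 6) (.kA false (nat_lit 0x500900f00800200a004007002003001004002008001003)) (.cD (nat_lit 8) (.kc (nat_lit 10) (nat_lit 0x5001001)) (.cD (nat_lit 12) (.kc (nat_lit 26) (nat_lit 0xd001001)) (.cD (nat_lit 16) (.kc (nat_lit 30) (nat_lit 0xf001001)) (.cD (nat_lit 17) (.kc (nat_lit 16) (nat_lit 0xc00500b00100700300e002004)) (.cD (nat_lit 18) (.kc (nat_lit 16) (nat_lit 0xc00300b00100700300e002004)) (.cD (nat_lit 20) (.kc (nat_lit 14) (nat_lit 0x7001001)) (.cD (nat_lit 21) (.kA false (nat_lit 0x700300200e00100e00a00200700400600700200b00200f004003006005001004002008001005)) (.cD (nat_lit 22) (.kc (nat_lit 16) (nat_lit 0x400400100200700300e002004)) (.cD (nat_lit 24) (.kc (nat_lit 22) (nat_lit 0xb001001)) (.cD (nat_lit 28) (.kc (nat_lit 6) (nat_lit 0x3001001)) .nil)))))))))))))))) .nil)))))))) (.cD (nat_lit 12) (.dfs (nat_lit 4) (nat_lit 1) (nat_lit 1) (nat_lit 0x1002001) (nat_lit 0x1002001) (nat_lit 0) (nat_lit 0) (nat_lit 0) (nat_lit 0) (nat_lit 0) (nat_lit 0) (nat_lit 0x1002001) (nat_lit 2) (nat_lit 1) (nat_lit 0) (nat_lit 1) (nat_lit 0x11111110) (.cD (nat_lit 4) (.kc (nat_lit 20) (nat_lit 0x5001001)) (.cD (nat_lit 8) (.kc (nat_lit 28) (nat_lit 0x7001001)) (.cD (nat_lit 12) (.kc (nat_lit 12) (nat_lit 0x3001001)) (.cD (nat_lit 16) (.kF (nat_lit 12) (nat_lit 0x6004002002001002002)) (.cD (nat_lit 20) (.dfs (nat_lit 2) (nat_lit 1) (nat_lit 1) (nat_lit 0x1004002001) (nat_lit 0x1004002001) (nat_lit 0) (nat_lit 0) (nat_lit 0) (nat_lit 0) (nat_lit 0) (nat_lit 0) (nat_lit 1) (nat_lit 0) (nat_lit 0x1002001) (nat_lit 8193) (nat_lit 0x1001001000002001005000006001011000012001015000016) (nat_lit 0x11771176) (.cD (nat_lit 1) (.kc (nat_lit 16) (nat_lit 0xc003005002006005008001004)) (.cD (nat_lit 2) (.kA false (nat_lit 0xd004002008002001001000001004002008001003)) (.cD (nat_lit 4) (.kc (nat_lit 18) (nat_lit 0x9001001)) (.cD (nat_lit 5) (.kc (nat_lit 16) (nat_lit 0x400400100200e006008001004)) (.cD (nat_lit 6) (.kA false (nat_lit 0xd004002008002001001000001004002008001003)) (.cD (nat_lit 8) (.kc (nat_lit 26) (nat_lit 0xd001001)) (.cD (nat_lit 12) (.kc (nat_lit 10) (nat_lit 0x5001001)) (.cD (nat_lit 16) (.kc (nat_lit 22) (nat_lit 0xb001001)) (.cD (nat_lit 17) (.kc (nat_lit 16) (nat_lit 0xc00300500200700500a002004)) (.cD (nat_lit 18) (.kA false (nat_lit 0xd004002008002001001000001004002008001003)) (.cD (nat_lit 20) (.kc (nat_lit 6) (nat_lit 0x3001001)) (.cD (nat_lit 21) (.kc (nat_lit 16) (nat_lit 0x400400100200f00600a002004)) (.cD (nat_lit 22) (.kA false (nat_lit 0xd004002008002001001000001004002008001003)) (.cD (nat_lit 24) (.kc (nat_lit 14) (nat_lit 0x7001001)) (.cD (nat_lit 28) (.kc (nat_lit 30) (nat_lit 0xf001001)) .nil)))))))))))))))) (.cD (nat_lit 24) (.kc (nat_lit 16) (nat_lit 0x6001001001004001003)) (.cD (nat_lit 28) (.kc (nat_lit 16) (nat_lit 0x2002003002002)) .nil)))))))) (.cD (nat_lit 16) (.kc (nat_lit 16) (nat_lit 0x1002001)) (.cD (nat_lit 20) (.dfs (nat_lit 4) (nat_lit 1) (nat_lit 1) (nat_lit 0x1002001) (nat_lit 0x1002001) (nat_lit 0) (nat_lit 0) (nat_lit 0) (nat_lit 0) (nat_lit 0) (nat_lit 0) (nat_lit 0x1002001) (nat_lit 2) (nat_lit 1) (nat_lit 0) (nat_lit 1) (nat_lit 0x11111110) (.cD (nat_lit 4) (.kc (nat_lit 20) (nat_lit 0x5001001)) (.cD (nat_lit 8) (.kc (nat_lit 16) (nat_lit 0x1001004001002)) (.cD (nat_lit 12) (.dfs (nat_lit 2) (nat_lit 1) (nat_lit 1) (nat_lit 0x1004002001) (nat_lit 0x1004002001) (nat_lit 0) (nat_lit 0) (nat_lit 0) (nat_lit 0) (nat_lit 0) (nat_lit 0) (nat_lit 1) (nat_lit 0) (nat_lit 0x1002001) (nat_lit 8193) (nat_lit 0x1001001000002001005000006001011000012001015000016) (nat_lit 0x11771176) (.cD (nat_lit 1) (.kA false (nat_lit 0xb004002008002002002000001004002008001003)) (.cD (nat_lit 2) (.kA false (nat_lit 0xb004002008002001001000001004002008001003)) (.cD (nat_lit 4) (.kc (nat_lit 18) (nat_lit 0x9001001)) (.cD (nat_lit 5) (.kc (nat_lit 16) (nat_lit 0x400400100200e006008001004)) (.cD (nat_lit 6) (.kc (nat_lit 16) (nat_lit 0x400400900100500300c002004)) (.cD (nat_lit 8) (.kc (nat_lit 22) (nat_lit 0xb001001)) (.cD (nat_lit 12) (.kc (nat_lit 6) (nat_lit 0x3001001)) (.cD (nat_lit 16) (.kc (nat_lit 26) (nat_lit 0xd001001)) (.cD (nat_lit 17) (.kc (nat_lit 16) (nat_lit 0xc00300500200e006008001004)) (.cD (nat_lit 18) (.kc (nat_lit 16) (nat_lit 0x400400100200500300c002004)) (.cD (nat_lit 20) (.kc (nat_lit 10) (nat_lit 0x5001001)) (.cD (nat_lit 21) (.kA false (nat_lit 0xb004002008002002002000001004002008001003)) (.cD (nat_lit 22) (.kA false (nat_lit 0xb004002008002001001000001004002008001003)) (.cD (nat_lit 24) (.kc (nat_lit 14) (nat_lit 0x7001001)) (.cD (nat_lit 28) (.kc (nat_lit 30) (nat_lit 0xf001001)) .nil)))))))))))))))) (.cD (nat_lit 16) (.kc (nat_lit 28) (nat_lit 0x7001001)) (.cD (nat_lit 20) (.kc (nat_lit 12) (nat_lit 0x3001001)) (.cD (nat_lit 24) (.dfs (nat_lit 2) (nat_lit 1) (nat_lit 1) (nat_lit 0x1004002001) (nat_lit 0x1004002001) (nat_lit 0) (nat_lit 0) (nat_lit 0) (nat_lit 0) (nat_lit 0) (nat_lit 0) (nat_lit 1) (nat_lit 0) (nat_lit 0x1002001) (nat_lit 8193) (nat_lit 0x1001001000002001005000006001011000012001015000016) (nat_lit 0x11771176) (.cD (nat_lit 1) (.kA false (nat_lit 0xf004002008002002002000001004002008001003)) (.cD (nat_lit 2) (.kA false (nat_lit 0xf004002008002001001000001004002008001003)) (.cD (nat_lit 4) (.kc (nat_lit 18) (nat_lit 0x9001001)) (.cD (nat_lit 5) (.kc (nat_lit 16) (nat_lit 0x400400100200e006008001004)) (.cD (nat_lit 6) (.kc (nat_lit 16) (nat_lit 0x400400900100500300c002004)) (.cD (nat_lit 8) (.kc (nat_lit 30) (nat_lit 0xf001001)) (.cD (nat_lit 12) (.kc (nat_lit 14) (nat_lit 0x7001001)) (.cD (nat_lit 16) (.kc (nat_lit 26) (nat_lit 0xd001001)) (.cD (nat_lit 17) (.kc (nat_lit 16) (nat_lit 0xc00300500200e006008001004)) (.cD (nat_lit 18) (.kc (nat_lit 16) (nat_lit 0x400400100200500300c002004)) (.cD (nat_lit 20) (.kc (nat_lit 10) (nat_lit 0x5001001)) (.cD (nat_lit 21) (.kA false (nat_lit 0xf004002008002002002000001004002008001003)) (.cD (nat_lit 22) (.kA false (nat_lit 0xf004002008002001001000001004002008001003)) (.cD (nat_lit 24) (.kc (nat_lit 6) (nat_lit 0x3001001)) (.cD (nat_lit 28) (.kc (nat_lit 22) (nat_lit 0xb001001)) .nil)))))))))))))))) (.cD (nat_lit 28) (.kc (nat_lit 16) (nat_lit 0x2002005002006002003)) .nil)))))))) (.cD (nat_lit 24) (.dfs (nat_lit 4) (nat_lit 1) (nat_lit 1) (nat_lit 0x1002001) (nat_lit 0x1002001) (nat_lit 0) (nat_lit 0) (nat_lit 0) (nat_lit 0) (nat_lit 0) (nat_lit 0) (nat_lit 0x1002001) (nat_lit 2) (nat_lit 1) (nat_lit 0) (nat_lit 1) (nat_lit 0x11111110) (.cD (nat_lit 4) (.kc (nat_lit 20) (nat_lit 0x5001001)) (.cD (nat_lit 8) (.kc (nat_lit 16) (nat_lit 0x1001004001002)) (.cD (nat_lit 12) (.kc (nat_lit 16) (nat_lit 0x2002006002007002003)) (.cD (nat_lit 16) (.kF (nat_lit 24) (nat_lit 0x3004002002001002002)) (.cD (nat_lit 20) (.dfs (nat_lit 2) (nat_lit 1) (nat_lit 1) (nat_lit 0x1004002001) (nat_lit 0x1004002001) (nat_lit 0) (nat_lit 0) (nat_lit 0) (nat_lit 0) (nat_lit 0) (nat_lit 0) (nat_lit 1) (nat_lit 0) (nat_lit 0x1002001) (nat_lit 8193) (nat_lit 0x1001001000002001005000006001011000012001015000016) (nat_lit 0x11771176) (.cD (nat_lit 1) (.kc (nat_lit 16) (nat_lit 0x400200500400900200e006008001005)) (.cD (nat_lit 2) (.kA false (nat_lit 0xf004002008002001001000001004002008001003)) (.cD (nat_lit 4) (.kc (nat_lit 18) (nat_lit 0x9001001)) (.cD (nat_lit 5) (.kc (nat_lit 16) (nat_lit 0x400400100200e006008001004)) (.cD (nat_lit 6) (.kA false (nat_lit 0xf004002008002001001000001004002008001003)) (.cD (nat_lit 8) (.kc (nat_lit 30) (nat_lit 0xf001001)) (.cD (nat_lit 12) (.kc (nat_lit 14) (nat_lit 0x7001001)) (.cD (nat_lit 16) (.kc (nat_lit 22) (nat_lit 0xb001001)) (.cD (nat_lit 17) (.kc (nat_lit 16) (nat_lit 0x400200d00300d002006005008001005)) (.cD (nat_lit 18) (.kA false (nat_lit 0xf004002008002001001000001004002008001003)) (.cD (nat_lit 20) (.kc (nat_lit 6) (nat_lit 0x3001001)) (.cD (nat_lit 21) (.kc (nat_lit 16) (nat_lit 0xc003005002006005008001004)) (.cD (nat_lit 22) (.kA false (nat_lit 0xf004002008002001001000001004002008001003)) (.cD (nat_lit 24) (.kc (nat_lit 10) (nat_lit 0x5001001)) (.cD (nat_lit 28) (.kc (nat_lit 26) (nat_lit 0xd001001)) .nil)))))))))))))))) (.cD (nat_lit 24) (.kc (nat_lit 12) (nat_lit 0x3001001)) (.cD (nat_lit 28) (.kc (nat_lit 28) (nat_lit 0x7001001)) .nil)))))))) (.cD (nat_lit 28) (.dfs (nat_lit 4) (nat_lit 1) (nat_lit 1) (nat_lit 0x1002001) (nat_lit 0x1002001) (nat_lit 0) (nat_lit 0) (nat_lit 0) (nat_lit 0) (nat_lit 0) (nat_lit 0) (nat_lit 0x1002001) (nat_lit 2) (nat_lit 1) (nat_lit 0) (nat_lit 1) (nat_lit 0x11111110) (.cD (nat_lit 4) (.kc (nat_lit 20) (nat_lit 0x5001001)) (.cD (nat_lit 8) (.kc (nat_lit 16) (nat_lit 0x1001004001002)) (.cD (nat_lit 12) (.dfs (nat_lit 2) (nat_lit 1) (nat_lit 1) (nat_lit 0x1004002001) (nat_lit 0x1004002001) (nat_lit 0) (nat_lit 0) (nat_lit 0) (nat_lit 0) (nat_lit 0) (nat_lit 0) (nat_lit 1) (nat_lit 0) (nat_lit 0x1002001) (nat_lit 8193) (nat_lit 0x1001001000002001005000006001011000012001015000016) (nat_lit 0x11771176) (.cD (nat_lit 1) (.kA false (nat_lit 0xb004002008002002002000001004002008001003)) (.cD (nat_lit 2) (.kA false (nat_lit 0xb004002008002001001000001004002008001003)) (.cD (nat_lit 4) (.kc (nat_lit 18) (nat_lit 0x9001001)) (.cD (nat_lit 5) (.kc (nat_lit 16) (nat_lit 0x400400100200e006008001004)) (.cD (nat_lit 6) (.kc (nat_lit 16) (nat_lit 0xc003003001006003006002004)) (.cD (nat_lit 8) (.kc (nat_lit 22) (nat_lit 0xb001001)) (.cD (nat_lit 12) (.kc (nat_lit 6) (nat_lit 0x3001001)) (.cD (nat_lit 16) (.kc (nat_lit 14) (nat_lit 0x7001001)) (.cD (nat_lit 17) (.kc (nat_lit 16) (nat_lit 0xc003005002006005008001004)) (.cD (nat_lit 18) (.kc (nat_lit 16) (nat_lit 0x400400700100e004006002004)) (.cD (nat_lit 20) (.kc (nat_lit 30) (nat_lit 0xf001001)) (.cD (nat_lit 21) (.kA false (nat_lit 0xb004002008002002002000001004002008001003)) (.cD (nat_lit 22) (.kA false (nat_lit 0xb004002008002001001000001004002008001003)) (.cD (nat_lit 24) (.kc (nat_lit 26) (nat_lit 0xd001001)) (.cD (nat_lit 28) (.kc (nat_lit 10) (nat_lit 0x5001001)) .nil)))))))))))))))) (.cD (nat_lit 16) (.dfs (nat_lit 2) (nat_lit 1) (nat_lit 1) (nat_lit 0x1004002001) (nat_lit 0x1004002001) (nat_lit 0) (nat_lit 0) (nat_lit 0) (nat_lit 0) (nat_lit 0) (nat_lit 0) (nat_lit 1) (nat_lit 0) (nat_lit 0x1002001) (nat_lit 8193) (nat_lit 0x1001001000002001005000006001011000012001015000016) (nat_lit 0x11771176) (.cD (nat_lit 1) (.kA false (nat_lit 0xf004002008002002002000001004002008001003)) (.cD (nat_lit 2) (.kA false (nat_lit 0x500e008002001001001000001004002008001003)) (.cD (nat_lit 4) (.kc (nat_lit 18) (nat_lit 0x9001001)) (.cD (nat_lit 5) (.kc (nat_lit 16) (nat_lit 0x400400100200e006008001004)) (.cD (nat_lit 6) (.kA false (nat_lit 0x300e008002001001004002008001002)) (.cD (nat_lit 8) (.kc (nat_lit 30) (nat_lit 0xf001001)) (.cD (nat_lit 12) (.kc (nat_lit 14) (nat_lit 0x7001001)) (.cD (nat_lit 16) (.kc (nat_lit 6) (nat_lit 0x3001001)) (.cD (nat_lit 17) (.kc (nat_lit 16) (nat_lit 0xc003005002006005008001004)) (.cD (nat_lit 18) (.kA false (nat_lit 0x900e008002001001004002008001002)) (.cD (nat_lit 20) (.kc (nat_lit 22) (nat_lit 0xb001001)) (.cD (nat_lit 21) (.kA false (nat_lit 0xf004002008002002002000001004002008001003)) (.cD (nat_lit 22) (.kA false (nat_lit 0xf00e008002001001001000001004002008001003)) (.cD (nat_lit 24) (.kc (nat_lit 26) (nat_lit 0xd001001)) (.cD (nat_lit 28) (.kc (nat_lit 10) (nat_lit 0x5001001)) .nil)))))))))))))))) (.cD (nat_lit 20) (.dfs (nat_lit 2) (nat_lit 1) (nat_lit 1) (nat_lit 0x1004002001) (nat_lit 0x1004002001) (nat_lit 0) (nat_lit 0) (nat_lit 0) (nat_lit 0) (nat_lit 0) (nat_lit 0) (nat_lit 1) (nat_lit 0) (nat_lit 0x1002001) (nat_lit 8193) (nat_lit 0x1001001000002001005000006001011000012001015000016) (nat_lit 0x11771176) (.cD (nat_lit 1) (.kc (nat_lit 16) (nat_lit 0xc00300500200700500a002004)) (.cD (nat_lit 2) (.kA false (nat_lit 0x7004002008002001001000001004002008001003)) (.cD (nat_lit 4) (.kc (nat_lit 18) (nat_lit 0x9001001)) (.cD (nat_lit 5) (.kc (nat_lit 16) (nat_lit 0x400400100200e006008001004)) (.cD (nat_lit 6) (.kA false (nat_lit 0x7004002008002001001000001004002008001003)) (.cD (nat_lit 8) (.kc (nat_lit 14) (nat_lit 0x7001001)) (.cD (nat_lit 12) (.kc (nat_lit 30) (nat_lit 0xf001001)) (.cD (nat_lit 16) (.kc (nat_lit 22) (nat_lit 0xb001001)) (.cD (nat_lit 17) (.kc (nat_lit 16) (nat_lit 0xc003005002006005008001004)) (.cD (nat_lit 18) (.kA false (nat_lit 0x7004002008002001001000001004002008001003)) (.cD (nat_lit 20) (.kc (nat_lit 6) (nat_lit 0x3001001)) (.cD (nat_lit 21) (.kc (nat_lit 16) (nat_lit 0x400400100200f00600a002004)) (.cD (nat_lit 22) (.kA false (nat_lit 0x7004002008002001001000001004002008001003)) (.cD (nat_lit 24) (.kc (nat_lit 26) (nat_lit 0xd001001)) (.cD (nat_lit 28) (.kc (nat_lit 10) (nat_lit 0x5001001)) .nil)))))))))))))))) (.cD (nat_lit 24) (.kc (nat_lit 28) (nat_lit 0x7001001)) (.cD (nat_lit 28) (.kc (nat_lit 12) (nat_lit 0x3001001)) .nil)))))))) .nil)))))))) (.cD (nat_lit 5) (.kn (nat_lit 1) (nat_lit 0x1010008004002001) false (nat_lit 4098) (nat_lit 2) (nat_lit 0x1000005)) (.cD (nat_lit 6) (.kn (nat_lit 1) (nat_lit 0x1010008004002001) false (nat_lit 4097) (nat_lit 1) (nat_lit 0x1000006)) (.cD (nat_lit 8) (.kc (nat_lit 16) (nat_lit 0x1001001)) (.cD (nat_lit 12) (.dfs (nat_lit 8) (nat_lit 1) (nat_lit 1) (nat_lit 4097) (nat_lit 4097) (nat_lit 0) (nat_lit 0) (nat_lit 0) (nat_lit 0) (nat_lit 0) (nat_lit 0) (nat_lit 0x1002001) (nat_lit 1) (nat_lit 1) (nat_lit 0) (nat_lit 1) (nat_lit 0x11111110) (.cD (nat_lit 4) (.dfs (nat_lit 4) (nat_lit 1) (nat_lit 1) (nat_lit 0x1002001) (nat_lit 0x1002001) (nat_lit 0) (nat_lit 0) (nat_lit 0) (nat_lit 0) (nat_lit 0) (nat_lit 0) (nat_lit 0x1002001) (nat_lit 2) (nat_lit 1) (nat_lit 0) (nat_lit 1) (nat_lit 0x11111110) (.cD (nat_lit 4) (.kc (nat_lit 12) (nat_lit 0x3001001)) (.cD (nat_lit 8) (.kc (nat_lit 28) (nat_lit 0x7001001)) (.cD (nat_lit 12) (.kc (nat_lit 20) (nat_lit 0x5001001)) (.cD (nat_lit 16) (.kc (nat_lit 16) (nat_lit 0x2002001002002)) (.cD (nat_lit 20) (.kF (nat_lit 20) (nat_lit 0x2004002001003002002)) (.cD (nat_lit 24) (.dfs (nat_lit 2) (nat_lit 1) (nat_lit 1) (nat_lit 0x1004002001) (nat_lit 0x1004002001) (nat_lit 0) (nat_lit 0) (nat_lit 0) (nat_lit 0) (nat_lit 0) (nat_lit 0) (nat_lit 1) (nat_lit 0) (nat_lit 0x1002001) (nat_lit 8193) (nat_lit 0x1001001000002001005000006001011000012001015000016) (nat_lit 0x11771176) (.cD (nat_lit 1) (.kc (nat_lit 16) (nat_lit 0xc00100d005003001006003008001005)) (.cD (nat_lit 2) (.kc (nat_lit 16) (nat_lit 0xc003005002006003008001004)) (.cD (nat_lit 4) (.kc (nat_lit 10) (nat_lit 0x5001001)) (.cD (nat_lit 5) (.kc (nat_lit 16) (nat_lit 0xc00100d00500700100e004008001005)) (.cD (nat_lit 6) (.kc (nat_lit 16) (nat_lit 0x4004001002006003008001004)) (.cD (nat_lit 8) (.kc (nat_lit 26) (nat_lit 0xd001001)) (.cD (nat_lit 12) (.kc (nat_lit 18) (nat_lit 0x9001001)) (.cD (nat_lit 16) (.kc (nat_lit 30) (nat_lit 0xf001001)) (.cD (nat_lit 17) (.kc (nat_lit 16) (nat_lit 0xc005003001006003008001004)) (.cD (nat_lit 18) (.kc (nat_lit 16) (nat_lit 0xc003003001006003008001004)) (.cD (nat_lit 20) (.kc (nat_lit 22) (nat_lit 0xb001001)) (.cD (nat_lit 21) (.kc (nat_lit 16) (nat_lit 0xc00500700100e004008001004)) (.cD (nat_lit 22) (.kc (nat_lit 16) (nat_lit 0xc00300700100e004008001004)) (.cD (nat_lit 24) (.kc (nat_lit 6) (nat_lit 0x3001001)) (.cD (nat_lit 28) (.kc (nat_lit 14) (nat_lit 0x7001001)) .nil)))))))))))))))) (.cD (nat_lit 28) (.kc (nat_lit 16) (nat_lit 0x6001003001004001003)) .nil)))))))) (.cD (nat_lit 8) (.dfs (nat_lit 4) (nat_lit 1) (nat_lit 1) (nat_lit 0x1002001) (nat_lit 0x1002001) (nat_lit 0) (nat_lit 0) (nat_lit 0) (nat_lit 0) (nat_lit 0) (nat_lit 0) (nat_lit 0x1002001) (nat_lit 2) (nat_lit 1) (nat_lit 0) (nat_lit 1) (nat_lit 0x11111110) (.cD (nat_lit 4) (.kc (nat_lit 28) (nat_lit 0x7001001)) (.cD (nat_lit 8) (.kc (nat_lit 12) (nat_lit 0x3001001)) (.cD (nat_lit 12) (.kc (nat_lit 20) (nat_lit 0x5001001)) (.cD (nat_lit 16) (.dfs (nat_lit 2) (nat_lit 1) (nat_lit 1) (nat_lit 0x1004002001) (nat_lit 0x1004002001) (nat_lit 0) (nat_lit 0) (nat_lit 0) (nat_lit 0) (nat_lit 0) (nat_lit 0) (nat_lit 1) (nat_lit 0) (nat_lit 0x1002001) (nat_lit 8193) (nat_lit 0x1001001000002001005000006001011000012001015000016) (nat_lit 0x11771176) (.cD (nat_lit 1) (.dfs (nat_lit 1) (nat_lit 0x1001004008002) (nat_lit 0x1005004008002) (nat_lit 1) (nat_lit 1) (nat_lit 0) (nat_lit 0) (nat_lit 2) (nat_lit 1) (nat_lit 0) (nat_lit 2) (nat_lit 1) (nat_lit 0) (nat_lit 4097) (nat_lit 1) (nat_lit 0x1000002000006000012000016) (nat_lit 0x440044) (.cD (nat_lit 2) (.extn (nat_lit 0x1f01501601400f00500600401701d01e01c00700d00e00c01301901a01800300900a00801b01101201000b001002000) (nat_lit 0x10008004002001) (nat_lit 4100) (nat_lit 1) (nat_lit 4100) (nat_lit 0x10008004002001) (nat_lit 0) (nat_lit 0) .nil) (.cD (nat_lit 6) (.kc (nat_lit 16) (nat_lit 0x4006001002006003010001004)) (.cD (nat_lit 18) (.kc (nat_lit 16) (nat_lit 0xc00300d001006005004002004)) (.cD (nat_lit 22) (.kA false (nat_lit 0x800900c01000200c00b00d00e00301500101100d00100b00400500600501d008018004002005)) .nil))))) (.cD (nat_lit 2) (.kA false (nat_lit 0x500100900200100800400500200300100400c002002003)) (.cD (nat_lit 4) (.kc (nat_lit 26) (nat_lit 0xd001001)) (.cD (nat_lit 5) (.kc (nat_lit 16) (nat_lit 0xc003005002006005002002004)) (.cD (nat_lit 6) (.kc (nat_lit 16) (nat_lit 0x4004001002006003008001004)) (.cD (nat_lit 8) (.kc (nat_lit 10) (nat_lit 0x5001001)) (.cD (nat_lit 12) (.kc (nat_lit 18) (nat_lit 0x9001001)) (.cD (nat_lit 16) (.kc (nat_lit 6) (nat_lit 0x3001001)) (.cD (nat_lit 17) (.kc (nat_lit 16) (nat_lit 0x4006003001006003008001004)) (.cD (nat_lit 18) (.kc (nat_lit 16) (nat_lit 0x4004003001006003008001004)) (.cD (nat_lit 20) (.kc (nat_lit 30) (nat_lit 0xf001001)) (.cD (nat_lit 21) (.kA false (nat_lit 0xe00f00200800200f004001002005001004002008001003)) (.cD (nat_lit 22) (.kA false (nat_lit 0xe00100900200100f00400500200300f00400c002002003)) (.cD (nat_lit 24) (.kc (nat_lit 14) (nat_lit 0x7001001)) (.cD (nat_lit 28) (.kc (nat_lit 22) (nat_lit 0xb001001)) .nil)))))))))))))))) (.cD (nat_lit 20) (.dfs (nat_lit 2) (nat_lit 1) (nat_lit 1) (nat_lit 0x1004002001) (nat_lit 0x1004002001) (nat_lit 0) (nat_lit 0) (nat_lit 0) (nat_lit 0) (nat_lit 0) (nat_lit 0) (nat_lit 1) (nat_lit 0) (nat_lit 0x1002001) (nat_lit 8193) (nat_lit 0x1001001000002001005000006001011000012001015000016) (nat_lit 0x11771176) (.cD (nat_lit 1) (.kA false (nat_lit 0x5001007008002008004007002005001004002008001003)) (.cD (nat_lit 2) (.kA false (nat_lit 0x100400d00e00100800400d00700400500100a003001008004003006003001004002008001005)) (.cD (nat_lit 4) (.kc (nat_lit 26) (nat_lit 0xd001001)) (.cD (nat_lit 5) (.kc (nat_lit 16) (nat_lit 0xc005009001005003005006003001006003008001007)) (.cD (nat_lit 6) (.kc (nat_lit 16) (nat_lit 0x4004001002006003008001004)) (.cD (nat_lit 8) (.kc (nat_lit 10) (nat_lit 0x5001001)) (.cD (nat_lit 12) (.kc (nat_lit 18) (nat_lit 0x9001001)) (.cD (nat_lit 16) (.kc (nat_lit 30) (nat_lit 0xf001001)) (.cD (nat_lit 17) (.kc (nat_lit 16) (nat_lit 0xc00500b00100700300e002004)) (.cD (nat_lit 18) (.kc (nat_lit 16) (nat_lit 0xc00300b00100700300e002004)) (.cD (nat_lit 20) (.kc (nat_lit 6) (nat_lit 0x3001001)) (.cD (nat_lit 21) (.kc (nat_lit 16) (nat_lit 0x4006003001006003008001004)) (.cD (nat_lit 22) (.kc (nat_lit 16) (nat_lit 0x4004003001006003008001004)) (.cD (nat_lit 24) (.kc (nat_lit 22) (nat_lit 0xb001001)) (.cD (nat_lit 28) (.kc (nat_lit 14) (nat_lit 0x7001001)) .nil)))))))))))))))) (.cD (nat_lit 24) (.dfs (nat_lit 2) (nat_lit 1) (nat_lit 1) (nat_lit 0x1004002001) (nat_lit 0x1004002001) (nat_lit 0) (nat_lit 0) (nat_lit 0) (nat_lit 0) (nat_lit 0) (nat_lit 0) (nat_lit 1) (nat_lit 0) (nat_lit 0x1002001) (nat_lit 8193) (nat_lit 0x1001001000002001005000006001011000012001015000016) (nat_lit 0x11771176) (.cD (nat_lit 1) (.kA false (nat_lit 0x5001007008002008004005002005001004002008001003)) (.cD (nat_lit 2) (.dfs (nat_lit 1) (nat_lit 0x100100400c006) (nat_lit 0x100500400c006) (nat_lit 0x1008002) (nat_lit 0x1008002) (nat_lit 0) (nat_lit 0) (nat_lit 2) (nat_lit 0) (nat_lit 0) (nat_lit 1) (nat_lit 1) (nat_lit 0) (nat_lit 4098) (nat_lit 2) (nat_lit 0x1000001000005000011000015) (nat_lit 0x220022) (.cD (nat_lit 1) (.extn (nat_lit 0x1f01e01d01c00700600500401701601501400f00e00d00c01301201101000b00a00900801b01a019018003002001000) (nat_lit 0x10008004002001) (nat_lit 0x1002008004010) (nat_lit 2) (nat_lit 0) (nat_lit 0) (nat_lit 0) (nat_lit 0x10100101) (.cE (nat_lit 0) (nat_lit 0x1f01e01d01c00700600500401701601501400f00e00d00c01301201101000b00a00900801b01a019018003002001000) (nat_lit 0) (.iso x17 s94 (nat_lit 2) (nat_lit 0x1020010018002004001) (nat_lit 0x20010018002004001) [(nat_lit 0x8004002001005001), (nat_lit 0x8004002001003001)] (.cut (nat_lit 3))) .nil (.cE (nat_lit 8) (nat_lit 0x1701601501400f00e00d00c01f01e01d01c00700600500401b01a01901800300200100001301201101000b00a009008) (nat_lit 0) (.iso x58 s95 (nat_lit 3) (nat_lit 0x1020010018002004001) (nat_lit 0x20010018002004001) [(nat_lit 0x8004002001005001)] (.cut (nat_lit 4))) .nil (.cE (nat_lit 20) (nat_lit 0xb00a00900801301201101000300200100001b01a01901800700600500401f01e01d01c00f00e00d00c017016015014) (nat_lit 0) (.iso x58 s95 (nat_lit 3) (nat_lit 0x1020010018002004009) (nat_lit 0x20010018002004019) [(nat_lit 0x8004002001005001)] (.cut (nat_lit 4))) .nil (.cE (nat_lit 28) (nat_lit 0x300200100001b01a01901800b00a00900801301201101000f00e00d00c01701601501400700600500401f01e01d01c) (nat_lit 0) (.iso x17 s94 (nat_lit 2) (nat_lit 0x1020010018002004009) (nat_lit 0x20010018002004019) [(nat_lit 0x8004002001005001), (nat_lit 0x8004002001003001)] (.cut (nat_lit 3))) .nil .nil))))) (.cD (nat_lit 5) (.kc (nat_lit 16) (nat_lit 0xc00501100100500500d003006001006003010001007)) (.cD (nat_lit 17) (.kc (nat_lit 16) (nat_lit 0x400600100200500500d003006001006003010001007)) (.cD (nat_lit 21) (.kA true (nat_lit 0x1400101000c00100f00400100200500100800c010001003)) .nil))))) (.cD (nat_lit 4) (.kc (nat_lit 26) (nat_lit 0xd001001)) (.cD (nat_lit 5) (.kA false (nat_lit 0xc00d00b00800200e004005002005001004002008001003)) (.cD (nat_lit 6) (.kc (nat_lit 16) (nat_lit 0x4004001002006003008001004)) (.cD (nat_lit 8) (.kc (nat_lit 10) (nat_lit 0x5001001)) (.cD (nat_lit 12) (.kc (nat_lit 18) (nat_lit 0x9001001)) (.cD (nat_lit 16) (.kc (nat_lit 14) (nat_lit 0x7001001)) (.cD (nat_lit 17) (.kc (nat_lit 16) (nat_lit 0xc005003001006003008001004)) (.cD (nat_lit 18) (.kc (nat_lit 16) (nat_lit 0xc003003001006003008001004)) (.cD (nat_lit 20) (.kc (nat_lit 22) (nat_lit 0xb001001)) (.cD (nat_lit 21) (.kA false (nat_lit 0xa00b00d00800200f004005002005001004002008001003)) (.cD (nat_lit 22) (.dfs (nat_lit 1) (nat_lit 0x100b00400c006) (nat_lit 0x100f00400c006) (nat_lit 0x1008002001) (nat_lit 0x1008002005) (nat_lit 0) (nat_lit 0) (nat_lit 2) (nat_lit 0) (nat_lit 0) (nat_lit 1) (nat_lit 1) (nat_lit 0) (nat_lit 4098) (nat_lit 2) (nat_lit 0x1000001000005000011000015) (nat_lit 0x220022) (.cD (nat_lit 1) (.extn (nat_lit 0xb00a01d01c01301200500400300201501401b01a00d00c00700601101001f01e00900800f00e019018017016001000) (nat_lit 0x10008004002001) (nat_lit 0x1002008004010) (nat_lit 2) (nat_lit 0) (nat_lit 0) (nat_lit 0) (nat_lit 0x10100101) (.cE (nat_lit 0) (nat_lit 0xb00a01d01c01301200500400300201501401b01a00d00c00700601101001f01e00900800f00e019018017016001000) (nat_lit 0) (.iso x1 s23 (nat_lit 0) (nat_lit 0x1020010018002004003) (nat_lit 0x20010018002004005) [(nat_lit 0x8004002001005001), (nat_lit 0x8004002001003001)] (.cut (nat_lit 1))) .nil (.cE (nat_lit 8) (nat_lit 0x300201501401b01a00d00c00b00a01d01c01301200500400f00e01901801701600100000700601101001f01e009008) (nat_lit 0) (.iso x16 s24 (nat_lit 1) (nat_lit 0x1020010018002004003) (nat_lit 0x20010018002004005) [(nat_lit 0x8004002001005001), (nat_lit 0x8004002001003001)] (.cut (nat_lit 2))) .nil (.cE (nat_lit 20) (nat_lit 0x1f01e00900800700601101001701600100000f00e01901801301200500400b00a01d01c01b01a00d00c003002015014) (nat_lit 0) (.iso x16 s24 (nat_lit 1) (nat_lit 0x102001001800200400b) (nat_lit 0x2001001800200401d) [(nat_lit 0x8004002001005001), (nat_lit 0x8004002001003001)] (.cut (nat_lit 2))) .nil (.cE (nat_lit 28) (nat_lit 0x1701600100000f00e01901801f01e00900800700601101001b01a00d00c00300201501401301200500400b00a01d01c) (nat_lit 0) (.iso x1 s23 (nat_lit 0) (nat_lit 0x102001001800200400b) (nat_lit 0x2001001800200401d) [(nat_lit 0x8004002001005001), (nat_lit 0x8004002001003001)] (.cut (nat_lit 1))) .nil .nil))))) (.cD (nat_lit 5) (.kA true (nat_lit 0x500801000c00100100800c010001002)) (.cD (nat_lit 17) (.kA true (nat_lit 0x1100801000c00100100800c010001002)) (.cD (nat_lit 21) (.kA true (nat_lit 0x1400101000c00100f00400100200500100800c010001003)) .nil))))) (.cD (nat_lit 24) (.kc (nat_lit 6) (nat_lit 0x3001001)) (.cD (nat_lit 28) (.kc (nat_lit 30) (nat_lit 0xf001001)) .nil)))))))))))))))) (.cD (nat_lit 28) (.dfs (nat_lit 2) (nat_lit 1) (nat_lit 1) (nat_lit 0x1004002001) (nat_lit 0x1004002001) (nat_lit 0) (nat_lit 0) (nat_lit 0) (nat_lit 0) (nat_lit 0) (nat_lit 0) (nat_lit 1) (nat_lit 0) (nat_lit 0x1002001) (nat_lit 8193) (nat_lit 0x1001001000002001005000006001011000012001015000016) (nat_lit 0x11771176) (.cD (nat_lit 1) (.dfs (nat_lit 1) (nat_lit 0x100100400800a) (nat_lit 0x100500400800a) (nat_lit 4098) (nat_lit 4098) (nat_lit 0) (nat_lit 0) (nat_lit 2) (nat_lit 1) (nat_lit 0) (nat_lit 2) (nat_lit 1) (nat_lit 0) (nat_lit 4097) (nat_lit 1) (nat_lit 0x1000002000006000012000016) (nat_lit 0x440044) (.cD (nat_lit 2) (.kA false (nat_lit 0x200801801400100100801c00c001002008004010001003)) (.cD (nat_lit 6) (.kc (nat_lit 16) (nat_lit 0x4006001002006003010001004)) (.cD (nat_lit 18) (.kc (nat_lit 16) (nat_lit 0xc00301d001007005014002004)) (.cD (nat_lit 22) (.kA false (nat_lit 0x1600801801400100100801c00c001002008004010001003)) .nil))))) (.cD (nat_lit 2) (.kA false (nat_lit 0x500100900a00100800400500300300100400c00a002003)) (.cD (nat_lit 4) (.kc (nat_lit 26) (nat_lit 0xd001001)) (.cD (nat_lit 5) (.kc (nat_lit 16) (nat_lit 0xc00500900100500300d005003001006003008001007)) (.cD (nat_lit 6) (.kc (nat_lit 16) (nat_lit 0x4004001002006003008001004)) (.cD (nat_lit 8) (.kc (nat_lit 10) (nat_lit 0x5001001)) (.cD (nat_lit 12) (.kc (nat_lit 18) (nat_lit 0x9001001)) (.cD (nat_lit 16) (.kc (nat_lit 22) (nat_lit 0xb001001)) (.cD (nat_lit 17) (.kc (nat_lit 16) (nat_lit 0x400400100200500500500400900200700500a002007)) (.cD (nat_lit 18) (.kA false (nat_lit 0xf00100900a00100b00400500300300b00400c00a002003)) (.cD (nat_lit 20) (.kc (nat_lit 14) (nat_lit 0x7001001)) (.cD (nat_lit 21) (.kc (nat_lit 16) (nat_lit 0xc005003001006003008001004)) (.cD (nat_lit 22) (.kc (nat_lit 16) (nat_lit 0xc003003001006003008001004)) (.cD (nat_lit 24) (.kc (nat_lit 30) (nat_lit 0xf001001)) (.cD (nat_lit 28) (.kc (nat_lit 6) (nat_lit 0x3001001)) .nil)))))))))))))))) .nil)))))))) (.cD (nat_lit 12) (.kc (nat_lit 24) (nat_lit 0x3001001)) (.cD (nat_lit 16) (.kc (nat_lit 16) (nat_lit 0x1002001)) (.cD (nat_lit 20) (.dfs (nat_lit 4) (nat_lit 1) (nat_lit 1) (nat_lit 0x1002001) (nat_lit 0x1002001) (nat_lit 0) (nat_lit 0) (nat_lit 0) (nat_lit 0) (nat_lit 0) (nat_lit 0) (nat_lit 0x1002001) (nat_lit 2) (nat_lit 1) (nat_lit 0) (nat_lit 1) (nat_lit 0x11111110) (.cD (nat_lit 4) (.dfs (nat_lit 2) (nat_lit 1) (nat_lit 1) (nat_lit 0x1004002001) (nat_lit 0x1004002001) (nat_lit 0) (nat_lit 0) (nat_lit 0) (nat_lit 0) (nat_lit 0) (nat_lit 0) (nat_lit 1) (nat_lit 0) (nat_lit 0x1002001) (nat_lit 8193) (nat_lit 0x1001001000002001005000006001011000012001015000016) (nat_lit 0x11771176) (.cD (nat_lit 1) (.kA false (nat_lit 0xb004002008002002002000001004002008001003)) (.cD (nat_lit 2) (.kA false (nat_lit 0x500a002006001001001000001004002008001003)) (.cD (nat_lit 4) (.kc (nat_lit 6) (nat_lit 0x3001001)) (.cD (nat_lit 5) (.kc (nat_lit 16) (nat_lit 0x4006003001006003008001004)) (.cD (nat_lit 6) (.kc (nat_lit 16) (nat_lit 0x4004003001006003008001004)) (.cD (nat_lit 8) (.kc (nat_lit 22) (nat_lit 0xb001001)) (.cD (nat_lit 12) (.kc (nat_lit 18) (nat_lit 0x9001001)) (.cD (nat_lit 16) (.kc (nat_lit 14) (nat_lit 0x7001001)) (.cD (nat_lit 17) (.kc (nat_lit 16) (nat_lit 0x400600700100e004008001004)) (.cD (nat_lit 18) (.kc (nat_lit 16) (nat_lit 0xc003005002006003008001004)) (.cD (nat_lit 20) (.kc (nat_lit 10) (nat_lit 0x5001001)) (.cD (nat_lit 21) (.kA false (nat_lit 0xb004002008002002002000001004002008001003)) (.cD (nat_lit 22) (.kA false (nat_lit 0xb00a002006001001004002008001002)) (.cD (nat_lit 24) (.kc (nat_lit 26) (nat_lit 0xd001001)) (.cD (nat_lit 28) (.kc (nat_lit 30) (nat_lit 0xf001001)) .nil)))))))))))))))) (.cD (nat_lit 8) (.dfs (nat_lit 2) (nat_lit 1) (nat_lit 1) (nat_lit 0x1004002001) (nat_lit 0x1004002001) (nat_lit 0) (nat_lit 0) (nat_lit 0) (nat_lit 0) (nat_lit 0) (nat_lit 0) (nat_lit 1) (nat_lit 0) (nat_lit 0x1002001) (nat_lit 8193) (nat_lit 0x1001001000002001005000006001011000012001015000016) (nat_lit 0x11771176) (.cD (nat_lit 1) (.kc (nat_lit 16) (nat_lit 0xc005003001006003008001004)) (.cD (nat_lit 2) (.kc (nat_lit 16) (nat_lit 0xc003003001006003008001004)) (.cD (nat_lit 4) (.kc (nat_lit 22) (nat_lit 0xb001001)) (.cD (nat_lit 5) (.kc (nat_lit 16) (nat_lit 0x400600b00100700300e002004)) (.cD (nat_lit 6) (.kc (nat_lit 16) (nat_lit 0x4004001002006003008001004)) (.cD (nat_lit 8) (.kc (nat_lit 6) (nat_lit 0x3001001)) (.cD (nat_lit 12) (.kc (nat_lit 18) (nat_lit 0x9001001)) (.cD (nat_lit 16) (.kc (nat_lit 30) (nat_lit 0xf001001)) (.cD (nat_lit 17) (.kc (nat_lit 16) (nat_lit 0x400600f00100f00400e002004)) (.cD (nat_lit 18) (.kc (nat_lit 16) (nat_lit 0xc003005002006003008001004)) (.cD (nat_lit 20) (.kc (nat_lit 10) (nat_lit 0x5001001)) (.cD (nat_lit 21) (.kc (nat_lit 16) (nat_lit 0xc00500700100e004008001004)) (.cD (nat_lit 22) (.kc (nat_lit 16) (nat_lit 0xc00300700100e004008001004)) (.cD (nat_lit 24) (.kc (nat_lit 26) (nat_lit 0xd001001)) (.cD (nat_lit 28) (.kc (nat_lit 14) (nat_lit 0x7001001)) .nil)))))))))))))))) (.cD (nat_lit 12) (.kc (nat_lit 20) (nat_lit 0x5001001)) (.cD (nat_lit 16) (.dfs (nat_lit 2) (nat_lit 1) (nat_lit 1) (nat_lit 0x1004002001) (nat_lit 0x1004002001) (nat_lit 0) (nat_lit 0) (nat_lit 0) (nat_lit 0) (nat_lit 0) (nat_lit 0) (nat_lit 1) (nat_lit 0) (nat_lit 0x1002001) (nat_lit 8193) (nat_lit 0x1001001000002001005000006001011000012001015000016) (nat_lit 0x11771176) (.cD (nat_lit 1) (.kA false (nat_lit 0xf004002008002002002000001004002008001003)) (.cD (nat_lit 2) (.kA false (nat_lit 0xf004002008002001001000001004002008001003)) (.cD (nat_lit 4) (.kc (nat_lit 14) (nat_lit 0x7001001)) (.cD (nat_lit 5) (.kc (nat_lit 16) (nat_lit 0x400600700100e004008001004)) (.cD (nat_lit 6) (.kc (nat_lit 16) (nat_lit 0x4004001002006003008001004)) (.cD (nat_lit 8) (.kc (nat_lit 30) (nat_lit 0xf001001)) (.cD (nat_lit 12) (.kc (nat_lit 18) (nat_lit 0x9001001)) (.cD (nat_lit 16) (.kc (nat_lit 6) (nat_lit 0x3001001)) (.cD (nat_lit 17) (.kc (nat_lit 16) (nat_lit 0x4006003001006003008001004)) (.cD (nat_lit 18) (.kc (nat_lit 16) (nat_lit 0x4004003001006003008001004)) (.cD (nat_lit 20) (.kc (nat_lit 10) (nat_lit 0x5001001)) (.cD (nat_lit 21) (.kA false (nat_lit 0xf004002008002002002000001004002008001003)) (.cD (nat_lit 22) (.kA false (nat_lit 0xf004002008002001001000001004002008001003)) (.cD (nat_lit 24) (.kc (nat_lit 26) (nat_lit 0xd001001)) (.cD (nat_lit 28) (.kc (nat_lit 22) (nat_lit 0xb001001)) .nil)))))))))))))))) (.cD (nat_lit 20) (.kc (nat_lit 12) (nat_lit 0x3001001)) (.cD (nat_lit 24) (.kc (nat_lit 28) (nat_lit 0x7001001)) (.cD (nat_lit 28) (.kc (nat_lit 16) (nat_lit 0x3001004001002)) .nil)))))))) (.cD (nat_lit 24) (.dfs (nat_lit 4) (nat_lit 1) (nat_lit 1) (nat_lit 0x1002001) (nat_lit 0x1002001) (nat_lit 0) (nat_lit 0) (nat_lit 0) (nat_lit 0) (nat_lit 0) (nat_lit 0) (nat_lit 0x1002001) (nat_lit 2) (nat_lit 1) (nat_lit 0) (nat_lit 1) (nat_lit 0x11111110) (.cD (nat_lit 4) (.dfs (nat_lit 2) (nat_lit 1) (nat_lit 1) (nat_lit 0x1004002001) (nat_lit 0x1004002001) (nat_lit 0) (nat_lit 0) (nat_lit 0) (nat_lit 0) (nat_lit 0) (nat_lit 0) (nat_lit 1) (nat_lit 0) (nat_lit 0x1002001) (nat_lit 8193) (nat_lit 0x1001001000002001005000006001011000012001015000016) (nat_lit 0x11771176) (.cD (nat_lit 1) (.kc (nat_lit 16) (nat_lit 0xc00500b00100700300e002004)) (.cD (nat_lit 2) (.kc (nat_lit 16) (nat_lit 0xc00300b00100700300e002004)) (.cD (nat_lit 4) (.kc (nat_lit 6) (nat_lit 0x3001001)) (.cD (nat_lit 5) (.kc (nat_lit 16) (nat_lit 0x4006003001006003008001004)) (.cD (nat_lit 6) (.kc (nat_lit 16) (nat_lit 0x4004003001006003008001004)) (.cD (nat_lit 8) (.kc (nat_lit 22) (nat_lit 0xb001001)) (.cD (nat_lit 12) (.kc (nat_lit 18) (nat_lit 0x9001001)) (.cD (nat_lit 16) (.kc (nat_lit 30) (nat_lit 0xf001001)) (.cD (nat_lit 17) (.kc (nat_lit 16) (nat_lit 0x400600f00100f00400e002004)) (.cD (nat_lit 18) (.kc (nat_lit 16) (nat_lit 0x400400f00100f00400e002004)) (.cD (nat_lit 20) (.kc (nat_lit 26) (nat_lit 0xd001001)) (.cD (nat_lit 21) (.kc (nat_lit 16) (nat_lit 0xc00500700100e004008001004)) (.cD (nat_lit 22) (.kc (nat_lit 16) (nat_lit 0xc00300700100e004008001004)) (.cD (nat_lit 24) (.kc (nat_lit 10) (nat_lit 0x5001001)) (.cD (nat_lit 28) (.kc (nat_lit 14) (nat_lit 0x7001001)) .nil)))))))))))))))) (.cD (nat_lit 8) (.kF (nat_lit 8) (nat_lit 0x5004002001003002002)) (.cD (nat_lit 12) (.kc (nat_lit 20) (nat_lit 0x5001001)) (.cD (nat_lit 16) (.kc (nat_lit 16) (nat_lit 0x3001004001002)) (.cD (nat_lit 20) (.kc (nat_lit 28) (nat_lit 0x7001001)) (.cD (nat_lit 24) (.kc (nat_lit 12) (nat_lit 0x3001001)) (.cD (nat_lit 28) (.kc (nat_lit 16) (nat_lit 0x2002006002005002003)) .nil)))))))) (.cD (nat_lit 28) (.dfs (nat_lit 4) (nat_lit 1) (nat_lit 1) (nat_lit 0x1002001) (nat_lit 0x1002001) (nat_lit 0) (nat_lit 0) (nat_lit 0) (nat_lit 0) (nat_lit 0) (nat_lit 0) (nat_lit 0x1002001) (nat_lit 2) (nat_lit 1) (nat_lit 0) (nat_lit 1) (nat_lit 0x11111110) (.cD (nat_lit 4) (.dfs (nat_lit 2) (nat_lit 1) (nat_lit 1) (nat_lit 0x1004002001) (nat_lit 0x1004002001) (nat_lit 0) (nat_lit 0) (nat_lit 0) (nat_lit 0) (nat_lit 0) (nat_lit 0) (nat_lit 1) (nat_lit 0) (nat_lit 0x1002001) (nat_lit 8193) (nat_lit 0x1001001000002001005000006001011000012001015000016) (nat_lit 0x11771176) (.cD (nat_lit 1) (.kA false (nat_lit 0xb004002008002002002000001004002008001003)) (.cD (nat_lit 2) (.kA false (nat_lit 0xb004002008002001001000001004002008001003)) (.cD (nat_lit 4) (.kc (nat_lit 6) (nat_lit 0x3001001)) (.cD (nat_lit 5) (.kc (nat_lit 16) (nat_lit 0x4006003001006003008001004)) (.cD (nat_lit 6) (.kc (nat_lit 16) (nat_lit 0x4004003001006003008001004)) (.cD (nat_lit 8) (.kc (nat_lit 22) (nat_lit 0xb001001)) (.cD (nat_lit 12) (.kc (nat_lit 18) (nat_lit 0x9001001)) (.cD (nat_lit 16) (.kc (nat_lit 26) (nat_lit 0xd001001)) (.cD (nat_lit 17) (.kc (nat_lit 16) (nat_lit 0xc00500700100e004008001004)) (.cD (nat_lit 18) (.kc (nat_lit 16) (nat_lit 0xc00300700100e004008001004)) (.cD (nat_lit 20) (.kc (nat_lit 30) (nat_lit 0xf001001)) (.cD (nat_lit 21) (.kA false (nat_lit 0xb004002008002002002000001004002008001003)) (.cD (nat_lit 22) (.kA false (nat_lit 0xb004002008002001001000001004002008001003)) (.cD (nat_lit 24) (.kc (nat_lit 14) (nat_lit 0x7001001)) (.cD (nat_lit 28) (.kc (nat_lit 10) (nat_lit 0x5001001)) .nil)))))))))))))))) (.cD (nat_lit 8) (.kc (nat_lit 16) (nat_lit 0x2002007002006002003)) (.cD (nat_lit 12) (.kc (nat_lit 20) (nat_lit 0x5001001)) (.cD (nat_lit 16) (.kc (nat_lit 28) (nat_lit 0x7001001)) (.cD (nat_lit 20) (.kc (nat_lit 16) (nat_lit 0x3001004001002)) (.cD (nat_lit 24) (.dfs (nat_lit 2) (nat_lit 1) (nat_lit 1) (nat_lit 0x1004002001) (nat_lit 0x1004002001) (nat_lit 0) (nat_lit 0) (nat_lit 0) (nat_lit 0) (nat_lit 0) (nat_lit 0) (nat_lit 1) (nat_lit 0) (nat_lit 0x1002001) (nat_lit 8193) (nat_lit 0x1001001000002001005000006001011000012001015000016) (nat_lit 0x11771176) (.cD (nat_lit 1) (.kA false (nat_lit 0xf004002008002002002000001004002008001003)) (.cD (nat_lit 2) (.kA false (nat_lit 0xf004002008002001001000001004002008001003)) (.cD (nat_lit 4) (.kc (nat_lit 14) (nat_lit 0x7001001)) (.cD (nat_lit 5) (.kc (nat_lit 16) (nat_lit 0x400600700100e004008001004)) (.cD (nat_lit 6) (.kc (nat_lit 16) (nat_lit 0x4004001002006003008001004)) (.cD (nat_lit 8) (.kc (nat_lit 30) (nat_lit 0xf001001)) (.cD (nat_lit 12) (.kc (nat_lit 18) (nat_lit 0x9001001)) (.cD (nat_lit 16) (.kc (nat_lit 26) (nat_lit 0xd001001)) (.cD (nat_lit 17) (.kc (nat_lit 16) (nat_lit 0xc005003001006003008001004)) (.cD (nat_lit 18) (.kc (nat_lit 16) (nat_lit 0xc003003001006003008001004)) (.cD (nat_lit 20) (.kc (nat_lit 22) (nat_lit 0xb001001)) (.cD (nat_lit 21) (.kA false (nat_lit 0xf004002008002002002000001004002008001003)) (.cD (nat_lit 22) (.kA false (nat_lit 0xf004002008002001001000001004002008001003)) (.cD (nat_lit 24) (.kc (nat_lit 6) (nat_lit 0x3001001)) (.cD (nat_lit 28) (.kc (nat_lit 10) (nat_lit 0x5001001)) .nil)))))))))))))))) (.cD (nat_lit 28) (.kc (nat_lit 12) (nat_lit 0x3001001)) .nil)))))))) .nil)))))))) (.cD (nat_lit 16) (.kin (nat_lit 1) (nat_lit 0)) (.cD (nat_lit 17) (.kn (nat_lit 1) (nat_lit 0x1010008004002001) false (nat_lit 4098) (nat_lit 2) (nat_lit 0x1000011)) (.cD (nat_lit 18) (.kn (nat_lit 1) (nat_lit 0x1010008004002001) false (nat_lit 4097) (nat_lit 1) (nat_lit 0x1000012)) (.cD (nat_lit 20) (.dfs (nat_lit 8) (nat_lit 1) (nat_lit 1) (nat_lit 4097) (nat_lit 4097) (nat_lit 0) (nat_lit 0) (nat_lit 0) (nat_lit 0) (nat_lit 0) (nat_lit 0) (nat_lit 0x1002001) (nat_lit 1) (nat_lit 1) (nat_lit 0) (nat_lit 1) (nat_lit 0x11111110) (.cD (nat_lit 4) (.dfs (nat_lit 4) (nat_lit 1) (nat_lit 1) (nat_lit 0x1002001) (nat_lit 0x1002001) (nat_lit 0) (nat_lit 0) (nat_lit 0) (nat_lit 0) (nat_lit 0) (nat_lit 0) (nat_lit 0x1002001) (nat_lit 2) (nat_lit 1) (nat_lit 0) (nat_lit 1) (nat_lit 0x11111110) (.cD (nat_lit 4) (.kc (nat_lit 12) (nat_lit 0x3001001)) (.cD (nat_lit 8) (.dfs (nat_lit 2) (nat_lit 1) (nat_lit 1) (nat_lit 0x1004002001) (nat_lit 0x1004002001) (nat_lit 0) (nat_lit 0) (nat_lit 0) (nat_lit 0) (nat_lit 0) (nat_lit 0) (nat_lit 1) (nat_lit 0) (nat_lit 0x1002001) (nat_lit 8193) (nat_lit 0x1001001000002001005000006001011000012001015000016) (nat_lit 0x11771176) (.cD (nat_lit 1) (.kA false (nat_lit 0x3004002008002002002000001004002008001003)) (.cD (nat_lit 2) (.kA false (nat_lit 0x3004002008002001001000001004002008001003)) (.cD (nat_lit 4) (.kc (nat_lit 10) (nat_lit 0x5001001)) (.cD (nat_lit 5) (.kA false (nat_lit 0x3004002008002002002000001004002008001003)) (.cD (nat_lit 6) (.kA false (nat_lit 0x3004002008002001001000001004002008001003)) (.cD (nat_lit 8) (.kc (nat_lit 6) (nat_lit 0x3001001)) (.cD (nat_lit 12) (.kc (nat_lit 14) (nat_lit 0x7001001)) (.cD (nat_lit 16) (.kc (nat_lit 26) (nat_lit 0xd001001)) (.cD (nat_lit 17) (.kc (nat_lit 16) (nat_lit 0xc00300500200f006008001004)) (.cD (nat_lit 18) (.kc (nat_lit 16) (nat_lit 0x400400100200500300c002004)) (.cD (nat_lit 20) (.kc (nat_lit 18) (nat_lit 0x9001001)) (.cD (nat_lit 21) (.kc (nat_lit 16) (nat_lit 0x400400100200f006008001004)) (.cD (nat_lit 22) (.kc (nat_lit 16) (nat_lit 0x400400900100500300c002004)) (.cD (nat_lit 24) (.kc (nat_lit 30) (nat_lit 0xf001001)) (.cD (nat_lit 28) (.kc (nat_lit 22) (nat_lit 0xb001001)) .nil)))))))))))))))) (.cD (nat_lit 12) (.dfs (nat_lit 2) (nat_lit 1) (nat_lit 1) (nat_lit 0x1004002001) (nat_lit 0x1004002001) (nat_lit 0) (nat_lit 0) (nat_lit 0) (nat_lit 0) (nat_lit 0) (nat_lit 0) (nat_lit 1) (nat_lit 0) (nat_lit 0x1002001) (nat_lit 8193) (nat_lit 0x1001001000002001005000006001011000012001015000016) (nat_lit 0x11771176) (.cD (nat_lit 1) (.kA false (nat_lit 0x7004002008002002002000001004002008001003)) (.cD (nat_lit 2) (.kA false (nat_lit 0x7004002008002001001000001004002008001003)) (.cD (nat_lit 4) (.kc (nat_lit 10) (nat_lit 0x5001001)) (.cD (nat_lit 5) (.kA false (nat_lit 0x7004002008002002002000001004002008001003)) (.cD (nat_lit 6) (.kA false (nat_lit 0x7004002008002001001000001004002008001003)) (.cD (nat_lit 8) (.kc (nat_lit 14) (nat_lit 0x7001001)) (.cD (nat_lit 12) (.kc (nat_lit 6) (nat_lit 0x3001001)) (.cD (nat_lit 16) (.kc (nat_lit 26) (nat_lit 0xd001001)) (.cD (nat_lit 17) (.kc (nat_lit 16) (nat_lit 0xc00300500200f006008001004)) (.cD (nat_lit 18) (.kc (nat_lit 16) (nat_lit 0x400400100200500300c002004)) (.cD (nat_lit 20) (.kc (nat_lit 18) (nat_lit 0x9001001)) (.cD (nat_lit 21) (.kc (nat_lit 16) (nat_lit 0x400400100200f006008001004)) (.cD (nat_lit 22) (.kc (nat_lit 16) (nat_lit 0x400400900100500300c002004)) (.cD (nat_lit 24) (.kc (nat_lit 22) (nat_lit 0xb001001)) (.cD (nat_lit 28) (.kc (nat_lit 30) (nat_lit 0xf001001)) .nil)))))))))))))))) (.cD (nat_lit 16) (.kc (nat_lit 28) (nat_lit 0x7001001)) (.cD (nat_lit 20) (.kc (nat_lit 20) (nat_lit 0x5001001)) (.cD (nat_lit 24) (.kc (nat_lit 16) (nat_lit 0x2002001002006002003)) (.cD (nat_lit 28) (.kc (nat_lit 16) (nat_lit 0x5001004001002)) .nil)))))))) (.cD (nat_lit 8) (.dfs (nat_lit 4) (nat_lit 1) (nat_lit 1) (nat_lit 0x1002001) (nat_lit 0x1002001) (nat_lit 0) (nat_lit 0) (nat_lit 0) (nat_lit 0) (nat_lit 0) (nat_lit 0) (nat_lit 0x1002001) (nat_lit 2) (nat_lit 1) (nat_lit 0) (nat_lit 1) (nat_lit 0x11111110) (.cD (nat_lit 4) (.dfs (nat_lit 2) (nat_lit 1) (nat_lit 1) (nat_lit 0x1004002001) (nat_lit 0x1004002001) (nat_lit 0) (nat_lit 0) (nat_lit 0) (nat_lit 0) (nat_lit 0) (nat_lit 0) (nat_lit 1) (nat_lit 0) (nat_lit 0x1002001) (nat_lit 8193) (nat_lit 0x1001001000002001005000006001011000012001015000016) (nat_lit 0x11771176) (.cD (nat_lit 1) (.kA true (nat_lit 0x500100300a00100800400600300300100400600a002003)) (.cD (nat_lit 2) (.dfs (nat_lit 1) (nat_lit 0x100100400200a) (nat_lit 0x100500400200a) (nat_lit 4104) (nat_lit 4104) (nat_lit 0) (nat_lit 0) (nat_lit 2) (nat_lit 0) (nat_lit 0) (nat_lit 1) (nat_lit 1) (nat_lit 0) (nat_lit 4098) (nat_lit 2) (nat_lit 0x1000001000005000011000015) (nat_lit 0x220022) (.cD (nat_lit 1) (.extn (nat_lit 0x1b01a01901801f01e01d01c01301201101001701601501400f00e00d00c00b00a009008007006005004003002001000) (nat_lit 0x10008004002001) (nat_lit 0x1002008004010) (nat_lit 2) (nat_lit 0) (nat_lit 0) (nat_lit 0) (nat_lit 4369) (.cE (nat_lit 0) (nat_lit 0x1b01a01901801f01e01d01c01301201101001701601501400f00e00d00c00b00a009008007006005004003002001000) (nat_lit 0) (.iso x17 s94 (nat_lit 2) (nat_lit 0x1020010028004002001) (nat_lit 0x20010028004002001) [(nat_lit 0x8004003001003001), (nat_lit 0x8004003001005001)] (.cut (nat_lit 3))) .nil (.cE (nat_lit 4) (nat_lit 0x1f01e01d01c01b01a01901801701601501401301201101000b00a00900800f00e00d00c003002001000007006005004) (nat_lit 0) (.iso x17 s94 (nat_lit 2) (nat_lit 0x1020010028004002021) (nat_lit 0x20010028004002021) [(nat_lit 0x8004003001003001), (nat_lit 0x8004003001005001)] (.cut (nat_lit 3))) .nil (.cE (nat_lit 8) (nat_lit 0x1301201101001701601501401b01a01901801f01e01d01c00700600500400300200100000f00e00d00c00b00a009008) (nat_lit 0) (.iso x58 s95 (nat_lit 3) (nat_lit 0x1020010028004002001) (nat_lit 0x20010028004002001) [(nat_lit 0x8004003001003001)] (.cut (nat_lit 4))) .nil (.cE (nat_lit 12) (nat_lit 0x1701601501401301201101001f01e01d01c01b01a01901800300200100000700600500400b00a00900800f00e00d00c) (nat_lit 0) (.iso x58 s95 (nat_lit 3) (nat_lit 0x1020010028004002021) (nat_lit 0x20010028004002021) [(nat_lit 0x8004003001003001)] (.cut (nat_lit 4))) .nil .nil))))) (.cD (nat_lit 5) (.extn (nat_lit 0x1f01a01d01801b01e01901c01701201501001301601101400b00e00900c00f00a00d008003006001004007002005000) (nat_lit 0x10008004002001) (nat_lit 0x1002008004010) (nat_lit 2) (nat_lit 0) (nat_lit 0) (nat_lit 0) (nat_lit 4369) (.cE (nat_lit 0) (nat_lit 0x1f01a01d01801b01e01901c01701201501001301601101400b00e00900c00f00a00d008003006001004007002005000) (nat_lit 0) (.iso x1 s23 (nat_lit 0) (nat_lit 0x1020010028004002001) (nat_lit 0x20010028004002001) [(nat_lit 0x8004003001003001), (nat_lit 0x8004003001005001)] (.cut (nat_lit 1))) .nil (.cE (nat_lit 4) (nat_lit 0x1b01e01901c01f01a01d01801301601101401701201501000f00a00d00800b00e00900c007002005000003006001004) (nat_lit 0) (.iso x1 s23 (nat_lit 0) (nat_lit 0x1020010028004002021) (nat_lit 0x20010028004002021) [(nat_lit 0x8004003001003001), (nat_lit 0x8004003001005001)] (.cut (nat_lit 1))) .nil (.cE (nat_lit 8) (nat_lit 0x1701201501001301601101401f01a01d01801b01e01901c00300600100400700200500000b00e00900c00f00a00d008) (nat_lit 0) (.iso x16 s24 (nat_lit 1) (nat_lit 0x1020010028004002001) (nat_lit 0x20010028004002001) [(nat_lit 0x8004003001003001), (nat_lit 0x8004003001005001)] (.cut (nat_lit 2))) .nil (.cE (nat_lit 12) (nat_lit 0x1301601101401701201501001b01e01901c01f01a01d01800700200500000300600100400f00a00d00800b00e00900c) (nat_lit 0) (.iso x16 s24 (nat_lit 1) (nat_lit 0x1020010028004002021) (nat_lit 0x20010028004002021) [(nat_lit 0x8004003001003001), (nat_lit 0x8004003001005001)] (.cut (nat_lit 2))) .nil .nil))))) (.cD (nat_lit 17) (.kc (nat_lit 16) (nat_lit 0xc00501d001007005010001004)) (.cD (nat_lit 21) (.kc (nat_lit 16) (nat_lit 0xc005009002007005010001004)) .nil))))) (.cD (nat_lit 4) (.kc (nat_lit 6) (nat_lit 0x3001001)) (.cD (nat_lit 5) (.kA false (nat_lit 0x500600200800200600200e00f00500200600100b00100200600800b00400200300500f00200e004006007005001004002008001007)) (.cD (nat_lit 6) (.kA false (nat_lit 0x700100200a00100a004002003003001004002008001003)) (.cD (nat_lit 8) (.kc (nat_lit 10) (nat_lit 0x5001001)) (.cD (nat_lit 12) (.kc (nat_lit 14) (nat_lit 0x7001001)) (.cD (nat_lit 16) (.kc (nat_lit 22) (nat_lit 0xb001001)) (.cD (nat_lit 17) (.kA true (nat_lit 0xf00100300a00100b00400600300300b00400600a002003)) (.cD (nat_lit 18) (.kA false (nat_lit 0x900400200a001001004002008001002)) (.cD (nat_lit 20) (.kc (nat_lit 18) (nat_lit 0x9001001)) (.cD (nat_lit 21) (.kc (nat_lit 16) (nat_lit 0xc003005002007005008001004)) (.cD (nat_lit 22) (.kA false (nat_lit 0xb00400200a001001004002008001002)) (.cD (nat_lit 24) (.kc (nat_lit 30) (nat_lit 0xf001001)) (.cD (nat_lit 28) (.kc (nat_lit 26) (nat_lit 0xd001001)) .nil)))))))))))))))) (.cD (nat_lit 8) (.kc (nat_lit 12) (nat_lit 0x3001001)) (.cD (nat_lit 12) (.dfs (nat_lit 2) (nat_lit 1) (nat_lit 1) (nat_lit 0x1004002001) (nat_lit 0x1004002001) (nat_lit 0) (nat_lit 0) (nat_lit 0) (nat_lit 0) (nat_lit 0) (nat_lit 0) (nat_lit 1) (nat_lit 0) (nat_lit 0x1002001) (nat_lit 8193) (nat_lit 0x1001001000002001005000006001011000012001015000016) (nat_lit 0x11771176) (.cD (nat_lit 1) (.dfs (nat_lit 1) (nat_lit 0x100100400200e) (nat_lit 0x100500400200e) (nat_lit 4104) (nat_lit 4104) (nat_lit 0) (nat_lit 0) (nat_lit 2) (nat_lit 1) (nat_lit 0) (nat_lit 2) (nat_lit 1) (nat_lit 0) (nat_lit 4097) (nat_lit 1) (nat_lit 0x1000002000006000012000016) (nat_lit 0x440044) (.cD (nat_lit 2) (.extn (nat_lit 0x1b01101201001701d01e01c01301901a01801f01501601400f00500600400300900a00800700d00e00c00b001002000) (nat_lit 0x10008004002001) (nat_lit 4112) (nat_lit 1) (nat_lit 4112) (nat_lit 0x10008004002001) (nat_lit 0) (nat_lit 0) .nil) (.cD (nat_lit 6) (.kA false (nat_lit 0x500100c01c00100a00400200300500d00800c01c002003)) (.cD (nat_lit 18) (.kc (nat_lit 16) (nat_lit 0x400401d001007005010001004)) (.cD (nat_lit 22) (.kc (nat_lit 16) (nat_lit 0x400600100200700301c002004)) .nil))))) (.cD (nat_lit 2) (.kA false (nat_lit 0x5001007008002008004006003003001004002008001003)) (.cD (nat_lit 4) (.kc (nat_lit 14) (nat_lit 0x7001001)) (.cD (nat_lit 5) (.kA false (nat_lit 0x700300200e00100e00a00200700400600700200b00200e004002007005001004002008001005)) (.cD (nat_lit 6) (.kA false (nat_lit 0x500700100800200a004006003003001004002008001003)) (.cD (nat_lit 8) (.kc (nat_lit 10) (nat_lit 0x5001001)) (.cD (nat_lit 12) (.kc (nat_lit 6) (nat_lit 0x3001001)) (.cD (nat_lit 16) (.kc (nat_lit 30) (nat_lit 0xf001001)) (.cD (nat_lit 17) (.kc (nat_lit 16) (nat_lit 0xc00500b00100700300e002004)) (.cD (nat_lit 18) (.kc (nat_lit 16) (nat_lit 0xc00300b00100700300e002004)) (.cD (nat_lit 20) (.kc (nat_lit 18) (nat_lit 0x9001001)) (.cD (nat_lit 21) (.kc (nat_lit 16) (nat_lit 0xc003005002007005008001004)) (.cD (nat_lit 22) (.kc (nat_lit 16) (nat_lit 0x400400100200700300e002004)) (.cD (nat_lit 24) (.kc (nat_lit 22) (nat_lit 0xb001001)) (.cD (nat_lit 28) (.kc (nat_lit 26) (nat_lit 0xd001001)) .nil)))))))))))))))) (.cD (nat_lit 16) (.dfs (nat_lit 2) (nat_lit 1) (nat_lit 1) (nat_lit 0x1004002001) (nat_lit 0x1004002001) (nat_lit 0) (nat_lit 0) (nat_lit 0) (nat_lit 0) (nat_lit 0) (nat_lit 0) (nat_lit 1) (nat_lit 0) (nat_lit 0x1002001) (nat_lit 8193) (nat_lit 0x1001001000002001005000006001011000012001015000016) (nat_lit 0x11771176) (.cD (nat_lit 1) (.kA true (nat_lit 0x500100b00200100800400700200300100400e002002003)) (.cD (nat_lit 2) (.dfs (nat_lit 1) (nat_lit 0x100100400a002) (nat_lit 0x100500400a002) (nat_lit 4104) (nat_lit 4104) (nat_lit 0) (nat_lit 0) (nat_lit 2) (nat_lit 0) (nat_lit 0) (nat_lit 1) (nat_lit 1) (nat_lit 0) (nat_lit 4098) (nat_lit 2) (nat_lit 0x1000001000005000011000015) (nat_lit 0x220022) (.cD (nat_lit 1) (.kA true (nat_lit 0x100801d00400100800400b00600600900101101d00100800400500700500100800c010001005)) (.cD (nat_lit 5) (.kc (nat_lit 16) (nat_lit 0xc00501d001007005010001004)) (.cD (nat_lit 17) (.kc (nat_lit 16) (nat_lit 0xc00500d001006005004002004)) (.cD (nat_lit 21) (.kc (nat_lit 16) (nat_lit 0xc005009002007005010001004)) .nil))))) (.cD (nat_lit 4) (.kc (nat_lit 22) (nat_lit 0xb001001)) (.cD (nat_lit 5) (.kc (nat_lit 16) (nat_lit 0xc003005002006005002002004)) (.cD (nat_lit 6) (.kA false (nat_lit 0x500b00200800200a004001003003001004002008001003)) (.cD (nat_lit 8) (.kc (nat_lit 10) (nat_lit 0x5001001)) (.cD (nat_lit 12) (.kc (nat_lit 30) (nat_lit 0xf001001)) (.cD (nat_lit 16) (.kc (nat_lit 6) (nat_lit 0x3001001)) (.cD (nat_lit 17) (.kc (nat_lit 16) (nat_lit 0x400400100200500500d00300d002006005002002007)) (.cD (nat_lit 18) (.kA false (nat_lit 0x5003002008002009004001003003001004002008001003)) (.cD (nat_lit 20) (.kc (nat_lit 18) (nat_lit 0x9001001)) (.cD (nat_lit 21) (.kc (nat_lit 16) (nat_lit 0xc003005002007005008001004)) (.cD (nat_lit 22) (.kA false (nat_lit 0x500900200800200b004001003003001004002008001003)) (.cD (nat_lit 24) (.kc (nat_lit 14) (nat_lit 0x7001001)) (.cD (nat_lit 28) (.kc (nat_lit 26) (nat_lit 0xd001001)) .nil)))))))))))))))) (.cD (nat_lit 20) (.kc (nat_lit 20) (nat_lit 0x5001001)) (.cD (nat_lit 24) (.dfs (nat_lit 2) (nat_lit 1) (nat_lit 1) (nat_lit 0x1004002001) (nat_lit 0x1004002001) (nat_lit 0) (nat_lit 0) (nat_lit 0) (nat_lit 0) (nat_lit 0) (nat_lit 0) (nat_lit 1) (nat_lit 0) (nat_lit 0x1002001) (nat_lit 8193) (nat_lit 0x1001001000002001005000006001011000012001015000016) (nat_lit 0x11771176) (.cD (nat_lit 1) (.dfs (nat_lit 1) (nat_lit 0x100100400a006) (nat_lit 0x100500400a006) (nat_lit 0x1008002) (nat_lit 0x1008002) (nat_lit 0) (nat_lit 0) (nat_lit 2) (nat_lit 1) (nat_lit 0) (nat_lit 2) (nat_lit 1) (nat_lit 0) (nat_lit 4097) (nat_lit 1) (nat_lit 0x1000002000006000012000016) (nat_lit 0x440044) (.cD (nat_lit 2) (.kA false (nat_lit 0x200801c00c001001008018014001002008004010001003)) (.cD (nat_lit 6) (.kc (nat_lit 16) (nat_lit 0x400401d001007005010001004)) (.cD (nat_lit 18) (.kc (nat_lit 16) (nat_lit 0xc00500900201a002007005010001005)) (.cD (nat_lit 22) (.kc (nat_lit 16) (nat_lit 0xc00301900100600100600300c002005)) .nil))))) (.cD (nat_lit 2) (.kA false (nat_lit 0x5001007008002008004005003003001004002008001003)) (.cD (nat_lit 4) (.kc (nat_lit 30) (nat_lit 0xf001001)) (.cD (nat_lit 5) (.kA false (nat_lit 0xf00b00c00600100f00b00500600400e00f00900300200e004005007005001004002008001005)) (.cD (nat_lit 6) (.kc (nat_lit 16) (nat_lit 0x4004001002006003006002004)) (.cD (nat_lit 8) (.kc (nat_lit 10) (nat_lit 0x5001001)) (.cD (nat_lit 12) (.kc (nat_lit 22) (nat_lit 0xb001001)) (.cD (nat_lit 16) (.kc (nat_lit 14) (nat_lit 0x7001001)) (.cD (nat_lit 17) (.kc (nat_lit 16) (nat_lit 0xc005003001006003006002004)) (.cD (nat_lit 18) (.kc (nat_lit 16) (nat_lit 0xc003003001006003006002004)) (.cD (nat_lit 20) (.kc (nat_lit 18) (nat_lit 0x9001001)) (.cD (nat_lit 21) (.kc (nat_lit 16) (nat_lit 0xc003005002007005008001004)) (.cD (nat_lit 22) (.kA false (nat_lit 0x500900f00800200b004005003003001004002008001003)) (.cD (nat_lit 24) (.kc (nat_lit 6) (nat_lit 0x3001001)) (.cD (nat_lit 28) (.kc (nat_lit 26) (nat_lit 0xd001001)) .nil)))))))))))))))) (.cD (nat_lit 28) (.kc (nat_lit 28) (nat_lit 0x7001001)) .nil)))))))) (.cD (nat_lit 12) (.dfs (nat_lit 4) (nat_lit 1) (nat_lit 1) (nat_lit 0x1002001) (nat_lit 0x1002001) (nat_lit 0) (nat_lit 0) (nat_lit 0) (nat_lit 0) (nat_lit 0) (nat_lit 0) (nat_lit 0x1002001) (nat_lit 2) (nat_lit 1) (nat_lit 0) (nat_lit 1) (nat_lit 0x11111110) (.cD (nat_lit 4) (.dfs (nat_lit 2) (nat_lit 1) (nat_lit 1) (nat_lit 0x1004002001) (nat_lit 0x1004002001) (nat_lit 0) (nat_lit 0) (nat_lit 0) (nat_lit 0) (nat_lit 0) (nat_lit 0) (nat_lit 1) (nat_lit 0) (nat_lit 0x1002001) (nat_lit 8193) (nat_lit 0x1001001000002001005000006001011000012001015000016) (nat_lit 0x11771176) (.cD (nat_lit 1) (.kA false (nat_lit 0x7004002008002002002000001004002008001003)) (.cD (nat_lit 2) (.kA false (nat_lit 0x500600200a001001001000001004002008001003)) (.cD (nat_lit 4) (.kc (nat_lit 6) (nat_lit 0x3001001)) (.cD (nat_lit 5) (.kA false (nat_lit 0x7004002008002002002000001004002008001003)) (.cD (nat_lit 6) (.kA false (nat_lit 0x700600200a001001001000001004002008001003)) (.cD (nat_lit 8) (.kc (nat_lit 14) (nat_lit 0x7001001)) (.cD (nat_lit 12) (.kc (nat_lit 10) (nat_lit 0x5001001)) (.cD (nat_lit 16) (.kc (nat_lit 22) (nat_lit 0xb001001)) (.cD (nat_lit 17) (.kc (nat_lit 16) (nat_lit 0xc003005002007005008001004)) (.cD (nat_lit 18) (.kA false (nat_lit 0x900600200a001001004002008001002)) (.cD (nat_lit 20) (.kc (nat_lit 18) (nat_lit 0x9001001)) (.cD (nat_lit 21) (.kc (nat_lit 16) (nat_lit 0x400400100200f006008001004)) (.cD (nat_lit 22) (.kA false (nat_lit 0xb00600200a001001004002008001002)) (.cD (nat_lit 24) (.kc (nat_lit 26) (nat_lit 0xd001001)) (.cD (nat_lit 28) (.kc (nat_lit 30) (nat_lit 0xf001001)) .nil)))))))))))))))) (.cD (nat_lit 8) (.dfs (nat_lit 2) (nat_lit 1) (nat_lit 1) (nat_lit 0x1004002001) (nat_lit 0x1004002001) (nat_lit 0) (nat_lit 0) (nat_lit 0) (nat_lit 0) (nat_lit 0) (nat_lit 0) (nat_lit 1) (nat_lit 0) (nat_lit 0x1002001) (nat_lit 8193) (nat_lit 0x1001001000002001005000006001011000012001015000016) (nat_lit 0x11771176) (.cD (nat_lit 1) (.kA false (nat_lit 0x3004002008002002002000001004002008001003)) (.cD (nat_lit 2) (.kA false (nat_lit 0x3004002008002001001000001004002008001003)) (.cD (nat_lit 4) (.kc (nat_lit 14) (nat_lit 0x7001001)) (.cD (nat_lit 5) (.kA false (nat_lit 0x3004002008002002002000001004002008001003)) (.cD (nat_lit 6) (.kA false (nat_lit 0x3004002008002001001000001004002008001003)) (.cD (nat_lit 8) (.kc (nat_lit 6) (nat_lit 0x3001001)) (.cD (nat_lit 12) (.kc (nat_lit 10) (nat_lit 0x5001001)) (.cD (nat_lit 16) (.kc (nat_lit 30) (nat_lit 0xf001001)) (.cD (nat_lit 17) (.kc (nat_lit 16) (nat_lit 0xc003005002007005008001004)) (.cD (nat_lit 18) (.kc (nat_lit 16) (nat_lit 0x400400f00100f00400e002004)) (.cD (nat_lit 20) (.kc (nat_lit 18) (nat_lit 0x9001001)) (.cD (nat_lit 21) (.kc (nat_lit 16) (nat_lit 0x400400100200f006008001004)) (.cD (nat_lit 22) (.kc (nat_lit 16) (nat_lit 0xc00300b00100700300e002004)) (.cD (nat_lit 24) (.kc (nat_lit 26) (nat_lit 0xd001001)) (.cD (nat_lit 28) (.kc (nat_lit 22) (nat_lit 0xb001001)) .nil)))))))))))))))) (.cD (nat_lit 12) (.kc (nat_lit 12) (nat_lit 0x3001001)) (.cD (nat_lit 16) (.dfs (nat_lit 2) (nat_lit 1) (nat_lit 1) (nat_lit 0x1004002001) (nat_lit 0x1004002001) (nat_lit 0) (nat_lit 0) (nat_lit 0) (nat_lit 0) (nat_lit 0) (nat_lit 0) (nat_lit 1) (nat_lit 0) (nat_lit 0x1002001) (nat_lit 8193) (nat_lit 0x1001001000002001005000006001011000012001015000016) (nat_lit 0x11771176) (.cD (nat_lit 1) (.kc (nat_lit 16) (nat_lit 0xc003005002006005002002004)) (.cD (nat_lit 2) (.kA false (nat_lit 0xf004002008002001001000001004002008001003)) (.cD (nat_lit 4) (.kc (nat_lit 22) (nat_lit 0xb001001)) (.cD (nat_lit 5) (.kc (nat_lit 16) (nat_lit 0x400400100200e006002002004)) (.cD (nat_lit 6) (.kA false (nat_lit 0xf004002008002001001000001004002008001003)) (.cD (nat_lit 8) (.kc (nat_lit 30) (nat_lit 0xf001001)) (.cD (nat_lit 12) (.kc (nat_lit 10) (nat_lit 0x5001001)) (.cD (nat_lit 16) (.kc (nat_lit 6) (nat_lit 0x3001001)) (.cD (nat_lit 17) (.kc (nat_lit 16) (nat_lit 0xc003005002007005008001004)) (.cD (nat_lit 18) (.kA false (nat_lit 0xf004002008002001001000001004002008001003)) (.cD (nat_lit 20) (.kc (nat_lit 18) (nat_lit 0x9001001)) (.cD (nat_lit 21) (.kc (nat_lit 16) (nat_lit 0x400400100200f006008001004)) (.cD (nat_lit 22) (.kA false (nat_lit 0xf004002008002001001000001004002008001003)) (.cD (nat_lit 24) (.kc (nat_lit 26) (nat_lit 0xd001001)) (.cD (nat_lit 28) (.kc (nat_lit 14) (nat_lit 0x7001001)) .nil)))))))))))))))) (.cD (nat_lit 20) (.kc (nat_lit 20) (nat_lit 0x5001001)) (.cD (nat_lit 24) (.kc (nat_lit 28) (nat_lit 0x7001001)) (.cD (nat_lit 28) (.kc (nat_lit 16) (nat_lit 0x5001004001002)) .nil)))))))) (.cD (nat_lit 16) (.kc (nat_lit 16) (nat_lit 0x1002001)) (.cD (nat_lit 20) (.kc (nat_lit 24) (nat_lit 0x3001001)) (.cD (nat_lit 24) (.dfs (nat_lit 4) (nat_lit 1) (nat_lit 1) (nat_lit 0x1002001) (nat_lit 0x1002001) (nat_lit 0) (nat_lit 0) (nat_lit 0) (nat_lit 0) (nat_lit 0) (nat_lit 0) (nat_lit 0x1002001) (nat_lit 2) (nat_lit 1) (nat_lit 0) (nat_lit 1) (nat_lit 0x11111110) (.cD (nat_lit 4) (.kF (nat_lit 8) (nat_lit 0x6005001002004001002)) (.cD (nat_lit 8) (.kc (nat_lit 16) (nat_lit 0x2002006002003002003)) (.cD (nat_lit 12) (.kc (nat_lit 28) (nat_lit 0x7001001)) (.cD (nat_lit 16) (.dfs (nat_lit 2) (nat_lit 1) (nat_lit 1) (nat_lit 0x1004002001) (nat_lit 0x1004002001) (nat_lit 0) (nat_lit 0) (nat_lit 0) (nat_lit 0) (nat_lit 0) (nat_lit 0) (nat_lit 1) (nat_lit 0) (nat_lit 0x1002001) (nat_lit 8193) (nat_lit 0x1001001000002001005000006001011000012001015000016) (nat_lit 0x11771176) (.cD (nat_lit 1) (.kc (nat_lit 16) (nat_lit 0x400200500400900200f006008001005)) (.cD (nat_lit 2) (.kA false (nat_lit 0x7004002008002001001000001004002008001003)) (.cD (nat_lit 4) (.kc (nat_lit 22) (nat_lit 0xb001001)) (.cD (nat_lit 5) (.kc (nat_lit 16) (nat_lit 0xc003005002007005008001004)) (.cD (nat_lit 6) (.kA false (nat_lit 0x7004002008002001001000001004002008001003)) (.cD (nat_lit 8) (.kc (nat_lit 14) (nat_lit 0x7001001)) (.cD (nat_lit 12) (.kc (nat_lit 26) (nat_lit 0xd001001)) (.cD (nat_lit 16) (.kc (nat_lit 6) (nat_lit 0x3001001)) (.cD (nat_lit 17) (.kc (nat_lit 16) (nat_lit 0x400200d00300d002007005008001005)) (.cD (nat_lit 18) (.kA false (nat_lit 0x7004002008002001001000001004002008001003)) (.cD (nat_lit 20) (.kc (nat_lit 18) (nat_lit 0x9001001)) (.cD (nat_lit 21) (.kc (nat_lit 16) (nat_lit 0x400400100200f006008001004)) (.cD (nat_lit 22) (.kA false (nat_lit 0x7004002008002001001000001004002008001003)) (.cD (nat_lit 24) (.kc (nat_lit 10) (nat_lit 0x5001001)) (.cD (nat_lit 28) (.kc (nat_lit 30) (nat_lit 0xf001001)) .nil)))))))))))))))) (.cD (nat_lit 20) (.kc (nat_lit 20) (nat_lit 0x5001001)) (.cD (nat_lit 24) (.kc (nat_lit 12) (nat_lit 0x3001001)) (.cD (nat_lit 28) (.kc (nat_lit 16) (nat_lit 0x5001004001002)) .nil)))))))) (.cD (nat_lit 28) (.dfs (nat_lit 4) (nat_lit 1) (nat_lit 1) (nat_lit 0x1002001) (nat_lit 0x1002001) (nat_lit 0) (nat_lit 0) (nat_lit 0) (nat_lit 0) (nat_lit 0) (nat_lit 0) (nat_lit 0x1002001) (nat_lit 2) (nat_lit 1) (nat_lit 0) (nat_lit 1) (nat_lit 0x11111110) (.cD (nat_lit 4) (.kF (nat_lit 8) (nat_lit 0x7005001002004001002)) (.cD (nat_lit 8) (.kc (nat_lit 28) (nat_lit 0x7001001)) (.cD (nat_lit 12) (.kc (nat_lit 16) (nat_lit 0x6001005001004001003)) (.cD (nat_lit 16) (.dfs (nat_lit 2) (nat_lit 1) (nat_lit 1) (nat_lit 0x1004002001) (nat_lit 0x1004002001) (nat_lit 0) (nat_lit 0) (nat_lit 0) (nat_lit 0) (nat_lit 0) (nat_lit 0) (nat_lit 1) (nat_lit 0) (nat_lit 0x1002001) (nat_lit 8193) (nat_lit 0x1001001000002001005000006001011000012001015000016) (nat_lit 0x11771176) (.cD (nat_lit 1) (.kc (nat_lit 16) (nat_lit 0xc003005002007005008001004)) (.cD (nat_lit 2) (.kA false (nat_lit 0xd004002008002001001000001004002008001003)) (.cD (nat_lit 4) (.kc (nat_lit 22) (nat_lit 0xb001001)) (.cD (nat_lit 5) (.kc (nat_lit 16) (nat_lit 0x400400100200e006002002004)) (.cD (nat_lit 6) (.kA false (nat_lit 0xd004002008002001001000001004002008001003)) (.cD (nat_lit 8) (.kc (nat_lit 26) (nat_lit 0xd001001)) (.cD (nat_lit 12) (.kc (nat_lit 14) (nat_lit 0x7001001)) (.cD (nat_lit 16) (.kc (nat_lit 6) (nat_lit 0x3001001)) (.cD (nat_lit 17) (.kc (nat_lit 16) (nat_lit 0xc003005002006005002002004)) (.cD (nat_lit 18) (.kA false (nat_lit 0xd004002008002001001000001004002008001003)) (.cD (nat_lit 20) (.kc (nat_lit 18) (nat_lit 0x9001001)) (.cD (nat_lit 21) (.kc (nat_lit 16) (nat_lit 0x400400100200f006008001004)) (.cD (nat_lit 22) (.kA false (nat_lit 0xd004002008002001001000001004002008001003)) (.cD (nat_lit 24) (.kc (nat_lit 30) (nat_lit 0xf001001)) (.cD (nat_lit 28) (.kc (nat_lit 10) (nat_lit 0x5001001)) .nil)))))))))))))))) (.cD (nat_lit 20) (.kc (nat_lit 20) (nat_lit 0x5001001)) (.cD (nat_lit 24) (.kc (nat_lit 16) (nat_lit 0x2002007002002)) (.cD (nat_lit 28) (.kc (nat_lit 12) (nat_lit 0x3001001)) .nil)))))))) .nil)))))))) (.cD (nat_lit 21) (.kn (nat_lit 1) (nat_lit 0x1010008004002001) false (nat_lit 4098) (nat_lit 2) (nat_lit 0x1000015)) (.cD (nat_lit 22) (.kn (nat_lit 1) (nat_lit 0x1010008004002001) false (nat_lit 4097) (nat_lit 1) (nat_lit 0x1000016)) (.cD (nat_lit 24) (.dfs (nat_lit 11) (nat_lit 1) (nat_lit 1) (nat_lit 4097) (nat_lit 4097) (nat_lit 0) (nat_lit 1) (nat_lit 0) (nat_lit 0) (nat_lit 0) (nat_lit 0) (nat_lit 1) (nat_lit 0) (nat_lit 4097) (nat_lit 1) (nat_lit 0x1000003000007000013000017) (nat_lit 0x880088) (.cD (nat_lit 3) (.mulh (nat_lit 1) (nat_lit 1) (.dfs (nat_lit 2) (nat_lit 1) (nat_lit 1) (nat_lit 0x1004002001) (nat_lit 0x1004003001) (nat_lit 0) (nat_lit 0) (nat_lit 0) (nat_lit 0) (nat_lit 0) (nat_lit 0) (nat_lit 1) (nat_lit 0) (nat_lit 4099) (nat_lit 11) (nat_lit 0x1000001000002000005000006000011000012000015000016) (nat_lit 0x660066) (.cD (nat_lit 1) (.dfs (nat_lit 4) (nat_lit 1) (nat_lit 1) (nat_lit 0x1008004002001) (nat_lit 0x1008004002001) (nat_lit 0) (nat_lit 0) (nat_lit 0) (nat_lit 0) (nat_lit 0) (nat_lit 0) (nat_lit 0x1002001) (nat_lit 8) (nat_lit 1) (nat_lit 0) (nat_lit 1) (nat_lit 0x11111110) (.cD (nat_lit 4) (.kA false (nat_lit 0x400600501400100c00800e00d00300e00a00f01a001008004006005005002004001010001005)) (.cD (nat_lit 8) (.kc (nat_lit 12) (nat_lit 0x5001001)) (.cD (nat_lit 12) (.kA false (nat_lit 0x400600101400100c00800200d00300e00a00501a001008004002005005002004001010001005)) (.cD (nat_lit 16) (.kc (nat_lit 28) (nat_lit 0x15001001)) (.cD (nat_lit 20) (.kA false (nat_lit 0xa004011014001002004001010001002)) (.cD (nat_lit 24) (.kc (nat_lit 20) (nat_lit 0x11001001)) (.cD (nat_lit 28) (.kA false (nat_lit 0xa004015014001002004001010001002)) .nil)))))))) (.cD (nat_lit 2) (.dfs (nat_lit 4) (nat_lit 1) (nat_lit 1) (nat_lit 0x1008004002001) (nat_lit 0x1008004002001) (nat_lit 0) (nat_lit 0) (nat_lit 0) (nat_lit 0) (nat_lit 0) (nat_lit 0) (nat_lit 0x1002001) (nat_lit 8) (nat_lit 1) (nat_lit 0) (nat_lit 1) (nat_lit 0x11111110) (.cD (nat_lit 4) (.extn a153 (nat_lit 0x1000400100200a) (nat_lit 0x1002008004010) (nat_lit 2) (nat_lit 0) (nat_lit 0) (nat_lit 0) (nat_lit 4369) (.cE (nat_lit 0) b197 t197 (.cut (nat_lit 9)) .nil (.cE (nat_lit 4) b431 (nat_lit 0) (.cut (nat_lit 10)) .nil (.cE (nat_lit 8) (nat_lit 0x1701e01501c01301a01101801f01601d01401b01201901000f00600d00400b00200900000700e00500c00300a001008) (nat_lit 0) (.iso x84 s201 (nat_lit 8) (nat_lit 0x1020010008004002021) (nat_lit 0x20010008004002021) [(nat_lit 0x8004002001003001), (nat_lit 0x8004002001005001)] (.cut (nat_lit 9))) .nil (.cE (nat_lit 12) (nat_lit 0x1301a01101801701e01501c01b01201901001f01601d01400b00200900000f00600d00400300a00100800700e00500c) (nat_lit 0) (.iso x129 s202 (nat_lit 9) (nat_lit 0x1020010008004002021) (nat_lit 0x20010008004002021) [(nat_lit 0x8004002001003001), (nat_lit 0x8004002001005001)] (.cut (nat_lit 10))) .nil .nil))))) (.cD (nat_lit 8) (.kc (nat_lit 12) (nat_lit 0x5001001)) (.cD (nat_lit 12) (.extn (nat_lit 0x1701e01501c01b01201901001f01601d01401301a01101800f00600d00400300a00100800700e00500c00b002009000) (nat_lit 0x1000400100200a) (nat_lit 0x1002008004010) (nat_lit 2) (nat_lit 0) (nat_lit 0) (nat_lit 0) (nat_lit 0x10100101) (.cE (nat_lit 0) (nat_lit 0x1701e01501c01b01201901001f01601d01401301a01101800f00600d00400300a00100800700e00500c00b002009000) (nat_lit 0) (.iso x84 s201 (nat_lit 8) (nat_lit 0x1020010028004002001) (nat_lit 0x20010028004002001) [(nat_lit 0x8004003001003001), (nat_lit 0x8004003001005001)] (.cut (nat_lit 9))) .nil (.cE (nat_lit 8) (nat_lit 0x1f01601d01401301a01101801701e01501c01b01201901000700e00500c00b00200900000f00600d00400300a001008) (nat_lit 0) (.iso x84 s201 (nat_lit 8) (nat_lit 0x1020010028004002009) (nat_lit 0x20010028004002029) [(nat_lit 0x8004003001003001), (nat_lit 0x8004003001005001)] (.cut (nat_lit 9))) .nil (.cE (nat_lit 20) (nat_lit 0x300a00100800f00600d00400b00200900000700e00500c01b01201901001701e01501c01301a01101801f01601d014) (nat_lit 0) (.iso x129 s202 (nat_lit 9) (nat_lit 0x1020010028004002001) (nat_lit 0x20010028004002001) [(nat_lit 0x8004003001003001), (nat_lit 0x8004003001005001)] (.cut (nat_lit 10))) .nil (.cE (nat_lit 28) (nat_lit 0xb00200900000700e00500c00300a00100800f00600d00401301a01101801f01601d01401b01201901001701e01501c) (nat_lit 0) (.iso x129 s202 (nat_lit 9) (nat_lit 0x1020010028004002009) (nat_lit 0x20010028004002029) [(nat_lit 0x8004003001003001), (nat_lit 0x8004003001005001)] (.cut (nat_lit 10))) .nil .nil))))) (.cD (nat_lit 16) (.kc (nat_lit 28) (nat_lit 0x15001001)) (.cD (nat_lit 20) (.kA false (nat_lit 0x2004011014001002004001010001002)) (.cD (nat_lit 24) (.kc (nat_lit 20) (nat_lit 0x11001001)) (.cD (nat_lit 28) (.kA false (nat_lit 0x2004015014001002004001010001002)) .nil)))))))) (.cD (nat_lit 5) (.dfs (nat_lit 4) (nat_lit 1) (nat_lit 1) (nat_lit 0x1008004002001) (nat_lit 0x1008004002001) (nat_lit 0) (nat_lit 0) (nat_lit 0) (nat_lit 0) (nat_lit 0) (nat_lit 0) (nat_lit 0x1002001) (nat_lit 8) (nat_lit 1) (nat_lit 0) (nat_lit 1) (nat_lit 0x11111110) (.cD (nat_lit 4) (.kA false (nat_lit 0xf00500101400100600200e00d00500100500201300100200600800b00400100a00f01a00100e004006005005002004001010001007)) (.cD (nat_lit 8) (.kc (nat_lit 12) (nat_lit 0x5001001)) (.cD (nat_lit 12) (.extn (nat_lit 0x1701901a01c01b01501601001f01101201401301d01e01800f00100200400300d00e00800700900a00c00b005006000) (nat_lit 0x1000400100200a) (nat_lit 0x1002008004010) (nat_lit 2) (nat_lit 0) (nat_lit 0) (nat_lit 1) (nat_lit 0x8088080) (.cE (nat_lit 7) (nat_lit 0x1801601d01b01401a01101701001e01501301c01201901f00000e00500300c00200900f00800600d00b00400a001007) (nat_lit 0) (.kb (nat_lit 40) (nat_lit 0x101f00000500400101f000007005004) (nat_lit 0x1020010008004002001)) .nil (.cE (nat_lit 15) (nat_lit 0x1001e01501301c01201901f01801601d01b01401a01101700800600d00b00400a00100700000e00500300c00200900f) (nat_lit 0) (.kb (nat_lit 40) (nat_lit 0x100f00000500400100f000007005004) (nat_lit 0x1020010008004002001)) .nil (.cE (nat_lit 19) (nat_lit 0xc00200900f00000e00500300400a00100700800600d00b01401a01101701801601d01b01c01201901f01001e015013) (nat_lit 0) (.kb (nat_lit 40) (nat_lit 0x1037000005004001037000007005004) (nat_lit 0x1020010008004002001)) .nil (.cE (nat_lit 27) (nat_lit 0x400a00100700800600d00b00c00200900f00000e00500301c01201901f01001e01501301401a01101701801601d01b) (nat_lit 0) (.kb (nat_lit 40) (nat_lit 0x1027000005004001027000007005004) (nat_lit 0x1020010008004002001)) .nil .nil))))) (.cD (nat_lit 16) (.kc (nat_lit 28) (nat_lit 0x15001001)) (.cD (nat_lit 20) (.kc (nat_lit 16) (nat_lit 0x400401f001012001005003010001005)) (.cD (nat_lit 24) (.kc (nat_lit 20) (nat_lit 0x11001001)) (.cD (nat_lit 28) (.kc (nat_lit 16) (nat_lit 0xc00301f001012001005003010001005)) .nil)))))))) (.cD (nat_lit 6) (.dfs (nat_lit 4) (nat_lit 1) (nat_lit 1) (nat_lit 0x1008004002001) (nat_lit 0x1008004002001) (nat_lit 0) (nat_lit 0) (nat_lit 0) (nat_lit 0) (nat_lit 0) (nat_lit 0) (nat_lit 0x1002001) (nat_lit 8) (nat_lit 1) (nat_lit 0) (nat_lit 1) (nat_lit 0x11111110) (.cD (nat_lit 4) (.extn a258 (nat_lit 0x1000400100200a) (nat_lit 0x1002008004010) (nat_lit 2) (nat_lit 0) (nat_lit 0) (nat_lit 0) (nat_lit 4369) (.cE (nat_lit 0) b432 t432 (.cut (nat_lit 7)) .nil (.cE (nat_lit 4) b463 t463 (.cut (nat_lit 8)) .nil (.cE (nat_lit 8) (nat_lit 0x1701a01101c01301e01501801f01201901401b01601d01000f00200900400b00600d00000700a00100c00300e005008) (nat_lit 0) (.iso x65 s139 (nat_lit 6) (nat_lit 0x1020010008004002021) (nat_lit 0x20010008004002021) [(nat_lit 0x8004002001003001), (nat_lit 0x8004002001005001)] (.cut (nat_lit 7))) .nil (.cE (nat_lit 12) (nat_lit 0x1301e01501801701a01101c01b01601d01001f01201901400b00600d00000f00200900400300e00500800700a00100c) (nat_lit 0) (.iso x79 s148 (nat_lit 7) (nat_lit 0x1020010008004002021) (nat_lit 0x20010008004002021) [(nat_lit 0x8004002001003001), (nat_lit 0x8004002001005001)] (.cut (nat_lit 8))) .nil .nil))))) (.cD (nat_lit 8) (.kc (nat_lit 12) (nat_lit 0x5001001)) (.cD (nat_lit 12) (.kA false (nat_lit 0x600100501400100c00200600500400400500201300100400600800b00400700200301200100a004006005003002004001010001007)) (.cD (nat_lit 16) (.kc (nat_lit 28) (nat_lit 0x15001001)) (.cD (nat_lit 20) (.kc (nat_lit 16) (nat_lit 0x4004017001012001005003010001005)) (.cD (nat_lit 24) (.kc (nat_lit 20) (nat_lit 0x11001001)) (.cD (nat_lit 28) (.kc (nat_lit 16) (nat_lit 0xc003017001012001005003010001005)) .nil)))))))) (.cD (nat_lit 17) (.kc (nat_lit 16) (nat_lit 0xc005009001005003008001004)) (.cD (nat_lit 18) (.kc (nat_lit 16) (nat_lit 0xc003009001005003008001004)) (.cD (nat_lit 21) (.dfs (nat_lit 4) (nat_lit 1) (nat_lit 1) (nat_lit 0x1008004002001) (nat_lit 0x1008004002001) (nat_lit 0) (nat_lit 0) (nat_lit 0) (nat_lit 0) (nat_lit 0) (nat_lit 0) (nat_lit 0x1002001) (nat_lit 8) (nat_lit 1) (nat_lit 0) (nat_lit 1) (nat_lit 0x11111110) (.cD (nat_lit 4) (.extn (nat_lit 0x1f00100201401b00500601001700900a01c01300d00e01800701901a00c00301d01e00800f01101200400b015016000) (nat_lit 0x1000400100200a) (nat_lit 0x1002008004010) (nat_lit 2) (nat_lit 0) (nat_lit 0) (nat_lit 1) (nat_lit 0x88880000) (.cE (nat_lit 19) (nat_lit 0x401a01100700001e01500300c01201900f00801601d00b01c00200901f01800600d01b01400a00101701000e005013) (nat_lit 0) (.kb (nat_lit 8) (nat_lit 0x1037000005004001037000006005004) (nat_lit 0x1020010008004002001)) .nil (.cE (nat_lit 23) (nat_lit 0x1e01500300401a01100700801601d00b00c01201900f01800600d01b01c00200901f01000e00501301400a001017) (nat_lit 0) (.kb (nat_lit 8) (nat_lit 0x103f00000500400103f000006005004) (nat_lit 0x1020010008004002001)) .nil (.cE (nat_lit 27) (nat_lit 0xc01201900f00801601d00b00401a01100700001e01500301400a00101701000e00501301c00200901f01800600d01b) (nat_lit 0) (.kb (nat_lit 8) (nat_lit 0x1027000005004001027000006005004) (nat_lit 0x1020010008004002001)) .nil (.cE (nat_lit 31) (nat_lit 0x801601d00b00c01201900f00001e01500300401a01100701000e00501301400a00101701800600d01b01c00200901f) (nat_lit 0) (.kb (nat_lit 8) (nat_lit 0x102f00000500400102f000006005004) (nat_lit 0x1020010008004002001)) .nil .nil))))) (.cD (nat_lit 8) (.kc (nat_lit 12) (nat_lit 0x5001001)) (.cD (nat_lit 12) (.kA false (nat_lit 0x1f01500501400100700300200d00501101500100300100300700200a00401100a00501a00100f004002005005002004001010001007)) (.cD (nat_lit 16) (.kc (nat_lit 28) (nat_lit 0x15001001)) (.cD (nat_lit 20) (.kc (nat_lit 16) (nat_lit 0xc00300f001012001005003010001005)) (.cD (nat_lit 24) (.kc (nat_lit 20) (nat_lit 0x11001001)) (.cD (nat_lit 28) (.kc (nat_lit 16) (nat_lit 0x400400f001012001005003010001005)) .nil)))))))) (.cD (nat_lit 22) (.dfs (nat_lit 4) (nat_lit 1) (nat_lit 1) (nat_lit 0x1008004002001) (nat_lit 0x1008004002001) (nat_lit 0) (nat_lit 0) (nat_lit 0) (nat_lit 0) (nat_lit 0) (nat_lit 0) (nat_lit 0x1002001) (nat_lit 8) (nat_lit 1) (nat_lit 0) (nat_lit 1) (nat_lit 0x11111110) (.cD (nat_lit 4) (.kA false (nat_lit 0x601100101400100c00300200500400401500100300100400700200a00401700200101200100b004002005003002004001010001007)) (.cD (nat_lit 8) (.kc (nat_lit 12) (nat_lit 0x5001001)) (.cD (nat_lit 12) (.extn (nat_lit 0x1700a00101c01b00600d01001f00200901401300e00501800f01201900400301e01500800701a01100c00b01601d000) (nat_lit 0x1000400100200a) (nat_lit 0x1002008004010) (nat_lit 2) (nat_lit 0) (nat_lit 0) (nat_lit 0) (nat_lit 0x10100101) (.cE (nat_lit 0) (nat_lit 0x1700a00101c01b00600d01001f00200901401300e00501800f01201900400301e01500800701a01100c00b01601d000) (nat_lit 0) (.iso x65 s139 (nat_lit 6) (nat_lit 0x1020010028004002001) (nat_lit 0x20010028004002001) [(nat_lit 0x8004003001003001), (nat_lit 0x8004003001005001)] (.cut (nat_lit 7))) .nil (.cE (nat_lit 8) (nat_lit 0x1f00200901401300e00501801700a00101c01b00600d01000701a01100c00b01601d00000f01201900400301e015008) (nat_lit 0) (.iso x65 s139 (nat_lit 6) (nat_lit 0x1020010028004002009) (nat_lit 0x20010028004002029) [(nat_lit 0x8004003001003001), (nat_lit 0x8004003001005001)] (.cut (nat_lit 7))) .nil (.cE (nat_lit 20) (nat_lit 0x301e01500800f01201900400b01601d00000701a01100c01b00600d01001700a00101c01300e00501801f002009014) (nat_lit 0) (.iso x79 s148 (nat_lit 7) (nat_lit 0x1020010028004002001) (nat_lit 0x20010028004002001) [(nat_lit 0x8004003001003001), (nat_lit 0x8004003001005001)] (.cut (nat_lit 8))) .nil (.cE (nat_lit 28) (nat_lit 0xb01601d00000701a01100c00301e01500800f01201900401300e00501801f00200901401b00600d01001700a00101c) (nat_lit 0) (.iso x79 s148 (nat_lit 7) (nat_lit 0x1020010028004002009) (nat_lit 0x20010028004002029) [(nat_lit 0x8004003001003001), (nat_lit 0x8004003001005001)] (.cut (nat_lit 8))) .nil .nil))))) (.cD (nat_lit 16) (.kc (nat_lit 28) (nat_lit 0x15001001)) (.cD (nat_lit 20) (.kc (nat_lit 16) (nat_lit 0xc003007001012001005003010001005)) (.cD (nat_lit 24) (.kc (nat_lit 20) (nat_lit 0x11001001)) (.cD (nat_lit 28) (.kc (nat_lit 16) (nat_lit 0x4004007001012001005003010001005)) .nil)))))))) .nil)))))))))) (.cD (nat_lit 7) (.mulh (nat_lit 1) (nat_lit 1) (.dfs (nat_lit 2) (nat_lit 1) (nat_lit 1) (nat_lit 0x1004002001) (nat_lit 0x1004003001) (nat_lit 0) (nat_lit 0) (nat_lit 0) (nat_lit 0) (nat_lit 0) (nat_lit 0) (nat_lit 1) (nat_lit 0) (nat_lit 4099) (nat_lit 11) (nat_lit 0x1000001000002000005000006000011000012000015000016) (nat_lit 0x660066) (.cD (nat_lit 1) (.kF (nat_lit 14) (nat_lit 0x300800200700a002002)) (.cD (nat_lit 2) (.dfs (nat_lit 4) (nat_lit 1) (nat_lit 1) (nat_lit 0x1008004002001) (nat_lit 0x1008004002001) (nat_lit 0) (nat_lit 0) (nat_lit 0) (nat_lit 0) (nat_lit 0) (nat_lit 0) (nat_lit 0x1002001) (nat_lit 8) (nat_lit 1) (nat_lit 0) (nat_lit 1) (nat_lit 0x11111110) (.cD (nat_lit 4) (.extn a280 (nat_lit 0x1000400100200a) (nat_lit 0x1002008004010) (nat_lit 2) (nat_lit 0) (nat_lit 0) (nat_lit 0) (nat_lit 4369) (.cE (nat_lit 0) b468 (nat_lit 0) (.cut (nat_lit 6)) .nil (.cE (nat_lit 4) b469 t469 (.cut (nat_lit 5)) .nil (.cE (nat_lit 8) (nat_lit 0x1301e01101c01701a01501801b01601901401f01201d01000b00600900400f00200d00000300e00100c00700a005008) (nat_lit 0) (.iso x64 s106 (nat_lit 5) (nat_lit 0x1020010008004002021) (nat_lit 0x20010008004002021) [(nat_lit 0x8004002001003001), (nat_lit 0x8004002001005001)] (.cut (nat_lit 6))) .nil (.cE (nat_lit 12) (nat_lit 0x1701a01501801301e01101c01f01201d01001b01601901400f00200d00000b00600900400700a00500800300e00100c) (nat_lit 0) (.iso x59 s105 (nat_lit 4) (nat_lit 0x1020010008004002021) (nat_lit 0x20010008004002021) [(nat_lit 0x8004002001003001), (nat_lit 0x8004002001005001)] (.cut (nat_lit 5))) .nil .nil))))) (.cD (nat_lit 8) (.kc (nat_lit 12) (nat_lit 0x5001001)) (.cD (nat_lit 12) (.kA true (nat_lit 0xe00500101400100c00200600500600400100a01f00100400600800b00600b00a00f01a00100a00400600500500a004005010001007)) (.cD (nat_lit 16) (.kc (nat_lit 28) (nat_lit 0x15001001)) (.cD (nat_lit 20) (.kc (nat_lit 16) (nat_lit 0x400601b00101a001005005010001005)) (.cD (nat_lit 24) (.kc (nat_lit 20) (nat_lit 0x11001001)) (.cD (nat_lit 28) (.kc (nat_lit 16) (nat_lit 0xc00501b00101a001005005010001005)) .nil)))))))) (.cD (nat_lit 5) (.kF (nat_lit 8) (nat_lit 0x300a00100800d00300500d00100400500500200a002005)) (.cD (nat_lit 6) (.dfs (nat_lit 4) (nat_lit 1) (nat_lit 1) (nat_lit 0x1008004002001) (nat_lit 0x1008004002001) (nat_lit 0) (nat_lit 0) (nat_lit 0) (nat_lit 0) (nat_lit 0) (nat_lit 0) (nat_lit 0x1002001) (nat_lit 8) (nat_lit 1) (nat_lit 0) (nat_lit 1) (nat_lit 0x11111110) (.cD (nat_lit 4) (.extn (nat_lit 0x1b01201d01401f01601901001301a01501c01701e01101800300a00500c00700e00100800b00200d00400f006009000) (nat_lit 0x1000400100200a) (nat_lit 0x1002008004010) (nat_lit 2) (nat_lit 0) (nat_lit 0) (nat_lit 0) (nat_lit 4369) (.cE (nat_lit 0) (nat_lit 0x1b01201d01401f01601901001301a01501c01701e01101800300a00500c00700e00100800b00200d00400f006009000) (nat_lit 0) (.iso x59 s105 (nat_lit 4) (nat_lit 0x1020010018002004025) (nat_lit 0x20010018002004023) [(nat_lit 0x8004002001005001), (nat_lit 0x8004002001003001)] (.cut (nat_lit 5))) .nil (.cE (nat_lit 4) (nat_lit 0x1f01601901001b01201d01401701e01101801301a01501c00700e00100800300a00500c00f00600900000b00200d004) (nat_lit 0) (.iso x64 s106 (nat_lit 5) (nat_lit 0x1020010018002004005) (nat_lit 0x20010018002004003) [(nat_lit 0x8004002001005001), (nat_lit 0x8004002001003001)] (.cut (nat_lit 6))) .nil (.cE (nat_lit 8) (nat_lit 0x1301a01501c01701e01101801b01201d01401f01601901000b00200d00400f00600900000300a00500c00700e001008) (nat_lit 0) (.iso x59 s105 (nat_lit 4) (nat_lit 0x1020010018002004005) (nat_lit 0x20010018002004003) [(nat_lit 0x8004002001005001), (nat_lit 0x8004002001003001)] (.cut (nat_lit 5))) .nil (.cE (nat_lit 12) (nat_lit 0x1701e01101801301a01501c01f01601901001b01201d01400f00600900000b00200d00400700e00100800300a00500c) (nat_lit 0) (.iso x64 s106 (nat_lit 5) (nat_lit 0x1020010018002004025) (nat_lit 0x20010018002004023) [(nat_lit 0x8004002001005001), (nat_lit 0x8004002001003001)] (.cut (nat_lit 6))) .nil .nil))))) (.cD (nat_lit 8) (.kc (nat_lit 12) (nat_lit 0x5001001)) (.cD (nat_lit 12) (.kA false (nat_lit 0x600100501400100c00200600500400400500201300100400600800b00400700200301200100a004006005003002004001010001007)) (.cD (nat_lit 16) (.kc (nat_lit 28) (nat_lit 0x15001001)) (.cD (nat_lit 20) (.kc (nat_lit 16) (nat_lit 0x4004017001012001005003010001005)) (.cD (nat_lit 24) (.kc (nat_lit 20) (nat_lit 0x11001001)) (.cD (nat_lit 28) (.kc (nat_lit 16) (nat_lit 0xc003017001012001005003010001005)) .nil)))))))) (.cD (nat_lit 17) (.kc (nat_lit 16) (nat_lit 0xc005009001005003008001004)) (.cD (nat_lit 18) (.kc (nat_lit 16) (nat_lit 0xc003009001005003008001004)) (.cD (nat_lit 21) (.kc (nat_lit 16) (nat_lit 0x4006005002005003008001004)) (.cD (nat_lit 22) (.kc (nat_lit 16) (nat_lit 0x400600d001005005008001004)) .nil)))))))))) (.cD (nat_lit 19) (.mulh (nat_lit 1) (nat_lit 1) (.dfs (nat_lit 2) (nat_lit 1) (nat_lit 1) (nat_lit 0x1004002001) (nat_lit 0x1004003001) (nat_lit 0) (nat_lit 0) (nat_lit 0) (nat_lit 0) (nat_lit 0) (nat_lit 0) (nat_lit 1) (nat_lit 0) (nat_lit 4099) (nat_lit 11) (nat_lit 0x1000001000002000005000006000011000012000015000016) (nat_lit 0x660066) (.cD (nat_lit 1) (.kc (nat_lit 16) (nat_lit 0x4006005002005003008001004)) (.cD (nat_lit 2) (.kc (nat_lit 16) (nat_lit 0x400600d001005005008001004)) (.cD (nat_lit 5) (.dfs (nat_lit 4) (nat_lit 1) (nat_lit 1) (nat_lit 0x1008004002001) (nat_lit 0x1008004002001) (nat_lit 0) (nat_lit 0) (nat_lit 0) (nat_lit 0) (nat_lit 0) (nat_lit 0) (nat_lit 0x1002001) (nat_lit 8) (nat_lit 1) (nat_lit 0) (nat_lit 1) (nat_lit 0x11111110) (.cD (nat_lit 4) (.kc (nat_lit 16) (nat_lit 0x400401f001012001005003010001005)) (.cD (nat_lit 8) (.kc (nat_lit 12) (nat_lit 0x5001001)) (.cD (nat_lit 12) (.kc (nat_lit 16) (nat_lit 0xc00301f001012001005003010001005)) (.cD (nat_lit 16) (.kc (nat_lit 28) (nat_lit 0x15001001)) (.cD (nat_lit 20) (.kc (nat_lit 16) (nat_lit 0xc00300f001006005001002007006012001005003010001008)) (.cD (nat_lit 24) (.kc (nat_lit 20) (nat_lit 0x11001001)) (.cD (nat_lit 28) (.kc (nat_lit 16) (nat_lit 0x400400f001006005011001007006012001005003010001008)) .nil)))))))) (.cD (nat_lit 6) (.dfs (nat_lit 4) (nat_lit 1) (nat_lit 1) (nat_lit 0x1008004002001) (nat_lit 0x1008004002001) (nat_lit 0) (nat_lit 0) (nat_lit 0) (nat_lit 0) (nat_lit 0) (nat_lit 0) (nat_lit 0x1002001) (nat_lit 8) (nat_lit 1) (nat_lit 0) (nat_lit 1) (nat_lit 0x11111110) (.cD (nat_lit 4) (.kc (nat_lit 16) (nat_lit 0xc00501f00100700501500100f003012001005003010001008)) (.cD (nat_lit 8) (.kc (nat_lit 12) (nat_lit 0x5001001)) (.cD (nat_lit 12) (.kc (nat_lit 16) (nat_lit 0xc00300300100600300100100e00501a001005005010001008)) (.cD (nat_lit 16) (.kc (nat_lit 28) (nat_lit 0x15001001)) (.cD (nat_lit 20) (.kc (nat_lit 16) (nat_lit 0x4004017001012001005003010001005)) (.cD (nat_lit 24) (.kc (nat_lit 20) (nat_lit 0x11001001)) (.cD (nat_lit 28) (.kc (nat_lit 16) (nat_lit 0xc003017001012001005003010001005)) .nil)))))))) (.cD (nat_lit 17) (.kc (nat_lit 16) (nat_lit 0xc005009001005003008001004)) (.cD (nat_lit 18) (.kc (nat_lit 16) (nat_lit 0xc003009001005003008001004)) (.cD (nat_lit 21) (.dfs (nat_lit 4) (nat_lit 1) (nat_lit 1) (nat_lit 0x1008004002001) (nat_lit 0x1008004002001) (nat_lit 0) (nat_lit 0) (nat_lit 0) (nat_lit 0) (nat_lit 0) (nat_lit 0) (nat_lit 0x1002001) (nat_lit 8) (nat_lit 1) (nat_lit 0) (nat_lit 1) (nat_lit 0x11111110) (.cD (nat_lit 4) (.kc (nat_lit 16) (nat_lit 0xc00300f001012001005003010001005)) (.cD (nat_lit 8) (.kc (nat_lit 12) (nat_lit 0x5001001)) (.cD (nat_lit 12) (.kc (nat_lit 16) (nat_lit 0x400400f001012001005003010001005)) (.cD (nat_lit 16) (.kc (nat_lit 28) (nat_lit 0x15001001)) (.cD (nat_lit 20) (.kc (nat_lit 16) (nat_lit 0x400401f001007005001001006006012001005003010001008)) (.cD (nat_lit 24) (.kc (nat_lit 20) (nat_lit 0x11001001)) (.cD (nat_lit 28) (.kc (nat_lit 16) (nat_lit 0xc00301f001007005011002006006012001005003010001008)) .nil)))))))) (.cD (nat_lit 22) (.dfs (nat_lit 4) (nat_lit 1) (nat_lit 1) (nat_lit 0x1008004002001) (nat_lit 0x1008004002001) (nat_lit 0) (nat_lit 0) (nat_lit 0) (nat_lit 0) (nat_lit 0) (nat_lit 0) (nat_lit 0x1002001) (nat_lit 8) (nat_lit 1) (nat_lit 0) (nat_lit 1) (nat_lit 0x11111110) (.cD (nat_lit 4) (.kc (nat_lit 16) (nat_lit 0xc00301300100700301100100f00501a001005005010001008)) (.cD (nat_lit 8) (.kc (nat_lit 12) (nat_lit 0x5001001)) (.cD (nat_lit 12) (.kc (nat_lit 16) (nat_lit 0xc00500f00100600500500100e003012001005003010001008)) (.cD (nat_lit 16) (.kc (nat_lit 28) (nat_lit 0x15001001)) (.cD (nat_lit 20) (.kc (nat_lit 16) (nat_lit 0xc003007001012001005003010001005)) (.cD (nat_lit 24) (.kc (nat_lit 20) (nat_lit 0x11001001)) (.cD (nat_lit 28) (.kc (nat_lit 16) (nat_lit 0x4004007001012001005003010001005)) .nil)))))))) .nil)))))))))) (.cD (nat_lit 23) (.mulh (nat_lit 1) (nat_lit 1) (.dfs (nat_lit 2) (nat_lit 1) (nat_lit 1) (nat_lit 0x1004002001) (nat_lit 0x1004003001) (nat_lit 0) (nat_lit 0) (nat_lit 0) (nat_lit 0) (nat_lit 0) (nat_lit 0) (nat_lit 1) (nat_lit 0) (nat_lit 4099) (nat_lit 11) (nat_lit 0x1000001000002000005000006000011000012000015000016) (nat_lit 0x660066) (.cD (nat_lit 1) (.kF (nat_lit 30) (nat_lit 0x300800200700a002002)) (.cD (nat_lit 2) (.dfs (nat_lit 4) (nat_lit 1) (nat_lit 1) (nat_lit 0x1008004002001) (nat_lit 0x1008004002001) (nat_lit 0) (nat_lit 0) (nat_lit 0) (nat_lit 0) (nat_lit 0) (nat_lit 0) (nat_lit 0x1002001) (nat_lit 8) (nat_lit 1) (nat_lit 0) (nat_lit 1) (nat_lit 0x11111110) (.cD (nat_lit 4) (.kA true (nat_lit 0xe01500501400100c00300200500600401100500f00100400700200a00601b00a00501a00100b00400200500500a004005010001007)) (.cD (nat_lit 8) (.kc (nat_lit 12) (nat_lit 0x5001001)) (.cD (nat_lit 12) (.extn (nat_lit 0x301e00101c00f01200d01000b01600901400701a00501801b00601900401700a01500801300e01100c01f00201d000) (nat_lit 0x1000400100200a) (nat_lit 0x1002008004010) (nat_lit 2) (nat_lit 0) (nat_lit 0) (nat_lit 0) (nat_lit 0x10100101) (.cE (nat_lit 0) (nat_lit 0x301e00101c00f01200d01000b01600901400701a00501801b00601900401700a01500801300e01100c01f00201d000) (nat_lit 0) (.iso x64 s106 (nat_lit 5) (nat_lit 0x1020010028004002001) (nat_lit 0x20010028004002001) [(nat_lit 0x8004003001003001), (nat_lit 0x8004003001005001)] (.cut (nat_lit 6))) .nil (.cE (nat_lit 8) (nat_lit 0xb01600901400701a00501800301e00101c00f01200d01001300e01100c01f00201d00001b00601900401700a015008) (nat_lit 0) (.iso x64 s106 (nat_lit 5) (nat_lit 0x1020010028004002009) (nat_lit 0x20010028004002029) [(nat_lit 0x8004003001003001), (nat_lit 0x8004003001005001)] (.cut (nat_lit 6))) .nil (.cE (nat_lit 20) (nat_lit 0x1700a01500801b00601900401f00201d00001300e01100c00f01200d01000301e00101c00701a00501800b016009014) (nat_lit 0) (.iso x59 s105 (nat_lit 4) (nat_lit 0x1020010028004002001) (nat_lit 0x20010028004002001) [(nat_lit 0x8004003001003001), (nat_lit 0x8004003001005001)] (.cut (nat_lit 5))) .nil (.cE (nat_lit 28) (nat_lit 0x1f00201d00001300e01100c01700a01500801b00601900400701a00501800b01600901400f01200d01000301e00101c) (nat_lit 0) (.iso x59 s105 (nat_lit 4) (nat_lit 0x1020010028004002009) (nat_lit 0x20010028004002029) [(nat_lit 0x8004003001003001), (nat_lit 0x8004003001005001)] (.cut (nat_lit 5))) .nil .nil))))) (.cD (nat_lit 16) (.kc (nat_lit 28) (nat_lit 0x15001001)) (.cD (nat_lit 20) (.kc (nat_lit 16) (nat_lit 0xc00500b00101a001005005010001005)) (.cD (nat_lit 24) (.kc (nat_lit 20) (nat_lit 0x11001001)) (.cD (nat_lit 28) (.kc (nat_lit 16) (nat_lit 0x400600b00101a001005005010001005)) .nil)))))))) (.cD (nat_lit 5) (.kc (nat_lit 16) (nat_lit 0x4006005002005003008001004)) (.cD (nat_lit 6) (.kc (nat_lit 16) (nat_lit 0x400600d001005005008001004)) (.cD (nat_lit 17) (.kc (nat_lit 16) (nat_lit 0xc005009001005003008001004)) (.cD (nat_lit 18) (.kc (nat_lit 16) (nat_lit 0xc003009001005003008001004)) (.cD (nat_lit 21) (.kF (nat_lit 8) (nat_lit 0x300a00100800d00300500d00100400500500200a002005)) (.cD (nat_lit 22) (.dfs (nat_lit 4) (nat_lit 1) (nat_lit 1) (nat_lit 0x1008004002001) (nat_lit 0x1008004002001) (nat_lit 0) (nat_lit 0) (nat_lit 0) (nat_lit 0) (nat_lit 0) (nat_lit 0) (nat_lit 0x1002001) (nat_lit 8) (nat_lit 1) (nat_lit 0) (nat_lit 1) (nat_lit 0x11111110) (.cD (nat_lit 4) (.kA false (nat_lit 0x601100101400100c00300200500400401500100300100400700200a00401700200101200100b004002005003002004001010001007)) (.cD (nat_lit 8) (.kc (nat_lit 12) (nat_lit 0x5001001)) (.cD (nat_lit 12) (.extn (nat_lit 0x300a01501c00f00601901000b00201d01400700e01101801b01200d00401701e00100801301a00500c01f016009000) (nat_lit 0x1000400100200a) (nat_lit 0x1002008004010) (nat_lit 2) (nat_lit 0) (nat_lit 0) (nat_lit 0) (nat_lit 0x10100101) (.cE (nat_lit 0) (nat_lit 0x300a01501c00f00601901000b00201d01400700e01101801b01200d00401701e00100801301a00500c01f016009000) (nat_lit 0) (.iso x59 s105 (nat_lit 4) (nat_lit 0x102001003800200400d) (nat_lit 0x2001003800200403b) [(nat_lit 0x8004003001005001), (nat_lit 0x8004003001003001)] (.cut (nat_lit 5))) .nil (.cE (nat_lit 8) (nat_lit 0xb00201d01400700e01101800300a01501c00f00601901001301a00500c01f01600900001b01200d00401701e001008) (nat_lit 0) (.iso x59 s105 (nat_lit 4) (nat_lit 0x1020010038002004005) (nat_lit 0x20010038002004003) [(nat_lit 0x8004003001005001), (nat_lit 0x8004003001003001)] (.cut (nat_lit 5))) .nil (.cE (nat_lit 20) (nat_lit 0x1701e00100801b01200d00401f01600900001301a00500c00f00601901000300a01501c00700e01101800b00201d014) (nat_lit 0) (.iso x64 s106 (nat_lit 5) (nat_lit 0x1020010038002004005) (nat_lit 0x20010038002004003) [(nat_lit 0x8004003001005001), (nat_lit 0x8004003001003001)] (.cut (nat_lit 6))) .nil (.cE (nat_lit 28) (nat_lit 0x1f01600900001301a00500c01701e00100801b01200d00400700e01101800b00201d01400f00601901000300a01501c) (nat_lit 0) (.iso x64 s106 (nat_lit 5) (nat_lit 0x102001003800200400d) (nat_lit 0x2001003800200403b) [(nat_lit 0x8004003001005001), (nat_lit 0x8004003001003001)] (.cut (nat_lit 6))) .nil .nil))))) (.cD (nat_lit 16) (.kc (nat_lit 28) (nat_lit 0x15001001)) (.cD (nat_lit 20) (.kc (nat_lit 16) (nat_lit 0xc003007001012001005003010001005)) (.cD (nat_lit 24) (.kc (nat_lit 20) (nat_lit 0x11001001)) (.cD (nat_lit 28) (.kc (nat_lit 16) (nat_lit 0x4004007001012001005003010001005)) .nil)))))))) .nil)))))))))) .nil))))) (.cD (nat_lit 28) (.dfs (nat_lit 8) (nat_lit 1) (nat_lit 1) (nat_lit 4097) (nat_lit 4097) (nat_lit 0) (nat_lit 0) (nat_lit 0) (nat_lit 0) (nat_lit 0) (nat_lit 0) (nat_lit 0x1002001) (nat_lit 1) (nat_lit 1) (nat_lit 0) (nat_lit 1) (nat_lit 0x11111110) (.cD (nat_lit 4) (.dfs (nat_lit 4) (nat_lit 1) (nat_lit 1) (nat_lit 0x1002001) (nat_lit 0x1002001) (nat_lit 0) (nat_lit 0) (nat_lit 0) (nat_lit 0) (nat_lit 0) (nat_lit 0) (nat_lit 0x1002001) (nat_lit 2) (nat_lit 1) (nat_lit 0) (nat_lit 1) (nat_lit 0x11111110) (.cD (nat_lit 4) (.kc (nat_lit 12) (nat_lit 0x3001001)) (.cD (nat_lit 8) (.dfs (nat_lit 2) (nat_lit 1) (nat_lit 1) (nat_lit 0x1004002001) (nat_lit 0x1004002001) (nat_lit 0) (nat_lit 0) (nat_lit 0) (nat_lit 0) (nat_lit 0) (nat_lit 0) (nat_lit 1) (nat_lit 0) (nat_lit 0x1002001) (nat_lit 8193) (nat_lit 0x1001001000002001005000006001011000012001015000016) (nat_lit 0x11771176) (.cD (nat_lit 1) (.kA false (nat_lit 0x3004002008002002002000001004002008001003)) (.cD (nat_lit 2) (.kA false (nat_lit 0x500200400e001001001000001004002008001003)) (.cD (nat_lit 4) (.kc (nat_lit 10) (nat_lit 0x5001001)) (.cD (nat_lit 5) (.kA false (nat_lit 0x3004002008002002002000001004002008001003)) (.cD (nat_lit 6) (.kA false (nat_lit 0x300200400e001001004002008001002)) (.cD (nat_lit 8) (.kc (nat_lit 6) (nat_lit 0x3001001)) (.cD (nat_lit 12) (.kc (nat_lit 14) (nat_lit 0x7001001)) (.cD (nat_lit 16) (.kc (nat_lit 30) (nat_lit 0xf001001)) (.cD (nat_lit 17) (.kc (nat_lit 16) (nat_lit 0x400600f00100f004008001004)) (.cD (nat_lit 18) (.kc (nat_lit 16) (nat_lit 0xc003005002007003008001004)) (.cD (nat_lit 20) (.kc (nat_lit 22) (nat_lit 0xb001001)) (.cD (nat_lit 21) (.kc (nat_lit 16) (nat_lit 0x400600b001007003008001004)) (.cD (nat_lit 22) (.kc (nat_lit 16) (nat_lit 0x400400b001007003008001004)) (.cD (nat_lit 24) (.kc (nat_lit 26) (nat_lit 0xd001001)) (.cD (nat_lit 28) (.kc (nat_lit 18) (nat_lit 0x9001001)) .nil)))))))))))))))) (.cD (nat_lit 12) (.dfs (nat_lit 2) (nat_lit 1) (nat_lit 1) (nat_lit 0x1004002001) (nat_lit 0x1004002001) (nat_lit 0) (nat_lit 0) (nat_lit 0) (nat_lit 0) (nat_lit 0) (nat_lit 0) (nat_lit 1) (nat_lit 0) (nat_lit 0x1002001) (nat_lit 8193) (nat_lit 0x1001001000002001005000006001011000012001015000016) (nat_lit 0x11771176) (.cD (nat_lit 1) (.kA false (nat_lit 0x7004002008002002002000001004002008001003)) (.cD (nat_lit 2) (.kA false (nat_lit 0x7004002008002001001000001004002008001003)) (.cD (nat_lit 4) (.kc (nat_lit 10) (nat_lit 0x5001001)) (.cD (nat_lit 5) (.kA false (nat_lit 0x7004002008002002002000001004002008001003)) (.cD (nat_lit 6) (.kA false (nat_lit 0x7004002008002001001000001004002008001003)) (.cD (nat_lit 8) (.kc (nat_lit 14) (nat_lit 0x7001001)) (.cD (nat_lit 12) (.kc (nat_lit 6) (nat_lit 0x3001001)) (.cD (nat_lit 16) (.kc (nat_lit 22) (nat_lit 0xb001001)) (.cD (nat_lit 17) (.kc (nat_lit 16) (nat_lit 0x400600b001007003008001004)) (.cD (nat_lit 18) (.kc (nat_lit 16) (nat_lit 0x400400b001007003008001004)) (.cD (nat_lit 20) (.kc (nat_lit 30) (nat_lit 0xf001001)) (.cD (nat_lit 21) (.kc (nat_lit 16) (nat_lit 0x400600f00100f004008001004)) (.cD (nat_lit 22) (.kc (nat_lit 16) (nat_lit 0x4004001002007003008001004)) (.cD (nat_lit 24) (.kc (nat_lit 26) (nat_lit 0xd001001)) (.cD (nat_lit 28) (.kc (nat_lit 18) (nat_lit 0x9001001)) .nil)))))))))))))))) (.cD (nat_lit 16) (.kc (nat_lit 16) (nat_lit 0x7001004001002)) (.cD (nat_lit 20) (.dfs (nat_lit 2) (nat_lit 1) (nat_lit 1) (nat_lit 0x1004002001) (nat_lit 0x1004002001) (nat_lit 0) (nat_lit 0) (nat_lit 0) (nat_lit 0) (nat_lit 0) (nat_lit 0) (nat_lit 1) (nat_lit 0) (nat_lit 0x1002001) (nat_lit 8193) (nat_lit 0x1001001000002001005000006001011000012001015000016) (nat_lit 0x11771176) (.cD (nat_lit 1) (.kc (nat_lit 16) (nat_lit 0xc00500b001007003008001004)) (.cD (nat_lit 2) (.kc (nat_lit 16) (nat_lit 0xc00300b001007003008001004)) (.cD (nat_lit 4) (.kc (nat_lit 10) (nat_lit 0x5001001)) (.cD (nat_lit 5) (.kc (nat_lit 16) (nat_lit 0xc00500f00100f004008001004)) (.cD (nat_lit 6) (.kc (nat_lit 16) (nat_lit 0xc00300f00100f004008001004)) (.cD (nat_lit 8) (.kc (nat_lit 22) (nat_lit 0xb001001)) (.cD (nat_lit 12) (.kc (nat_lit 30) (nat_lit 0xf001001)) (.cD (nat_lit 16) (.kc (nat_lit 14) (nat_lit 0x7001001)) (.cD (nat_lit 17) (.kc (nat_lit 16) (nat_lit 0x400600700100e004006002004)) (.cD (nat_lit 18) (.kc (nat_lit 16) (nat_lit 0xc003005002007003008001004)) (.cD (nat_lit 20) (.kc (nat_lit 6) (nat_lit 0x3001001)) (.cD (nat_lit 21) (.kc (nat_lit 16) (nat_lit 0x4006003001006003006002004)) (.cD (nat_lit 22) (.kc (nat_lit 16) (nat_lit 0x4004001002007003008001004)) (.cD (nat_lit 24) (.kc (nat_lit 26) (nat_lit 0xd001001)) (.cD (nat_lit 28) (.kc (nat_lit 18) (nat_lit 0x9001001)) .nil)))))))))))))))) (.cD (nat_lit 24) (.kc (nat_lit 28) (nat_lit 0x7001001)) (.cD (nat_lit 28) (.kc (nat_lit 20) (nat_lit 0x5001001)) .nil)))))))) (.cD (nat_lit 8) (.dfs (nat_lit 4) (nat_lit 1) (nat_lit 1) (nat_lit 0x1002001) (nat_lit 0x1002001) (nat_lit 0) (nat_lit 0) (nat_lit 0) (nat_lit 0) (nat_lit 0) (nat_lit 0) (nat_lit 0x1002001) (nat_lit 2) (nat_lit 1) (nat_lit 0) (nat_lit 1) (nat_lit 0x11111110) (.cD (nat_lit 4) (.dfs (nat_lit 2) (nat_lit 1) (nat_lit 1) (nat_lit 0x1004002001) (nat_lit 0x1004002001) (nat_lit 0) (nat_lit 0) (nat_lit 0) (nat_lit 0) (nat_lit 0) (nat_lit 0) (nat_lit 1) (nat_lit 0) (nat_lit 0x1002001) (nat_lit 8193) (nat_lit 0x1001001000002001005000006001011000012001015000016) (nat_lit 0x11771176) (.cD (nat_lit 1) (.kA false (nat_lit 0x5001007008002008004006003005001004002008001003)) (.cD (nat_lit 2) (.dfs (nat_lit 1) (nat_lit 0x100100400200e) (nat_lit 0x100500400200e) (nat_lit 4104) (nat_lit 4104) (nat_lit 0) (nat_lit 0) (nat_lit 2) (nat_lit 0) (nat_lit 0) (nat_lit 1) (nat_lit 1) (nat_lit 0) (nat_lit 4098) (nat_lit 2) (nat_lit 0x1000001000005000011000015) (nat_lit 0x220022) (.cD (nat_lit 1) (.extn (nat_lit 0x1301201101001701601501401b01a01901801f01e01d01c00f00e00d00c00b00a009008007006005004003002001000) (nat_lit 0x10008004002001) (nat_lit 0x1002008004010) (nat_lit 2) (nat_lit 0) (nat_lit 0) (nat_lit 0) (nat_lit 4369) (.cE (nat_lit 0) (nat_lit 0x1301201101001701601501401b01a01901801f01e01d01c00f00e00d00c00b00a009008007006005004003002001000) (nat_lit 0) (.iso x17 s94 (nat_lit 2) (nat_lit 0x1020010038002004001) (nat_lit 0x20010038002004001) [(nat_lit 0x8004003001005001), (nat_lit 0x8004003001003001)] (.cut (nat_lit 3))) .nil (.cE (nat_lit 4) (nat_lit 0x1701601501401301201101001f01e01d01c01b01a01901800b00a00900800f00e00d00c003002001000007006005004) (nat_lit 0) (.iso x58 s95 (nat_lit 3) (nat_lit 0x1020010038002004021) (nat_lit 0x20010038002004021) [(nat_lit 0x8004003001005001)] (.cut (nat_lit 4))) .nil (.cE (nat_lit 8) (nat_lit 0x1b01a01901801f01e01d01c01301201101001701601501400700600500400300200100000f00e00d00c00b00a009008) (nat_lit 0) (.iso x58 s95 (nat_lit 3) (nat_lit 0x1020010038002004001) (nat_lit 0x20010038002004001) [(nat_lit 0x8004003001005001)] (.cut (nat_lit 4))) .nil (.cE (nat_lit 12) (nat_lit 0x1f01e01d01c01b01a01901801701601501401301201101000300200100000700600500400b00a00900800f00e00d00c) (nat_lit 0) (.iso x17 s94 (nat_lit 2) (nat_lit 0x1020010038002004021) (nat_lit 0x20010038002004021) [(nat_lit 0x8004003001005001), (nat_lit 0x8004003001003001)] (.cut (nat_lit 3))) .nil .nil))))) (.cD (nat_lit 5) (.kA true (nat_lit 0x400100c01c00100e00400200300500100800c010001003)) (.cD (nat_lit 17) (.kc (nat_lit 16) (nat_lit 0x400600100200500500d003016001007003010001007)) (.cD (nat_lit 21) (.kc (nat_lit 16) (nat_lit 0xc00501100100500500d003016001007003010001007)) .nil))))) (.cD (nat_lit 4) (.kc (nat_lit 6) (nat_lit 0x3001001)) (.cD (nat_lit 5) (.kA false (nat_lit 0x200300500800200e004006003005001004002008001003)) (.cD (nat_lit 6) (.dfs (nat_lit 1) (nat_lit 0x100300400200e) (nat_lit 0x100700400200e) (nat_lit 0x1008001) (nat_lit 0x1008005) (nat_lit 0) (nat_lit 0) (nat_lit 2) (nat_lit 0) (nat_lit 0) (nat_lit 1) (nat_lit 1) (nat_lit 0) (nat_lit 4098) (nat_lit 2) (nat_lit 0x1000001000005000011000015) (nat_lit 0x220022) (.cD (nat_lit 1) (.extn (nat_lit 0x1701601101001301201501401f01e01901801b01a01d01c00b00a00d00c00f00e009008003002005004007006001000) (nat_lit 0x10008004002001) (nat_lit 0x1002008004010) (nat_lit 2) (nat_lit 0) (nat_lit 0) (nat_lit 0) (nat_lit 4369) (.cE (nat_lit 0) (nat_lit 0x1701601101001301201501401f01e01901801b01a01d01c00b00a00d00c00f00e009008003002005004007006001000) (nat_lit 0) (.iso x1 s23 (nat_lit 0) (nat_lit 0x1020010038002004003) (nat_lit 0x20010038002004005) [(nat_lit 0x8004003001005001), (nat_lit 0x8004003001003001)] (.cut (nat_lit 1))) .nil (.cE (nat_lit 4) (nat_lit 0x1301201501401701601101001b01a01d01c01f01e01901800f00e00900800b00a00d00c007006001000003002005004) (nat_lit 0) (.iso x16 s24 (nat_lit 1) (nat_lit 0x1020010038002004023) (nat_lit 0x20010038002004025) [(nat_lit 0x8004003001005001), (nat_lit 0x8004003001003001)] (.cut (nat_lit 2))) .nil (.cE (nat_lit 8) (nat_lit 0x1f01e01901801b01a01d01c01701601101001301201501400300200500400700600100000b00a00d00c00f00e009008) (nat_lit 0) (.iso x16 s24 (nat_lit 1) (nat_lit 0x1020010038002004003) (nat_lit 0x20010038002004005) [(nat_lit 0x8004003001005001), (nat_lit 0x8004003001003001)] (.cut (nat_lit 2))) .nil (.cE (nat_lit 12) (nat_lit 0x1b01a01d01c01f01e01901801301201501401701601101000700600100000300200500400f00e00900800b00a00d00c) (nat_lit 0) (.iso x1 s23 (nat_lit 0) (nat_lit 0x1020010038002004023) (nat_lit 0x20010038002004025) [(nat_lit 0x8004003001005001), (nat_lit 0x8004003001003001)] (.cut (nat_lit 1))) .nil .nil))))) (.cD (nat_lit 5) (.kA true (nat_lit 0x400100c01c00100e00400200300500100800c010001003)) (.cD (nat_lit 17) (.kA true (nat_lit 0x1100800c01c00100100800c010001002)) (.cD (nat_lit 21) (.kA true (nat_lit 0x1500800c01c00100100800c010001002)) .nil))))) (.cD (nat_lit 8) (.kc (nat_lit 10) (nat_lit 0x5001001)) (.cD (nat_lit 12) (.kc (nat_lit 14) (nat_lit 0x7001001)) (.cD (nat_lit 16) (.kc (nat_lit 30) (nat_lit 0xf001001)) (.cD (nat_lit 17) (.kc (nat_lit 16) (nat_lit 0xc00500b001007003008001004)) (.cD (nat_lit 18) (.kc (nat_lit 16) (nat_lit 0xc00300b001007003008001004)) (.cD (nat_lit 20) (.kc (nat_lit 26) (nat_lit 0xd001001)) (.cD (nat_lit 21) (.kA false (nat_lit 0xc00d00b00800200f004006003005001004002008001003)) (.cD (nat_lit 22) (.kc (nat_lit 16) (nat_lit 0x4004001002007003008001004)) (.cD (nat_lit 24) (.kc (nat_lit 22) (nat_lit 0xb001001)) (.cD (nat_lit 28) (.kc (nat_lit 18) (nat_lit 0x9001001)) .nil)))))))))))))))) (.cD (nat_lit 8) (.kc (nat_lit 12) (nat_lit 0x3001001)) (.cD (nat_lit 12) (.dfs (nat_lit 2) (nat_lit 1) (nat_lit 1) (nat_lit 0x1004002001) (nat_lit 0x1004002001) (nat_lit 0) (nat_lit 0) (nat_lit 0) (nat_lit 0) (nat_lit 0) (nat_lit 0) (nat_lit 1) (nat_lit 0) (nat_lit 0x1002001) (nat_lit 8193) (nat_lit 0x1001001000002001005000006001011000012001015000016) (nat_lit 0x11771176) (.cD (nat_lit 1) (.dfs (nat_lit 1) (nat_lit 0x100100400200a) (nat_lit 0x100500400200a) (nat_lit 4104) (nat_lit 4104) (nat_lit 0) (nat_lit 0) (nat_lit 2) (nat_lit 1) (nat_lit 0) (nat_lit 2) (nat_lit 1) (nat_lit 0) (nat_lit 4097) (nat_lit 1) (nat_lit 0x1000002000006000012000016) (nat_lit 0x440044) (.cD (nat_lit 2) (.extn (nat_lit 0x1301901a01801f01501601401b01101201001701d01e01c00f00500600400300900a00800700d00e00c00b001002000) (nat_lit 0x10008004002001) (nat_lit 4112) (nat_lit 1) (nat_lit 4112) (nat_lit 0x10008004002001) (nat_lit 0) (nat_lit 0) .nil) (.cD (nat_lit 6) (.kA false (nat_lit 0x800900c01000200c00a00200f00300500100c01d00100a00400200700500d00800c014002005)) (.cD (nat_lit 18) (.kc (nat_lit 16) (nat_lit 0xc00301d001007005014002004)) (.cD (nat_lit 22) (.kc (nat_lit 16) (nat_lit 0x4006001002007003010001004)) .nil))))) (.cD (nat_lit 2) (.kA false (nat_lit 0x500100300a00100800400600300300100400600a002003)) (.cD (nat_lit 4) (.kc (nat_lit 14) (nat_lit 0x7001001)) (.cD (nat_lit 5) (.kA false (nat_lit 0x600700200800200e004002003005001004002008001003)) (.cD (nat_lit 6) (.kA false (nat_lit 0x600100300a00100e00400600300300700400600a002003)) (.cD (nat_lit 8) (.kc (nat_lit 10) (nat_lit 0x5001001)) (.cD (nat_lit 12) (.kc (nat_lit 6) (nat_lit 0x3001001)) (.cD (nat_lit 16) (.kc (nat_lit 22) (nat_lit 0xb001001)) (.cD (nat_lit 17) (.kc (nat_lit 16) (nat_lit 0x400600b001007003008001004)) (.cD (nat_lit 18) (.kc (nat_lit 16) (nat_lit 0x400400b001007003008001004)) (.cD (nat_lit 20) (.kc (nat_lit 26) (nat_lit 0xd001001)) (.cD (nat_lit 21) (.kc (nat_lit 16) (nat_lit 0xc00300500200700500a002004)) (.cD (nat_lit 22) (.kc (nat_lit 16) (nat_lit 0x4004001002007003008001004)) (.cD (nat_lit 24) (.kc (nat_lit 30) (nat_lit 0xf001001)) (.cD (nat_lit 28) (.kc (nat_lit 18) (nat_lit 0x9001001)) .nil)))))))))))))))) (.cD (nat_lit 16) (.dfs (nat_lit 2) (nat_lit 1) (nat_lit 1) (nat_lit 0x1004002001) (nat_lit 0x1004002001) (nat_lit 0) (nat_lit 0) (nat_lit 0) (nat_lit 0) (nat_lit 0) (nat_lit 0) (nat_lit 1) (nat_lit 0) (nat_lit 0x1002001) (nat_lit 8193) (nat_lit 0x1001001000002001005000006001011000012001015000016) (nat_lit 0x11771176) (.cD (nat_lit 1) (.dfs (nat_lit 1) (nat_lit 0x100100400a002) (nat_lit 0x100500400a002) (nat_lit 4104) (nat_lit 4104) (nat_lit 0) (nat_lit 0) (nat_lit 2) (nat_lit 1) (nat_lit 0) (nat_lit 2) (nat_lit 1) (nat_lit 0) (nat_lit 4097) (nat_lit 1) (nat_lit 0x1000002000006000012000016) (nat_lit 0x440044) (.cD (nat_lit 2) (.kA false (nat_lit 0x200801c00400100100801001c001002008004010001003)) (.cD (nat_lit 6) (.kA false (nat_lit 0x600801c00400100100801001c001002008004010001003)) (.cD (nat_lit 18) (.kc (nat_lit 16) (nat_lit 0xc00300d001006005004002004)) (.cD (nat_lit 22) (.kc (nat_lit 16) (nat_lit 0x4006001002007003010001004)) .nil))))) (.cD (nat_lit 2) (.kA false (nat_lit 0x500100b00200100800400700200300100400e002002003)) (.cD (nat_lit 4) (.kc (nat_lit 30) (nat_lit 0xf001001)) (.cD (nat_lit 5) (.kc (nat_lit 16) (nat_lit 0xc00500b001007003008001004)) (.cD (nat_lit 6) (.kc (nat_lit 16) (nat_lit 0xc00300b001007003008001004)) (.cD (nat_lit 8) (.kc (nat_lit 10) (nat_lit 0x5001001)) (.cD (nat_lit 12) (.kc (nat_lit 22) (nat_lit 0xb001001)) (.cD (nat_lit 16) (.kc (nat_lit 6) (nat_lit 0x3001001)) (.cD (nat_lit 17) (.kc (nat_lit 16) (nat_lit 0x4004001002005005005004009002006005002002007)) (.cD (nat_lit 18) (.kA false (nat_lit 0x700100b00200100a00400700200300300400e002002003)) (.cD (nat_lit 20) (.kc (nat_lit 26) (nat_lit 0xd001001)) (.cD (nat_lit 21) (.kc (nat_lit 16) (nat_lit 0xc00500900100500300d00500b001007003008001007)) (.cD (nat_lit 22) (.kc (nat_lit 16) (nat_lit 0x4004001002007003008001004)) (.cD (nat_lit 24) (.kc (nat_lit 14) (nat_lit 0x7001001)) (.cD (nat_lit 28) (.kc (nat_lit 18) (nat_lit 0x9001001)) .nil)))))))))))))))) (.cD (nat_lit 20) (.kc (nat_lit 28) (nat_lit 0x7001001)) (.cD (nat_lit 24) (.dfs (nat_lit 2) (nat_lit 1) (nat_lit 1) (nat_lit 0x1004002001) (nat_lit 0x1004002001) (nat_lit 0) (nat_lit 0) (nat_lit 0) (nat_lit 0) (nat_lit 0) (nat_lit 0) (nat_lit 1) (nat_lit 0) (nat_lit 0x1002001) (nat_lit 8193) (nat_lit 0x1001001000002001005000006001011000012001015000016) (nat_lit 0x11771176) (.cD (nat_lit 1) (.kA false (nat_lit 0x5001007008002008004005003005001004002008001003)) (.cD (nat_lit 2) (.kA false (nat_lit 0x100400b00600100800400b00600400500100900b001008004005007003001004002008001005)) (.cD (nat_lit 4) (.kc (nat_lit 22) (nat_lit 0xb001001)) (.cD (nat_lit 5) (.kc (nat_lit 16) (nat_lit 0x400600b001007003008001004)) (.cD (nat_lit 6) (.kc (nat_lit 16) (nat_lit 0x400400b001007003008001004)) (.cD (nat_lit 8) (.kc (nat_lit 10) (nat_lit 0x5001001)) (.cD (nat_lit 12) (.kc (nat_lit 30) (nat_lit 0xf001001)) (.cD (nat_lit 16) (.kc (nat_lit 14) (nat_lit 0x7001001)) (.cD (nat_lit 17) (.kc (nat_lit 16) (nat_lit 0xc005003001006003006002004)) (.cD (nat_lit 18) (.kc (nat_lit 16) (nat_lit 0xc003003001006003006002004)) (.cD (nat_lit 20) (.kc (nat_lit 26) (nat_lit 0xd001001)) (.cD (nat_lit 21) (.kc (nat_lit 16) (nat_lit 0xc00500900100500300500600b001007003008001007)) (.cD (nat_lit 22) (.kc (nat_lit 16) (nat_lit 0x4004001002007003008001004)) (.cD (nat_lit 24) (.kc (nat_lit 6) (nat_lit 0x3001001)) (.cD (nat_lit 28) (.kc (nat_lit 18) (nat_lit 0x9001001)) .nil)))))))))))))))) (.cD (nat_lit 28) (.kc (nat_lit 20) (nat_lit 0x5001001)) .nil)))))))) (.cD (nat_lit 12) (.dfs (nat_lit 4) (nat_lit 1) (nat_lit 1) (nat_lit 0x1002001) (nat_lit 0x1002001) (nat_lit 0) (nat_lit 0) (nat_lit 0) (nat_lit 0) (nat_lit 0) (nat_lit 0) (nat_lit 0x1002001) (nat_lit 2) (nat_lit 1) (nat_lit 0) (nat_lit 1) (nat_lit 0x11111110) (.cD (nat_lit 4) (.dfs (nat_lit 2) (nat_lit 1) (nat_lit 1) (nat_lit 0x1004002001) (nat_lit 0x1004002001) (nat_lit 0) (nat_lit 0) (nat_lit 0) (nat_lit 0) (nat_lit 0) (nat_lit 0) (nat_lit 1) (nat_lit 0) (nat_lit 0x1002001) (nat_lit 8193) (nat_lit 0x1001001000002001005000006001011000012001015000016) (nat_lit 0x11771176) (.cD (nat_lit 1) (.kA false (nat_lit 0x7004002008002002002000001004002008001003)) (.cD (nat_lit 2) (.kA false (nat_lit 0x7004002008002001001000001004002008001003)) (.cD (nat_lit 4) (.kc (nat_lit 6) (nat_lit 0x3001001)) (.cD (nat_lit 5) (.kA false (nat_lit 0x7004002008002002002000001004002008001003)) (.cD (nat_lit 6) (.kA false (nat_lit 0x7004002008002001001000001004002008001003)) (.cD (nat_lit 8) (.kc (nat_lit 14) (nat_lit 0x7001001)) (.cD (nat_lit 12) (.kc (nat_lit 10) (nat_lit 0x5001001)) (.cD (nat_lit 16) (.kc (nat_lit 26) (nat_lit 0xd001001)) (.cD (nat_lit 17) (.kc (nat_lit 16) (nat_lit 0xc00500b001007003008001004)) (.cD (nat_lit 18) (.kc (nat_lit 16) (nat_lit 0xc00300b001007003008001004)) (.cD (nat_lit 20) (.kc (nat_lit 30) (nat_lit 0xf001001)) (.cD (nat_lit 21) (.kc (nat_lit 16) (nat_lit 0x400600f00100f004008001004)) (.cD (nat_lit 22) (.kc (nat_lit 16) (nat_lit 0x4004001002007003008001004)) (.cD (nat_lit 24) (.kc (nat_lit 22) (nat_lit 0xb001001)) (.cD (nat_lit 28) (.kc (nat_lit 18) (nat_lit 0x9001001)) .nil)))))))))))))))) (.cD (nat_lit 8) (.dfs (nat_lit 2) (nat_lit 1) (nat_lit 1) (nat_lit 0x1004002001) (nat_lit 0x1004002001) (nat_lit 0) (nat_lit 0) (nat_lit 0) (nat_lit 0) (nat_lit 0) (nat_lit 0) (nat_lit 1) (nat_lit 0) (nat_lit 0x1002001) (nat_lit 8193) (nat_lit 0x1001001000002001005000006001011000012001015000016) (nat_lit 0x11771176) (.cD (nat_lit 1) (.kA false (nat_lit 0x3004002008002002002000001004002008001003)) (.cD (nat_lit 2) (.kA false (nat_lit 0x3004002008002001001000001004002008001003)) (.cD (nat_lit 4) (.kc (nat_lit 14) (nat_lit 0x7001001)) (.cD (nat_lit 5) (.kA false (nat_lit 0x3004002008002002002000001004002008001003)) (.cD (nat_lit 6) (.kA false (nat_lit 0x3004002008002001001000001004002008001003)) (.cD (nat_lit 8) (.kc (nat_lit 6) (nat_lit 0x3001001)) (.cD (nat_lit 12) (.kc (nat_lit 10) (nat_lit 0x5001001)) (.cD (nat_lit 16) (.kc (nat_lit 26) (nat_lit 0xd001001)) (.cD (nat_lit 17) (.kc (nat_lit 16) (nat_lit 0xc00500f00100f004008001004)) (.cD (nat_lit 18) (.kc (nat_lit 16) (nat_lit 0xc00300f00100f004008001004)) (.cD (nat_lit 20) (.kc (nat_lit 22) (nat_lit 0xb001001)) (.cD (nat_lit 21) (.kc (nat_lit 16) (nat_lit 0x400600b001007003008001004)) (.cD (nat_lit 22) (.kc (nat_lit 16) (nat_lit 0x400400b001007003008001004)) (.cD (nat_lit 24) (.kc (nat_lit 30) (nat_lit 0xf001001)) (.cD (nat_lit 28) (.kc (nat_lit 18) (nat_lit 0x9001001)) .nil)))))))))))))))) (.cD (nat_lit 12) (.kc (nat_lit 12) (nat_lit 0x3001001)) (.cD (nat_lit 16) (.kc (nat_lit 28) (nat_lit 0x7001001)) (.cD (nat_lit 20) (.kc (nat_lit 16) (nat_lit 0x2002003002006002003)) (.cD (nat_lit 24) (.kc (nat_lit 16) (nat_lit 0x7001004001002)) (.cD (nat_lit 28) (.kc (nat_lit 20) (nat_lit 0x5001001)) .nil)))))))) (.cD (nat_lit 16) (.kc (nat_lit 16) (nat_lit 0x1002001)) (.cD (nat_lit 20) (.dfs (nat_lit 4) (nat_lit 1) (nat_lit 1) (nat_lit 0x1002001) (nat_lit 0x1002001) (nat_lit 0) (nat_lit 0) (nat_lit 0) (nat_lit 0) (nat_lit 0) (nat_lit 0) (nat_lit 0x1002001) (nat_lit 2) (nat_lit 1) (nat_lit 0) (nat_lit 1) (nat_lit 0x11111110) (.cD (nat_lit 4) (.dfs (nat_lit 2) (nat_lit 1) (nat_lit 1) (nat_lit 0x1004002001) (nat_lit 0x1004002001) (nat_lit 0) (nat_lit 0) (nat_lit 0) (nat_lit 0) (nat_lit 0) (nat_lit 0) (nat_lit 1) (nat_lit 0) (nat_lit 0x1002001) (nat_lit 8193) (nat_lit 0x1001001000002001005000006001011000012001015000016) (nat_lit 0x11771176) (.cD (nat_lit 1) (.kc (nat_lit 16) (nat_lit 0xc00100d00500b001007003008001005)) (.cD (nat_lit 2) (.kc (nat_lit 16) (nat_lit 0xc003005002007003008001004)) (.cD (nat_lit 4) (.kc (nat_lit 6) (nat_lit 0x3001001)) (.cD (nat_lit 5) (.kc (nat_lit 16) (nat_lit 0xc00500f00100f004008001004)) (.cD (nat_lit 6) (.kc (nat_lit 16) (nat_lit 0xc00300f00100f004008001004)) (.cD (nat_lit 8) (.kc (nat_lit 26) (nat_lit 0xd001001)) (.cD (nat_lit 12) (.kc (nat_lit 30) (nat_lit 0xf001001)) (.cD (nat_lit 16) (.kc (nat_lit 14) (nat_lit 0x7001001)) (.cD (nat_lit 17) (.kc (nat_lit 16) (nat_lit 0xc00500b001007003008001004)) (.cD (nat_lit 18) (.kc (nat_lit 16) (nat_lit 0xc00300b001007003008001004)) (.cD (nat_lit 20) (.kc (nat_lit 10) (nat_lit 0x5001001)) (.cD (nat_lit 21) (.kc (nat_lit 16) (nat_lit 0xc00100d00500f00100f004008001005)) (.cD (nat_lit 22) (.kc (nat_lit 16) (nat_lit 0x4004001002007003008001004)) (.cD (nat_lit 24) (.kc (nat_lit 22) (nat_lit 0xb001001)) (.cD (nat_lit 28) (.kc (nat_lit 18) (nat_lit 0x9001001)) .nil)))))))))))))))) (.cD (nat_lit 8) (.kc (nat_lit 28) (nat_lit 0x7001001)) (.cD (nat_lit 12) (.kc (nat_lit 16) (nat_lit 0x2002005002002)) (.cD (nat_lit 16) (.kc (nat_lit 16) (nat_lit 0x6001007001004001003)) (.cD (nat_lit 20) (.kc (nat_lit 12) (nat_lit 0x3001001)) (.cD (nat_lit 24) (.kF (nat_lit 4) (nat_lit 0x6007001001004001002)) (.cD (nat_lit 28) (.kc (nat_lit 20) (nat_lit 0x5001001)) .nil)))))))) (.cD (nat_lit 24) (.dfs (nat_lit 4) (nat_lit 1) (nat_lit 1) (nat_lit 0x1002001) (nat_lit 0x1002001) (nat_lit 0) (nat_lit 0) (nat_lit 0) (nat_lit 0) (nat_lit 0) (nat_lit 0) (nat_lit 0x1002001) (nat_lit 2) (nat_lit 1) (nat_lit 0) (nat_lit 1) (nat_lit 0x11111110) (.cD (nat_lit 4) (.kc (nat_lit 28) (nat_lit 0x7001001)) (.cD (nat_lit 8) (.dfs (nat_lit 2) (nat_lit 1) (nat_lit 1) (nat_lit 0x1004002001) (nat_lit 0x1004002001) (nat_lit 0) (nat_lit 0) (nat_lit 0) (nat_lit 0) (nat_lit 0) (nat_lit 0) (nat_lit 1) (nat_lit 0) (nat_lit 0x1002001) (nat_lit 8193) (nat_lit 0x1001001000002001005000006001011000012001015000016) (nat_lit 0x11771176) (.cD (nat_lit 1) (.kc (nat_lit 16) (nat_lit 0xc005003001006003006002004)) (.cD (nat_lit 2) (.kc (nat_lit 16) (nat_lit 0xc003003001006003006002004)) (.cD (nat_lit 4) (.kc (nat_lit 26) (nat_lit 0xd001001)) (.cD (nat_lit 5) (.kc (nat_lit 16) (nat_lit 0xc00500f00100f004008001004)) (.cD (nat_lit 6) (.kc (nat_lit 16) (nat_lit 0xc00300f00100f004008001004)) (.cD (nat_lit 8) (.kc (nat_lit 6) (nat_lit 0x3001001)) (.cD (nat_lit 12) (.kc (nat_lit 30) (nat_lit 0xf001001)) (.cD (nat_lit 16) (.kc (nat_lit 14) (nat_lit 0x7001001)) (.cD (nat_lit 17) (.kc (nat_lit 16) (nat_lit 0x400600700100e004006002004)) (.cD (nat_lit 18) (.kc (nat_lit 16) (nat_lit 0x400400700100e004006002004)) (.cD (nat_lit 20) (.kc (nat_lit 22) (nat_lit 0xb001001)) (.cD (nat_lit 21) (.kc (nat_lit 16) (nat_lit 0x400600b001007003008001004)) (.cD (nat_lit 22) (.kc (nat_lit 16) (nat_lit 0x400400b001007003008001004)) (.cD (nat_lit 24) (.kc (nat_lit 10) (nat_lit 0x5001001)) (.cD (nat_lit 28) (.kc (nat_lit 18) (nat_lit 0x9001001)) .nil)))))))))))))))) (.cD (nat_lit 12) (.kc (nat_lit 16) (nat_lit 0x7001004001002)) (.cD (nat_lit 16) (.kc (nat_lit 16) (nat_lit 0x2002006002001002003)) (.cD (nat_lit 20) (.kF (nat_lit 4) (nat_lit 0x5007001001004001002)) (.cD (nat_lit 24) (.kc (nat_lit 12) (nat_lit 0x3001001)) (.cD (nat_lit 28) (.kc (nat_lit 20) (nat_lit 0x5001001)) .nil)))))))) (.cD (nat_lit 28) (.kc (nat_lit 24) (nat_lit 0x3001001)) .nil)))))))) .nil)))))))))))))))))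
theorem c203 : (chk [(x0, s0), (x1, s23), (x16, s24), (x17, s94), (x58, s95), (x59, s105), (x64, s106), (x65, s139), (x79, s148), (x84, s201), (x129, s202)] [g137, g196, g6, g136, g469, g468, g432, g463, g197, g431] p203).n x0 s203 = true := by decide +kernel
noncomputable def p204 : Pf := (.cut (nat_lit 0))
theorem c204 : (chk [(x0, s203)] [] p204).n x0 s204 = true := by decide +kernel

end Cfsg.Lib.D8.T0I
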