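import Cfsg.Agent.Lib.D8.CkZ
import Cfsg.Agent.Lib.D8.T.T0IC0
import Cfsg.Agent.Lib.D8.T.T0IC1

/-! The chain (generated, helper29). -/

set_option maxRecDepth 100000
set_option Elab.async false

namespace Cfsg.Lib.D8.T0I

universe u

theorem k0 : TabOK.{u} g0 := .triv
theorem k1 : TabOK.{u} g1 := k0.ext ha0 hb1
theorem k2 : TabOK.{u} g2 := k1.ext ha1 hb2
theorem k3 : TabOK.{u} g3 := k2.ext ha2 hb3
theorem k4 : TabOK.{u} g4 := k3.ext ha3 hb4
theorem k5 : TabOK.{u} g5 := (k4.ext ha4 hb5).tb ht5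
theorem k6 : TabOK.{u} g6 := (k5.ext ha5 hb6).tb ht6
theorem k8 : TabOK.{u} g8 := k3.ext ha7 hb8
theorem k9 : TabOK.{u} g9 := (k8.ext ha8 hb9).tb ht9
theorem k10 : TabOK.{u} g10 := k9.ext ha9 hb10
theorem k11 : TabOK.{u} g11 := k10.ext ha10 hb11
theorem k13 : TabOK.{u} g13 := (k3.ext ha7 hb13).tb ht13
theorem k14 : TabOK.{u} g14 := k13.ext ha11 hb14
theorem k15 : TabOK.{u} g15 := k14.ext ha12 hb15
theorem k16 : TabOK.{u} g16 := k15.ext ha13 hb16
theorem k19 : TabOK.{u} g19 := k2.ext ha14 hb19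
theorem k20 : TabOK.{u} g20 := (k19.ext ha15 hb20).tb ht20
theorem k21 : TabOK.{u} g21 := k20.ext ha16 hb21
theorem k22 : TabOK.{u} g22 := k21.ext ha17 hb22
theorem k23 : TabOK.{u} g23 := k22.ext ha18 hb23
theorem k24 : TabOK.{u} g24 := k9.ext ha19 hb24
theorem k25 : TabOK.{u} g25 := k24.ext ha20 hb25
theorem k26 : TabOK.{u} g26 := k6.ext ha21 hb26
theorem k31 : TabOK.{u} g31 := k3.ext ha23 hb31
theorem k32 : TabOK.{u} g32 := (k31.ext ha24 hb32).tb ht32
theorem k33 : TabOK.{u} g33 := k32.ext ha25 hb33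
theorem k34 : TabOK.{u} g34 := k33.ext ha26 hb34
theorem k35 : TabOK.{u} g35 := k34.ext ha27 hb35
theorem k36 : TabOK.{u} g36 := (k3.ext ha28 hb36).tb ht36
theorem k37 : TabOK.{u} g37 := k36.ext ha29 hb37
theorem k38 : TabOK.{u} g38 := k37.ext ha30 hb38
theorem k39 : TabOK.{u} g39 := k38.ext ha31 hb39
theorem k40 : TabOK.{u} g40 := k39.ext ha32 hb40
theorem k41 : TabOK.{u} g41 := k33.ext ha33 hb41
theorem k42 : TabOK.{u} g42 := k41.ext ha34 hb42
theorem k43 : TabOK.{u} g43 := k33.ext ha33 hb43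
theorem k44 : TabOK.{u} g44 := k43.ext ha35 hb44
theorem k45 : TabOK.{u} g45 := k6.ext ha21 hb45
theorem k48 : TabOK.{u} g48 := k9.ext ha36 hb48
theorem k49 : TabOK.{u} g49 := k48.ext ha37 hb49
theorem k50 : TabOK.{u} g50 := k9.ext ha36 hb50
theorem k51 : TabOK.{u} g51 := k50.ext ha38 hb51
theorem k54 : TabOK.{u} g54 := k14.ext ha40 hb54
theorem k55 : TabOK.{u} g55 := k54.ext ha41 hb55
theorem k58 : TabOK.{u} g58 := k9.ext ha42 hb58
theorem k59 : TabOK.{u} g59 := k58.ext ha43 hb59
theorem k60 : TabOK.{u} g60 := k9.ext ha44 hb60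
theorem k61 : TabOK.{u} g61 := k60.ext ha45 hb61
theorem k64 : TabOK.{u} g64 := k6.ext ha46 hb64
theorem k65 : TabOK.{u} g65 := k64.ext ha47 hb65
theorem k68 : TabOK.{u} g68 := k31.ext ha48 hb68
theorem k69 : TabOK.{u} g69 := k68.ext ha49 hb69
theorem k70 : TabOK.{u} g70 := k69.ext ha50 hb70
theorem k71 : TabOK.{u} g71 := k64.ext ha51 hb71
theorem k74 : TabOK.{u} g74 := k1.ext ha1 hb74
theorem k75 : TabOK.{u} g75 := k74.ext ha53 hb75
theorem k76 : TabOK.{u} g76 := (k75.ext ha54 hb76).tb ht76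
theorem k77 : TabOK.{u} g77 := (k76.ext ha55 hb77).tb ht77
theorem k78 : TabOK.{u} g78 := k77.ext ha56 hb78
theorem k79 : TabOK.{u} g79 := k78.ext ha57 hb79
theorem k80 : TabOK.{u} g80 := k79.ext ha58 hb80
theorem k81 : TabOK.{u} g81 := k80.ext ha59 hb81
theorem k82 : TabOK.{u} g82 := (k4.ext ha60 hb82).tb ht82
theorem k83 : TabOK.{u} g83 := k82.ext ha61 hb83
theorem k84 : TabOK.{u} g84 := k83.ext ha62 hb84
theorem k85 : TabOK.{u} g85 := k84.ext ha63 hb85
theorem k86 : TabOK.{u} g86 := k85.ext ha64 hb86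
theorem k89 : TabOK.{u} g89 := (k4.ext ha66 hb89).tb ht89
theorem k90 : TabOK.{u} g90 := k89.ext ha67 hb90
theorem k91 : TabOK.{u} g91 := k90.ext ha68 hb91
theorem k92 : TabOK.{u} g92 := k91.ext ha69 hb92
theorem k93 : TabOK.{u} g93 := k92.ext ha70 hb93
theorem k94 : TabOK.{u} g94 := k74.ext ha53 hb94
theorem k95 : TabOK.{u} g95 := (k94.ext ha71 hb95).tb ht95
theorem k96 : TabOK.{u} g96 := (k95.ext ha72 hb96).tb ht96
theorem k97 : TabOK.{u} g97 := k96.ext ha73 hb97
theorem k98 : TabOK.{u} g98 := k97.ext ha74 hb98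
theorem k99 : TabOK.{u} g99 := k98.ext ha75 hb99
theorem k100 : TabOK.{u} g100 := k99.ext ha76 hb100
theorem k104 : TabOK.{u} g104 := k24.ext ha77 hb104
theorem k105 : TabOK.{u} g105 := k104.ext ha78 hb105
theorem k106 : TabOK.{u} g106 := k24.ext ha79 hb106
theorem k107 : TabOK.{u} g107 := k106.ext ha80 hb107
theorem k108 : TabOK.{u} g108 := k24.ext ha79 hb108
theorem k109 : TabOK.{u} g109 := k108.ext ha81 hb109
theorem k110 : TabOK.{u} g110 := k64.ext ha82 hb110
theorem k113 : TabOK.{u} g113 := k78.ext ha84 hb113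
theorem k114 : TabOK.{u} g114 := k113.ext ha85 hb114
theorem k115 : TabOK.{u} g115 := k114.ext ha86 hb115
theorem k116 : TabOK.{u} g116 := k83.ext ha87 hb116
theorem k117 : TabOK.{u} g117 := k116.ext ha88 hb117
theorem k118 : TabOK.{u} g118 := k117.ext ha89 hb118
theorem k121 : TabOK.{u} g121 := k90.ext ha91 hb121
theorem k122 : TabOK.{u} g122 := k121.ext ha92 hb122
theorem k123 : TabOK.{u} g123 := k122.ext ha93 hb123
theorem k124 : TabOK.{u} g124 := k97.ext ha94 hb124
theorem k125 : TabOK.{u} g125 := k124.ext ha95 hb125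
theorem k126 : TabOK.{u} g126 := k125.ext ha96 hb126
theorem k130 : TabOK.{u} g130 := k24.ext ha97 hb130
theorem k131 : TabOK.{u} g131 := k130.ext ha98 hb131
theorem k132 : TabOK.{u} g132 := k24.ext ha99 hb132
theorem k133 : TabOK.{u} g133 := k132.ext ha100 hb133
theorem k134 : TabOK.{u} g134 := k24.ext ha99 hb134
theorem k135 : TabOK.{u} g135 := k134.ext ha101 hb135
theorem k136 : TabOK.{u} g136 := k5.ext ha5 hb136
theorem k137 : TabOK.{u} g137 := (k5.ext ha102 hb137).tb ht137
theorem k138 : TabOK.{u} g138 := k137.ext ha103 hb138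
theorem k139 : TabOK.{u} g139 := k138.ext ha104 hb139
theorem k142 : TabOK.{u} g142 := (k4.ext ha106 hb142).tb ht142
theorem k143 : TabOK.{u} g143 := k142.ext ha107 hb143
theorem k144 : TabOK.{u} g144 := k143.ext ha108 hb144
theorem k145 : TabOK.{u} g145 := k144.ext ha109 hb145
theorem k146 : TabOK.{u} g146 := k145.ext ha110 hb146
theorem k147 : TabOK.{u} g147 := k142.ext ha111 hb147
theorem k148 : TabOK.{u} g148 := k147.ext ha112 hb148
theorem k149 : TabOK.{u} g149 := k148.ext ha113 hb149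
theorem k150 : TabOK.{u} g150 := k149.ext ha114 hb150
theorem k152 : TabOK.{u} g152 := k2.ext ha115 hb152
theorem k153 : TabOK.{u} g153 := k152.ext ha116 hb153
theorem k154 : TabOK.{u} g154 := k153.ext ha117 hb154
theorem k155 : TabOK.{u} g155 := k154.ext ha118 hb155
theorem k156 : TabOK.{u} g156 := k155.ext ha119 hb156
theorem k157 : TabOK.{u} g157 := k156.ext ha120 hb157
theorem k160 : TabOK.{u} g160 := (k19.ext ha122 hb160).tb ht160
theorem k161 : TabOK.{u} g161 := k160.ext ha123 hb161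
theorem k162 : TabOK.{u} g162 := k161.ext ha124 hb162
theorem k163 : TabOK.{u} g163 := k162.ext ha125 hb163
theorem k164 : TabOK.{u} g164 := k163.ext ha126 hb164
theorem k165 : TabOK.{u} g165 := (k3.ext ha127 hb165).tb ht165
theorem k166 : TabOK.{u} g166 := k165.ext ha128 hb166
theorem k167 : TabOK.{u} g167 := k166.ext ha129 hb167
theorem k168 : TabOK.{u} g168 := k167.ext ha130 hb168
theorem k169 : TabOK.{u} g169 := k168.ext ha131 hb169
theorem k171 : TabOK.{u} g171 := k137.ext ha132 hb171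
theorem k172 : TabOK.{u} g172 := k171.ext ha133 hb172
theorem k175 : TabOK.{u} g175 := k144.ext ha135 hb175
theorem k176 : TabOK.{u} g176 := k175.ext ha136 hb176
theorem k177 : TabOK.{u} g177 := k148.ext ha137 hb177
theorem k178 : TabOK.{u} g178 := k177.ext ha138 hb178
theorem k180 : TabOK.{u} g180 := k4.ext ha139 hb180
theorem k181 : TabOK.{u} g181 := k180.ext ha140 hb181
theorem k182 : TabOK.{u} g182 := k181.ext ha141 hb182
theorem k183 : TabOK.{u} g183 := k182.ext ha142 hb183
theorem k186 : TabOK.{u} g186 := k4.ext ha144 hb186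
theorem k187 : TabOK.{u} g187 := k186.ext ha145 hb187
theorem k188 : TabOK.{u} g188 := k187.ext ha146 hb188
theorem k189 : TabOK.{u} g189 := k188.ext ha147 hb189
theorem k190 : TabOK.{u} g190 := (k19.ext ha148 hb190).tb ht190
theorem k191 : TabOK.{u} g191 := k190.ext ha149 hb191
theorem k192 : TabOK.{u} g192 := k191.ext ha150 hb192
theorem k193 : TabOK.{u} g193 := k192.ext ha151 hb193
theorem k194 : TabOK.{u} g194 := k193.ext ha152 hb194
theorem k196 : TabOK.{u} g196 := k5.ext ha102 hb196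
theorem k197 : TabOK.{u} g197 := (k5.ext ha153 hb197).tb ht197
theorem k198 : TabOK.{u} g198 := (k197.ext ha154 hb198).tb ht198
theorem k199 : TabOK.{u} g199 := k198.ext ha155 hb199
theorem k200 : TabOK.{u} g200 := k3.ext ha156 hb200
theorem k201 : TabOK.{u} g201 := (k200.ext ha157 hb201).tb ht201
theorem k202 : TabOK.{u} g202 := k201.ext ha158 hb202
theorem k203 : TabOK.{u} g203 := k202.ext ha159 hb203
theorem k204 : TabOK.{u} g204 := k203.ext ha160 hb204
theorem k209 : TabOK.{u} g209 := k4.ext ha162 hb209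
theorem k210 : TabOK.{u} g210 := k209.ext ha163 hb210
theorem k211 : TabOK.{u} g211 := k210.ext ha164 hb211
theorem k212 : TabOK.{u} g212 := k211.ext ha165 hb212
theorem k213 : TabOK.{u} g213 := k212.ext ha166 hb213
theorem k214 : TabOK.{u} g214 := k204.ext ha167 hb214
theorem k215 : TabOK.{u} g215 := k202.ext ha168 hb215
theorem k216 : TabOK.{u} g216 := k215.ext ha169 hb216
theorem k217 : TabOK.{u} g217 := k216.ext ha170 hb217
theorem k218 : TabOK.{u} g218 := k203.ext ha160 hb218
theorem k219 : TabOK.{u} g219 := k218.ext ha171 hb219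
theorem k286 : TabOK.{u} g286 := k203.ext ha190 hb286
theorem k287 : TabOK.{u} g287 := k286.ext ha191 hb287
theorem k288 : TabOK.{u} g288 := k203.ext ha190 hb288
theorem k289 : TabOK.{u} g289 := k288.ext ha192 hb289
theorem k295 : TabOK.{u} g295 := k153.ext ha194 hb295
theorem k296 : TabOK.{u} g296 := k295.ext ha195 hb296
theorem k297 : TabOK.{u} g297 := k296.ext ha196 hb297
theorem k298 : TabOK.{u} g298 := k297.ext ha197 hb298
theorem k299 : TabOK.{u} g299 := k198.ext ha198 hb299
theorem k300 : TabOK.{u} g300 := (k4.ext ha199 hb300).tb ht300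
theorem k301 : TabOK.{u} g301 := k300.ext ha200 hb301
theorem k302 : TabOK.{u} g302 := k301.ext ha201 hb302
theorem k303 : TabOK.{u} g303 := k302.ext ha202 hb303
theorem k308 : TabOK.{u} g308 := (k4.ext ha204 hb308).tb ht308
theorem k309 : TabOK.{u} g309 := k308.ext ha205 hb309
theorem k310 : TabOK.{u} g310 := k309.ext ha206 hb310
theorem k311 : TabOK.{u} g311 := k310.ext ha207 hb311
theorem k312 : TabOK.{u} g312 := k311.ext ha208 hb312
theorem k313 : TabOK.{u} g313 := k153.ext ha117 hb313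
theorem k314 : TabOK.{u} g314 := k313.ext ha209 hb314
theorem k315 : TabOK.{u} g315 := k314.ext ha210 hb315
theorem k316 : TabOK.{u} g316 := k315.ext ha211 hb316
theorem k317 : TabOK.{u} g317 := k316.ext ha212 hb317
theorem k318 : TabOK.{u} g318 := k301.ext ha213 hb318
theorem k319 : TabOK.{u} g319 := k318.ext ha214 hb319
theorem k320 : TabOK.{u} g320 := k319.ext ha215 hb320
theorem k321 : TabOK.{u} g321 := k302.ext ha202 hb321
theorem k322 : TabOK.{u} g322 := k321.ext ha216 hb322
theorem k387 : TabOK.{u} g387 := k300.ext ha233 hb387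
theorem k388 : TabOK.{u} g388 := k387.ext ha234 hb388
theorem k389 : TabOK.{u} g389 := k388.ext ha235 hb389
theorem k397 : TabOK.{u} g397 := k197.ext ha154 hb397
theorem k398 : TabOK.{u} g398 := k197.ext ha154 hb398
theorem k399 : TabOK.{u} g399 := k197.ext ha154 hb399
theorem k400 : TabOK.{u} g400 := k197.ext ha237 hb400
theorem k401 : TabOK.{u} g401 := k400.ext ha238 hb401
theorem k402 : TabOK.{u} g402 := k400.ext ha238 hb402
theorem k405 : TabOK.{u} g405 := k308.ext ha239 hb405
theorem k406 : TabOK.{u} g406 := k405.ext ha240 hb406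
theorem k407 : TabOK.{u} g407 := k406.ext ha241 hb407
theorem k408 : TabOK.{u} g408 := (k3.ext ha3 hb408).tb ht408
theorem k409 : TabOK.{u} g409 := k408.ext ha242 hb409
theorem k410 : TabOK.{u} g410 := k409.ext ha243 hb410
theorem k411 : TabOK.{u} g411 := k410.ext ha244 hb411
theorem k412 : TabOK.{u} g412 := k411.ext ha245 hb412
theorem k420 : TabOK.{u} g420 := (k3.ext ha247 hb420).tb ht420
theorem k421 : TabOK.{u} g421 := k420.ext ha248 hb421
theorem k422 : TabOK.{u} g422 := k421.ext ha249 hb422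
theorem k423 : TabOK.{u} g423 := k422.ext ha250 hb423
theorem k424 : TabOK.{u} g424 := k421.ext ha251 hb424
theorem k425 : TabOK.{u} g425 := k424.ext ha252 hb425
theorem k426 : TabOK.{u} g426 := k20.ext ha253 hb426
theorem k427 : TabOK.{u} g427 := k426.ext ha254 hb427
theorem k428 : TabOK.{u} g428 := k427.ext ha255 hb428
theorem k429 : TabOK.{u} g429 := k37.ext ha256 hb429
theorem k430 : TabOK.{u} g430 := k429.ext ha257 hb430
theorem k431 : TabOK.{u} g431 := k5.ext ha153 hb431
theorem k432 : TabOK.{u} g432 := (k5.ext ha258 hb432).tb ht432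
theorem k433 : TabOK.{u} g433 := k432.ext ha259 hb433
theorem k434 : TabOK.{u} g434 := k433.ext ha260 hb434
theorem k435 : TabOK.{u} g435 := k4.ext ha261 hb435
theorem k436 : TabOK.{u} g436 := k435.ext ha262 hb436
theorem k437 : TabOK.{u} g437 := k436.ext ha263 hb437
theorem k438 : TabOK.{u} g438 := k437.ext ha264 hb438
theorem k440 : TabOK.{u} g440 := k433.ext ha265 hb440
theorem k441 : TabOK.{u} g441 := k4.ext ha266 hb441
theorem k442 : TabOK.{u} g442 := k441.ext ha267 hb442
theorem k443 : TabOK.{u} g443 := k442.ext ha268 hb443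
theorem k444 : TabOK.{u} g444 := k443.ext ha269 hb444
theorem k446 : TabOK.{u} g446 := k433.ext ha270 hb446
theorem k448 : TabOK.{u} g448 := k433.ext ha271 hb448
theorem k449 : TabOK.{u} g449 := k154.ext ha272 hb449
theorem k450 : TabOK.{u} g450 := k449.ext ha273 hb450
theorem k451 : TabOK.{u} g451 := k450.ext ha274 hb451
theorem k453 : TabOK.{u} g453 := k432.ext ha259 hb453
theorem k456 : TabOK.{u} g456 := k432.ext ha275 hb456
theorem k460 : TabOK.{u} g460 := k20.ext ha276 hb460
theorem k461 : TabOK.{u} g461 := k460.ext ha277 hb461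
theorem k462 : TabOK.{u} g462 := k461.ext ha278 hb462
theorem k463 : TabOK.{u} g463 := (k5.ext ha258 hb463).tb ht463
theorem k468 : TabOK.{u} g468 := k5.ext ha280 hb468
theorem k469 : TabOK.{u} g469 := (k5.ext ha280 hb469).tb ht469
theorem k471 : TabOK.{u} g471 := k469.ext ha281 hb471
theorem k474 : TabOK.{u} g474 := k2.ext ha2 hb474
theorem k475 : TabOK.{u} g475 := k474.ext ha282 hb475
theorem k476 : TabOK.{u} g476 := k475.ext ha283 hb476
theorem k477 : TabOK.{u} g477 := k476.ext ha284 hb477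
theorem k478 : TabOK.{u} g478 := k477.ext ha285 hb478
theorem v0 : Valid.{u} x0 s0 := chk_ok .nil .nil c0
theorem v1 : Valid.{u} x3 s1 := chk_ok .nil .nil c1
theorem v2 : Valid.{u} x7 s2 := chk_ok .nil (.cons k176 (.cons k178 .nil)) c2
theorem v3 : Valid.{u} x7 s3 := chk_ok .nil (.cons k176 (.cons k178 .nil)) c3
theorem v4 : Valid.{u} x7 s4 := chk_ok (.cons v2 (.cons v3 .nil)) .nil c4
theorem v5 : Valid.{u} x7 s5 := chk_ok (.cons v4 .nil) .nil c5
theorem v6 : Valid.{u} x7 s6 := chk_ok (.cons v5 .nil) .nil c6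
theorem v7 : Valid.{u} x7 s7 := chk_ok (.cons v6 .nil) (.cons k172 .nil) c7
theorem v8 : Valid.{u} x7 s8 := chk_ok (.cons v7 .nil) .nil c8
theorem v9 : Valid.{u} x2 s9 := chk_ok (.cons v1 (.cons v8 .nil)) (.cons k138 (.cons k189 (.cons k194 (.cons k183 .nil)))) c9
theorem v10 : Valid.{u} x2 s10 := chk_ok (.cons v9 .nil) .nil c10
theorem v11 : Valid.{u} x1 s11 := chk_ok (.cons v10 .nil) (.cons k171 .nil) c11
theorem v12 : Valid.{u} x13 s12 := chk_ok .nil (.cons k146 (.cons k150 .nil)) c12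
theorem v13 : Valid.{u} x13 s13 := chk_ok .nil (.cons k146 (.cons k150 .nil)) c13
theorem v14 : Valid.{u} x13 s14 := chk_ok (.cons v12 (.cons v13 .nil)) .nil c14
theorem v15 : Valid.{u} x13 s15 := chk_ok (.cons v14 .nil) .nil c15
theorem v16 : Valid.{u} x13 s16 := chk_ok (.cons v15 .nil) .nil c16
theorem v17 : Valid.{u} x13 s17 := chk_ok (.cons v16 .nil) (.cons k139 .nil) c17
theorem v18 : Valid.{u} x13 s18 := chk_ok (.cons v17 .nil) .nil c18
theorem v19 : Valid.{u} x3 s19 := chk_ok (.cons v1 (.cons v18 .nil)) (.cons k164 (.cons k169 (.cons k157 .nil))) c19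
theorem v20 : Valid.{u} x3 s20 := chk_ok (.cons v19 .nil) .nil c20
theorem v21 : Valid.{u} x1 s21 := chk_ok (.cons v20 .nil) (.cons k138 .nil) c21
theorem v22 : Valid.{u} x1 s22 := chk_ok (.cons v11 (.cons v21 .nil)) .nil c22
theorem v23 : Valid.{u} x1 s23 := chk_ok (.cons v22 .nil) (.cons k137 .nil) c23
theorem v24 : Valid.{u} x16 s24 := chk_ok .nil .nil c24
theorem v25 : Valid.{u} x18 s25 := chk_ok .nil .nil c25
theorem v26 : Valid.{u} x20 s26 := chk_ok .nil .nil c26
theorem v27 : Valid.{u} x22 s27 := chk_ok .nil .nil c27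
theorem v28 : Valid.{u} x21 s28 := chk_ok (.cons v27 .nil) (.cons k65 .nil) c28
theorem v29 : Valid.{u} x21 s29 := chk_ok (.cons v28 .nil) (.cons k64 .nil) c29
theorem v30 : Valid.{u} x21 s30 := chk_ok (.cons v29 .nil) .nil c30
theorem v31 : Valid.{u} x23 s31 := chk_ok .nil (.cons k123 (.cons k126 .nil)) c31
theorem v32 : Valid.{u} x23 s32 := chk_ok .nil (.cons k115 (.cons k118 .nil)) c32
theorem v33 : Valid.{u} x23 s33 := chk_ok (.cons v31 (.cons v32 .nil)) .nil c33
theorem v34 : Valid.{u} x23 s34 := chk_ok (.cons v33 .nil) .nil c34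
theorem v35 : Valid.{u} x23 s35 := chk_ok (.cons v34 .nil) .nil c35
theorem v36 : Valid.{u} x23 s36 := chk_ok (.cons v35 .nil) (.cons k110 .nil) c36
theorem v37 : Valid.{u} x21 s37 := chk_ok (.cons v36 .nil) (.cons k131 (.cons k133 (.cons k135 .nil))) c37
theorem v38 : Valid.{u} x31 s38 := chk_ok .nil (.cons k93 (.cons k100 .nil)) c38
theorem v39 : Valid.{u} x31 s39 := chk_ok .nil (.cons k81 (.cons k86 .nil)) c39
theorem v40 : Valid.{u} x31 s40 := chk_ok (.cons v38 (.cons v39 .nil)) .nil c40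
theorem v41 : Valid.{u} x31 s41 := chk_ok (.cons v40 .nil) .nil c41
theorem v42 : Valid.{u} x31 s42 := chk_ok (.cons v41 .nil) .nil c42
theorem v43 : Valid.{u} x31 s43 := chk_ok (.cons v42 .nil) (.cons k71 .nil) c43
theorem v44 : Valid.{u} x21 s44 := chk_ok (.cons v43 .nil) (.cons k105 (.cons k107 (.cons k109 .nil))) c44
theorem v45 : Valid.{u} x21 s45 := chk_ok (.cons v37 (.cons v44 .nil)) .nil c45
theorem v46 : Valid.{u} x21 s46 := chk_ok (.cons v45 .nil) .nil c46
theorem v47 : Valid.{u} x21 s47 := chk_ok (.cons v30 (.cons v46 .nil)) (.cons k64 .nil) c47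
theorem v48 : Valid.{u} x21 s48 := chk_ok (.cons v47 .nil) (.cons k64 .nil) c48
theorem v49 : Valid.{u} x21 s49 := chk_ok (.cons v48 .nil) (.cons k64 .nil) c49
theorem v50 : Valid.{u} x17 s50 := chk_ok (.cons v25 (.cons v26 (.cons v49 .nil))) (.cons k70 .nil) c50
theorem v51 : Valid.{u} x18 s51 := chk_ok .nil .nil c51
theorem v52 : Valid.{u} x20 s52 := chk_ok .nil .nil c52
theorem v53 : Valid.{u} x21 s53 := chk_ok .nil .nil c53
theorem v54 : Valid.{u} x21 s54 := chk_ok (.cons v30 (.cons v53 .nil)) .nil c54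
theorem v55 : Valid.{u} x21 s55 := chk_ok (.cons v54 .nil) (.cons k64 .nil) c55
theorem v56 : Valid.{u} x21 s56 := chk_ok (.cons v55 .nil) (.cons k64 .nil) c56
theorem v57 : Valid.{u} x17 s57 := chk_ok (.cons v51 (.cons v52 (.cons v56 .nil))) (.cons k70 .nil) c57
theorem v58 : Valid.{u} x17 s58 := chk_ok (.cons v50 (.cons v57 .nil)) .nil c58
theorem v59 : Valid.{u} x17 s59 := chk_ok (.cons v58 .nil) .nil c59
theorem v60 : Valid.{u} x39 s60 := chk_ok .nil .nil c60
theorem v61 : Valid.{u} x42 s61 := chk_ok .nil (.cons k55 .nil) c61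
theorem v62 : Valid.{u} x17 s62 := chk_ok (.cons v60 (.cons v61 .nil)) (.cons k59 (.cons k61 .nil)) c62
theorem v63 : Valid.{u} x39 s63 := chk_ok .nil .nil c63
theorem v64 : Valid.{u} x42 s64 := chk_ok .nil (.cons k55 .nil) c64
theorem v65 : Valid.{u} x17 s65 := chk_ok (.cons v63 (.cons v64 .nil)) (.cons k59 (.cons k61 .nil)) c65
theorem v66 : Valid.{u} x17 s66 := chk_ok (.cons v62 (.cons v65 .nil)) .nil c66
theorem v67 : Valid.{u} x17 s67 := chk_ok (.cons v66 .nil) .nil c67
theorem v68 : Valid.{u} x17 s68 := chk_ok (.cons v59 (.cons v67 .nil)) .nil c68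
theorem v69 : Valid.{u} x44 s69 := chk_ok .nil (.cons k35 (.cons k40 (.cons k42 (.cons k44 .nil)))) c69
theorem v70 : Valid.{u} x44 s70 := chk_ok .nil (.cons k35 (.cons k40 (.cons k42 (.cons k44 .nil)))) c70
theorem v71 : Valid.{u} x44 s71 := chk_ok (.cons v69 (.cons v70 .nil)) .nil c71
theorem v72 : Valid.{u} x44 s72 := chk_ok (.cons v71 .nil) .nil c72
theorem v73 : Valid.{u} x44 s73 := chk_ok .nil .nil c73
theorem v74 : Valid.{u} x44 s74 := chk_ok (.cons v72 (.cons v73 .nil)) .nil c74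
theorem v75 : Valid.{u} x44 s75 := chk_ok (.cons v74 .nil) (.cons k26 .nil) c75
theorem v76 : Valid.{u} x44 s76 := chk_ok (.cons v75 .nil) (.cons k26 .nil) c76
theorem v77 : Valid.{u} x49 s77 := chk_ok .nil .nil c77
theorem v78 : Valid.{u} x17 s78 := chk_ok (.cons v76 (.cons v77 .nil)) (.cons k45 (.cons k49 (.cons k51 .nil))) c78
theorem v79 : Valid.{u} x44 s79 := chk_ok (.cons v74 .nil) (.cons k26 .nil) c79
theorem v80 : Valid.{u} x44 s80 := chk_ok (.cons v79 .nil) (.cons k26 .nil) c80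
theorem v81 : Valid.{u} x17 s81 := chk_ok (.cons v80 (.cons v77 .nil)) (.cons k49 (.cons k51 .nil)) c81
theorem v82 : Valid.{u} x17 s82 := chk_ok (.cons v78 (.cons v81 .nil)) .nil c82
theorem v83 : Valid.{u} x17 s83 := chk_ok (.cons v82 .nil) .nil c83
theorem v84 : Valid.{u} x52 s84 := chk_ok .nil (.cons k11 .nil) c84
theorem v85 : Valid.{u} x54 s85 := chk_ok .nil (.cons k16 .nil) c85
theorem v86 : Valid.{u} x17 s86 := chk_ok (.cons v84 (.cons v85 .nil)) (.cons k23 (.cons k25 .nil)) c86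
theorem v87 : Valid.{u} x52 s87 := chk_ok .nil (.cons k11 .nil) c87
theorem v88 : Valid.{u} x54 s88 := chk_ok .nil (.cons k16 .nil) c88
theorem v89 : Valid.{u} x17 s89 := chk_ok (.cons v87 (.cons v88 .nil)) (.cons k23 (.cons k25 .nil)) c89
theorem v90 : Valid.{u} x17 s90 := chk_ok (.cons v86 (.cons v89 .nil)) .nil c90
theorem v91 : Valid.{u} x17 s91 := chk_ok (.cons v90 .nil) .nil c91
theorem v92 : Valid.{u} x17 s92 := chk_ok (.cons v83 (.cons v91 .nil)) .nil c92
theorem v93 : Valid.{u} x17 s93 := chk_ok (.cons v68 (.cons v92 .nil)) .nil c93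
theorem v94 : Valid.{u} x17 s94 := chk_ok (.cons v93 .nil) (.cons k6 .nil) c94
theorem v95 : Valid.{u} x58 s95 := chk_ok .nil .nil c95
theorem v96 : Valid.{u} x60 s96 := chk_ok .nil .nil c96
theorem v97 : Valid.{u} x61 s97 := chk_ok (.cons v47 .nil) (.cons k64 .nil) c97
theorem v98 : Valid.{u} x61 s98 := chk_ok (.cons v97 .nil) (.cons k471 .nil) c98
theorem v99 : Valid.{u} x62 s99 := chk_ok .nil .nil c99
theorem v100 : Valid.{u} x59 s100 := chk_ok (.cons v96 (.cons v98 (.cons v99 .nil))) (.cons k478 .nil) c100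
theorem v101 : Valid.{u} x59 s101 := chk_ok (.cons v100 .nil) (.cons k469 .nil) c101
theorem v102 : Valid.{u} x59 s102 := chk_ok .nil .nil c102
theorem v103 : Valid.{u} x59 s103 := chk_ok (.cons v101 (.cons v102 .nil)) .nil c103
theorem v104 : Valid.{u} x59 s104 := chk_ok (.cons v103 .nil) .nil c104
theorem v105 : Valid.{u} x59 s105 := chk_ok (.cons v104 .nil) .nil c105
theorem v106 : Valid.{u} x64 s106 := chk_ok .nil .nil c106
theorem v107 : Valid.{u} x66 s107 := chk_ok .nil .nil c107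
theorem v108 : Valid.{u} x67 s108 := chk_ok .nil .nil c108
theorem v109 : Valid.{u} x65 s109 := chk_ok (.cons v107 (.cons v108 .nil)) (.cons k456 (.cons k462 .nil)) c109
theorem v110 : Valid.{u} x70 s110 := chk_ok .nil (.cons k451 .nil) c110
theorem v111 : Valid.{u} x69 s111 := chk_ok (.cons v110 .nil) (.cons k448 .nil) c111
theorem v112 : Valid.{u} x72 s112 := chk_ok .nil (.cons k444 .nil) c112
theorem v113 : Valid.{u} x69 s113 := chk_ok (.cons v112 .nil) (.cons k440 .nil) c113
theorem v114 : Valid.{u} x69 s114 := chk_ok (.cons v111 (.cons v113 .nil)) (.cons k433 .nil) c114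
theorem v115 : Valid.{u} x74 s115 := chk_ok .nil .nil c115
theorem v116 : Valid.{u} x69 s116 := chk_ok (.cons v115 .nil) (.cons k446 .nil) c116
theorem v117 : Valid.{u} x75 s117 := chk_ok .nil .nil c117
theorem v118 : Valid.{u} x69 s118 := chk_ok (.cons v117 .nil) (.cons k434 .nil) c118
theorem v119 : Valid.{u} x69 s119 := chk_ok (.cons v116 (.cons v118 .nil)) (.cons k433 .nil) c119
theorem v120 : Valid.{u} x69 s120 := chk_ok (.cons v114 (.cons v119 .nil)) .nil c120
theorem v121 : Valid.{u} x69 s121 := chk_ok .nil .nil c121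
theorem v122 : Valid.{u} x69 s122 := chk_ok (.cons v120 (.cons v121 .nil)) .nil c122
theorem v123 : Valid.{u} x69 s123 := chk_ok .nil .nil c123
theorem v124 : Valid.{u} x69 s124 := chk_ok (.cons v113 (.cons v118 .nil)) (.cons k433 .nil) c124
theorem v125 : Valid.{u} x75 s125 := chk_ok .nil (.cons k438 .nil) c125
theorem v126 : Valid.{u} x69 s126 := chk_ok (.cons v125 .nil) (.cons k434 .nil) c126
theorem v127 : Valid.{u} x69 s127 := chk_ok (.cons v118 (.cons v126 .nil)) .nil c127
theorem v128 : Valid.{u} x69 s128 := chk_ok (.cons v124 (.cons v127 .nil)) .nil c128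
theorem v129 : Valid.{u} x69 s129 := chk_ok (.cons v123 (.cons v128 .nil)) .nil c129
theorem v130 : Valid.{u} x69 s130 := chk_ok (.cons v122 (.cons v129 .nil)) .nil c130
theorem v131 : Valid.{u} x69 s131 := chk_ok (.cons v130 .nil) (.cons k433 .nil) c131
theorem v132 : Valid.{u} x69 s132 := chk_ok (.cons v131 .nil) (.cons k433 .nil) c132
theorem v133 : Valid.{u} x77 s133 := chk_ok .nil .nil c133
theorem v134 : Valid.{u} x78 s134 := chk_ok .nil .nil c134
theorem v135 : Valid.{u} x65 s135 := chk_ok (.cons v132 (.cons v133 (.cons v134 .nil))) (.cons k453 .nil) c135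
theorem v136 : Valid.{u} x65 s136 := chk_ok (.cons v109 (.cons v135 .nil)) .nil c136
theorem v137 : Valid.{u} x65 s137 := chk_ok (.cons v136 .nil) .nil c137
theorem v138 : Valid.{u} x65 s138 := chk_ok (.cons v137 .nil) .nil c138
theorem v139 : Valid.{u} x65 s139 := chk_ok (.cons v138 .nil) .nil c139
theorem v140 : Valid.{u} x80 s140 := chk_ok .nil .nil c140
theorem v141 : Valid.{u} x81 s141 := chk_ok .nil .nil c141
theorem v142 : Valid.{u} x82 s142 := chk_ok .nil .nil c142
theorem v143 : Valid.{u} x83 s143 := chk_ok .nil .nil c143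
theorem v144 : Valid.{u} x79 s144 := chk_ok (.cons v140 (.cons v141 (.cons v142 (.cons v143 .nil)))) .nil c144
theorem v145 : Valid.{u} x79 s145 := chk_ok (.cons v144 .nil) (.cons k463 .nil) c145
theorem v146 : Valid.{u} x79 s146 := chk_ok (.cons v145 .nil) .nil c146
theorem v147 : Valid.{u} x79 s147 := chk_ok (.cons v146 .nil) .nil c147
theorem v148 : Valid.{u} x79 s148 := chk_ok (.cons v147 .nil) .nil c148
theorem v149 : Valid.{u} x86 s149 := chk_ok .nil .nil c149
theorem v150 : Valid.{u} x88 s150 := chk_ok .nil .nil c150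
theorem v151 : Valid.{u} x84 s151 := chk_ok (.cons v149 (.cons v150 .nil)) (.cons k428 (.cons k430 .nil)) c151
theorem v152 : Valid.{u} x86 s152 := chk_ok .nil .nil c152
theorem v153 : Valid.{u} x88 s153 := chk_ok .nil .nil c153
theorem v154 : Valid.{u} x84 s154 := chk_ok (.cons v152 (.cons v153 .nil)) (.cons k423 (.cons k425 .nil)) c154
theorem v155 : Valid.{u} x84 s155 := chk_ok (.cons v151 (.cons v154 .nil)) .nil c155
theorem v156 : Valid.{u} x91 s156 := chk_ok .nil .nil c156
theorem v157 : Valid.{u} x92 s157 := chk_ok .nil .nil c157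
theorem v158 : Valid.{u} x94 s158 := chk_ok .nil .nil c158
theorem v159 : Valid.{u} x96 s159 := chk_ok .nil .nil c159
theorem v160 : Valid.{u} x92 s160 := chk_ok (.cons v158 (.cons v159 .nil)) (.cons k407 (.cons k401 (.cons k412 (.cons k402 .nil)))) c160
theorem v161 : Valid.{u} x92 s161 := chk_ok (.cons v160 .nil) .nil c161
theorem v162 : Valid.{u} x92 s162 := chk_ok (.cons v158 (.cons v159 .nil)) (.cons k407 (.cons k412 .nil)) c162
theorem v163 : Valid.{u} x92 s163 := chk_ok (.cons v162 .nil) .nil c163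
theorem v164 : Valid.{u} x92 s164 := chk_ok (.cons v161 (.cons v163 .nil)) (.cons k400 .nil) c164
theorem v165 : Valid.{u} x92 s165 := chk_ok (.cons v164 .nil) .nil c165
theorem v166 : Valid.{u} x92 s166 := chk_ok (.cons v157 (.cons v165 .nil)) .nil c166
theorem v167 : Valid.{u} x92 s167 := chk_ok (.cons v166 .nil) (.cons k400 .nil) c167
theorem v168 : Valid.{u} x97 s168 := chk_ok .nil .nil c168
theorem v169 : Valid.{u} x98 s169 := chk_ok .nil .nil c169
theorem v170 : Valid.{u} x84 s170 := chk_ok (.cons v156 (.cons v167 (.cons v168 (.cons v169 .nil)))) (.cons k397 (.cons k399 (.cons k398 .nil))) c170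
theorem v171 : Valid.{u} x101 s171 := chk_ok .nil (.cons k303 .nil) c171
theorem v172 : Valid.{u} x101 s172 := chk_ok (.cons v171 .nil) (.cons k312 (.cons k317 (.cons k320 (.cons k322 .nil)))) c172
theorem v173 : Valid.{u} x100 s173 := chk_ok (.cons v172 .nil) (.cons k299 .nil) c173
theorem v174 : Valid.{u} x107 s174 := chk_ok .nil .nil c174
theorem v175 : Valid.{u} x108 s175 := chk_ok .nil .nil c175
theorem v176 : Valid.{u} x109 s176 := chk_ok .nil .nil c176
theorem v177 : Valid.{u} x99 s177 := chk_ok (.cons v173 (.cons v174 (.cons v175 (.cons v176 .nil)))) .nil c177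
theorem v178 : Valid.{u} x99 s178 := chk_ok (.cons v177 .nil) (.cons k198 .nil) c178
theorem v179 : Valid.{u} x110 s179 := chk_ok .nil (.cons k389 .nil) c179
theorem v180 : Valid.{u} x112 s180 := chk_ok .nil .nil c180
theorem v181 : Valid.{u} x113 s181 := chk_ok .nil .nil c181
theorem v182 : Valid.{u} x114 s182 := chk_ok .nil .nil c182
theorem v183 : Valid.{u} x99 s183 := chk_ok (.cons v179 (.cons v180 (.cons v181 (.cons v182 .nil)))) .nil c183
theorem v184 : Valid.{u} x99 s184 := chk_ok (.cons v183 .nil) (.cons k198 .nil) c184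
theorem v185 : Valid.{u} x101 s185 := chk_ok (.cons v172 .nil) (.cons k299 .nil) c185
theorem v186 : Valid.{u} x115 s186 := chk_ok .nil .nil c186
theorem v187 : Valid.{u} x116 s187 := chk_ok .nil .nil c187
theorem v188 : Valid.{u} x117 s188 := chk_ok .nil .nil c188
theorem v189 : Valid.{u} x99 s189 := chk_ok (.cons v185 (.cons v186 (.cons v187 (.cons v188 .nil)))) .nil c189
theorem v190 : Valid.{u} x99 s190 := chk_ok (.cons v189 .nil) (.cons k198 .nil) c190
theorem v191 : Valid.{u} x118 s191 := chk_ok .nil (.cons k204 .nil) c191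
theorem v192 : Valid.{u} x118 s192 := chk_ok (.cons v191 .nil) (.cons k287 (.cons k289 (.cons k213 (.cons k214 (.cons k217 (.cons k219 .nil)))))) c192
theorem v193 : Valid.{u} x118 s193 := chk_ok (.cons v192 .nil) (.cons k199 .nil) c193
theorem v194 : Valid.{u} x126 s194 := chk_ok .nil .nil c194
theorem v195 : Valid.{u} x128 s195 := chk_ok .nil .nil c195
theorem v196 : Valid.{u} x99 s196 := chk_ok (.cons v193 (.cons v194 (.cons v195 .nil))) (.cons k298 .nil) c196
theorem v197 : Valid.{u} x99 s197 := chk_ok (.cons v196 .nil) (.cons k198 .nil) c197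
theorem v198 : Valid.{u} x99 s198 := chk_ok (.cons v178 (.cons v184 (.cons v190 (.cons v197 .nil)))) .nil c198
theorem v199 : Valid.{u} x84 s199 := chk_ok (.cons v198 (.cons v156 (.cons v169 (.cons v168 .nil)))) .nil c199
theorem v200 : Valid.{u} x84 s200 := chk_ok (.cons v170 (.cons v199 .nil)) .nil c200
theorem v201 : Valid.{u} x84 s201 := chk_ok (.cons v155 (.cons v200 .nil)) (.cons k197 .nil) c201
theorem v202 : Valid.{u} x129 s202 := chk_ok .nil .nil c202
theorem v203 : Valid.{u} x0 s203 := chk_ok (.cons v0 (.cons v23 (.cons v24 (.cons v94 (.cons v95 (.cons v105 (.cons v106 (.cons v139 (.cons v148 (.cons v201 (.cons v202 .nil))))))))))) (.cons k137 (.cons k196 (.cons k6 (.cons k136 (.cons k469 (.cons k468 (.cons k432 (.cons k463 (.cons k197 (.cons k431 .nil)))))))))) c203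
theorem v204 : Valid.{u} x0 s204 := chk_ok (.cons v203 .nil) .nil c204

end Cfsg.Lib.D8.T0I
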