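import Cfsg.Agent.Lib.D8.T.T0OG0

/-! Certificates (generated, helper29). -/

set_option maxRecDepth 100000
set_option Elab.async false

namespace Cfsg.Lib.D8.T0O

universe u

theorem hb1 : tabB (mu g0 (nat_lit 1)) (nat_lit 1) a0 b1 (look b1 0) = true := by decide +kernel
theorem ha0 : tabA (mu g0 (nat_lit 1)) (nat_lit 1) a0 = true := by decide +kernel
theorem hb2 : tabB (mu g1 (nat_lit 2)) (nat_lit 2) a1 b2 (look b2 0) = true := by decide +kernel
theorem ha1 : tabA (mu g1 (nat_lit 2)) (nat_lit 2) a1 = true := by decide +kernel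
theorem hb3 : tabB (mu g2 (nat_lit 4)) (nat_lit 4) a2 b3 (look b3 0) = true := by decide +kernel
theorem ha2 : tabA (mu g2 (nat_lit 4)) (nat_lit 4) a2 = true := by decide +kernel
theorem hb4 : tabB (mu g3 (nat_lit 8)) (nat_lit 8) a3 b4 (look b4 0) = true := by decide +kernel
theorem ha3 : tabA (mu g3 (nat_lit 8)) (nat_lit 8) a3 = true := by decide +kernel
theorem hb5 : tabB (mu g4 (nat_lit 16)) (nat_lit 16) a4 b5 (look b5 0) = true := by decide +kernel
theorem ha4 : tabA (mu g4 (nat_lit 16)) (nat_lit 16) a4 = true := by decide +kernel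
theorem ht5 : tabT (mu (.ext a4 b5 (nat_lit 16) g4) (nat_lit 32)) (nat_lit 32) t5 = true := by decide +kernel
theorem hb6 : tabB (mu g5 (nat_lit 32)) (nat_lit 32) a5 b6 (look b6 0) = true := by decide +kernel
theorem ha5 : tabA (mu g5 (nat_lit 32)) (nat_lit 32) a5 = true := by decide +kernel
theorem ht6 : tabT (mu (.ext a5 b6 (nat_lit 32) g5) (nat_lit 64)) (nat_lit 64) t6 = true := by decide +kernel
theorem hb7 : tabB (mu g6 (nat_lit 64)) (nat_lit 64) a6 b7 (look b7 0) = true := by decide +kernel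
theorem ha6 : tabA (mu g6 (nat_lit 64)) (nat_lit 64) a6 = true := by decide +kernel
theorem ht7 : tabT (mu (.ext a6 b7 (nat_lit 64) g6) (nat_lit 128)) (nat_lit 128) t7 = true := by decide +kernel
theorem hb8 : tabB (mu g7 (nat_lit 128)) (nat_lit 128) a7 b8 (look b8 0) = true := by decide +kernel
theorem ha7 : tabA (mu g7 (nat_lit 128)) (nat_lit 128) a7 = true := by decide +kernel
theorem hb9 : tabB (mu g8 (nat_lit 256)) (nat_lit 256) a8 b9 (look b9 0) = true := by decide +kernel
theorem ha8 : tabA (mu g8 (nat_lit 256)) (nat_lit 256) a8 = true := by decide +kernel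
theorem hb13 : tabB (mu g8 (nat_lit 256)) (nat_lit 256) a9 b13 (look b13 0) = true := by decide +kernel
theorem ha9 : tabA (mu g8 (nat_lit 256)) (nat_lit 256) a9 = true := by decide +kernel
theorem hb17 : tabB (mu g8 (nat_lit 256)) (nat_lit 256) a10 b17 (look b17 0) = true := by decide +kernel
theorem ha10 : tabA (mu g8 (nat_lit 256)) (nat_lit 256) a10 = true := by decide +kernel
theorem hb21 : tabB (mu g8 (nat_lit 256)) (nat_lit 256) a11 b21 (look b21 0) = true := by decide +kernel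
theorem ha11 : tabA (mu g8 (nat_lit 256)) (nat_lit 256) a11 = true := by decide +kernel
theorem hb22 : tabB (mu g7 (nat_lit 128)) (nat_lit 128) a12 b22 (look b22 0) = true := by decide +kernel
theorem ha12 : tabA (mu g7 (nat_lit 128)) (nat_lit 128) a12 = true := by decide +kernel
theorem hb30 : tabB (mu g7 (nat_lit 128)) (nat_lit 128) a14 b30 (look b30 0) = true := by decide +kernel
theorem ha14 : tabA (mu g7 (nat_lit 128)) (nat_lit 128) a14 = true := by decide +kernel
theorem hb31 : tabB (mu g30 (nat_lit 256)) (nat_lit 256) a15 b31 (look b31 0) = true := by decide +kernel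
theorem ha15 : tabA (mu g30 (nat_lit 256)) (nat_lit 256) a15 = true := by decide +kernel
theorem hb47 : tabB (mu g6 (nat_lit 64)) (nat_lit 64) a6 b47 (look b47 0) = true := by decide +kernel
theorem hb53 : tabB (mu g6 (nat_lit 64)) (nat_lit 64) a19 b53 (look b53 0) = true := by decide +kernel
theorem ha19 : tabA (mu g6 (nat_lit 64)) (nat_lit 64) a19 = true := by decide +kernel
theorem hb55 : tabB (mu g6 (nat_lit 64)) (nat_lit 64) a19 b55 (look b55 0) = true := by decide +kernel
theorem ht55 : tabT (mu (.ext a19 b55 (nat_lit 64) g6) (nat_lit 128)) (nat_lit 128) t55 = true := by decide +kernel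
theorem hb56 : tabB (mu g55 (nat_lit 128)) (nat_lit 128) a20 b56 (look b56 0) = true := by decide +kernel
theorem ha20 : tabA (mu g55 (nat_lit 128)) (nat_lit 128) a20 = true := by decide +kernel
theorem hb68 : tabB (mu g6 (nat_lit 64)) (nat_lit 64) a22 b68 (look b68 0) = true := by decide +kernel
theorem ha22 : tabA (mu g6 (nat_lit 64)) (nat_lit 64) a22 = true := by decide +kernel
theorem ht68 : tabT (mu (.ext a22 b68 (nat_lit 64) g6) (nat_lit 128)) (nat_lit 128) t68 = true := by decide +kernel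
theorem hb69 : tabB (mu g2 (nat_lit 4)) (nat_lit 4) a23 b69 (look b69 0) = true := by decide +kernel
theorem ha23 : tabA (mu g2 (nat_lit 4)) (nat_lit 4) a23 = true := by decide +kernel
theorem hb70 : tabB (mu g69 (nat_lit 8)) (nat_lit 8) a24 b70 (look b70 0) = true := by decide +kernel
theorem ha24 : tabA (mu g69 (nat_lit 8)) (nat_lit 8) a24 = true := by decide +kernel
theorem hb71 : tabB (mu g70 (nat_lit 16)) (nat_lit 16) a25 b71 (look b71 0) = true := by decide +kernel
theorem ha25 : tabA (mu g70 (nat_lit 16)) (nat_lit 16) a25 = true := by decide +kernel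
theorem ht71 : tabT (mu (.ext a25 b71 (nat_lit 16) g70) (nat_lit 32)) (nat_lit 32) t71 = true := by decide +kernel
theorem hb72 : tabB (mu g71 (nat_lit 32)) (nat_lit 32) a26 b72 (look b72 0) = true := by decide +kernel
theorem ha26 : tabA (mu g71 (nat_lit 32)) (nat_lit 32) a26 = true := by decide +kernel
theorem hb73 : tabB (mu g72 (nat_lit 64)) (nat_lit 64) a27 b73 (look b73 0) = true := by decide +kernel
theorem ha27 : tabA (mu g72 (nat_lit 64)) (nat_lit 64) a27 = true := by decide +kernel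
theorem hb74 : tabB (mu g73 (nat_lit 128)) (nat_lit 128) a28 b74 (look b74 0) = true := by decide +kernel
theorem ha28 : tabA (mu g73 (nat_lit 128)) (nat_lit 128) a28 = true := by decide +kernel
theorem hb75 : tabB (mu g74 (nat_lit 256)) (nat_lit 256) a29 b75 (look b75 0) = true := by decide +kernel
theorem ha29 : tabA (mu g74 (nat_lit 256)) (nat_lit 256) a29 = true := by decide +kernel
theorem hb76 : tabB (mu g68 (nat_lit 128)) (nat_lit 128) a30 b76 (look b76 0) = true := by decide +kernel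
theorem ha30 : tabA (mu g68 (nat_lit 128)) (nat_lit 128) a30 = true := by decide +kernel
theorem hb78 : tabB (mu g68 (nat_lit 128)) (nat_lit 128) a31 b78 (look b78 0) = true := by decide +kernel
theorem ha31 : tabA (mu g68 (nat_lit 128)) (nat_lit 128) a31 = true := by decide +kernel
theorem hb79 : tabB (mu g68 (nat_lit 128)) (nat_lit 128) a31 b79 (look b79 0) = true := by decide +kernel
theorem hb80 : tabB (mu g79 (nat_lit 256)) (nat_lit 256) a32 b80 (look b80 0) = true := by decide +kernel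
theorem ha32 : tabA (mu g79 (nat_lit 256)) (nat_lit 256) a32 = true := by decide +kernel
theorem hb81 : tabB (mu g79 (nat_lit 256)) (nat_lit 256) a32 b81 (look b81 0) = true := by decide +kernel
theorem hb86 : tabB (mu g79 (nat_lit 256)) (nat_lit 256) a32 b86 (look b86 0) = true := by decide +kernel
theorem hb87 : tabB (mu g79 (nat_lit 256)) (nat_lit 256) a32 b87 (look b87 0) = true := by decide +kernel
theorem hb91 : tabB (mu g68 (nat_lit 128)) (nat_lit 128) a34 b91 (look b91 0) = true := by decide +kernel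
theorem ha34 : tabA (mu g68 (nat_lit 128)) (nat_lit 128) a34 = true := by decide +kernel
theorem hb93 : tabB (mu g91 (nat_lit 256)) (nat_lit 256) a35 b93 (look b93 0) = true := by decide +kernel
theorem ha35 : tabA (mu g91 (nat_lit 256)) (nat_lit 256) a35 = true := by decide +kernel
theorem hb96 : tabB (mu g93 (nat_lit 512)) (nat_lit 512) a36 b96 (look b96 0) = true := by decide +kernel
theorem ha36 : tabA (mu g93 (nat_lit 512)) (nat_lit 512) a36 = true := by decide +kernel
theorem hb97 : tabB (mu g93 (nat_lit 512)) (nat_lit 512) a36 b97 (look b97 0) = true := by decide +kernel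
theorem hb98 : tabB (mu g97 (nat_lit 1024)) (nat_lit 1024) a37 b98 (look b98 0) = true := by decide +kernel
theorem ha37 : tabA (mu g97 (nat_lit 1024)) (nat_lit 1024) a37 = true := by decide +kernel
theorem hb99 : tabB (mu g68 (nat_lit 128)) (nat_lit 128) a38 b99 (look b99 0) = true := by decide +kernel
theorem ha38 : tabA (mu g68 (nat_lit 128)) (nat_lit 128) a38 = true := by decide +kernel
theorem hb100 : tabB (mu g99 (nat_lit 256)) (nat_lit 256) a39 b100 (look b100 0) = true := by decide +kernel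
theorem ha39 : tabA (mu g99 (nat_lit 256)) (nat_lit 256) a39 = true := by decide +kernel
theorem hb101 : tabB (mu g99 (nat_lit 256)) (nat_lit 256) a39 b101 (look b101 0) = true := by decide +kernel
theorem hb104 : tabB (mu g101 (nat_lit 512)) (nat_lit 512) a41 b104 (look b104 0) = true := by decide +kernel
theorem ha41 : tabA (mu g101 (nat_lit 512)) (nat_lit 512) a41 = true := by decide +kernel
theorem hb105 : tabB (mu g101 (nat_lit 512)) (nat_lit 512) a41 b105 (look b105 0) = true := by decide +kernel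
theorem hb108 : tabB (mu g68 (nat_lit 128)) (nat_lit 128) a43 b108 (look b108 0) = true := by decide +kernel
theorem ha43 : tabA (mu g68 (nat_lit 128)) (nat_lit 128) a43 = true := by decide +kernel
theorem hb109 : tabB (mu g108 (nat_lit 256)) (nat_lit 256) a44 b109 (look b109 0) = true := by decide +kernel
theorem ha44 : tabA (mu g108 (nat_lit 256)) (nat_lit 256) a44 = true := by decide +kernel
theorem hb114 : tabB (mu g108 (nat_lit 256)) (nat_lit 256) a44 b114 (look b114 0) = true := by decide +kernel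
theorem hb115 : tabB (mu g81 (nat_lit 512)) (nat_lit 512) a47 b115 (look b115 0) = true := by decide +kernel
theorem ha47 : tabA (mu g81 (nat_lit 512)) (nat_lit 512) a47 = true := by decide +kernel
theorem hb116 : tabB (mu g115 (nat_lit 1024)) (nat_lit 1024) a48 b116 (look b116 0) = true := by decide +kernel
theorem ha48 : tabA (mu g115 (nat_lit 1024)) (nat_lit 1024) a48 = true := by decide +kernel
theorem hb123 : tabB (mu g79 (nat_lit 256)) (nat_lit 256) a49 b123 (look b123 0) = true := by decide +kernel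
theorem ha49 : tabA (mu g79 (nat_lit 256)) (nat_lit 256) a49 = true := by decide +kernel
theorem hb127 : tabB (mu g123 (nat_lit 512)) (nat_lit 512) a50 b127 (look b127 0) = true := by decide +kernel
theorem ha50 : tabA (mu g123 (nat_lit 512)) (nat_lit 512) a50 = true := by decide +kernel
theorem hb128 : tabB (mu g127 (nat_lit 1024)) (nat_lit 1024) a51 b128 (look b128 0) = true := by decide +kernel
theorem ha51 : tabA (mu g127 (nat_lit 1024)) (nat_lit 1024) a51 = true := by decide +kernel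
theorem hb130 : tabB (mu g79 (nat_lit 256)) (nat_lit 256) a49 b130 (look b130 0) = true := by decide +kernel
theorem hb131 : tabB (mu g79 (nat_lit 256)) (nat_lit 256) a49 b131 (look b131 0) = true := by decide +kernel
theorem hb132 : tabB (mu g79 (nat_lit 256)) (nat_lit 256) a49 b132 (look b132 0) = true := by decide +kernel
theorem hb135 : tabB (mu g68 (nat_lit 128)) (nat_lit 128) a52 b135 (look b135 0) = true := by decide +kernel
theorem ha52 : tabA (mu g68 (nat_lit 128)) (nat_lit 128) a52 = true := by decide +kernel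
theorem hb136 : tabB (mu g135 (nat_lit 256)) (nat_lit 256) a53 b136 (look b136 0) = true := by decide +kernel
theorem ha53 : tabA (mu g135 (nat_lit 256)) (nat_lit 256) a53 = true := by decide +kernel
theorem hb142 : tabB (mu g135 (nat_lit 256)) (nat_lit 256) a53 b142 (look b142 0) = true := by decide +kernel
theorem hb143 : tabB (mu g135 (nat_lit 256)) (nat_lit 256) a53 b143 (look b143 0) = true := by decide +kernel
theorem hb144 : tabB (mu g68 (nat_lit 128)) (nat_lit 128) a55 b144 (look b144 0) = true := by decide +kernel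
theorem ha55 : tabA (mu g68 (nat_lit 128)) (nat_lit 128) a55 = true := by decide +kernel
theorem hb145 : tabB (mu g144 (nat_lit 256)) (nat_lit 256) a56 b145 (look b145 0) = true := by decide +kernel
theorem ha56 : tabA (mu g144 (nat_lit 256)) (nat_lit 256) a56 = true := by decide +kernel
theorem hb150 : tabB (mu g144 (nat_lit 256)) (nat_lit 256) a56 b150 (look b150 0) = true := by decide +kernel
theorem hb151 : tabB (mu g150 (nat_lit 512)) (nat_lit 512) a59 b151 (look b151 0) = true := by decide +kernel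
theorem ha59 : tabA (mu g150 (nat_lit 512)) (nat_lit 512) a59 = true := by decide +kernel
theorem hb152 : tabB (mu g151 (nat_lit 1024)) (nat_lit 1024) a60 b152 (look b152 0) = true := by decide +kernel
theorem ha60 : tabA (mu g151 (nat_lit 1024)) (nat_lit 1024) a60 = true := by decide +kernel
theorem hb153 : tabB (mu g68 (nat_lit 128)) (nat_lit 128) a61 b153 (look b153 0) = true := by decide +kernel
theorem ha61 : tabA (mu g68 (nat_lit 128)) (nat_lit 128) a61 = true := by decide +kernel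
theorem hb155 : tabB (mu g153 (nat_lit 256)) (nat_lit 256) a62 b155 (look b155 0) = true := by decide +kernel
theorem ha62 : tabA (mu g153 (nat_lit 256)) (nat_lit 256) a62 = true := by decide +kernel
theorem hb158 : tabB (mu g155 (nat_lit 512)) (nat_lit 512) a64 b158 (look b158 0) = true := by decide +kernel
theorem ha64 : tabA (mu g155 (nat_lit 512)) (nat_lit 512) a64 = true := by decide +kernel
theorem hb161 : tabB (mu g5 (nat_lit 32)) (nat_lit 32) a5 b161 (look b161 0) = true := by decide +kernel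
theorem hb162 : tabB (mu g5 (nat_lit 32)) (nat_lit 32) a66 b162 (look b162 0) = true := by decide +kernel
theorem ha66 : tabA (mu g5 (nat_lit 32)) (nat_lit 32) a66 = true := by decide +kernel
theorem ht162 : tabT (mu (.ext a66 b162 (nat_lit 32) g5) (nat_lit 64)) (nat_lit 64) t162 = true := by decide +kernel
theorem hb163 : tabB (mu g162 (nat_lit 64)) (nat_lit 64) a67 b163 (look b163 0) = true := by decide +kernel
theorem ha67 : tabA (mu g162 (nat_lit 64)) (nat_lit 64) a67 = true := by decide +kernel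
theorem ht163 : tabT (mu (.ext a67 b163 (nat_lit 64) g162) (nat_lit 128)) (nat_lit 128) t163 = true := by decide +kernel
theorem hb165 : tabB (mu g163 (nat_lit 128)) (nat_lit 128) a68 b165 (look b165 0) = true := by decide +kernel
theorem ha68 : tabA (mu g163 (nat_lit 128)) (nat_lit 128) a68 = true := by decide +kernel
theorem hb166 : tabB (mu g165 (nat_lit 256)) (nat_lit 256) a69 b166 (look b166 0) = true := by decide +kernel
theorem ha69 : tabA (mu g165 (nat_lit 256)) (nat_lit 256) a69 = true := by decide +kernel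
theorem hb168 : tabB (mu g166 (nat_lit 512)) (nat_lit 512) a70 b168 (look b168 0) = true := by decide +kernel
theorem ha70 : tabA (mu g166 (nat_lit 512)) (nat_lit 512) a70 = true := by decide +kernel
theorem hb173 : tabB (mu g163 (nat_lit 128)) (nat_lit 128) a72 b173 (look b173 0) = true := by decide +kernel
theorem ha72 : tabA (mu g163 (nat_lit 128)) (nat_lit 128) a72 = true := by decide +kernel
theorem hb175 : tabB (mu g162 (nat_lit 64)) (nat_lit 64) a73 b175 (look b175 0) = true := by decide +kernel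
theorem ha73 : tabA (mu g162 (nat_lit 64)) (nat_lit 64) a73 = true := by decide +kernel
theorem ht175 : tabT (mu (.ext a73 b175 (nat_lit 64) g162) (nat_lit 128)) (nat_lit 128) t175 = true := by decide +kernel
theorem hb177 : tabB (mu g175 (nat_lit 128)) (nat_lit 128) a74 b177 (look b177 0) = true := by decide +kernel
theorem ha74 : tabA (mu g175 (nat_lit 128)) (nat_lit 128) a74 = true := by decide +kernel
theorem hb178 : tabB (mu g177 (nat_lit 256)) (nat_lit 256) a75 b178 (look b178 0) = true := by decide +kernel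
theorem ha75 : tabA (mu g177 (nat_lit 256)) (nat_lit 256) a75 = true := by decide +kernel
theorem hb179 : tabB (mu g178 (nat_lit 512)) (nat_lit 512) a76 b179 (look b179 0) = true := by decide +kernel
theorem ha76 : tabA (mu g178 (nat_lit 512)) (nat_lit 512) a76 = true := by decide +kernel
theorem hb185 : tabB (mu g175 (nat_lit 128)) (nat_lit 128) a78 b185 (look b185 0) = true := by decide +kernel
theorem ha78 : tabA (mu g175 (nat_lit 128)) (nat_lit 128) a78 = true := by decide +kernel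
theorem hb187 : tabB (mu g5 (nat_lit 32)) (nat_lit 32) a66 b187 (look b187 0) = true := by decide +kernel
theorem hb188 : tabB (mu g5 (nat_lit 32)) (nat_lit 32) a79 b188 (look b188 0) = true := by decide +kernel
theorem ha79 : tabA (mu g5 (nat_lit 32)) (nat_lit 32) a79 = true := by decide +kernel
theorem ht188 : tabT (mu (.ext a79 b188 (nat_lit 32) g5) (nat_lit 64)) (nat_lit 64) t188 = true := by decide +kernel
theorem hb189 : tabB (mu g188 (nat_lit 64)) (nat_lit 64) a80 b189 (look b189 0) = true := by decide +kernel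
theorem ha80 : tabA (mu g188 (nat_lit 64)) (nat_lit 64) a80 = true := by decide +kernel
theorem ht189 : tabT (mu (.ext a80 b189 (nat_lit 64) g188) (nat_lit 128)) (nat_lit 128) t189 = true := by decide +kernel
theorem hb190 : tabB (mu g189 (nat_lit 128)) (nat_lit 128) a81 b190 (look b190 0) = true := by decide +kernel
theorem ha81 : tabA (mu g189 (nat_lit 128)) (nat_lit 128) a81 = true := by decide +kernel
theorem hb191 : tabB (mu g190 (nat_lit 256)) (nat_lit 256) a82 b191 (look b191 0) = true := by decide +kernel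
theorem ha82 : tabA (mu g190 (nat_lit 256)) (nat_lit 256) a82 = true := by decide +kernel
theorem hb192 : tabB (mu g3 (nat_lit 8)) (nat_lit 8) a83 b192 (look b192 0) = true := by decide +kernel
theorem ha83 : tabA (mu g3 (nat_lit 8)) (nat_lit 8) a83 = true := by decide +kernel
theorem hb193 : tabB (mu g192 (nat_lit 16)) (nat_lit 16) a84 b193 (look b193 0) = true := by decide +kernel
theorem ha84 : tabA (mu g192 (nat_lit 16)) (nat_lit 16) a84 = true := by decide +kernel
theorem ht193 : tabT (mu (.ext a84 b193 (nat_lit 16) g192) (nat_lit 32)) (nat_lit 32) t193 = true := by decide +kernel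
theorem hb194 : tabB (mu g193 (nat_lit 32)) (nat_lit 32) a85 b194 (look b194 0) = true := by decide +kernel
theorem ha85 : tabA (mu g193 (nat_lit 32)) (nat_lit 32) a85 = true := by decide +kernel
theorem ht194 : tabT (mu (.ext a85 b194 (nat_lit 32) g193) (nat_lit 64)) (nat_lit 64) t194 = true := by decide +kernel
theorem hb195 : tabB (mu g194 (nat_lit 64)) (nat_lit 64) a86 b195 (look b195 0) = true := by decide +kernel
theorem ha86 : tabA (mu g194 (nat_lit 64)) (nat_lit 64) a86 = true := by decide +kernel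
theorem hb196 : tabB (mu g195 (nat_lit 128)) (nat_lit 128) a87 b196 (look b196 0) = true := by decide +kernel
theorem ha87 : tabA (mu g195 (nat_lit 128)) (nat_lit 128) a87 = true := by decide +kernel
theorem hb197 : tabB (mu g196 (nat_lit 256)) (nat_lit 256) a88 b197 (look b197 0) = true := by decide +kernel
theorem ha88 : tabA (mu g196 (nat_lit 256)) (nat_lit 256) a88 = true := by decide +kernel
theorem hb198 : tabB (mu g194 (nat_lit 64)) (nat_lit 64) a89 b198 (look b198 0) = true := by decide +kernel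
theorem ha89 : tabA (mu g194 (nat_lit 64)) (nat_lit 64) a89 = true := by decide +kernel
theorem hb199 : tabB (mu g198 (nat_lit 128)) (nat_lit 128) a90 b199 (look b199 0) = true := by decide +kernel
theorem ha90 : tabA (mu g198 (nat_lit 128)) (nat_lit 128) a90 = true := by decide +kernel
theorem hb200 : tabB (mu g199 (nat_lit 256)) (nat_lit 256) a91 b200 (look b200 0) = true := by decide +kernel
theorem ha91 : tabA (mu g199 (nat_lit 256)) (nat_lit 256) a91 = true := by decide +kernel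
theorem hb201 : tabB (mu g190 (nat_lit 256)) (nat_lit 256) a92 b201 (look b201 0) = true := by decide +kernel
theorem ha92 : tabA (mu g190 (nat_lit 256)) (nat_lit 256) a92 = true := by decide +kernel
theorem hb202 : tabB (mu g190 (nat_lit 256)) (nat_lit 256) a92 b202 (look b202 0) = true := by decide +kernel
theorem hb275 : tabB (mu g189 (nat_lit 128)) (nat_lit 128) a111 b275 (look b275 0) = true := by decide +kernel
theorem ha111 : tabA (mu g189 (nat_lit 128)) (nat_lit 128) a111 = true := by decide +kernel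
theorem hb276 : tabB (mu g189 (nat_lit 128)) (nat_lit 128) a111 b276 (look b276 0) = true := by decide +kernel
theorem hb277 : tabB (mu g276 (nat_lit 256)) (nat_lit 256) a112 b277 (look b277 0) = true := by decide +kernel
theorem ha112 : tabA (mu g276 (nat_lit 256)) (nat_lit 256) a112 = true := by decide +kernel
theorem hb341 : tabB (mu g189 (nat_lit 128)) (nat_lit 128) a111 b341 (look b341 0) = true := by decide +kernel
theorem hb342 : tabB (mu g188 (nat_lit 64)) (nat_lit 64) a128 b342 (look b342 0) = true := by decide +kernel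
theorem ha128 : tabA (mu g188 (nat_lit 64)) (nat_lit 64) a128 = true := by decide +kernel
theorem ht342 : tabT (mu (.ext a128 b342 (nat_lit 64) g188) (nat_lit 128)) (nat_lit 128) t342 = true := by decide +kernel
theorem hb349 : tabB (mu g342 (nat_lit 128)) (nat_lit 128) a130 b349 (look b349 0) = true := by decide +kernel
theorem ha130 : tabA (mu g342 (nat_lit 128)) (nat_lit 128) a130 = true := by decide +kernel
theorem hb350 : tabB (mu g349 (nat_lit 256)) (nat_lit 256) a131 b350 (look b350 0) = true := by decide +kernel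
theorem ha131 : tabA (mu g349 (nat_lit 256)) (nat_lit 256) a131 = true := by decide +kernel
theorem hb351 : tabB (mu g349 (nat_lit 256)) (nat_lit 256) a132 b351 (look b351 0) = true := by decide +kernel
theorem ha132 : tabA (mu g349 (nat_lit 256)) (nat_lit 256) a132 = true := by decide +kernel
theorem hb352 : tabB (mu g349 (nat_lit 256)) (nat_lit 256) a132 b352 (look b352 0) = true := by decide +kernel
theorem hb427 : tabB (mu g188 (nat_lit 64)) (nat_lit 64) a128 b427 (look b427 0) = true := by decide +kernel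
theorem hb428 : tabB (mu g188 (nat_lit 64)) (nat_lit 64) a80 b428 (look b428 0) = true := by decide +kernel
theorem hb429 : tabB (mu g188 (nat_lit 64)) (nat_lit 64) a80 b429 (look b429 0) = true := by decide +kernel
theorem hb430 : tabB (mu g188 (nat_lit 64)) (nat_lit 64) a80 b430 (look b430 0) = true := by decide +kernel
theorem hb431 : tabB (mu g189 (nat_lit 128)) (nat_lit 128) a152 b431 (look b431 0) = true := by decide +kernel
theorem ha152 : tabA (mu g189 (nat_lit 128)) (nat_lit 128) a152 = true := by decide +kernel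
theorem hb437 : tabB (mu g188 (nat_lit 64)) (nat_lit 64) a153 b437 (look b437 0) = true := by decide +kernel
theorem ha153 : tabA (mu g188 (nat_lit 64)) (nat_lit 64) a153 = true := by decide +kernel
theorem hb439 : tabB (mu g5 (nat_lit 32)) (nat_lit 32) a79 b439 (look b439 0) = true := by decide +kernel
theorem hb440 : tabB (mu g5 (nat_lit 32)) (nat_lit 32) a154 b440 (look b440 0) = true := by decide +kernel
theorem ha154 : tabA (mu g5 (nat_lit 32)) (nat_lit 32) a154 = true := by decide +kernel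
theorem ht440 : tabT (mu (.ext a154 b440 (nat_lit 32) g5) (nat_lit 64)) (nat_lit 64) t440 = true := by decide +kernel
theorem hb441 : tabB (mu g440 (nat_lit 64)) (nat_lit 64) a155 b441 (look b441 0) = true := by decide +kernel
theorem ha155 : tabA (mu g440 (nat_lit 64)) (nat_lit 64) a155 = true := by decide +kernel
theorem hb442 : tabB (mu g441 (nat_lit 128)) (nat_lit 128) a156 b442 (look b442 0) = true := by decide +kernel
theorem ha156 : tabA (mu g441 (nat_lit 128)) (nat_lit 128) a156 = true := by decide +kernel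
theorem hb443 : tabB (mu g441 (nat_lit 128)) (nat_lit 128) a156 b443 (look b443 0) = true := by decide +kernel
theorem hb444 : tabB (mu g441 (nat_lit 128)) (nat_lit 128) a157 b444 (look b444 0) = true := by decide +kernel
theorem ha157 : tabA (mu g441 (nat_lit 128)) (nat_lit 128) a157 = true := by decide +kernel
theorem hb445 : tabB (mu g441 (nat_lit 128)) (nat_lit 128) a157 b445 (look b445 0) = true := by decide +kernel
theorem hb446 : tabB (mu g440 (nat_lit 64)) (nat_lit 64) a155 b446 (look b446 0) = true := by decide +kernel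
theorem hb447 : tabB (mu g440 (nat_lit 64)) (nat_lit 64) a158 b447 (look b447 0) = true := by decide +kernel
theorem ha158 : tabA (mu g440 (nat_lit 64)) (nat_lit 64) a158 = true := by decide +kernel
theorem hb448 : tabB (mu g440 (nat_lit 64)) (nat_lit 64) a158 b448 (look b448 0) = true := by decide +kernel
theorem hb449 : tabB (mu g5 (nat_lit 32)) (nat_lit 32) a159 b449 (look b449 0) = true := by decide +kernel
theorem ha159 : tabA (mu g5 (nat_lit 32)) (nat_lit 32) a159 = true := by decide +kernel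
theorem ht449 : tabT (mu (.ext a159 b449 (nat_lit 32) g5) (nat_lit 64)) (nat_lit 64) t449 = true := by decide +kernel
theorem hb450 : tabB (mu g449 (nat_lit 64)) (nat_lit 64) a160 b450 (look b450 0) = true := by decide +kernel
theorem ha160 : tabA (mu g449 (nat_lit 64)) (nat_lit 64) a160 = true := by decide +kernel
theorem hb451 : tabB (mu g449 (nat_lit 64)) (nat_lit 64) a160 b451 (look b451 0) = true := by decide +kernel
theorem hb452 : tabB (mu g449 (nat_lit 64)) (nat_lit 64) a160 b452 (look b452 0) = true := by decide +kernel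
theorem hb454 : tabB (mu g449 (nat_lit 64)) (nat_lit 64) a161 b454 (look b454 0) = true := by decide +kernel
theorem ha161 : tabA (mu g449 (nat_lit 64)) (nat_lit 64) a161 = true := by decide +kernel
theorem hb455 : tabB (mu g449 (nat_lit 64)) (nat_lit 64) a161 b455 (look b455 0) = true := by decide +kernel
theorem hb456 : tabB (mu g449 (nat_lit 64)) (nat_lit 64) a161 b456 (look b456 0) = true := by decide +kernel
theorem hb458 : tabB (mu g450 (nat_lit 128)) (nat_lit 128) a162 b458 (look b458 0) = true := by decide +kernel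
theorem ha162 : tabA (mu g450 (nat_lit 128)) (nat_lit 128) a162 = true := by decide +kernel
theorem hb460 : tabB (mu g450 (nat_lit 128)) (nat_lit 128) a163 b460 (look b460 0) = true := by decide +kernel
theorem ha163 : tabA (mu g450 (nat_lit 128)) (nat_lit 128) a163 = true := by decide +kernel
theorem hb462 : tabB (mu g450 (nat_lit 128)) (nat_lit 128) a164 b462 (look b462 0) = true := by decide +kernel
theorem ha164 : tabA (mu g450 (nat_lit 128)) (nat_lit 128) a164 = true := by decide +kernel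
theorem hb464 : tabB (mu g5 (nat_lit 32)) (nat_lit 32) a159 b464 (look b464 0) = true := by decide +kernel
theorem ht464 : tabT (mu (.ext a159 b464 (nat_lit 32) g5) (nat_lit 64)) (nat_lit 64) t464 = true := by decide +kernel
theorem hb473 : tabB (mu g5 (nat_lit 32)) (nat_lit 32) a167 b473 (look b473 0) = true := by decide +kernel
theorem ha167 : tabA (mu g5 (nat_lit 32)) (nat_lit 32) a167 = true := by decide +kernel
theorem hb474 : tabB (mu g5 (nat_lit 32)) (nat_lit 32) a167 b474 (look b474 0) = true := by decide +kernel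
theorem ht474 : tabT (mu (.ext a167 b474 (nat_lit 32) g5) (nat_lit 64)) (nat_lit 64) t474 = true := by decide +kernel
theorem hb476 : tabB (mu g474 (nat_lit 64)) (nat_lit 64) a168 b476 (look b476 0) = true := by decide +kernel
theorem ha168 : tabA (mu g474 (nat_lit 64)) (nat_lit 64) a168 = true := by decide +kernel
theorem hb478 : tabB (mu g476 (nat_lit 128)) (nat_lit 128) a169 b478 (look b478 0) = true := by decide +kernel
theorem ha169 : tabA (mu g476 (nat_lit 128)) (nat_lit 128) a169 = true := by decide +kernel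
noncomputable def p0 : Pf := (.e8 (nat_lit 1) (nat_lit 4) (nat_lit 8))
theorem c0 : (chk [] [] p0).n x0 s0 = true := by decide +kernel
noncomputable def p1 : Pf := (.anc (nat_lit 42) (nat_lit 0x1100100000f001002) (nat_lit 0x1005010008002) (.dfs (nat_lit 2) (nat_lit 1) (nat_lit 1) (nat_lit 4097) (nat_lit 4097) (nat_lit 0) (nat_lit 0) (nat_lit 0) (nat_lit 0) (nat_lit 0) (nat_lit 0) (nat_lit 1) (nat_lit 0) (nat_lit 0x1004002) (nat_lit 16386) (nat_lit 0x100100200000400100a00000c) (nat_lit 0x1011514) (.cD (nat_lit 2) (.kF (nat_lit 26) (nat_lit 0x100200100800f004005015000003)) (.cD (nat_lit 4) (.kF (nat_lit 26) (nat_lit 0x100200100800f004005015000003)) (.cD (nat_lit 8) (.dfs (nat_lit 8) (nat_lit 1) (nat_lit 1) (nat_lit 0x1002001) (nat_lit 0x1002001) (nat_lit 0) (nat_lit 0) (nat_lit 0) (nat_lit 0) (nat_lit 0) (nat_lit 0) (nat_lit 1) (nat_lit 0) (nat_lit 0x1004002) (nat_lit 16386) (nat_lit 0x100100200000400100a00000c) (nat_lit 0x1011514) (.cD (nat_lit 2) (.czs (nat_lit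 2) z1 (nat_lit 16) (.dfs (nat_lit 16) (nat_lit 4097) (nat_lit 4097) (nat_lit 0x1004002) (nat_lit 0x1004002) (nat_lit 0) (nat_lit 0) (nat_lit 3) (nat_lit 0) (nat_lit 0) (nat_lit 0) (nat_lit 1) (nat_lit 0) (nat_lit 1) (nat_lit 0) (nat_lit 1) (nat_lit 0x5050504) (.cD (nat_lit 2) (.kc (nat_lit 24) (nat_lit 0x3001001)) (.cD (nat_lit 8) (.kc (nat_lit 18) (nat_lit 0x5001001)) (.cD (nat_lit 10) (.kc (nat_lit 26) (nat_lit 0x7001001)) (.cD (nat_lit 16) (.kA true (nat_lit 0x1100100000700100300c001011001000003)) (.cD (nat_lit 18) (.kA true (nat_lit 0x200500100800100400100300e001002)) (.cD (nat_lit 24) (.kA true (nat_lit 0x200300700800100400100300e001002)) (.cD (nat_lit 26) (.dfs (nat_lit 5) (nat_lit 4100) (nat_lit 4102) (nat_lit 1) (nat_lit 1) (nat_lit 1) (nat_lit 0) (nat_lit 1) (nat_lit 4104) (nat_lit 0x20010008004002011) (nat_lit 0) (nat_lit 1) (nat_lit 0) (nat_lit 1) (nat_lit 0) (nat_lit 1) (nat_lit 0) .nil) .nil))))))))) (.cD (nat_lit 4) (.kF (nat_lit 2) (nat_lit 0x11001000003006001015005000003))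 (.cD (nat_lit 8) (.kc (nat_lit 10) (nat_lit 0x3001001)) (.cD (nat_lit 10) (.kF (nat_lit 2) (nat_lit 0x100400100600f004011001000003)) (.cD (nat_lit 12) (.kF (nat_lit 2) (nat_lit 0x100400100600f004011001000003)) (.cD (nat_lit 16) (.kF (nat_lit 2) (nat_lit 0x11001000003006001015005000003)) (.cD (nat_lit 24) (.kF (nat_lit 2) (nat_lit 0x100400100600f004011001000003)) .nil)))))))) (.cD (nat_lit 10) (.czs (nat_lit 10) z1 (nat_lit 16) (.dfs (nat_lit 8) (nat_lit 4097) (nat_lit 4097) (nat_lit 4098) (nat_lit 4098) (nat_lit 0) (nat_lit 0) (nat_lit 3) (nat_lit 0) (nat_lit 0) (nat_lit 0) (nat_lit 1) (nat_lit 0) (nat_lit 1) (nat_lit 0) (nat_lit 1) (nat_lit 0x5050504) (.cD (nat_lit 2) (.dfs (nat_lit 16) (nat_lit 4098) (nat_lit 4098) (nat_lit 0x1004001) (nat_lit 0x1004001) (nat_lit 0) (nat_lit 0) (nat_lit 3) (nat_lit 0) (nat_lit 0) (nat_lit 0) (nat_lit 1) (nat_lit 0) (nat_lit 1) (nat_lit 0) (nat_lit 1) (nat_lit 0x5050504) (.cD (nat_lit 2) (.kc (nat_lit 24) (nat_lit 0x3001001)) (.cD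 (nat_lit 8) (.kc (nat_lit 26) (nat_lit 0x7001001)) (.cD (nat_lit 10) (.kc (nat_lit 18) (nat_lit 0x5001001)) (.cD (nat_lit 16) (.kA true (nat_lit 0x500100700e002011001000002)) (.cD (nat_lit 18) (.kA true (nat_lit 0x700300500e002011001000002)) (.cD (nat_lit 24) (.kA true (nat_lit 0x300700100e002011001000002)) (.cD (nat_lit 26) (.dfs (nat_lit 5) (nat_lit 4102) (nat_lit 4100) (nat_lit 1) (nat_lit 1) (nat_lit 1) (nat_lit 0) (nat_lit 1) (nat_lit 4104) (nat_lit 0x20010008004002011) (nat_lit 0) (nat_lit 1) (nat_lit 0) (nat_lit 1) (nat_lit 0) (nat_lit 1) (nat_lit 0) .nil) .nil)))))))) (.cD (nat_lit 8) (.kF (nat_lit 2) (nat_lit 0x100400100600f004011001000003)) (.cD (nat_lit 10) (.kc (nat_lit 10) (nat_lit 0x3001001)) (.cD (nat_lit 16) (.dfs (nat_lit 16) (nat_lit 4098) (nat_lit 4098) (nat_lit 0x1004001) (nat_lit 0x1004001) (nat_lit 0) (nat_lit 0) (nat_lit 3) (nat_lit 0) (nat_lit 0) (nat_lit 0) (nat_lit 1) (nat_lit 0) (nat_lit 1) (nat_lit 0) (nat_lit 1) (nat_lit 0x5050504) (.cD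 (nat_lit 2) (.kA true (nat_lit 0x300400500800100700100300c001011001000003)) (.cD (nat_lit 8) (.dfs (nat_lit 5) (nat_lit 0x1005002003008) (nat_lit 0x1007002003008) (nat_lit 0x1004001) (nat_lit 0x1006001) (nat_lit 1) (nat_lit 0) (nat_lit 2) (nat_lit 1) (nat_lit 0) (nat_lit 4) (nat_lit 1) (nat_lit 0) (nat_lit 1) (nat_lit 0) (nat_lit 1) (nat_lit 0) .nil) (.cD (nat_lit 10) (.kc (nat_lit 18) (nat_lit 0x5001001)) (.cD (nat_lit 16) (.kc (nat_lit 24) (nat_lit 0x3001001)) (.cD (nat_lit 18) (.kA true (nat_lit 0x200500400800100700100300c001011001000003)) (.cD (nat_lit 24) (.kA true (nat_lit 0x400300200800100700100300c001011001000003)) (.cD (nat_lit 26) (.kc (nat_lit 26) (nat_lit 0x7001001)) .nil)))))))) (.cD (nat_lit 18) (.kF (nat_lit 2) (nat_lit 0x1100100000200f003003006001015005000004)) (.cD (nat_lit 24) (.kF (nat_lit 2) (nat_lit 0x100400100600f004011001000003)) (.cD (nat_lit 26) (.kF (nat_lit 2) (nat_lit 0x100400100600f004011001000003)) .nil))))))))) (.cD (nat_lit 12) (.czs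 (nat_lit 44) z0 (nat_lit 16) (.dfs (nat_lit 8) (nat_lit 4099) (nat_lit 4099) (nat_lit 0x1002001) (nat_lit 0x1002001) (nat_lit 0) (nat_lit 0) (nat_lit 3) (nat_lit 0) (nat_lit 0) (nat_lit 0) (nat_lit 1) (nat_lit 0) (nat_lit 1) (nat_lit 0) (nat_lit 1) (nat_lit 0x11111110) (.cD (nat_lit 4) (.kF (nat_lit 2) (nat_lit 0x11001000002007001002)) (.cD (nat_lit 8) (.kF (nat_lit 2) (nat_lit 0x100400100600f004011001000003)) (.cD (nat_lit 12) (.kc (nat_lit 10) (nat_lit 0x3001001)) (.cD (nat_lit 16) (.dfs (nat_lit 16) (nat_lit 4102) (nat_lit 4102) (nat_lit 0x1004002001) (nat_lit 0x1004002001) (nat_lit 0) (nat_lit 0) (nat_lit 3) (nat_lit 0) (nat_lit 0) (nat_lit 0) (nat_lit 1) (nat_lit 0) (nat_lit 1) (nat_lit 0) (nat_lit 1) (nat_lit 0x11111110) (.cD (nat_lit 4) (.kA false (nat_lit 0x1100100000400600c00f003001002005008002003)) (.cD (nat_lit 8) (.kA false (nat_lit 0x1100100000c00600400f003005002001008002003)) (.cD (nat_lit 12) (.kc (nat_lit 18) (nat_lit 0x5001001)) (.cD (nat_lit 16)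 (.kc (nat_lit 24) (nat_lit 0x3001001)) (.cD (nat_lit 20) (.kA false (nat_lit 0x1100100000200600a00f003003002007008002003)) (.cD (nat_lit 24) (.kA false (nat_lit 0x1100100000a00600200f003007002003008002003)) (.cD (nat_lit 28) (.kc (nat_lit 26) (nat_lit 0x7001001)) .nil)))))))) (.cD (nat_lit 20) (.dfs (nat_lit 16) (nat_lit 4102) (nat_lit 4102) (nat_lit 0x1004002001) (nat_lit 0x1004002001) (nat_lit 0) (nat_lit 0) (nat_lit 3) (nat_lit 0) (nat_lit 0) (nat_lit 0) (nat_lit 1) (nat_lit 0) (nat_lit 1) (nat_lit 0) (nat_lit 1) (nat_lit 0x11111110) (.cD (nat_lit 4) (.kA false (nat_lit 0x1100100000400200c00f003001003005008002003)) (.cD (nat_lit 8) (.kA false (nat_lit 0x1100100000c00a00400f003005007001008002003)) (.cD (nat_lit 12) (.kc (nat_lit 18) (nat_lit 0x5001001)) (.cD (nat_lit 16) (.kA false (nat_lit 0x1100100000200400a00f003003001007008002003)) (.cD (nat_lit 20) (.kc (nat_lit 24) (nat_lit 0x3001001)) (.cD (nat_lit 24) (.kc (nat_lit 26) (nat_lit 0x7001001)) (.cD (nat_lit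 28) (.kA false (nat_lit 0x1100100000a00c00200f003007005003008002003)) .nil)))))))) (.cD (nat_lit 24) (.kF (nat_lit 2) (nat_lit 0x100400100600f004011001000003)) (.cD (nat_lit 28) (.kF (nat_lit 2) (nat_lit 0x100400100600f004011001000003)) .nil))))))))) (.cD (nat_lit 16) (.kF (nat_lit 26) (nat_lit 0x100200100800f004005015000003)) (.cD (nat_lit 24) (.dfs (nat_lit 8) (nat_lit 1) (nat_lit 1) (nat_lit 0x1002001) (nat_lit 0x1002001) (nat_lit 0) (nat_lit 0) (nat_lit 0) (nat_lit 0) (nat_lit 0) (nat_lit 0) (nat_lit 1) (nat_lit 0) (nat_lit 0x1004002) (nat_lit 16386) (nat_lit 0x100100200000400100a00000c) (nat_lit 0x1011514) (.cD (nat_lit 2) (.kF (nat_lit 2) (nat_lit 0x11001000002007004002007001003)) (.cD (nat_lit 4) (.czs (nat_lit 60) z0 (nat_lit 16) (.dfs (nat_lit 16) (nat_lit 4103) (nat_lit 4103) (nat_lit 0x1004002001) (nat_lit 0x1004002001) (nat_lit 0) (nat_lit 0) (nat_lit 3) (nat_lit 0) (nat_lit 0) (nat_lit 0) (nat_lit 1) (nat_lit 0) (nat_lit 1) (nat_lit 0) (nat_lit 1) (nat_lit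 0x11111110) (.cD (nat_lit 4) (.kc (nat_lit 24) (nat_lit 0x3001001)) (.cD (nat_lit 8) (.kA false (nat_lit 0x1100100000600c00400f003002005001008002003)) (.cD (nat_lit 12) (.kA false (nat_lit 0x1100100000600a00200f003002007003008002003)) (.cD (nat_lit 16) (.kA false (nat_lit 0x1100100000600400c00f003002001005008002003)) (.cD (nat_lit 20) (.kA false (nat_lit 0x1100100000600200a00f003002003007008002003)) (.cD (nat_lit 24) (.kc (nat_lit 18) (nat_lit 0x5001001)) (.cD (nat_lit 28) (.kc (nat_lit 26) (nat_lit 0x7001001)) .nil))))))))) (.cD (nat_lit 8) (.kF (nat_lit 2) (nat_lit 0x100400100600f004011001000003)) (.cD (nat_lit 10) (.kF (nat_lit 2) (nat_lit 0x100400100600f004011001000003)) (.cD (nat_lit 12) (.kF (nat_lit 2) (nat_lit 0x100400100600f004011001000003)) (.cD (nat_lit 16) (.kF (nat_lit 2) (nat_lit 0x11001000002007001002)) (.cD (nat_lit 24) (.kc (nat_lit 10) (nat_lit 0x3001001)) .nil)))))))) .nil)))))))))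
theorem c1 : (chk [] [] p1).n x1 s1 = true := by decide +kernel
noncomputable def p2 : Pf := (.anc (nat_lit 42) (nat_lit 0x1100100000f001002) (nat_lit 0x1005010008002) (.dfs (nat_lit 2) (nat_lit 1) (nat_lit 1) (nat_lit 4097) (nat_lit 4097) (nat_lit 0) (nat_lit 0) (nat_lit 0) (nat_lit 0) (nat_lit 0) (nat_lit 0) (nat_lit 1) (nat_lit 0) (nat_lit 0x1004002) (nat_lit 16386) (nat_lit 0x100100200000400100a00000c) (nat_lit 0x1011514) (.cD (nat_lit 2) (.kF (nat_lit 26) (nat_lit 0x100200100800f004005015000003)) (.cD (nat_lit 4) (.kF (nat_lit 26) (nat_lit 0x100200100800f004005015000003)) (.cD (nat_lit 8) (.dfs (nat_lit 8) (nat_lit 1) (nat_lit 1) (nat_lit 0x1002001) (nat_lit 0x1002001) (nat_lit 0) (nat_lit 0) (nat_lit 0) (nat_lit 0) (nat_lit 0) (nat_lit 0) (nat_lit 1) (nat_lit 0) (nat_lit 0x1004002) (nat_lit 16386) (nat_lit 0x100100200000400100a00000c) (nat_lit 0x1011514) (.cD (nat_lit 2) (.czs (nat_lit 2) z1 (nat_lit 16) (.dfs (nat_lit 16) (nat_lit 4097) (nat_lit 4097) (nat_lit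 0x1004002) (nat_lit 0x1004002) (nat_lit 0) (nat_lit 0) (nat_lit 3) (nat_lit 0) (nat_lit 0) (nat_lit 0) (nat_lit 1) (nat_lit 0) (nat_lit 1) (nat_lit 0) (nat_lit 1) (nat_lit 0x5050504) (.cD (nat_lit 2) (.kc (nat_lit 24) (nat_lit 0x3001001)) (.cD (nat_lit 8) (.kc (nat_lit 18) (nat_lit 0x5001001)) (.cD (nat_lit 10) (.kc (nat_lit 26) (nat_lit 0x7001001)) (.cD (nat_lit 16) (.kA true (nat_lit 0x1100100000700100300c001011001000003)) (.cD (nat_lit 18) (.kA true (nat_lit 0x200500100800100400100300e001002)) (.cD (nat_lit 24) (.kA true (nat_lit 0x200300700800100400100300e001002)) (.cD (nat_lit 26) (.dfs (nat_lit 5) (nat_lit 4100) (nat_lit 4102) (nat_lit 1) (nat_lit 1) (nat_lit 1) (nat_lit 0) (nat_lit 1) (nat_lit 4104) (nat_lit 0x20010008004002011) (nat_lit 0) (nat_lit 1) (nat_lit 0) (nat_lit 1) (nat_lit 0) (nat_lit 1) (nat_lit 0) .nil) .nil))))))))) (.cD (nat_lit 4) (.kF (nat_lit 2) (nat_lit 0x11001000003006001015005000003)) (.cD (nat_lit 8) (.kc (nat_lit 10) (nat_lit 0x3001001))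 (.cD (nat_lit 10) (.kF (nat_lit 2) (nat_lit 0x100400100600f004011001000003)) (.cD (nat_lit 12) (.kF (nat_lit 2) (nat_lit 0x100400100600f004011001000003)) (.cD (nat_lit 16) (.kF (nat_lit 2) (nat_lit 0x11001000003006001015005000003)) (.cD (nat_lit 24) (.kF (nat_lit 2) (nat_lit 0x100400100600f004011001000003)) .nil)))))))) (.cD (nat_lit 10) (.czs (nat_lit 10) z1 (nat_lit 16) (.dfs (nat_lit 8) (nat_lit 4097) (nat_lit 4097) (nat_lit 4098) (nat_lit 4098) (nat_lit 0) (nat_lit 0) (nat_lit 3) (nat_lit 0) (nat_lit 0) (nat_lit 0) (nat_lit 1) (nat_lit 0) (nat_lit 1) (nat_lit 0) (nat_lit 1) (nat_lit 0x5050504) (.cD (nat_lit 2) (.dfs (nat_lit 16) (nat_lit 4098) (nat_lit 4098) (nat_lit 0x1004001) (nat_lit 0x1004001) (nat_lit 0) (nat_lit 0) (nat_lit 3) (nat_lit 0) (nat_lit 0) (nat_lit 0) (nat_lit 1) (nat_lit 0) (nat_lit 1) (nat_lit 0) (nat_lit 1) (nat_lit 0x5050504) (.cD (nat_lit 2) (.kc (nat_lit 24) (nat_lit 0x3001001)) (.cD (nat_lit 8) (.kc (nat_lit 26) (nat_lit 0x7001001)) (.cD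 (nat_lit 10) (.kc (nat_lit 18) (nat_lit 0x5001001)) (.cD (nat_lit 16) (.kA true (nat_lit 0x500100700e002011001000002)) (.cD (nat_lit 18) (.kA true (nat_lit 0x700300500e002011001000002)) (.cD (nat_lit 24) (.kA true (nat_lit 0x300700100e002011001000002)) (.cD (nat_lit 26) (.dfs (nat_lit 5) (nat_lit 4102) (nat_lit 4100) (nat_lit 1) (nat_lit 1) (nat_lit 1) (nat_lit 0) (nat_lit 1) (nat_lit 4104) (nat_lit 0x20010008004002011) (nat_lit 0) (nat_lit 1) (nat_lit 0) (nat_lit 1) (nat_lit 0) (nat_lit 1) (nat_lit 0) .nil) .nil)))))))) (.cD (nat_lit 8) (.kF (nat_lit 2) (nat_lit 0x100400100600f004011001000003)) (.cD (nat_lit 10) (.kc (nat_lit 10) (nat_lit 0x3001001)) (.cD (nat_lit 16) (.dfs (nat_lit 16) (nat_lit 4098) (nat_lit 4098) (nat_lit 0x1004001) (nat_lit 0x1004001) (nat_lit 0) (nat_lit 0) (nat_lit 3) (nat_lit 0) (nat_lit 0) (nat_lit 0) (nat_lit 1) (nat_lit 0) (nat_lit 1) (nat_lit 0) (nat_lit 1) (nat_lit 0x5050504) (.cD (nat_lit 2) (.kA true (nat_lit 0x300400500800100700100300c001011001000003))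 (.cD (nat_lit 8) (.dfs (nat_lit 5) (nat_lit 0x1005002003008) (nat_lit 0x1007002003008) (nat_lit 0x1004001) (nat_lit 0x1006001) (nat_lit 1) (nat_lit 0) (nat_lit 2) (nat_lit 1) (nat_lit 0) (nat_lit 4) (nat_lit 1) (nat_lit 0) (nat_lit 1) (nat_lit 0) (nat_lit 1) (nat_lit 0) .nil) (.cD (nat_lit 10) (.kc (nat_lit 18) (nat_lit 0x5001001)) (.cD (nat_lit 16) (.kc (nat_lit 24) (nat_lit 0x3001001)) (.cD (nat_lit 18) (.kA true (nat_lit 0x200500400800100700100300c001011001000003)) (.cD (nat_lit 24) (.kA true (nat_lit 0x400300200800100700100300c001011001000003)) (.cD (nat_lit 26) (.kc (nat_lit 26) (nat_lit 0x7001001)) .nil)))))))) (.cD (nat_lit 18) (.kF (nat_lit 2) (nat_lit 0x1100100000200f003003006001015005000004)) (.cD (nat_lit 24) (.kF (nat_lit 2) (nat_lit 0x100400100600f004011001000003)) (.cD (nat_lit 26) (.kF (nat_lit 2) (nat_lit 0x100400100600f004011001000003)) .nil))))))))) (.cD (nat_lit 12) (.czs (nat_lit 44) z0 (nat_lit 16) (.dfs (nat_lit 8) (nat_lit 4099) (nat_lit 4099)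 (nat_lit 0x1002001) (nat_lit 0x1002001) (nat_lit 0) (nat_lit 0) (nat_lit 3) (nat_lit 0) (nat_lit 0) (nat_lit 0) (nat_lit 1) (nat_lit 0) (nat_lit 1) (nat_lit 0) (nat_lit 1) (nat_lit 0x11111110) (.cD (nat_lit 4) (.kF (nat_lit 2) (nat_lit 0x11001000002007001002)) (.cD (nat_lit 8) (.kF (nat_lit 2) (nat_lit 0x100400100600f004011001000003)) (.cD (nat_lit 12) (.kc (nat_lit 10) (nat_lit 0x3001001)) (.cD (nat_lit 16) (.dfs (nat_lit 16) (nat_lit 4102) (nat_lit 4102) (nat_lit 0x1004002001) (nat_lit 0x1004002001) (nat_lit 0) (nat_lit 0) (nat_lit 3) (nat_lit 0) (nat_lit 0) (nat_lit 0) (nat_lit 1) (nat_lit 0) (nat_lit 1) (nat_lit 0) (nat_lit 1) (nat_lit 0x11111110) (.cD (nat_lit 4) (.kA false (nat_lit 0x1100100000400600c00f003001002005008002003)) (.cD (nat_lit 8) (.kA false (nat_lit 0x1100100000c00600400f003005002001008002003)) (.cD (nat_lit 12) (.kc (nat_lit 18) (nat_lit 0x5001001)) (.cD (nat_lit 16) (.kc (nat_lit 24) (nat_lit 0x3001001)) (.cD (nat_lit 20) (.kA false (nat_lit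 0x1100100000200600a00f003003002007008002003)) (.cD (nat_lit 24) (.kA false (nat_lit 0x1100100000a00600200f003007002003008002003)) (.cD (nat_lit 28) (.kc (nat_lit 26) (nat_lit 0x7001001)) .nil)))))))) (.cD (nat_lit 20) (.dfs (nat_lit 16) (nat_lit 4102) (nat_lit 4102) (nat_lit 0x1004002001) (nat_lit 0x1004002001) (nat_lit 0) (nat_lit 0) (nat_lit 3) (nat_lit 0) (nat_lit 0) (nat_lit 0) (nat_lit 1) (nat_lit 0) (nat_lit 1) (nat_lit 0) (nat_lit 1) (nat_lit 0x11111110) (.cD (nat_lit 4) (.kA false (nat_lit 0x1100100000400200c00f003001003005008002003)) (.cD (nat_lit 8) (.kA false (nat_lit 0x1100100000c00a00400f003005007001008002003)) (.cD (nat_lit 12) (.kc (nat_lit 18) (nat_lit 0x5001001)) (.cD (nat_lit 16) (.kA false (nat_lit 0x1100100000200400a00f003003001007008002003)) (.cD (nat_lit 20) (.kc (nat_lit 24) (nat_lit 0x3001001)) (.cD (nat_lit 24) (.kc (nat_lit 26) (nat_lit 0x7001001)) (.cD (nat_lit 28) (.kA false (nat_lit 0x1100100000a00c00200f003007005003008002003)) .nil))))))))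 (.cD (nat_lit 24) (.kF (nat_lit 2) (nat_lit 0x100400100600f004011001000003)) (.cD (nat_lit 28) (.kF (nat_lit 2) (nat_lit 0x100400100600f004011001000003)) .nil))))))))) (.cD (nat_lit 16) (.kF (nat_lit 26) (nat_lit 0x100200100800f004005015000003)) (.cD (nat_lit 24) (.dfs (nat_lit 8) (nat_lit 1) (nat_lit 1) (nat_lit 0x1002001) (nat_lit 0x1002001) (nat_lit 0) (nat_lit 0) (nat_lit 0) (nat_lit 0) (nat_lit 0) (nat_lit 0) (nat_lit 1) (nat_lit 0) (nat_lit 0x1004002) (nat_lit 16386) (nat_lit 0x100100200000400100a00000c) (nat_lit 0x1011514) (.cD (nat_lit 2) (.kF (nat_lit 2) (nat_lit 0x11001000002007004002007001003)) (.cD (nat_lit 4) (.czs (nat_lit 60) z0 (nat_lit 16) (.dfs (nat_lit 16) (nat_lit 4103) (nat_lit 4103) (nat_lit 0x1004002001) (nat_lit 0x1004002001) (nat_lit 0) (nat_lit 0) (nat_lit 3) (nat_lit 0) (nat_lit 0) (nat_lit 0) (nat_lit 1) (nat_lit 0) (nat_lit 1) (nat_lit 0) (nat_lit 1) (nat_lit 0x11111110) (.cD (nat_lit 4) (.kc (nat_lit 24) (nat_lit 0x3001001)) (.cD (nat_lit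 8) (.kA false (nat_lit 0x1100100000600c00400f003002005001008002003)) (.cD (nat_lit 12) (.kA false (nat_lit 0x1100100000600a00200f003002007003008002003)) (.cD (nat_lit 16) (.kA false (nat_lit 0x1100100000600400c00f003002001005008002003)) (.cD (nat_lit 20) (.kA false (nat_lit 0x1100100000600200a00f003002003007008002003)) (.cD (nat_lit 24) (.kc (nat_lit 18) (nat_lit 0x5001001)) (.cD (nat_lit 28) (.kc (nat_lit 26) (nat_lit 0x7001001)) .nil))))))))) (.cD (nat_lit 8) (.kF (nat_lit 2) (nat_lit 0x100400100600f004011001000003)) (.cD (nat_lit 10) (.kF (nat_lit 2) (nat_lit 0x100400100600f004011001000003)) (.cD (nat_lit 12) (.kF (nat_lit 2) (nat_lit 0x100400100600f004011001000003)) (.cD (nat_lit 16) (.kF (nat_lit 2) (nat_lit 0x11001000002007001002)) (.cD (nat_lit 24) (.kc (nat_lit 10) (nat_lit 0x3001001)) .nil)))))))) .nil)))))))))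
theorem c2 : (chk [] [] p2).n x2 s2 = true := by decide +kernel
noncomputable def p3 : Pf := (.e8 (nat_lit 1) (nat_lit 2) (nat_lit 48))
theorem c3 : (chk [] [] p3).n x5 s3 = true := by decide +kernel
noncomputable def p4 : Pf := (.anc (nat_lit 144) (nat_lit 0x3003000014002002) (nat_lit 0x1007040020010) (.czp (nat_lit 128) (nat_lit 0) (nat_lit 0x1080040020010008) z3 (.dfs (nat_lit 16) (nat_lit 4097) (nat_lit 4097) (nat_lit 1) (nat_lit 1) (nat_lit 0) (nat_lit 0) (nat_lit 3) (nat_lit 0) (nat_lit 0) (nat_lit 0) (nat_lit 1) (nat_lit 0) (nat_lit 0x1010008) (nat_lit 65544) (nat_lit 0x1001008000010001028000030) (nat_lit 0x1000000010001010100010100) (.cD (nat_lit 8) (.dfs (nat_lit 32) (nat_lit 4098) (nat_lit 4098) (nat_lit 4097) (nat_lit 4097) (nat_lit 0) (nat_lit 0) (nat_lit 3) (nat_lit 0) (nat_lit 0) (nat_lit 0) (nat_lit 1) (nat_lit 0) (nat_lit 1) (nat_lit 0) (nat_lit 1) (nat_lit 0x101000001010000010100000100) (.cD (nat_lit 8) (.kc (nat_lit 48) (nat_lit 0x3001001)) (.cD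 (nat_lit 32) (.kF (nat_lit 32) (nat_lit 0x1001000001006001002)) (.cD (nat_lit 40) (.kF (nat_lit 32) (nat_lit 0x1001000001006001002)) (.cD (nat_lit 64) (.kF (nat_lit 16) (nat_lit 0x5005000002007001004004000003)) (.cD (nat_lit 72) (.kF (nat_lit 16) (nat_lit 0x3003000002007001004004000003)) (.cD (nat_lit 96) (.dfs (nat_lit 64) (nat_lit 4100) (nat_lit 4100) (nat_lit 0x1002001) (nat_lit 0x1002001) (nat_lit 0) (nat_lit 0) (nat_lit 3) (nat_lit 0) (nat_lit 0) (nat_lit 0) (nat_lit 1) (nat_lit 0) (nat_lit 1) (nat_lit 0) (nat_lit 1) (nat_lit 0x101000001010000010100000100) (.cD (nat_lit 8) (.kc (nat_lit 80) (nat_lit 0x5001001)) (.cD (nat_lit 32) (.kA false (nat_lit 0x100100000400100200c001002)) (.cD (nat_lit 40) (.kA false (nat_lit 0x100100000400100200c001002)) (.cD (nat_lit 64) (.kA false (nat_lit 0x100100000400100200c001002)) (.cD (nat_lit 72) (.kA false (nat_lit 0x100100000400100200c001002)) (.cD (nat_lit 96) (.kc (nat_lit 96) (nat_lit 0x3001001)) (.cD (nat_lit 104) (.kc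 (nat_lit 112) (nat_lit 0x7001001)) .nil)))))))) (.cD (nat_lit 104) (.dfs (nat_lit 64) (nat_lit 4100) (nat_lit 4100) (nat_lit 0x1002001) (nat_lit 0x1002001) (nat_lit 0) (nat_lit 0) (nat_lit 3) (nat_lit 0) (nat_lit 0) (nat_lit 0) (nat_lit 1) (nat_lit 0) (nat_lit 1) (nat_lit 0) (nat_lit 1) (nat_lit 0x101000001010000010100000100) (.cD (nat_lit 8) (.kc (nat_lit 80) (nat_lit 0x5001001)) (.cD (nat_lit 32) (.kA false (nat_lit 0x100100000400100200c001002)) (.cD (nat_lit 40) (.kA false (nat_lit 0x100100000400100200c001002)) (.cD (nat_lit 64) (.kA false (nat_lit 0x100100000400100200c001002)) (.cD (nat_lit 72) (.kA false (nat_lit 0x100100000400100200c001002)) (.cD (nat_lit 96) (.kc (nat_lit 112) (nat_lit 0x7001001)) (.cD (nat_lit 104) (.kc (nat_lit 96) (nat_lit 0x3001001)) .nil)))))))) .nil)))))))) (.cD (nat_lit 16) (.dfs (nat_lit 32) (nat_lit 4098) (nat_lit 4098) (nat_lit 4097) (nat_lit 4097) (nat_lit 0) (nat_lit 0) (nat_lit 3) (nat_lit 0) (nat_lit 0) (nat_lit 0) (nat_lit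 1) (nat_lit 0) (nat_lit 1) (nat_lit 0) (nat_lit 1) (nat_lit 0x10001000100010001000100010000) (.cD (nat_lit 16) (.kc (nat_lit 48) (nat_lit 0x3001001)) (.cD (nat_lit 32) (.dfs (nat_lit 64) (nat_lit 4100) (nat_lit 4100) (nat_lit 0x1002001) (nat_lit 0x1002001) (nat_lit 0) (nat_lit 0) (nat_lit 3) (nat_lit 0) (nat_lit 0) (nat_lit 0) (nat_lit 1) (nat_lit 0) (nat_lit 1) (nat_lit 0) (nat_lit 1) (nat_lit 0x10001000100010001000100010000) (.cD (nat_lit 16) (.kc (nat_lit 80) (nat_lit 0x5001001)) (.cD (nat_lit 32) (.kc (nat_lit 96) (nat_lit 0x3001001)) (.cD (nat_lit 48) (.kc (nat_lit 112) (nat_lit 0x7001001)) (.cD (nat_lit 64) (.kA false (nat_lit 0x300400200800100e004008014003003003000003)) (.cD (nat_lit 80) (.kA false (nat_lit 0x300400200800100e004008014003003003000003)) (.cD (nat_lit 96) (.dfs (nat_lit 7) (nat_lit 0x1004003002008) (nat_lit 0x1007003002008) (nat_lit 4097) (nat_lit 4097) (nat_lit 0) (nat_lit 0) (nat_lit 2) (nat_lit 0) (nat_lit 0) (nat_lit 8) (nat_lit 1) (nat_lit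 0) (nat_lit 4112) (nat_lit 16) (nat_lit 0x1000008000028) (nat_lit 0x10000000100) (.cD (nat_lit 8) (.kA true (nat_lit 0x3006002010001004004000003006002014002004004000004)) (.cD (nat_lit 40) (.kA true (nat_lit 0x7006002010001004004000007006002014002004004000004)) .nil))) (.cD (nat_lit 112) (.dfs (nat_lit 7) (nat_lit 4101) (nat_lit 4102) (nat_lit 1) (nat_lit 1) (nat_lit 0) (nat_lit 0) (nat_lit 1) (nat_lit 4192) (nat_lit 0x80040020010008004002001) (nat_lit 0) (nat_lit 1) (nat_lit 0) (nat_lit 1) (nat_lit 0) (nat_lit 1) (nat_lit 0) .nil) .nil)))))))) (.cD (nat_lit 48) (.dfs (nat_lit 64) (nat_lit 4100) (nat_lit 4100) (nat_lit 0x1002001) (nat_lit 0x1002001) (nat_lit 0) (nat_lit 0) (nat_lit 3) (nat_lit 0) (nat_lit 0) (nat_lit 0) (nat_lit 1) (nat_lit 0) (nat_lit 1) (nat_lit 0) (nat_lit 1) (nat_lit 0x10001000100010001000100010000) (.cD (nat_lit 16) (.kc (nat_lit 80) (nat_lit 0x5001001)) (.cD (nat_lit 32) (.kc (nat_lit 112) (nat_lit 0x7001001)) (.cD (nat_lit 48) (.kc (nat_lit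 96) (nat_lit 0x3001001)) (.cD (nat_lit 64) (.kA false (nat_lit 0x400400000400100200e001004004000003)) (.cD (nat_lit 80) (.kA false (nat_lit 0x400400000400100200e001004004000003)) (.cD (nat_lit 96) (.kA false (nat_lit 0x400400000400100200e001004004000003)) (.cD (nat_lit 112) (.kA false (nat_lit 0x400400000400100200e001004004000003)) .nil)))))))) (.cD (nat_lit 64) (.kF (nat_lit 16) (nat_lit 0x3006002008008000002007001004004000004)) (.cD (nat_lit 80) (.kF (nat_lit 16) (nat_lit 0x3003000002007001004004000003)) (.cD (nat_lit 96) (.kF (nat_lit 32) (nat_lit 0x300300000e014004001006001003)) (.cD (nat_lit 112) (.kF (nat_lit 32) (nat_lit 0x300300000a014004001006001003)) .nil)))))))) (.cD (nat_lit 32) (.kF (nat_lit 16) (nat_lit 0x4004000001003001002)) (.cD (nat_lit 40) (.kF (nat_lit 16) (nat_lit 0x2002000001003001002)) (.cD (nat_lit 48) (.kF (nat_lit 16) (nat_lit 0x300300000c014004004004000001003001004)) (.cD (nat_lit 64) (.dfs (nat_lit 32) (nat_lit 4098) (nat_lit 4098) (nat_lit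 4097) (nat_lit 4097) (nat_lit 0) (nat_lit 0) (nat_lit 3) (nat_lit 0) (nat_lit 0) (nat_lit 0) (nat_lit 1) (nat_lit 0) (nat_lit 0x1010008) (nat_lit 65544) (nat_lit 0x1001008000010001028000030) (nat_lit 0x1000000010001010100010100) (.cD (nat_lit 8) (.kF (nat_lit 16) (nat_lit 0x5005000002007001004004000003)) (.cD (nat_lit 16) (.kF (nat_lit 16) (nat_lit 0x1006002004016003002007001004004000004)) (.cD (nat_lit 32) (.dfs (nat_lit 64) (nat_lit 4100) (nat_lit 4100) (nat_lit 0x1002001) (nat_lit 0x1002001) (nat_lit 0) (nat_lit 0) (nat_lit 3) (nat_lit 0) (nat_lit 0) (nat_lit 0) (nat_lit 1) (nat_lit 0) (nat_lit 0x1010008) (nat_lit 65544) (nat_lit 0x1001008000010001028000030) (nat_lit 0x1000000010001010100010100) (.cD (nat_lit 8) (.kA false (nat_lit 0x300300000400100200c001002)) (.cD (nat_lit 16) (.kA false (nat_lit 0x700400200c002003003000002)) (.cD (nat_lit 32) (.kc (nat_lit 96) (nat_lit 0x3001001)) (.cD (nat_lit 40) (.kA false (nat_lit 0x300300000400100200c001002)) (.cD (nat_lit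 48) (.dfs (nat_lit 7) (nat_lit 4102) (nat_lit 4101) (nat_lit 1) (nat_lit 1) (nat_lit 0) (nat_lit 0) (nat_lit 1) (nat_lit 4192) (nat_lit 0x80040020010008004002001) (nat_lit 0) (nat_lit 1) (nat_lit 0) (nat_lit 1) (nat_lit 0) (nat_lit 1) (nat_lit 0) .nil) (.cD (nat_lit 64) (.kc (nat_lit 80) (nat_lit 0x5001001)) (.cD (nat_lit 96) (.kc (nat_lit 112) (nat_lit 0x7001001)) .nil)))))))) (.cD (nat_lit 40) (.kF (nat_lit 32) (nat_lit 0x3003000001006001002)) (.cD (nat_lit 48) (.kF (nat_lit 32) (nat_lit 0x3003000001006001002)) (.cD (nat_lit 64) (.kc (nat_lit 48) (nat_lit 0x3001001)) (.cD (nat_lit 96) (.dfs (nat_lit 64) (nat_lit 4100) (nat_lit 4100) (nat_lit 0x1002001) (nat_lit 0x1002001) (nat_lit 0) (nat_lit 0) (nat_lit 3) (nat_lit 0) (nat_lit 0) (nat_lit 0) (nat_lit 1) (nat_lit 0) (nat_lit 0x1010008) (nat_lit 65544) (nat_lit 0x1001008000010001028000030) (nat_lit 0x1000000010001010100010100) (.cD (nat_lit 8) (.kA false (nat_lit 0x400400000400100200e001004004000003)) (.cD (nat_lit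 16) (.kA false (nat_lit 0x300400600c002003003000002)) (.cD (nat_lit 32) (.kc (nat_lit 112) (nat_lit 0x7001001)) (.cD (nat_lit 40) (.kA false (nat_lit 0x400400000400100200e001004004000003)) (.cD (nat_lit 48) (.kA false (nat_lit 0x500400600c002003003000002)) (.cD (nat_lit 64) (.kc (nat_lit 80) (nat_lit 0x5001001)) (.cD (nat_lit 96) (.kc (nat_lit 96) (nat_lit 0x3001001)) .nil)))))))) .nil)))))))) (.cD (nat_lit 96) (.kF (nat_lit 16) (nat_lit 0x7007000001003001002)) .nil))))))))))
theorem c4 : (chk [] [] p4).n x6 s4 = true := by decide +kernel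
noncomputable def p5 : Pf := (.anc (nat_lit 144) (nat_lit 0x3003000014002002) (nat_lit 0x1007040020010) (.czp (nat_lit 128) (nat_lit 0) (nat_lit 0x1080040020010008) z3 (.dfs (nat_lit 16) (nat_lit 4097) (nat_lit 4097) (nat_lit 1) (nat_lit 1) (nat_lit 0) (nat_lit 0) (nat_lit 3) (nat_lit 0) (nat_lit 0) (nat_lit 0) (nat_lit 1) (nat_lit 0) (nat_lit 0x1010008) (nat_lit 65544) (nat_lit 0x1001008000010001028000030) (nat_lit 0x1000000010001010100010100) (.cD (nat_lit 8) (.dfs (nat_lit 32) (nat_lit 4098) (nat_lit 4098) (nat_lit 4097) (nat_lit 4097) (nat_lit 0) (nat_lit 0) (nat_lit 3) (nat_lit 0) (nat_lit 0) (nat_lit 0) (nat_lit 1) (nat_lit 0) (nat_lit 1) (nat_lit 0) (nat_lit 1) (nat_lit 0x101000001010000010100000100) (.cD (nat_lit 8) (.kc (nat_lit 48) (nat_lit 0x3001001)) (.cD (nat_lit 32) (.kF (nat_lit 32) (nat_lit 0x1001000001006001002)) (.cD (nat_lit 40) (.kF (nat_lit 32) (nat_lit 0x1001000001006001002)) (.cD (nat_lit 64) (.kF (nat_lit 16) (nat_lit 0x5005000002007001004004000003))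 (.cD (nat_lit 72) (.kF (nat_lit 16) (nat_lit 0x3003000002007001004004000003)) (.cD (nat_lit 96) (.dfs (nat_lit 64) (nat_lit 4100) (nat_lit 4100) (nat_lit 0x1002001) (nat_lit 0x1002001) (nat_lit 0) (nat_lit 0) (nat_lit 3) (nat_lit 0) (nat_lit 0) (nat_lit 0) (nat_lit 1) (nat_lit 0) (nat_lit 1) (nat_lit 0) (nat_lit 1) (nat_lit 0x101000001010000010100000100) (.cD (nat_lit 8) (.kc (nat_lit 80) (nat_lit 0x5001001)) (.cD (nat_lit 32) (.kA false (nat_lit 0x100100000400100200c001002)) (.cD (nat_lit 40) (.kA false (nat_lit 0x100100000400100200c001002)) (.cD (nat_lit 64) (.kA false (nat_lit 0x100100000400100200c001002)) (.cD (nat_lit 72) (.kA false (nat_lit 0x100100000400100200c001002)) (.cD (nat_lit 96) (.kc (nat_lit 96) (nat_lit 0x3001001)) (.cD (nat_lit 104) (.kc (nat_lit 112) (nat_lit 0x7001001)) .nil)))))))) (.cD (nat_lit 104) (.dfs (nat_lit 64) (nat_lit 4100) (nat_lit 4100) (nat_lit 0x1002001) (nat_lit 0x1002001) (nat_lit 0) (nat_lit 0) (nat_lit 3) (nat_lit 0) (nat_lit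 0) (nat_lit 0) (nat_lit 1) (nat_lit 0) (nat_lit 1) (nat_lit 0) (nat_lit 1) (nat_lit 0x101000001010000010100000100) (.cD (nat_lit 8) (.kc (nat_lit 80) (nat_lit 0x5001001)) (.cD (nat_lit 32) (.kA false (nat_lit 0x100100000400100200c001002)) (.cD (nat_lit 40) (.kA false (nat_lit 0x100100000400100200c001002)) (.cD (nat_lit 64) (.kA false (nat_lit 0x100100000400100200c001002)) (.cD (nat_lit 72) (.kA false (nat_lit 0x100100000400100200c001002)) (.cD (nat_lit 96) (.kc (nat_lit 112) (nat_lit 0x7001001)) (.cD (nat_lit 104) (.kc (nat_lit 96) (nat_lit 0x3001001)) .nil)))))))) .nil)))))))) (.cD (nat_lit 16) (.dfs (nat_lit 32) (nat_lit 4098) (nat_lit 4098) (nat_lit 4097) (nat_lit 4097) (nat_lit 0) (nat_lit 0) (nat_lit 3) (nat_lit 0) (nat_lit 0) (nat_lit 0) (nat_lit 1) (nat_lit 0) (nat_lit 1) (nat_lit 0) (nat_lit 1) (nat_lit 0x10001000100010001000100010000) (.cD (nat_lit 16) (.kc (nat_lit 48) (nat_lit 0x3001001)) (.cD (nat_lit 32) (.dfs (nat_lit 64) (nat_lit 4100) (nat_lit 4100)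 (nat_lit 0x1002001) (nat_lit 0x1002001) (nat_lit 0) (nat_lit 0) (nat_lit 3) (nat_lit 0) (nat_lit 0) (nat_lit 0) (nat_lit 1) (nat_lit 0) (nat_lit 1) (nat_lit 0) (nat_lit 1) (nat_lit 0x10001000100010001000100010000) (.cD (nat_lit 16) (.kc (nat_lit 80) (nat_lit 0x5001001)) (.cD (nat_lit 32) (.kc (nat_lit 96) (nat_lit 0x3001001)) (.cD (nat_lit 48) (.kc (nat_lit 112) (nat_lit 0x7001001)) (.cD (nat_lit 64) (.kA false (nat_lit 0x300400200800100e004008014003003003000003)) (.cD (nat_lit 80) (.kA false (nat_lit 0x300400200800100e004008014003003003000003)) (.cD (nat_lit 96) (.dfs (nat_lit 7) (nat_lit 0x1004003002008) (nat_lit 0x1007003002008) (nat_lit 4097) (nat_lit 4097) (nat_lit 0) (nat_lit 0) (nat_lit 2) (nat_lit 0) (nat_lit 0) (nat_lit 8) (nat_lit 1) (nat_lit 0) (nat_lit 4112) (nat_lit 16) (nat_lit 0x10000880000a8) (nat_lit 0x1000000010000000000000000000000000000000000) (.cD (nat_lit 136) (.kb (nat_lit 7) (nat_lit 0x1001000001001002) (nat_lit 0x1040020090008004002)) (.cD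 (nat_lit 168) (.kb (nat_lit 39) (nat_lit 0x1001000005001002) (nat_lit 0x1040020090008004012)) .nil))) (.cD (nat_lit 112) (.dfs (nat_lit 7) (nat_lit 4101) (nat_lit 4102) (nat_lit 1) (nat_lit 1) (nat_lit 0) (nat_lit 0) (nat_lit 1) (nat_lit 4192) (nat_lit 0x80040020010008004002001) (nat_lit 0) (nat_lit 1) (nat_lit 0) (nat_lit 1) (nat_lit 0) (nat_lit 1) (nat_lit 0) .nil) .nil)))))))) (.cD (nat_lit 48) (.dfs (nat_lit 64) (nat_lit 4100) (nat_lit 4100) (nat_lit 0x1002001) (nat_lit 0x1002001) (nat_lit 0) (nat_lit 0) (nat_lit 3) (nat_lit 0) (nat_lit 0) (nat_lit 0) (nat_lit 1) (nat_lit 0) (nat_lit 1) (nat_lit 0) (nat_lit 1) (nat_lit 0x10001000100010001000100010000) (.cD (nat_lit 16) (.kc (nat_lit 80) (nat_lit 0x5001001)) (.cD (nat_lit 32) (.kc (nat_lit 112) (nat_lit 0x7001001)) (.cD (nat_lit 48) (.kc (nat_lit 96) (nat_lit 0x3001001)) (.cD (nat_lit 64) (.kA false (nat_lit 0x400400000400100200e001004004000003)) (.cD (nat_lit 80) (.kA false (nat_lit 0x400400000400100200e001004004000003))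 (.cD (nat_lit 96) (.kA false (nat_lit 0x400400000400100200e001004004000003)) (.cD (nat_lit 112) (.kA false (nat_lit 0x400400000400100200e001004004000003)) .nil)))))))) (.cD (nat_lit 64) (.kF (nat_lit 16) (nat_lit 0x3006002008008000002007001004004000004)) (.cD (nat_lit 80) (.kF (nat_lit 16) (nat_lit 0x3003000002007001004004000003)) (.cD (nat_lit 96) (.kF (nat_lit 32) (nat_lit 0x300300000e014004001006001003)) (.cD (nat_lit 112) (.kF (nat_lit 32) (nat_lit 0x300300000a014004001006001003)) .nil)))))))) (.cD (nat_lit 32) (.kF (nat_lit 16) (nat_lit 0x4004000001003001002)) (.cD (nat_lit 40) (.kF (nat_lit 16) (nat_lit 0x2002000001003001002)) (.cD (nat_lit 48) (.kF (nat_lit 16) (nat_lit 0x300300000c014004004004000001003001004)) (.cD (nat_lit 64) (.dfs (nat_lit 32) (nat_lit 4098) (nat_lit 4098) (nat_lit 4097) (nat_lit 4097) (nat_lit 0) (nat_lit 0) (nat_lit 3) (nat_lit 0) (nat_lit 0) (nat_lit 0) (nat_lit 1) (nat_lit 0) (nat_lit 0x1010008) (nat_lit 65544) (nat_lit 0x1001008000010001028000030)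 (nat_lit 0x1000000010001010100010100) (.cD (nat_lit 8) (.kF (nat_lit 16) (nat_lit 0x5005000002007001004004000003)) (.cD (nat_lit 16) (.kF (nat_lit 16) (nat_lit 0x1006002004016003002007001004004000004)) (.cD (nat_lit 32) (.dfs (nat_lit 64) (nat_lit 4100) (nat_lit 4100) (nat_lit 0x1002001) (nat_lit 0x1002001) (nat_lit 0) (nat_lit 0) (nat_lit 3) (nat_lit 0) (nat_lit 0) (nat_lit 0) (nat_lit 1) (nat_lit 0) (nat_lit 0x1010008) (nat_lit 65544) (nat_lit 0x1001008000010001028000030) (nat_lit 0x1000000010001010100010100) (.cD (nat_lit 8) (.kA false (nat_lit 0x300300000400100200c001002)) (.cD (nat_lit 16) (.kA false (nat_lit 0x700400200c002003003000002)) (.cD (nat_lit 32) (.kc (nat_lit 96) (nat_lit 0x3001001)) (.cD (nat_lit 40) (.kA false (nat_lit 0x300300000400100200c001002)) (.cD (nat_lit 48) (.dfs (nat_lit 7) (nat_lit 4102) (nat_lit 4101) (nat_lit 1) (nat_lit 1) (nat_lit 0) (nat_lit 0) (nat_lit 1) (nat_lit 4192) (nat_lit 0x80040020010008004002001) (nat_lit 0) (nat_lit 1)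 (nat_lit 0) (nat_lit 1) (nat_lit 0) (nat_lit 1) (nat_lit 0) .nil) (.cD (nat_lit 64) (.kc (nat_lit 80) (nat_lit 0x5001001)) (.cD (nat_lit 96) (.kc (nat_lit 112) (nat_lit 0x7001001)) .nil)))))))) (.cD (nat_lit 40) (.kF (nat_lit 32) (nat_lit 0x3003000001006001002)) (.cD (nat_lit 48) (.kF (nat_lit 32) (nat_lit 0x3003000001006001002)) (.cD (nat_lit 64) (.kc (nat_lit 48) (nat_lit 0x3001001)) (.cD (nat_lit 96) (.dfs (nat_lit 64) (nat_lit 4100) (nat_lit 4100) (nat_lit 0x1002001) (nat_lit 0x1002001) (nat_lit 0) (nat_lit 0) (nat_lit 3) (nat_lit 0) (nat_lit 0) (nat_lit 0) (nat_lit 1) (nat_lit 0) (nat_lit 0x1010008) (nat_lit 65544) (nat_lit 0x1001008000010001028000030) (nat_lit 0x1000000010001010100010100) (.cD (nat_lit 8) (.kA false (nat_lit 0x400400000400100200e001004004000003)) (.cD (nat_lit 16) (.kA false (nat_lit 0x300400600c002003003000002)) (.cD (nat_lit 32) (.kc (nat_lit 112) (nat_lit 0x7001001)) (.cD (nat_lit 40) (.kA false (nat_lit 0x400400000400100200e001004004000003))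 (.cD (nat_lit 48) (.kA false (nat_lit 0x500400600c002003003000002)) (.cD (nat_lit 64) (.kc (nat_lit 80) (nat_lit 0x5001001)) (.cD (nat_lit 96) (.kc (nat_lit 96) (nat_lit 0x3001001)) .nil)))))))) .nil)))))))) (.cD (nat_lit 96) (.kF (nat_lit 16) (nat_lit 0x7007000001003001002)) .nil))))))))))
theorem c5 : (chk [] [] p5).n x7 s5 = true := by decide +kernel
noncomputable def p6 : Pf := (.anc (nat_lit 144) (nat_lit 0x63003000014002002) (nat_lit 0x1007040020010) (.czp (nat_lit 128) (nat_lit 0) (nat_lit 0x1080040020010008) z3 (.dfs (nat_lit 16) (nat_lit 4097) (nat_lit 4097) (nat_lit 1) (nat_lit 1) (nat_lit 0) (nat_lit 0) (nat_lit 3) (nat_lit 0) (nat_lit 0) (nat_lit 0) (nat_lit 1) (nat_lit 0) (nat_lit 0x1010008) (nat_lit 65544) (nat_lit 0x1001008000010001028000030) (nat_lit 0x1000000010001010100010100) (.cD (nat_lit 8) (.dfs (nat_lit 32) (nat_lit 4098) (nat_lit 4098) (nat_lit 4097) (nat_lit 4097) (nat_lit 0) (nat_lit 0) (nat_lit 3) (nat_lit 0) (nat_lit 0) (nat_lit 0) (nat_lit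 1) (nat_lit 0) (nat_lit 1) (nat_lit 0) (nat_lit 1) (nat_lit 0x101000001010000010100000100) (.cD (nat_lit 8) (.kc (nat_lit 48) (nat_lit 0x3001001)) (.cD (nat_lit 32) (.kF (nat_lit 32) (nat_lit 0x61001000001006001002)) (.cD (nat_lit 40) (.kF (nat_lit 32) (nat_lit 0x61001000001006001002)) (.cD (nat_lit 64) (.kF (nat_lit 16) (nat_lit 0x65005000002007001004004000003)) (.cD (nat_lit 72) (.kF (nat_lit 16) (nat_lit 0x63003000002007001004004000003)) (.cD (nat_lit 96) (.dfs (nat_lit 64) (nat_lit 4100) (nat_lit 4100) (nat_lit 0x1002001) (nat_lit 0x1002001) (nat_lit 0) (nat_lit 0) (nat_lit 3) (nat_lit 0) (nat_lit 0) (nat_lit 0) (nat_lit 1) (nat_lit 0) (nat_lit 1) (nat_lit 0) (nat_lit 1) (nat_lit 0x101000001010000010100000100) (.cD (nat_lit 8) (.kc (nat_lit 80) (nat_lit 0x5001001)) (.cD (nat_lit 32) (.kA false (nat_lit 0x6100100000400100200c001002)) (.cD (nat_lit 40) (.kA false (nat_lit 0x6100100000400100200c001002)) (.cD (nat_lit 64) (.kA false (nat_lit 0x6100100000400100200c001002))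 (.cD (nat_lit 72) (.kA false (nat_lit 0x6100100000400100200c001002)) (.cD (nat_lit 96) (.kc (nat_lit 96) (nat_lit 0x3001001)) (.cD (nat_lit 104) (.kc (nat_lit 112) (nat_lit 0x7001001)) .nil)))))))) (.cD (nat_lit 104) (.dfs (nat_lit 64) (nat_lit 4100) (nat_lit 4100) (nat_lit 0x1002001) (nat_lit 0x1002001) (nat_lit 0) (nat_lit 0) (nat_lit 3) (nat_lit 0) (nat_lit 0) (nat_lit 0) (nat_lit 1) (nat_lit 0) (nat_lit 1) (nat_lit 0) (nat_lit 1) (nat_lit 0x101000001010000010100000100) (.cD (nat_lit 8) (.kc (nat_lit 80) (nat_lit 0x5001001)) (.cD (nat_lit 32) (.kA false (nat_lit 0x6100100000400100200c001002)) (.cD (nat_lit 40) (.kA false (nat_lit 0x6100100000400100200c001002)) (.cD (nat_lit 64) (.kA false (nat_lit 0x6100100000400100200c001002)) (.cD (nat_lit 72) (.kA false (nat_lit 0x6100100000400100200c001002)) (.cD (nat_lit 96) (.kc (nat_lit 112) (nat_lit 0x7001001)) (.cD (nat_lit 104) (.kc (nat_lit 96) (nat_lit 0x3001001)) .nil)))))))) .nil)))))))) (.cD (nat_lit 16) (.dfs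 (nat_lit 32) (nat_lit 4098) (nat_lit 4098) (nat_lit 4097) (nat_lit 4097) (nat_lit 0) (nat_lit 0) (nat_lit 3) (nat_lit 0) (nat_lit 0) (nat_lit 0) (nat_lit 1) (nat_lit 0) (nat_lit 1) (nat_lit 0) (nat_lit 1) (nat_lit 0x10001000100010001000100010000) (.cD (nat_lit 16) (.kc (nat_lit 48) (nat_lit 0x3001001)) (.cD (nat_lit 32) (.dfs (nat_lit 64) (nat_lit 4100) (nat_lit 4100) (nat_lit 0x1002001) (nat_lit 0x1002001) (nat_lit 0) (nat_lit 0) (nat_lit 3) (nat_lit 0) (nat_lit 0) (nat_lit 0) (nat_lit 1) (nat_lit 0) (nat_lit 1) (nat_lit 0) (nat_lit 1) (nat_lit 0x10001000100010001000100010000) (.cD (nat_lit 16) (.kc (nat_lit 80) (nat_lit 0x5001001)) (.cD (nat_lit 32) (.kc (nat_lit 96) (nat_lit 0x3001001)) (.cD (nat_lit 48) (.kc (nat_lit 112) (nat_lit 0x7001001)) (.cD (nat_lit 64) (.kA false (nat_lit 0x300400200800100e004008014003063003000003)) (.cD (nat_lit 80) (.kA false (nat_lit 0x300400200800100e004008014003063003000003)) (.cD (nat_lit 96) (.dfs (nat_lit 7) (nat_lit 0x1004003002008)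 (nat_lit 0x1007003002008) (nat_lit 4097) (nat_lit 4097) (nat_lit 3) (nat_lit 0) (nat_lit 2) (nat_lit 0) (nat_lit 0) (nat_lit 8) (nat_lit 1) (nat_lit 0) (nat_lit 4112) (nat_lit 16) (nat_lit 0x1000018000038) (nat_lit 0x100000001000000) (.cD (nat_lit 24) (.kA true (nat_lit 0xb00600201000100400400000b006002014002004004000004)) (.cD (nat_lit 56) (.kA true (nat_lit 0xf00600201000100400400000f006002014002004004000004)) .nil))) (.cD (nat_lit 112) (.dfs (nat_lit 7) (nat_lit 4101) (nat_lit 4102) (nat_lit 1) (nat_lit 1) (nat_lit 3) (nat_lit 0) (nat_lit 1) (nat_lit 4192) (nat_lit 0x80040020010008004002061) (nat_lit 0) (nat_lit 1) (nat_lit 0) (nat_lit 1) (nat_lit 0) (nat_lit 1) (nat_lit 0) .nil) .nil)))))))) (.cD (nat_lit 48) (.dfs (nat_lit 64) (nat_lit 4100) (nat_lit 4100) (nat_lit 0x1002001) (nat_lit 0x1002001) (nat_lit 0) (nat_lit 0) (nat_lit 3) (nat_lit 0) (nat_lit 0) (nat_lit 0) (nat_lit 1) (nat_lit 0) (nat_lit 1) (nat_lit 0) (nat_lit 1) (nat_lit 0x10001000100010001000100010000)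 (.cD (nat_lit 16) (.kc (nat_lit 80) (nat_lit 0x5001001)) (.cD (nat_lit 32) (.kc (nat_lit 112) (nat_lit 0x7001001)) (.cD (nat_lit 48) (.kc (nat_lit 96) (nat_lit 0x3001001)) (.cD (nat_lit 64) (.kA false (nat_lit 0x400400000400100200e001004004000003)) (.cD (nat_lit 80) (.kA false (nat_lit 0x400400000400100200e001004004000003)) (.cD (nat_lit 96) (.kA false (nat_lit 0x400400000400100200e001004004000003)) (.cD (nat_lit 112) (.kA false (nat_lit 0x400400000400100200e001004004000003)) .nil)))))))) (.cD (nat_lit 64) (.kF (nat_lit 16) (nat_lit 0x3006002008008000002007001004004000004)) (.cD (nat_lit 80) (.kF (nat_lit 16) (nat_lit 0x63003000002007001004004000003)) (.cD (nat_lit 96) (.kF (nat_lit 32) (nat_lit 0x6300300000e014004001006001003)) (.cD (nat_lit 112) (.kF (nat_lit 32) (nat_lit 0x6300300000a014004001006001003)) .nil)))))))) (.cD (nat_lit 32) (.kF (nat_lit 16) (nat_lit 0x4004000001003001002)) (.cD (nat_lit 40) (.kF (nat_lit 16) (nat_lit 0x2002000001003001002)) (.cD (nat_lit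 48) (.kF (nat_lit 16) (nat_lit 0x6300300000c014004004004000001003001004)) (.cD (nat_lit 64) (.dfs (nat_lit 32) (nat_lit 4098) (nat_lit 4098) (nat_lit 4097) (nat_lit 4097) (nat_lit 0) (nat_lit 0) (nat_lit 3) (nat_lit 0) (nat_lit 0) (nat_lit 0) (nat_lit 1) (nat_lit 0) (nat_lit 0x1010008) (nat_lit 65544) (nat_lit 0x1001008000010001028000030) (nat_lit 0x1000000010001010100010100) (.cD (nat_lit 8) (.kF (nat_lit 16) (nat_lit 0x65005000002007001004004000003)) (.cD (nat_lit 16) (.kF (nat_lit 16) (nat_lit 0x1006002004016003002007001004004000004)) (.cD (nat_lit 32) (.dfs (nat_lit 64) (nat_lit 4100) (nat_lit 4100) (nat_lit 0x1002001) (nat_lit 0x1002001) (nat_lit 0) (nat_lit 0) (nat_lit 3) (nat_lit 0) (nat_lit 0) (nat_lit 0) (nat_lit 1) (nat_lit 0) (nat_lit 0x1010008) (nat_lit 65544) (nat_lit 0x1001008000010001028000030) (nat_lit 0x1000000010001010100010100) (.cD (nat_lit 8) (.kA false (nat_lit 0x6300300000400100200c001002)) (.cD (nat_lit 16) (.kA false (nat_lit 0x700400200c002063003000002))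 (.cD (nat_lit 32) (.kc (nat_lit 96) (nat_lit 0x3001001)) (.cD (nat_lit 40) (.kA false (nat_lit 0x6300300000400100200c001002)) (.cD (nat_lit 48) (.dfs (nat_lit 7) (nat_lit 4102) (nat_lit 4101) (nat_lit 1) (nat_lit 1) (nat_lit 3) (nat_lit 0) (nat_lit 1) (nat_lit 4192) (nat_lit 0x80040020010008004002061) (nat_lit 0) (nat_lit 1) (nat_lit 0) (nat_lit 1) (nat_lit 0) (nat_lit 1) (nat_lit 0) .nil) (.cD (nat_lit 64) (.kc (nat_lit 80) (nat_lit 0x5001001)) (.cD (nat_lit 96) (.kc (nat_lit 112) (nat_lit 0x7001001)) .nil)))))))) (.cD (nat_lit 40) (.kF (nat_lit 32) (nat_lit 0x63003000001006001002)) (.cD (nat_lit 48) (.kF (nat_lit 32) (nat_lit 0x63003000001006001002)) (.cD (nat_lit 64) (.kc (nat_lit 48) (nat_lit 0x3001001)) (.cD (nat_lit 96) (.dfs (nat_lit 64) (nat_lit 4100) (nat_lit 4100) (nat_lit 0x1002001) (nat_lit 0x1002001) (nat_lit 0) (nat_lit 0) (nat_lit 3) (nat_lit 0) (nat_lit 0) (nat_lit 0) (nat_lit 1) (nat_lit 0) (nat_lit 0x1010008) (nat_lit 65544) (nat_lit 0x1001008000010001028000030)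 (nat_lit 0x1000000010001010100010100) (.cD (nat_lit 8) (.kA false (nat_lit 0x400400000400100200e001004004000003)) (.cD (nat_lit 16) (.kA false (nat_lit 0x300400600c002063003000002)) (.cD (nat_lit 32) (.kc (nat_lit 112) (nat_lit 0x7001001)) (.cD (nat_lit 40) (.kA false (nat_lit 0x400400000400100200e001004004000003)) (.cD (nat_lit 48) (.kA false (nat_lit 0x500400600c002063003000002)) (.cD (nat_lit 64) (.kc (nat_lit 80) (nat_lit 0x5001001)) (.cD (nat_lit 96) (.kc (nat_lit 96) (nat_lit 0x3001001)) .nil)))))))) .nil)))))))) (.cD (nat_lit 96) (.kF (nat_lit 16) (nat_lit 0x67007000001003001002)) .nil))))))))))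
theorem c6 : (chk [] [] p6).n x8 s6 = true := by decide +kernel
noncomputable def p7 : Pf := (.ext (nat_lit 0) (nat_lit 0xc020010041001061001000002) (nat_lit 0x1080020040010) (nat_lit 0x4101000c02c001061001000010008004002003003) (nat_lit 0x2003004008) (nat_lit 0x100b004) (nat_lit 0x1001003) (nat_lit 0xa00400200500c004002001) (.dfs (nat_lit 4) (nat_lit 0x1001002004008) (nat_lit 0x100100200400c) (nat_lit 1) (nat_lit 1) (nat_lit 0) (nat_lit 0) (nat_lit 2) (nat_lit 0) (nat_lit 0x1002004008001001) (nat_lit 3) (nat_lit 1) (nat_lit 0) (nat_lit 4115) (nat_lit 19) (nat_lit 0x1000010000014000030000034) (nat_lit 0x11000000110000) (.cD (nat_lit 16) (.dfs (nat_lit 11) (nat_lit 0x1002004008010) (nat_lit 0x100a004008014) (nat_lit 4097) (nat_lit 4109) (nat_lit 0) (nat_lit 0) (nat_lit 2) (nat_lit 0) (nat_lit 0x2004008010001001) (nat_lit 1) (nat_lit 1) (nat_lit 0) (nat_lit 1) (nat_lit 0) (nat_lit 1) (nat_lit 0) .nil) (.cD (nat_lit 20) (.kS (nat_lit 0) (nat_lit 0x2c00c010041004002004008010001002)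 (nat_lit 4164) (nat_lit 0x8004002003) (nat_lit 0x6100100000200400801000100500200400801000100202c00c010041014003004)) (.cD (nat_lit 48) (.kS (nat_lit 0) (nat_lit 0x2c00c010041004002004008010001002) (nat_lit 4208) (nat_lit 0x8004002003) (nat_lit 0x6100100000200400801000100500200400801000100202c00c010041038003004)) (.cD (nat_lit 52) (.kS (nat_lit 0) (nat_lit 0x2c00c010041004002004008010001002) (nat_lit 4196) (nat_lit 0x8004002003) (nat_lit 0x6100100000200400801000100500200400801000100202c00c010041034003004)) .nil))))))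
theorem c7 : (chk [] [] p7).n x9 s7 = true := by decide +kernel
noncomputable def p8 : Pf := (.ext (nat_lit 0) (nat_lit 0xc020010041001061001000002) (nat_lit 0x1080020040010) (nat_lit 0x4101000c02c001061001000010008004002003003) (nat_lit 0x2003004008) (nat_lit 0x100b004) (nat_lit 0x1002003) (nat_lit 0xa00400200500c004002001) (.dfs (nat_lit 4) (nat_lit 0x1001002004008) (nat_lit 0x100100200400c) (nat_lit 1) (nat_lit 1) (nat_lit 0) (nat_lit 0) (nat_lit 2) (nat_lit 0) (nat_lit 0x1002004008001001) (nat_lit 3) (nat_lit 1) (nat_lit 0) (nat_lit 4115) (nat_lit 19) (nat_lit 0x1000010000014000030000034) (nat_lit 0x11000000110000) (.cD (nat_lit 16) (.dfs (nat_lit 11) (nat_lit 0x1002004008010) (nat_lit 0x100a004008014) (nat_lit 4097) (nat_lit 4109) (nat_lit 0) (nat_lit 0) (nat_lit 2) (nat_lit 0) (nat_lit 0x2004008010001001) (nat_lit 2) (nat_lit 1) (nat_lit 0) (nat_lit 1) (nat_lit 0) (nat_lit 1) (nat_lit 0) .nil) (.cD (nat_lit 20) (.kS (nat_lit 0) (nat_lit 0x2c00c010041004002004008010001002)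 (nat_lit 4164) (nat_lit 0x8004002003) (nat_lit 0x6100100000200400801000100500200400801000100202c00c010041014003004)) (.cD (nat_lit 48) (.kS (nat_lit 0) (nat_lit 0x2c00c010041004002004008010001002) (nat_lit 4208) (nat_lit 0x8004002003) (nat_lit 0x6100100000200400801000100500200400801000100202c00c010041038003004)) (.cD (nat_lit 52) (.kS (nat_lit 0) (nat_lit 0x2c00c010041004002004008010001002) (nat_lit 4196) (nat_lit 0x8004002003) (nat_lit 0x6100100000200400801000100500200400801000100202c00c010041034003004)) .nil))))))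
theorem c8 : (chk [] [] p8).n x9 s8 = true := by decide +kernel
noncomputable def p9 : Pf := (.ext (nat_lit 0) (nat_lit 0) (nat_lit 0x1080020040010004) (nat_lit 0x1400800e00a00f001063003000010008004002001001003) (nat_lit 0x600c008016) (nat_lit 0x1008003) (nat_lit 0x108708c) (nat_lit 0x1000800400600d01400800400e001) (.dfs (nat_lit 3) (nat_lit 0x100600c008016) (nat_lit 0x100a00c00801e) (nat_lit 0x1010004002001) (nat_lit 0x101400400e001) (nat_lit 12) (nat_lit 0) (nat_lit 2) (nat_lit 0) (nat_lit 0) (nat_lit 12) (nat_lit 1) (nat_lit 0) (nat_lit 4112) (nat_lit 16) (nat_lit 0x100008c0000ac) (nat_lit 0x10000000100000000000000000000000000000000000) (.cD (nat_lit 140) (.dfs (nat_lit 8) (nat_lit 0x100c01801002c) (nat_lit 0x1004018010024) (nat_lit 0x1020008004002001) (nat_lit 0x102000800c01a019) (nat_lit 0) (nat_lit 0) (nat_lit 2) (nat_lit 0) (nat_lit 0) (nat_lit 7) (nat_lit 1) (nat_lit 0) (nat_lit 1) (nat_lit 0) (nat_lit 1) (nat_lit 0x8000000080000000800000008000000000000000000000000000000000)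 (.cD (nat_lit 135) (.kA false (nat_lit 0x6100100000402003003e00100c020010051001065005000004)) (.cD (nat_lit 167) (.cut (nat_lit 1)) (.cD (nat_lit 199) (.kS (nat_lit 0) (nat_lit 0x6100100000c020010041001061001000003) (nat_lit 0x10840700af) (nat_lit 0xe00400200501000800400600103001000800401a019) (nat_lit 0x401003002a05400807700206100100000801002004000200400100100106100000c020010041002004001002001061000006)) (.cD (nat_lit 231) (.kA false (nat_lit 0x6100100000402003003e00100c020010041001061001000004)) .nil))))) (.cD (nat_lit 172) (.dfs (nat_lit 8) (nat_lit 0x100c01801002c) (nat_lit 0x1004018010024) (nat_lit 0x1020008004002001) (nat_lit 0x102000800c01a019) (nat_lit 0) (nat_lit 0) (nat_lit 2) (nat_lit 0) (nat_lit 0) (nat_lit 7) (nat_lit 1) (nat_lit 0) (nat_lit 1) (nat_lit 0) (nat_lit 1) (nat_lit 0x8000000080000000800000008000000000000000000000000000000000) (.cD (nat_lit 135) (.kS (nat_lit 0) (nat_lit 0x6100100000c020010041001061001000003) (nat_lit 0x10c407008f) (nat_lit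 0xe00400200501000800400600103001000800401a019) (nat_lit 0x401003000a06400804700206100100000801002004000200400100100106100000c020010041002004001002001061000006)) (.cD (nat_lit 167) (.kA false (nat_lit 0x6100100000402003001e00100c020010051001065005000004)) (.cD (nat_lit 199) (.kA false (nat_lit 0x6100100000402003001e00100c020010041001061001000004)) (.cD (nat_lit 231) (.cut (nat_lit 0)) .nil))))) .nil))))
theorem c9 : (chk [(x9, s7), (x9, s8)] [] p9).n x9 s9 = true := by decide +kernel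
noncomputable def p10 : Pf := (.ext (nat_lit 1) (nat_lit 0) (nat_lit 0x1080060040008) (nat_lit 0x20010008004001001) (nat_lit 0x2003004008) (nat_lit 0x1004002001) (nat_lit 0x1006004005) (nat_lit 0xe00400200500f004006005009004006001) (.dfs (nat_lit 1) (nat_lit 0x1002003004008) (nat_lit 0x1006007004009) (nat_lit 4097) (nat_lit 4097) (nat_lit 4) (nat_lit 0) (nat_lit 2) (nat_lit 1) (nat_lit 0) (nat_lit 5) (nat_lit 1) (nat_lit 0) (nat_lit 0x1080008) (nat_lit 0x80008) (nat_lit 0x1000005001005001065) (nat_lit 32) (.cD (nat_lit 5) (.dfs (nat_lit 2) (nat_lit 0x1004006008010) (nat_lit 0x100c00600801e) (nat_lit 0x1002001) (nat_lit 0x100a001) (nat_lit 0) (nat_lit 0) (nat_lit 2) (nat_lit 1) (nat_lit 0) (nat_lit 4) (nat_lit 1) (nat_lit 0) (nat_lit 4136) (nat_lit 40) (nat_lit 0x1000004) (nat_lit 16) (.cD (nat_lit 4) (.dfs (nat_lit 4) (nat_lit 0x100800c010020) (nat_lit 0x100801c010038) (nat_lit 0x1004002001) (nat_lit 0x1014002001) (nat_lit 0) (nat_lit 0) (nat_lit 2) (nat_lit 1)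 (nat_lit 0) (nat_lit 6) (nat_lit 1) (nat_lit 0) (nat_lit 1) (nat_lit 0) (nat_lit 1) (nat_lit 0x40000000000000000000000040) (.cD (nat_lit 6) (.cut (nat_lit 0)) (.cD (nat_lit 102) (.kS (nat_lit 1) (nat_lit 0x10018020040002001) (nat_lit 0x1003066002) (nat_lit 0x800600200901400c00401e00102801000801c002001) (nat_lit 0x18008020040005001023001008010020040004002001001010018020040006023002001003)) .nil))) .nil)) .nil)))
theorem c10 : (chk [(x9, s9)] [] p10).n x9 s10 = true := by decide +kernel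
noncomputable def p11 : Pf := (.anc (nat_lit 144) (nat_lit 0x23003000014002002) (nat_lit 0x1003040020010) (.czp (nat_lit 128) (nat_lit 0) (nat_lit 0x1080040020010008) z3 (.dfs (nat_lit 16) (nat_lit 4097) (nat_lit 4097) (nat_lit 1) (nat_lit 1) (nat_lit 0) (nat_lit 0) (nat_lit 3) (nat_lit 0) (nat_lit 0) (nat_lit 0) (nat_lit 1) (nat_lit 0) (nat_lit 0x1010008) (nat_lit 65544) (nat_lit 0x1001008000010001028000030) (nat_lit 0x1000000010001010100010100) (.cD (nat_lit 8) (.dfs (nat_lit 32) (nat_lit 4098) (nat_lit 4098) (nat_lit 4097) (nat_lit 4097) (nat_lit 0) (nat_lit 0) (nat_lit 3) (nat_lit 0) (nat_lit 0) (nat_lit 0) (nat_lit 1) (nat_lit 0) (nat_lit 1) (nat_lit 0) (nat_lit 1) (nat_lit 0x101000001010000010100000100) (.cD (nat_lit 8) (.kc (nat_lit 48) (nat_lit 0x3001001)) (.cD (nat_lit 32) (.kF (nat_lit 32) (nat_lit 0x9001000001006001002)) (.cD (nat_lit 40) (.kF (nat_lit 32) (nat_lit 0x9001000001006001002)) (.cD (nat_lit 64) (.kF (nat_lit 16) (nat_lit 0x2d005000002007001004004000003))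 (.cD (nat_lit 72) (.kF (nat_lit 16) (nat_lit 0x23003000002007001004004000003)) (.cD (nat_lit 96) (.dfs (nat_lit 64) (nat_lit 4100) (nat_lit 4100) (nat_lit 0x1002001) (nat_lit 0x1002001) (nat_lit 0) (nat_lit 0) (nat_lit 3) (nat_lit 0) (nat_lit 0) (nat_lit 0) (nat_lit 1) (nat_lit 0) (nat_lit 1) (nat_lit 0) (nat_lit 1) (nat_lit 0x101000001010000010100000100) (.cD (nat_lit 8) (.kc (nat_lit 80) (nat_lit 0x5001001)) (.cD (nat_lit 32) (.kA false (nat_lit 0x900100000400100200c001002)) (.cD (nat_lit 40) (.kA false (nat_lit 0x900100000400100200c001002)) (.cD (nat_lit 64) (.kA false (nat_lit 0x900100000400100200c001002)) (.cD (nat_lit 72) (.kA false (nat_lit 0x900100000400100200c001002)) (.cD (nat_lit 96) (.kc (nat_lit 96) (nat_lit 0x3001001)) (.cD (nat_lit 104) (.kc (nat_lit 112) (nat_lit 0x7001001)) .nil)))))))) (.cD (nat_lit 104) (.dfs (nat_lit 64) (nat_lit 4100) (nat_lit 4100) (nat_lit 0x1002001) (nat_lit 0x1002001) (nat_lit 0) (nat_lit 0) (nat_lit 3) (nat_lit 0) (nat_lit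 0) (nat_lit 0) (nat_lit 1) (nat_lit 0) (nat_lit 1) (nat_lit 0) (nat_lit 1) (nat_lit 0x101000001010000010100000100) (.cD (nat_lit 8) (.kc (nat_lit 80) (nat_lit 0x5001001)) (.cD (nat_lit 32) (.kA false (nat_lit 0x900100000400100200c001002)) (.cD (nat_lit 40) (.kA false (nat_lit 0x900100000400100200c001002)) (.cD (nat_lit 64) (.kA false (nat_lit 0x900100000400100200c001002)) (.cD (nat_lit 72) (.kA false (nat_lit 0x900100000400100200c001002)) (.cD (nat_lit 96) (.kc (nat_lit 112) (nat_lit 0x7001001)) (.cD (nat_lit 104) (.kc (nat_lit 96) (nat_lit 0x3001001)) .nil)))))))) .nil)))))))) (.cD (nat_lit 16) (.dfs (nat_lit 32) (nat_lit 4098) (nat_lit 4098) (nat_lit 4097) (nat_lit 4097) (nat_lit 0) (nat_lit 0) (nat_lit 3) (nat_lit 0) (nat_lit 0) (nat_lit 0) (nat_lit 1) (nat_lit 0) (nat_lit 1) (nat_lit 0) (nat_lit 1) (nat_lit 0x10001000100010001000100010000) (.cD (nat_lit 16) (.kc (nat_lit 48) (nat_lit 0x3001001)) (.cD (nat_lit 32) (.dfs (nat_lit 64) (nat_lit 4100) (nat_lit 4100)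 (nat_lit 0x1002001) (nat_lit 0x1002001) (nat_lit 0) (nat_lit 0) (nat_lit 3) (nat_lit 0) (nat_lit 0) (nat_lit 0) (nat_lit 1) (nat_lit 0) (nat_lit 1) (nat_lit 0) (nat_lit 1) (nat_lit 0x10001000100010001000100010000) (.cD (nat_lit 16) (.kc (nat_lit 80) (nat_lit 0x5001001)) (.cD (nat_lit 32) (.kc (nat_lit 96) (nat_lit 0x3001001)) (.cD (nat_lit 48) (.kc (nat_lit 112) (nat_lit 0x7001001)) (.cD (nat_lit 64) (.dfs (nat_lit 3) (nat_lit 0x1004001002008) (nat_lit 0x1005001002008) (nat_lit 1) (nat_lit 1) (nat_lit 2) (nat_lit 0) (nat_lit 2) (nat_lit 0) (nat_lit 0) (nat_lit 8) (nat_lit 1) (nat_lit 0) (nat_lit 1) (nat_lit 0) (nat_lit 1) (nat_lit 0) .nil) (.cD (nat_lit 80) (.dfs (nat_lit 3) (nat_lit 4103) (nat_lit 4102) (nat_lit 1) (nat_lit 1) (nat_lit 2) (nat_lit 0) (nat_lit 1) (nat_lit 4192) (nat_lit 0x80040020010008004002009) (nat_lit 0) (nat_lit 1) (nat_lit 0) (nat_lit 1) (nat_lit 0) (nat_lit 1) (nat_lit 0) .nil) (.cD (nat_lit 96) (.kA false (nat_lit 0x1004002008001006004008014003023003000003))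 (.cD (nat_lit 112) (.kA false (nat_lit 0x1004002008001006004008014003023003000003)) .nil)))))))) (.cD (nat_lit 48) (.dfs (nat_lit 64) (nat_lit 4100) (nat_lit 4100) (nat_lit 0x1002001) (nat_lit 0x1002001) (nat_lit 0) (nat_lit 0) (nat_lit 3) (nat_lit 0) (nat_lit 0) (nat_lit 0) (nat_lit 1) (nat_lit 0) (nat_lit 1) (nat_lit 0) (nat_lit 1) (nat_lit 0x10001000100010001000100010000) (.cD (nat_lit 16) (.kc (nat_lit 80) (nat_lit 0x5001001)) (.cD (nat_lit 32) (.kc (nat_lit 112) (nat_lit 0x7001001)) (.cD (nat_lit 48) (.kc (nat_lit 96) (nat_lit 0x3001001)) (.cD (nat_lit 64) (.kA false (nat_lit 0x400400000400100200e001004004000003)) (.cD (nat_lit 80) (.kA false (nat_lit 0x400400000400100200e001004004000003)) (.cD (nat_lit 96) (.kA false (nat_lit 0x400400000400100200e001004004000003)) (.cD (nat_lit 112) (.kA false (nat_lit 0x400400000400100200e001004004000003)) .nil)))))))) (.cD (nat_lit 64) (.kF (nat_lit 16) (nat_lit 0x3006002008008000002007001004004000004)) (.cD (nat_lit 80)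 (.kF (nat_lit 32) (nat_lit 0x23003000001007001004004000003)) (.cD (nat_lit 96) (.dfs (nat_lit 64) (nat_lit 4100) (nat_lit 4100) (nat_lit 0x1002001) (nat_lit 0x1002001) (nat_lit 0) (nat_lit 0) (nat_lit 3) (nat_lit 0) (nat_lit 0) (nat_lit 0) (nat_lit 1) (nat_lit 0) (nat_lit 1) (nat_lit 0) (nat_lit 1) (nat_lit 0x10001000100010001000100010000) (.cD (nat_lit 16) (.kc (nat_lit 80) (nat_lit 0x5001001)) (.cD (nat_lit 32) (.kA false (nat_lit 0x400200300800100400100200c001002)) (.cD (nat_lit 48) (.kA false (nat_lit 0x400600300800100400100200c001002)) (.cD (nat_lit 64) (.kA false (nat_lit 0x1004002008001006004008014003023003000003)) (.cD (nat_lit 80) (.kA false (nat_lit 0x400500300800100400100200c001002)) (.cD (nat_lit 96) (.kc (nat_lit 96) (nat_lit 0x3001001)) (.cD (nat_lit 112) (.kc (nat_lit 112) (nat_lit 0x7001001)) .nil)))))))) (.cD (nat_lit 112) (.dfs (nat_lit 64) (nat_lit 4100) (nat_lit 4100) (nat_lit 0x1002001) (nat_lit 0x1002001) (nat_lit 0) (nat_lit 0) (nat_lit 3)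 (nat_lit 0) (nat_lit 0) (nat_lit 0) (nat_lit 1) (nat_lit 0) (nat_lit 1) (nat_lit 0) (nat_lit 1) (nat_lit 0x10001000100010001000100010000) (.cD (nat_lit 16) (.kc (nat_lit 80) (nat_lit 0x5001001)) (.cD (nat_lit 32) (.kA false (nat_lit 0x400200700800100400100200c001002)) (.cD (nat_lit 48) (.kA false (nat_lit 0x400600700800100400100200c001002)) (.cD (nat_lit 64) (.kA false (nat_lit 0x1004002008001006004008014003023003000003)) (.cD (nat_lit 80) (.kA false (nat_lit 0x400500700800100400100200c001002)) (.cD (nat_lit 96) (.kc (nat_lit 112) (nat_lit 0x7001001)) (.cD (nat_lit 112) (.kc (nat_lit 96) (nat_lit 0x3001001)) .nil)))))))) .nil)))))))) (.cD (nat_lit 32) (.kF (nat_lit 16) (nat_lit 0x4004000001003001002)) (.cD (nat_lit 40) (.kF (nat_lit 16) (nat_lit 0x2002000001003001002)) (.cD (nat_lit 48) (.kF (nat_lit 16) (nat_lit 0x2300300000c014004004004000001003001004)) (.cD (nat_lit 64) (.dfs (nat_lit 32) (nat_lit 4098) (nat_lit 4098) (nat_lit 4097) (nat_lit 4097) (nat_lit 0)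 (nat_lit 0) (nat_lit 3) (nat_lit 0) (nat_lit 0) (nat_lit 0) (nat_lit 1) (nat_lit 0) (nat_lit 0x1010008) (nat_lit 65544) (nat_lit 0x1001008000010001028000030) (nat_lit 0x1000000010001010100010100) (.cD (nat_lit 8) (.kF (nat_lit 16) (nat_lit 0x2d005000002007001004004000003)) (.cD (nat_lit 16) (.kF (nat_lit 32) (nat_lit 0x23003000001006001002)) (.cD (nat_lit 32) (.dfs (nat_lit 64) (nat_lit 4100) (nat_lit 4100) (nat_lit 0x1002001) (nat_lit 0x1002001) (nat_lit 0) (nat_lit 0) (nat_lit 3) (nat_lit 0) (nat_lit 0) (nat_lit 0) (nat_lit 1) (nat_lit 0) (nat_lit 0x1010008) (nat_lit 65544) (nat_lit 0x1001008000010001028000030) (nat_lit 0x1000000010001010100010100) (.cD (nat_lit 8) (.kA false (nat_lit 0x2300300000400100200c001002)) (.cD (nat_lit 16) (.dfs (nat_lit 3) (nat_lit 4102) (nat_lit 4103) (nat_lit 1) (nat_lit 1) (nat_lit 2) (nat_lit 0) (nat_lit 1) (nat_lit 4192) (nat_lit 0x80040020010008004002009) (nat_lit 0) (nat_lit 1) (nat_lit 0) (nat_lit 1) (nat_lit 0) (nat_lit 1)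 (nat_lit 0) .nil) (.cD (nat_lit 32) (.kc (nat_lit 96) (nat_lit 0x3001001)) (.cD (nat_lit 40) (.kA false (nat_lit 0x2300300000400100200c001002)) (.cD (nat_lit 48) (.kA false (nat_lit 0x700400200c002023003000002)) (.cD (nat_lit 64) (.kc (nat_lit 80) (nat_lit 0x5001001)) (.cD (nat_lit 96) (.kc (nat_lit 112) (nat_lit 0x7001001)) .nil)))))))) (.cD (nat_lit 40) (.kF (nat_lit 32) (nat_lit 0x23003000001006001002)) (.cD (nat_lit 48) (.dfs (nat_lit 64) (nat_lit 4100) (nat_lit 4100) (nat_lit 0x1002001) (nat_lit 0x1002001) (nat_lit 0) (nat_lit 0) (nat_lit 3) (nat_lit 0) (nat_lit 0) (nat_lit 0) (nat_lit 1) (nat_lit 0) (nat_lit 1) (nat_lit 0) (nat_lit 1) (nat_lit 0x10001000100010001000100010000) (.cD (nat_lit 16) (.kA false (nat_lit 0x500400300c002023003000002)) (.cD (nat_lit 32) (.kA false (nat_lit 0x700400100c002023003000002)) (.cD (nat_lit 48) (.kc (nat_lit 96) (nat_lit 0x3001001)) (.cD (nat_lit 64) (.kc (nat_lit 80) (nat_lit 0x5001001)) (.cD (nat_lit 80) (.kA false (nat_lit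 0x100400700c002023003000002)) (.cD (nat_lit 96) (.kA false (nat_lit 0x300400500c002023003000002)) (.cD (nat_lit 112) (.kc (nat_lit 112) (nat_lit 0x7001001)) .nil)))))))) (.cD (nat_lit 64) (.kc (nat_lit 48) (nat_lit 0x3001001)) (.cD (nat_lit 96) (.dfs (nat_lit 64) (nat_lit 4100) (nat_lit 4100) (nat_lit 0x1002001) (nat_lit 0x1002001) (nat_lit 0) (nat_lit 0) (nat_lit 3) (nat_lit 0) (nat_lit 0) (nat_lit 0) (nat_lit 1) (nat_lit 0) (nat_lit 0x1010008) (nat_lit 65544) (nat_lit 0x1001008000010001028000030) (nat_lit 0x1000000010001010100010100) (.cD (nat_lit 8) (.kA false (nat_lit 0x400400000400100200e001004004000003)) (.cD (nat_lit 16) (.kA false (nat_lit 0x500400600c002023003000002)) (.cD (nat_lit 32) (.kc (nat_lit 112) (nat_lit 0x7001001)) (.cD (nat_lit 40) (.kA false (nat_lit 0x400400000400100200e001004004000003)) (.cD (nat_lit 48) (.kA false (nat_lit 0x300400600c002023003000002)) (.cD (nat_lit 64) (.kc (nat_lit 80) (nat_lit 0x5001001)) (.cD (nat_lit 96) (.kc (nat_lit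 96) (nat_lit 0x3001001)) .nil)))))))) .nil)))))))) (.cD (nat_lit 96) (.kF (nat_lit 16) (nat_lit 0x67007000001003001002)) .nil))))))))))
theorem c11 : (chk [] [] p11).n x10 s11 = true := by decide +kernel
noncomputable def p12 : Pf := (.anc (nat_lit 144) (nat_lit 0x23003000014002002) (nat_lit 0x1003040020010) (.czp (nat_lit 128) (nat_lit 0) (nat_lit 0x1080040020010008) z3 (.dfs (nat_lit 16) (nat_lit 4097) (nat_lit 4097) (nat_lit 1) (nat_lit 1) (nat_lit 0) (nat_lit 0) (nat_lit 3) (nat_lit 0) (nat_lit 0) (nat_lit 0) (nat_lit 1) (nat_lit 0) (nat_lit 0x1010008) (nat_lit 65544) (nat_lit 0x1001008000010001028000030) (nat_lit 0x1000000010001010100010100) (.cD (nat_lit 8) (.dfs (nat_lit 32) (nat_lit 4098) (nat_lit 4098) (nat_lit 4097) (nat_lit 4097) (nat_lit 0) (nat_lit 0) (nat_lit 3) (nat_lit 0) (nat_lit 0) (nat_lit 0) (nat_lit 1) (nat_lit 0) (nat_lit 1) (nat_lit 0) (nat_lit 1) (nat_lit 0x101000001010000010100000100) (.cD (nat_lit 8) (.kc (nat_lit 48) (nat_lit 0x3001001))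 (.cD (nat_lit 32) (.kF (nat_lit 32) (nat_lit 0x9001000001006001002)) (.cD (nat_lit 40) (.kF (nat_lit 32) (nat_lit 0x9001000001006001002)) (.cD (nat_lit 64) (.kF (nat_lit 16) (nat_lit 0x2d005000002007001004004000003)) (.cD (nat_lit 72) (.kF (nat_lit 16) (nat_lit 0x23003000002007001004004000003)) (.cD (nat_lit 96) (.dfs (nat_lit 64) (nat_lit 4100) (nat_lit 4100) (nat_lit 0x1002001) (nat_lit 0x1002001) (nat_lit 0) (nat_lit 0) (nat_lit 3) (nat_lit 0) (nat_lit 0) (nat_lit 0) (nat_lit 1) (nat_lit 0) (nat_lit 1) (nat_lit 0) (nat_lit 1) (nat_lit 0x101000001010000010100000100) (.cD (nat_lit 8) (.kc (nat_lit 80) (nat_lit 0x5001001)) (.cD (nat_lit 32) (.kA false (nat_lit 0x900100000400100200c001002)) (.cD (nat_lit 40) (.kA false (nat_lit 0x900100000400100200c001002)) (.cD (nat_lit 64) (.kA false (nat_lit 0x900100000400100200c001002)) (.cD (nat_lit 72) (.kA false (nat_lit 0x900100000400100200c001002)) (.cD (nat_lit 96) (.kc (nat_lit 96) (nat_lit 0x3001001)) (.cD (nat_lit 104)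 (.kc (nat_lit 112) (nat_lit 0x7001001)) .nil)))))))) (.cD (nat_lit 104) (.dfs (nat_lit 64) (nat_lit 4100) (nat_lit 4100) (nat_lit 0x1002001) (nat_lit 0x1002001) (nat_lit 0) (nat_lit 0) (nat_lit 3) (nat_lit 0) (nat_lit 0) (nat_lit 0) (nat_lit 1) (nat_lit 0) (nat_lit 1) (nat_lit 0) (nat_lit 1) (nat_lit 0x101000001010000010100000100) (.cD (nat_lit 8) (.kc (nat_lit 80) (nat_lit 0x5001001)) (.cD (nat_lit 32) (.kA false (nat_lit 0x900100000400100200c001002)) (.cD (nat_lit 40) (.kA false (nat_lit 0x900100000400100200c001002)) (.cD (nat_lit 64) (.kA false (nat_lit 0x900100000400100200c001002)) (.cD (nat_lit 72) (.kA false (nat_lit 0x900100000400100200c001002)) (.cD (nat_lit 96) (.kc (nat_lit 112) (nat_lit 0x7001001)) (.cD (nat_lit 104) (.kc (nat_lit 96) (nat_lit 0x3001001)) .nil)))))))) .nil)))))))) (.cD (nat_lit 16) (.dfs (nat_lit 32) (nat_lit 4098) (nat_lit 4098) (nat_lit 4097) (nat_lit 4097) (nat_lit 0) (nat_lit 0) (nat_lit 3) (nat_lit 0) (nat_lit 0) (nat_lit 0) (nat_lit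 1) (nat_lit 0) (nat_lit 1) (nat_lit 0) (nat_lit 1) (nat_lit 0x10001000100010001000100010000) (.cD (nat_lit 16) (.kc (nat_lit 48) (nat_lit 0x3001001)) (.cD (nat_lit 32) (.dfs (nat_lit 64) (nat_lit 4100) (nat_lit 4100) (nat_lit 0x1002001) (nat_lit 0x1002001) (nat_lit 0) (nat_lit 0) (nat_lit 3) (nat_lit 0) (nat_lit 0) (nat_lit 0) (nat_lit 1) (nat_lit 0) (nat_lit 1) (nat_lit 0) (nat_lit 1) (nat_lit 0x10001000100010001000100010000) (.cD (nat_lit 16) (.kc (nat_lit 80) (nat_lit 0x5001001)) (.cD (nat_lit 32) (.kc (nat_lit 96) (nat_lit 0x3001001)) (.cD (nat_lit 48) (.kc (nat_lit 112) (nat_lit 0x7001001)) (.cD (nat_lit 64) (.dfs (nat_lit 3) (nat_lit 0x1004001002008) (nat_lit 0x1005001002008) (nat_lit 1) (nat_lit 1) (nat_lit 2) (nat_lit 0) (nat_lit 2) (nat_lit 0) (nat_lit 0) (nat_lit 8) (nat_lit 1) (nat_lit 0) (nat_lit 1) (nat_lit 0) (nat_lit 1) (nat_lit 0) .nil) (.cD (nat_lit 80) (.dfs (nat_lit 3) (nat_lit 4103) (nat_lit 4102) (nat_lit 1) (nat_lit 1) (nat_lit 2) (nat_lit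 0) (nat_lit 1) (nat_lit 4192) (nat_lit 0x80040020010008004002009) (nat_lit 0) (nat_lit 1) (nat_lit 0) (nat_lit 1) (nat_lit 0) (nat_lit 1) (nat_lit 0) .nil) (.cD (nat_lit 96) (.kA false (nat_lit 0x1004002008001006004008014003023003000003)) (.cD (nat_lit 112) (.kA false (nat_lit 0x1004002008001006004008014003023003000003)) .nil)))))))) (.cD (nat_lit 48) (.dfs (nat_lit 64) (nat_lit 4100) (nat_lit 4100) (nat_lit 0x1002001) (nat_lit 0x1002001) (nat_lit 0) (nat_lit 0) (nat_lit 3) (nat_lit 0) (nat_lit 0) (nat_lit 0) (nat_lit 1) (nat_lit 0) (nat_lit 1) (nat_lit 0) (nat_lit 1) (nat_lit 0x10001000100010001000100010000) (.cD (nat_lit 16) (.kc (nat_lit 80) (nat_lit 0x5001001)) (.cD (nat_lit 32) (.kc (nat_lit 112) (nat_lit 0x7001001)) (.cD (nat_lit 48) (.kc (nat_lit 96) (nat_lit 0x3001001)) (.cD (nat_lit 64) (.kA false (nat_lit 0x400400000400100200e001004004000003)) (.cD (nat_lit 80) (.kA false (nat_lit 0x400400000400100200e001004004000003)) (.cD (nat_lit 96) (.kA false (nat_lit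 0x400400000400100200e001004004000003)) (.cD (nat_lit 112) (.kA false (nat_lit 0x400400000400100200e001004004000003)) .nil)))))))) (.cD (nat_lit 64) (.kF (nat_lit 16) (nat_lit 0x3006002008008000002007001004004000004)) (.cD (nat_lit 80) (.kF (nat_lit 32) (nat_lit 0x23003000001007001004004000003)) (.cD (nat_lit 96) (.dfs (nat_lit 64) (nat_lit 4100) (nat_lit 4100) (nat_lit 0x1002001) (nat_lit 0x1002001) (nat_lit 0) (nat_lit 0) (nat_lit 3) (nat_lit 0) (nat_lit 0) (nat_lit 0) (nat_lit 1) (nat_lit 0) (nat_lit 1) (nat_lit 0) (nat_lit 1) (nat_lit 0x10001000100010001000100010000) (.cD (nat_lit 16) (.kc (nat_lit 80) (nat_lit 0x5001001)) (.cD (nat_lit 32) (.kA false (nat_lit 0x400200300800100400100200c001002)) (.cD (nat_lit 48) (.kA false (nat_lit 0x400600300800100400100200c001002)) (.cD (nat_lit 64) (.kA false (nat_lit 0x1004002008001006004008014003023003000003)) (.cD (nat_lit 80) (.kA false (nat_lit 0x400500300800100400100200c001002)) (.cD (nat_lit 96) (.kc (nat_lit 96) (nat_lit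 0x3001001)) (.cD (nat_lit 112) (.kc (nat_lit 112) (nat_lit 0x7001001)) .nil)))))))) (.cD (nat_lit 112) (.dfs (nat_lit 64) (nat_lit 4100) (nat_lit 4100) (nat_lit 0x1002001) (nat_lit 0x1002001) (nat_lit 0) (nat_lit 0) (nat_lit 3) (nat_lit 0) (nat_lit 0) (nat_lit 0) (nat_lit 1) (nat_lit 0) (nat_lit 1) (nat_lit 0) (nat_lit 1) (nat_lit 0x10001000100010001000100010000) (.cD (nat_lit 16) (.kc (nat_lit 80) (nat_lit 0x5001001)) (.cD (nat_lit 32) (.kA false (nat_lit 0x400200700800100400100200c001002)) (.cD (nat_lit 48) (.kA false (nat_lit 0x400600700800100400100200c001002)) (.cD (nat_lit 64) (.kA false (nat_lit 0x1004002008001006004008014003023003000003)) (.cD (nat_lit 80) (.kA false (nat_lit 0x400500700800100400100200c001002)) (.cD (nat_lit 96) (.kc (nat_lit 112) (nat_lit 0x7001001)) (.cD (nat_lit 112) (.kc (nat_lit 96) (nat_lit 0x3001001)) .nil)))))))) .nil)))))))) (.cD (nat_lit 32) (.kF (nat_lit 16) (nat_lit 0x4004000001003001002)) (.cD (nat_lit 40) (.kF (nat_lit 16) (nat_lit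 0x2002000001003001002)) (.cD (nat_lit 48) (.kF (nat_lit 16) (nat_lit 0x2300300000c014004004004000001003001004)) (.cD (nat_lit 64) (.dfs (nat_lit 32) (nat_lit 4098) (nat_lit 4098) (nat_lit 4097) (nat_lit 4097) (nat_lit 0) (nat_lit 0) (nat_lit 3) (nat_lit 0) (nat_lit 0) (nat_lit 0) (nat_lit 1) (nat_lit 0) (nat_lit 0x1010008) (nat_lit 65544) (nat_lit 0x1001008000010001028000030) (nat_lit 0x1000000010001010100010100) (.cD (nat_lit 8) (.kF (nat_lit 16) (nat_lit 0x2d005000002007001004004000003)) (.cD (nat_lit 16) (.kF (nat_lit 32) (nat_lit 0x23003000001006001002)) (.cD (nat_lit 32) (.dfs (nat_lit 64) (nat_lit 4100) (nat_lit 4100) (nat_lit 0x1002001) (nat_lit 0x1002001) (nat_lit 0) (nat_lit 0) (nat_lit 3) (nat_lit 0) (nat_lit 0) (nat_lit 0) (nat_lit 1) (nat_lit 0) (nat_lit 0x1010008) (nat_lit 65544) (nat_lit 0x1001008000010001028000030) (nat_lit 0x1000000010001010100010100) (.cD (nat_lit 8) (.kA false (nat_lit 0x2300300000400100200c001002)) (.cD (nat_lit 16) (.dfs (nat_lit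 3) (nat_lit 4102) (nat_lit 4103) (nat_lit 1) (nat_lit 1) (nat_lit 2) (nat_lit 0) (nat_lit 1) (nat_lit 4192) (nat_lit 0x80040020010008004002009) (nat_lit 0) (nat_lit 1) (nat_lit 0) (nat_lit 1) (nat_lit 0) (nat_lit 1) (nat_lit 0) .nil) (.cD (nat_lit 32) (.kc (nat_lit 96) (nat_lit 0x3001001)) (.cD (nat_lit 40) (.kA false (nat_lit 0x2300300000400100200c001002)) (.cD (nat_lit 48) (.kA false (nat_lit 0x700400200c002023003000002)) (.cD (nat_lit 64) (.kc (nat_lit 80) (nat_lit 0x5001001)) (.cD (nat_lit 96) (.kc (nat_lit 112) (nat_lit 0x7001001)) .nil)))))))) (.cD (nat_lit 40) (.kF (nat_lit 32) (nat_lit 0x23003000001006001002)) (.cD (nat_lit 48) (.dfs (nat_lit 64) (nat_lit 4100) (nat_lit 4100) (nat_lit 0x1002001) (nat_lit 0x1002001) (nat_lit 0) (nat_lit 0) (nat_lit 3) (nat_lit 0) (nat_lit 0) (nat_lit 0) (nat_lit 1) (nat_lit 0) (nat_lit 1) (nat_lit 0) (nat_lit 1) (nat_lit 0x10001000100010001000100010000) (.cD (nat_lit 16) (.kA false (nat_lit 0x500400300c002023003000002)) (.cD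 (nat_lit 32) (.kA false (nat_lit 0x700400100c002023003000002)) (.cD (nat_lit 48) (.kc (nat_lit 96) (nat_lit 0x3001001)) (.cD (nat_lit 64) (.kc (nat_lit 80) (nat_lit 0x5001001)) (.cD (nat_lit 80) (.kA false (nat_lit 0x100400700c002023003000002)) (.cD (nat_lit 96) (.kA false (nat_lit 0x300400500c002023003000002)) (.cD (nat_lit 112) (.kc (nat_lit 112) (nat_lit 0x7001001)) .nil)))))))) (.cD (nat_lit 64) (.kc (nat_lit 48) (nat_lit 0x3001001)) (.cD (nat_lit 96) (.dfs (nat_lit 64) (nat_lit 4100) (nat_lit 4100) (nat_lit 0x1002001) (nat_lit 0x1002001) (nat_lit 0) (nat_lit 0) (nat_lit 3) (nat_lit 0) (nat_lit 0) (nat_lit 0) (nat_lit 1) (nat_lit 0) (nat_lit 0x1010008) (nat_lit 65544) (nat_lit 0x1001008000010001028000030) (nat_lit 0x1000000010001010100010100) (.cD (nat_lit 8) (.kA false (nat_lit 0x400400000400100200e001004004000003)) (.cD (nat_lit 16) (.kA false (nat_lit 0x500400600c002023003000002)) (.cD (nat_lit 32) (.kc (nat_lit 112) (nat_lit 0x7001001)) (.cD (nat_lit 40)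 (.kA false (nat_lit 0x400400000400100200e001004004000003)) (.cD (nat_lit 48) (.kA false (nat_lit 0x300400600c002023003000002)) (.cD (nat_lit 64) (.kc (nat_lit 80) (nat_lit 0x5001001)) (.cD (nat_lit 96) (.kc (nat_lit 96) (nat_lit 0x3001001)) .nil)))))))) .nil)))))))) (.cD (nat_lit 96) (.kF (nat_lit 16) (nat_lit 0x67007000001003001002)) .nil))))))))))
theorem c12 : (chk [] [] p12).n x11 s12 = true := by decide +kernel
noncomputable def p13 : Pf := (.anc (nat_lit 144) (nat_lit 0x43003000014002002) (nat_lit 0x1003040020010) (.czp (nat_lit 128) (nat_lit 0) (nat_lit 0x1080040020010008) z3 (.dfs (nat_lit 16) (nat_lit 4097) (nat_lit 4097) (nat_lit 1) (nat_lit 1) (nat_lit 0) (nat_lit 0) (nat_lit 3) (nat_lit 0) (nat_lit 0) (nat_lit 0) (nat_lit 1) (nat_lit 0) (nat_lit 0x1010008) (nat_lit 65544) (nat_lit 0x1001008000010001028000030) (nat_lit 0x1000000010001010100010100) (.cD (nat_lit 8) (.dfs (nat_lit 32) (nat_lit 4098) (nat_lit 4098) (nat_lit 4097) (nat_lit 4097) (nat_lit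 0) (nat_lit 0) (nat_lit 3) (nat_lit 0) (nat_lit 0) (nat_lit 0) (nat_lit 1) (nat_lit 0) (nat_lit 1) (nat_lit 0) (nat_lit 1) (nat_lit 0x101000001010000010100000100) (.cD (nat_lit 8) (.kc (nat_lit 48) (nat_lit 0x3001001)) (.cD (nat_lit 32) (.kF (nat_lit 32) (nat_lit 0x69001000001006001002)) (.cD (nat_lit 40) (.kF (nat_lit 32) (nat_lit 0x69001000001006001002)) (.cD (nat_lit 64) (.kF (nat_lit 16) (nat_lit 0x4d005000002007001004004000003)) (.cD (nat_lit 72) (.kF (nat_lit 16) (nat_lit 0x43003000002007001004004000003)) (.cD (nat_lit 96) (.dfs (nat_lit 64) (nat_lit 4100) (nat_lit 4100) (nat_lit 0x1002001) (nat_lit 0x1002001) (nat_lit 0) (nat_lit 0) (nat_lit 3) (nat_lit 0) (nat_lit 0) (nat_lit 0) (nat_lit 1) (nat_lit 0) (nat_lit 1) (nat_lit 0) (nat_lit 1) (nat_lit 0x101000001010000010100000100) (.cD (nat_lit 8) (.kc (nat_lit 80) (nat_lit 0x5001001)) (.cD (nat_lit 32) (.kA false (nat_lit 0x6900100000400100200c001002)) (.cD (nat_lit 40) (.kA false (nat_lit 0x6900100000400100200c001002))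 (.cD (nat_lit 64) (.kA false (nat_lit 0x6900100000400100200c001002)) (.cD (nat_lit 72) (.kA false (nat_lit 0x6900100000400100200c001002)) (.cD (nat_lit 96) (.kc (nat_lit 96) (nat_lit 0x3001001)) (.cD (nat_lit 104) (.kc (nat_lit 112) (nat_lit 0x7001001)) .nil)))))))) (.cD (nat_lit 104) (.dfs (nat_lit 64) (nat_lit 4100) (nat_lit 4100) (nat_lit 0x1002001) (nat_lit 0x1002001) (nat_lit 0) (nat_lit 0) (nat_lit 3) (nat_lit 0) (nat_lit 0) (nat_lit 0) (nat_lit 1) (nat_lit 0) (nat_lit 1) (nat_lit 0) (nat_lit 1) (nat_lit 0x101000001010000010100000100) (.cD (nat_lit 8) (.kc (nat_lit 80) (nat_lit 0x5001001)) (.cD (nat_lit 32) (.kA false (nat_lit 0x6900100000400100200c001002)) (.cD (nat_lit 40) (.kA false (nat_lit 0x6900100000400100200c001002)) (.cD (nat_lit 64) (.kA false (nat_lit 0x6900100000400100200c001002)) (.cD (nat_lit 72) (.kA false (nat_lit 0x6900100000400100200c001002)) (.cD (nat_lit 96) (.kc (nat_lit 112) (nat_lit 0x7001001)) (.cD (nat_lit 104) (.kc (nat_lit 96) (nat_lit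 0x3001001)) .nil)))))))) .nil)))))))) (.cD (nat_lit 16) (.dfs (nat_lit 32) (nat_lit 4098) (nat_lit 4098) (nat_lit 4097) (nat_lit 4097) (nat_lit 0) (nat_lit 0) (nat_lit 3) (nat_lit 0) (nat_lit 0) (nat_lit 0) (nat_lit 1) (nat_lit 0) (nat_lit 1) (nat_lit 0) (nat_lit 1) (nat_lit 0x10001000100010001000100010000) (.cD (nat_lit 16) (.kc (nat_lit 48) (nat_lit 0x3001001)) (.cD (nat_lit 32) (.dfs (nat_lit 64) (nat_lit 4100) (nat_lit 4100) (nat_lit 0x1002001) (nat_lit 0x1002001) (nat_lit 0) (nat_lit 0) (nat_lit 3) (nat_lit 0) (nat_lit 0) (nat_lit 0) (nat_lit 1) (nat_lit 0) (nat_lit 1) (nat_lit 0) (nat_lit 1) (nat_lit 0x10001000100010001000100010000) (.cD (nat_lit 16) (.kc (nat_lit 80) (nat_lit 0x5001001)) (.cD (nat_lit 32) (.kc (nat_lit 96) (nat_lit 0x3001001)) (.cD (nat_lit 48) (.kc (nat_lit 112) (nat_lit 0x7001001)) (.cD (nat_lit 64) (.dfs (nat_lit 3) (nat_lit 0x1004001002008) (nat_lit 0x1005001002008) (nat_lit 1) (nat_lit 1) (nat_lit 1) (nat_lit 0) (nat_lit 2) (nat_lit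 0) (nat_lit 0) (nat_lit 8) (nat_lit 1) (nat_lit 0) (nat_lit 4112) (nat_lit 16) (nat_lit 0x1000018000038) (nat_lit 0x100000001000000) (.cD (nat_lit 24) (.kb (nat_lit 131) (nat_lit 0x1069000019001002) (nat_lit 0x104002009000c002083)) (.cD (nat_lit 56) (.kb (nat_lit 163) (nat_lit 0x106900001d001002) (nat_lit 0x104002009000c006081)) .nil))) (.cD (nat_lit 80) (.dfs (nat_lit 3) (nat_lit 4103) (nat_lit 4102) (nat_lit 1) (nat_lit 1) (nat_lit 1) (nat_lit 0) (nat_lit 1) (nat_lit 4192) (nat_lit 0x80040020010008004002069) (nat_lit 0) (nat_lit 1) (nat_lit 0) (nat_lit 1) (nat_lit 0) (nat_lit 1) (nat_lit 0) .nil) (.cD (nat_lit 96) (.kA false (nat_lit 0x1004002008001006004008014003043003000003)) (.cD (nat_lit 112) (.kA false (nat_lit 0x1004002008001006004008014003043003000003)) .nil)))))))) (.cD (nat_lit 48) (.dfs (nat_lit 64) (nat_lit 4100) (nat_lit 4100) (nat_lit 0x1002001) (nat_lit 0x1002001) (nat_lit 0) (nat_lit 0) (nat_lit 3) (nat_lit 0) (nat_lit 0) (nat_lit 0) (nat_lit 1)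 (nat_lit 0) (nat_lit 1) (nat_lit 0) (nat_lit 1) (nat_lit 0x10001000100010001000100010000) (.cD (nat_lit 16) (.kc (nat_lit 80) (nat_lit 0x5001001)) (.cD (nat_lit 32) (.kc (nat_lit 112) (nat_lit 0x7001001)) (.cD (nat_lit 48) (.kc (nat_lit 96) (nat_lit 0x3001001)) (.cD (nat_lit 64) (.kA false (nat_lit 0x400400000400100200e001004004000003)) (.cD (nat_lit 80) (.kA false (nat_lit 0x400400000400100200e001004004000003)) (.cD (nat_lit 96) (.kA false (nat_lit 0x400400000400100200e001004004000003)) (.cD (nat_lit 112) (.kA false (nat_lit 0x400400000400100200e001004004000003)) .nil)))))))) (.cD (nat_lit 64) (.kF (nat_lit 16) (nat_lit 0x3006002008008000002007001004004000004)) (.cD (nat_lit 80) (.kF (nat_lit 32) (nat_lit 0x43003000001007001004004000003)) (.cD (nat_lit 96) (.dfs (nat_lit 64) (nat_lit 4100) (nat_lit 4100) (nat_lit 0x1002001) (nat_lit 0x1002001) (nat_lit 0) (nat_lit 0) (nat_lit 3) (nat_lit 0) (nat_lit 0) (nat_lit 0) (nat_lit 1) (nat_lit 0) (nat_lit 1) (nat_lit 0)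 (nat_lit 1) (nat_lit 0x10001000100010001000100010000) (.cD (nat_lit 16) (.kc (nat_lit 80) (nat_lit 0x5001001)) (.cD (nat_lit 32) (.kA false (nat_lit 0x400200300800100400100200c001002)) (.cD (nat_lit 48) (.kA false (nat_lit 0x400600300800100400100200c001002)) (.cD (nat_lit 64) (.kA false (nat_lit 0x1004002008001006004008014003043003000003)) (.cD (nat_lit 80) (.kA false (nat_lit 0x400500300800100400100200c001002)) (.cD (nat_lit 96) (.kc (nat_lit 96) (nat_lit 0x3001001)) (.cD (nat_lit 112) (.kc (nat_lit 112) (nat_lit 0x7001001)) .nil)))))))) (.cD (nat_lit 112) (.dfs (nat_lit 64) (nat_lit 4100) (nat_lit 4100) (nat_lit 0x1002001) (nat_lit 0x1002001) (nat_lit 0) (nat_lit 0) (nat_lit 3) (nat_lit 0) (nat_lit 0) (nat_lit 0) (nat_lit 1) (nat_lit 0) (nat_lit 1) (nat_lit 0) (nat_lit 1) (nat_lit 0x10001000100010001000100010000) (.cD (nat_lit 16) (.kc (nat_lit 80) (nat_lit 0x5001001)) (.cD (nat_lit 32) (.kA false (nat_lit 0x400200700800100400100200c001002)) (.cD (nat_lit 48)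 (.kA false (nat_lit 0x400600700800100400100200c001002)) (.cD (nat_lit 64) (.kA false (nat_lit 0x1004002008001006004008014003043003000003)) (.cD (nat_lit 80) (.kA false (nat_lit 0x400500700800100400100200c001002)) (.cD (nat_lit 96) (.kc (nat_lit 112) (nat_lit 0x7001001)) (.cD (nat_lit 112) (.kc (nat_lit 96) (nat_lit 0x3001001)) .nil)))))))) .nil)))))))) (.cD (nat_lit 32) (.kF (nat_lit 16) (nat_lit 0x4004000001003001002)) (.cD (nat_lit 40) (.kF (nat_lit 16) (nat_lit 0x2002000001003001002)) (.cD (nat_lit 48) (.kF (nat_lit 16) (nat_lit 0x4300300000c014004004004000001003001004)) (.cD (nat_lit 64) (.dfs (nat_lit 32) (nat_lit 4098) (nat_lit 4098) (nat_lit 4097) (nat_lit 4097) (nat_lit 0) (nat_lit 0) (nat_lit 3) (nat_lit 0) (nat_lit 0) (nat_lit 0) (nat_lit 1) (nat_lit 0) (nat_lit 0x1010008) (nat_lit 65544) (nat_lit 0x1001008000010001028000030) (nat_lit 0x1000000010001010100010100) (.cD (nat_lit 8) (.kF (nat_lit 16) (nat_lit 0x4d005000002007001004004000003)) (.cD (nat_lit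 16) (.kF (nat_lit 32) (nat_lit 0x43003000001006001002)) (.cD (nat_lit 32) (.dfs (nat_lit 64) (nat_lit 4100) (nat_lit 4100) (nat_lit 0x1002001) (nat_lit 0x1002001) (nat_lit 0) (nat_lit 0) (nat_lit 3) (nat_lit 0) (nat_lit 0) (nat_lit 0) (nat_lit 1) (nat_lit 0) (nat_lit 0x1010008) (nat_lit 65544) (nat_lit 0x1001008000010001028000030) (nat_lit 0x1000000010001010100010100) (.cD (nat_lit 8) (.kA false (nat_lit 0x4300300000400100200c001002)) (.cD (nat_lit 16) (.dfs (nat_lit 3) (nat_lit 4102) (nat_lit 4103) (nat_lit 1) (nat_lit 1) (nat_lit 1) (nat_lit 0) (nat_lit 1) (nat_lit 4192) (nat_lit 0x80040020010008004002069) (nat_lit 0) (nat_lit 1) (nat_lit 0) (nat_lit 1) (nat_lit 0) (nat_lit 1) (nat_lit 0) .nil) (.cD (nat_lit 32) (.kc (nat_lit 96) (nat_lit 0x3001001)) (.cD (nat_lit 40) (.kA false (nat_lit 0x4300300000400100200c001002)) (.cD (nat_lit 48) (.kA false (nat_lit 0x700400200c002043003000002)) (.cD (nat_lit 64) (.kc (nat_lit 80) (nat_lit 0x5001001)) (.cD (nat_lit 96) (.kc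 (nat_lit 112) (nat_lit 0x7001001)) .nil)))))))) (.cD (nat_lit 40) (.kF (nat_lit 32) (nat_lit 0x43003000001006001002)) (.cD (nat_lit 48) (.dfs (nat_lit 64) (nat_lit 4100) (nat_lit 4100) (nat_lit 0x1002001) (nat_lit 0x1002001) (nat_lit 0) (nat_lit 0) (nat_lit 3) (nat_lit 0) (nat_lit 0) (nat_lit 0) (nat_lit 1) (nat_lit 0) (nat_lit 1) (nat_lit 0) (nat_lit 1) (nat_lit 0x10001000100010001000100010000) (.cD (nat_lit 16) (.kA false (nat_lit 0x500400300c002043003000002)) (.cD (nat_lit 32) (.kA false (nat_lit 0x700400100c002043003000002)) (.cD (nat_lit 48) (.kc (nat_lit 96) (nat_lit 0x3001001)) (.cD (nat_lit 64) (.kc (nat_lit 80) (nat_lit 0x5001001)) (.cD (nat_lit 80) (.kA false (nat_lit 0x100400700c002043003000002)) (.cD (nat_lit 96) (.kA false (nat_lit 0x300400500c002043003000002)) (.cD (nat_lit 112) (.kc (nat_lit 112) (nat_lit 0x7001001)) .nil)))))))) (.cD (nat_lit 64) (.kc (nat_lit 48) (nat_lit 0x3001001)) (.cD (nat_lit 96) (.dfs (nat_lit 64) (nat_lit 4100) (nat_lit 4100)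 (nat_lit 0x1002001) (nat_lit 0x1002001) (nat_lit 0) (nat_lit 0) (nat_lit 3) (nat_lit 0) (nat_lit 0) (nat_lit 0) (nat_lit 1) (nat_lit 0) (nat_lit 0x1010008) (nat_lit 65544) (nat_lit 0x1001008000010001028000030) (nat_lit 0x1000000010001010100010100) (.cD (nat_lit 8) (.kA false (nat_lit 0x400400000400100200e001004004000003)) (.cD (nat_lit 16) (.kA false (nat_lit 0x500400600c002043003000002)) (.cD (nat_lit 32) (.kc (nat_lit 112) (nat_lit 0x7001001)) (.cD (nat_lit 40) (.kA false (nat_lit 0x400400000400100200e001004004000003)) (.cD (nat_lit 48) (.kA false (nat_lit 0x300400600c002043003000002)) (.cD (nat_lit 64) (.kc (nat_lit 80) (nat_lit 0x5001001)) (.cD (nat_lit 96) (.kc (nat_lit 96) (nat_lit 0x3001001)) .nil)))))))) .nil)))))))) (.cD (nat_lit 96) (.kF (nat_lit 16) (nat_lit 0x7007000001003001002)) .nil))))))))))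
theorem c13 : (chk [] [] p13).n x12 s13 = true := by decide +kernel
noncomputable def p14 : Pf := (.ext (nat_lit 0) (nat_lit 0x8030020048004001) (nat_lit 0x1100040080020) (nat_lit 0x5b02004a05a003040020010008001002) (nat_lit 0x600300400f) (nat_lit 0x1012008006) (nat_lit 0x101301c018) (nat_lit 0x900400600100c00400200100f004006005) (.dfs (nat_lit 6) (nat_lit 0x1001002004008) (nat_lit 0x100500600400f) (nat_lit 1) (nat_lit 1) (nat_lit 4) (nat_lit 0) (nat_lit 2) (nat_lit 0) (nat_lit 0x1002004008001001) (nat_lit 24) (nat_lit 1) (nat_lit 0) (nat_lit 0x1110024) (nat_lit 0x110024) (nat_lit 0x1000108001108001188) (nat_lit 0x1000000000000000000000000000000000000000000000000000000000000000000) (.cD (nat_lit 264) (.dfs (nat_lit 8) (nat_lit 0x1002004008010) (nat_lit 0x1002004008018) (nat_lit 4097) (nat_lit 4111) (nat_lit 0) (nat_lit 0) (nat_lit 2) (nat_lit 0) (nat_lit 0x2004008010001001) (nat_lit 28) (nat_lit 1) (nat_lit 0) (nat_lit 1) (nat_lit 0) (nat_lit 1) (nat_lit 0x10000000000000001000000000000000100000000000000010000000000000000000000000000000000000000000000000000000000000000000)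 (.cD (nat_lit 268) (.kA false (nat_lit 0x16900100000401c01000500205a03002006d0050de002000004)) (.cD (nat_lit 332) (.kA false (nat_lit 0x140180100200020de002000014008010015001169001000004)) (.cD (nat_lit 396) (.dfs (nat_lit 18) (nat_lit 0x1004008010020) (nat_lit 0x1004018010024) (nat_lit 0x1002001) (nat_lit 0x100e005) (nat_lit 20) (nat_lit 0) (nat_lit 2) (nat_lit 0) (nat_lit 0x4008010020001001) (nat_lit 19) (nat_lit 1) (nat_lit 0) (nat_lit 1) (nat_lit 0) (nat_lit 1) (nat_lit 0) .nil) (.cD (nat_lit 460) (.kS (nat_lit 0) (nat_lit 0x8010020040003001) (nat_lit 0x101c180) (nat_lit 0xa00600200f01000800400601d) (nat_lit 0x5a04a02005b044007006004008010020002001001008010020040004002004003)) .nil))))) .nil)))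
theorem c14 : (chk [] [] p14).n x15 s14 = true := by decide +kernel
noncomputable def p15 : Pf := (.ext (nat_lit 1) (nat_lit 0) (nat_lit 0x1200180100020) (nat_lit 0x10008004002001001) (nat_lit 0x2003004008) (nat_lit 0x1050008005) (nat_lit 0x105500d008) (nat_lit 0xe00400200100a00400200100b004002001) (.dfs (nat_lit 5) (nat_lit 0x1002003004008) (nat_lit 0x100200300400b) (nat_lit 4097) (nat_lit 4097) (nat_lit 4) (nat_lit 0) (nat_lit 2) (nat_lit 1) (nat_lit 0) (nat_lit 8) (nat_lit 1) (nat_lit 0) (nat_lit 4608) (nat_lit 512) (nat_lit 0x10000080000280000880000a8) (nat_lit 0x1000000010000000000000000000000010000000100) (.cD (nat_lit 8) (.dfs (nat_lit 8) (nat_lit 0x1004006008010) (nat_lit 0x1004006008014) (nat_lit 0x1002001) (nat_lit 0x100200b) (nat_lit 8) (nat_lit 0) (nat_lit 2) (nat_lit 1) (nat_lit 0) (nat_lit 13) (nat_lit 1) (nat_lit 0) (nat_lit 1) (nat_lit 0) (nat_lit 1) (nat_lit 0x20000000200000000000000000000000200000002000000000000000000000002000000020000000000000000000000020000000200000000000000000000000000000000000000000000000000000000000000000000000000000000000000000000000000000000000000000000000000000000000)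 (.cD (nat_lit 525) (.kS (nat_lit 1) (nat_lit 0x400c010020002040040000002) (nat_lit 4520) (nat_lit 0x800400200d) (nat_lit 0x4004000000400801002000200104004000000400c010020015001004)) (.cD (nat_lit 557) (.kS (nat_lit 1) (nat_lit 0x400c010020002040040000002) (nat_lit 4264) (nat_lit 0x800400200d) (nat_lit 0x4004000000400801002000200104004000000400c01002001d001004)) (.cD (nat_lit 653) (.kS (nat_lit 1) (nat_lit 0x400c010020002040040000002) (nat_lit 4360) (nat_lit 0x800400200d) (nat_lit 0x4004000000400801002000200104004000000400c010020009001004)) (.cD (nat_lit 685) (.kS (nat_lit 1) (nat_lit 0x400c010020002040040000002) (nat_lit 4104) (nat_lit 0x800400200d) (nat_lit 0x4004000000400801002000200104004000000400c010020001001004)) (.cD (nat_lit 781) (.kS (nat_lit 1) (nat_lit 0x800c010020002001) (nat_lit 4653) (nat_lit 0x800400200d) (nat_lit 0xc00401002000100100400801002000200100800c010020033001003)) (.cD (nat_lit 813) (.dfs (nat_lit 80) (nat_lit 0x100800c010020) (nat_lit 0x100800c010038)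 (nat_lit 0x1004002001) (nat_lit 0x1004006011) (nat_lit 0) (nat_lit 0) (nat_lit 2) (nat_lit 1) (nat_lit 0) (nat_lit 85) (nat_lit 1) (nat_lit 0) (nat_lit 1) (nat_lit 0) (nat_lit 1) (nat_lit 0x20000000200000000000000000000000200000002000000000000000000000002000000020000000000000000000000020000000200000000000000000000000000000000000000000000000000000000000000000000000000000000000000000000000000000000000000000000000000000000000000000000000000000) (.cD (nat_lit 597) (.kS (nat_lit 1) (nat_lit 0x10018020040002001) (nat_lit 0x132d00517d) (nat_lit 0x800400200d01000800400a01502001000801c022009) (nat_lit 0x1800802004000207604d00100801002004000400200100101001802004007600400f001003)) (.cD (nat_lit 629) (.kS (nat_lit 1) (nat_lit 0x10018020040002001) (nat_lit 0x132d00505d) (nat_lit 0x800400200d01000800400a01502001000801c022009) (nat_lit 0x18008020040002076055001008010020040004002001001010018020040076004007001003)) (.cD (nat_lit 725) (.kS (nat_lit 1) (nat_lit 0x8018020040002040040000002)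 (nat_lit 0x11881850dd) (nat_lit 0x800400200d01000800400a01502001000801c022009) (nat_lit 0x40040000008010020040004002001001040040000008018020040022024037001004)) (.cD (nat_lit 757) (.kS (nat_lit 1) (nat_lit 0x8018020040002040040000002) (nat_lit 0x11881851fd) (nat_lit 0x800400200d01000800400a01502001000801c022009) (nat_lit 0x4004000000801002004000400200100104004000000801802004002202403f001004)) (.cD (nat_lit 853) (.kS (nat_lit 1) (nat_lit 0x8018020040002040040000002) (nat_lit 0x118818515d) (nat_lit 0x800400200d01000800400a01502001000801c022009) (nat_lit 0x40040000008010020040004002001001040040000008018020040022024017001004)) (.cD (nat_lit 885) (.kS (nat_lit 1) (nat_lit 0x8018020040002040040000002) (nat_lit 0x118818507d) (nat_lit 0x800400200d01000800400a01502001000801c022009) (nat_lit 0x4004000000801002004000400200100104004000000801802004002202401f001004)) (.cD (nat_lit 981) (.kS (nat_lit 1) (nat_lit 0x8010020040001001) (nat_lit 4216) (nat_lit 0x8004002003) (nat_lit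 0x2004008010001003008010020040023002002)) (.cD (nat_lit 1013) (.kS (nat_lit 1) (nat_lit 0x1000802001f0022d2002000008010020040001003) (nat_lit 4696) (nat_lit 0x800400200d) (nat_lit 0x2e226200001801002003102c0012d20020000080100200400040020022d200001000802001f063001006)) .nil))))))))) (.cD (nat_lit 909) (.kS (nat_lit 1) (nat_lit 0x400c010020002040040000002) (nat_lit 4136) (nat_lit 0x800400200d) (nat_lit 0x4004000000400801002000200104004000000400c010020005001004)) (.cD (nat_lit 941) (.kS (nat_lit 1) (nat_lit 0x400c010020002040040000002) (nat_lit 4392) (nat_lit 0x800400200d) (nat_lit 0x4004000000400801002000200104004000000400c01002000d001004)) .nil))))))))) (.cD (nat_lit 40) (.dfs (nat_lit 8) (nat_lit 0x1004006008010) (nat_lit 0x1004006008014) (nat_lit 0x1002001) (nat_lit 0x100200b) (nat_lit 8) (nat_lit 0) (nat_lit 2) (nat_lit 1) (nat_lit 0) (nat_lit 13) (nat_lit 1) (nat_lit 0) (nat_lit 1) (nat_lit 0) (nat_lit 1) (nat_lit 0x20000000200000000000000000000000200000002000000000000000000000002000000020000000000000000000000020000000200000000000000000000000000000000000000000000000000000000000000000000000000000000000000000000000000000000000000000000000000000000000)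 (.cD (nat_lit 525) (.kS (nat_lit 1) (nat_lit 0x800c010020002001) (nat_lit 4621) (nat_lit 0x800400200d) (nat_lit 0xc00401002000500100400801002000200100800c010020037001003)) (.cD (nat_lit 557) (.dfs (nat_lit 80) (nat_lit 0x100800c010020) (nat_lit 0x100800c010038) (nat_lit 0x1004002001) (nat_lit 0x1004006011) (nat_lit 0) (nat_lit 0) (nat_lit 2) (nat_lit 1) (nat_lit 0) (nat_lit 85) (nat_lit 1) (nat_lit 0) (nat_lit 1) (nat_lit 0) (nat_lit 1) (nat_lit 0x20000000200000000000000000000000200000002000000000000000000000002000000020000000000000000000000020000000200000000000000000000000000000000000000000000000000000000000000000000000000000000000000000000000000000000000000000000000000000000000000000000000000000) (.cD (nat_lit 597) (.kS (nat_lit 1) (nat_lit 0x8018020040002040040000002) (nat_lit 0x10a808505d) (nat_lit 0x800400200d01000800400a01502001000801c022009) (nat_lit 0x4004000000801002004000400200100104004000000801802004003a034007001004)) (.cD (nat_lit 629) (.kS (nat_lit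 1) (nat_lit 0x8018020040002040040000002) (nat_lit 0x10a808517d) (nat_lit 0x800400200d01000800400a01502001000801c022009) (nat_lit 0x4004000000801002004000400200100104004000000801802004003a03400f001004)) (.cD (nat_lit 725) (.kS (nat_lit 1) (nat_lit 0x8010020040001001) (nat_lit 4216) (nat_lit 0x8004002003) (nat_lit 0x2004008010001003008010020040023002002)) (.cD (nat_lit 757) (.kS (nat_lit 1) (nat_lit 0x1000802000f0022d2002000008010020040001003) (nat_lit 4984) (nat_lit 0x800400200d) (nat_lit 0x2e226200001801002003102c0012d20020000080100200400040020022d200001000802000f06b001006)) (.cD (nat_lit 853) (.kS (nat_lit 1) (nat_lit 0x10018020040002001) (nat_lit 0x130d10507d) (nat_lit 0x800400200d01000800400a01502001000801c022009) (nat_lit 0x1800802004000a06605d00100801002004000400200100101001802004007e01401f001003)) (.cD (nat_lit 885) (.kS (nat_lit 1) (nat_lit 0x10018020040002001) (nat_lit 0x130d10515d) (nat_lit 0x800400200d01000800400a01502001000801c022009) (nat_lit 0x1800802004000a06604500100801002004000400200100101001802004007e014017001003))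 (.cD (nat_lit 981) (.kS (nat_lit 1) (nat_lit 0x8018020040002040040000002) (nat_lit 0x10a80851dd) (nat_lit 0x800400200d01000800400a01502001000801c022009) (nat_lit 0x4004000000801002004000400200100104004000000801802004003a034027001004)) (.cD (nat_lit 1013) (.kS (nat_lit 1) (nat_lit 0x8018020040002040040000002) (nat_lit 0x10a80850fd) (nat_lit 0x800400200d01000800400a01502001000801c022009) (nat_lit 0x4004000000801002004000400200100104004000000801802004003a03402f001004)) .nil))))))))) (.cD (nat_lit 653) (.kS (nat_lit 1) (nat_lit 0x400c010020002040040000002) (nat_lit 4360) (nat_lit 0x800400200d) (nat_lit 0x4004000000400801002000200104004000000400c010020009001004)) (.cD (nat_lit 685) (.kS (nat_lit 1) (nat_lit 0x400c010020002040040000002) (nat_lit 4104) (nat_lit 0x800400200d) (nat_lit 0x4004000000400801002000200104004000000400c010020001001004)) (.cD (nat_lit 781) (.kS (nat_lit 1) (nat_lit 0x400c010020002040040000002) (nat_lit 4232) (nat_lit 0x800400200d) (nat_lit 0x4004000000400801002000200104004000000400c010020019001004))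 (.cD (nat_lit 813) (.kS (nat_lit 1) (nat_lit 0x400c010020002040040000002) (nat_lit 4488) (nat_lit 0x800400200d) (nat_lit 0x4004000000400801002000200104004000000400c010020011001004)) (.cD (nat_lit 909) (.kS (nat_lit 1) (nat_lit 0x400c010020002040040000002) (nat_lit 4136) (nat_lit 0x800400200d) (nat_lit 0x4004000000400801002000200104004000000400c010020005001004)) (.cD (nat_lit 941) (.kS (nat_lit 1) (nat_lit 0x400c010020002040040000002) (nat_lit 4392) (nat_lit 0x800400200d) (nat_lit 0x4004000000400801002000200104004000000400c01002000d001004)) .nil))))))))) (.cD (nat_lit 136) (.dfs (nat_lit 8) (nat_lit 0x1004006008010) (nat_lit 0x1004006008014) (nat_lit 0x1002001) (nat_lit 0x100200b) (nat_lit 8) (nat_lit 0) (nat_lit 2) (nat_lit 1) (nat_lit 0) (nat_lit 13) (nat_lit 1) (nat_lit 0) (nat_lit 1) (nat_lit 0) (nat_lit 1) (nat_lit 0x20000000200000000000000000000000200000002000000000000000000000002000000020000000000000000000000020000000200000000000000000000000000000000000000000000000000000000000000000000000000000000000000000000000000000000000000000000000000000000000)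 (.cD (nat_lit 525) (.kS (nat_lit 1) (nat_lit 0x400c010020002040040000002) (nat_lit 4520) (nat_lit 0x800400200d) (nat_lit 0x4004000000400801002000200104004000000400c010020015001004)) (.cD (nat_lit 557) (.kS (nat_lit 1) (nat_lit 0x400c010020002040040000002) (nat_lit 4264) (nat_lit 0x800400200d) (nat_lit 0x4004000000400801002000200104004000000400c01002001d001004)) (.cD (nat_lit 653) (.dfs (nat_lit 80) (nat_lit 0x100800c010020) (nat_lit 0x100800c010038) (nat_lit 0x1004002001) (nat_lit 0x1004006011) (nat_lit 0) (nat_lit 0) (nat_lit 2) (nat_lit 1) (nat_lit 0) (nat_lit 85) (nat_lit 1) (nat_lit 0) (nat_lit 1) (nat_lit 0) (nat_lit 1) (nat_lit 0x20000000200000000000000000000000200000002000000000000000000000002000000020000000000000000000000020000000200000000000000000000000000000000000000000000000000000000000000000000000000000000000000000000000000000000000000000000000000000000000000000000000000000) (.cD (nat_lit 597) (.kS (nat_lit 1) (nat_lit 0x8018020040002040040000002) (nat_lit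 0x110812505d) (nat_lit 0x800400200d01000800400a01502001000801c022009) (nat_lit 0x4004000000801002004000400200100104004000000801802004001201c007001004)) (.cD (nat_lit 629) (.kS (nat_lit 1) (nat_lit 0x8018020040002040040000002) (nat_lit 0x110812517d) (nat_lit 0x800400200d01000800400a01502001000801c022009) (nat_lit 0x4004000000801002004000400200100104004000000801802004001201c00f001004)) (.cD (nat_lit 725) (.kS (nat_lit 1) (nat_lit 0x100080200310012d2002000010018020040002003) (nat_lit 0x10a5088) (nat_lit 0x800400200d01000800400a015) (nat_lit 0x2d20020000080100200010660630012e226200001001802004007e03c0010022d2000010008020031056004002006)) (.cD (nat_lit 757) (.kS (nat_lit 1) (nat_lit 0x8010020040001001) (nat_lit 4600) (nat_lit 0x8004002003) (nat_lit 0x2004008010001003008010020040023002002)) (.cD (nat_lit 853) (.kS (nat_lit 1) (nat_lit 0x10018020040002001) (nat_lit 0x130d0a507d) (nat_lit 0x800400200d01000800400a01502001000801c022009) (nat_lit 0x1800802004003205e05d00100801002004000400200100101001802004007e03c01f001003))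 (.cD (nat_lit 885) (.kS (nat_lit 1) (nat_lit 0x10018020040002001) (nat_lit 0x130d0a515d) (nat_lit 0x800400200d01000800400a01502001000801c022009) (nat_lit 0x1800802004003205e04500100801002004000400200100101001802004007e03c017001003)) (.cD (nat_lit 981) (.kS (nat_lit 1) (nat_lit 0x8018020040002040040000002) (nat_lit 0x11081251dd) (nat_lit 0x800400200d01000800400a01502001000801c022009) (nat_lit 0x4004000000801002004000400200100104004000000801802004001201c027001004)) (.cD (nat_lit 1013) (.kS (nat_lit 1) (nat_lit 0x8018020040002040040000002) (nat_lit 0x11081250fd) (nat_lit 0x800400200d01000800400a01502001000801c022009) (nat_lit 0x4004000000801002004000400200100104004000000801802004001201c02f001004)) .nil))))))))) (.cD (nat_lit 685) (.kS (nat_lit 1) (nat_lit 0x800c010020002001) (nat_lit 4621) (nat_lit 0x800400200d) (nat_lit 0xc00401002001900100400801002000200100800c010020037001003)) (.cD (nat_lit 781) (.kS (nat_lit 1) (nat_lit 0x400c010020002040040000002) (nat_lit 4232)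 (nat_lit 0x800400200d) (nat_lit 0x4004000000400801002000200104004000000400c010020019001004)) (.cD (nat_lit 813) (.kS (nat_lit 1) (nat_lit 0x400c010020002040040000002) (nat_lit 4488) (nat_lit 0x800400200d) (nat_lit 0x4004000000400801002000200104004000000400c010020011001004)) (.cD (nat_lit 909) (.kS (nat_lit 1) (nat_lit 0x400c010020002040040000002) (nat_lit 4136) (nat_lit 0x800400200d) (nat_lit 0x4004000000400801002000200104004000000400c010020005001004)) (.cD (nat_lit 941) (.kS (nat_lit 1) (nat_lit 0x400c010020002040040000002) (nat_lit 4392) (nat_lit 0x800400200d) (nat_lit 0x4004000000400801002000200104004000000400c01002000d001004)) .nil))))))))) (.cD (nat_lit 168) (.dfs (nat_lit 8) (nat_lit 0x1004006008010) (nat_lit 0x1004006008014) (nat_lit 0x1002001) (nat_lit 0x100200b) (nat_lit 8) (nat_lit 0) (nat_lit 2) (nat_lit 1) (nat_lit 0) (nat_lit 13) (nat_lit 1) (nat_lit 0) (nat_lit 1) (nat_lit 0) (nat_lit 1) (nat_lit 0x20000000200000000000000000000000200000002000000000000000000000002000000020000000000000000000000020000000200000000000000000000000000000000000000000000000000000000000000000000000000000000000000000000000000000000000000000000000000000000000)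 (.cD (nat_lit 525) (.kS (nat_lit 1) (nat_lit 0x400c010020002040040000002) (nat_lit 4520) (nat_lit 0x800400200d) (nat_lit 0x4004000000400801002000200104004000000400c010020015001004)) (.cD (nat_lit 557) (.kS (nat_lit 1) (nat_lit 0x400c010020002040040000002) (nat_lit 4264) (nat_lit 0x800400200d) (nat_lit 0x4004000000400801002000200104004000000400c01002001d001004)) (.cD (nat_lit 653) (.kS (nat_lit 1) (nat_lit 0x400c010020002040040000002) (nat_lit 4360) (nat_lit 0x800400200d) (nat_lit 0x4004000000400801002000200104004000000400c010020009001004)) (.cD (nat_lit 685) (.kS (nat_lit 1) (nat_lit 0x400c010020002040040000002) (nat_lit 4104) (nat_lit 0x800400200d) (nat_lit 0x4004000000400801002000200104004000000400c010020001001004)) (.cD (nat_lit 781) (.kS (nat_lit 1) (nat_lit 0x400c010020002040040000002) (nat_lit 4232) (nat_lit 0x800400200d) (nat_lit 0x4004000000400801002000200104004000000400c010020019001004)) (.cD (nat_lit 813) (.kS (nat_lit 1) (nat_lit 0x400c010020002040040000002)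 (nat_lit 4488) (nat_lit 0x800400200d) (nat_lit 0x4004000000400801002000200104004000000400c010020011001004)) (.cD (nat_lit 909) (.dfs (nat_lit 80) (nat_lit 0x100800c010020) (nat_lit 0x100800c010038) (nat_lit 0x1004002001) (nat_lit 0x1004006011) (nat_lit 0) (nat_lit 0) (nat_lit 2) (nat_lit 1) (nat_lit 0) (nat_lit 85) (nat_lit 1) (nat_lit 0) (nat_lit 1) (nat_lit 0) (nat_lit 1) (nat_lit 0x20000000200000000000000000000000200000002000000000000000000000002000000020000000000000000000000020000000200000000000000000000000000000000000000000000000000000000000000000000000000000000000000000000000000000000000000000000000000000000000000000000000000000) (.cD (nat_lit 597) (.kS (nat_lit 1) (nat_lit 0x10018020040002001) (nat_lit 0x132d1a517d) (nat_lit 0x800400200d01000800400a01502001000801c022009) (nat_lit 0x1800802004003a04e04d00100801002004000400200100101001802004007602c00f001003)) (.cD (nat_lit 629) (.kS (nat_lit 1) (nat_lit 0x10018020040002001) (nat_lit 0x132d1a505d) (nat_lit 0x800400200d01000800400a01502001000801c022009)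 (nat_lit 0x1800802004003a04e05500100801002004000400200100101001802004007602c007001003)) (.cD (nat_lit 725) (.kS (nat_lit 1) (nat_lit 0x8018020040002040040000002) (nat_lit 0x10280250dd) (nat_lit 0x800400200d01000800400a01502001000801c022009) (nat_lit 0x4004000000801002004000400200100104004000000801802004000a00c037001004)) (.cD (nat_lit 757) (.kS (nat_lit 1) (nat_lit 0x8018020040002040040000002) (nat_lit 0x10280251fd) (nat_lit 0x800400200d01000800400a01502001000801c022009) (nat_lit 0x4004000000801002004000400200100104004000000801802004000a00c03f001004)) (.cD (nat_lit 853) (.kS (nat_lit 1) (nat_lit 0x8018020040002040040000002) (nat_lit 0x102802515d) (nat_lit 0x800400200d01000800400a01502001000801c022009) (nat_lit 0x4004000000801002004000400200100104004000000801802004000a00c017001004)) (.cD (nat_lit 885) (.kS (nat_lit 1) (nat_lit 0x8018020040002040040000002) (nat_lit 0x102802507d) (nat_lit 0x800400200d01000800400a01502001000801c022009) (nat_lit 0x4004000000801002004000400200100104004000000801802004000a00c01f001004))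 (.cD (nat_lit 981) (.kS (nat_lit 1) (nat_lit 0x100080200310012d2002000010018020040002003) (nat_lit 0x1085088) (nat_lit 0x800400200d01000800400a015) (nat_lit 0x2d20020000080100200010660630012e226200001001802004007602c0010022d200001000802003104e014002006)) (.cD (nat_lit 1013) (.kS (nat_lit 1) (nat_lit 0x8010020040001001) (nat_lit 4600) (nat_lit 0x8004002003) (nat_lit 0x2004008010001003008010020040023002002)) .nil))))))))) (.cD (nat_lit 941) (.kS (nat_lit 1) (nat_lit 0x800c010020002001) (nat_lit 4653) (nat_lit 0x800400200d) (nat_lit 0xc00401002001d00100400801002000200100800c010020033001003)) .nil))))))))) .nil))))))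
theorem c15 : (chk [] [] p15).n x17 s15 = true := by decide +kernel
noncomputable def p16 : Pf := (.ext (nat_lit 1) (nat_lit 0) (nat_lit 0x1200180100020) (nat_lit 0x10008004002001001) (nat_lit 0x2003004008) (nat_lit 4101) (nat_lit 4104) (nat_lit 0xb004002001) (.dfs (nat_lit 5) (nat_lit 0x1002003004008) (nat_lit 0x100200300400b) (nat_lit 4097) (nat_lit 4097) (nat_lit 4) (nat_lit 0) (nat_lit 2) (nat_lit 1) (nat_lit 0) (nat_lit 8) (nat_lit 1) (nat_lit 0) (nat_lit 1) (nat_lit 0) (nat_lit 1) (nat_lit 0) .nil))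
theorem c16 : (chk [] [] p16).n x18 s16 = true := by decide +kernel
noncomputable def p17 : Pf := (.ext (nat_lit 1) (nat_lit 0) (nat_lit 0x1200180100020) (nat_lit 0x10008004002001001) (nat_lit 0x2003004008) (nat_lit 4101) (nat_lit 4104) (nat_lit 0xb004002001) (.dfs (nat_lit 5) (nat_lit 0x1002003004008) (nat_lit 0x100200300400b) (nat_lit 4097) (nat_lit 4097) (nat_lit 2) (nat_lit 0) (nat_lit 2) (nat_lit 1) (nat_lit 0) (nat_lit 8) (nat_lit 1) (nat_lit 0) (nat_lit 1) (nat_lit 0) (nat_lit 1) (nat_lit 0) .nil))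
theorem c17 : (chk [] [] p17).n x19 s17 = true := by decide +kernel
noncomputable def p18 : Pf := (.ext (nat_lit 1) (nat_lit 0) (nat_lit 0x1200180100020) (nat_lit 0x10008004002001001) (nat_lit 0x2003004008) (nat_lit 4101) (nat_lit 4104) (nat_lit 0xb004002001) (.dfs (nat_lit 5) (nat_lit 0x1002003004008) (nat_lit 0x100200300400b) (nat_lit 4097) (nat_lit 4097) (nat_lit 2) (nat_lit 0) (nat_lit 2) (nat_lit 1) (nat_lit 0) (nat_lit 8) (nat_lit 1) (nat_lit 0) (nat_lit 1) (nat_lit 0) (nat_lit 1) (nat_lit 0) .nil))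
theorem c18 : (chk [] [] p18).n x20 s18 = true := by decide +kernel
noncomputable def p19 : Pf := (.lft (nat_lit 0x1180c00801b40f81040b40ab001001001) (nat_lit 305) (nat_lit 0x11e01c01a01801601401201000e80c80a8088068048028008) (nat_lit 0x1000800400200100080c40de169) (.extn a46 (nat_lit 0x100080040020010008004002001) (nat_lit 0x1020080040100) (nat_lit 2) (nat_lit 0) (nat_lit 0) (nat_lit 273) (nat_lit 0x200000000000000020000000000000000000000000000000000000000000000000000000000000000000000000000) (.cE (nat_lit 305) b112 (nat_lit 0) (.cut (nat_lit 0)) (.cut (nat_lit 1)) (.cE (nat_lit 369) b113 (nat_lit 0) (.cut (nat_lit 2)) (.cut (nat_lit 3)) .nil))))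
theorem c19 : (chk [(x17, s15), (x18, s16), (x19, s17), (x20, s18)] [] p19).n x16 s19 = true := by decide +kernel
noncomputable def p20 : Pf := (.ext (nat_lit 1) (nat_lit 0) (nat_lit 0x1200180100020) (nat_lit 0x10008004002001001) (nat_lit 0x2003004008) (nat_lit 4101) (nat_lit 4104) (nat_lit 0xb004002001) (.dfs (nat_lit 5) (nat_lit 0x1002003004008) (nat_lit 0x100200300400b) (nat_lit 4097) (nat_lit 4097) (nat_lit 0) (nat_lit 0) (nat_lit 2) (nat_lit 1) (nat_lit 0) (nat_lit 8) (nat_lit 1) (nat_lit 0) (nat_lit 1) (nat_lit 0) (nat_lit 1) (nat_lit 0) .nil))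
theorem c20 : (chk [] [] p20).n x21 s20 = true := by decide +kernel
noncomputable def p21 : Pf := (.ext (nat_lit 1) (nat_lit 0) (nat_lit 0x1200180100020) (nat_lit 0x10008004002001001) (nat_lit 0x2003004008) (nat_lit 4101) (nat_lit 4104) (nat_lit 0xb004002001) (.dfs (nat_lit 5) (nat_lit 0x1002003004008) (nat_lit 0x100200300400b) (nat_lit 4097) (nat_lit 4097) (nat_lit 0) (nat_lit 0) (nat_lit 2) (nat_lit 1) (nat_lit 0) (nat_lit 8) (nat_lit 1) (nat_lit 0) (nat_lit 1) (nat_lit 0) (nat_lit 1) (nat_lit 0) .nil))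
theorem c21 : (chk [] [] p21).n x22 s21 = true := by decide +kernel
noncomputable def p22 : Pf := (.ext (nat_lit 1) (nat_lit 0) (nat_lit 0x1200180100020) (nat_lit 0x10008004002001001) (nat_lit 0x2003004008) (nat_lit 4101) (nat_lit 4104) (nat_lit 0xb004002001) (.dfs (nat_lit 5) (nat_lit 0x1002003004008) (nat_lit 0x100200300400b) (nat_lit 4097) (nat_lit 4097) (nat_lit 6) (nat_lit 0) (nat_lit 2) (nat_lit 1) (nat_lit 0) (nat_lit 8) (nat_lit 1) (nat_lit 0) (nat_lit 1) (nat_lit 0) (nat_lit 1) (nat_lit 0) .nil))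
theorem c22 : (chk [] [] p22).n x23 s22 = true := by decide +kernel
noncomputable def p23 : Pf := (.ext (nat_lit 1) (nat_lit 0) (nat_lit 0x1200180100020) (nat_lit 0x10008004002001001) (nat_lit 0x2003004008) (nat_lit 4101) (nat_lit 4104) (nat_lit 0xb004002001) (.dfs (nat_lit 5) (nat_lit 0x1002003004008) (nat_lit 0x100200300400b) (nat_lit 4097) (nat_lit 4097) (nat_lit 6) (nat_lit 0) (nat_lit 2) (nat_lit 1) (nat_lit 0) (nat_lit 8) (nat_lit 1) (nat_lit 0) (nat_lit 1) (nat_lit 0) (nat_lit 1) (nat_lit 0) .nil))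
theorem c23 : (chk [] [] p23).n x24 s23 = true := by decide +kernel
noncomputable def p24 : Pf := (.lft (nat_lit 0x1180c00801b40f81040b40ab001001001) (nat_lit 433) (nat_lit 0x11e01c01a01801601401201000e80c80a8088068048028008) (nat_lit 0x1000800400200100080c40de169) (.extn a45 (nat_lit 0x100080040020010008004002001) (nat_lit 0x1020080040100) (nat_lit 2) (nat_lit 0) (nat_lit 0) (nat_lit 273) (nat_lit 0x20000000000000002000000000000000000000000000000000000000000000000000000000000000000000000000000000000000000000000000000000000) (.cE (nat_lit 433) b110 (nat_lit 0) (.cut (nat_lit 0)) (.cut (nat_lit 1)) (.cE (nat_lit 497) b111 (nat_lit 0) (.cut (nat_lit 2)) (.cut (nat_lit 3)) .nil))))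
theorem c24 : (chk [(x21, s20), (x22, s21), (x23, s22), (x24, s23)] [] p24).n x16 s24 = true := by decide +kernel
noncomputable def p25 : Pf := (.ext (nat_lit 0) (nat_lit 0) (nat_lit 0x10e40400c01f411c0b80ec027) (nat_lit 0x80040020010008004002001002001) (nat_lit 0x10020040080) (nat_lit 4097) (nat_lit 4389) (nat_lit 0x740400200300dc0900020bb) (.dfs (nat_lit 1) (nat_lit 0x1010020040080) (nat_lit 0x1030020040074) (nat_lit 0x1008004002001) (nat_lit 0x10dc0900020bb) (nat_lit 244) (nat_lit 0) (nat_lit 2) (nat_lit 0) (nat_lit 0) (nat_lit 261) (nat_lit 1) (nat_lit 0) (nat_lit 1) (nat_lit 0) (nat_lit 1) (nat_lit 0x200000000000000020000000000000000000000000000000000000000000000000000000000000000000000000) (.cD (nat_lit 293) (.cut (nat_lit 1)) (.cD (nat_lit 357) (.cut (nat_lit 0)) .nil))))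
theorem c25 : (chk [(x16, s19), (x16, s24)] [] p25).n x16 s25 = true := by decide +kernel
noncomputable def p26 : Pf := (.ext (nat_lit 0) (nat_lit 0x10020040080003001) (nat_lit 0x10e40400c01f41bb0b80cb) (nat_lit 0xf004003006000701407a003080040020010008004002001080040020010009004003004003) (nat_lit 0x38028020070) (nat_lit 4098) (nat_lit 4490) (nat_lit 0x202003002801c06006b) (.dfs (nat_lit 2) (nat_lit 0x1038028020070) (nat_lit 0x1038008020012) (nat_lit 0x1040010008004002001) (nat_lit 0x100203002801c06006b) (nat_lit 66) (nat_lit 0) (nat_lit 2) (nat_lit 0) (nat_lit 0x10020040080005001) (nat_lit 6) (nat_lit 1) (nat_lit 0) (nat_lit 1) (nat_lit 0) (nat_lit 1) (nat_lit 0x4000000000000000400000000000000000000000000000000000000000000000000000000000000000000000000000000000000000000000000) (.cD (nat_lit 394) (.kS (nat_lit 0) (nat_lit 0x700500400e0002010020040080005002) (nat_lit 0x117f183020051) (nat_lit 0xa00400200501000c00401201902801800803403a03105003001000f003075061) (nat_lit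 0x600300400f003c05a0b206f00101002004008004a0220cc0010010700500400e005205c0ca057001003)) (.cD (nat_lit 458) (.cut (nat_lit 0)) .nil))))
theorem c26 : (chk [(x16, s25)] [] p26).n x16 s26 = true := by decide +kernel
noncomputable def p27 : Pf := (.ext (nat_lit 0) (nat_lit 0) (nat_lit 0x1100040080020006008012) (nat_lit 0x7802001803000300a035004080040020010009004003001002) (nat_lit 0x38028020070) (nat_lit 4097) (nat_lit 4155) (nat_lit 0x2a02001002803c068043) (.dfs (nat_lit 1) (nat_lit 0x1038028020070) (nat_lit 0x101800802001a) (nat_lit 0x1040010008004002001) (nat_lit 0x102a01002803c068043) (nat_lit 74) (nat_lit 0) (nat_lit 2) (nat_lit 0) (nat_lit 0) (nat_lit 19) (nat_lit 1) (nat_lit 0) (nat_lit 1) (nat_lit 0) (nat_lit 1) (nat_lit 0x8000000000000000800000000000000) (.cD (nat_lit 59) (.kS (nat_lit 0) (nat_lit 0x700500400e0002001) (nat_lit 0x105c0e80870ee) (nat_lit 0xa00600200f01000800400601d02801000802903a02c04003001004806404201b) (nat_lit 0x600300400f000601403706a0010100200400800080040010020010700500400e000e07402900c001003))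 (.cD (nat_lit 123) (.cut (nat_lit 0)) .nil))))
theorem c27 : (chk [(x16, s26)] [] p27).n x16 s27 = true := by decide +kernel
noncomputable def p28 : Pf := (.ext (nat_lit 0) (nat_lit 0x8010020040001001) (nat_lit 0x1100040080020) (nat_lit 0x48020030008004001) (nat_lit 0x700500400e) (nat_lit 0x1002010008004) (nat_lit 0x100300801c00c) (nat_lit 0xb00400600300800400200300c00400200100a004002007) (.dfs (nat_lit 4) (nat_lit 0x1001002004008) (nat_lit 0x100700200400a) (nat_lit 1) (nat_lit 1) (nat_lit 6) (nat_lit 0) (nat_lit 2) (nat_lit 0) (nat_lit 0x1002004008001001) (nat_lit 12) (nat_lit 1) (nat_lit 0) (nat_lit 0x1110024) (nat_lit 0x110024) (nat_lit 0x100011c00111c0011dc) (nat_lit 0x100000000000000000000000000000000000000000000000000000000000000000000000) (.cD (nat_lit 284) (.dfs (nat_lit 8) (nat_lit 0x1002004008010) (nat_lit 0x1002004008018) (nat_lit 4097) (nat_lit 4097) (nat_lit 0) (nat_lit 0) (nat_lit 2) (nat_lit 0) (nat_lit 0x2004008010001001) (nat_lit 28) (nat_lit 1)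 (nat_lit 0) (nat_lit 1) (nat_lit 0) (nat_lit 1) (nat_lit 0x100000000000000010000000000000001000000000000000100000000000000) (.cD (nat_lit 56) (.kA false (nat_lit 0x1c008010020002169001000014008010015001169001000004)) (.cD (nat_lit 120) (.kA false (nat_lit 0x7a01002001700600c00801000d0010c5005000003)) (.cD (nat_lit 184) (.dfs (nat_lit 16) (nat_lit 0x101f018008023) (nat_lit 0x101f01800802b) (nat_lit 0x1020010004002001) (nat_lit 0x102001000c002009) (nat_lit 0) (nat_lit 0) (nat_lit 2) (nat_lit 1) (nat_lit 0) (nat_lit 44) (nat_lit 1) (nat_lit 0) (nat_lit 1) (nat_lit 0) (nat_lit 1) (nat_lit 0x100000000000000010000000000000001000000000000000100000000000) (.cD (nat_lit 44) (.kA false (nat_lit 0x6a01002001700607d030020046002002)) (.cD (nat_lit 108) (.kA true (nat_lit 0x59030010048005001010030040001002)) (.cD (nat_lit 172) (.kA false (nat_lit 0x7a01002001700604d030020046002002)) (.cD (nat_lit 236) (.dfs (nat_lit 2) (nat_lit 0x106d030020046) (nat_lit 0x106d010020051) (nat_lit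 0x1040010008004002001) (nat_lit 0x105803001800300a00e) (nat_lit 7) (nat_lit 0) (nat_lit 2) (nat_lit 0) (nat_lit 0) (nat_lit 7) (nat_lit 1) (nat_lit 0) (nat_lit 4224) (nat_lit 128) (nat_lit 0x1000027) (nat_lit 0x8000000000) (.cD (nat_lit 39) (.cut (nat_lit 0)) .nil)) .nil))))) (.cD (nat_lit 248) (.kA true (nat_lit 0x77010030017006017018008023002008008000003)) .nil))))) .nil)))
theorem c28 : (chk [(x16, s27)] [] p28).n x16 s28 = true := by decide +kernel
noncomputable def p29 : Pf := (.ext (nat_lit 0) (nat_lit 0x8030020048004001) (nat_lit 0x1100040080020) (nat_lit 0x5b02004a05a003040020010008001002) (nat_lit 0x600300400f) (nat_lit 0x1012008006) (nat_lit 0x101301c018) (nat_lit 0x900400600100c00400200100f004006005) (.dfs (nat_lit 6) (nat_lit 0x1001002004008) (nat_lit 0x100500600400f) (nat_lit 1) (nat_lit 1) (nat_lit 4) (nat_lit 0) (nat_lit 2) (nat_lit 0) (nat_lit 0x1002004008001001) (nat_lit 24) (nat_lit 1) (nat_lit 0) (nat_lit 0x1110024) (nat_lit 0x110024) (nat_lit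 0x1000108001108001188) (nat_lit 0x1000000000000000000000000000000000000000000000000000000000000000000) (.cD (nat_lit 264) (.dfs (nat_lit 8) (nat_lit 0x1002004008010) (nat_lit 0x1002004008018) (nat_lit 4097) (nat_lit 4111) (nat_lit 0) (nat_lit 0) (nat_lit 2) (nat_lit 0) (nat_lit 0x2004008010001001) (nat_lit 28) (nat_lit 1) (nat_lit 0) (nat_lit 1) (nat_lit 0) (nat_lit 1) (nat_lit 0x10000000000000001000000000000000100000000000000010000000000000000000000000000000000000000000000000000000000000000000) (.cD (nat_lit 268) (.kA false (nat_lit 0x16900100000401c01000500205a03002006d0050de002000004)) (.cD (nat_lit 332) (.kA false (nat_lit 0x140180100200020de002000014008010015001169001000004)) (.cD (nat_lit 396) (.dfs (nat_lit 18) (nat_lit 0x1004008010020) (nat_lit 0x1004018010024) (nat_lit 0x1002001) (nat_lit 0x100e005) (nat_lit 20) (nat_lit 0) (nat_lit 2) (nat_lit 0) (nat_lit 0x4008010020001001) (nat_lit 19) (nat_lit 1) (nat_lit 0) (nat_lit 4224) (nat_lit 128) (nat_lit 0x10000b7)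 (nat_lit 0x8000000000000000000000000000000000000000000000) (.cD (nat_lit 183) (.cut (nat_lit 0)) .nil)) (.cD (nat_lit 460) (.kS (nat_lit 0) (nat_lit 0x8010020040003001) (nat_lit 0x101c180) (nat_lit 0xa00600200f01000800400601d) (nat_lit 0x5a04a02005b044007006004008010020002001001008010020040004002004003)) .nil))))) .nil)))
theorem c29 : (chk [(x16, s28)] [] p29).n x16 s29 = true := by decide +kernel
noncomputable def p30 : Pf := (.ext (nat_lit 0) (nat_lit 0x8030020048004001) (nat_lit 0x1100040080020) (nat_lit 0x5b02004a05a003040020010008001002) (nat_lit 0x600300400f) (nat_lit 0x1012008006) (nat_lit 0x101301c018) (nat_lit 0x900400600100c00400200100f004006005) (.dfs (nat_lit 6) (nat_lit 0x1001002004008) (nat_lit 0x100500600400f) (nat_lit 1) (nat_lit 1) (nat_lit 4) (nat_lit 0) (nat_lit 2) (nat_lit 0) (nat_lit 0x1002004008001001) (nat_lit 24) (nat_lit 1) (nat_lit 0) (nat_lit 0x1110024) (nat_lit 0x110024) (nat_lit 0x1000108001108001188) (nat_lit 0x1000000000000000000000000000000000000000000000000000000000000000000)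 (.cD (nat_lit 264) (.dfs (nat_lit 8) (nat_lit 0x1002004008010) (nat_lit 0x1002004008018) (nat_lit 4097) (nat_lit 4111) (nat_lit 0) (nat_lit 0) (nat_lit 2) (nat_lit 0) (nat_lit 0x2004008010001001) (nat_lit 28) (nat_lit 1) (nat_lit 0) (nat_lit 1) (nat_lit 0) (nat_lit 1) (nat_lit 0x10000000000000001000000000000000100000000000000010000000000000000000000000000000000000000000000000000000000000000000) (.cD (nat_lit 268) (.kA false (nat_lit 0x12900100000401c01000500205a03002006d0050de002000004)) (.cD (nat_lit 332) (.kA false (nat_lit 0x140180100200020de002000014008010015001129001000004)) (.cD (nat_lit 396) (.dfs (nat_lit 18) (nat_lit 0x1004008010020) (nat_lit 0x1004018010024) (nat_lit 0x1002001) (nat_lit 0x100e005) (nat_lit 20) (nat_lit 0) (nat_lit 2) (nat_lit 0) (nat_lit 0x4008010020001001) (nat_lit 19) (nat_lit 1) (nat_lit 0) (nat_lit 1) (nat_lit 0) (nat_lit 1) (nat_lit 0) .nil) (.cD (nat_lit 460) (.kS (nat_lit 0) (nat_lit 0x8010020040003001) (nat_lit 0x101c180) (nat_lit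 0xa00600200f01000800400601d) (nat_lit 0x5a04a02005b044007006004008010020002001001008010020040004002004003)) .nil))))) .nil)))
theorem c30 : (chk [] [] p30).n x25 s30 = true := by decide +kernel
noncomputable def p31 : Pf := (.ext (nat_lit 0) (nat_lit 0) (nat_lit 0x1100040080020006008012) (nat_lit 0x7802001803000300a035004080040020010009004003001002) (nat_lit 0x38028020070) (nat_lit 4097) (nat_lit 4155) (nat_lit 0x2a02001002803c068043) (.dfs (nat_lit 1) (nat_lit 0x1038028020070) (nat_lit 0x101800802001a) (nat_lit 0x1040010008004002001) (nat_lit 0x102a01002803c068043) (nat_lit 106) (nat_lit 0) (nat_lit 2) (nat_lit 0) (nat_lit 0) (nat_lit 19) (nat_lit 1) (nat_lit 0) (nat_lit 1) (nat_lit 0) (nat_lit 1) (nat_lit 0x8000000000000000800000000000000) (.cD (nat_lit 59) (.kS (nat_lit 0) (nat_lit 0x700500400e0002001) (nat_lit 0x105c0e80870ee) (nat_lit 0xa00600200f01000800400601d02801000802903a02c04003001004806404201b) (nat_lit 0x600300400f000601403706a0010100200400800080040010020010700500400e000e07402900c001003))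 (.cD (nat_lit 123) (.kS (nat_lit 0) (nat_lit 0x700200400140010fa060040078003010020040080003003) (nat_lit 0x1188167) (nat_lit 0x800400200301000c004007005) (nat_lit 0xda0ba04005800e0170030040080100200020010070fa06004007802e0090040700200400140c40b7002004)) .nil))))
theorem c31 : (chk [] [] p31).n x26 s31 = true := by decide +kernel
noncomputable def p32 : Pf := (.ext (nat_lit 0) (nat_lit 0x8010020040001001) (nat_lit 0x1100040080020) (nat_lit 0x48020030008006001) (nat_lit 0x700500400e) (nat_lit 0x1002010008004) (nat_lit 0x100300801c00c) (nat_lit 0xb00400600300800400200300c00400200100a004002007) (.dfs (nat_lit 4) (nat_lit 0x1001002004008) (nat_lit 0x100700200400a) (nat_lit 1) (nat_lit 1) (nat_lit 6) (nat_lit 0) (nat_lit 2) (nat_lit 0) (nat_lit 0x1002004008001001) (nat_lit 12) (nat_lit 1) (nat_lit 0) (nat_lit 0x1110024) (nat_lit 0x110024) (nat_lit 0x100011c00111c0011dc) (nat_lit 0x100000000000000000000000000000000000000000000000000000000000000000000000) (.cD (nat_lit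 284) (.dfs (nat_lit 8) (nat_lit 0x1002004008010) (nat_lit 0x1002004008018) (nat_lit 4097) (nat_lit 4097) (nat_lit 0) (nat_lit 0) (nat_lit 2) (nat_lit 0) (nat_lit 0x2004008010001001) (nat_lit 28) (nat_lit 1) (nat_lit 0) (nat_lit 1) (nat_lit 0) (nat_lit 1) (nat_lit 0x100000000000000010000000000000001000000000000000100000000000000) (.cD (nat_lit 56) (.kA false (nat_lit 0x1c008010020002129001000014008010015001129001000004)) (.cD (nat_lit 120) (.kA false (nat_lit 0x7a01002001700800c00801000d001085005000003)) (.cD (nat_lit 184) (.dfs (nat_lit 16) (nat_lit 0x101f018008023) (nat_lit 0x101f01800802b) (nat_lit 0x1020010004002001) (nat_lit 0x102001000c002009) (nat_lit 0) (nat_lit 0) (nat_lit 2) (nat_lit 1) (nat_lit 0) (nat_lit 44) (nat_lit 1) (nat_lit 0) (nat_lit 1) (nat_lit 0) (nat_lit 1) (nat_lit 0x100000000000000010000000000000001000000000000000100000000000) (.cD (nat_lit 44) (.kA false (nat_lit 0x6a01002001700807d030020046002002)) (.cD (nat_lit 108) (.kA true (nat_lit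 0x59030010048007001010030040001002)) (.cD (nat_lit 172) (.kA false (nat_lit 0x7a01002001700804d030020046002002)) (.cD (nat_lit 236) (.dfs (nat_lit 2) (nat_lit 0x106d030020046) (nat_lit 0x106d010020051) (nat_lit 0x1040010008004002001) (nat_lit 0x105803001800300a00e) (nat_lit 7) (nat_lit 0) (nat_lit 2) (nat_lit 0) (nat_lit 0) (nat_lit 7) (nat_lit 1) (nat_lit 0) (nat_lit 4224) (nat_lit 128) (nat_lit 0x10000a7) (nat_lit 0x800000000000000000000000000000000000000000) (.cD (nat_lit 167) (.cut (nat_lit 0)) .nil)) .nil))))) (.cD (nat_lit 248) (.kA true (nat_lit 0x77010030017008017018008023002008008000003)) .nil))))) .nil)))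
theorem c32 : (chk [(x26, s31)] [] p32).n x26 s32 = true := by decide +kernel
noncomputable def p33 : Pf := (.ext (nat_lit 0) (nat_lit 0x8030020048006001) (nat_lit 0x1100040080020) (nat_lit 0x5b02004a05a005040020010008003002) (nat_lit 0x600300400f) (nat_lit 0x1012008006) (nat_lit 0x101301c018) (nat_lit 0x900400600100c00400200100f004006005) (.dfs (nat_lit 6) (nat_lit 0x1001002004008) (nat_lit 0x100500600400f) (nat_lit 1) (nat_lit 1) (nat_lit 4) (nat_lit 0) (nat_lit 2) (nat_lit 0) (nat_lit 0x1002004008001001) (nat_lit 24) (nat_lit 1) (nat_lit 0) (nat_lit 0x1110024) (nat_lit 0x110024) (nat_lit 0x1000108001108001188) (nat_lit 0x1000000000000000000000000000000000000000000000000000000000000000000) (.cD (nat_lit 264) (.dfs (nat_lit 8) (nat_lit 0x1002004008010) (nat_lit 0x1002004008018) (nat_lit 4097) (nat_lit 4111) (nat_lit 0) (nat_lit 0) (nat_lit 2) (nat_lit 0) (nat_lit 0x2004008010001001) (nat_lit 28) (nat_lit 1) (nat_lit 0) (nat_lit 1) (nat_lit 0) (nat_lit 1) (nat_lit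 0x10000000000000001000000000000000100000000000000010000000000000000000000000000000000000000000000000000000000000000000) (.cD (nat_lit 268) (.kA false (nat_lit 0x12900100000401c01000500205a03002006d0070de002000004)) (.cD (nat_lit 332) (.kA false (nat_lit 0x140180100200020de002000014008010015001129001000004)) (.cD (nat_lit 396) (.dfs (nat_lit 18) (nat_lit 0x1004008010020) (nat_lit 0x1004018010024) (nat_lit 0x1002001) (nat_lit 0x100e005) (nat_lit 20) (nat_lit 0) (nat_lit 2) (nat_lit 0) (nat_lit 0x4008010020001001) (nat_lit 19) (nat_lit 1) (nat_lit 0) (nat_lit 4224) (nat_lit 128) (nat_lit 0x1000037) (nat_lit 0x80000000000000) (.cD (nat_lit 55) (.cut (nat_lit 0)) .nil)) (.cD (nat_lit 460) (.kS (nat_lit 0) (nat_lit 0x8010020040005001) (nat_lit 0x101c180) (nat_lit 0xa00600200f01000800400601d) (nat_lit 0x5a04a02005b044007008004008010020002001001008010020040004002006003)) .nil))))) .nil)))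
theorem c33 : (chk [(x26, s32)] [] p33).n x26 s33 = true := by decide +kernel
noncomputable def p34 : Pf := (.lft (nat_lit 0x80020040010002004008001003001) (nat_lit 148) (nat_lit 0x10f00e00d00c00b00a0090080) (nat_lit 0x8004002001000800406206f) (.extn a44 (nat_lit 0x80040020010008004002001) (nat_lit 0x1010040020080) (nat_lit 2) (nat_lit 0) (nat_lit 0) (nat_lit 4) (nat_lit 0x1000000010000000000000000000000000000000000000) (.cE (nat_lit 148) b109 (nat_lit 0) (.cut (nat_lit 0)) (.cut (nat_lit 1)) (.cE (nat_lit 180) b114 (nat_lit 0) (.cut (nat_lit 2)) (.cut (nat_lit 3)) .nil))))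
theorem c34 : (chk [(x15, s14), (x16, s29), (x25, s30), (x26, s33)] [] p34).n x14 s34 = true := by decide +kernel
noncomputable def p35 : Pf := (.ext (nat_lit 1) (nat_lit 0) (nat_lit 0x140030020004000e0100a0) (nat_lit 0x40020010008004002001001001) (nat_lit 0x10018020040) (nat_lit 0x100a005) (nat_lit 0x10b503f) (nat_lit 0x1902001000806e05b078066020010008031037014) (.dfs (nat_lit 5) (nat_lit 0x1010018020040) (nat_lit 0x1010018020066) (nat_lit 0x1008004002001) (nat_lit 0x1008031037014) (nat_lit 43) (nat_lit 0) (nat_lit 2) (nat_lit 1) (nat_lit 0) (nat_lit 63) (nat_lit 1) (nat_lit 0) (nat_lit 1) (nat_lit 0) (nat_lit 1) (nat_lit 0x80000000000000008000000000000000000000000000000000000000000000008000000000000000800000000000000000000000000000000000000000000000800000000000000080000000000000000000000000000000000000000000000080000000000000008000000000000000) (.cD (nat_lit 63) (.kS (nat_lit 1) (nat_lit 0x1003004006200255b001000002) (nat_lit 0x14005ae61e205) (nat_lit 0x800400200f01000800400a01102001000801c02a00904002001001e031037024)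 (nat_lit 0x6a400400001002004008000800400200100100155b0000100300400620800ba0bc021001004)) (.cD (nat_lit 127) (.dfs (nat_lit 10) (nat_lit 0x1020030040080) (nat_lit 0x1020030040032) (nat_lit 0x1010008004002001) (nat_lit 0x10100dc0b60f0047) (nat_lit 102) (nat_lit 0) (nat_lit 2) (nat_lit 1) (nat_lit 0) (nat_lit 59) (nat_lit 1) (nat_lit 0) (nat_lit 1) (nat_lit 0) (nat_lit 1) (nat_lit 0) .nil) (.cD (nat_lit 319) (.dfs (nat_lit 10) (nat_lit 0x1020030040080) (nat_lit 0x1020030040032) (nat_lit 0x1010008004002001) (nat_lit 0x10100dc0b60f0047) (nat_lit 102) (nat_lit 0) (nat_lit 2) (nat_lit 1) (nat_lit 0) (nat_lit 59) (nat_lit 1) (nat_lit 0) (nat_lit 1) (nat_lit 0) (nat_lit 1) (nat_lit 0) .nil) (.cD (nat_lit 383) (.kS (nat_lit 1) (nat_lit 0x1003004006200255b001000002) (nat_lit 0x14005ae61e145) (nat_lit 0x800400200f01000800400a01102001000801c02a00904002001001e031037024) (nat_lit 0x6a400400001002004008000800400200100100155b0000100300400620800ba0bc071001004)) (.cD (nat_lit 575)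 (.dfs (nat_lit 10) (nat_lit 0x1020030040080) (nat_lit 0x1020030040032) (nat_lit 0x1010008004002001) (nat_lit 0x10100dc0b60f0047) (nat_lit 102) (nat_lit 0) (nat_lit 2) (nat_lit 1) (nat_lit 0) (nat_lit 59) (nat_lit 1) (nat_lit 0) (nat_lit 1) (nat_lit 0) (nat_lit 1) (nat_lit 0) .nil) (.cD (nat_lit 639) (.kS (nat_lit 1) (nat_lit 0x1003004006200255b001000002) (nat_lit 0x14005ae61e245) (nat_lit 0x800400200f01000800400a01102001000801c02a00904002001001e031037024) (nat_lit 0x6a400400001002004008000800400200100100155b0000100300400620800ba0bc031001004)) (.cD (nat_lit 831) (.kS (nat_lit 1) (nat_lit 0x1003004006200255b001000002) (nat_lit 0x14005ae61e105) (nat_lit 0x800400200f01000800400a01102001000801c02a00904002001001e031037024) (nat_lit 0x6a400400001002004008000800400200100100155b0000100300400620800ba0bc061001004)) (.cD (nat_lit 895) (.dfs (nat_lit 10) (nat_lit 0x1020030040080) (nat_lit 0x1020030040032) (nat_lit 0x1010008004002001) (nat_lit 0x10100dc0b60f0047) (nat_lit 102)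 (nat_lit 0) (nat_lit 2) (nat_lit 1) (nat_lit 0) (nat_lit 59) (nat_lit 1) (nat_lit 0) (nat_lit 1) (nat_lit 0) (nat_lit 1) (nat_lit 0) .nil) .nil))))))))))
theorem c35 : (chk [] [] p35).n x30 s35 = true := by decide +kernel
noncomputable def p36 : Pf := (.mdl (nat_lit 0) (nat_lit 0x11002f01f03741407d430700a2b6187) (nat_lit 0x138020038922025912912f0c93fb12a))
theorem c36 : (chk [] [] p36).n x31 s36 = true := by decide +kernel
noncomputable def p37 : Pf := (.clm (.cut (nat_lit 0)) (.dfs (nat_lit 1024) (nat_lit 1) (nat_lit 1) (nat_lit 1) (nat_lit 1) (nat_lit 0) (nat_lit 0) (nat_lit 0) (nat_lit 0) (nat_lit 0) (nat_lit 0) (nat_lit 1) (nat_lit 0) (nat_lit 0x1400080040020010008004002001) (nat_lit 0x4000800400203106e81045262f1) (nat_lit 0x10000200010200020200030200060200080200012ec0022ec0032ec0042ec0052ec0072ec0082ec0005b80015b80025b80035b80045b80055b80065b80075b80004800014800034800064800013900023900033900043900063900002200031200006000016000026000036000046000056000033ec0053ec0073ec0010ac0030ac0012ac0072ac0005fc0015fc0084bc0013ac0041a00081a00065800034b80044b80064b80074b80072580001580027080075300006080011ec0080e0)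 (nat_lit 0x100000000) (.cD (nat_lit 32) (.kin (nat_lit 1) (nat_lit 1091)) .nil)))
theorem c37 : (chk [(x31, s36)] [] p37).n x31 s37 = true := by decide +kernel
noncomputable def p38 : Pf := (.ext (nat_lit 1) (nat_lit 0) (nat_lit 0x140030020004000e0100a0) (nat_lit 0x40020010008004002001001001) (nat_lit 0x10018020040) (nat_lit 4101) (nat_lit 4159) (nat_lit 0x66020010008031037014) (.dfs (nat_lit 5) (nat_lit 0x1010018020040) (nat_lit 0x1010018020066) (nat_lit 0x1008004002001) (nat_lit 0x1008031037014) (nat_lit 27) (nat_lit 0) (nat_lit 2) (nat_lit 1) (nat_lit 0) (nat_lit 63) (nat_lit 1) (nat_lit 0) (nat_lit 1) (nat_lit 0) (nat_lit 1) (nat_lit 0) .nil))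
theorem c38 : (chk [] [] p38).n x32 s38 = true := by decide +kernel
noncomputable def p39 : Pf := (.ext (nat_lit 1) (nat_lit 0) (nat_lit 0x140030020004000e0100a0) (nat_lit 0x40020010008004002001001001) (nat_lit 0x10018020040) (nat_lit 4101) (nat_lit 4159) (nat_lit 0x66020010008031037014) (.dfs (nat_lit 5) (nat_lit 0x1010018020040) (nat_lit 0x1010018020066) (nat_lit 0x1008004002001) (nat_lit 0x1008031037014) (nat_lit 27) (nat_lit 0) (nat_lit 2) (nat_lit 1) (nat_lit 0) (nat_lit 63) (nat_lit 1) (nat_lit 0) (nat_lit 1) (nat_lit 0) (nat_lit 1) (nat_lit 0) .nil))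
theorem c39 : (chk [] [] p39).n x33 s39 = true := by decide +kernel
noncomputable def p40 : Pf := (.lft (nat_lit 0x200080180004040008010239002001001001) (nat_lit 885) (nat_lit 0x13c03a03983803403203183002c02a02982802402202182001f01d01c81901701501481100f00d00c8090070050048010) (nat_lit 0x20010008004002001018836c3523db) (.extn a42 (nat_lit 0x200100080040020010008004002001) (nat_lit 0x1040100080200) (nat_lit 2) (nat_lit 0) (nat_lit 0) (nat_lit 29) (nat_lit 0x20000000000000000000000000000000200000000000000000000000000000000000000000000000000000000000000000000000000000000000000000000000000000000000000000000000000000000000000000000000000000000000000000000000000000000000000000000000000000000000000000000000000000) (.cE (nat_lit 885) b106 (nat_lit 0) (.cut (nat_lit 0)) (.iso x31 s37 (nat_lit 0) (nat_lit 0x140020010008004002001028a0e40350ad) (nat_lit 0x4002001000800400200102930e444f576) [] (.cut (nat_lit 1))) (.cE (nat_lit 1013) b107 (nat_lit 0) (.cut (nat_lit 2)) (.cut (nat_lit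 3)) .nil))))
theorem c40 : (chk [(x30, s35), (x31, s37), (x32, s38), (x33, s39)] [g98] p40).n x29 s40 = true := by decide +kernel
noncomputable def p41 : Pf := (.ext (nat_lit 0) (nat_lit 0) (nat_lit 0x1200180100020007008010040002) (nat_lit 0x1000800400200100081d31b7002001001) (nat_lit 0x18f0400c0010) (nat_lit 4097) (nat_lit 4614) (nat_lit 0x18c04008008e13f06a12016a0a3) (.dfs (nat_lit 1) (nat_lit 0x118f0400c0010) (nat_lit 0x114f0800c013f) (nat_lit 0x1100080020008004002001) (nat_lit 0x118c04008e06a12016a0a3) (nat_lit 271) (nat_lit 0) (nat_lit 2) (nat_lit 0) (nat_lit 0) (nat_lit 6) (nat_lit 1) (nat_lit 0) (nat_lit 4352) (nat_lit 256) (nat_lit 0x1000206) (nat_lit 0x4000000000000000000000000000000000000000000000000000000000000000000000000000000000000000000000000000000000000000000000000000000000) (.cD (nat_lit 518) (.cut (nat_lit 0)) .nil)))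
theorem c41 : (chk [(x29, s40)] [] p41).n x29 s41 = true := by decide +kernel
noncomputable def p42 : Pf := (.ext (nat_lit 0) (nat_lit 0) (nat_lit 0x140010020008001a020042) (nat_lit 0x40020010008004002001001001) (nat_lit 0x10018020040) (nat_lit 4097) (nat_lit 4108) (nat_lit 0xe02001000804a00200b) (.dfs (nat_lit 1) (nat_lit 0x1010018020040) (nat_lit 0x101001802000e) (nat_lit 0x1008004002001) (nat_lit 0x100804a00200b) (nat_lit 40) (nat_lit 0) (nat_lit 2) (nat_lit 0) (nat_lit 0) (nat_lit 12) (nat_lit 1) (nat_lit 0) (nat_lit 1) (nat_lit 0) (nat_lit 1) (nat_lit 0) .nil))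
theorem c42 : (chk [] [] p42).n x34 s42 = true := by decide +kernel
noncomputable def p43 : Pf := (.ext (nat_lit 0) (nat_lit 0) (nat_lit 0x140010020008001a020042) (nat_lit 0x40020010008004002001001001) (nat_lit 0x10018020040) (nat_lit 4097) (nat_lit 4108) (nat_lit 0xe02001000804a00200b) (.dfs (nat_lit 1) (nat_lit 0x1010018020040) (nat_lit 0x101001802000e) (nat_lit 0x1008004002001) (nat_lit 0x100804a00200b) (nat_lit 40) (nat_lit 0) (nat_lit 2) (nat_lit 0) (nat_lit 0) (nat_lit 12) (nat_lit 1) (nat_lit 0) (nat_lit 1) (nat_lit 0) (nat_lit 1) (nat_lit 0) .nil))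
theorem c43 : (chk [] [] p43).n x35 s43 = true := by decide +kernel
noncomputable def p44 : Pf := (.ext (nat_lit 0) (nat_lit 0) (nat_lit 0x140010020008001a020042) (nat_lit 0x40020010008004002001001001) (nat_lit 0x10018020040) (nat_lit 4097) (nat_lit 4108) (nat_lit 0xe02001000804a00200b) (.dfs (nat_lit 1) (nat_lit 0x1010018020040) (nat_lit 0x101001802000e) (nat_lit 0x1008004002001) (nat_lit 0x100804a00200b) (nat_lit 24) (nat_lit 0) (nat_lit 2) (nat_lit 0) (nat_lit 0) (nat_lit 12) (nat_lit 1) (nat_lit 0) (nat_lit 1) (nat_lit 0) (nat_lit 1) (nat_lit 0) .nil))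
theorem c44 : (chk [] [] p44).n x36 s44 = true := by decide +kernel
noncomputable def p45 : Pf := (.ext (nat_lit 0) (nat_lit 0) (nat_lit 0x140010020008001a020042) (nat_lit 0x40020010008004002001001001) (nat_lit 0x10018020040) (nat_lit 4097) (nat_lit 4108) (nat_lit 0xe02001000804a00200b) (.dfs (nat_lit 1) (nat_lit 0x1010018020040) (nat_lit 0x101001802000e) (nat_lit 0x1008004002001) (nat_lit 0x100804a00200b) (nat_lit 24) (nat_lit 0) (nat_lit 2) (nat_lit 0) (nat_lit 0) (nat_lit 12) (nat_lit 1) (nat_lit 0) (nat_lit 1) (nat_lit 0) (nat_lit 1) (nat_lit 0) .nil))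
theorem c45 : (chk [] [] p45).n x37 s45 = true := by decide +kernel
noncomputable def p46 : Pf := (.lft (nat_lit 0x20008010004000801038b3a3001004001001) (nat_lit 192) (nat_lit 0x13f03c03a03803703403203002f02c02a02802702402202001fc1cc1bc19c17c14c13c11c0fc0cc0bc09c07c04c03c01c) (nat_lit 0x2001000800400200100081a428e3ed) (.extn a77 (nat_lit 0x200100080040020010008004002001) (nat_lit 0x1040100080200) (nat_lit 2) (nat_lit 0) (nat_lit 0) (nat_lit 0) (nat_lit 0x100000000000000000000000000000001000000000000000000000000000000000000000000000000) (.cE (nat_lit 192) b180 (nat_lit 0) (.cut (nat_lit 0)) (.cut (nat_lit 1)) (.cE (nat_lit 320) b181 (nat_lit 0) (.cut (nat_lit 2)) (.cut (nat_lit 3)) .nil))))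
theorem c46 : (chk [(x34, s42), (x35, s43), (x36, s44), (x37, s45)] [] p46).n x28 s46 = true := by decide +kernel
noncomputable def p47 : Pf := (.ext (nat_lit 0) (nat_lit 0) (nat_lit 0x120008010004000c010020001006) (nat_lit 0x1000800400201660081b2002001001001) (nat_lit 0x200400800fa) (nat_lit 4098) (nat_lit 4195) (nat_lit 0xd80400800e81c804804404b1d5) (.dfs (nat_lit 2) (nat_lit 0x10200400800fa) (nat_lit 0x10e8080040163) (nat_lit 0x1100010008004002001) (nat_lit 0x10d81c804804404b1d5) (nat_lit 400) (nat_lit 0) (nat_lit 2) (nat_lit 0) (nat_lit 0) (nat_lit 47) (nat_lit 1) (nat_lit 0) (nat_lit 4224) (nat_lit 128) (nat_lit 0x1000063) (nat_lit 0x8000000000000000000000000) (.cD (nat_lit 99) (.cut (nat_lit 0)) .nil)))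
theorem c47 : (chk [(x28, s46)] [] p47).n x28 s47 = true := by decide +kernel
noncomputable def p48 : Pf := (.ext (nat_lit 1) (nat_lit 0x10020040080001001) (nat_lit 0x10dd18010036a04506e090) (nat_lit 0xb004005006001c0340160013ed0010000a004002007002a0060020073ed001000080040020010008004002002005) (nat_lit 0x30028020058) (nat_lit 4128) (nat_lit 4166) (nat_lit 0x27020010008063022021) (.dfs (nat_lit 32) (nat_lit 0x1030028020058) (nat_lit 0x103002802003f) (nat_lit 0x1040010008004002001) (nat_lit 0x1027010008063022021) (nat_lit 0) (nat_lit 0) (nat_lit 2) (nat_lit 1) (nat_lit 0x10020040080003001) (nat_lit 70) (nat_lit 1) (nat_lit 0) (nat_lit 1) (nat_lit 0) (nat_lit 1) (nat_lit 0x400000000000000000000000000000000000000000000000000000000000000000000000000000000000000000000000400000000000000000) (.cD (nat_lit 70) (.kS (nat_lit 1) (nat_lit 0x60070040090001040040000010020040080001010020040080003004) (nat_lit 0x1003214066020) (nat_lit 0x800600200901400800400e00d02001000800c00a009040020010049055012011)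 (nat_lit 0x400400000300200400c001a0620fe0610013ec26c0000100200400800780620de00100204004000006007004009006c0440ee0bf002006)) (.cD (nat_lit 454) (.cut (nat_lit 0)) .nil))))
theorem c48 : (chk [(x28, s47)] [] p48).n x28 s48 = true := by decide +kernel
noncomputable def p49 : Pf := (.ext (nat_lit 1) (nat_lit 0x1b20400c0100001001) (nat_lit 0x1200180100020) (nat_lit 0x1000c00401b2001001) (nat_lit 0x1002004008) (nat_lit 0x1040010008004) (nat_lit 0x101d01006e003) (nat_lit 0x800400200300e00400200500f004006005009004006001) (.dfs (nat_lit 4) (nat_lit 0x1001002004008) (nat_lit 0x1001006004009) (nat_lit 1) (nat_lit 1) (nat_lit 5) (nat_lit 0) (nat_lit 2) (nat_lit 1) (nat_lit 0x1002004008001001) (nat_lit 3) (nat_lit 1) (nat_lit 0) (nat_lit 0x126a1dd) (nat_lit 0x26a1dd) (nat_lit 0x1000045001045001103) (nat_lit 0x200000000000000000) (.cD (nat_lit 69) (.dfs (nat_lit 8) (nat_lit 0x1002004008010) (nat_lit 0x100a00c00801e) (nat_lit 4097) (nat_lit 4111) (nat_lit 0) (nat_lit 0) (nat_lit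 2) (nat_lit 1) (nat_lit 0x2004008010001001) (nat_lit 110) (nat_lit 1) (nat_lit 0) (nat_lit 4842) (nat_lit 746) (nat_lit 0x100006e) (nat_lit 0x4000000000000000000000000000) (.cD (nat_lit 110) (.dfs (nat_lit 16) (nat_lit 0x1004008010020) (nat_lit 0x1014008010038) (nat_lit 0x1002001) (nat_lit 0x101a001) (nat_lit 0) (nat_lit 0) (nat_lit 2) (nat_lit 1) (nat_lit 0x4008010020001001) (nat_lit 16) (nat_lit 1) (nat_lit 0) (nat_lit 1) (nat_lit 0) (nat_lit 1) (nat_lit 0x100000000000000000000000000000001000000000000000000000000000000000000) (.cD (nat_lit 144) (.dfs (nat_lit 64) (nat_lit 0x1008010020040) (nat_lit 0x1018010020040) (nat_lit 0x1004002001) (nat_lit 0x1025023001) (nat_lit 0) (nat_lit 0) (nat_lit 2) (nat_lit 1) (nat_lit 0x8010020040001001) (nat_lit 29) (nat_lit 1) (nat_lit 0) (nat_lit 1) (nat_lit 0) (nat_lit 1) (nat_lit 0x10000000000000000000000000000000000000000000000000000000000000000000000000000000000000000000000010000000000000000) (.cD (nat_lit 64) (.cut (nat_lit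 0)) (.cD (nat_lit 448) (.kA false (nat_lit 0xe0040080038003001020060080001002)) .nil))) (.cD (nat_lit 272) (.dfs (nat_lit 64) (nat_lit 0x1008010020040) (nat_lit 0x1018010020040) (nat_lit 0x1004002001) (nat_lit 0x1025023001) (nat_lit 0) (nat_lit 0) (nat_lit 2) (nat_lit 1) (nat_lit 0x8010020040001001) (nat_lit 29) (nat_lit 1) (nat_lit 0) (nat_lit 1) (nat_lit 0) (nat_lit 1) (nat_lit 0x100000000000000000000000000000001000000000000000000000000000000000000000000000000) (.cD (nat_lit 192) (.kA false (nat_lit 0xa0040080038003001020060080001002)) (.cD (nat_lit 320) (.kA true (nat_lit 0x3ed0010001db0400c00180030dc0200400a10013ed001000004)) .nil))) .nil))) .nil)) .nil)))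
theorem c49 : (chk [(x28, s48)] [] p49).n x28 s49 = true := by decide +kernel
noncomputable def p50 : Pf := (.ext (nat_lit 1) (nat_lit 0x1b20400c0100001001) (nat_lit 0x10dd18010036a) (nat_lit 0xf20c01720800013ed0010000a00400200700053ed0010001000c00401b2002005) (nat_lit 0x600500400b) (nat_lit 0x1066010003) (nat_lit 0x106607e076) (nat_lit 0xc00400200100e004002005009004006001) (.dfs (nat_lit 3) (nat_lit 0x100600500400b) (nat_lit 0x100200500400e) (nat_lit 0x1008002001) (nat_lit 0x1009006001) (nat_lit 1) (nat_lit 0) (nat_lit 2) (nat_lit 1) (nat_lit 0x1b20400c0100003001) (nat_lit 118) (nat_lit 1) (nat_lit 0) (nat_lit 0x126a1dd) (nat_lit 0x26a1dd) (nat_lit 0x1000261001261001361) (nat_lit 0x200000000000000000000000000000000000000000000000000000000000000000000000000000000000000000000000000000000000000000000000000000000000000000000000000000000) (.cD (nat_lit 609) (.dfs (nat_lit 16) (nat_lit 0x100c00a008016) (nat_lit 0x100c002008012) (nat_lit 0x1010004002001) (nat_lit 0x101c00400a00d)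 (nat_lit 0) (nat_lit 0) (nat_lit 2) (nat_lit 1) (nat_lit 0x1b20400c0100003001) (nat_lit 126) (nat_lit 1) (nat_lit 0) (nat_lit 4224) (nat_lit 128) (nat_lit 0x10000fe) (nat_lit 0x4000000000000000000000000000000000000000000000000000000000000000) (.cD (nat_lit 254) (.dfs (nat_lit 102) (nat_lit 0x101801401002c) (nat_lit 0x101801401003c) (nat_lit 0x1020008004002001) (nat_lit 0x1030008004012011) (nat_lit 16) (nat_lit 0) (nat_lit 2) (nat_lit 1) (nat_lit 0x1b20400c0100003001) (nat_lit 102) (nat_lit 1) (nat_lit 0) (nat_lit 1) (nat_lit 0) (nat_lit 1) (nat_lit 0x10000000000000000000000000000000000000000000000000000000000000000000000000000000000000000000000010000000000000000000000000000000000000000000000000000000000000000000000000000000000000000000000000000000000000000000000000000000000000000000) (.cD (nat_lit 556) (.cut (nat_lit 0)) (.cD (nat_lit 940) (.kS (nat_lit 1) (nat_lit 0x300380200480010400400000080100200400011b20400c0100003004) (nat_lit 0x1003394066) (nat_lit 0x800600200901400800400e00d02001000800c00a009)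 (nat_lit 0x400400000180100200600260020110013ec26c00000801002004000400200100204004000003003802004804b047039002006)) .nil))) .nil)) .nil)))
theorem c50 : (chk [(x28, s49)] [] p50).n x28 s50 = true := by decide +kernel
noncomputable def p51 : Pf := (.ext (nat_lit 0) (nat_lit 0) (nat_lit 0x120008010004000d010021) (nat_lit 0xe02001000804a00200b002006006000040020010008004002001001003) (nat_lit 0x801002000e) (nat_lit 0x1006001) (nat_lit 0x101621b) (nat_lit 0x2f020010008041002003058020010018069032054) (.dfs (nat_lit 1) (nat_lit 0x100801002000e) (nat_lit 0x1018010020043) (nat_lit 0x1040004002001) (nat_lit 0x1058069032054) (nat_lit 85) (nat_lit 0) (nat_lit 2) (nat_lit 0) (nat_lit 0) (nat_lit 519) (nat_lit 1) (nat_lit 0) (nat_lit 4160) (nat_lit 64) (nat_lit 0x100021b00029b) (nat_lit 0x80000000000000000000000000000000800000000000000000000000000000000000000000000000000000000000000000000000000000000000000000000000000000000000000000000000000000000000000) (.cD (nat_lit 539) (.dfs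 (nat_lit 6) (nat_lit 0x101002004001c) (nat_lit 0x1010020040096) (nat_lit 0x1080008004002001) (nat_lit 0x105e082004006025) (nat_lit 0) (nat_lit 0) (nat_lit 2) (nat_lit 0) (nat_lit 0) (nat_lit 10) (nat_lit 1) (nat_lit 0) (nat_lit 1) (nat_lit 0) (nat_lit 1) (nat_lit 0x400000000000000000000000000000004000000000000000000000000000000040000000000000000000000000000000400000) (.cD (nat_lit 22) (.kA true (nat_lit 0x70400c00380011b20400c0100001002)) (.cD (nat_lit 150) (.cut (nat_lit 1)) (.cD (nat_lit 278) (.kA true (nat_lit 0x70400c00380011b20400c0100001002)) (.cD (nat_lit 406) (.kS (nat_lit 0) (nat_lit 0x80080000600400801600013ed001000003) (nat_lit 0x100d1901f636d) (nat_lit 0xc00400200501000800400600903001000800401a01906002001006805903202c) (nat_lit 0x2002000000e808004016e1c80481f204b0012893ff0000600400801600120c8026002002008008000005)) .nil))))) (.cD (nat_lit 667) (.dfs (nat_lit 6) (nat_lit 0x101002004001c) (nat_lit 0x1010020040096) (nat_lit 0x1080008004002001) (nat_lit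 0x105e082004006025) (nat_lit 0) (nat_lit 0) (nat_lit 2) (nat_lit 0) (nat_lit 0) (nat_lit 10) (nat_lit 1) (nat_lit 0) (nat_lit 1) (nat_lit 0) (nat_lit 1) (nat_lit 0x400000000000000000000000000000004000000000000000000000000000000040000000000000000000000000000000400000) (.cD (nat_lit 22) (.kA true (nat_lit 0x870400c00380011b20400c0100001002)) (.cD (nat_lit 150) (.kS (nat_lit 0) (nat_lit 0xe8080040032001008008000002) (nat_lit 0x13e101026a36d) (nat_lit 0xc00400200501000800400600903001000800401a01906002001006805903202c) (nat_lit 0x80080000200400801001660081b20020010080080000e80800400320f400817206b002004)) (.cD (nat_lit 278) (.kA true (nat_lit 0x870400c00380011b20400c0100001002)) (.cD (nat_lit 406) (.iso x29 s41 (nat_lit 0) (nat_lit 0x120010018002004009c0ec22e3a62a9) (nat_lit 0x2001001800200400782963be32c097) [(nat_lit 0xfc0800400600381e81800331b900102a236000002), (nat_lit 0x4002001000800e02501f003200200000002)] (.cut (nat_lit 0))) .nil))))) .nil))))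
theorem c51 : (chk [(x29, s41), (x28, s50)] [g105] p51).n x28 s51 = true := by decide +kernel
noncomputable def p52 : Pf := (.dfs (nat_lit 16) (nat_lit 0x1004006008010) (nat_lit 0x1004006008018) (nat_lit 0x1002001) (nat_lit 0x1002009) (nat_lit 0) (nat_lit 0) (nat_lit 2) (nat_lit 0) (nat_lit 0) (nat_lit 16) (nat_lit 1) (nat_lit 0) (nat_lit 1) (nat_lit 0) (nat_lit 1) (nat_lit 0x100000000000000010000000000000001000000000000000100000000000000010000000000000001000000000000000100000000000000010000) (.cD (nat_lit 16) (.dfs (nat_lit 33) (nat_lit 0x100800c010020) (nat_lit 0x100800c010024) (nat_lit 0x1004002001) (nat_lit 0x1004016001) (nat_lit 20) (nat_lit 0) (nat_lit 2) (nat_lit 0) (nat_lit 0) (nat_lit 13) (nat_lit 1) (nat_lit 0) (nat_lit 1) (nat_lit 0) (nat_lit 1) (nat_lit 0x2000000000000000200000000000000020000000000000002000000000000000200000000000000020000000000000002000000000000000200000000000000000000000000000000000000000000000000000000000000000000000000000000000000000000000000000000000000000000000000000000000)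 (.cD (nat_lit 525) (.kS (nat_lit 0) (nat_lit 0x8018020040002020020000002) (nat_lit 4524) (nat_lit 0x800400200d) (nat_lit 0x2002000000801002004000400102002000000801802004002d001004)) (.cD (nat_lit 589) (.kS (nat_lit 0) (nat_lit 0x8018020040002020020000002) (nat_lit 4268) (nat_lit 0x800400200d) (nat_lit 0x2002000000801002004000400102002000000801802004003d001004)) (.cD (nat_lit 653) (.kS (nat_lit 0) (nat_lit 0x8018020040002020020000002) (nat_lit 4396) (nat_lit 0x800400200d) (nat_lit 0x2002000000801002004000400102002000000801802004000d001004)) (.cD (nat_lit 717) (.kS (nat_lit 0) (nat_lit 0x8018020040002020020000002) (nat_lit 4140) (nat_lit 0x800400200d) (nat_lit 0x2002000000801002004000400102002000000801802004001d001004)) (.cD (nat_lit 781) (.kS (nat_lit 0) (nat_lit 0x8018020040002020020000002) (nat_lit 4332) (nat_lit 0x800400200d) (nat_lit 0x20020000008010020040004001020020000008018020040035001004)) (.cD (nat_lit 845) (.kS (nat_lit 0) (nat_lit 0x8018020040002020020000002)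 (nat_lit 4588) (nat_lit 0x800400200d) (nat_lit 0x20020000008010020040004001020020000008018020040025001004)) (.cD (nat_lit 909) (.kS (nat_lit 0) (nat_lit 0x8018020040002020020000002) (nat_lit 0x106c1d0) (nat_lit 0x800400200d010008004006005) (nat_lit 0x2002000000801002004000400200102002000000801802004001503a001004)) (.cD (nat_lit 973) (.kS (nat_lit 0) (nat_lit 0x8018020040002020020000002) (nat_lit 0x116c1d0) (nat_lit 0x800400200d010008004006005) (nat_lit 0x2002000000801002004000400200102002000000801802004000503a001004)) .nil))))))))) (.cD (nat_lit 80) (.dfs (nat_lit 33) (nat_lit 0x100800c010020) (nat_lit 0x100800c010024) (nat_lit 0x1004002001) (nat_lit 0x1004016001) (nat_lit 20) (nat_lit 0) (nat_lit 2) (nat_lit 0) (nat_lit 0) (nat_lit 13) (nat_lit 1) (nat_lit 0) (nat_lit 1) (nat_lit 0) (nat_lit 1) (nat_lit 0x2000000000000000200000000000000020000000000000002000000000000000200000000000000020000000000000002000000000000000200000000000000000000000000000000000000000000000000000000000000000000000000000000000000000000000000000000000000000000000000000000000)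 (.cD (nat_lit 525) (.kS (nat_lit 0) (nat_lit 0x8018020040002020020000002) (nat_lit 4524) (nat_lit 0x800400200d) (nat_lit 0x2002000000801002004000400102002000000801802004002d001004)) (.cD (nat_lit 589) (.kS (nat_lit 0) (nat_lit 0x8018020040002020020000002) (nat_lit 4268) (nat_lit 0x800400200d) (nat_lit 0x2002000000801002004000400102002000000801802004003d001004)) (.cD (nat_lit 653) (.kS (nat_lit 0) (nat_lit 0x8018020040002020020000002) (nat_lit 4396) (nat_lit 0x800400200d) (nat_lit 0x2002000000801002004000400102002000000801802004000d001004)) (.cD (nat_lit 717) (.kS (nat_lit 0) (nat_lit 0x8018020040002020020000002) (nat_lit 4140) (nat_lit 0x800400200d) (nat_lit 0x2002000000801002004000400102002000000801802004001d001004)) (.cD (nat_lit 781) (.kS (nat_lit 0) (nat_lit 0x8018020040002020020000002) (nat_lit 4332) (nat_lit 0x800400200d) (nat_lit 0x20020000008010020040004001020020000008018020040035001004)) (.cD (nat_lit 845) (.kS (nat_lit 0) (nat_lit 0x8018020040002020020000002)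 (nat_lit 4588) (nat_lit 0x800400200d) (nat_lit 0x20020000008010020040004001020020000008018020040025001004)) (.cD (nat_lit 909) (.kS (nat_lit 0) (nat_lit 0x10018020040002001) (nat_lit 0x13e1110) (nat_lit 0x800400200d010008004006005) (nat_lit 0x1800802004003500a001008010020040004002001010018020040079012001003)) (.cD (nat_lit 973) (.kS (nat_lit 0) (nat_lit 0x8018020040002020020000002) (nat_lit 0x116c0d0) (nat_lit 0x800400200d010008004006005) (nat_lit 0x2002000000801002004000400200102002000000801802004000502a001004)) .nil))))))))) (.cD (nat_lit 144) (.dfs (nat_lit 33) (nat_lit 0x100800c010020) (nat_lit 0x100800c010024) (nat_lit 0x1004002001) (nat_lit 0x1004016001) (nat_lit 20) (nat_lit 0) (nat_lit 2) (nat_lit 0) (nat_lit 0) (nat_lit 13) (nat_lit 1) (nat_lit 0) (nat_lit 1) (nat_lit 0) (nat_lit 1) (nat_lit 0x2000000000000000200000000000000020000000000000002000000000000000200000000000000020000000000000002000000000000000200000000000000000000000000000000000000000000000000000000000000000000000000000000000000000000000000000000000000000000000000000000000)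 (.cD (nat_lit 525) (.kS (nat_lit 0) (nat_lit 0x8018020040002020020000002) (nat_lit 4524) (nat_lit 0x800400200d) (nat_lit 0x2002000000801002004000400102002000000801802004002d001004)) (.cD (nat_lit 589) (.kS (nat_lit 0) (nat_lit 0x8018020040002020020000002) (nat_lit 4268) (nat_lit 0x800400200d) (nat_lit 0x2002000000801002004000400102002000000801802004003d001004)) (.cD (nat_lit 653) (.kS (nat_lit 0) (nat_lit 0x8018020040002020020000002) (nat_lit 4396) (nat_lit 0x800400200d) (nat_lit 0x2002000000801002004000400102002000000801802004000d001004)) (.cD (nat_lit 717) (.kS (nat_lit 0) (nat_lit 0x8018020040002020020000002) (nat_lit 4140) (nat_lit 0x800400200d) (nat_lit 0x2002000000801002004000400102002000000801802004001d001004)) (.cD (nat_lit 781) (.kS (nat_lit 0) (nat_lit 0x8018020040002020020000002) (nat_lit 4332) (nat_lit 0x800400200d) (nat_lit 0x20020000008010020040004001020020000008018020040035001004)) (.cD (nat_lit 845) (.kS (nat_lit 0) (nat_lit 0x8018020040002020020000002)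 (nat_lit 4588) (nat_lit 0x800400200d) (nat_lit 0x20020000008010020040004001020020000008018020040025001004)) (.cD (nat_lit 909) (.kS (nat_lit 0) (nat_lit 0x8018020040002020020000002) (nat_lit 0x106c150) (nat_lit 0x800400200d010008004006005) (nat_lit 0x2002000000801002004000400200102002000000801802004001501a001004)) (.cD (nat_lit 973) (.kS (nat_lit 0) (nat_lit 0x8018020040002020020000002) (nat_lit 0x116c150) (nat_lit 0x800400200d010008004006005) (nat_lit 0x2002000000801002004000400200102002000000801802004000501a001004)) .nil))))))))) (.cD (nat_lit 208) (.dfs (nat_lit 33) (nat_lit 0x100800c010020) (nat_lit 0x100800c010024) (nat_lit 0x1004002001) (nat_lit 0x1004016001) (nat_lit 20) (nat_lit 0) (nat_lit 2) (nat_lit 0) (nat_lit 0) (nat_lit 13) (nat_lit 1) (nat_lit 0) (nat_lit 1) (nat_lit 0) (nat_lit 1) (nat_lit 0x2000000000000000200000000000000020000000000000002000000000000000200000000000000020000000000000002000000000000000200000000000000000000000000000000000000000000000000000000000000000000000000000000000000000000000000000000000000000000000000000000000)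 (.cD (nat_lit 525) (.kS (nat_lit 0) (nat_lit 0x8018020040002020020000002) (nat_lit 4524) (nat_lit 0x800400200d) (nat_lit 0x2002000000801002004000400102002000000801802004002d001004)) (.cD (nat_lit 589) (.kS (nat_lit 0) (nat_lit 0x8018020040002020020000002) (nat_lit 4268) (nat_lit 0x800400200d) (nat_lit 0x2002000000801002004000400102002000000801802004003d001004)) (.cD (nat_lit 653) (.kS (nat_lit 0) (nat_lit 0x8018020040002020020000002) (nat_lit 4396) (nat_lit 0x800400200d) (nat_lit 0x2002000000801002004000400102002000000801802004000d001004)) (.cD (nat_lit 717) (.kS (nat_lit 0) (nat_lit 0x8018020040002020020000002) (nat_lit 4140) (nat_lit 0x800400200d) (nat_lit 0x2002000000801002004000400102002000000801802004001d001004)) (.cD (nat_lit 781) (.kS (nat_lit 0) (nat_lit 0x8018020040002020020000002) (nat_lit 4332) (nat_lit 0x800400200d) (nat_lit 0x20020000008010020040004001020020000008018020040035001004)) (.cD (nat_lit 845) (.kS (nat_lit 0) (nat_lit 0x8018020040002020020000002)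 (nat_lit 4588) (nat_lit 0x800400200d) (nat_lit 0x20020000008010020040004001020020000008018020040025001004)) (.cD (nat_lit 909) (.iso x28 s51 (nat_lit 0) (nat_lit 0x1200100080040020010008004002181) (nat_lit 0x200100080040020010008004002181) [(nat_lit 0x40020010008034002031001001), (nat_lit 0x80040020010008004002001003001)] (.cut (nat_lit 0))) (.cD (nat_lit 973) (.kS (nat_lit 0) (nat_lit 0x8018020040002020020000002) (nat_lit 0x116c050) (nat_lit 0x800400200d010008004006005) (nat_lit 0x2002000000801002004000400200102002000000801802004000500a001004)) .nil))))))))) (.cD (nat_lit 272) (.dfs (nat_lit 33) (nat_lit 0x100800c010020) (nat_lit 0x100800c010024) (nat_lit 0x1004002001) (nat_lit 0x1004016001) (nat_lit 20) (nat_lit 0) (nat_lit 2) (nat_lit 0) (nat_lit 0) (nat_lit 13) (nat_lit 1) (nat_lit 0) (nat_lit 1) (nat_lit 0) (nat_lit 1) (nat_lit 0x2000000000000000200000000000000020000000000000002000000000000000200000000000000020000000000000002000000000000000200000000000000000000000000000000000000000000000000000000000000000000000000000000000000000000000000000000000000000000000000000000000)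 (.cD (nat_lit 525) (.kS (nat_lit 0) (nat_lit 0x8018020040002020020000002) (nat_lit 4524) (nat_lit 0x800400200d) (nat_lit 0x2002000000801002004000400102002000000801802004002d001004)) (.cD (nat_lit 589) (.kS (nat_lit 0) (nat_lit 0x8018020040002020020000002) (nat_lit 4268) (nat_lit 0x800400200d) (nat_lit 0x2002000000801002004000400102002000000801802004003d001004)) (.cD (nat_lit 653) (.kS (nat_lit 0) (nat_lit 0x8018020040002020020000002) (nat_lit 4396) (nat_lit 0x800400200d) (nat_lit 0x2002000000801002004000400102002000000801802004000d001004)) (.cD (nat_lit 717) (.kS (nat_lit 0) (nat_lit 0x8018020040002020020000002) (nat_lit 4140) (nat_lit 0x800400200d) (nat_lit 0x2002000000801002004000400102002000000801802004001d001004)) (.cD (nat_lit 781) (.kS (nat_lit 0) (nat_lit 0x8018020040002020020000002) (nat_lit 4332) (nat_lit 0x800400200d) (nat_lit 0x20020000008010020040004001020020000008018020040035001004)) (.cD (nat_lit 845) (.kS (nat_lit 0) (nat_lit 0x8018020040002020020000002)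 (nat_lit 4588) (nat_lit 0x800400200d) (nat_lit 0x20020000008010020040004001020020000008018020040025001004)) (.cD (nat_lit 909) (.kS (nat_lit 0) (nat_lit 0x10018020040002001) (nat_lit 0x13e1150) (nat_lit 0x800400200d010008004006005) (nat_lit 0x1800802004003501200100801002004000400200101001802004007901a001003)) (.cD (nat_lit 973) (.kS (nat_lit 0) (nat_lit 0x8018020040002020020000002) (nat_lit 0x116c090) (nat_lit 0x800400200d010008004006005) (nat_lit 0x20020000008010020040004002001020020000008018020040005022001004)) .nil))))))))) (.cD (nat_lit 336) (.dfs (nat_lit 33) (nat_lit 0x100800c010020) (nat_lit 0x100800c010024) (nat_lit 0x1004002001) (nat_lit 0x1004016001) (nat_lit 20) (nat_lit 0) (nat_lit 2) (nat_lit 0) (nat_lit 0) (nat_lit 13) (nat_lit 1) (nat_lit 0) (nat_lit 1) (nat_lit 0) (nat_lit 1) (nat_lit 0x2000000000000000200000000000000020000000000000002000000000000000200000000000000020000000000000002000000000000000200000000000000000000000000000000000000000000000000000000000000000000000000000000000000000000000000000000000000000000000000000000000)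 (.cD (nat_lit 525) (.kS (nat_lit 0) (nat_lit 0x8018020040002020020000002) (nat_lit 4524) (nat_lit 0x800400200d) (nat_lit 0x2002000000801002004000400102002000000801802004002d001004)) (.cD (nat_lit 589) (.kS (nat_lit 0) (nat_lit 0x8018020040002020020000002) (nat_lit 4268) (nat_lit 0x800400200d) (nat_lit 0x2002000000801002004000400102002000000801802004003d001004)) (.cD (nat_lit 653) (.kS (nat_lit 0) (nat_lit 0x8018020040002020020000002) (nat_lit 4396) (nat_lit 0x800400200d) (nat_lit 0x2002000000801002004000400102002000000801802004000d001004)) (.cD (nat_lit 717) (.kS (nat_lit 0) (nat_lit 0x8018020040002020020000002) (nat_lit 4140) (nat_lit 0x800400200d) (nat_lit 0x2002000000801002004000400102002000000801802004001d001004)) (.cD (nat_lit 781) (.kS (nat_lit 0) (nat_lit 0x8018020040002020020000002) (nat_lit 4332) (nat_lit 0x800400200d) (nat_lit 0x20020000008010020040004001020020000008018020040035001004)) (.cD (nat_lit 845) (.kS (nat_lit 0) (nat_lit 0x8018020040002020020000002)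 (nat_lit 4588) (nat_lit 0x800400200d) (nat_lit 0x20020000008010020040004001020020000008018020040025001004)) (.cD (nat_lit 909) (.kS (nat_lit 0) (nat_lit 0x8018020040002020020000002) (nat_lit 0x106c190) (nat_lit 0x800400200d010008004006005) (nat_lit 0x20020000008010020040004002001020020000008018020040015032001004)) (.cD (nat_lit 973) (.kS (nat_lit 0) (nat_lit 0x8018020040002020020000002) (nat_lit 0x116c190) (nat_lit 0x800400200d010008004006005) (nat_lit 0x20020000008010020040004002001020020000008018020040005032001004)) .nil))))))))) (.cD (nat_lit 400) (.dfs (nat_lit 33) (nat_lit 0x100800c010020) (nat_lit 0x100800c010024) (nat_lit 0x1004002001) (nat_lit 0x1004016001) (nat_lit 20) (nat_lit 0) (nat_lit 2) (nat_lit 0) (nat_lit 0) (nat_lit 13) (nat_lit 1) (nat_lit 0) (nat_lit 1) (nat_lit 0) (nat_lit 1) (nat_lit 0x2000000000000000200000000000000020000000000000002000000000000000200000000000000020000000000000002000000000000000200000000000000000000000000000000000000000000000000000000000000000000000000000000000000000000000000000000000000000000000000000000000)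 (.cD (nat_lit 525) (.kS (nat_lit 0) (nat_lit 0x8018020040002020020000002) (nat_lit 4524) (nat_lit 0x800400200d) (nat_lit 0x2002000000801002004000400102002000000801802004002d001004)) (.cD (nat_lit 589) (.kS (nat_lit 0) (nat_lit 0x8018020040002020020000002) (nat_lit 4268) (nat_lit 0x800400200d) (nat_lit 0x2002000000801002004000400102002000000801802004003d001004)) (.cD (nat_lit 653) (.kS (nat_lit 0) (nat_lit 0x8018020040002020020000002) (nat_lit 4396) (nat_lit 0x800400200d) (nat_lit 0x2002000000801002004000400102002000000801802004000d001004)) (.cD (nat_lit 717) (.kS (nat_lit 0) (nat_lit 0x8018020040002020020000002) (nat_lit 4140) (nat_lit 0x800400200d) (nat_lit 0x2002000000801002004000400102002000000801802004001d001004)) (.cD (nat_lit 781) (.kS (nat_lit 0) (nat_lit 0x8018020040002020020000002) (nat_lit 4332) (nat_lit 0x800400200d) (nat_lit 0x20020000008010020040004001020020000008018020040035001004)) (.cD (nat_lit 845) (.kS (nat_lit 0) (nat_lit 0x8018020040002020020000002)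 (nat_lit 4588) (nat_lit 0x800400200d) (nat_lit 0x20020000008010020040004001020020000008018020040025001004)) (.cD (nat_lit 909) (.kS (nat_lit 0) (nat_lit 0x1800802001600231600a000010018020040002003) (nat_lit 0x12a1190) (nat_lit 0x800400200d010008004006005) (nat_lit 0x600600000801002002f04100200100600600001001802004007903a00100a316000018008020016061032001006)) (.cD (nat_lit 973) (.kS (nat_lit 0) (nat_lit 0x8018020040002020020000002) (nat_lit 0x116c010) (nat_lit 0x800400200d010008004006005) (nat_lit 0x20020000008010020040004002001020020000008018020040005002001004)) .nil))))))))) (.cD (nat_lit 464) (.dfs (nat_lit 33) (nat_lit 0x100800c010020) (nat_lit 0x100800c010024) (nat_lit 0x1004002001) (nat_lit 0x1004016001) (nat_lit 20) (nat_lit 0) (nat_lit 2) (nat_lit 0) (nat_lit 0) (nat_lit 13) (nat_lit 1) (nat_lit 0) (nat_lit 1) (nat_lit 0) (nat_lit 1) (nat_lit 0x2000000000000000200000000000000020000000000000002000000000000000200000000000000020000000000000002000000000000000200000000000000000000000000000000000000000000000000000000000000000000000000000000000000000000000000000000000000000000000000000000000)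 (.cD (nat_lit 525) (.kS (nat_lit 0) (nat_lit 0x8018020040002020020000002) (nat_lit 4524) (nat_lit 0x800400200d) (nat_lit 0x2002000000801002004000400102002000000801802004002d001004)) (.cD (nat_lit 589) (.kS (nat_lit 0) (nat_lit 0x8018020040002020020000002) (nat_lit 4268) (nat_lit 0x800400200d) (nat_lit 0x2002000000801002004000400102002000000801802004003d001004)) (.cD (nat_lit 653) (.kS (nat_lit 0) (nat_lit 0x8018020040002020020000002) (nat_lit 4396) (nat_lit 0x800400200d) (nat_lit 0x2002000000801002004000400102002000000801802004000d001004)) (.cD (nat_lit 717) (.kS (nat_lit 0) (nat_lit 0x8018020040002020020000002) (nat_lit 4140) (nat_lit 0x800400200d) (nat_lit 0x2002000000801002004000400102002000000801802004001d001004)) (.cD (nat_lit 781) (.kS (nat_lit 0) (nat_lit 0x8018020040002020020000002) (nat_lit 4332) (nat_lit 0x800400200d) (nat_lit 0x20020000008010020040004001020020000008018020040035001004)) (.cD (nat_lit 845) (.kS (nat_lit 0) (nat_lit 0x8018020040002020020000002)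 (nat_lit 4588) (nat_lit 0x800400200d) (nat_lit 0x20020000008010020040004001020020000008018020040025001004)) (.cD (nat_lit 909) (.kS (nat_lit 0) (nat_lit 0x8018020040002020020000002) (nat_lit 0x106c110) (nat_lit 0x800400200d010008004006005) (nat_lit 0x20020000008010020040004002001020020000008018020040015012001004)) (.cD (nat_lit 973) (.kS (nat_lit 0) (nat_lit 0x8018020040002020020000002) (nat_lit 0x116c110) (nat_lit 0x800400200d010008004006005) (nat_lit 0x20020000008010020040004002001020020000008018020040005012001004)) .nil))))))))) .nil)))))))))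
theorem c52 : (chk [(x28, s51)] [g179] p52).n x28 s52 = true := by decide +kernel
noncomputable def p53 : Pf := (.dfs (nat_lit 16) (nat_lit 0x1004006008010) (nat_lit 0x1004006008018) (nat_lit 0x1002001) (nat_lit 0x1002009) (nat_lit 0) (nat_lit 0) (nat_lit 2) (nat_lit 0) (nat_lit 0) (nat_lit 16) (nat_lit 1) (nat_lit 0) (nat_lit 1) (nat_lit 0) (nat_lit 1) (nat_lit 0x100000000000000010000000000000001000000000000000100000000000000010000000000000001000000000000000100000000000000010000) (.cD (nat_lit 16) (.dfs (nat_lit 33) (nat_lit 0x100800c010020) (nat_lit 0x100800c010024) (nat_lit 0x1004002001) (nat_lit 0x1004016001) (nat_lit 20) (nat_lit 0) (nat_lit 2) (nat_lit 0) (nat_lit 0) (nat_lit 13) (nat_lit 1) (nat_lit 0) (nat_lit 1) (nat_lit 0) (nat_lit 1) (nat_lit 0x2000000000000000200000000000000020000000000000002000000000000000200000000000000020000000000000002000000000000000200000000000000000000000000000000000000000000000000000000000000000000000000000000000000000000000000000000000000000000000000000000000)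 (.cD (nat_lit 525) (.kS (nat_lit 0) (nat_lit 0x8018020040002020020000002) (nat_lit 4268) (nat_lit 0x800400200d) (nat_lit 0x2002000000801002004000400102002000000801802004003d001004)) (.cD (nat_lit 589) (.kS (nat_lit 0) (nat_lit 0x8018020040002020020000002) (nat_lit 4524) (nat_lit 0x800400200d) (nat_lit 0x2002000000801002004000400102002000000801802004002d001004)) (.cD (nat_lit 653) (.kS (nat_lit 0) (nat_lit 0x8018020040002020020000002) (nat_lit 0x102c1d0) (nat_lit 0x800400200d010008004006005) (nat_lit 0x2002000000801002004000400200102002000000801802004001d03a001004)) (.cD (nat_lit 717) (.kS (nat_lit 0) (nat_lit 0x8018020040002020020000002) (nat_lit 0x112c1d0) (nat_lit 0x800400200d010008004006005) (nat_lit 0x2002000000801002004000400200102002000000801802004000d03a001004)) (.cD (nat_lit 781) (.kS (nat_lit 0) (nat_lit 0x8018020040002020020000002) (nat_lit 4588) (nat_lit 0x800400200d) (nat_lit 0x20020000008010020040004001020020000008018020040025001004)) (.cD (nat_lit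 845) (.kS (nat_lit 0) (nat_lit 0x8018020040002020020000002) (nat_lit 4332) (nat_lit 0x800400200d) (nat_lit 0x20020000008010020040004001020020000008018020040035001004)) (.cD (nat_lit 909) (.kS (nat_lit 0) (nat_lit 0x8018020040002020020000002) (nat_lit 4460) (nat_lit 0x800400200d) (nat_lit 0x20020000008010020040004001020020000008018020040005001004)) (.cD (nat_lit 973) (.kS (nat_lit 0) (nat_lit 0x8018020040002020020000002) (nat_lit 4204) (nat_lit 0x800400200d) (nat_lit 0x20020000008010020040004001020020000008018020040015001004)) .nil))))))))) (.cD (nat_lit 80) (.dfs (nat_lit 33) (nat_lit 0x100800c010020) (nat_lit 0x100800c010024) (nat_lit 0x1004002001) (nat_lit 0x1004016001) (nat_lit 20) (nat_lit 0) (nat_lit 2) (nat_lit 0) (nat_lit 0) (nat_lit 13) (nat_lit 1) (nat_lit 0) (nat_lit 1) (nat_lit 0) (nat_lit 1) (nat_lit 0x2000000000000000200000000000000020000000000000002000000000000000200000000000000020000000000000002000000000000000200000000000000000000000000000000000000000000000000000000000000000000000000000000000000000000000000000000000000000000000000000000000)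 (.cD (nat_lit 525) (.kS (nat_lit 0) (nat_lit 0x8018020040002020020000002) (nat_lit 4268) (nat_lit 0x800400200d) (nat_lit 0x2002000000801002004000400102002000000801802004003d001004)) (.cD (nat_lit 589) (.kS (nat_lit 0) (nat_lit 0x8018020040002020020000002) (nat_lit 4524) (nat_lit 0x800400200d) (nat_lit 0x2002000000801002004000400102002000000801802004002d001004)) (.cD (nat_lit 653) (.kS (nat_lit 0) (nat_lit 0x8018020040002020020000002) (nat_lit 0x102c0d0) (nat_lit 0x800400200d010008004006005) (nat_lit 0x2002000000801002004000400200102002000000801802004001d02a001004)) (.cD (nat_lit 717) (.kS (nat_lit 0) (nat_lit 0x10018020040002001) (nat_lit 0x13a1110) (nat_lit 0x800400200d010008004006005) (nat_lit 0x1800802004003d00a001008010020040004002001010018020040071012001003)) (.cD (nat_lit 781) (.kS (nat_lit 0) (nat_lit 0x8018020040002020020000002) (nat_lit 4588) (nat_lit 0x800400200d) (nat_lit 0x20020000008010020040004001020020000008018020040025001004)) (.cD (nat_lit 845)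 (.kS (nat_lit 0) (nat_lit 0x8018020040002020020000002) (nat_lit 4332) (nat_lit 0x800400200d) (nat_lit 0x20020000008010020040004001020020000008018020040035001004)) (.cD (nat_lit 909) (.kS (nat_lit 0) (nat_lit 0x8018020040002020020000002) (nat_lit 4460) (nat_lit 0x800400200d) (nat_lit 0x20020000008010020040004001020020000008018020040005001004)) (.cD (nat_lit 973) (.kS (nat_lit 0) (nat_lit 0x8018020040002020020000002) (nat_lit 4204) (nat_lit 0x800400200d) (nat_lit 0x20020000008010020040004001020020000008018020040015001004)) .nil))))))))) (.cD (nat_lit 144) (.dfs (nat_lit 33) (nat_lit 0x100800c010020) (nat_lit 0x100800c010024) (nat_lit 0x1004002001) (nat_lit 0x1004016001) (nat_lit 20) (nat_lit 0) (nat_lit 2) (nat_lit 0) (nat_lit 0) (nat_lit 13) (nat_lit 1) (nat_lit 0) (nat_lit 1) (nat_lit 0) (nat_lit 1) (nat_lit 0x2000000000000000200000000000000020000000000000002000000000000000200000000000000020000000000000002000000000000000200000000000000000000000000000000000000000000000000000000000000000000000000000000000000000000000000000000000000000000000000000000000)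 (.cD (nat_lit 525) (.kS (nat_lit 0) (nat_lit 0x8018020040002020020000002) (nat_lit 4268) (nat_lit 0x800400200d) (nat_lit 0x2002000000801002004000400102002000000801802004003d001004)) (.cD (nat_lit 589) (.kS (nat_lit 0) (nat_lit 0x8018020040002020020000002) (nat_lit 4524) (nat_lit 0x800400200d) (nat_lit 0x2002000000801002004000400102002000000801802004002d001004)) (.cD (nat_lit 653) (.kS (nat_lit 0) (nat_lit 0x8018020040002020020000002) (nat_lit 0x102c150) (nat_lit 0x800400200d010008004006005) (nat_lit 0x2002000000801002004000400200102002000000801802004001d01a001004)) (.cD (nat_lit 717) (.kS (nat_lit 0) (nat_lit 0x8018020040002020020000002) (nat_lit 0x112c150) (nat_lit 0x800400200d010008004006005) (nat_lit 0x2002000000801002004000400200102002000000801802004000d01a001004)) (.cD (nat_lit 781) (.kS (nat_lit 0) (nat_lit 0x8018020040002020020000002) (nat_lit 4588) (nat_lit 0x800400200d) (nat_lit 0x20020000008010020040004001020020000008018020040025001004)) (.cD (nat_lit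 845) (.kS (nat_lit 0) (nat_lit 0x8018020040002020020000002) (nat_lit 4332) (nat_lit 0x800400200d) (nat_lit 0x20020000008010020040004001020020000008018020040035001004)) (.cD (nat_lit 909) (.kS (nat_lit 0) (nat_lit 0x8018020040002020020000002) (nat_lit 4460) (nat_lit 0x800400200d) (nat_lit 0x20020000008010020040004001020020000008018020040005001004)) (.cD (nat_lit 973) (.kS (nat_lit 0) (nat_lit 0x8018020040002020020000002) (nat_lit 4204) (nat_lit 0x800400200d) (nat_lit 0x20020000008010020040004001020020000008018020040015001004)) .nil))))))))) (.cD (nat_lit 208) (.dfs (nat_lit 33) (nat_lit 0x100800c010020) (nat_lit 0x100800c010024) (nat_lit 0x1004002001) (nat_lit 0x1004016001) (nat_lit 20) (nat_lit 0) (nat_lit 2) (nat_lit 0) (nat_lit 0) (nat_lit 13) (nat_lit 1) (nat_lit 0) (nat_lit 1) (nat_lit 0) (nat_lit 1) (nat_lit 0x2000000000000000200000000000000020000000000000002000000000000000200000000000000020000000000000002000000000000000200000000000000000000000000000000000000000000000000000000000000000000000000000000000000000000000000000000000000000000000000000000000)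 (.cD (nat_lit 525) (.kS (nat_lit 0) (nat_lit 0x8018020040002020020000002) (nat_lit 4268) (nat_lit 0x800400200d) (nat_lit 0x2002000000801002004000400102002000000801802004003d001004)) (.cD (nat_lit 589) (.kS (nat_lit 0) (nat_lit 0x8018020040002020020000002) (nat_lit 4524) (nat_lit 0x800400200d) (nat_lit 0x2002000000801002004000400102002000000801802004002d001004)) (.cD (nat_lit 653) (.kS (nat_lit 0) (nat_lit 0x8018020040002020020000002) (nat_lit 0x102c050) (nat_lit 0x800400200d010008004006005) (nat_lit 0x2002000000801002004000400200102002000000801802004001d00a001004)) (.cD (nat_lit 717) (.iso x28 s51 (nat_lit 0) (nat_lit 0x1200100080040020010188184002081) (nat_lit 0x200100080040020010188184002081) [(nat_lit 0x40020010008024002021001001), (nat_lit 0x80040020010008004002041003001)] (.cut (nat_lit 0))) (.cD (nat_lit 781) (.kS (nat_lit 0) (nat_lit 0x8018020040002020020000002) (nat_lit 4588) (nat_lit 0x800400200d) (nat_lit 0x20020000008010020040004001020020000008018020040025001004))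 (.cD (nat_lit 845) (.kS (nat_lit 0) (nat_lit 0x8018020040002020020000002) (nat_lit 4332) (nat_lit 0x800400200d) (nat_lit 0x20020000008010020040004001020020000008018020040035001004)) (.cD (nat_lit 909) (.kS (nat_lit 0) (nat_lit 0x8018020040002020020000002) (nat_lit 4460) (nat_lit 0x800400200d) (nat_lit 0x20020000008010020040004001020020000008018020040005001004)) (.cD (nat_lit 973) (.kS (nat_lit 0) (nat_lit 0x8018020040002020020000002) (nat_lit 4204) (nat_lit 0x800400200d) (nat_lit 0x20020000008010020040004001020020000008018020040015001004)) .nil))))))))) (.cD (nat_lit 272) (.dfs (nat_lit 33) (nat_lit 0x100800c010020) (nat_lit 0x100800c010024) (nat_lit 0x1004002001) (nat_lit 0x1004016001) (nat_lit 20) (nat_lit 0) (nat_lit 2) (nat_lit 0) (nat_lit 0) (nat_lit 13) (nat_lit 1) (nat_lit 0) (nat_lit 1) (nat_lit 0) (nat_lit 1) (nat_lit 0x2000000000000000200000000000000020000000000000002000000000000000200000000000000020000000000000002000000000000000200000000000000000000000000000000000000000000000000000000000000000000000000000000000000000000000000000000000000000000000000000000000)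 (.cD (nat_lit 525) (.kS (nat_lit 0) (nat_lit 0x8018020040002020020000002) (nat_lit 4268) (nat_lit 0x800400200d) (nat_lit 0x2002000000801002004000400102002000000801802004003d001004)) (.cD (nat_lit 589) (.kS (nat_lit 0) (nat_lit 0x8018020040002020020000002) (nat_lit 4524) (nat_lit 0x800400200d) (nat_lit 0x2002000000801002004000400102002000000801802004002d001004)) (.cD (nat_lit 653) (.kS (nat_lit 0) (nat_lit 0x8018020040002020020000002) (nat_lit 0x102c090) (nat_lit 0x800400200d010008004006005) (nat_lit 0x2002000000801002004000400200102002000000801802004001d022001004)) (.cD (nat_lit 717) (.kS (nat_lit 0) (nat_lit 0x10018020040002001) (nat_lit 0x13a1150) (nat_lit 0x800400200d010008004006005) (nat_lit 0x1800802004003d01200100801002004000400200101001802004007101a001003)) (.cD (nat_lit 781) (.kS (nat_lit 0) (nat_lit 0x8018020040002020020000002) (nat_lit 4588) (nat_lit 0x800400200d) (nat_lit 0x20020000008010020040004001020020000008018020040025001004)) (.cD (nat_lit 845)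 (.kS (nat_lit 0) (nat_lit 0x8018020040002020020000002) (nat_lit 4332) (nat_lit 0x800400200d) (nat_lit 0x20020000008010020040004001020020000008018020040035001004)) (.cD (nat_lit 909) (.kS (nat_lit 0) (nat_lit 0x8018020040002020020000002) (nat_lit 4460) (nat_lit 0x800400200d) (nat_lit 0x20020000008010020040004001020020000008018020040005001004)) (.cD (nat_lit 973) (.kS (nat_lit 0) (nat_lit 0x8018020040002020020000002) (nat_lit 4204) (nat_lit 0x800400200d) (nat_lit 0x20020000008010020040004001020020000008018020040015001004)) .nil))))))))) (.cD (nat_lit 336) (.dfs (nat_lit 33) (nat_lit 0x100800c010020) (nat_lit 0x100800c010024) (nat_lit 0x1004002001) (nat_lit 0x1004016001) (nat_lit 20) (nat_lit 0) (nat_lit 2) (nat_lit 0) (nat_lit 0) (nat_lit 13) (nat_lit 1) (nat_lit 0) (nat_lit 1) (nat_lit 0) (nat_lit 1) (nat_lit 0x2000000000000000200000000000000020000000000000002000000000000000200000000000000020000000000000002000000000000000200000000000000000000000000000000000000000000000000000000000000000000000000000000000000000000000000000000000000000000000000000000000)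 (.cD (nat_lit 525) (.kS (nat_lit 0) (nat_lit 0x8018020040002020020000002) (nat_lit 4268) (nat_lit 0x800400200d) (nat_lit 0x2002000000801002004000400102002000000801802004003d001004)) (.cD (nat_lit 589) (.kS (nat_lit 0) (nat_lit 0x8018020040002020020000002) (nat_lit 4524) (nat_lit 0x800400200d) (nat_lit 0x2002000000801002004000400102002000000801802004002d001004)) (.cD (nat_lit 653) (.kS (nat_lit 0) (nat_lit 0x8018020040002020020000002) (nat_lit 0x102c190) (nat_lit 0x800400200d010008004006005) (nat_lit 0x2002000000801002004000400200102002000000801802004001d032001004)) (.cD (nat_lit 717) (.kS (nat_lit 0) (nat_lit 0x8018020040002020020000002) (nat_lit 0x112c190) (nat_lit 0x800400200d010008004006005) (nat_lit 0x2002000000801002004000400200102002000000801802004000d032001004)) (.cD (nat_lit 781) (.kS (nat_lit 0) (nat_lit 0x8018020040002020020000002) (nat_lit 4588) (nat_lit 0x800400200d) (nat_lit 0x20020000008010020040004001020020000008018020040025001004)) (.cD (nat_lit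 845) (.kS (nat_lit 0) (nat_lit 0x8018020040002020020000002) (nat_lit 4332) (nat_lit 0x800400200d) (nat_lit 0x20020000008010020040004001020020000008018020040035001004)) (.cD (nat_lit 909) (.kS (nat_lit 0) (nat_lit 0x8018020040002020020000002) (nat_lit 4460) (nat_lit 0x800400200d) (nat_lit 0x20020000008010020040004001020020000008018020040005001004)) (.cD (nat_lit 973) (.kS (nat_lit 0) (nat_lit 0x8018020040002020020000002) (nat_lit 4204) (nat_lit 0x800400200d) (nat_lit 0x20020000008010020040004001020020000008018020040015001004)) .nil))))))))) (.cD (nat_lit 400) (.dfs (nat_lit 33) (nat_lit 0x100800c010020) (nat_lit 0x100800c010024) (nat_lit 0x1004002001) (nat_lit 0x1004016001) (nat_lit 20) (nat_lit 0) (nat_lit 2) (nat_lit 0) (nat_lit 0) (nat_lit 13) (nat_lit 1) (nat_lit 0) (nat_lit 1) (nat_lit 0) (nat_lit 1) (nat_lit 0x2000000000000000200000000000000020000000000000002000000000000000200000000000000020000000000000002000000000000000200000000000000000000000000000000000000000000000000000000000000000000000000000000000000000000000000000000000000000000000000000000000)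 (.cD (nat_lit 525) (.kS (nat_lit 0) (nat_lit 0x8018020040002020020000002) (nat_lit 4268) (nat_lit 0x800400200d) (nat_lit 0x2002000000801002004000400102002000000801802004003d001004)) (.cD (nat_lit 589) (.kS (nat_lit 0) (nat_lit 0x8018020040002020020000002) (nat_lit 4524) (nat_lit 0x800400200d) (nat_lit 0x2002000000801002004000400102002000000801802004002d001004)) (.cD (nat_lit 653) (.kS (nat_lit 0) (nat_lit 0x8018020040002020020000002) (nat_lit 0x102c010) (nat_lit 0x800400200d010008004006005) (nat_lit 0x2002000000801002004000400200102002000000801802004001d002001004)) (.cD (nat_lit 717) (.kS (nat_lit 0) (nat_lit 0x1800802000600231600a000010018020040002003) (nat_lit 0x13e1190) (nat_lit 0x800400200d010008004006005) (nat_lit 0x600600000801002002f04100200100600600001001802004007103a00100a316000018008020006079032001006)) (.cD (nat_lit 781) (.kS (nat_lit 0) (nat_lit 0x8018020040002020020000002) (nat_lit 4588) (nat_lit 0x800400200d) (nat_lit 0x20020000008010020040004001020020000008018020040025001004))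 (.cD (nat_lit 845) (.kS (nat_lit 0) (nat_lit 0x8018020040002020020000002) (nat_lit 4332) (nat_lit 0x800400200d) (nat_lit 0x20020000008010020040004001020020000008018020040035001004)) (.cD (nat_lit 909) (.kS (nat_lit 0) (nat_lit 0x8018020040002020020000002) (nat_lit 4460) (nat_lit 0x800400200d) (nat_lit 0x20020000008010020040004001020020000008018020040005001004)) (.cD (nat_lit 973) (.kS (nat_lit 0) (nat_lit 0x8018020040002020020000002) (nat_lit 4204) (nat_lit 0x800400200d) (nat_lit 0x20020000008010020040004001020020000008018020040015001004)) .nil))))))))) (.cD (nat_lit 464) (.dfs (nat_lit 33) (nat_lit 0x100800c010020) (nat_lit 0x100800c010024) (nat_lit 0x1004002001) (nat_lit 0x1004016001) (nat_lit 20) (nat_lit 0) (nat_lit 2) (nat_lit 0) (nat_lit 0) (nat_lit 13) (nat_lit 1) (nat_lit 0) (nat_lit 1) (nat_lit 0) (nat_lit 1) (nat_lit 0x2000000000000000200000000000000020000000000000002000000000000000200000000000000020000000000000002000000000000000200000000000000000000000000000000000000000000000000000000000000000000000000000000000000000000000000000000000000000000000000000000000)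 (.cD (nat_lit 525) (.kS (nat_lit 0) (nat_lit 0x8018020040002020020000002) (nat_lit 4268) (nat_lit 0x800400200d) (nat_lit 0x2002000000801002004000400102002000000801802004003d001004)) (.cD (nat_lit 589) (.kS (nat_lit 0) (nat_lit 0x8018020040002020020000002) (nat_lit 4524) (nat_lit 0x800400200d) (nat_lit 0x2002000000801002004000400102002000000801802004002d001004)) (.cD (nat_lit 653) (.kS (nat_lit 0) (nat_lit 0x8018020040002020020000002) (nat_lit 0x102c110) (nat_lit 0x800400200d010008004006005) (nat_lit 0x2002000000801002004000400200102002000000801802004001d012001004)) (.cD (nat_lit 717) (.kS (nat_lit 0) (nat_lit 0x8018020040002020020000002) (nat_lit 0x112c110) (nat_lit 0x800400200d010008004006005) (nat_lit 0x2002000000801002004000400200102002000000801802004000d012001004)) (.cD (nat_lit 781) (.kS (nat_lit 0) (nat_lit 0x8018020040002020020000002) (nat_lit 4588) (nat_lit 0x800400200d) (nat_lit 0x20020000008010020040004001020020000008018020040025001004)) (.cD (nat_lit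 845) (.kS (nat_lit 0) (nat_lit 0x8018020040002020020000002) (nat_lit 4332) (nat_lit 0x800400200d) (nat_lit 0x20020000008010020040004001020020000008018020040035001004)) (.cD (nat_lit 909) (.kS (nat_lit 0) (nat_lit 0x8018020040002020020000002) (nat_lit 4460) (nat_lit 0x800400200d) (nat_lit 0x20020000008010020040004001020020000008018020040005001004)) (.cD (nat_lit 973) (.kS (nat_lit 0) (nat_lit 0x8018020040002020020000002) (nat_lit 4204) (nat_lit 0x800400200d) (nat_lit 0x20020000008010020040004001020020000008018020040015001004)) .nil))))))))) .nil)))))))))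
theorem c53 : (chk [(x28, s51)] [g179] p53).n x28 s53 = true := by decide +kernel
noncomputable def p54 : Pf := (.ext (nat_lit 0) (nat_lit 0) (nat_lit 0x1200080100040) (nat_lit 0x10008004002003001) (nat_lit 0x2003004008) (nat_lit 0x102101000d) (nat_lit 0x100d01002c) (nat_lit 0x900400200100c00400200100b004002001) (.dfs (nat_lit 13) (nat_lit 0x1002003004008) (nat_lit 0x100200300400b) (nat_lit 4097) (nat_lit 4097) (nat_lit 4) (nat_lit 0) (nat_lit 2) (nat_lit 0) (nat_lit 0) (nat_lit 44) (nat_lit 1) (nat_lit 0) (nat_lit 4608) (nat_lit 512) (nat_lit 0x100002c00006c0000ac0000ec) (nat_lit 0x100000000000000010000000000000001000000000000000100000000000) (.cD (nat_lit 44) (.dfs (nat_lit 16) (nat_lit 0x1004006008010) (nat_lit 0x1004006008018) (nat_lit 0x1002001) (nat_lit 0x1002009) (nat_lit 0) (nat_lit 0) (nat_lit 2) (nat_lit 0) (nat_lit 0) (nat_lit 16) (nat_lit 1) (nat_lit 0) (nat_lit 1) (nat_lit 0) (nat_lit 1) (nat_lit 0x100000000000000010000000000000001000000000000000100000000000000010000000000000001000000000000000100000000000000010000)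 (.cD (nat_lit 16) (.dfs (nat_lit 33) (nat_lit 0x100800c010020) (nat_lit 0x100800c010024) (nat_lit 0x1004002001) (nat_lit 0x1004016001) (nat_lit 20) (nat_lit 0) (nat_lit 2) (nat_lit 0) (nat_lit 0) (nat_lit 13) (nat_lit 1) (nat_lit 0) (nat_lit 1) (nat_lit 0) (nat_lit 1) (nat_lit 0x2000000000000000200000000000000020000000000000002000000000000000200000000000000020000000000000002000000000000000200000000000000000000000000000000000000000000000000000000000000000000000000000000000000000000000000000000000000000000000000000000000) (.cD (nat_lit 525) (.kS (nat_lit 0) (nat_lit 0x8018020040002020020000002) (nat_lit 4140) (nat_lit 0x800400200d) (nat_lit 0x2002000000801002004000400102002000000801802004001d001004)) (.cD (nat_lit 589) (.kS (nat_lit 0) (nat_lit 0x8018020040002020020000002) (nat_lit 4396) (nat_lit 0x800400200d) (nat_lit 0x2002000000801002004000400102002000000801802004000d001004)) (.cD (nat_lit 653) (.kS (nat_lit 0) (nat_lit 0x8018020040002020020000002) (nat_lit 0x10ac1d0)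 (nat_lit 0x800400200d010008004006005) (nat_lit 0x2002000000801002004000400200102002000000801802004003d03a001004)) (.cD (nat_lit 717) (.kS (nat_lit 0) (nat_lit 0x8018020040002020020000002) (nat_lit 0x11ac1d0) (nat_lit 0x800400200d010008004006005) (nat_lit 0x2002000000801002004000400200102002000000801802004002d03a001004)) (.cD (nat_lit 781) (.kS (nat_lit 0) (nat_lit 0x8018020040002020020000002) (nat_lit 4460) (nat_lit 0x800400200d) (nat_lit 0x20020000008010020040004001020020000008018020040005001004)) (.cD (nat_lit 845) (.kS (nat_lit 0) (nat_lit 0x8018020040002020020000002) (nat_lit 4204) (nat_lit 0x800400200d) (nat_lit 0x20020000008010020040004001020020000008018020040015001004)) (.cD (nat_lit 909) (.kS (nat_lit 0) (nat_lit 0x8018020040002020020000002) (nat_lit 4588) (nat_lit 0x800400200d) (nat_lit 0x20020000008010020040004001020020000008018020040025001004)) (.cD (nat_lit 973) (.kS (nat_lit 0) (nat_lit 0x8018020040002020020000002) (nat_lit 4332) (nat_lit 0x800400200d)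 (nat_lit 0x20020000008010020040004001020020000008018020040035001004)) .nil))))))))) (.cD (nat_lit 80) (.dfs (nat_lit 33) (nat_lit 0x100800c010020) (nat_lit 0x100800c010024) (nat_lit 0x1004002001) (nat_lit 0x1004016001) (nat_lit 20) (nat_lit 0) (nat_lit 2) (nat_lit 0) (nat_lit 0) (nat_lit 13) (nat_lit 1) (nat_lit 0) (nat_lit 1) (nat_lit 0) (nat_lit 1) (nat_lit 0x2000000000000000200000000000000020000000000000002000000000000000200000000000000020000000000000002000000000000000200000000000000000000000000000000000000000000000000000000000000000000000000000000000000000000000000000000000000000000000000000000000) (.cD (nat_lit 525) (.kS (nat_lit 0) (nat_lit 0x8018020040002020020000002) (nat_lit 4140) (nat_lit 0x800400200d) (nat_lit 0x2002000000801002004000400102002000000801802004001d001004)) (.cD (nat_lit 589) (.kS (nat_lit 0) (nat_lit 0x8018020040002020020000002) (nat_lit 4396) (nat_lit 0x800400200d) (nat_lit 0x2002000000801002004000400102002000000801802004000d001004)) (.cD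 (nat_lit 653) (.kS (nat_lit 0) (nat_lit 0x8018020040002020020000002) (nat_lit 0x10ac0d0) (nat_lit 0x800400200d010008004006005) (nat_lit 0x2002000000801002004000400200102002000000801802004003d02a001004)) (.cD (nat_lit 717) (.kS (nat_lit 0) (nat_lit 0x10018020040002001) (nat_lit 0x13a1110) (nat_lit 0x800400200d010008004006005) (nat_lit 0x1800802004001d00a001008010020040004002001010018020040071012001003)) (.cD (nat_lit 781) (.kS (nat_lit 0) (nat_lit 0x8018020040002020020000002) (nat_lit 4460) (nat_lit 0x800400200d) (nat_lit 0x20020000008010020040004001020020000008018020040005001004)) (.cD (nat_lit 845) (.kS (nat_lit 0) (nat_lit 0x8018020040002020020000002) (nat_lit 4204) (nat_lit 0x800400200d) (nat_lit 0x20020000008010020040004001020020000008018020040015001004)) (.cD (nat_lit 909) (.kS (nat_lit 0) (nat_lit 0x8018020040002020020000002) (nat_lit 4588) (nat_lit 0x800400200d) (nat_lit 0x20020000008010020040004001020020000008018020040025001004)) (.cD (nat_lit 973) (.kS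 (nat_lit 0) (nat_lit 0x8018020040002020020000002) (nat_lit 4332) (nat_lit 0x800400200d) (nat_lit 0x20020000008010020040004001020020000008018020040035001004)) .nil))))))))) (.cD (nat_lit 144) (.dfs (nat_lit 33) (nat_lit 0x100800c010020) (nat_lit 0x100800c010024) (nat_lit 0x1004002001) (nat_lit 0x1004016001) (nat_lit 20) (nat_lit 0) (nat_lit 2) (nat_lit 0) (nat_lit 0) (nat_lit 13) (nat_lit 1) (nat_lit 0) (nat_lit 1) (nat_lit 0) (nat_lit 1) (nat_lit 0x2000000000000000200000000000000020000000000000002000000000000000200000000000000020000000000000002000000000000000200000000000000000000000000000000000000000000000000000000000000000000000000000000000000000000000000000000000000000000000000000000000) (.cD (nat_lit 525) (.kS (nat_lit 0) (nat_lit 0x8018020040002020020000002) (nat_lit 4140) (nat_lit 0x800400200d) (nat_lit 0x2002000000801002004000400102002000000801802004001d001004)) (.cD (nat_lit 589) (.kS (nat_lit 0) (nat_lit 0x8018020040002020020000002) (nat_lit 4396) (nat_lit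 0x800400200d) (nat_lit 0x2002000000801002004000400102002000000801802004000d001004)) (.cD (nat_lit 653) (.kS (nat_lit 0) (nat_lit 0x8018020040002020020000002) (nat_lit 0x10ac150) (nat_lit 0x800400200d010008004006005) (nat_lit 0x2002000000801002004000400200102002000000801802004003d01a001004)) (.cD (nat_lit 717) (.kS (nat_lit 0) (nat_lit 0x8018020040002020020000002) (nat_lit 0x11ac150) (nat_lit 0x800400200d010008004006005) (nat_lit 0x2002000000801002004000400200102002000000801802004002d01a001004)) (.cD (nat_lit 781) (.kS (nat_lit 0) (nat_lit 0x8018020040002020020000002) (nat_lit 4460) (nat_lit 0x800400200d) (nat_lit 0x20020000008010020040004001020020000008018020040005001004)) (.cD (nat_lit 845) (.kS (nat_lit 0) (nat_lit 0x8018020040002020020000002) (nat_lit 4204) (nat_lit 0x800400200d) (nat_lit 0x20020000008010020040004001020020000008018020040015001004)) (.cD (nat_lit 909) (.kS (nat_lit 0) (nat_lit 0x8018020040002020020000002) (nat_lit 4588) (nat_lit 0x800400200d)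 (nat_lit 0x20020000008010020040004001020020000008018020040025001004)) (.cD (nat_lit 973) (.kS (nat_lit 0) (nat_lit 0x8018020040002020020000002) (nat_lit 4332) (nat_lit 0x800400200d) (nat_lit 0x20020000008010020040004001020020000008018020040035001004)) .nil))))))))) (.cD (nat_lit 208) (.dfs (nat_lit 33) (nat_lit 0x100800c010020) (nat_lit 0x100800c010024) (nat_lit 0x1004002001) (nat_lit 0x1004016001) (nat_lit 20) (nat_lit 0) (nat_lit 2) (nat_lit 0) (nat_lit 0) (nat_lit 13) (nat_lit 1) (nat_lit 0) (nat_lit 1) (nat_lit 0) (nat_lit 1) (nat_lit 0x2000000000000000200000000000000020000000000000002000000000000000200000000000000020000000000000002000000000000000200000000000000000000000000000000000000000000000000000000000000000000000000000000000000000000000000000000000000000000000000000000000) (.cD (nat_lit 525) (.kS (nat_lit 0) (nat_lit 0x8018020040002020020000002) (nat_lit 4140) (nat_lit 0x800400200d) (nat_lit 0x2002000000801002004000400102002000000801802004001d001004)) (.cD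 (nat_lit 589) (.kS (nat_lit 0) (nat_lit 0x8018020040002020020000002) (nat_lit 4396) (nat_lit 0x800400200d) (nat_lit 0x2002000000801002004000400102002000000801802004000d001004)) (.cD (nat_lit 653) (.kS (nat_lit 0) (nat_lit 0x8018020040002020020000002) (nat_lit 0x10ac050) (nat_lit 0x800400200d010008004006005) (nat_lit 0x2002000000801002004000400200102002000000801802004003d00a001004)) (.cD (nat_lit 717) (.cut (nat_lit 2)) (.cD (nat_lit 781) (.kS (nat_lit 0) (nat_lit 0x8018020040002020020000002) (nat_lit 4460) (nat_lit 0x800400200d) (nat_lit 0x20020000008010020040004001020020000008018020040005001004)) (.cD (nat_lit 845) (.kS (nat_lit 0) (nat_lit 0x8018020040002020020000002) (nat_lit 4204) (nat_lit 0x800400200d) (nat_lit 0x20020000008010020040004001020020000008018020040015001004)) (.cD (nat_lit 909) (.kS (nat_lit 0) (nat_lit 0x8018020040002020020000002) (nat_lit 4588) (nat_lit 0x800400200d) (nat_lit 0x20020000008010020040004001020020000008018020040025001004)) (.cD (nat_lit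 973) (.kS (nat_lit 0) (nat_lit 0x8018020040002020020000002) (nat_lit 4332) (nat_lit 0x800400200d) (nat_lit 0x20020000008010020040004001020020000008018020040035001004)) .nil))))))))) (.cD (nat_lit 272) (.dfs (nat_lit 33) (nat_lit 0x100800c010020) (nat_lit 0x100800c010024) (nat_lit 0x1004002001) (nat_lit 0x1004016001) (nat_lit 20) (nat_lit 0) (nat_lit 2) (nat_lit 0) (nat_lit 0) (nat_lit 13) (nat_lit 1) (nat_lit 0) (nat_lit 1) (nat_lit 0) (nat_lit 1) (nat_lit 0x2000000000000000200000000000000020000000000000002000000000000000200000000000000020000000000000002000000000000000200000000000000000000000000000000000000000000000000000000000000000000000000000000000000000000000000000000000000000000000000000000000) (.cD (nat_lit 525) (.kS (nat_lit 0) (nat_lit 0x8018020040002020020000002) (nat_lit 4140) (nat_lit 0x800400200d) (nat_lit 0x2002000000801002004000400102002000000801802004001d001004)) (.cD (nat_lit 589) (.kS (nat_lit 0) (nat_lit 0x8018020040002020020000002) (nat_lit 4396)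 (nat_lit 0x800400200d) (nat_lit 0x2002000000801002004000400102002000000801802004000d001004)) (.cD (nat_lit 653) (.kS (nat_lit 0) (nat_lit 0x8018020040002020020000002) (nat_lit 0x10ac090) (nat_lit 0x800400200d010008004006005) (nat_lit 0x2002000000801002004000400200102002000000801802004003d022001004)) (.cD (nat_lit 717) (.kS (nat_lit 0) (nat_lit 0x10018020040002001) (nat_lit 0x13a1150) (nat_lit 0x800400200d010008004006005) (nat_lit 0x1800802004001d01200100801002004000400200101001802004007101a001003)) (.cD (nat_lit 781) (.kS (nat_lit 0) (nat_lit 0x8018020040002020020000002) (nat_lit 4460) (nat_lit 0x800400200d) (nat_lit 0x20020000008010020040004001020020000008018020040005001004)) (.cD (nat_lit 845) (.kS (nat_lit 0) (nat_lit 0x8018020040002020020000002) (nat_lit 4204) (nat_lit 0x800400200d) (nat_lit 0x20020000008010020040004001020020000008018020040015001004)) (.cD (nat_lit 909) (.kS (nat_lit 0) (nat_lit 0x8018020040002020020000002) (nat_lit 4588) (nat_lit 0x800400200d)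 (nat_lit 0x20020000008010020040004001020020000008018020040025001004)) (.cD (nat_lit 973) (.kS (nat_lit 0) (nat_lit 0x8018020040002020020000002) (nat_lit 4332) (nat_lit 0x800400200d) (nat_lit 0x20020000008010020040004001020020000008018020040035001004)) .nil))))))))) (.cD (nat_lit 336) (.dfs (nat_lit 33) (nat_lit 0x100800c010020) (nat_lit 0x100800c010024) (nat_lit 0x1004002001) (nat_lit 0x1004016001) (nat_lit 20) (nat_lit 0) (nat_lit 2) (nat_lit 0) (nat_lit 0) (nat_lit 13) (nat_lit 1) (nat_lit 0) (nat_lit 1) (nat_lit 0) (nat_lit 1) (nat_lit 0x2000000000000000200000000000000020000000000000002000000000000000200000000000000020000000000000002000000000000000200000000000000000000000000000000000000000000000000000000000000000000000000000000000000000000000000000000000000000000000000000000000) (.cD (nat_lit 525) (.kS (nat_lit 0) (nat_lit 0x8018020040002020020000002) (nat_lit 4140) (nat_lit 0x800400200d) (nat_lit 0x2002000000801002004000400102002000000801802004001d001004)) (.cD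 (nat_lit 589) (.kS (nat_lit 0) (nat_lit 0x8018020040002020020000002) (nat_lit 4396) (nat_lit 0x800400200d) (nat_lit 0x2002000000801002004000400102002000000801802004000d001004)) (.cD (nat_lit 653) (.kS (nat_lit 0) (nat_lit 0x8018020040002020020000002) (nat_lit 0x10ac190) (nat_lit 0x800400200d010008004006005) (nat_lit 0x2002000000801002004000400200102002000000801802004003d032001004)) (.cD (nat_lit 717) (.kS (nat_lit 0) (nat_lit 0x8018020040002020020000002) (nat_lit 0x11ac190) (nat_lit 0x800400200d010008004006005) (nat_lit 0x2002000000801002004000400200102002000000801802004002d032001004)) (.cD (nat_lit 781) (.kS (nat_lit 0) (nat_lit 0x8018020040002020020000002) (nat_lit 4460) (nat_lit 0x800400200d) (nat_lit 0x20020000008010020040004001020020000008018020040005001004)) (.cD (nat_lit 845) (.kS (nat_lit 0) (nat_lit 0x8018020040002020020000002) (nat_lit 4204) (nat_lit 0x800400200d) (nat_lit 0x20020000008010020040004001020020000008018020040015001004)) (.cD (nat_lit 909)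 (.kS (nat_lit 0) (nat_lit 0x8018020040002020020000002) (nat_lit 4588) (nat_lit 0x800400200d) (nat_lit 0x20020000008010020040004001020020000008018020040025001004)) (.cD (nat_lit 973) (.kS (nat_lit 0) (nat_lit 0x8018020040002020020000002) (nat_lit 4332) (nat_lit 0x800400200d) (nat_lit 0x20020000008010020040004001020020000008018020040035001004)) .nil))))))))) (.cD (nat_lit 400) (.dfs (nat_lit 33) (nat_lit 0x100800c010020) (nat_lit 0x100800c010024) (nat_lit 0x1004002001) (nat_lit 0x1004016001) (nat_lit 20) (nat_lit 0) (nat_lit 2) (nat_lit 0) (nat_lit 0) (nat_lit 13) (nat_lit 1) (nat_lit 0) (nat_lit 1) (nat_lit 0) (nat_lit 1) (nat_lit 0x2000000000000000200000000000000020000000000000002000000000000000200000000000000020000000000000002000000000000000200000000000000000000000000000000000000000000000000000000000000000000000000000000000000000000000000000000000000000000000000000000000) (.cD (nat_lit 525) (.kS (nat_lit 0) (nat_lit 0x8018020040002020020000002) (nat_lit 4140) (nat_lit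 0x800400200d) (nat_lit 0x2002000000801002004000400102002000000801802004001d001004)) (.cD (nat_lit 589) (.kS (nat_lit 0) (nat_lit 0x8018020040002020020000002) (nat_lit 4396) (nat_lit 0x800400200d) (nat_lit 0x2002000000801002004000400102002000000801802004000d001004)) (.cD (nat_lit 653) (.kS (nat_lit 0) (nat_lit 0x8018020040002020020000002) (nat_lit 0x10ac010) (nat_lit 0x800400200d010008004006005) (nat_lit 0x2002000000801002004000400200102002000000801802004003d002001004)) (.cD (nat_lit 717) (.kS (nat_lit 0) (nat_lit 0x1800802002600231600a000010018020040002003) (nat_lit 0x13e1190) (nat_lit 0x800400200d010008004006005) (nat_lit 0x600600000801002002f04100200100600600001001802004007103a00100a316000018008020026079032001006)) (.cD (nat_lit 781) (.kS (nat_lit 0) (nat_lit 0x8018020040002020020000002) (nat_lit 4460) (nat_lit 0x800400200d) (nat_lit 0x20020000008010020040004001020020000008018020040005001004)) (.cD (nat_lit 845) (.kS (nat_lit 0) (nat_lit 0x8018020040002020020000002)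 (nat_lit 4204) (nat_lit 0x800400200d) (nat_lit 0x20020000008010020040004001020020000008018020040015001004)) (.cD (nat_lit 909) (.kS (nat_lit 0) (nat_lit 0x8018020040002020020000002) (nat_lit 4588) (nat_lit 0x800400200d) (nat_lit 0x20020000008010020040004001020020000008018020040025001004)) (.cD (nat_lit 973) (.kS (nat_lit 0) (nat_lit 0x8018020040002020020000002) (nat_lit 4332) (nat_lit 0x800400200d) (nat_lit 0x20020000008010020040004001020020000008018020040035001004)) .nil))))))))) (.cD (nat_lit 464) (.dfs (nat_lit 33) (nat_lit 0x100800c010020) (nat_lit 0x100800c010024) (nat_lit 0x1004002001) (nat_lit 0x1004016001) (nat_lit 20) (nat_lit 0) (nat_lit 2) (nat_lit 0) (nat_lit 0) (nat_lit 13) (nat_lit 1) (nat_lit 0) (nat_lit 1) (nat_lit 0) (nat_lit 1) (nat_lit 0x2000000000000000200000000000000020000000000000002000000000000000200000000000000020000000000000002000000000000000200000000000000000000000000000000000000000000000000000000000000000000000000000000000000000000000000000000000000000000000000000000000)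 (.cD (nat_lit 525) (.kS (nat_lit 0) (nat_lit 0x8018020040002020020000002) (nat_lit 4140) (nat_lit 0x800400200d) (nat_lit 0x2002000000801002004000400102002000000801802004001d001004)) (.cD (nat_lit 589) (.kS (nat_lit 0) (nat_lit 0x8018020040002020020000002) (nat_lit 4396) (nat_lit 0x800400200d) (nat_lit 0x2002000000801002004000400102002000000801802004000d001004)) (.cD (nat_lit 653) (.kS (nat_lit 0) (nat_lit 0x8018020040002020020000002) (nat_lit 0x10ac110) (nat_lit 0x800400200d010008004006005) (nat_lit 0x2002000000801002004000400200102002000000801802004003d012001004)) (.cD (nat_lit 717) (.kS (nat_lit 0) (nat_lit 0x8018020040002020020000002) (nat_lit 0x11ac110) (nat_lit 0x800400200d010008004006005) (nat_lit 0x2002000000801002004000400200102002000000801802004002d012001004)) (.cD (nat_lit 781) (.kS (nat_lit 0) (nat_lit 0x8018020040002020020000002) (nat_lit 4460) (nat_lit 0x800400200d) (nat_lit 0x20020000008010020040004001020020000008018020040005001004)) (.cD (nat_lit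 845) (.kS (nat_lit 0) (nat_lit 0x8018020040002020020000002) (nat_lit 4204) (nat_lit 0x800400200d) (nat_lit 0x20020000008010020040004001020020000008018020040015001004)) (.cD (nat_lit 909) (.kS (nat_lit 0) (nat_lit 0x8018020040002020020000002) (nat_lit 4588) (nat_lit 0x800400200d) (nat_lit 0x20020000008010020040004001020020000008018020040025001004)) (.cD (nat_lit 973) (.kS (nat_lit 0) (nat_lit 0x8018020040002020020000002) (nat_lit 4332) (nat_lit 0x800400200d) (nat_lit 0x20020000008010020040004001020020000008018020040035001004)) .nil))))))))) .nil))))))))) (.cD (nat_lit 108) (.dfs (nat_lit 16) (nat_lit 0x1004006008010) (nat_lit 0x1004006008018) (nat_lit 0x1002001) (nat_lit 0x1002009) (nat_lit 0) (nat_lit 0) (nat_lit 2) (nat_lit 0) (nat_lit 0) (nat_lit 16) (nat_lit 1) (nat_lit 0) (nat_lit 1) (nat_lit 0) (nat_lit 1) (nat_lit 0x100000000000000010000000000000001000000000000000100000000000000010000000000000001000000000000000100000000000000010000) (.cD (nat_lit 16) (.dfs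 (nat_lit 33) (nat_lit 0x100800c010020) (nat_lit 0x100800c010024) (nat_lit 0x1004002001) (nat_lit 0x1004016001) (nat_lit 20) (nat_lit 0) (nat_lit 2) (nat_lit 0) (nat_lit 0) (nat_lit 13) (nat_lit 1) (nat_lit 0) (nat_lit 1) (nat_lit 0) (nat_lit 1) (nat_lit 0x2000000000000000200000000000000020000000000000002000000000000000200000000000000020000000000000002000000000000000200000000000000000000000000000000000000000000000000000000000000000000000000000000000000000000000000000000000000000000000000000000000) (.cD (nat_lit 525) (.kS (nat_lit 0) (nat_lit 0x8018020040002020020000002) (nat_lit 4396) (nat_lit 0x800400200d) (nat_lit 0x2002000000801002004000400102002000000801802004000d001004)) (.cD (nat_lit 589) (.kS (nat_lit 0) (nat_lit 0x8018020040002020020000002) (nat_lit 4140) (nat_lit 0x800400200d) (nat_lit 0x2002000000801002004000400102002000000801802004001d001004)) (.cD (nat_lit 653) (.kS (nat_lit 0) (nat_lit 0x8018020040002020020000002) (nat_lit 4524) (nat_lit 0x800400200d)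 (nat_lit 0x2002000000801002004000400102002000000801802004002d001004)) (.cD (nat_lit 717) (.kS (nat_lit 0) (nat_lit 0x8018020040002020020000002) (nat_lit 4268) (nat_lit 0x800400200d) (nat_lit 0x2002000000801002004000400102002000000801802004003d001004)) (.cD (nat_lit 781) (.kS (nat_lit 0) (nat_lit 0x8018020040002020020000002) (nat_lit 4204) (nat_lit 0x800400200d) (nat_lit 0x20020000008010020040004001020020000008018020040015001004)) (.cD (nat_lit 845) (.kS (nat_lit 0) (nat_lit 0x8018020040002020020000002) (nat_lit 4460) (nat_lit 0x800400200d) (nat_lit 0x20020000008010020040004001020020000008018020040005001004)) (.cD (nat_lit 909) (.kS (nat_lit 0) (nat_lit 0x8018020040002020020000002) (nat_lit 0x10ec1d0) (nat_lit 0x800400200d010008004006005) (nat_lit 0x2002000000801002004000400200102002000000801802004003503a001004)) (.cD (nat_lit 973) (.kS (nat_lit 0) (nat_lit 0x8018020040002020020000002) (nat_lit 0x11ec1d0) (nat_lit 0x800400200d010008004006005) (nat_lit 0x2002000000801002004000400200102002000000801802004002503a001004))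 .nil))))))))) (.cD (nat_lit 80) (.dfs (nat_lit 33) (nat_lit 0x100800c010020) (nat_lit 0x100800c010024) (nat_lit 0x1004002001) (nat_lit 0x1004016001) (nat_lit 20) (nat_lit 0) (nat_lit 2) (nat_lit 0) (nat_lit 0) (nat_lit 13) (nat_lit 1) (nat_lit 0) (nat_lit 1) (nat_lit 0) (nat_lit 1) (nat_lit 0x2000000000000000200000000000000020000000000000002000000000000000200000000000000020000000000000002000000000000000200000000000000000000000000000000000000000000000000000000000000000000000000000000000000000000000000000000000000000000000000000000000) (.cD (nat_lit 525) (.kS (nat_lit 0) (nat_lit 0x8018020040002020020000002) (nat_lit 4396) (nat_lit 0x800400200d) (nat_lit 0x2002000000801002004000400102002000000801802004000d001004)) (.cD (nat_lit 589) (.kS (nat_lit 0) (nat_lit 0x8018020040002020020000002) (nat_lit 4140) (nat_lit 0x800400200d) (nat_lit 0x2002000000801002004000400102002000000801802004001d001004)) (.cD (nat_lit 653) (.kS (nat_lit 0) (nat_lit 0x8018020040002020020000002)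 (nat_lit 4524) (nat_lit 0x800400200d) (nat_lit 0x2002000000801002004000400102002000000801802004002d001004)) (.cD (nat_lit 717) (.kS (nat_lit 0) (nat_lit 0x8018020040002020020000002) (nat_lit 4268) (nat_lit 0x800400200d) (nat_lit 0x2002000000801002004000400102002000000801802004003d001004)) (.cD (nat_lit 781) (.kS (nat_lit 0) (nat_lit 0x8018020040002020020000002) (nat_lit 4204) (nat_lit 0x800400200d) (nat_lit 0x20020000008010020040004001020020000008018020040015001004)) (.cD (nat_lit 845) (.kS (nat_lit 0) (nat_lit 0x8018020040002020020000002) (nat_lit 4460) (nat_lit 0x800400200d) (nat_lit 0x20020000008010020040004001020020000008018020040005001004)) (.cD (nat_lit 909) (.kS (nat_lit 0) (nat_lit 0x10018020040002001) (nat_lit 0x13e1110) (nat_lit 0x800400200d010008004006005) (nat_lit 0x1800802004001500a001008010020040004002001010018020040079012001003)) (.cD (nat_lit 973) (.kS (nat_lit 0) (nat_lit 0x8018020040002020020000002) (nat_lit 0x11ec0d0) (nat_lit 0x800400200d010008004006005)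 (nat_lit 0x2002000000801002004000400200102002000000801802004002502a001004)) .nil))))))))) (.cD (nat_lit 144) (.dfs (nat_lit 33) (nat_lit 0x100800c010020) (nat_lit 0x100800c010024) (nat_lit 0x1004002001) (nat_lit 0x1004016001) (nat_lit 20) (nat_lit 0) (nat_lit 2) (nat_lit 0) (nat_lit 0) (nat_lit 13) (nat_lit 1) (nat_lit 0) (nat_lit 1) (nat_lit 0) (nat_lit 1) (nat_lit 0x2000000000000000200000000000000020000000000000002000000000000000200000000000000020000000000000002000000000000000200000000000000000000000000000000000000000000000000000000000000000000000000000000000000000000000000000000000000000000000000000000000) (.cD (nat_lit 525) (.kS (nat_lit 0) (nat_lit 0x8018020040002020020000002) (nat_lit 4396) (nat_lit 0x800400200d) (nat_lit 0x2002000000801002004000400102002000000801802004000d001004)) (.cD (nat_lit 589) (.kS (nat_lit 0) (nat_lit 0x8018020040002020020000002) (nat_lit 4140) (nat_lit 0x800400200d) (nat_lit 0x2002000000801002004000400102002000000801802004001d001004))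 (.cD (nat_lit 653) (.kS (nat_lit 0) (nat_lit 0x8018020040002020020000002) (nat_lit 4524) (nat_lit 0x800400200d) (nat_lit 0x2002000000801002004000400102002000000801802004002d001004)) (.cD (nat_lit 717) (.kS (nat_lit 0) (nat_lit 0x8018020040002020020000002) (nat_lit 4268) (nat_lit 0x800400200d) (nat_lit 0x2002000000801002004000400102002000000801802004003d001004)) (.cD (nat_lit 781) (.kS (nat_lit 0) (nat_lit 0x8018020040002020020000002) (nat_lit 4204) (nat_lit 0x800400200d) (nat_lit 0x20020000008010020040004001020020000008018020040015001004)) (.cD (nat_lit 845) (.kS (nat_lit 0) (nat_lit 0x8018020040002020020000002) (nat_lit 4460) (nat_lit 0x800400200d) (nat_lit 0x20020000008010020040004001020020000008018020040005001004)) (.cD (nat_lit 909) (.kS (nat_lit 0) (nat_lit 0x8018020040002020020000002) (nat_lit 0x10ec150) (nat_lit 0x800400200d010008004006005) (nat_lit 0x2002000000801002004000400200102002000000801802004003501a001004)) (.cD (nat_lit 973) (.kS (nat_lit 0) (nat_lit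 0x8018020040002020020000002) (nat_lit 0x11ec150) (nat_lit 0x800400200d010008004006005) (nat_lit 0x2002000000801002004000400200102002000000801802004002501a001004)) .nil))))))))) (.cD (nat_lit 208) (.dfs (nat_lit 33) (nat_lit 0x100800c010020) (nat_lit 0x100800c010024) (nat_lit 0x1004002001) (nat_lit 0x1004016001) (nat_lit 20) (nat_lit 0) (nat_lit 2) (nat_lit 0) (nat_lit 0) (nat_lit 13) (nat_lit 1) (nat_lit 0) (nat_lit 1) (nat_lit 0) (nat_lit 1) (nat_lit 0x2000000000000000200000000000000020000000000000002000000000000000200000000000000020000000000000002000000000000000200000000000000000000000000000000000000000000000000000000000000000000000000000000000000000000000000000000000000000000000000000000000) (.cD (nat_lit 525) (.kS (nat_lit 0) (nat_lit 0x8018020040002020020000002) (nat_lit 4396) (nat_lit 0x800400200d) (nat_lit 0x2002000000801002004000400102002000000801802004000d001004)) (.cD (nat_lit 589) (.kS (nat_lit 0) (nat_lit 0x8018020040002020020000002) (nat_lit 4140) (nat_lit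 0x800400200d) (nat_lit 0x2002000000801002004000400102002000000801802004001d001004)) (.cD (nat_lit 653) (.kS (nat_lit 0) (nat_lit 0x8018020040002020020000002) (nat_lit 4524) (nat_lit 0x800400200d) (nat_lit 0x2002000000801002004000400102002000000801802004002d001004)) (.cD (nat_lit 717) (.kS (nat_lit 0) (nat_lit 0x8018020040002020020000002) (nat_lit 4268) (nat_lit 0x800400200d) (nat_lit 0x2002000000801002004000400102002000000801802004003d001004)) (.cD (nat_lit 781) (.kS (nat_lit 0) (nat_lit 0x8018020040002020020000002) (nat_lit 4204) (nat_lit 0x800400200d) (nat_lit 0x20020000008010020040004001020020000008018020040015001004)) (.cD (nat_lit 845) (.kS (nat_lit 0) (nat_lit 0x8018020040002020020000002) (nat_lit 4460) (nat_lit 0x800400200d) (nat_lit 0x20020000008010020040004001020020000008018020040005001004)) (.cD (nat_lit 909) (.iso x28 s51 (nat_lit 0) (nat_lit 0x1200100080040020010188184002101) (nat_lit 0x200100080040020010188184002101) [(nat_lit 0x40020010008014002011001001),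 (nat_lit 0x80040020010008004002041003001)] (.cut (nat_lit 2))) (.cD (nat_lit 973) (.kS (nat_lit 0) (nat_lit 0x8018020040002020020000002) (nat_lit 0x11ec050) (nat_lit 0x800400200d010008004006005) (nat_lit 0x2002000000801002004000400200102002000000801802004002500a001004)) .nil))))))))) (.cD (nat_lit 272) (.dfs (nat_lit 33) (nat_lit 0x100800c010020) (nat_lit 0x100800c010024) (nat_lit 0x1004002001) (nat_lit 0x1004016001) (nat_lit 20) (nat_lit 0) (nat_lit 2) (nat_lit 0) (nat_lit 0) (nat_lit 13) (nat_lit 1) (nat_lit 0) (nat_lit 1) (nat_lit 0) (nat_lit 1) (nat_lit 0x2000000000000000200000000000000020000000000000002000000000000000200000000000000020000000000000002000000000000000200000000000000000000000000000000000000000000000000000000000000000000000000000000000000000000000000000000000000000000000000000000000) (.cD (nat_lit 525) (.kS (nat_lit 0) (nat_lit 0x8018020040002020020000002) (nat_lit 4396) (nat_lit 0x800400200d) (nat_lit 0x2002000000801002004000400102002000000801802004000d001004))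 (.cD (nat_lit 589) (.kS (nat_lit 0) (nat_lit 0x8018020040002020020000002) (nat_lit 4140) (nat_lit 0x800400200d) (nat_lit 0x2002000000801002004000400102002000000801802004001d001004)) (.cD (nat_lit 653) (.kS (nat_lit 0) (nat_lit 0x8018020040002020020000002) (nat_lit 4524) (nat_lit 0x800400200d) (nat_lit 0x2002000000801002004000400102002000000801802004002d001004)) (.cD (nat_lit 717) (.kS (nat_lit 0) (nat_lit 0x8018020040002020020000002) (nat_lit 4268) (nat_lit 0x800400200d) (nat_lit 0x2002000000801002004000400102002000000801802004003d001004)) (.cD (nat_lit 781) (.kS (nat_lit 0) (nat_lit 0x8018020040002020020000002) (nat_lit 4204) (nat_lit 0x800400200d) (nat_lit 0x20020000008010020040004001020020000008018020040015001004)) (.cD (nat_lit 845) (.kS (nat_lit 0) (nat_lit 0x8018020040002020020000002) (nat_lit 4460) (nat_lit 0x800400200d) (nat_lit 0x20020000008010020040004001020020000008018020040005001004)) (.cD (nat_lit 909) (.kS (nat_lit 0) (nat_lit 0x10018020040002001)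 (nat_lit 0x13e1150) (nat_lit 0x800400200d010008004006005) (nat_lit 0x1800802004001501200100801002004000400200101001802004007901a001003)) (.cD (nat_lit 973) (.kS (nat_lit 0) (nat_lit 0x8018020040002020020000002) (nat_lit 0x11ec090) (nat_lit 0x800400200d010008004006005) (nat_lit 0x20020000008010020040004002001020020000008018020040025022001004)) .nil))))))))) (.cD (nat_lit 336) (.dfs (nat_lit 33) (nat_lit 0x100800c010020) (nat_lit 0x100800c010024) (nat_lit 0x1004002001) (nat_lit 0x1004016001) (nat_lit 20) (nat_lit 0) (nat_lit 2) (nat_lit 0) (nat_lit 0) (nat_lit 13) (nat_lit 1) (nat_lit 0) (nat_lit 1) (nat_lit 0) (nat_lit 1) (nat_lit 0x2000000000000000200000000000000020000000000000002000000000000000200000000000000020000000000000002000000000000000200000000000000000000000000000000000000000000000000000000000000000000000000000000000000000000000000000000000000000000000000000000000) (.cD (nat_lit 525) (.kS (nat_lit 0) (nat_lit 0x8018020040002020020000002) (nat_lit 4396) (nat_lit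 0x800400200d) (nat_lit 0x2002000000801002004000400102002000000801802004000d001004)) (.cD (nat_lit 589) (.kS (nat_lit 0) (nat_lit 0x8018020040002020020000002) (nat_lit 4140) (nat_lit 0x800400200d) (nat_lit 0x2002000000801002004000400102002000000801802004001d001004)) (.cD (nat_lit 653) (.kS (nat_lit 0) (nat_lit 0x8018020040002020020000002) (nat_lit 4524) (nat_lit 0x800400200d) (nat_lit 0x2002000000801002004000400102002000000801802004002d001004)) (.cD (nat_lit 717) (.kS (nat_lit 0) (nat_lit 0x8018020040002020020000002) (nat_lit 4268) (nat_lit 0x800400200d) (nat_lit 0x2002000000801002004000400102002000000801802004003d001004)) (.cD (nat_lit 781) (.kS (nat_lit 0) (nat_lit 0x8018020040002020020000002) (nat_lit 4204) (nat_lit 0x800400200d) (nat_lit 0x20020000008010020040004001020020000008018020040015001004)) (.cD (nat_lit 845) (.kS (nat_lit 0) (nat_lit 0x8018020040002020020000002) (nat_lit 4460) (nat_lit 0x800400200d) (nat_lit 0x20020000008010020040004001020020000008018020040005001004))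 (.cD (nat_lit 909) (.kS (nat_lit 0) (nat_lit 0x8018020040002020020000002) (nat_lit 0x10ec190) (nat_lit 0x800400200d010008004006005) (nat_lit 0x20020000008010020040004002001020020000008018020040035032001004)) (.cD (nat_lit 973) (.kS (nat_lit 0) (nat_lit 0x8018020040002020020000002) (nat_lit 0x11ec190) (nat_lit 0x800400200d010008004006005) (nat_lit 0x20020000008010020040004002001020020000008018020040025032001004)) .nil))))))))) (.cD (nat_lit 400) (.dfs (nat_lit 33) (nat_lit 0x100800c010020) (nat_lit 0x100800c010024) (nat_lit 0x1004002001) (nat_lit 0x1004016001) (nat_lit 20) (nat_lit 0) (nat_lit 2) (nat_lit 0) (nat_lit 0) (nat_lit 13) (nat_lit 1) (nat_lit 0) (nat_lit 1) (nat_lit 0) (nat_lit 1) (nat_lit 0x2000000000000000200000000000000020000000000000002000000000000000200000000000000020000000000000002000000000000000200000000000000000000000000000000000000000000000000000000000000000000000000000000000000000000000000000000000000000000000000000000000) (.cD (nat_lit 525)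 (.kS (nat_lit 0) (nat_lit 0x8018020040002020020000002) (nat_lit 4396) (nat_lit 0x800400200d) (nat_lit 0x2002000000801002004000400102002000000801802004000d001004)) (.cD (nat_lit 589) (.kS (nat_lit 0) (nat_lit 0x8018020040002020020000002) (nat_lit 4140) (nat_lit 0x800400200d) (nat_lit 0x2002000000801002004000400102002000000801802004001d001004)) (.cD (nat_lit 653) (.kS (nat_lit 0) (nat_lit 0x8018020040002020020000002) (nat_lit 4524) (nat_lit 0x800400200d) (nat_lit 0x2002000000801002004000400102002000000801802004002d001004)) (.cD (nat_lit 717) (.kS (nat_lit 0) (nat_lit 0x8018020040002020020000002) (nat_lit 4268) (nat_lit 0x800400200d) (nat_lit 0x2002000000801002004000400102002000000801802004003d001004)) (.cD (nat_lit 781) (.kS (nat_lit 0) (nat_lit 0x8018020040002020020000002) (nat_lit 4204) (nat_lit 0x800400200d) (nat_lit 0x20020000008010020040004001020020000008018020040015001004)) (.cD (nat_lit 845) (.kS (nat_lit 0) (nat_lit 0x8018020040002020020000002) (nat_lit 4460)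 (nat_lit 0x800400200d) (nat_lit 0x20020000008010020040004001020020000008018020040005001004)) (.cD (nat_lit 909) (.kS (nat_lit 0) (nat_lit 0x1800802003600231600a000010018020040002003) (nat_lit 0x12a1190) (nat_lit 0x800400200d010008004006005) (nat_lit 0x600600000801002002f04100200100600600001001802004007903a00100a316000018008020036061032001006)) (.cD (nat_lit 973) (.kS (nat_lit 0) (nat_lit 0x8018020040002020020000002) (nat_lit 0x11ec010) (nat_lit 0x800400200d010008004006005) (nat_lit 0x20020000008010020040004002001020020000008018020040025002001004)) .nil))))))))) (.cD (nat_lit 464) (.dfs (nat_lit 33) (nat_lit 0x100800c010020) (nat_lit 0x100800c010024) (nat_lit 0x1004002001) (nat_lit 0x1004016001) (nat_lit 20) (nat_lit 0) (nat_lit 2) (nat_lit 0) (nat_lit 0) (nat_lit 13) (nat_lit 1) (nat_lit 0) (nat_lit 1) (nat_lit 0) (nat_lit 1) (nat_lit 0x2000000000000000200000000000000020000000000000002000000000000000200000000000000020000000000000002000000000000000200000000000000000000000000000000000000000000000000000000000000000000000000000000000000000000000000000000000000000000000000000000000)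 (.cD (nat_lit 525) (.kS (nat_lit 0) (nat_lit 0x8018020040002020020000002) (nat_lit 4396) (nat_lit 0x800400200d) (nat_lit 0x2002000000801002004000400102002000000801802004000d001004)) (.cD (nat_lit 589) (.kS (nat_lit 0) (nat_lit 0x8018020040002020020000002) (nat_lit 4140) (nat_lit 0x800400200d) (nat_lit 0x2002000000801002004000400102002000000801802004001d001004)) (.cD (nat_lit 653) (.kS (nat_lit 0) (nat_lit 0x8018020040002020020000002) (nat_lit 4524) (nat_lit 0x800400200d) (nat_lit 0x2002000000801002004000400102002000000801802004002d001004)) (.cD (nat_lit 717) (.kS (nat_lit 0) (nat_lit 0x8018020040002020020000002) (nat_lit 4268) (nat_lit 0x800400200d) (nat_lit 0x2002000000801002004000400102002000000801802004003d001004)) (.cD (nat_lit 781) (.kS (nat_lit 0) (nat_lit 0x8018020040002020020000002) (nat_lit 4204) (nat_lit 0x800400200d) (nat_lit 0x20020000008010020040004001020020000008018020040015001004)) (.cD (nat_lit 845) (.kS (nat_lit 0) (nat_lit 0x8018020040002020020000002)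 (nat_lit 4460) (nat_lit 0x800400200d) (nat_lit 0x20020000008010020040004001020020000008018020040005001004)) (.cD (nat_lit 909) (.kS (nat_lit 0) (nat_lit 0x8018020040002020020000002) (nat_lit 0x10ec110) (nat_lit 0x800400200d010008004006005) (nat_lit 0x20020000008010020040004002001020020000008018020040035012001004)) (.cD (nat_lit 973) (.kS (nat_lit 0) (nat_lit 0x8018020040002020020000002) (nat_lit 0x11ec110) (nat_lit 0x800400200d010008004006005) (nat_lit 0x20020000008010020040004002001020020000008018020040025012001004)) .nil))))))))) .nil))))))))) (.cD (nat_lit 172) (.cut (nat_lit 1)) (.cD (nat_lit 236) (.cut (nat_lit 0)) .nil))))))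
theorem c54 : (chk [(x28, s52), (x28, s53), (x28, s51)] [g179] p54).n x28 s54 = true := by decide +kernel
noncomputable def p55 : Pf := (.ext (nat_lit 1) (nat_lit 0) (nat_lit 0x1200180100020) (nat_lit 0x10008004002001001) (nat_lit 0x2003004008) (nat_lit 4103) (nat_lit 4176) (nat_lit 0xf004002001) (.dfs (nat_lit 7) (nat_lit 0x1002003004008) (nat_lit 0x100200300400f) (nat_lit 4097) (nat_lit 4097) (nat_lit 0) (nat_lit 0) (nat_lit 2) (nat_lit 1) (nat_lit 0) (nat_lit 80) (nat_lit 1) (nat_lit 0) (nat_lit 1) (nat_lit 0) (nat_lit 1) (nat_lit 0) .nil))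
theorem c55 : (chk [] [] p55).n x38 s55 = true := by decide +kernel
noncomputable def p56 : Pf := (.ext (nat_lit 1) (nat_lit 0) (nat_lit 0x1200180100020) (nat_lit 0x10008004002001001) (nat_lit 0x2003004008) (nat_lit 4103) (nat_lit 4176) (nat_lit 0xf004002001) (.dfs (nat_lit 7) (nat_lit 0x1002003004008) (nat_lit 0x100200300400f) (nat_lit 4097) (nat_lit 4097) (nat_lit 6) (nat_lit 0) (nat_lit 2) (nat_lit 1) (nat_lit 0) (nat_lit 80) (nat_lit 1) (nat_lit 0) (nat_lit 1) (nat_lit 0) (nat_lit 1) (nat_lit 0) .nil))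
theorem c56 : (chk [] [] p56).n x39 s56 = true := by decide +kernel
noncomputable def p57 : Pf := (.ext (nat_lit 1) (nat_lit 0) (nat_lit 0x1200180100020) (nat_lit 0x10008004002001001) (nat_lit 0x2003004008) (nat_lit 4103) (nat_lit 4176) (nat_lit 0xf004002001) (.dfs (nat_lit 7) (nat_lit 0x1002003004008) (nat_lit 0x100200300400f) (nat_lit 4097) (nat_lit 4097) (nat_lit 6) (nat_lit 0) (nat_lit 2) (nat_lit 1) (nat_lit 0) (nat_lit 80) (nat_lit 1) (nat_lit 0) (nat_lit 1) (nat_lit 0) (nat_lit 1) (nat_lit 0) .nil))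
theorem c57 : (chk [] [] p57).n x40 s57 = true := by decide +kernel
noncomputable def p58 : Pf := (.lft (nat_lit 0x1420400c00421b80840db0011a8001001) (nat_lit 310) (nat_lit 0x11d01c01901801501401101000de0ce09e08e05e04e01e00e) (nat_lit 0x1000800400200100080040d2147) (.extn a76 (nat_lit 0x100080040020010008004002001) (nat_lit 0x1020080040100) (nat_lit 2) (nat_lit 0) (nat_lit 0) (nat_lit 22) (nat_lit 0x400000000000000000000000000000000000000000000000400000000000000000000000000000000000000000000000000000000000000000000000000000) (.cE (nat_lit 310) b179 (nat_lit 0) (.cut (nat_lit 0)) (.iso x38 s55 (nat_lit 0) (nat_lit 0x120010018002004009c0ec3ae226229) (nat_lit 0x2001001800200400782963be3ac197) [(nat_lit 0x10008004002007007001)] (.cut (nat_lit 1))) (.cE (nat_lit 502) (nat_lit 0x11408811519f1731a90a41381dc0c01dd1571bb1a10ec1f000210e0030d90a502f17207e08a1c608b09102d0a717a0361b40281b513f1d310900419817c06017d1f711b10104c1500a21ae0a307900508f1d20de02a16602b03108d0071da09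61540c81551df1331e90e417819c08019d1171fb1e10ac1b004214e0430990e506f13203e0ca1860cb0d106d0e713a0761f40681f517f1931490441d813c02013d1b715b14100c1100e21ee0e30390450cf19209e06a12606b0710cd04719a0d619400819511f1f31290241b815c04015d1d713b12106c17008218e0830590250af1f20fe00a14600b0110ad0271fa0b61340a81351bf1531890841181fc0e01fd17719b1810cc1d002212e0230f908500f15205e0aa1e60ab0b100d08715a0161d40481d515f1b31690641f811c00011d19717b16102c1300c21ce0c30190650ef1b20be04a10604b0510ed0671ba0f61740e81751ff1131c90c41581bc0a01bd1371db1c108c19006216e0630b90c504f11201e0ea1a60eb0f104d0c711a0560b41280b503f0d300910409807c16007d0f701b00114c0501a20ae1a317910518f0d21de12a06612b13118d1070da19601418801509f0730a91a40380dc1c00dd0570bb0a11ec0f010200e1031d91a512f07217e18a0c618b19112d1a707a1360f41680f507f0930491440d803c12003d0b705b04110c0101e20ee1e31391451cf09219e16a02616b1711cd14709a1d60541c80550df0330e91e407809c18009d0170fb0e11ac0b014204e1431991e516f03213e1ca0861cb1d116d1e703a1760341a80350bf0530891840180fc1e00fd07709b0811cc0d012202e1231f918510f05215e1aa0e61ab1b110d18705a11609410809501f0f30291240b805c14005d0d703b02116c07018208e1831591251af0f21fe10a04610b1111ad1270fa1b60741e80750ff0130c91c40580bc1a00bd0370db0c118c09016206e1631b91c514f01211e1ea0a61eb1f114d1c701a1560d41480d505f0b30691640f801c10001d09707b06112c0301c20ce1c31191651ef0b21be14a00614b1511ed1670ba1f6)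 (nat_lit 0) (.iso x39 s56 (nat_lit 1) (nat_lit 0x120010018002004009c0ec3ae226229) (nat_lit 0x2001001800200400782963be3ac197) [(nat_lit 0x10008004002007007001)] (.cut (nat_lit 2))) (.iso x40 s57 (nat_lit 1) (nat_lit 0x120010018002004009c0ec3ae226229) (nat_lit 0x2001001800200400782963be3ac197) [(nat_lit 0x10008004002007007001)] (.cut (nat_lit 3))) .nil))))
theorem c58 : (chk [(x28, s54), (x38, s55), (x39, s56), (x40, s57)] [g105, g104] p58).n x27 s58 = true := by decide +kernel
noncomputable def p59 : Pf := (.ext (nat_lit 1) (nat_lit 0) (nat_lit 0x1200180100020) (nat_lit 0x10008004002001001) (nat_lit 0x2003004008) (nat_lit 4103) (nat_lit 4176) (nat_lit 0xf004002001) (.dfs (nat_lit 7) (nat_lit 0x1002003004008) (nat_lit 0x100200300400f) (nat_lit 4097) (nat_lit 4097) (nat_lit 2) (nat_lit 0) (nat_lit 2) (nat_lit 1) (nat_lit 0) (nat_lit 80) (nat_lit 1) (nat_lit 0) (nat_lit 1) (nat_lit 0) (nat_lit 1) (nat_lit 0) .nil))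
theorem c59 : (chk [] [] p59).n x42 s59 = true := by decide +kernel
noncomputable def p60 : Pf := (.ext (nat_lit 1) (nat_lit 0) (nat_lit 0x1200180100020) (nat_lit 0x10008004002001001) (nat_lit 0x2003004008) (nat_lit 4103) (nat_lit 4176) (nat_lit 0xf004002001) (.dfs (nat_lit 7) (nat_lit 0x1002003004008) (nat_lit 0x100200300400f) (nat_lit 4097) (nat_lit 4097) (nat_lit 2) (nat_lit 0) (nat_lit 2) (nat_lit 1) (nat_lit 0) (nat_lit 80) (nat_lit 1) (nat_lit 0) (nat_lit 1) (nat_lit 0) (nat_lit 1) (nat_lit 0) .nil))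
theorem c60 : (chk [] [] p60).n x43 s60 = true := by decide +kernel
noncomputable def p61 : Pf := (.ext (nat_lit 1) (nat_lit 0) (nat_lit 0x1200180100020) (nat_lit 0x10008004002001001) (nat_lit 0x2003004008) (nat_lit 4103) (nat_lit 4176) (nat_lit 0xf004002001) (.dfs (nat_lit 7) (nat_lit 0x1002003004008) (nat_lit 0x100200300400f) (nat_lit 4097) (nat_lit 4097) (nat_lit 4) (nat_lit 0) (nat_lit 2) (nat_lit 1) (nat_lit 0) (nat_lit 80) (nat_lit 1) (nat_lit 0) (nat_lit 1) (nat_lit 0) (nat_lit 1) (nat_lit 0) .nil))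
theorem c61 : (chk [] [] p61).n x44 s61 = true := by decide +kernel
noncomputable def p62 : Pf := (.ext (nat_lit 1) (nat_lit 0) (nat_lit 0x1200180100020) (nat_lit 0x10008004002001001) (nat_lit 0x2003004008) (nat_lit 4103) (nat_lit 4176) (nat_lit 0xf004002001) (.dfs (nat_lit 7) (nat_lit 0x1002003004008) (nat_lit 0x100200300400f) (nat_lit 4097) (nat_lit 4097) (nat_lit 4) (nat_lit 0) (nat_lit 2) (nat_lit 1) (nat_lit 0) (nat_lit 80) (nat_lit 1) (nat_lit 0) (nat_lit 1) (nat_lit 0) (nat_lit 1) (nat_lit 0) .nil))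
theorem c62 : (chk [] [] p62).n x45 s62 = true := by decide +kernel
noncomputable def p63 : Pf := (.lft (nat_lit 0x1ca0c00801e402a1c60e41bc001001001) (nat_lit 301) (nat_lit 0x11e01c01a01801601401201000e80c80a8088068048028008) (nat_lit 0x1000800400200100080c41b61a9) (.extn a40 (nat_lit 0x100080040020010008004002001) (nat_lit 0x1020080040100) (nat_lit 2) (nat_lit 0) (nat_lit 0) (nat_lit 261) (nat_lit 0x20000000000000002000000000000000000000000000000000000000000000000000000000000000000000000000) (.cE (nat_lit 301) b102 (nat_lit 0) (.cut (nat_lit 0)) (.cut (nat_lit 1)) (.cE (nat_lit 365) b103 (nat_lit 0) (.cut (nat_lit 2)) (.cut (nat_lit 3)) .nil))))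
theorem c63 : (chk [(x42, s59), (x43, s60), (x44, s61), (x45, s62)] [] p63).n x41 s63 = true := by decide +kernel
noncomputable def p64 : Pf := (.ext (nat_lit 0) (nat_lit 0) (nat_lit 0x11200c00801c60510270c80a0) (nat_lit 0x80040020010008004002001004001) (nat_lit 0x1020060080) (nat_lit 4098) (nat_lit 4185) (nat_lit 0x1e0400600700e4016062023) (.dfs (nat_lit 2) (nat_lit 0x1001020060080) (nat_lit 0x102306002001e) (nat_lit 0x1040010008004002) (nat_lit 0x10400700e4016062) (nat_lit 156) (nat_lit 0) (nat_lit 2) (nat_lit 0) (nat_lit 0) (nat_lit 23) (nat_lit 1) (nat_lit 0) (nat_lit 1) (nat_lit 0) (nat_lit 1) (nat_lit 0x200000000000000020000000000000000000000) (.cD (nat_lit 89) (.iso x41 s63 (nat_lit 0) (nat_lit 0x11000800c001002004e076117113) (nat_lit 0x1000800c001002003c10b19f196) [(nat_lit 0x1000800400201f407c01801a173001147001000002), (nat_lit 0x10008004002007007001)] (.cut (nat_lit 1))) (.cD (nat_lit 153) (.cut (nat_lit 0)) .nil))))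
theorem c64 : (chk [(x27, s58), (x41, s63)] [g101] p64).n x27 s64 = true := by decide +kernel
noncomputable def p65 : Pf := (.ext (nat_lit 1) (nat_lit 0x10020040080003001) (nat_lit 0x11200c00801c60510270c8) (nat_lit 0xe004005007001a062016003080040020010008004002001080040020010008004002004003) (nat_lit 0x30018020078) (nat_lit 4100) (nat_lit 4180) (nat_lit 0xf02003000804b002001) (.dfs (nat_lit 4) (nat_lit 0x1030018020078) (nat_lit 0x1010038020017) (nat_lit 0x1040010008004002001) (nat_lit 0x100f03000804b002001) (nat_lit 0) (nat_lit 0) (nat_lit 2) (nat_lit 1) (nat_lit 0x10020040080005001) (nat_lit 20) (nat_lit 1) (nat_lit 0) (nat_lit 1) (nat_lit 0) (nat_lit 1) (nat_lit 0x10000000000000001000000000000000000000) (.cD (nat_lit 84) (.kS (nat_lit 1) (nat_lit 0x600300400f0002010020040080005002) (nat_lit 0x11cf1610bf1a5) (nat_lit 0xa00600200f01400800400e00902801000801401200904003001001b007002011) (nat_lit 0x700500400e00b20560e80bd0010100200400800d40420dc0010010600300400f008603409a0eb001003))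 (.cD (nat_lit 148) (.cut (nat_lit 0)) .nil))))
theorem c65 : (chk [(x27, s64)] [] p65).n x27 s65 = true := by decide +kernel
noncomputable def p66 : Pf := (.ext (nat_lit 1) (nat_lit 0) (nat_lit 0x11000c0080010002004008) (nat_lit 0xe004005007001a06201600204002001000802506c022003080040020010008004002001003) (nat_lit 0x30018020078) (nat_lit 4129) (nat_lit 4407) (nat_lit 0xf02003000806303a011) (.dfs (nat_lit 33) (nat_lit 0x1030018020078) (nat_lit 0x1010038020017) (nat_lit 0x1040010008004002001) (nat_lit 0x100f03000806303a011) (nat_lit 79) (nat_lit 0) (nat_lit 2) (nat_lit 1) (nat_lit 0) (nat_lit 295) (nat_lit 1) (nat_lit 0) (nat_lit 1) (nat_lit 0) (nat_lit 1) (nat_lit 0x800000000000000000000000000000000000000000000000800000000000000000000000000000000000000000000000000000000000000000000000000000) (.cD (nat_lit 311) (.kS (nat_lit 1) (nat_lit 0x600300400f0002001) (nat_lit 0x10860dc0541e3) (nat_lit 0x800600200901400c00401e01d02801000801c01a00104003001004701b072021) (nat_lit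 0x700500400e001a0620160ed0010100200400800080040020010010600300400f005c05607408b001003)) (.cD (nat_lit 503) (.cut (nat_lit 0)) .nil))))
theorem c66 : (chk [(x27, s65)] [] p66).n x27 s66 = true := by decide +kernel
noncomputable def p67 : Pf := (.ext (nat_lit 1) (nat_lit 0x1010030040003001) (nat_lit 0x11000c0080010) (nat_lit 0x40030010001003001) (nat_lit 0x1002004008) (nat_lit 0x1020008004002) (nat_lit 0x1006008001011) (nat_lit 0x800400200300e00400200500f004006005009004006001) (.dfs (nat_lit 2) (nat_lit 0x1001002004008) (nat_lit 0x1001006004009) (nat_lit 1) (nat_lit 1) (nat_lit 5) (nat_lit 0) (nat_lit 2) (nat_lit 1) (nat_lit 0x1002004008001001) (nat_lit 17) (nat_lit 1) (nat_lit 0) (nat_lit 0x1120186) (nat_lit 0x120186) (nat_lit 0x1000051001051001091) (nat_lit 0x200000000000000000000) (.cD (nat_lit 81) (.dfs (nat_lit 4) (nat_lit 0x1002004008010) (nat_lit 0x100a00c00801e) (nat_lit 4097) (nat_lit 4111) (nat_lit 0) (nat_lit 0) (nat_lit 2) (nat_lit 1) (nat_lit 0x2004008010001001)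 (nat_lit 1) (nat_lit 1) (nat_lit 0) (nat_lit 4550) (nat_lit 454) (nat_lit 0x1000027) (nat_lit 0x8000000000) (.cD (nat_lit 39) (.dfs (nat_lit 8) (nat_lit 0x1004008010020) (nat_lit 0x1014008010038) (nat_lit 0x1002001) (nat_lit 0x101a001) (nat_lit 0) (nat_lit 0) (nat_lit 2) (nat_lit 1) (nat_lit 0x4008010020001001) (nat_lit 8) (nat_lit 1) (nat_lit 0) (nat_lit 1) (nat_lit 0) (nat_lit 1) (nat_lit 0x100000000000000000000000000000000000000000000000100) (.cD (nat_lit 8) (.dfs (nat_lit 32) (nat_lit 0x1008010020040) (nat_lit 0x1018010020040) (nat_lit 0x1004002001) (nat_lit 0x1025023001) (nat_lit 0) (nat_lit 0) (nat_lit 2) (nat_lit 1) (nat_lit 0x8010020040001001) (nat_lit 6) (nat_lit 1) (nat_lit 0) (nat_lit 1) (nat_lit 0) (nat_lit 1) (nat_lit 0x100000000000000000000000000000000000000000000000100000000) (.cD (nat_lit 32) (.kA true (nat_lit 0xbc020040081001010020040080001002)) (.cD (nat_lit 224) (.kA false (nat_lit 0x28010020040006001020060080001002)) .nil))) (.cD (nat_lit 200)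 (.dfs (nat_lit 32) (nat_lit 0x1008010020040) (nat_lit 0x1018010020040) (nat_lit 0x1004002001) (nat_lit 0x1025023001) (nat_lit 0) (nat_lit 0) (nat_lit 2) (nat_lit 1) (nat_lit 0x8010020040001001) (nat_lit 6) (nat_lit 1) (nat_lit 0) (nat_lit 1) (nat_lit 0) (nat_lit 1) (nat_lit 0x10000000000000001000000000000000000000000) (.cD (nat_lit 96) (.kA false (nat_lit 0x38010020040006001020060080001002)) (.cD (nat_lit 160) (.cut (nat_lit 0)) .nil))) .nil))) .nil)) .nil)))
theorem c67 : (chk [(x27, s66)] [] p67).n x27 s67 = true := by decide +kernel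
noncomputable def p68 : Pf := (.ext (nat_lit 1) (nat_lit 0x1010030040003001) (nat_lit 0x11200c00801c6) (nat_lit 0x60030031021003036020030018001147001000040030010001004004) (nat_lit 0x600300400f) (nat_lit 0x1010008001) (nat_lit 0x1011009008) (nat_lit 0xa00400200500e00400200500f004006005) (.dfs (nat_lit 1) (nat_lit 0x100600300400f) (nat_lit 0x1002003004008) (nat_lit 0x1008002001) (nat_lit 0x100f006005) (nat_lit 3) (nat_lit 0) (nat_lit 2) (nat_lit 1) (nat_lit 0x1010030040005001) (nat_lit 8) (nat_lit 1) (nat_lit 0) (nat_lit 0x1120186) (nat_lit 0x120186) (nat_lit 0x100002e00102e0010ee) (nat_lit 0x400000000000) (.cD (nat_lit 46) (.dfs (nat_lit 8) (nat_lit 0x100c00600801e) (nat_lit 0x100c00e00801a) (nat_lit 0x1010004002001) (nat_lit 0x101c00400a005) (nat_lit 0) (nat_lit 0) (nat_lit 2) (nat_lit 1) (nat_lit 0x1010030040005001) (nat_lit 9) (nat_lit 1) (nat_lit 0) (nat_lit 4160) (nat_lit 64) (nat_lit 0x1000169) (nat_lit 0x2000000000000000000000000000000000000000000000000000000000000000000000000000000000000000000)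 (.cD (nat_lit 361) (.dfs (nat_lit 16) (nat_lit 0x101800c01003c) (nat_lit 0x101801c010024) (nat_lit 0x1020008004002001) (nat_lit 0x102800801400a011) (nat_lit 0) (nat_lit 0) (nat_lit 2) (nat_lit 1) (nat_lit 0x1010030040005001) (nat_lit 17) (nat_lit 1) (nat_lit 0) (nat_lit 1) (nat_lit 0) (nat_lit 1) (nat_lit 0x20000000000000000000000000000000000000000000000020000000000000000000000000000000000000000000000000000000000000000000000000000) (.cD (nat_lit 305) (.cut (nat_lit 0)) (.cD (nat_lit 497) (.kS (nat_lit 1) (nat_lit 0x30018020078002001010030040005002) (nat_lit 0x11cf16107f) (nat_lit 0xa00600200f01400800400e009028010008014012009) (nat_lit 0x3802802007007a06607500100801002004000400200100103001802007800e07404f001003)) .nil))) .nil)) .nil)))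
theorem c68 : (chk [(x27, s67)] [] p68).n x27 s68 = true := by decide +kernel
noncomputable def p69 : Pf := (.lft (nat_lit 0x80020060001010002004008001001) (nat_lit 163) (nat_lit 0x10e80e00c80c00a80a0088080) (nat_lit 0x80040020010008004002069) (.extn a75 (nat_lit 0x80040020010008004002001) (nat_lit 0x1010040020080) (nat_lit 2) (nat_lit 0) (nat_lit 0) (nat_lit 3) (nat_lit 0x8000000080000000000000000000000000000000000000000) (.cE (nat_lit 163) b178 (nat_lit 0) (.iso x25 s30 (nat_lit 0) (nat_lit 0x11000800c001002004e076022133) (nat_lit 0x1000800c001002003c0c60121df) [(nat_lit 0x2e0200080180030500640060f20aa000002), (nat_lit 0x400400004803001007206d03b026007010010000003)] (.cut (nat_lit 0))) (.cut (nat_lit 1)) (.cE (nat_lit 195) (nat_lit 0x180f207e0fc01c0b607a0d80300da0560d403409e0520f000c0a606a0c80080e206e0ec0440ee0220800400aa0260a40580b203e0bc05c0f603a09807009a0160940740de0120b004c0e602a0880480a202e0ac0040ae0620c00000ea0660e40380d205e0dc03c09605a0f80100fa0760f401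40be0720d002c08604a0e80280c204e0cc0640ce0020a006008a00608407809201e09c07c0d601a0b80500ba0360b40540fe03209006c0c600a0a806808200e08c02408e0420e00200ca0460c407f0bd0710bb03b0d90550df0570950590930130f107d0f706b08900508f02f0ed0210eb0230c104d0c70670a50690a303f0fd0310fb07b09901509f0170d50190d30530b103d0b702b0c90450cf06f0ad0610ab06308100d0870270e50290e305f09d05109b01b0f90750ff0770b50790b30330d105d0d704b0a90250af00f0cd0010cb0030e106d0e704708504908301f0dd0110db05b0b90350bf0370f50390f307309101d09700b0e90650ef04f08d04108b0430a102d0a70070c50090c3) (nat_lit 0) (.iso x15 s14 (nat_lit 1) (nat_lit 0x11000800c001002004e076022133) (nat_lit 0x1000800c001002003c0c60121df) [(nat_lit 0x2e0200080180030500640060f20aa000002), (nat_lit 0x400400004803001007206d03b026007010010000003)] (.cut (nat_lit 2))) (.iso x16 s29 (nat_lit 1) (nat_lit 0x11000800c001002004e076022133) (nat_lit 0x1000800c001002003c0c60121df) [(nat_lit 0x2e0200080180030500640060f20aa000002), (nat_lit 0x400400004803001007206d03b026007010010000003),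 (nat_lit 0x10008004002007009001)] (.cut (nat_lit 3))) .nil))))
theorem c69 : (chk [(x25, s30), (x27, s68), (x15, s14), (x16, s29)] [g114, g109] p69).n x13 s69 = true := by decide +kernel
noncomputable def p70 : Pf := (.ext (nat_lit 1) (nat_lit 0x1010030040005001) (nat_lit 0x10900600400e300c) (nat_lit 0x7030001010057005050020010028066003048030010072035005003) (nat_lit 0x400200801b) (nat_lit 4102) (nat_lit 4106) (nat_lit 0x1500800c00a001) (.dfs (nat_lit 6) (nat_lit 0x100400200801b) (nat_lit 0x100c00a00801e) (nat_lit 0x1010001) (nat_lit 0x1015001) (nat_lit 0) (nat_lit 0) (nat_lit 2) (nat_lit 1) (nat_lit 0x1010030040007001) (nat_lit 10) (nat_lit 1) (nat_lit 0) (nat_lit 4227) (nat_lit 131) (nat_lit 0x100002a0000a1) (nat_lit 0x20000000000000000000000000000040000000000) (.cD (nat_lit 42) (.cut (nat_lit 1)) (.cD (nat_lit 161) (.iso x14 s34 (nat_lit 0) (nat_lit 0x108004006000801002703b011) (nat_lit 0x8004006000801001e063009) [(nat_lit 0x3401000401c00a009002061009000002),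 (nat_lit 0x7601200005e0400600700d10800230e5004002), (nat_lit 0x2e020008018003050064006079055000002), (nat_lit 0x200200004803001007206d03b026007008008000003), (nat_lit 0x10008004002007009001)] (.cut (nat_lit 0))) .nil))))
theorem c70 : (chk [(x14, s34), (x13, s69)] [g108] p70).n x13 s70 = true := by decide +kernel
noncomputable def p71 : Pf := (.ext (nat_lit 1) (nat_lit 0x8010020040001001) (nat_lit 0x1080060040008) (nat_lit 0x7d030020052003069001000040030010001003003) (nat_lit 0x200700400a) (nat_lit 0x1010004002001) (nat_lit 0x1013003001082) (nat_lit 0x800400200300e00400200500f004006005009004006001) (.dfs (nat_lit 1) (nat_lit 0x1001002004008) (nat_lit 0x1001006004009) (nat_lit 1) (nat_lit 1) (nat_lit 5) (nat_lit 0) (nat_lit 2) (nat_lit 1) (nat_lit 0x1002004008001001) (nat_lit 130) (nat_lit 1) (nat_lit 0) (nat_lit 0x1008007) (nat_lit 32775) (nat_lit 0x10000820010820010aa) (nat_lit 0x400000000000000000000000000000000) (.cD (nat_lit 130) (.dfs (nat_lit 2) (nat_lit 0x1002004008010)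 (nat_lit 0x100a00c00801e) (nat_lit 4097) (nat_lit 4111) (nat_lit 0) (nat_lit 0) (nat_lit 2) (nat_lit 1) (nat_lit 0x2004008010001001) (nat_lit 1) (nat_lit 1) (nat_lit 0) (nat_lit 4136) (nat_lit 40) (nat_lit 0x100000e) (nat_lit 16384) (.cD (nat_lit 14) (.dfs (nat_lit 4) (nat_lit 0x1004008010020) (nat_lit 0x1014008010038) (nat_lit 0x1002001) (nat_lit 0x101a001) (nat_lit 0) (nat_lit 0) (nat_lit 2) (nat_lit 1) (nat_lit 0x4008010020001001) (nat_lit 3) (nat_lit 1) (nat_lit 0) (nat_lit 1) (nat_lit 0) (nat_lit 1) (nat_lit 0x100000001000000000) (.cD (nat_lit 36) (.kS (nat_lit 1) (nat_lit 0x28038020050002018010020040003010010000003) (nat_lit 0x1021064062) (nat_lit 0x800600200901400c00401e01d02801000801c01a001) (nat_lit 0x3001802001606302701c00301001000000801002004000100400b00301001000001801002004001200f00b004028038020050034021022001006)) (.cD (nat_lit 68) (.dfs (nat_lit 16) (nat_lit 0x103803002002f) (nat_lit 0x102803002003f) (nat_lit 0x1040010008004002001) (nat_lit 0x1040010018025023001)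 (nat_lit 0) (nat_lit 0) (nat_lit 2) (nat_lit 1) (nat_lit 0) (nat_lit 20) (nat_lit 1) (nat_lit 0) (nat_lit 1) (nat_lit 0) (nat_lit 1) (nat_lit 0x100000000000000000000000100000) (.cD (nat_lit 20) (.kA false (nat_lit 0x2801002004000606900100000c020010026005001020060080001004)) (.cD (nat_lit 116) (.cut (nat_lit 0)) .nil))) .nil))) .nil)) .nil)))
theorem c71 : (chk [(x13, s70)] [] p71).n x13 s71 = true := by decide +kernel
noncomputable def p72 : Pf := (.ext (nat_lit 1) (nat_lit 0) (nat_lit 0x1080060040008002005) (nat_lit 0x2f02000803003a05a00407d03005207201407c001069001000040030001011024002001040020010008002035003005) (nat_lit 0x801401001f) (nat_lit 4097) (nat_lit 4228) (nat_lit 0x2401001800401e019) (.dfs (nat_lit 1) (nat_lit 0x100801401001f) (nat_lit 0x101801401001b) (nat_lit 0x1020004002001) (nat_lit 0x102400401e019) (nat_lit 20) (nat_lit 0) (nat_lit 2) (nat_lit 1) (nat_lit 0) (nat_lit 4) (nat_lit 1) (nat_lit 0) (nat_lit 4136) (nat_lit 40) (nat_lit 0x10000ac) (nat_lit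 0x10000000000000000000000000000000000000000000) (.cD (nat_lit 172) (.cut (nat_lit 0)) .nil)))
theorem c72 : (chk [(x13, s71)] [] p72).n x13 s72 = true := by decide +kernel
noncomputable def p73 : Pf := (.ext (nat_lit 0) (nat_lit 0) (nat_lit 0x1080020040010004) (nat_lit 0x14008006002003003043003000010008004002001003003) (nat_lit 0x6004008016) (nat_lit 0x1008003) (nat_lit 0x1083088) (nat_lit 0x1000800400600d014008004006005) (.dfs (nat_lit 3) (nat_lit 0x1006004008016) (nat_lit 0x1002004008016) (nat_lit 0x1010002001) (nat_lit 0x1014006005) (nat_lit 4) (nat_lit 0) (nat_lit 2) (nat_lit 0) (nat_lit 0) (nat_lit 8) (nat_lit 1) (nat_lit 0) (nat_lit 4112) (nat_lit 16) (nat_lit 0x10000980000b8) (nat_lit 0x10000000100000000000000000000000000000000000000) (.cD (nat_lit 152) (.dfs (nat_lit 8) (nat_lit 0x100c00801002c) (nat_lit 0x1004008010024) (nat_lit 0x1020004002001) (nat_lit 0x102000c01a019) (nat_lit 0) (nat_lit 0) (nat_lit 2) (nat_lit 0) (nat_lit 0) (nat_lit 3) (nat_lit 1)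 (nat_lit 0) (nat_lit 1) (nat_lit 0) (nat_lit 1) (nat_lit 0x800000008000000080000000800000000000000000000000000000000) (.cD (nat_lit 131) (.kA true (nat_lit 0x72010030058001008008000001010030040001003)) (.cD (nat_lit 163) (.kA true (nat_lit 0x1103103004000206900100006207203005d00202803002000f00307202003007d001069001000001010030040001007)) (.cD (nat_lit 195) (.kA true (nat_lit 0x62010030058001008008000001010030040001003)) (.cD (nat_lit 227) (.cut (nat_lit 0)) .nil))))) (.cD (nat_lit 184) (.dfs (nat_lit 8) (nat_lit 0x100c00801002c) (nat_lit 0x1004008010024) (nat_lit 0x1020004002001) (nat_lit 0x102000c01a019) (nat_lit 0) (nat_lit 0) (nat_lit 2) (nat_lit 0) (nat_lit 0) (nat_lit 3) (nat_lit 1) (nat_lit 0) (nat_lit 1) (nat_lit 0) (nat_lit 1) (nat_lit 0x800000008000000080000000800000000000000000000000000000000) (.cD (nat_lit 131) (.kA true (nat_lit 0x2002103004000206900100001004203005d00201003802000f00406202003007d001069001000001010030040001007)) (.cD (nat_lit 163) (.kA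 true (nat_lit 0x52010030058001008008000001010030040001003)) (.cD (nat_lit 195) (.iso x13 s72 (nat_lit 0) (nat_lit 0x108004002001000802404a009) (nat_lit 0x8004002001000802404a009) [(nat_lit 0x40020010008024022001001001), (nat_lit 0x4002001000800c03a011003008008000002), (nat_lit 0x10008004002009005001)] (.cut (nat_lit 0))) (.cD (nat_lit 227) (.kA true (nat_lit 0x42010030058001008008000001010030040001003)) .nil))))) .nil))))
theorem c73 : (chk [(x13, s72)] [g177] p73).n x13 s73 = true := by decide +kernel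
noncomputable def p74 : Pf := (.ext (nat_lit 1) (nat_lit 0) (nat_lit 0x1080060040008) (nat_lit 0x20010008004001001) (nat_lit 0x2003004008) (nat_lit 0x1004002001) (nat_lit 0x1006004005) (nat_lit 0xe00400200500f004006005009004006001) (.dfs (nat_lit 1) (nat_lit 0x1002003004008) (nat_lit 0x1006007004009) (nat_lit 4097) (nat_lit 4097) (nat_lit 5) (nat_lit 0) (nat_lit 2) (nat_lit 1) (nat_lit 0) (nat_lit 5) (nat_lit 1) (nat_lit 0) (nat_lit 0x1080008) (nat_lit 0x80008) (nat_lit 0x100000d00100d00106d) (nat_lit 8192) (.cD (nat_lit 13) (.dfs (nat_lit 2) (nat_lit 0x1004006008010) (nat_lit 0x100c00600801e) (nat_lit 0x1002001) (nat_lit 0x100a00f) (nat_lit 0) (nat_lit 0) (nat_lit 2) (nat_lit 1) (nat_lit 0) (nat_lit 4) (nat_lit 1) (nat_lit 0) (nat_lit 4136) (nat_lit 40) (nat_lit 0x1000024) (nat_lit 0x1000000000) (.cD (nat_lit 36) (.dfs (nat_lit 4) (nat_lit 0x100800c010020) (nat_lit 0x100801c010038) (nat_lit 0x1004002001) (nat_lit 0x101401a001) (nat_lit 0) (nat_lit 0) (nat_lit 2)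 (nat_lit 1) (nat_lit 0) (nat_lit 6) (nat_lit 1) (nat_lit 0) (nat_lit 1) (nat_lit 0) (nat_lit 1) (nat_lit 0x4000000000000000000000004000) (.cD (nat_lit 14) (.cut (nat_lit 0)) (.cD (nat_lit 110) (.kS (nat_lit 1) (nat_lit 0x10018020040002001) (nat_lit 0x100b06e02a) (nat_lit 0x800600200901400c00401e01d02801000801c01a001) (nat_lit 0x1800802004003d03102b00100801002004000400200100101001802004003602b03a001003)) .nil))) .nil)) .nil)))
theorem c74 : (chk [(x13, s73)] [] p74).n x13 s74 = true := by decide +kernel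
noncomputable def p75 : Pf := (.clm (.iso x5 s3 (nat_lit 0) (nat_lit 0x1040020010008004022015) (nat_lit 0x40020010008004022015) [] (.cut (nat_lit 0))) (.dfs (nat_lit 64) (nat_lit 1) (nat_lit 1) (nat_lit 1) (nat_lit 1) (nat_lit 0) (nat_lit 0) (nat_lit 0) (nat_lit 0) (nat_lit 0) (nat_lit 0) (nat_lit 1) (nat_lit 0) (nat_lit 0x1004002001) (nat_lit 0x4002001) (nat_lit 0x100004000104000004400104400004800104800204800105400106000104e00204e00205800206e) (nat_lit 0x1110000000000000000) (.cD (nat_lit 64) (.kin (nat_lit 1) (nat_lit 0)) (.cD (nat_lit 68) (.czp (nat_lit 68) (nat_lit 0x1002001) (nat_lit 0x104002001000400a) z2 (.dfs (nat_lit 44) (nat_lit 4097) (nat_lit 4097) (nat_lit 1) (nat_lit 1) (nat_lit 0) (nat_lit 1) (nat_lit 3) (nat_lit 0) (nat_lit 0) (nat_lit 0) (nat_lit 1) (nat_lit 0) (nat_lit 4106) (nat_lit 10) (nat_lit 0x100000e00002e) (nat_lit 0x400000004000) (.cD (nat_lit 14) (.mulh (nat_lit 1) (nat_lit 1) (.dfs (nat_lit 8) (nat_lit 4100) (nat_lit 4100) (nat_lit 0x1002001)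 (nat_lit 0x1003001) (nat_lit 0) (nat_lit 0) (nat_lit 3) (nat_lit 0) (nat_lit 0) (nat_lit 0) (nat_lit 1) (nat_lit 0) (nat_lit 4218) (nat_lit 106) (nat_lit 0x100000400000a00002400002a) (nat_lit 0x41000000410) (.cD (nat_lit 4) (.kF (nat_lit 32) (nat_lit 0x300900100100100000700f00100800800000802800300200a002001001000007)) (.cD (nat_lit 10) (.dfs (nat_lit 16) (nat_lit 4104) (nat_lit 4104) (nat_lit 0x1004002001) (nat_lit 0x1004002001) (nat_lit 0) (nat_lit 0) (nat_lit 3) (nat_lit 0) (nat_lit 0) (nat_lit 0) (nat_lit 0x104000e00a004) (nat_lit 8) (nat_lit 1) (nat_lit 0) (nat_lit 1) (nat_lit 0x1000100010000) (.cD (nat_lit 16) (.kc (nat_lit 48) (nat_lit 0x5001001)) (.cD (nat_lit 32) (.kA true (nat_lit 0xf00100501b001001001000002)) (.cD (nat_lit 48) (.kA false (nat_lit 0x2002000003004005011002003003000003)) .nil)))) (.cD (nat_lit 36) (.kF (nat_lit 8) (nat_lit 0x100100000700a00100c02800400200200000c024003001008001006)) (.cD (nat_lit 42) (.dfs (nat_lit 16) (nat_lit 4104) (nat_lit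 4104) (nat_lit 0x1004002001) (nat_lit 0x1004002001) (nat_lit 0) (nat_lit 0) (nat_lit 3) (nat_lit 0) (nat_lit 0) (nat_lit 0) (nat_lit 0x104000e00a004) (nat_lit 8) (nat_lit 1) (nat_lit 0) (nat_lit 1) (nat_lit 0x1000100010000) (.cD (nat_lit 16) (.kc (nat_lit 48) (nat_lit 0x5001001)) (.cD (nat_lit 32) (.dfs (nat_lit 2) (nat_lit 0x100a00100501a) (nat_lit 0x100f00100501e) (nat_lit 0x1010008004002) (nat_lit 0x101100d004002) (nat_lit 0) (nat_lit 0) (nat_lit 2) (nat_lit 1) (nat_lit 0) (nat_lit 2) (nat_lit 1) (nat_lit 0) (nat_lit 4196) (nat_lit 100) (nat_lit 0x1000002000012) (nat_lit 0x40004) (.cD (nat_lit 2) (.kA false (nat_lit 0xd002008034001004008002020001002)) (.cD (nat_lit 18) (.dfs (nat_lit 1) (nat_lit 0x100f002008034) (nat_lit 0x1004008002028) (nat_lit 0x1020010004001) (nat_lit 0x103601100f001) (nat_lit 0) (nat_lit 0) (nat_lit 2) (nat_lit 0) (nat_lit 0) (nat_lit 5) (nat_lit 1) (nat_lit 0) (nat_lit 4112) (nat_lit 16) (nat_lit 0x1000015) (nat_lit 0x200000) (.cD (nat_lit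 21) (.extn a74 (nat_lit 0x40010004008028002001) (nat_lit 0x1008020010040) (nat_lit 2) (nat_lit 0) (nat_lit 0) (nat_lit 4) (nat_lit 0x10000000000010) (.cE (nat_lit 4) b176 (nat_lit 0) (.cut (nat_lit 5)) (.cut (nat_lit 6)) (.cE (nat_lit 52) b177 (nat_lit 0) (.cut (nat_lit 7)) (.cut (nat_lit 8)) .nil))) .nil)) .nil))) (.cD (nat_lit 48) (.kA false (nat_lit 0x2002000006004005011002003003000003)) .nil)))) .nil)))))) (.cD (nat_lit 46) (.mulh (nat_lit 1) (nat_lit 1) (.dfs (nat_lit 8) (nat_lit 4100) (nat_lit 4100) (nat_lit 0x1002001) (nat_lit 0x1003001) (nat_lit 0) (nat_lit 0) (nat_lit 3) (nat_lit 0) (nat_lit 0) (nat_lit 0) (nat_lit 1) (nat_lit 0) (nat_lit 4218) (nat_lit 106) (nat_lit 0x100000400000a00002400002a) (nat_lit 0x41000000410) (.cD (nat_lit 4) (.dfs (nat_lit 16) (nat_lit 4104) (nat_lit 4104) (nat_lit 0x1004002001) (nat_lit 0x1004002001) (nat_lit 0) (nat_lit 0) (nat_lit 3) (nat_lit 0) (nat_lit 0) (nat_lit 0) (nat_lit 0x104000e00a004) (nat_lit 8) (nat_lit 1) (nat_lit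 0) (nat_lit 1) (nat_lit 0x1000100010000) (.cD (nat_lit 16) (.kc (nat_lit 48) (nat_lit 0x5001001)) (.cD (nat_lit 32) (.kA false (nat_lit 0x400200701000201c00801802800300b004001014002001001000004)) (.cD (nat_lit 48) (.kA false (nat_lit 0x200200000f004005011002003003000003)) .nil)))) (.cD (nat_lit 10) (.dfs (nat_lit 16) (nat_lit 4104) (nat_lit 4104) (nat_lit 0x1004002001) (nat_lit 0x1004002001) (nat_lit 0) (nat_lit 0) (nat_lit 3) (nat_lit 0) (nat_lit 0) (nat_lit 0) (nat_lit 0x104000e00a004) (nat_lit 8) (nat_lit 1) (nat_lit 0) (nat_lit 1) (nat_lit 0x1000100010000) (.cD (nat_lit 16) (.kc (nat_lit 48) (nat_lit 0x5001001)) (.cD (nat_lit 32) (.dfs (nat_lit 2) (nat_lit 0x100a00100501a) (nat_lit 0x100f00100501e) (nat_lit 0x1010008004002) (nat_lit 0x101100d004002) (nat_lit 0) (nat_lit 0) (nat_lit 2) (nat_lit 1) (nat_lit 0) (nat_lit 2) (nat_lit 1) (nat_lit 0) (nat_lit 4196) (nat_lit 100) (nat_lit 0x1000002000012) (nat_lit 0x40004) (.cD (nat_lit 2) (.dfs (nat_lit 1) (nat_lit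 0x1005002008034) (nat_lit 0x100e008002028) (nat_lit 0x1020010004001) (nat_lit 0x103601100f001) (nat_lit 0) (nat_lit 0) (nat_lit 2) (nat_lit 0) (nat_lit 0) (nat_lit 1) (nat_lit 1) (nat_lit 0) (nat_lit 4112) (nat_lit 16) (nat_lit 0x1000001) (nat_lit 2) (.cD (nat_lit 1) (.extn a78 (nat_lit 0x40010004008028002001) (nat_lit 0x1008020010040) (nat_lit 2) (nat_lit 0) (nat_lit 0) (nat_lit 0) (nat_lit 0x1000000000001) (.cE (nat_lit 0) b184 (nat_lit 0) (.cut (nat_lit 1)) (.cut (nat_lit 2)) (.cE (nat_lit 48) b185 (nat_lit 0) (.cut (nat_lit 3)) (.cut (nat_lit 4)) .nil))) .nil)) (.cD (nat_lit 18) (.kA false (nat_lit 0x5002008034001004008002020001002)) .nil))) (.cD (nat_lit 48) (.kA false (nat_lit 0x2002000003004005011002003003000003)) .nil)))) (.cD (nat_lit 36) (.dfs (nat_lit 16) (nat_lit 4104) (nat_lit 4104) (nat_lit 0x1004002001) (nat_lit 0x1004002001) (nat_lit 0) (nat_lit 0) (nat_lit 3) (nat_lit 0) (nat_lit 0) (nat_lit 0) (nat_lit 0x104000e00a004) (nat_lit 8) (nat_lit 1) (nat_lit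 0) (nat_lit 1) (nat_lit 0x1000100010000) (.cD (nat_lit 16) (.kc (nat_lit 48) (nat_lit 0x5001001)) (.cD (nat_lit 32) (.kA false (nat_lit 0x200300601000200400801802800300a004001014002001001000004)) (.cD (nat_lit 48) (.kA false (nat_lit 0x200200000a004005011002003003000003)) .nil)))) (.cD (nat_lit 42) (.dfs (nat_lit 16) (nat_lit 4104) (nat_lit 4104) (nat_lit 0x1004002001) (nat_lit 0x1004002001) (nat_lit 0) (nat_lit 0) (nat_lit 3) (nat_lit 0) (nat_lit 0) (nat_lit 0) (nat_lit 0x104000e00a004) (nat_lit 8) (nat_lit 1) (nat_lit 0) (nat_lit 1) (nat_lit 0x1000100010000) (.cD (nat_lit 16) (.kc (nat_lit 48) (nat_lit 0x5001001)) (.cD (nat_lit 32) (.kA true (nat_lit 0xf00100501b001001001000002)) (.cD (nat_lit 48) (.kA false (nat_lit 0x2002000006004005011002003003000003)) .nil)))) .nil)))))) .nil)))) (.cD (nat_lit 72) (.kn (nat_lit 1) (nat_lit 0x1040020010008004) false (nat_lit 0x1004002001) (nat_lit 0x4002001) (nat_lit 0x100004800104800204800104e)) .nil)))))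
theorem c75 : (chk [(x5, s3), (x6, s4), (x7, s5), (x8, s6), (x9, s10), (x10, s11), (x11, s12), (x12, s13), (x13, s74)] [g163] p75).n x4 s75 = true := by decide +kernel
noncomputable def p76 : Pf := (.ext (nat_lit 1) (nat_lit 0) (nat_lit 0x1040030020004) (nat_lit 0x1002004008003001) (nat_lit 0x2003004008) (nat_lit 0x1002001) (nat_lit 0x1003002) (nat_lit 0xe00400200500f004006005) (.dfs (nat_lit 1) (nat_lit 0x1002003004008) (nat_lit 0x100600300400f) (nat_lit 4097) (nat_lit 4101) (nat_lit 0) (nat_lit 0) (nat_lit 2) (nat_lit 1) (nat_lit 0) (nat_lit 2) (nat_lit 1) (nat_lit 0) (nat_lit 0x1040004) (nat_lit 0x40004) (nat_lit 0x1000002001002001032) (nat_lit 4) (.cD (nat_lit 2) (.dfs (nat_lit 2) (nat_lit 0x1004006008010) (nat_lit 0x100400e00801c) (nat_lit 0x1002001) (nat_lit 0x100a001) (nat_lit 0) (nat_lit 0) (nat_lit 2) (nat_lit 1) (nat_lit 0) (nat_lit 3) (nat_lit 1) (nat_lit 0) (nat_lit 4112) (nat_lit 16) (nat_lit 0x1000003) (nat_lit 8) (.cD (nat_lit 3) (.cut (nat_lit 0))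 .nil)) .nil)))
theorem c76 : (chk [(x4, s75)] [] p76).n x4 s76 = true := by decide +kernel
noncomputable def p77 : Pf := (.ext (nat_lit 1) (nat_lit 0) (nat_lit 0x1040030020004) (nat_lit 0x1002004008001001) (nat_lit 0x2003004008) (nat_lit 4097) (nat_lit 4098) (nat_lit 0xf004006005) (.dfs (nat_lit 1) (nat_lit 0x1002003004008) (nat_lit 0x100600300400f) (nat_lit 4097) (nat_lit 4101) (nat_lit 0) (nat_lit 0) (nat_lit 2) (nat_lit 1) (nat_lit 0) (nat_lit 2) (nat_lit 1) (nat_lit 0) (nat_lit 1) (nat_lit 0) (nat_lit 1) (nat_lit 0) .nil))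
theorem c77 : (chk [] [] p77).n x46 s77 = true := by decide +kernel
noncomputable def p78 : Pf := (.lft (nat_lit 0x20008018001004002001001) (nat_lit 0) (nat_lit 0x1028020) (nat_lit 0x20010008004002001) (.extn a73 (nat_lit 0x20010008004002001) (nat_lit 0x1004010008020) (nat_lit 2) (nat_lit 0) (nat_lit 0) (nat_lit 0) (nat_lit 0x1000001) (.cE (nat_lit 0) b175 t175 (.cut (nat_lit 0)) (.iso x46 s77 (nat_lit 0) (nat_lit 0x1040020010008004022015) (nat_lit 0x40020010008004022015) [(nat_lit 0x8004002001007001)] (.cut (nat_lit 1))) (.cE (nat_lit 24) (nat_lit 0x2402502602703103002b02a03403503603702102003b03a02c02d02e02f03903802302203c03d03e03f02902803303201e01f01c01d01b01a00100000e00f00c00d00b00a011010016017014015013012009008006007004005003002019018) (nat_lit 0) (.iso x4 s76 (nat_lit 1) (nat_lit 0x1040020010008004002011) (nat_lit 0x40020010008004002011) [(nat_lit 0x10008004002001005001), (nat_lit 0x8004002001007001)] (.cut (nat_lit 0))) (.iso x46 s77 (nat_lit 0) (nat_lit 0x1040020010008004022005)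 (nat_lit 0x40020010008004022005) [(nat_lit 0x8004002001007001)] (.cut (nat_lit 1))) .nil))))
theorem c78 : (chk [(x4, s76), (x46, s77)] [g163, g175] p78).n x3 s78 = true := by decide +kernel
noncomputable def p79 : Pf := (.anc (nat_lit 144) (nat_lit 0x23003000014002002) (nat_lit 0x100f040020010) (.czp (nat_lit 128) (nat_lit 0) (nat_lit 0x1080040020010008) z3 (.dfs (nat_lit 16) (nat_lit 4097) (nat_lit 4097) (nat_lit 1) (nat_lit 1) (nat_lit 0) (nat_lit 0) (nat_lit 3) (nat_lit 0) (nat_lit 0) (nat_lit 0) (nat_lit 1) (nat_lit 0) (nat_lit 0x1010008) (nat_lit 65544) (nat_lit 0x1001008000010001028000030) (nat_lit 0x1000000010001010100010100) (.cD (nat_lit 8) (.dfs (nat_lit 32) (nat_lit 4098) (nat_lit 4098) (nat_lit 4097) (nat_lit 4097) (nat_lit 0) (nat_lit 0) (nat_lit 3) (nat_lit 0) (nat_lit 0) (nat_lit 0) (nat_lit 1) (nat_lit 0) (nat_lit 1) (nat_lit 0) (nat_lit 1) (nat_lit 0x101000001010000010100000100) (.cD (nat_lit 8) (.kc (nat_lit 48) (nat_lit 0x3001001)) (.cD (nat_lit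 32) (.kF (nat_lit 32) (nat_lit 0x9001000001006001002)) (.cD (nat_lit 40) (.kF (nat_lit 32) (nat_lit 0x9001000001006001002)) (.cD (nat_lit 64) (.kF (nat_lit 16) (nat_lit 0x2d005000002007001004004000003)) (.cD (nat_lit 72) (.kF (nat_lit 16) (nat_lit 0x23003000002007001004004000003)) (.cD (nat_lit 96) (.dfs (nat_lit 64) (nat_lit 4100) (nat_lit 4100) (nat_lit 0x1002001) (nat_lit 0x1002001) (nat_lit 0) (nat_lit 0) (nat_lit 3) (nat_lit 0) (nat_lit 0) (nat_lit 0) (nat_lit 1) (nat_lit 0) (nat_lit 1) (nat_lit 0) (nat_lit 1) (nat_lit 0x101000001010000010100000100) (.cD (nat_lit 8) (.kc (nat_lit 80) (nat_lit 0x5001001)) (.cD (nat_lit 32) (.kA false (nat_lit 0x900100000400100200c001002)) (.cD (nat_lit 40) (.kA false (nat_lit 0x900100000400100200c001002)) (.cD (nat_lit 64) (.kA false (nat_lit 0x900100000400100200c001002)) (.cD (nat_lit 72) (.kA false (nat_lit 0x900100000400100200c001002)) (.cD (nat_lit 96) (.kc (nat_lit 96) (nat_lit 0x3001001)) (.cD (nat_lit 104) (.kc (nat_lit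 112) (nat_lit 0x7001001)) .nil)))))))) (.cD (nat_lit 104) (.dfs (nat_lit 64) (nat_lit 4100) (nat_lit 4100) (nat_lit 0x1002001) (nat_lit 0x1002001) (nat_lit 0) (nat_lit 0) (nat_lit 3) (nat_lit 0) (nat_lit 0) (nat_lit 0) (nat_lit 1) (nat_lit 0) (nat_lit 1) (nat_lit 0) (nat_lit 1) (nat_lit 0x101000001010000010100000100) (.cD (nat_lit 8) (.kc (nat_lit 80) (nat_lit 0x5001001)) (.cD (nat_lit 32) (.kA false (nat_lit 0x900100000400100200c001002)) (.cD (nat_lit 40) (.kA false (nat_lit 0x900100000400100200c001002)) (.cD (nat_lit 64) (.kA false (nat_lit 0x900100000400100200c001002)) (.cD (nat_lit 72) (.kA false (nat_lit 0x900100000400100200c001002)) (.cD (nat_lit 96) (.kc (nat_lit 112) (nat_lit 0x7001001)) (.cD (nat_lit 104) (.kc (nat_lit 96) (nat_lit 0x3001001)) .nil)))))))) .nil)))))))) (.cD (nat_lit 16) (.dfs (nat_lit 32) (nat_lit 4098) (nat_lit 4098) (nat_lit 4097) (nat_lit 4097) (nat_lit 0) (nat_lit 0) (nat_lit 3) (nat_lit 0) (nat_lit 0) (nat_lit 0) (nat_lit 1) (nat_lit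 0) (nat_lit 1) (nat_lit 0) (nat_lit 1) (nat_lit 0x10001000100010001000100010000) (.cD (nat_lit 16) (.kc (nat_lit 48) (nat_lit 0x3001001)) (.cD (nat_lit 32) (.dfs (nat_lit 64) (nat_lit 4100) (nat_lit 4100) (nat_lit 0x1002001) (nat_lit 0x1002001) (nat_lit 0) (nat_lit 0) (nat_lit 3) (nat_lit 0) (nat_lit 0) (nat_lit 0) (nat_lit 1) (nat_lit 0) (nat_lit 1) (nat_lit 0) (nat_lit 1) (nat_lit 0x10001000100010001000100010000) (.cD (nat_lit 16) (.kc (nat_lit 80) (nat_lit 0x5001001)) (.cD (nat_lit 32) (.kc (nat_lit 96) (nat_lit 0x3001001)) (.cD (nat_lit 48) (.kc (nat_lit 112) (nat_lit 0x7001001)) (.cD (nat_lit 64) (.kA false (nat_lit 0x700400200800100a004008014003023003000003)) (.cD (nat_lit 80) (.kA false (nat_lit 0x700400200800100a004008014003023003000003)) (.cD (nat_lit 96) (.dfs (nat_lit 15) (nat_lit 0x1004003002008) (nat_lit 0x1007003002008) (nat_lit 4097) (nat_lit 4097) (nat_lit 3) (nat_lit 0) (nat_lit 2) (nat_lit 0) (nat_lit 0) (nat_lit 8) (nat_lit 1) (nat_lit 0) (nat_lit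 4112) (nat_lit 16) (nat_lit 0x1000018000038) (nat_lit 0x100000001000000) (.cD (nat_lit 24) (.kb (nat_lit 143) (nat_lit 0x1009000019001002) (nat_lit 0x1040020090008004002)) (.cD (nat_lit 56) (.kb (nat_lit 175) (nat_lit 0x100900001d001002) (nat_lit 0x1040020090008004012)) .nil))) (.cD (nat_lit 112) (.dfs (nat_lit 15) (nat_lit 4101) (nat_lit 4102) (nat_lit 1) (nat_lit 1) (nat_lit 3) (nat_lit 0) (nat_lit 1) (nat_lit 4192) (nat_lit 0x80040020010008004002009) (nat_lit 0) (nat_lit 1) (nat_lit 0) (nat_lit 1) (nat_lit 0) (nat_lit 1) (nat_lit 0) .nil) .nil)))))))) (.cD (nat_lit 48) (.dfs (nat_lit 64) (nat_lit 4100) (nat_lit 4100) (nat_lit 0x1002001) (nat_lit 0x1002001) (nat_lit 0) (nat_lit 0) (nat_lit 3) (nat_lit 0) (nat_lit 0) (nat_lit 0) (nat_lit 1) (nat_lit 0) (nat_lit 1) (nat_lit 0) (nat_lit 1) (nat_lit 0x10001000100010001000100010000) (.cD (nat_lit 16) (.kc (nat_lit 80) (nat_lit 0x5001001)) (.cD (nat_lit 32) (.kc (nat_lit 112) (nat_lit 0x7001001)) (.cD (nat_lit 48) (.kc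 (nat_lit 96) (nat_lit 0x3001001)) (.cD (nat_lit 64) (.kA false (nat_lit 0x400400000400100200e001004004000003)) (.cD (nat_lit 80) (.kA false (nat_lit 0x400400000400100200e001004004000003)) (.cD (nat_lit 96) (.kA false (nat_lit 0x400400000400100200e001004004000003)) (.cD (nat_lit 112) (.kA false (nat_lit 0x400400000400100200e001004004000003)) .nil)))))))) (.cD (nat_lit 64) (.kF (nat_lit 16) (nat_lit 0x3006002008008000002007001004004000004)) (.cD (nat_lit 80) (.kF (nat_lit 16) (nat_lit 0x23003000002007001004004000003)) (.cD (nat_lit 96) (.kF (nat_lit 32) (nat_lit 0x2300300000e014004001006001003)) (.cD (nat_lit 112) (.kF (nat_lit 32) (nat_lit 0x2300300000a014004001006001003)) .nil)))))))) (.cD (nat_lit 32) (.kF (nat_lit 16) (nat_lit 0x4004000001003001002)) (.cD (nat_lit 40) (.kF (nat_lit 16) (nat_lit 0x2002000001003001002)) (.cD (nat_lit 48) (.kF (nat_lit 16) (nat_lit 0x2300300000c014004004004000001003001004)) (.cD (nat_lit 64) (.dfs (nat_lit 32) (nat_lit 4098) (nat_lit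 4098) (nat_lit 4097) (nat_lit 4097) (nat_lit 0) (nat_lit 0) (nat_lit 3) (nat_lit 0) (nat_lit 0) (nat_lit 0) (nat_lit 1) (nat_lit 0) (nat_lit 0x1010008) (nat_lit 65544) (nat_lit 0x1001008000010001028000030) (nat_lit 0x1000000010001010100010100) (.cD (nat_lit 8) (.kF (nat_lit 16) (nat_lit 0x2d005000002007001004004000003)) (.cD (nat_lit 16) (.kF (nat_lit 16) (nat_lit 0x1006002004016003002007001004004000004)) (.cD (nat_lit 32) (.dfs (nat_lit 64) (nat_lit 4100) (nat_lit 4100) (nat_lit 0x1002001) (nat_lit 0x1002001) (nat_lit 0) (nat_lit 0) (nat_lit 3) (nat_lit 0) (nat_lit 0) (nat_lit 0) (nat_lit 1) (nat_lit 0) (nat_lit 0x1010008) (nat_lit 65544) (nat_lit 0x1001008000010001028000030) (nat_lit 0x1000000010001010100010100) (.cD (nat_lit 8) (.kA false (nat_lit 0x2300300000400100200c001002)) (.cD (nat_lit 16) (.kA false (nat_lit 0x300400200c002023003000002)) (.cD (nat_lit 32) (.kc (nat_lit 96) (nat_lit 0x3001001)) (.cD (nat_lit 40) (.kA false (nat_lit 0x2300300000400100200c001002))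 (.cD (nat_lit 48) (.dfs (nat_lit 15) (nat_lit 4102) (nat_lit 4101) (nat_lit 1) (nat_lit 1) (nat_lit 3) (nat_lit 0) (nat_lit 1) (nat_lit 4192) (nat_lit 0x80040020010008004002009) (nat_lit 0) (nat_lit 1) (nat_lit 0) (nat_lit 1) (nat_lit 0) (nat_lit 1) (nat_lit 0) .nil) (.cD (nat_lit 64) (.kc (nat_lit 80) (nat_lit 0x5001001)) (.cD (nat_lit 96) (.kc (nat_lit 112) (nat_lit 0x7001001)) .nil)))))))) (.cD (nat_lit 40) (.kF (nat_lit 32) (nat_lit 0x23003000001006001002)) (.cD (nat_lit 48) (.kF (nat_lit 32) (nat_lit 0x23003000001006001002)) (.cD (nat_lit 64) (.kc (nat_lit 48) (nat_lit 0x3001001)) (.cD (nat_lit 96) (.dfs (nat_lit 64) (nat_lit 4100) (nat_lit 4100) (nat_lit 0x1002001) (nat_lit 0x1002001) (nat_lit 0) (nat_lit 0) (nat_lit 3) (nat_lit 0) (nat_lit 0) (nat_lit 0) (nat_lit 1) (nat_lit 0) (nat_lit 0x1010008) (nat_lit 65544) (nat_lit 0x1001008000010001028000030) (nat_lit 0x1000000010001010100010100) (.cD (nat_lit 8) (.kA false (nat_lit 0x400400000400100200e001004004000003))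 (.cD (nat_lit 16) (.kA false (nat_lit 0x700400600c002023003000002)) (.cD (nat_lit 32) (.kc (nat_lit 112) (nat_lit 0x7001001)) (.cD (nat_lit 40) (.kA false (nat_lit 0x400400000400100200e001004004000003)) (.cD (nat_lit 48) (.kA false (nat_lit 0x100400600c002023003000002)) (.cD (nat_lit 64) (.kc (nat_lit 80) (nat_lit 0x5001001)) (.cD (nat_lit 96) (.kc (nat_lit 96) (nat_lit 0x3001001)) .nil)))))))) .nil)))))))) (.cD (nat_lit 96) (.kF (nat_lit 16) (nat_lit 0x67007000001003001002)) .nil))))))))))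
theorem c79 : (chk [] [] p79).n x47 s79 = true := by decide +kernel
noncomputable def p80 : Pf := (.anc (nat_lit 144) (nat_lit 0x23003000014002002) (nat_lit 0x100f040020010) (.czp (nat_lit 128) (nat_lit 0) (nat_lit 0x1080040020010008) z3 (.dfs (nat_lit 16) (nat_lit 4097) (nat_lit 4097) (nat_lit 1) (nat_lit 1) (nat_lit 0) (nat_lit 0) (nat_lit 3) (nat_lit 0) (nat_lit 0) (nat_lit 0) (nat_lit 1) (nat_lit 0) (nat_lit 0x1010008) (nat_lit 65544) (nat_lit 0x1001008000010001028000030) (nat_lit 0x1000000010001010100010100) (.cD (nat_lit 8) (.dfs (nat_lit 32) (nat_lit 4098) (nat_lit 4098) (nat_lit 4097) (nat_lit 4097) (nat_lit 0) (nat_lit 0) (nat_lit 3) (nat_lit 0) (nat_lit 0) (nat_lit 0) (nat_lit 1) (nat_lit 0) (nat_lit 1) (nat_lit 0) (nat_lit 1) (nat_lit 0x101000001010000010100000100) (.cD (nat_lit 8) (.kc (nat_lit 48) (nat_lit 0x3001001)) (.cD (nat_lit 32) (.kF (nat_lit 32) (nat_lit 0x9001000001006001002)) (.cD (nat_lit 40) (.kF (nat_lit 32) (nat_lit 0x9001000001006001002))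 (.cD (nat_lit 64) (.kF (nat_lit 16) (nat_lit 0x2d005000002007001004004000003)) (.cD (nat_lit 72) (.kF (nat_lit 16) (nat_lit 0x23003000002007001004004000003)) (.cD (nat_lit 96) (.dfs (nat_lit 64) (nat_lit 4100) (nat_lit 4100) (nat_lit 0x1002001) (nat_lit 0x1002001) (nat_lit 0) (nat_lit 0) (nat_lit 3) (nat_lit 0) (nat_lit 0) (nat_lit 0) (nat_lit 1) (nat_lit 0) (nat_lit 1) (nat_lit 0) (nat_lit 1) (nat_lit 0x101000001010000010100000100) (.cD (nat_lit 8) (.kc (nat_lit 80) (nat_lit 0x5001001)) (.cD (nat_lit 32) (.kA false (nat_lit 0x900100000400100200c001002)) (.cD (nat_lit 40) (.kA false (nat_lit 0x900100000400100200c001002)) (.cD (nat_lit 64) (.kA false (nat_lit 0x900100000400100200c001002)) (.cD (nat_lit 72) (.kA false (nat_lit 0x900100000400100200c001002)) (.cD (nat_lit 96) (.kc (nat_lit 96) (nat_lit 0x3001001)) (.cD (nat_lit 104) (.kc (nat_lit 112) (nat_lit 0x7001001)) .nil)))))))) (.cD (nat_lit 104) (.dfs (nat_lit 64) (nat_lit 4100) (nat_lit 4100) (nat_lit 0x1002001)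 (nat_lit 0x1002001) (nat_lit 0) (nat_lit 0) (nat_lit 3) (nat_lit 0) (nat_lit 0) (nat_lit 0) (nat_lit 1) (nat_lit 0) (nat_lit 1) (nat_lit 0) (nat_lit 1) (nat_lit 0x101000001010000010100000100) (.cD (nat_lit 8) (.kc (nat_lit 80) (nat_lit 0x5001001)) (.cD (nat_lit 32) (.kA false (nat_lit 0x900100000400100200c001002)) (.cD (nat_lit 40) (.kA false (nat_lit 0x900100000400100200c001002)) (.cD (nat_lit 64) (.kA false (nat_lit 0x900100000400100200c001002)) (.cD (nat_lit 72) (.kA false (nat_lit 0x900100000400100200c001002)) (.cD (nat_lit 96) (.kc (nat_lit 112) (nat_lit 0x7001001)) (.cD (nat_lit 104) (.kc (nat_lit 96) (nat_lit 0x3001001)) .nil)))))))) .nil)))))))) (.cD (nat_lit 16) (.dfs (nat_lit 32) (nat_lit 4098) (nat_lit 4098) (nat_lit 4097) (nat_lit 4097) (nat_lit 0) (nat_lit 0) (nat_lit 3) (nat_lit 0) (nat_lit 0) (nat_lit 0) (nat_lit 1) (nat_lit 0) (nat_lit 1) (nat_lit 0) (nat_lit 1) (nat_lit 0x10001000100010001000100010000) (.cD (nat_lit 16) (.kc (nat_lit 48) (nat_lit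 0x3001001)) (.cD (nat_lit 32) (.dfs (nat_lit 64) (nat_lit 4100) (nat_lit 4100) (nat_lit 0x1002001) (nat_lit 0x1002001) (nat_lit 0) (nat_lit 0) (nat_lit 3) (nat_lit 0) (nat_lit 0) (nat_lit 0) (nat_lit 1) (nat_lit 0) (nat_lit 1) (nat_lit 0) (nat_lit 1) (nat_lit 0x10001000100010001000100010000) (.cD (nat_lit 16) (.kc (nat_lit 80) (nat_lit 0x5001001)) (.cD (nat_lit 32) (.kc (nat_lit 96) (nat_lit 0x3001001)) (.cD (nat_lit 48) (.kc (nat_lit 112) (nat_lit 0x7001001)) (.cD (nat_lit 64) (.kA false (nat_lit 0x700400200800100a004008014003023003000003)) (.cD (nat_lit 80) (.kA false (nat_lit 0x700400200800100a004008014003023003000003)) (.cD (nat_lit 96) (.dfs (nat_lit 15) (nat_lit 0x1004003002008) (nat_lit 0x1007003002008) (nat_lit 4097) (nat_lit 4097) (nat_lit 3) (nat_lit 0) (nat_lit 2) (nat_lit 0) (nat_lit 0) (nat_lit 8) (nat_lit 1) (nat_lit 0) (nat_lit 4112) (nat_lit 16) (nat_lit 0x10000980000b8) (nat_lit 0x10000000100000000000000000000000000000000000000) (.cD (nat_lit 152)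 (.kA true (nat_lit 0x1b00600201000100400400001b006002014002004004000004)) (.cD (nat_lit 184) (.kA true (nat_lit 0x1f00600201000100400400001f006002014002004004000004)) .nil))) (.cD (nat_lit 112) (.dfs (nat_lit 15) (nat_lit 4101) (nat_lit 4102) (nat_lit 1) (nat_lit 1) (nat_lit 3) (nat_lit 0) (nat_lit 1) (nat_lit 4192) (nat_lit 0x80040020010008004002009) (nat_lit 0) (nat_lit 1) (nat_lit 0) (nat_lit 1) (nat_lit 0) (nat_lit 1) (nat_lit 0) .nil) .nil)))))))) (.cD (nat_lit 48) (.dfs (nat_lit 64) (nat_lit 4100) (nat_lit 4100) (nat_lit 0x1002001) (nat_lit 0x1002001) (nat_lit 0) (nat_lit 0) (nat_lit 3) (nat_lit 0) (nat_lit 0) (nat_lit 0) (nat_lit 1) (nat_lit 0) (nat_lit 1) (nat_lit 0) (nat_lit 1) (nat_lit 0x10001000100010001000100010000) (.cD (nat_lit 16) (.kc (nat_lit 80) (nat_lit 0x5001001)) (.cD (nat_lit 32) (.kc (nat_lit 112) (nat_lit 0x7001001)) (.cD (nat_lit 48) (.kc (nat_lit 96) (nat_lit 0x3001001)) (.cD (nat_lit 64) (.kA false (nat_lit 0x400400000400100200e001004004000003))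 (.cD (nat_lit 80) (.kA false (nat_lit 0x400400000400100200e001004004000003)) (.cD (nat_lit 96) (.kA false (nat_lit 0x400400000400100200e001004004000003)) (.cD (nat_lit 112) (.kA false (nat_lit 0x400400000400100200e001004004000003)) .nil)))))))) (.cD (nat_lit 64) (.kF (nat_lit 16) (nat_lit 0x3006002008008000002007001004004000004)) (.cD (nat_lit 80) (.kF (nat_lit 16) (nat_lit 0x23003000002007001004004000003)) (.cD (nat_lit 96) (.kF (nat_lit 32) (nat_lit 0x2300300000e014004001006001003)) (.cD (nat_lit 112) (.kF (nat_lit 32) (nat_lit 0x2300300000a014004001006001003)) .nil)))))))) (.cD (nat_lit 32) (.kF (nat_lit 16) (nat_lit 0x4004000001003001002)) (.cD (nat_lit 40) (.kF (nat_lit 16) (nat_lit 0x2002000001003001002)) (.cD (nat_lit 48) (.kF (nat_lit 16) (nat_lit 0x2300300000c014004004004000001003001004)) (.cD (nat_lit 64) (.dfs (nat_lit 32) (nat_lit 4098) (nat_lit 4098) (nat_lit 4097) (nat_lit 4097) (nat_lit 0) (nat_lit 0) (nat_lit 3) (nat_lit 0) (nat_lit 0) (nat_lit 0)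 (nat_lit 1) (nat_lit 0) (nat_lit 0x1010008) (nat_lit 65544) (nat_lit 0x1001008000010001028000030) (nat_lit 0x1000000010001010100010100) (.cD (nat_lit 8) (.kF (nat_lit 16) (nat_lit 0x2d005000002007001004004000003)) (.cD (nat_lit 16) (.kF (nat_lit 16) (nat_lit 0x1006002004016003002007001004004000004)) (.cD (nat_lit 32) (.dfs (nat_lit 64) (nat_lit 4100) (nat_lit 4100) (nat_lit 0x1002001) (nat_lit 0x1002001) (nat_lit 0) (nat_lit 0) (nat_lit 3) (nat_lit 0) (nat_lit 0) (nat_lit 0) (nat_lit 1) (nat_lit 0) (nat_lit 0x1010008) (nat_lit 65544) (nat_lit 0x1001008000010001028000030) (nat_lit 0x1000000010001010100010100) (.cD (nat_lit 8) (.kA false (nat_lit 0x2300300000400100200c001002)) (.cD (nat_lit 16) (.kA false (nat_lit 0x300400200c002023003000002)) (.cD (nat_lit 32) (.kc (nat_lit 96) (nat_lit 0x3001001)) (.cD (nat_lit 40) (.kA false (nat_lit 0x2300300000400100200c001002)) (.cD (nat_lit 48) (.dfs (nat_lit 15) (nat_lit 4102) (nat_lit 4101) (nat_lit 1) (nat_lit 1) (nat_lit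 3) (nat_lit 0) (nat_lit 1) (nat_lit 4192) (nat_lit 0x80040020010008004002009) (nat_lit 0) (nat_lit 1) (nat_lit 0) (nat_lit 1) (nat_lit 0) (nat_lit 1) (nat_lit 0) .nil) (.cD (nat_lit 64) (.kc (nat_lit 80) (nat_lit 0x5001001)) (.cD (nat_lit 96) (.kc (nat_lit 112) (nat_lit 0x7001001)) .nil)))))))) (.cD (nat_lit 40) (.kF (nat_lit 32) (nat_lit 0x23003000001006001002)) (.cD (nat_lit 48) (.kF (nat_lit 32) (nat_lit 0x23003000001006001002)) (.cD (nat_lit 64) (.kc (nat_lit 48) (nat_lit 0x3001001)) (.cD (nat_lit 96) (.dfs (nat_lit 64) (nat_lit 4100) (nat_lit 4100) (nat_lit 0x1002001) (nat_lit 0x1002001) (nat_lit 0) (nat_lit 0) (nat_lit 3) (nat_lit 0) (nat_lit 0) (nat_lit 0) (nat_lit 1) (nat_lit 0) (nat_lit 0x1010008) (nat_lit 65544) (nat_lit 0x1001008000010001028000030) (nat_lit 0x1000000010001010100010100) (.cD (nat_lit 8) (.kA false (nat_lit 0x400400000400100200e001004004000003)) (.cD (nat_lit 16) (.kA false (nat_lit 0x700400600c002023003000002)) (.cD (nat_lit 32) (.kc (nat_lit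 112) (nat_lit 0x7001001)) (.cD (nat_lit 40) (.kA false (nat_lit 0x400400000400100200e001004004000003)) (.cD (nat_lit 48) (.kA false (nat_lit 0x100400600c002023003000002)) (.cD (nat_lit 64) (.kc (nat_lit 80) (nat_lit 0x5001001)) (.cD (nat_lit 96) (.kc (nat_lit 96) (nat_lit 0x3001001)) .nil)))))))) .nil)))))))) (.cD (nat_lit 96) (.kF (nat_lit 16) (nat_lit 0x67007000001003001002)) .nil))))))))))
theorem c80 : (chk [] [] p80).n x48 s80 = true := by decide +kernel
noncomputable def p81 : Pf := (.ext (nat_lit 0) (nat_lit 0x1c020010041001069001000002) (nat_lit 0x1080020040010) (nat_lit 0x4101001c03c001069001000010008004002003003) (nat_lit 0x2003004008) (nat_lit 4099) (nat_lit 4106) (nat_lit 0xa004002005) (.dfs (nat_lit 3) (nat_lit 0x1001002004008) (nat_lit 0x100500200400a) (nat_lit 1) (nat_lit 1) (nat_lit 2) (nat_lit 0) (nat_lit 2) (nat_lit 0) (nat_lit 0x1002004008001001) (nat_lit 10) (nat_lit 1) (nat_lit 0) (nat_lit 1) (nat_lit 0) (nat_lit 1) (nat_lit 0) .nil))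
theorem c81 : (chk [] [] p81).n x49 s81 = true := by decide +kernel
noncomputable def p82 : Pf := (.e8 (nat_lit 2) (nat_lit 96) (nat_lit 100))
theorem c82 : (chk [] [] p82).n x49 s82 = true := by decide +kernel
noncomputable def p83 : Pf := (.clm (.cut (nat_lit 0)) (.dfs (nat_lit 128) (nat_lit 1) (nat_lit 1) (nat_lit 1) (nat_lit 1) (nat_lit 0) (nat_lit 0) (nat_lit 0) (nat_lit 0) (nat_lit 0) (nat_lit 0) (nat_lit 1) (nat_lit 0) (nat_lit 0x1080010008004002001) (nat_lit 0x80010008004002069) (nat_lit 0x100008000108000208000008300208300508300008500108500408500508500009000109000209000309000009b00309b00409b00509b0010880020880020a80040ad0040e50050c100109c00209c00309c0030bf0040bf0000db0020c0) (nat_lit 0x801002900000000000000000000000000000000) (.cD (nat_lit 128) (.kin (nat_lit 1) (nat_lit 0)) (.cD (nat_lit 131) (.kb (nat_lit 131) (nat_lit 0x1002001) (nat_lit 0x104002009800c002083)) (.cD (nat_lit 133) (.kb (nat_lit 131) (nat_lit 0x100205d004002) (nat_lit 0x104002009800c002083))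 (.cD (nat_lit 144) (.czp (nat_lit 144) (nat_lit 0x1002001) (nat_lit 0x108004002001000f) z5 (.dfs (nat_lit 64) (nat_lit 4097) (nat_lit 4097) (nat_lit 1) (nat_lit 1) (nat_lit 0) (nat_lit 0) (nat_lit 3) (nat_lit 0) (nat_lit 0) (nat_lit 0) (nat_lit 0x108001000f) (nat_lit 1) (nat_lit 1) (nat_lit 0) (nat_lit 1) (nat_lit 0x1000000010000000100000000) (.cD (nat_lit 32) (.kF (nat_lit 64) (nat_lit 0x20058005008008000001002001003)) (.cD (nat_lit 64) (.kF (nat_lit 64) (nat_lit 0x10058005008008000001002001003)) (.cD (nat_lit 96) (.dfs (nat_lit 88) (nat_lit 4098) (nat_lit 4098) (nat_lit 4097) (nat_lit 4097) (nat_lit 1) (nat_lit 0) (nat_lit 3) (nat_lit 0) (nat_lit 0) (nat_lit 0) (nat_lit 1) (nat_lit 0) (nat_lit 4111) (nat_lit 15) (nat_lit 0x100001f00003f) (nat_lit 0x8000000080000000) (.cD (nat_lit 31) (.dfs (nat_lit 16) (nat_lit 4100) (nat_lit 4100) (nat_lit 0x1002001) (nat_lit 0x1002003) (nat_lit 0) (nat_lit 0) (nat_lit 3) (nat_lit 0) (nat_lit 0) (nat_lit 0) (nat_lit 1) (nat_lit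 0) (nat_lit 4239) (nat_lit 239) (nat_lit 0x100000f00001000002f000030) (nat_lit 0x1800000018000) (.cD (nat_lit 15) (.dfs (nat_lit 32) (nat_lit 4104) (nat_lit 4104) (nat_lit 0x1004002001) (nat_lit 0x1004002001) (nat_lit 0) (nat_lit 0) (nat_lit 3) (nat_lit 0) (nat_lit 0) (nat_lit 0) (nat_lit 0x108001000f) (nat_lit 8) (nat_lit 1) (nat_lit 0) (nat_lit 1) (nat_lit 0x1000000010000000100000000) (.cD (nat_lit 32) (.kA false (nat_lit 0x69001000006009001016002002)) (.cD (nat_lit 64) (.kA false (nat_lit 0x69001000006001009016002002)) (.cD (nat_lit 96) (.kc (nat_lit 96) (nat_lit 0x9001001)) .nil)))) (.cD (nat_lit 16) (.dfs (nat_lit 32) (nat_lit 4104) (nat_lit 4104) (nat_lit 0x1004002001) (nat_lit 0x1004002001) (nat_lit 0) (nat_lit 0) (nat_lit 3) (nat_lit 0) (nat_lit 0) (nat_lit 0) (nat_lit 0x108001000f) (nat_lit 8) (nat_lit 1) (nat_lit 0) (nat_lit 1) (nat_lit 0x1000000010000000100000000) (.cD (nat_lit 32) (.dfs (nat_lit 3) (nat_lit 0x1002009001012) (nat_lit 0x100300900101b)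 (nat_lit 0x1010008004) (nat_lit 0x101800800c) (nat_lit 8) (nat_lit 0) (nat_lit 2) (nat_lit 0) (nat_lit 0) (nat_lit 3) (nat_lit 1) (nat_lit 0) (nat_lit 4240) (nat_lit 144) (nat_lit 0x1000013000033) (nat_lit 0x8000000080000) (.cD (nat_lit 19) (.dfs (nat_lit 4) (nat_lit 0x1004012002024) (nat_lit 0x1004012002026) (nat_lit 0x1020010008001) (nat_lit 0x102201001a011) (nat_lit 0) (nat_lit 0) (nat_lit 2) (nat_lit 0) (nat_lit 0) (nat_lit 4) (nat_lit 1) (nat_lit 0) (nat_lit 1) (nat_lit 0) (nat_lit 1) (nat_lit 0x100000001000000010000000100000) (.cD (nat_lit 20) (.kA false (nat_lit 0x2002000025004024077001029004020058001069001000004)) (.cD (nat_lit 52) (.dfs (nat_lit 1) (nat_lit 4128) (nat_lit 4100) (nat_lit 1) (nat_lit 1) (nat_lit 60) (nat_lit 0) (nat_lit 1) (nat_lit 4192) (nat_lit 0x80040020010008004002069) (nat_lit 0) (nat_lit 1) (nat_lit 0) (nat_lit 1) (nat_lit 0) (nat_lit 1) (nat_lit 0) .nil) (.cD (nat_lit 84) (.kA false (nat_lit 0x200200002402003007f005029004020058001069001000004))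 (.cD (nat_lit 116) (.kA false (nat_lit 0x200200000402003007f005029004020058001069001000004)) .nil))))) (.cD (nat_lit 51) (.kS (nat_lit 0) (nat_lit 0x18010020040005008008000002) (nat_lit 0x105306f) (nat_lit 0xa00400200501800800400200d) (nat_lit 0x800800000401000202000100c001008008000018010020040032001006004)) .nil))) (.cD (nat_lit 64) (.kA false (nat_lit 0x2009008012001002008001010001002)) (.cD (nat_lit 96) (.kc (nat_lit 96) (nat_lit 0x9001001)) .nil)))) (.cD (nat_lit 47) (.kF (nat_lit 8) (nat_lit 0x38058005008008000003008001003)) (.cD (nat_lit 48) (.kF (nat_lit 8) (nat_lit 0x17058005008008000003008001003)) .nil))))) (.cD (nat_lit 63) (.kF (nat_lit 24) (nat_lit 0xf058005008008000003004001003)) .nil))) .nil))))) (.cD (nat_lit 155) (.czp (nat_lit 155) (nat_lit 0x1002001) (nat_lit 0x1040020098004003) z4 (.dfs (nat_lit 64) (nat_lit 4097) (nat_lit 4097) (nat_lit 1) (nat_lit 1) (nat_lit 0) (nat_lit 0) (nat_lit 3) (nat_lit 0) (nat_lit 0) (nat_lit 0) (nat_lit 0x1098004003)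 (nat_lit 1) (nat_lit 1) (nat_lit 0) (nat_lit 1) (nat_lit 0x1000000010000000100000000) (.cD (nat_lit 32) (.kF (nat_lit 64) (nat_lit 0x69001000030041006069001000001002001004)) (.cD (nat_lit 64) (.dfs (nat_lit 88) (nat_lit 4098) (nat_lit 4098) (nat_lit 4097) (nat_lit 4097) (nat_lit 1) (nat_lit 0) (nat_lit 3) (nat_lit 0) (nat_lit 0) (nat_lit 0) (nat_lit 1) (nat_lit 0) (nat_lit 4100) (nat_lit 4) (nat_lit 0x1000003000023) (nat_lit 0x800000008) (.cD (nat_lit 3) (.dfs (nat_lit 16) (nat_lit 4100) (nat_lit 4100) (nat_lit 0x1002001) (nat_lit 0x1002003) (nat_lit 0) (nat_lit 0) (nat_lit 3) (nat_lit 0) (nat_lit 0) (nat_lit 0) (nat_lit 1) (nat_lit 0) (nat_lit 4099) (nat_lit 67) (nat_lit 0x1000004000007000024000027) (nat_lit 0x9000000090) (.cD (nat_lit 4) (.dfs (nat_lit 32) (nat_lit 4104) (nat_lit 4104) (nat_lit 0x1004002001) (nat_lit 0x1004002001) (nat_lit 0) (nat_lit 0) (nat_lit 3) (nat_lit 0) (nat_lit 0) (nat_lit 0) (nat_lit 0x1098004003) (nat_lit 8) (nat_lit 1) (nat_lit 0)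 (nat_lit 1) (nat_lit 0x1000000010000000100000000) (.cD (nat_lit 32) (.kA false (nat_lit 0xa00800901000200200200001c020010041005069001000004)) (.cD (nat_lit 64) (.kc (nat_lit 96) (nat_lit 0x9001001)) (.cD (nat_lit 96) (.dfs (nat_lit 3) (nat_lit 0x1002008001010) (nat_lit 0x1003008001018) (nat_lit 4100) (nat_lit 4108) (nat_lit 8) (nat_lit 0) (nat_lit 2) (nat_lit 0) (nat_lit 0x2008001010001001) (nat_lit 24) (nat_lit 1) (nat_lit 0) (nat_lit 4283) (nat_lit 187) (nat_lit 0x1000018000038) (nat_lit 0x100000001000000) (.cD (nat_lit 24) (.dfs (nat_lit 4) (nat_lit 0x1004010002020) (nat_lit 0x1004010002022) (nat_lit 0x1008001) (nat_lit 0x101a011) (nat_lit 0) (nat_lit 0) (nat_lit 2) (nat_lit 0) (nat_lit 0x4010002020001001) (nat_lit 16) (nat_lit 1) (nat_lit 0) (nat_lit 1) (nat_lit 0) (nat_lit 1) (nat_lit 0x10000000100000001000000010000) (.cD (nat_lit 16) (.kA false (nat_lit 0x5020024052001080080000008020004040001003)) (.cD (nat_lit 48) (.kA false (nat_lit 0x38030020058005002002000029004020058001069001000004))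 (.cD (nat_lit 80) (.kA false (nat_lit 0x5020024052001080080000008020004040001003)) (.cD (nat_lit 112) (.dfs (nat_lit 1) (nat_lit 4100) (nat_lit 4128) (nat_lit 1) (nat_lit 1) (nat_lit 60) (nat_lit 0) (nat_lit 1) (nat_lit 4192) (nat_lit 0x80040020010008004002069) (nat_lit 0) (nat_lit 1) (nat_lit 0) (nat_lit 1) (nat_lit 0) (nat_lit 1) (nat_lit 0) .nil) .nil))))) (.cD (nat_lit 56) (.kS (nat_lit 0) (nat_lit 0x1c020010041005069001000002) (nat_lit 0x107c06f) (nat_lit 0xa00400200501800800400200d) (nat_lit 0x6900100000401000202000100c00100106900001c020010041013001006004)) .nil))) .nil)))) (.cD (nat_lit 7) (.dfs (nat_lit 32) (nat_lit 4104) (nat_lit 4104) (nat_lit 0x1004002001) (nat_lit 0x1004002001) (nat_lit 0) (nat_lit 0) (nat_lit 3) (nat_lit 0) (nat_lit 0) (nat_lit 0) (nat_lit 0x1098004003) (nat_lit 8) (nat_lit 1) (nat_lit 0) (nat_lit 1) (nat_lit 0x1000000010000000100000000) (.cD (nat_lit 32) (.kA false (nat_lit 0xe00800901000200200200001c020010041005069001000004)) (.cD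 (nat_lit 64) (.kc (nat_lit 96) (nat_lit 0x9001001)) (.cD (nat_lit 96) (.kA false (nat_lit 0xe00800101000200200200001c020010041005069001000004)) .nil)))) (.cD (nat_lit 36) (.kF (nat_lit 8) (nat_lit 0x69001000011041006069001000003008001004)) (.cD (nat_lit 39) (.kF (nat_lit 8) (nat_lit 0x6900100002c041006069001000003008001004)) .nil))))) (.cD (nat_lit 35) (.kF (nat_lit 24) (nat_lit 0x6900100000d041006069001000003004001004)) .nil))) (.cD (nat_lit 96) (.kF (nat_lit 64) (nat_lit 0x69001000010041006069001000001002001004)) .nil))))) .nil)))))))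
theorem c83 : (chk [(x49, s82)] [] p83).n x49 s83 = true := by decide +kernel
noncomputable def p84 : Pf := (.ext (nat_lit 0) (nat_lit 0x1c020010041001069001000002) (nat_lit 0x10bf060020024) (nat_lit 0x4101001c03c00106900100001000800400200300106900004101002001c002005) (nat_lit 0x2003004008) (nat_lit 0x1010008002) (nat_lit 0x101000a008) (nat_lit 0xc00400200100e00400200500f004006005) (.dfs (nat_lit 2) (nat_lit 0x1002003004008) (nat_lit 0x100600300400f) (nat_lit 4097) (nat_lit 4101) (nat_lit 0) (nat_lit 0) (nat_lit 2) (nat_lit 0) (nat_lit 0x1c020010041003069001000002) (nat_lit 8) (nat_lit 1) (nat_lit 0) (nat_lit 0x10040bf) (nat_lit 16575) (nat_lit 0x1000008001008001048) (nat_lit 256) (.cD (nat_lit 8) (.dfs (nat_lit 8) (nat_lit 0x1004006008010) (nat_lit 0x100400e00801c) (nat_lit 0x1002001) (nat_lit 0x100a009) (nat_lit 0) (nat_lit 0) (nat_lit 2) (nat_lit 0) (nat_lit 0x1c020010041003069001000002) (nat_lit 10) (nat_lit 1) (nat_lit 0) (nat_lit 4128) (nat_lit 32) (nat_lit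 0x100002a) (nat_lit 0x40000000000) (.cD (nat_lit 42) (.dfs (nat_lit 16) (nat_lit 0x100800c010020) (nat_lit 0x100800c010030) (nat_lit 0x1004002001) (nat_lit 0x100400e019) (nat_lit 0) (nat_lit 0) (nat_lit 2) (nat_lit 0) (nat_lit 0x1c020010041003069001000002) (nat_lit 16) (nat_lit 1) (nat_lit 0) (nat_lit 1) (nat_lit 0) (nat_lit 1) (nat_lit 0x100000000000000000000000100000) (.cD (nat_lit 20) (.kS (nat_lit 0) (nat_lit 0x1001802004000201c020010041003069001000003) (nat_lit 0x100e002034) (nat_lit 0xa00600200f01400800400e00502001000800c032019) (nat_lit 0x1800802004000203601900100801002004000400200100101001802004001e004009001003)) (.cD (nat_lit 116) (.cut (nat_lit 0)) .nil))) .nil)) .nil)))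
theorem c84 : (chk [(x49, s83)] [] p84).n x49 s84 = true := by decide +kernel
noncomputable def p85 : Pf := (.ext (nat_lit 0) (nat_lit 0) (nat_lit 0x1080020040010004) (nat_lit 0x1600800c00a00f002043003000010008004002001001003) (nat_lit 0xa00c008016) (nat_lit 0x1008003) (nat_lit 0x100f003) (nat_lit 0x1000800400600d01400800400a005) (.dfs (nat_lit 3) (nat_lit 0x100a00c008016) (nat_lit 0x100200c00801a) (nat_lit 0x1010004002001) (nat_lit 0x101400400a005) (nat_lit 4) (nat_lit 0) (nat_lit 2) (nat_lit 0) (nat_lit 0) (nat_lit 3) (nat_lit 1) (nat_lit 0) (nat_lit 4112) (nat_lit 16) (nat_lit 0x1000013000053) (nat_lit 0x800000000000000080000) (.cD (nat_lit 19) (.dfs (nat_lit 8) (nat_lit 0x101401801002c) (nat_lit 0x101c018010024) (nat_lit 0x1020008004002001) (nat_lit 0x102000800c01a019) (nat_lit 0) (nat_lit 0) (nat_lit 2) (nat_lit 0) (nat_lit 0) (nat_lit 15) (nat_lit 1) (nat_lit 0) (nat_lit 1) (nat_lit 0) (nat_lit 1) (nat_lit 0x8000000080000000800000008000) (.cD (nat_lit 15)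 (.kA false (nat_lit 0x200200002402003006f00101c02001005100104d005000004)) (.cD (nat_lit 47) (.kA false (nat_lit 0x200200002402003004f00101c02001005100104d005000004)) (.cD (nat_lit 79) (.kS (nat_lit 0) (nat_lit 0x200200001c020010041001069001000003) (nat_lit 0x1038030) (nat_lit 0xa004002005010008004006009) (nat_lit 0xc03001005d00f00800106900100000801002004000200400100106900001c020010041013024002002002000006)) (.cD (nat_lit 111) (.cut (nat_lit 1)) .nil))))) (.cD (nat_lit 83) (.dfs (nat_lit 8) (nat_lit 0x101401801002c) (nat_lit 0x101c018010024) (nat_lit 0x1020008004002001) (nat_lit 0x102000800c01a019) (nat_lit 0) (nat_lit 0) (nat_lit 2) (nat_lit 0) (nat_lit 0) (nat_lit 15) (nat_lit 1) (nat_lit 0) (nat_lit 1) (nat_lit 0) (nat_lit 1) (nat_lit 0x8000000080000000800000008000) (.cD (nat_lit 15) (.kA false (nat_lit 0x200200002402003005f00101c020010041001069001000004)) (.cD (nat_lit 47) (.kA false (nat_lit 0x200200002402003007f00101c020010041001069001000004)) (.cD (nat_lit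 79) (.cut (nat_lit 0)) (.cD (nat_lit 111) (.kS (nat_lit 0) (nat_lit 0xc03001005d001069001000008010020040001003) (nat_lit 0x1058030) (nat_lit 0xa004002005010008004006009) (nat_lit 0x200200001c02001005103302400104d00500000801002004000200400200106900000c03001005d02f008002006)) .nil))))) .nil))))
theorem c85 : (chk [(x49, s81), (x49, s84)] [] p85).n x49 s85 = true := by decide +kernel
noncomputable def p86 : Pf := (.ext (nat_lit 1) (nat_lit 0) (nat_lit 0x1080060040008) (nat_lit 0x20010008004001001) (nat_lit 0x2003004008) (nat_lit 0x1004002001) (nat_lit 0x1006004005) (nat_lit 0xe00400200500f004006005009004006001) (.dfs (nat_lit 1) (nat_lit 0x1002003004008) (nat_lit 0x1006007004009) (nat_lit 4097) (nat_lit 4097) (nat_lit 5) (nat_lit 0) (nat_lit 2) (nat_lit 1) (nat_lit 0) (nat_lit 5) (nat_lit 1) (nat_lit 0) (nat_lit 0x1080008) (nat_lit 0x80008) (nat_lit 0x100000d00100d00106d) (nat_lit 8192) (.cD (nat_lit 13) (.dfs (nat_lit 2) (nat_lit 0x1004006008010) (nat_lit 0x100c00600801e)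 (nat_lit 0x1002001) (nat_lit 0x100a00f) (nat_lit 0) (nat_lit 0) (nat_lit 2) (nat_lit 1) (nat_lit 0) (nat_lit 4) (nat_lit 1) (nat_lit 0) (nat_lit 4136) (nat_lit 40) (nat_lit 0x1000024) (nat_lit 0x1000000000) (.cD (nat_lit 36) (.dfs (nat_lit 4) (nat_lit 0x100800c010020) (nat_lit 0x100801c010038) (nat_lit 0x1004002001) (nat_lit 0x101401a001) (nat_lit 0) (nat_lit 0) (nat_lit 2) (nat_lit 1) (nat_lit 0) (nat_lit 6) (nat_lit 1) (nat_lit 0) (nat_lit 1) (nat_lit 0) (nat_lit 1) (nat_lit 0x4000000000000000000000004000) (.cD (nat_lit 14) (.cut (nat_lit 0)) (.cD (nat_lit 110) (.kS (nat_lit 1) (nat_lit 0x10018020040002001) (nat_lit 0x100b06e02a) (nat_lit 0x800600200901400c00401e01d02801000801c01a001) (nat_lit 0x1800802004003d03102b00100801002004000400200100101001802004003602b03a001003)) .nil))) .nil)) .nil)))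
theorem c86 : (chk [(x49, s85)] [] p86).n x49 s86 = true := by decide +kernel
noncomputable def p87 : Pf := (.anc (nat_lit 144) (nat_lit 0x43003000014002002) (nat_lit 0x100f040020010) (.czp (nat_lit 128) (nat_lit 0) (nat_lit 0x1080040020010008) z3 (.dfs (nat_lit 16) (nat_lit 4097) (nat_lit 4097) (nat_lit 1) (nat_lit 1) (nat_lit 0) (nat_lit 0) (nat_lit 3) (nat_lit 0) (nat_lit 0) (nat_lit 0) (nat_lit 1) (nat_lit 0) (nat_lit 0x1010008) (nat_lit 65544) (nat_lit 0x1001008000010001028000030) (nat_lit 0x1000000010001010100010100) (.cD (nat_lit 8) (.dfs (nat_lit 32) (nat_lit 4098) (nat_lit 4098) (nat_lit 4097) (nat_lit 4097) (nat_lit 0) (nat_lit 0) (nat_lit 3) (nat_lit 0) (nat_lit 0) (nat_lit 0) (nat_lit 1) (nat_lit 0) (nat_lit 1) (nat_lit 0) (nat_lit 1) (nat_lit 0x101000001010000010100000100) (.cD (nat_lit 8) (.kc (nat_lit 48) (nat_lit 0x3001001)) (.cD (nat_lit 32) (.kF (nat_lit 32) (nat_lit 0x69001000001006001002)) (.cD (nat_lit 40) (.kF (nat_lit 32) (nat_lit 0x69001000001006001002))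 (.cD (nat_lit 64) (.kF (nat_lit 16) (nat_lit 0x4d005000002007001004004000003)) (.cD (nat_lit 72) (.kF (nat_lit 16) (nat_lit 0x43003000002007001004004000003)) (.cD (nat_lit 96) (.dfs (nat_lit 64) (nat_lit 4100) (nat_lit 4100) (nat_lit 0x1002001) (nat_lit 0x1002001) (nat_lit 0) (nat_lit 0) (nat_lit 3) (nat_lit 0) (nat_lit 0) (nat_lit 0) (nat_lit 1) (nat_lit 0) (nat_lit 1) (nat_lit 0) (nat_lit 1) (nat_lit 0x101000001010000010100000100) (.cD (nat_lit 8) (.kc (nat_lit 80) (nat_lit 0x5001001)) (.cD (nat_lit 32) (.kA false (nat_lit 0x6900100000400100200c001002)) (.cD (nat_lit 40) (.kA false (nat_lit 0x6900100000400100200c001002)) (.cD (nat_lit 64) (.kA false (nat_lit 0x6900100000400100200c001002)) (.cD (nat_lit 72) (.kA false (nat_lit 0x6900100000400100200c001002)) (.cD (nat_lit 96) (.kc (nat_lit 96) (nat_lit 0x3001001)) (.cD (nat_lit 104) (.kc (nat_lit 112) (nat_lit 0x7001001)) .nil)))))))) (.cD (nat_lit 104) (.dfs (nat_lit 64) (nat_lit 4100) (nat_lit 4100) (nat_lit 0x1002001)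 (nat_lit 0x1002001) (nat_lit 0) (nat_lit 0) (nat_lit 3) (nat_lit 0) (nat_lit 0) (nat_lit 0) (nat_lit 1) (nat_lit 0) (nat_lit 1) (nat_lit 0) (nat_lit 1) (nat_lit 0x101000001010000010100000100) (.cD (nat_lit 8) (.kc (nat_lit 80) (nat_lit 0x5001001)) (.cD (nat_lit 32) (.kA false (nat_lit 0x6900100000400100200c001002)) (.cD (nat_lit 40) (.kA false (nat_lit 0x6900100000400100200c001002)) (.cD (nat_lit 64) (.kA false (nat_lit 0x6900100000400100200c001002)) (.cD (nat_lit 72) (.kA false (nat_lit 0x6900100000400100200c001002)) (.cD (nat_lit 96) (.kc (nat_lit 112) (nat_lit 0x7001001)) (.cD (nat_lit 104) (.kc (nat_lit 96) (nat_lit 0x3001001)) .nil)))))))) .nil)))))))) (.cD (nat_lit 16) (.dfs (nat_lit 32) (nat_lit 4098) (nat_lit 4098) (nat_lit 4097) (nat_lit 4097) (nat_lit 0) (nat_lit 0) (nat_lit 3) (nat_lit 0) (nat_lit 0) (nat_lit 0) (nat_lit 1) (nat_lit 0) (nat_lit 1) (nat_lit 0) (nat_lit 1) (nat_lit 0x10001000100010001000100010000) (.cD (nat_lit 16) (.kc (nat_lit 48) (nat_lit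 0x3001001)) (.cD (nat_lit 32) (.dfs (nat_lit 64) (nat_lit 4100) (nat_lit 4100) (nat_lit 0x1002001) (nat_lit 0x1002001) (nat_lit 0) (nat_lit 0) (nat_lit 3) (nat_lit 0) (nat_lit 0) (nat_lit 0) (nat_lit 1) (nat_lit 0) (nat_lit 1) (nat_lit 0) (nat_lit 1) (nat_lit 0x10001000100010001000100010000) (.cD (nat_lit 16) (.kc (nat_lit 80) (nat_lit 0x5001001)) (.cD (nat_lit 32) (.kc (nat_lit 96) (nat_lit 0x3001001)) (.cD (nat_lit 48) (.kc (nat_lit 112) (nat_lit 0x7001001)) (.cD (nat_lit 64) (.kA false (nat_lit 0x700400200800100a004008014003043003000003)) (.cD (nat_lit 80) (.kA false (nat_lit 0x700400200800100a004008014003043003000003)) (.cD (nat_lit 96) (.dfs (nat_lit 15) (nat_lit 0x1004003002008) (nat_lit 0x1007003002008) (nat_lit 4097) (nat_lit 4097) (nat_lit 0) (nat_lit 0) (nat_lit 2) (nat_lit 0) (nat_lit 0) (nat_lit 8) (nat_lit 1) (nat_lit 0) (nat_lit 4112) (nat_lit 16) (nat_lit 0x10000880000a8) (nat_lit 0x1000000010000000000000000000000000000000000) (.cD (nat_lit 136) (.kA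 true (nat_lit 0x13006002010001004004000013006002014002004004000004)) (.cD (nat_lit 168) (.kA true (nat_lit 0x17006002010001004004000017006002014002004004000004)) .nil))) (.cD (nat_lit 112) (.dfs (nat_lit 15) (nat_lit 4101) (nat_lit 4102) (nat_lit 1) (nat_lit 1) (nat_lit 0) (nat_lit 0) (nat_lit 1) (nat_lit 4192) (nat_lit 0x80040020010008004002069) (nat_lit 0) (nat_lit 1) (nat_lit 0) (nat_lit 1) (nat_lit 0) (nat_lit 1) (nat_lit 0) .nil) .nil)))))))) (.cD (nat_lit 48) (.dfs (nat_lit 64) (nat_lit 4100) (nat_lit 4100) (nat_lit 0x1002001) (nat_lit 0x1002001) (nat_lit 0) (nat_lit 0) (nat_lit 3) (nat_lit 0) (nat_lit 0) (nat_lit 0) (nat_lit 1) (nat_lit 0) (nat_lit 1) (nat_lit 0) (nat_lit 1) (nat_lit 0x10001000100010001000100010000) (.cD (nat_lit 16) (.kc (nat_lit 80) (nat_lit 0x5001001)) (.cD (nat_lit 32) (.kc (nat_lit 112) (nat_lit 0x7001001)) (.cD (nat_lit 48) (.kc (nat_lit 96) (nat_lit 0x3001001)) (.cD (nat_lit 64) (.kA false (nat_lit 0x400400000400100200e001004004000003))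 (.cD (nat_lit 80) (.kA false (nat_lit 0x400400000400100200e001004004000003)) (.cD (nat_lit 96) (.kA false (nat_lit 0x400400000400100200e001004004000003)) (.cD (nat_lit 112) (.kA false (nat_lit 0x400400000400100200e001004004000003)) .nil)))))))) (.cD (nat_lit 64) (.kF (nat_lit 16) (nat_lit 0x3006002008008000002007001004004000004)) (.cD (nat_lit 80) (.kF (nat_lit 16) (nat_lit 0x43003000002007001004004000003)) (.cD (nat_lit 96) (.kF (nat_lit 32) (nat_lit 0x4300300000e014004001006001003)) (.cD (nat_lit 112) (.kF (nat_lit 32) (nat_lit 0x4300300000a014004001006001003)) .nil)))))))) (.cD (nat_lit 32) (.kF (nat_lit 16) (nat_lit 0x4004000001003001002)) (.cD (nat_lit 40) (.kF (nat_lit 16) (nat_lit 0x2002000001003001002)) (.cD (nat_lit 48) (.kF (nat_lit 16) (nat_lit 0x4300300000c014004004004000001003001004)) (.cD (nat_lit 64) (.dfs (nat_lit 32) (nat_lit 4098) (nat_lit 4098) (nat_lit 4097) (nat_lit 4097) (nat_lit 0) (nat_lit 0) (nat_lit 3) (nat_lit 0) (nat_lit 0) (nat_lit 0)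 (nat_lit 1) (nat_lit 0) (nat_lit 0x1010008) (nat_lit 65544) (nat_lit 0x1001008000010001028000030) (nat_lit 0x1000000010001010100010100) (.cD (nat_lit 8) (.kF (nat_lit 16) (nat_lit 0x4d005000002007001004004000003)) (.cD (nat_lit 16) (.kF (nat_lit 16) (nat_lit 0x1006002004016003002007001004004000004)) (.cD (nat_lit 32) (.dfs (nat_lit 64) (nat_lit 4100) (nat_lit 4100) (nat_lit 0x1002001) (nat_lit 0x1002001) (nat_lit 0) (nat_lit 0) (nat_lit 3) (nat_lit 0) (nat_lit 0) (nat_lit 0) (nat_lit 1) (nat_lit 0) (nat_lit 0x1010008) (nat_lit 65544) (nat_lit 0x1001008000010001028000030) (nat_lit 0x1000000010001010100010100) (.cD (nat_lit 8) (.kA false (nat_lit 0x4300300000400100200c001002)) (.cD (nat_lit 16) (.kA false (nat_lit 0x300400200c002043003000002)) (.cD (nat_lit 32) (.kc (nat_lit 96) (nat_lit 0x3001001)) (.cD (nat_lit 40) (.kA false (nat_lit 0x4300300000400100200c001002)) (.cD (nat_lit 48) (.dfs (nat_lit 15) (nat_lit 4102) (nat_lit 4101) (nat_lit 1) (nat_lit 1) (nat_lit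 0) (nat_lit 0) (nat_lit 1) (nat_lit 4192) (nat_lit 0x80040020010008004002069) (nat_lit 0) (nat_lit 1) (nat_lit 0) (nat_lit 1) (nat_lit 0) (nat_lit 1) (nat_lit 0) .nil) (.cD (nat_lit 64) (.kc (nat_lit 80) (nat_lit 0x5001001)) (.cD (nat_lit 96) (.kc (nat_lit 112) (nat_lit 0x7001001)) .nil)))))))) (.cD (nat_lit 40) (.kF (nat_lit 32) (nat_lit 0x43003000001006001002)) (.cD (nat_lit 48) (.kF (nat_lit 32) (nat_lit 0x43003000001006001002)) (.cD (nat_lit 64) (.kc (nat_lit 48) (nat_lit 0x3001001)) (.cD (nat_lit 96) (.dfs (nat_lit 64) (nat_lit 4100) (nat_lit 4100) (nat_lit 0x1002001) (nat_lit 0x1002001) (nat_lit 0) (nat_lit 0) (nat_lit 3) (nat_lit 0) (nat_lit 0) (nat_lit 0) (nat_lit 1) (nat_lit 0) (nat_lit 0x1010008) (nat_lit 65544) (nat_lit 0x1001008000010001028000030) (nat_lit 0x1000000010001010100010100) (.cD (nat_lit 8) (.kA false (nat_lit 0x400400000400100200e001004004000003)) (.cD (nat_lit 16) (.kA false (nat_lit 0x700400600c002043003000002)) (.cD (nat_lit 32) (.kc (nat_lit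 112) (nat_lit 0x7001001)) (.cD (nat_lit 40) (.kA false (nat_lit 0x400400000400100200e001004004000003)) (.cD (nat_lit 48) (.kA false (nat_lit 0x100400600c002043003000002)) (.cD (nat_lit 64) (.kc (nat_lit 80) (nat_lit 0x5001001)) (.cD (nat_lit 96) (.kc (nat_lit 96) (nat_lit 0x3001001)) .nil)))))))) .nil)))))))) (.cD (nat_lit 96) (.kF (nat_lit 16) (nat_lit 0x7007000001003001002)) .nil))))))))))
theorem c87 : (chk [] [] p87).n x50 s87 = true := by decide +kernel
noncomputable def p88 : Pf := (.anc (nat_lit 144) (nat_lit 0x3003000014002002) (nat_lit 0x100b040020010) (.czp (nat_lit 128) (nat_lit 0) (nat_lit 0x1080040020010008) z3 (.dfs (nat_lit 16) (nat_lit 4097) (nat_lit 4097) (nat_lit 1) (nat_lit 1) (nat_lit 0) (nat_lit 0) (nat_lit 3) (nat_lit 0) (nat_lit 0) (nat_lit 0) (nat_lit 1) (nat_lit 0) (nat_lit 0x1010008) (nat_lit 65544) (nat_lit 0x1001008000010001028000030) (nat_lit 0x1000000010001010100010100) (.cD (nat_lit 8) (.dfs (nat_lit 32) (nat_lit 4098) (nat_lit 4098)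 (nat_lit 4097) (nat_lit 4097) (nat_lit 0) (nat_lit 0) (nat_lit 3) (nat_lit 0) (nat_lit 0) (nat_lit 0) (nat_lit 1) (nat_lit 0) (nat_lit 1) (nat_lit 0) (nat_lit 1) (nat_lit 0x101000001010000010100000100) (.cD (nat_lit 8) (.kc (nat_lit 48) (nat_lit 0x3001001)) (.cD (nat_lit 32) (.kF (nat_lit 32) (nat_lit 0x1001000001006001002)) (.cD (nat_lit 40) (.kF (nat_lit 32) (nat_lit 0x1001000001006001002)) (.cD (nat_lit 64) (.kF (nat_lit 16) (nat_lit 0x5005000002007001004004000003)) (.cD (nat_lit 72) (.kF (nat_lit 16) (nat_lit 0x3003000002007001004004000003)) (.cD (nat_lit 96) (.dfs (nat_lit 64) (nat_lit 4100) (nat_lit 4100) (nat_lit 0x1002001) (nat_lit 0x1002001) (nat_lit 0) (nat_lit 0) (nat_lit 3) (nat_lit 0) (nat_lit 0) (nat_lit 0) (nat_lit 1) (nat_lit 0) (nat_lit 1) (nat_lit 0) (nat_lit 1) (nat_lit 0x101000001010000010100000100) (.cD (nat_lit 8) (.kc (nat_lit 80) (nat_lit 0x5001001)) (.cD (nat_lit 32) (.kA false (nat_lit 0x100100000400100200c001002)) (.cD (nat_lit 40) (.kA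 false (nat_lit 0x100100000400100200c001002)) (.cD (nat_lit 64) (.kA false (nat_lit 0x100100000400100200c001002)) (.cD (nat_lit 72) (.kA false (nat_lit 0x100100000400100200c001002)) (.cD (nat_lit 96) (.kc (nat_lit 96) (nat_lit 0x3001001)) (.cD (nat_lit 104) (.kc (nat_lit 112) (nat_lit 0x7001001)) .nil)))))))) (.cD (nat_lit 104) (.dfs (nat_lit 64) (nat_lit 4100) (nat_lit 4100) (nat_lit 0x1002001) (nat_lit 0x1002001) (nat_lit 0) (nat_lit 0) (nat_lit 3) (nat_lit 0) (nat_lit 0) (nat_lit 0) (nat_lit 1) (nat_lit 0) (nat_lit 1) (nat_lit 0) (nat_lit 1) (nat_lit 0x101000001010000010100000100) (.cD (nat_lit 8) (.kc (nat_lit 80) (nat_lit 0x5001001)) (.cD (nat_lit 32) (.kA false (nat_lit 0x100100000400100200c001002)) (.cD (nat_lit 40) (.kA false (nat_lit 0x100100000400100200c001002)) (.cD (nat_lit 64) (.kA false (nat_lit 0x100100000400100200c001002)) (.cD (nat_lit 72) (.kA false (nat_lit 0x100100000400100200c001002)) (.cD (nat_lit 96) (.kc (nat_lit 112) (nat_lit 0x7001001))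 (.cD (nat_lit 104) (.kc (nat_lit 96) (nat_lit 0x3001001)) .nil)))))))) .nil)))))))) (.cD (nat_lit 16) (.dfs (nat_lit 32) (nat_lit 4098) (nat_lit 4098) (nat_lit 4097) (nat_lit 4097) (nat_lit 0) (nat_lit 0) (nat_lit 3) (nat_lit 0) (nat_lit 0) (nat_lit 0) (nat_lit 1) (nat_lit 0) (nat_lit 1) (nat_lit 0) (nat_lit 1) (nat_lit 0x10001000100010001000100010000) (.cD (nat_lit 16) (.kc (nat_lit 48) (nat_lit 0x3001001)) (.cD (nat_lit 32) (.dfs (nat_lit 64) (nat_lit 4100) (nat_lit 4100) (nat_lit 0x1002001) (nat_lit 0x1002001) (nat_lit 0) (nat_lit 0) (nat_lit 3) (nat_lit 0) (nat_lit 0) (nat_lit 0) (nat_lit 1) (nat_lit 0) (nat_lit 1) (nat_lit 0) (nat_lit 1) (nat_lit 0x10001000100010001000100010000) (.cD (nat_lit 16) (.kc (nat_lit 80) (nat_lit 0x5001001)) (.cD (nat_lit 32) (.kc (nat_lit 96) (nat_lit 0x3001001)) (.cD (nat_lit 48) (.kc (nat_lit 112) (nat_lit 0x7001001)) (.cD (nat_lit 64) (.dfs (nat_lit 11) (nat_lit 0x1004001002008) (nat_lit 0x1005001002008) (nat_lit 1) (nat_lit 1)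 (nat_lit 3) (nat_lit 0) (nat_lit 2) (nat_lit 0) (nat_lit 0) (nat_lit 8) (nat_lit 1) (nat_lit 0) (nat_lit 1) (nat_lit 0) (nat_lit 1) (nat_lit 0) .nil) (.cD (nat_lit 80) (.dfs (nat_lit 11) (nat_lit 4103) (nat_lit 4102) (nat_lit 1) (nat_lit 1) (nat_lit 3) (nat_lit 0) (nat_lit 1) (nat_lit 4192) (nat_lit 0x80040020010008004002001) (nat_lit 0) (nat_lit 1) (nat_lit 0) (nat_lit 1) (nat_lit 0) (nat_lit 1) (nat_lit 0) .nil) (.cD (nat_lit 96) (.kA false (nat_lit 0x5004002008001002004008014003003003000003)) (.cD (nat_lit 112) (.kA false (nat_lit 0x5004002008001002004008014003003003000003)) .nil)))))))) (.cD (nat_lit 48) (.dfs (nat_lit 64) (nat_lit 4100) (nat_lit 4100) (nat_lit 0x1002001) (nat_lit 0x1002001) (nat_lit 0) (nat_lit 0) (nat_lit 3) (nat_lit 0) (nat_lit 0) (nat_lit 0) (nat_lit 1) (nat_lit 0) (nat_lit 1) (nat_lit 0) (nat_lit 1) (nat_lit 0x10001000100010001000100010000) (.cD (nat_lit 16) (.kc (nat_lit 80) (nat_lit 0x5001001)) (.cD (nat_lit 32) (.kc (nat_lit 112) (nat_lit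 0x7001001)) (.cD (nat_lit 48) (.kc (nat_lit 96) (nat_lit 0x3001001)) (.cD (nat_lit 64) (.kA false (nat_lit 0x400400000400100200e001004004000003)) (.cD (nat_lit 80) (.kA false (nat_lit 0x400400000400100200e001004004000003)) (.cD (nat_lit 96) (.kA false (nat_lit 0x400400000400100200e001004004000003)) (.cD (nat_lit 112) (.kA false (nat_lit 0x400400000400100200e001004004000003)) .nil)))))))) (.cD (nat_lit 64) (.kF (nat_lit 16) (nat_lit 0x3006002008008000002007001004004000004)) (.cD (nat_lit 80) (.kF (nat_lit 32) (nat_lit 0x3003000001007001004004000003)) (.cD (nat_lit 96) (.dfs (nat_lit 64) (nat_lit 4100) (nat_lit 4100) (nat_lit 0x1002001) (nat_lit 0x1002001) (nat_lit 0) (nat_lit 0) (nat_lit 3) (nat_lit 0) (nat_lit 0) (nat_lit 0) (nat_lit 1) (nat_lit 0) (nat_lit 1) (nat_lit 0) (nat_lit 1) (nat_lit 0x10001000100010001000100010000) (.cD (nat_lit 16) (.kc (nat_lit 80) (nat_lit 0x5001001)) (.cD (nat_lit 32) (.kA false (nat_lit 0x400200300800100400100200c001002)) (.cD (nat_lit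 48) (.kA false (nat_lit 0x400600300800100400100200c001002)) (.cD (nat_lit 64) (.kA false (nat_lit 0x5004002008001002004008014003003003000003)) (.cD (nat_lit 80) (.kA false (nat_lit 0x400500300800100400100200c001002)) (.cD (nat_lit 96) (.kc (nat_lit 96) (nat_lit 0x3001001)) (.cD (nat_lit 112) (.kc (nat_lit 112) (nat_lit 0x7001001)) .nil)))))))) (.cD (nat_lit 112) (.dfs (nat_lit 64) (nat_lit 4100) (nat_lit 4100) (nat_lit 0x1002001) (nat_lit 0x1002001) (nat_lit 0) (nat_lit 0) (nat_lit 3) (nat_lit 0) (nat_lit 0) (nat_lit 0) (nat_lit 1) (nat_lit 0) (nat_lit 1) (nat_lit 0) (nat_lit 1) (nat_lit 0x10001000100010001000100010000) (.cD (nat_lit 16) (.kc (nat_lit 80) (nat_lit 0x5001001)) (.cD (nat_lit 32) (.kA false (nat_lit 0x400200700800100400100200c001002)) (.cD (nat_lit 48) (.kA false (nat_lit 0x400600700800100400100200c001002)) (.cD (nat_lit 64) (.kA false (nat_lit 0x5004002008001002004008014003003003000003)) (.cD (nat_lit 80) (.kA false (nat_lit 0x400500700800100400100200c001002))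 (.cD (nat_lit 96) (.kc (nat_lit 112) (nat_lit 0x7001001)) (.cD (nat_lit 112) (.kc (nat_lit 96) (nat_lit 0x3001001)) .nil)))))))) .nil)))))))) (.cD (nat_lit 32) (.kF (nat_lit 16) (nat_lit 0x4004000001003001002)) (.cD (nat_lit 40) (.kF (nat_lit 16) (nat_lit 0x2002000001003001002)) (.cD (nat_lit 48) (.kF (nat_lit 16) (nat_lit 0x300300000c014004004004000001003001004)) (.cD (nat_lit 64) (.dfs (nat_lit 32) (nat_lit 4098) (nat_lit 4098) (nat_lit 4097) (nat_lit 4097) (nat_lit 0) (nat_lit 0) (nat_lit 3) (nat_lit 0) (nat_lit 0) (nat_lit 0) (nat_lit 1) (nat_lit 0) (nat_lit 0x1010008) (nat_lit 65544) (nat_lit 0x1001008000010001028000030) (nat_lit 0x1000000010001010100010100) (.cD (nat_lit 8) (.kF (nat_lit 16) (nat_lit 0x5005000002007001004004000003)) (.cD (nat_lit 16) (.kF (nat_lit 32) (nat_lit 0x3003000001006001002)) (.cD (nat_lit 32) (.dfs (nat_lit 64) (nat_lit 4100) (nat_lit 4100) (nat_lit 0x1002001) (nat_lit 0x1002001) (nat_lit 0) (nat_lit 0) (nat_lit 3) (nat_lit 0) (nat_lit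 0) (nat_lit 0) (nat_lit 1) (nat_lit 0) (nat_lit 0x1010008) (nat_lit 65544) (nat_lit 0x1001008000010001028000030) (nat_lit 0x1000000010001010100010100) (.cD (nat_lit 8) (.kA false (nat_lit 0x300300000400100200c001002)) (.cD (nat_lit 16) (.dfs (nat_lit 11) (nat_lit 4102) (nat_lit 4103) (nat_lit 1) (nat_lit 1) (nat_lit 3) (nat_lit 0) (nat_lit 1) (nat_lit 4192) (nat_lit 0x80040020010008004002001) (nat_lit 0) (nat_lit 1) (nat_lit 0) (nat_lit 1) (nat_lit 0) (nat_lit 1) (nat_lit 0) .nil) (.cD (nat_lit 32) (.kc (nat_lit 96) (nat_lit 0x3001001)) (.cD (nat_lit 40) (.kA false (nat_lit 0x300300000400100200c001002)) (.cD (nat_lit 48) (.kA false (nat_lit 0x300400200c002003003000002)) (.cD (nat_lit 64) (.kc (nat_lit 80) (nat_lit 0x5001001)) (.cD (nat_lit 96) (.kc (nat_lit 112) (nat_lit 0x7001001)) .nil)))))))) (.cD (nat_lit 40) (.kF (nat_lit 32) (nat_lit 0x3003000001006001002)) (.cD (nat_lit 48) (.dfs (nat_lit 64) (nat_lit 4100) (nat_lit 4100) (nat_lit 0x1002001) (nat_lit 0x1002001)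 (nat_lit 0) (nat_lit 0) (nat_lit 3) (nat_lit 0) (nat_lit 0) (nat_lit 0) (nat_lit 1) (nat_lit 0) (nat_lit 1) (nat_lit 0) (nat_lit 1) (nat_lit 0x10001000100010001000100010000) (.cD (nat_lit 16) (.kA false (nat_lit 0x100400300c002003003000002)) (.cD (nat_lit 32) (.kA false (nat_lit 0x300400100c002003003000002)) (.cD (nat_lit 48) (.kc (nat_lit 96) (nat_lit 0x3001001)) (.cD (nat_lit 64) (.kc (nat_lit 80) (nat_lit 0x5001001)) (.cD (nat_lit 80) (.kA false (nat_lit 0x500400700c002003003000002)) (.cD (nat_lit 96) (.kA false (nat_lit 0x700400500c002003003000002)) (.cD (nat_lit 112) (.kc (nat_lit 112) (nat_lit 0x7001001)) .nil)))))))) (.cD (nat_lit 64) (.kc (nat_lit 48) (nat_lit 0x3001001)) (.cD (nat_lit 96) (.dfs (nat_lit 64) (nat_lit 4100) (nat_lit 4100) (nat_lit 0x1002001) (nat_lit 0x1002001) (nat_lit 0) (nat_lit 0) (nat_lit 3) (nat_lit 0) (nat_lit 0) (nat_lit 0) (nat_lit 1) (nat_lit 0) (nat_lit 0x1010008) (nat_lit 65544) (nat_lit 0x1001008000010001028000030) (nat_lit 0x1000000010001010100010100)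 (.cD (nat_lit 8) (.kA false (nat_lit 0x400400000400100200e001004004000003)) (.cD (nat_lit 16) (.kA false (nat_lit 0x100400600c002003003000002)) (.cD (nat_lit 32) (.kc (nat_lit 112) (nat_lit 0x7001001)) (.cD (nat_lit 40) (.kA false (nat_lit 0x400400000400100200e001004004000003)) (.cD (nat_lit 48) (.kA false (nat_lit 0x700400600c002003003000002)) (.cD (nat_lit 64) (.kc (nat_lit 80) (nat_lit 0x5001001)) (.cD (nat_lit 96) (.kc (nat_lit 96) (nat_lit 0x3001001)) .nil)))))))) .nil)))))))) (.cD (nat_lit 96) (.kF (nat_lit 16) (nat_lit 0x7007000001003001002)) .nil))))))))))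
theorem c88 : (chk [] [] p88).n x51 s88 = true := by decide +kernel
noncomputable def p89 : Pf := (.anc (nat_lit 144) (nat_lit 0x3003000014002002) (nat_lit 0x100b040020010) (.czp (nat_lit 128) (nat_lit 0) (nat_lit 0x1080040020010008) z3 (.dfs (nat_lit 16) (nat_lit 4097) (nat_lit 4097) (nat_lit 1) (nat_lit 1) (nat_lit 0) (nat_lit 0) (nat_lit 3) (nat_lit 0) (nat_lit 0) (nat_lit 0) (nat_lit 1) (nat_lit 0) (nat_lit 0x1010008) (nat_lit 65544) (nat_lit 0x1001008000010001028000030) (nat_lit 0x1000000010001010100010100) (.cD (nat_lit 8) (.dfs (nat_lit 32) (nat_lit 4098) (nat_lit 4098) (nat_lit 4097) (nat_lit 4097) (nat_lit 0) (nat_lit 0) (nat_lit 3) (nat_lit 0) (nat_lit 0) (nat_lit 0) (nat_lit 1) (nat_lit 0) (nat_lit 1) (nat_lit 0) (nat_lit 1) (nat_lit 0x101000001010000010100000100) (.cD (nat_lit 8) (.kc (nat_lit 48) (nat_lit 0x3001001)) (.cD (nat_lit 32) (.kF (nat_lit 32) (nat_lit 0x1001000001006001002)) (.cD (nat_lit 40) (.kF (nat_lit 32) (nat_lit 0x1001000001006001002))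 (.cD (nat_lit 64) (.kF (nat_lit 16) (nat_lit 0x5005000002007001004004000003)) (.cD (nat_lit 72) (.kF (nat_lit 16) (nat_lit 0x3003000002007001004004000003)) (.cD (nat_lit 96) (.dfs (nat_lit 64) (nat_lit 4100) (nat_lit 4100) (nat_lit 0x1002001) (nat_lit 0x1002001) (nat_lit 0) (nat_lit 0) (nat_lit 3) (nat_lit 0) (nat_lit 0) (nat_lit 0) (nat_lit 1) (nat_lit 0) (nat_lit 1) (nat_lit 0) (nat_lit 1) (nat_lit 0x101000001010000010100000100) (.cD (nat_lit 8) (.kc (nat_lit 80) (nat_lit 0x5001001)) (.cD (nat_lit 32) (.kA false (nat_lit 0x100100000400100200c001002)) (.cD (nat_lit 40) (.kA false (nat_lit 0x100100000400100200c001002)) (.cD (nat_lit 64) (.kA false (nat_lit 0x100100000400100200c001002)) (.cD (nat_lit 72) (.kA false (nat_lit 0x100100000400100200c001002)) (.cD (nat_lit 96) (.kc (nat_lit 96) (nat_lit 0x3001001)) (.cD (nat_lit 104) (.kc (nat_lit 112) (nat_lit 0x7001001)) .nil)))))))) (.cD (nat_lit 104) (.dfs (nat_lit 64) (nat_lit 4100) (nat_lit 4100) (nat_lit 0x1002001)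 (nat_lit 0x1002001) (nat_lit 0) (nat_lit 0) (nat_lit 3) (nat_lit 0) (nat_lit 0) (nat_lit 0) (nat_lit 1) (nat_lit 0) (nat_lit 1) (nat_lit 0) (nat_lit 1) (nat_lit 0x101000001010000010100000100) (.cD (nat_lit 8) (.kc (nat_lit 80) (nat_lit 0x5001001)) (.cD (nat_lit 32) (.kA false (nat_lit 0x100100000400100200c001002)) (.cD (nat_lit 40) (.kA false (nat_lit 0x100100000400100200c001002)) (.cD (nat_lit 64) (.kA false (nat_lit 0x100100000400100200c001002)) (.cD (nat_lit 72) (.kA false (nat_lit 0x100100000400100200c001002)) (.cD (nat_lit 96) (.kc (nat_lit 112) (nat_lit 0x7001001)) (.cD (nat_lit 104) (.kc (nat_lit 96) (nat_lit 0x3001001)) .nil)))))))) .nil)))))))) (.cD (nat_lit 16) (.dfs (nat_lit 32) (nat_lit 4098) (nat_lit 4098) (nat_lit 4097) (nat_lit 4097) (nat_lit 0) (nat_lit 0) (nat_lit 3) (nat_lit 0) (nat_lit 0) (nat_lit 0) (nat_lit 1) (nat_lit 0) (nat_lit 1) (nat_lit 0) (nat_lit 1) (nat_lit 0x10001000100010001000100010000) (.cD (nat_lit 16) (.kc (nat_lit 48) (nat_lit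 0x3001001)) (.cD (nat_lit 32) (.dfs (nat_lit 64) (nat_lit 4100) (nat_lit 4100) (nat_lit 0x1002001) (nat_lit 0x1002001) (nat_lit 0) (nat_lit 0) (nat_lit 3) (nat_lit 0) (nat_lit 0) (nat_lit 0) (nat_lit 1) (nat_lit 0) (nat_lit 1) (nat_lit 0) (nat_lit 1) (nat_lit 0x10001000100010001000100010000) (.cD (nat_lit 16) (.kc (nat_lit 80) (nat_lit 0x5001001)) (.cD (nat_lit 32) (.kc (nat_lit 96) (nat_lit 0x3001001)) (.cD (nat_lit 48) (.kc (nat_lit 112) (nat_lit 0x7001001)) (.cD (nat_lit 64) (.dfs (nat_lit 11) (nat_lit 0x1004001002008) (nat_lit 0x1005001002008) (nat_lit 1) (nat_lit 1) (nat_lit 3) (nat_lit 0) (nat_lit 2) (nat_lit 0) (nat_lit 0) (nat_lit 8) (nat_lit 1) (nat_lit 0) (nat_lit 1) (nat_lit 0) (nat_lit 1) (nat_lit 0) .nil) (.cD (nat_lit 80) (.dfs (nat_lit 11) (nat_lit 4103) (nat_lit 4102) (nat_lit 1) (nat_lit 1) (nat_lit 3) (nat_lit 0) (nat_lit 1) (nat_lit 4192) (nat_lit 0x80040020010008004002001) (nat_lit 0) (nat_lit 1) (nat_lit 0) (nat_lit 1) (nat_lit 0) (nat_lit 1)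 (nat_lit 0) .nil) (.cD (nat_lit 96) (.kA false (nat_lit 0x5004002008001002004008014003003003000003)) (.cD (nat_lit 112) (.kA false (nat_lit 0x5004002008001002004008014003003003000003)) .nil)))))))) (.cD (nat_lit 48) (.dfs (nat_lit 64) (nat_lit 4100) (nat_lit 4100) (nat_lit 0x1002001) (nat_lit 0x1002001) (nat_lit 0) (nat_lit 0) (nat_lit 3) (nat_lit 0) (nat_lit 0) (nat_lit 0) (nat_lit 1) (nat_lit 0) (nat_lit 1) (nat_lit 0) (nat_lit 1) (nat_lit 0x10001000100010001000100010000) (.cD (nat_lit 16) (.kc (nat_lit 80) (nat_lit 0x5001001)) (.cD (nat_lit 32) (.kc (nat_lit 112) (nat_lit 0x7001001)) (.cD (nat_lit 48) (.kc (nat_lit 96) (nat_lit 0x3001001)) (.cD (nat_lit 64) (.kA false (nat_lit 0x400400000400100200e001004004000003)) (.cD (nat_lit 80) (.kA false (nat_lit 0x400400000400100200e001004004000003)) (.cD (nat_lit 96) (.kA false (nat_lit 0x400400000400100200e001004004000003)) (.cD (nat_lit 112) (.kA false (nat_lit 0x400400000400100200e001004004000003)) .nil)))))))) (.cD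 (nat_lit 64) (.kF (nat_lit 16) (nat_lit 0x3006002008008000002007001004004000004)) (.cD (nat_lit 80) (.kF (nat_lit 32) (nat_lit 0x3003000001007001004004000003)) (.cD (nat_lit 96) (.dfs (nat_lit 64) (nat_lit 4100) (nat_lit 4100) (nat_lit 0x1002001) (nat_lit 0x1002001) (nat_lit 0) (nat_lit 0) (nat_lit 3) (nat_lit 0) (nat_lit 0) (nat_lit 0) (nat_lit 1) (nat_lit 0) (nat_lit 1) (nat_lit 0) (nat_lit 1) (nat_lit 0x10001000100010001000100010000) (.cD (nat_lit 16) (.kc (nat_lit 80) (nat_lit 0x5001001)) (.cD (nat_lit 32) (.kA false (nat_lit 0x400200300800100400100200c001002)) (.cD (nat_lit 48) (.kA false (nat_lit 0x400600300800100400100200c001002)) (.cD (nat_lit 64) (.kA false (nat_lit 0x5004002008001002004008014003003003000003)) (.cD (nat_lit 80) (.kA false (nat_lit 0x400500300800100400100200c001002)) (.cD (nat_lit 96) (.kc (nat_lit 96) (nat_lit 0x3001001)) (.cD (nat_lit 112) (.kc (nat_lit 112) (nat_lit 0x7001001)) .nil)))))))) (.cD (nat_lit 112) (.dfs (nat_lit 64) (nat_lit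 4100) (nat_lit 4100) (nat_lit 0x1002001) (nat_lit 0x1002001) (nat_lit 0) (nat_lit 0) (nat_lit 3) (nat_lit 0) (nat_lit 0) (nat_lit 0) (nat_lit 1) (nat_lit 0) (nat_lit 1) (nat_lit 0) (nat_lit 1) (nat_lit 0x10001000100010001000100010000) (.cD (nat_lit 16) (.kc (nat_lit 80) (nat_lit 0x5001001)) (.cD (nat_lit 32) (.kA false (nat_lit 0x400200700800100400100200c001002)) (.cD (nat_lit 48) (.kA false (nat_lit 0x400600700800100400100200c001002)) (.cD (nat_lit 64) (.kA false (nat_lit 0x5004002008001002004008014003003003000003)) (.cD (nat_lit 80) (.kA false (nat_lit 0x400500700800100400100200c001002)) (.cD (nat_lit 96) (.kc (nat_lit 112) (nat_lit 0x7001001)) (.cD (nat_lit 112) (.kc (nat_lit 96) (nat_lit 0x3001001)) .nil)))))))) .nil)))))))) (.cD (nat_lit 32) (.kF (nat_lit 16) (nat_lit 0x4004000001003001002)) (.cD (nat_lit 40) (.kF (nat_lit 16) (nat_lit 0x2002000001003001002)) (.cD (nat_lit 48) (.kF (nat_lit 16) (nat_lit 0x300300000c014004004004000001003001004)) (.cD (nat_lit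 64) (.dfs (nat_lit 32) (nat_lit 4098) (nat_lit 4098) (nat_lit 4097) (nat_lit 4097) (nat_lit 0) (nat_lit 0) (nat_lit 3) (nat_lit 0) (nat_lit 0) (nat_lit 0) (nat_lit 1) (nat_lit 0) (nat_lit 0x1010008) (nat_lit 65544) (nat_lit 0x1001008000010001028000030) (nat_lit 0x1000000010001010100010100) (.cD (nat_lit 8) (.kF (nat_lit 16) (nat_lit 0x5005000002007001004004000003)) (.cD (nat_lit 16) (.kF (nat_lit 32) (nat_lit 0x3003000001006001002)) (.cD (nat_lit 32) (.dfs (nat_lit 64) (nat_lit 4100) (nat_lit 4100) (nat_lit 0x1002001) (nat_lit 0x1002001) (nat_lit 0) (nat_lit 0) (nat_lit 3) (nat_lit 0) (nat_lit 0) (nat_lit 0) (nat_lit 1) (nat_lit 0) (nat_lit 0x1010008) (nat_lit 65544) (nat_lit 0x1001008000010001028000030) (nat_lit 0x1000000010001010100010100) (.cD (nat_lit 8) (.kA false (nat_lit 0x300300000400100200c001002)) (.cD (nat_lit 16) (.dfs (nat_lit 11) (nat_lit 4102) (nat_lit 4103) (nat_lit 1) (nat_lit 1) (nat_lit 3) (nat_lit 0) (nat_lit 1) (nat_lit 4192) (nat_lit 0x80040020010008004002001)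 (nat_lit 0) (nat_lit 1) (nat_lit 0) (nat_lit 1) (nat_lit 0) (nat_lit 1) (nat_lit 0) .nil) (.cD (nat_lit 32) (.kc (nat_lit 96) (nat_lit 0x3001001)) (.cD (nat_lit 40) (.kA false (nat_lit 0x300300000400100200c001002)) (.cD (nat_lit 48) (.kA false (nat_lit 0x300400200c002003003000002)) (.cD (nat_lit 64) (.kc (nat_lit 80) (nat_lit 0x5001001)) (.cD (nat_lit 96) (.kc (nat_lit 112) (nat_lit 0x7001001)) .nil)))))))) (.cD (nat_lit 40) (.kF (nat_lit 32) (nat_lit 0x3003000001006001002)) (.cD (nat_lit 48) (.dfs (nat_lit 64) (nat_lit 4100) (nat_lit 4100) (nat_lit 0x1002001) (nat_lit 0x1002001) (nat_lit 0) (nat_lit 0) (nat_lit 3) (nat_lit 0) (nat_lit 0) (nat_lit 0) (nat_lit 1) (nat_lit 0) (nat_lit 1) (nat_lit 0) (nat_lit 1) (nat_lit 0x10001000100010001000100010000) (.cD (nat_lit 16) (.kA false (nat_lit 0x100400300c002003003000002)) (.cD (nat_lit 32) (.kA false (nat_lit 0x300400100c002003003000002)) (.cD (nat_lit 48) (.kc (nat_lit 96) (nat_lit 0x3001001)) (.cD (nat_lit 64) (.kc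 (nat_lit 80) (nat_lit 0x5001001)) (.cD (nat_lit 80) (.kA false (nat_lit 0x500400700c002003003000002)) (.cD (nat_lit 96) (.kA false (nat_lit 0x700400500c002003003000002)) (.cD (nat_lit 112) (.kc (nat_lit 112) (nat_lit 0x7001001)) .nil)))))))) (.cD (nat_lit 64) (.kc (nat_lit 48) (nat_lit 0x3001001)) (.cD (nat_lit 96) (.dfs (nat_lit 64) (nat_lit 4100) (nat_lit 4100) (nat_lit 0x1002001) (nat_lit 0x1002001) (nat_lit 0) (nat_lit 0) (nat_lit 3) (nat_lit 0) (nat_lit 0) (nat_lit 0) (nat_lit 1) (nat_lit 0) (nat_lit 0x1010008) (nat_lit 65544) (nat_lit 0x1001008000010001028000030) (nat_lit 0x1000000010001010100010100) (.cD (nat_lit 8) (.kA false (nat_lit 0x400400000400100200e001004004000003)) (.cD (nat_lit 16) (.kA false (nat_lit 0x100400600c002003003000002)) (.cD (nat_lit 32) (.kc (nat_lit 112) (nat_lit 0x7001001)) (.cD (nat_lit 40) (.kA false (nat_lit 0x400400000400100200e001004004000003)) (.cD (nat_lit 48) (.kA false (nat_lit 0x700400600c002003003000002)) (.cD (nat_lit 64)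 (.kc (nat_lit 80) (nat_lit 0x5001001)) (.cD (nat_lit 96) (.kc (nat_lit 96) (nat_lit 0x3001001)) .nil)))))))) .nil)))))))) (.cD (nat_lit 96) (.kF (nat_lit 16) (nat_lit 0x7007000001003001002)) .nil))))))))))
theorem c89 : (chk [] [] p89).n x52 s89 = true := by decide +kernel
noncomputable def p90 : Pf := (.ext (nat_lit 1) (nat_lit 0) (nat_lit 0x1200180100020) (nat_lit 0x10008004002001001) (nat_lit 0x2003004008) (nat_lit 4104) (nat_lit 4127) (nat_lit 0xa004002001) (.dfs (nat_lit 8) (nat_lit 0x1002003004008) (nat_lit 0x100200300400a) (nat_lit 4097) (nat_lit 4097) (nat_lit 4) (nat_lit 0) (nat_lit 2) (nat_lit 1) (nat_lit 0) (nat_lit 31) (nat_lit 1) (nat_lit 0) (nat_lit 1) (nat_lit 0) (nat_lit 1) (nat_lit 0) .nil))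
theorem c90 : (chk [] [] p90).n x57 s90 = true := by decide +kernel
noncomputable def p91 : Pf := (.ext (nat_lit 1) (nat_lit 0) (nat_lit 0x1200180100020) (nat_lit 0x10008004002001001) (nat_lit 0x2003004008) (nat_lit 4104) (nat_lit 4127) (nat_lit 0xa004002001) (.dfs (nat_lit 8) (nat_lit 0x1002003004008) (nat_lit 0x100200300400a) (nat_lit 4097) (nat_lit 4097) (nat_lit 4) (nat_lit 0) (nat_lit 2) (nat_lit 1) (nat_lit 0) (nat_lit 31) (nat_lit 1) (nat_lit 0) (nat_lit 1) (nat_lit 0) (nat_lit 1) (nat_lit 0) .nil))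
theorem c91 : (chk [] [] p91).n x58 s91 = true := by decide +kernel
noncomputable def p92 : Pf := (.ext (nat_lit 1) (nat_lit 0) (nat_lit 0x1200180100020) (nat_lit 0x10008004002001001) (nat_lit 0x2003004008) (nat_lit 4104) (nat_lit 4127) (nat_lit 0xa004002001) (.dfs (nat_lit 8) (nat_lit 0x1002003004008) (nat_lit 0x100200300400a) (nat_lit 4097) (nat_lit 4097) (nat_lit 4) (nat_lit 0) (nat_lit 2) (nat_lit 1) (nat_lit 0) (nat_lit 31) (nat_lit 1) (nat_lit 0) (nat_lit 1) (nat_lit 0) (nat_lit 1) (nat_lit 0) .nil))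
theorem c92 : (chk [] [] p92).n x59 s92 = true := by decide +kernel
noncomputable def p93 : Pf := (.ext (nat_lit 1) (nat_lit 0) (nat_lit 0x1200180100020) (nat_lit 0x10008004002001001) (nat_lit 0x2003004008) (nat_lit 0x1047017008) (nat_lit 0x104f00801f) (nat_lit 0xd00400200100b00400200100a004002001) (.dfs (nat_lit 8) (nat_lit 0x1002003004008) (nat_lit 0x100200300400a) (nat_lit 4097) (nat_lit 4097) (nat_lit 4) (nat_lit 0) (nat_lit 2) (nat_lit 1) (nat_lit 0) (nat_lit 31) (nat_lit 1) (nat_lit 0) (nat_lit 4608) (nat_lit 512) (nat_lit 0x100001f00009f00011f00019f) (nat_lit 0x80000000000000000000000000000000800000000000000000000000000000008000000000000000000000000000000080000000) (.cD (nat_lit 31) (.dfs (nat_lit 23) (nat_lit 0x1004006008010) (nat_lit 0x1004006008016) (nat_lit 0x1002001) (nat_lit 0x100200f) (nat_lit 14) (nat_lit 0) (nat_lit 2) (nat_lit 1) (nat_lit 0) (nat_lit 8) (nat_lit 1) (nat_lit 0) (nat_lit 1) (nat_lit 0) (nat_lit 1) (nat_lit 0x1000000010000000000000000000000010000000100000000000000000000000100000001000000000000000000000001000000010000000000000000000000000000000000000000000000000000000000000000000000000000000000000000000000000000000000000000000000000000000000)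 (.cD (nat_lit 520) (.kS (nat_lit 1) (nat_lit 0x400c010020002040040000002) (nat_lit 5015) (nat_lit 0x8004002005) (nat_lit 0x4004000000400801002000200104004000000400c010020031001004)) (.cD (nat_lit 552) (.kS (nat_lit 1) (nat_lit 0x800c010020002001) (nat_lit 4887) (nat_lit 0x8004002005) (nat_lit 0xc00401002000300100400801002000200100800c010020029001003)) (.cD (nat_lit 648) (.kS (nat_lit 1) (nat_lit 0x400c010020002040040000002) (nat_lit 4919) (nat_lit 0x8004002005) (nat_lit 0x4004000000400801002000200104004000000400c01002002d001004)) (.cD (nat_lit 680) (.kS (nat_lit 1) (nat_lit 0x400c010020002040040000002) (nat_lit 4663) (nat_lit 0x8004002005) (nat_lit 0x4004000000400801002000200104004000000400c010020025001004)) (.cD (nat_lit 776) (.kS (nat_lit 1) (nat_lit 0x400c010020002040040000002) (nat_lit 4791) (nat_lit 0x8004002005) (nat_lit 0x4004000000400801002000200104004000000400c01002003d001004)) (.cD (nat_lit 808) (.dfs (nat_lit 71) (nat_lit 0x100800c010020) (nat_lit 0x100800c010034)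 (nat_lit 0x1004002001) (nat_lit 0x100400e01d) (nat_lit 0) (nat_lit 0) (nat_lit 2) (nat_lit 1) (nat_lit 0) (nat_lit 79) (nat_lit 1) (nat_lit 0) (nat_lit 1) (nat_lit 0) (nat_lit 1) (nat_lit 0x800000008000000000000000000000008000000080000000000000000000000080000000800000000000000000000000800000008000000000000000000000000000000000000000000000000000000000000000000000000000000000000000000000000000000000000000000000000000000000000000000000000000) (.cD (nat_lit 591) (.kS (nat_lit 1) (nat_lit 0x8018020040002040040000002) (nat_lit 0x13b73a8147) (nat_lit 0x800400200501000800401a01d02001000802c032039) (nat_lit 0x4004000000801002004000400200100104004000000801802004006a06c011001004)) (.cD (nat_lit 623) (.kS (nat_lit 1) (nat_lit 0x8018020040002040040000002) (nat_lit 0x13b73a8067) (nat_lit 0x800400200501000800401a01d02001000802c032039) (nat_lit 0x4004000000801002004000400200100104004000000801802004006a06c019001004)) (.cD (nat_lit 719) (.kS (nat_lit 1) (nat_lit 0x10018020040002001)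 (nat_lit 0x123731f0f0) (nat_lit 0x800400200501000800401a01d02001000802c032039) (nat_lit 0x1800802004000605c05500100801002004000400200100101001802004004a05602b001003)) (.cD (nat_lit 751) (.kS (nat_lit 1) (nat_lit 0x10018020040002001) (nat_lit 0x123731f1d0) (nat_lit 0x800400200501000800401a01d02001000802c032039) (nat_lit 0x1800802004000605c04d00100801002004000400200100101001802004004a056023001003)) (.cD (nat_lit 847) (.kS (nat_lit 1) (nat_lit 0x8010020040001001) (nat_lit 4216) (nat_lit 0x8004002003) (nat_lit 0x2004008010001003008010020040027002002)) (.cD (nat_lit 879) (.kS (nat_lit 1) (nat_lit 0x18008020013001352002000008010020040001003) (nat_lit 4392) (nat_lit 0x8004002005) (nat_lit 0x35200200001001802005d0770021dd005000008010020040004002002352000018008020013042002006)) (.cD (nat_lit 975) (.kS (nat_lit 1) (nat_lit 0x8018020040002040040000002) (nat_lit 0x13b73a80c7) (nat_lit 0x800400200501000800401a01d02001000802c032039) (nat_lit 0x4004000000801002004000400200100104004000000801802004006a06c031001004))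 (.cD (nat_lit 1007) (.kS (nat_lit 1) (nat_lit 0x8018020040002040040000002) (nat_lit 0x13b73a81e7) (nat_lit 0x800400200501000800401a01d02001000802c032039) (nat_lit 0x4004000000801002004000400200100104004000000801802004006a06c039001004)) .nil))))))))) (.cD (nat_lit 904) (.kS (nat_lit 1) (nat_lit 0x400c010020002040040000002) (nat_lit 4631) (nat_lit 0x8004002005) (nat_lit 0x4004000000400801002000200104004000000400c010020021001004)) (.cD (nat_lit 936) (.kS (nat_lit 1) (nat_lit 0x400c010020002040040000002) (nat_lit 4887) (nat_lit 0x8004002005) (nat_lit 0x4004000000400801002000200104004000000400c010020029001004)) .nil))))))))) (.cD (nat_lit 159) (.dfs (nat_lit 23) (nat_lit 0x1004006008010) (nat_lit 0x1004006008016) (nat_lit 0x1002001) (nat_lit 0x100200f) (nat_lit 14) (nat_lit 0) (nat_lit 2) (nat_lit 1) (nat_lit 0) (nat_lit 8) (nat_lit 1) (nat_lit 0) (nat_lit 1) (nat_lit 0) (nat_lit 1) (nat_lit 0x1000000010000000000000000000000010000000100000000000000000000000100000001000000000000000000000001000000010000000000000000000000000000000000000000000000000000000000000000000000000000000000000000000000000000000000000000000000000000000000)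 (.cD (nat_lit 520) (.kS (nat_lit 1) (nat_lit 0x400c010020002040040000002) (nat_lit 5015) (nat_lit 0x8004002005) (nat_lit 0x4004000000400801002000200104004000000400c010020031001004)) (.cD (nat_lit 552) (.kS (nat_lit 1) (nat_lit 0x400c010020002040040000002) (nat_lit 4759) (nat_lit 0x8004002005) (nat_lit 0x4004000000400801002000200104004000000400c010020039001004)) (.cD (nat_lit 648) (.dfs (nat_lit 71) (nat_lit 0x100800c010020) (nat_lit 0x100800c010034) (nat_lit 0x1004002001) (nat_lit 0x100400e01d) (nat_lit 0) (nat_lit 0) (nat_lit 2) (nat_lit 1) (nat_lit 0) (nat_lit 79) (nat_lit 1) (nat_lit 0) (nat_lit 1) (nat_lit 0) (nat_lit 1) (nat_lit 0x800000008000000000000000000000008000000080000000000000000000000080000000800000000000000000000000800000008000000000000000000000000000000000000000000000000000000000000000000000000000000000000000000000000000000000000000000000000000000000000000000000000000) (.cD (nat_lit 591) (.kS (nat_lit 1) (nat_lit 0x8018020040002040040000002) (nat_lit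 0x1337308147) (nat_lit 0x800400200501000800401a01d02001000802c032039) (nat_lit 0x4004000000801002004000400200100104004000000801802004005a054011001004)) (.cD (nat_lit 623) (.kS (nat_lit 1) (nat_lit 0x8018020040002040040000002) (nat_lit 0x1337308067) (nat_lit 0x800400200501000800401a01d02001000802c032039) (nat_lit 0x4004000000801002004000400200100104004000000801802004005a054019001004)) (.cD (nat_lit 719) (.kS (nat_lit 1) (nat_lit 0x10018020040002001) (nat_lit 0x12b733f070) (nat_lit 0x800400200501000800401a01d02001000802c032039) (nat_lit 0x1800802004003607405500100801002004000400200100101001802004007a05e01b001003)) (.cD (nat_lit 751) (.kS (nat_lit 1) (nat_lit 0x10018020040002001) (nat_lit 0x12b733f150) (nat_lit 0x800400200501000800401a01d02001000802c032039) (nat_lit 0x1800802004003607404d00100801002004000400200100101001802004007a05e013001003)) (.cD (nat_lit 847) (.kS (nat_lit 1) (nat_lit 0x18008020013001352002000008010020040001003) (nat_lit 4392) (nat_lit 0x8004002005)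 (nat_lit 0x35200200001001802006d0770021dd005000008010020040004002002352000018008020013072002006)) (.cD (nat_lit 879) (.kS (nat_lit 1) (nat_lit 0x8010020040001001) (nat_lit 4216) (nat_lit 0x8004002003) (nat_lit 0x2004008010001003008010020040027002002)) (.cD (nat_lit 975) (.kS (nat_lit 1) (nat_lit 0x8018020040002040040000002) (nat_lit 0x13373080c7) (nat_lit 0x800400200501000800401a01d02001000802c032039) (nat_lit 0x4004000000801002004000400200100104004000000801802004005a054031001004)) (.cD (nat_lit 1007) (.kS (nat_lit 1) (nat_lit 0x8018020040002040040000002) (nat_lit 0x13373081e7) (nat_lit 0x800400200501000800401a01d02001000802c032039) (nat_lit 0x4004000000801002004000400200100104004000000801802004005a054039001004)) .nil))))))))) (.cD (nat_lit 680) (.kS (nat_lit 1) (nat_lit 0x400c010020002040040000002) (nat_lit 4663) (nat_lit 0x8004002005) (nat_lit 0x4004000000400801002000200104004000000400c010020025001004)) (.cD (nat_lit 776) (.kS (nat_lit 1) (nat_lit 0x400c010020002040040000002)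 (nat_lit 4791) (nat_lit 0x8004002005) (nat_lit 0x4004000000400801002000200104004000000400c01002003d001004)) (.cD (nat_lit 808) (.kS (nat_lit 1) (nat_lit 0x400c010020002040040000002) (nat_lit 5047) (nat_lit 0x8004002005) (nat_lit 0x4004000000400801002000200104004000000400c010020035001004)) (.cD (nat_lit 904) (.kS (nat_lit 1) (nat_lit 0x800c010020002001) (nat_lit 5015) (nat_lit 0x8004002005) (nat_lit 0xc00401002001b00100400801002000200100800c010020031001003)) (.cD (nat_lit 936) (.kS (nat_lit 1) (nat_lit 0x400c010020002040040000002) (nat_lit 4887) (nat_lit 0x8004002005) (nat_lit 0x4004000000400801002000200104004000000400c010020029001004)) .nil))))))))) (.cD (nat_lit 287) (.dfs (nat_lit 23) (nat_lit 0x1004006008010) (nat_lit 0x1004006008016) (nat_lit 0x1002001) (nat_lit 0x100200f) (nat_lit 14) (nat_lit 0) (nat_lit 2) (nat_lit 1) (nat_lit 0) (nat_lit 8) (nat_lit 1) (nat_lit 0) (nat_lit 1) (nat_lit 0) (nat_lit 1) (nat_lit 0x1000000010000000000000000000000010000000100000000000000000000000100000001000000000000000000000001000000010000000000000000000000000000000000000000000000000000000000000000000000000000000000000000000000000000000000000000000000000000000000)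 (.cD (nat_lit 520) (.kS (nat_lit 1) (nat_lit 0x800c010020002001) (nat_lit 4631) (nat_lit 0x8004002005) (nat_lit 0xc00401002000b00100400801002000200100800c010020021001003)) (.cD (nat_lit 552) (.kS (nat_lit 1) (nat_lit 0x400c010020002040040000002) (nat_lit 4759) (nat_lit 0x8004002005) (nat_lit 0x4004000000400801002000200104004000000400c010020039001004)) (.cD (nat_lit 648) (.kS (nat_lit 1) (nat_lit 0x400c010020002040040000002) (nat_lit 4919) (nat_lit 0x8004002005) (nat_lit 0x4004000000400801002000200104004000000400c01002002d001004)) (.cD (nat_lit 680) (.kS (nat_lit 1) (nat_lit 0x400c010020002040040000002) (nat_lit 4663) (nat_lit 0x8004002005) (nat_lit 0x4004000000400801002000200104004000000400c010020025001004)) (.cD (nat_lit 776) (.dfs (nat_lit 71) (nat_lit 0x100800c010020) (nat_lit 0x100800c010034) (nat_lit 0x1004002001) (nat_lit 0x100400e01d) (nat_lit 0) (nat_lit 0) (nat_lit 2) (nat_lit 1) (nat_lit 0) (nat_lit 79) (nat_lit 1) (nat_lit 0) (nat_lit 1) (nat_lit 0) (nat_lit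 1) (nat_lit 0x800000008000000000000000000000008000000080000000000000000000000080000000800000000000000000000000800000008000000000000000000000000000000000000000000000000000000000000000000000000000000000000000000000000000000000000000000000000000000000000000000000000000) (.cD (nat_lit 591) (.kS (nat_lit 1) (nat_lit 0x8018020040002040040000002) (nat_lit 0x12b7288147) (nat_lit 0x800400200501000800401a01d02001000802c032039) (nat_lit 0x4004000000801002004000400200100104004000000801802004007a074011001004)) (.cD (nat_lit 623) (.kS (nat_lit 1) (nat_lit 0x8018020040002040040000002) (nat_lit 0x12b7288067) (nat_lit 0x800400200501000800401a01d02001000802c032039) (nat_lit 0x4004000000801002004000400200100104004000000801802004007a074019001004)) (.cD (nat_lit 719) (.kS (nat_lit 1) (nat_lit 0x10018020040002001) (nat_lit 0x133733f1f0) (nat_lit 0x800400200501000800401a01d02001000802c032039) (nat_lit 0x1800802004001605405500100801002004000400200100101001802004005a05e03b001003)) (.cD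 (nat_lit 751) (.kS (nat_lit 1) (nat_lit 0x10018020040002001) (nat_lit 0x133733f0d0) (nat_lit 0x800400200501000800401a01d02001000802c032039) (nat_lit 0x1800802004001605404d00100801002004000400200100101001802004005a05e033001003)) (.cD (nat_lit 847) (.kS (nat_lit 1) (nat_lit 0x18008020013001352002000008010020040001003) (nat_lit 4392) (nat_lit 0x8004002005) (nat_lit 0x35200200001001802004d0770021dd005000008010020040004002002352000018008020013052002006)) (.cD (nat_lit 879) (.kS (nat_lit 1) (nat_lit 0x8010020040001001) (nat_lit 4216) (nat_lit 0x8004002003) (nat_lit 0x2004008010001003008010020040027002002)) (.cD (nat_lit 975) (.kS (nat_lit 1) (nat_lit 0x8018020040002040040000002) (nat_lit 0x12b72880c7) (nat_lit 0x800400200501000800401a01d02001000802c032039) (nat_lit 0x4004000000801002004000400200100104004000000801802004007a074031001004)) (.cD (nat_lit 1007) (.kS (nat_lit 1) (nat_lit 0x8018020040002040040000002) (nat_lit 0x12b72881e7) (nat_lit 0x800400200501000800401a01d02001000802c032039)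 (nat_lit 0x4004000000801002004000400200100104004000000801802004007a074039001004)) .nil))))))))) (.cD (nat_lit 808) (.kS (nat_lit 1) (nat_lit 0x400c010020002040040000002) (nat_lit 5047) (nat_lit 0x8004002005) (nat_lit 0x4004000000400801002000200104004000000400c010020035001004)) (.cD (nat_lit 904) (.kS (nat_lit 1) (nat_lit 0x400c010020002040040000002) (nat_lit 4631) (nat_lit 0x8004002005) (nat_lit 0x4004000000400801002000200104004000000400c010020021001004)) (.cD (nat_lit 936) (.kS (nat_lit 1) (nat_lit 0x400c010020002040040000002) (nat_lit 4887) (nat_lit 0x8004002005) (nat_lit 0x4004000000400801002000200104004000000400c010020029001004)) .nil))))))))) (.cD (nat_lit 415) (.dfs (nat_lit 23) (nat_lit 0x1004006008010) (nat_lit 0x1004006008016) (nat_lit 0x1002001) (nat_lit 0x100200f) (nat_lit 14) (nat_lit 0) (nat_lit 2) (nat_lit 1) (nat_lit 0) (nat_lit 8) (nat_lit 1) (nat_lit 0) (nat_lit 1) (nat_lit 0) (nat_lit 1) (nat_lit 0x1000000010000000000000000000000010000000100000000000000000000000100000001000000000000000000000001000000010000000000000000000000000000000000000000000000000000000000000000000000000000000000000000000000000000000000000000000000000000000000)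 (.cD (nat_lit 520) (.kS (nat_lit 1) (nat_lit 0x400c010020002040040000002) (nat_lit 5015) (nat_lit 0x8004002005) (nat_lit 0x4004000000400801002000200104004000000400c010020031001004)) (.cD (nat_lit 552) (.kS (nat_lit 1) (nat_lit 0x400c010020002040040000002) (nat_lit 4759) (nat_lit 0x8004002005) (nat_lit 0x4004000000400801002000200104004000000400c010020039001004)) (.cD (nat_lit 648) (.kS (nat_lit 1) (nat_lit 0x400c010020002040040000002) (nat_lit 4919) (nat_lit 0x8004002005) (nat_lit 0x4004000000400801002000200104004000000400c01002002d001004)) (.cD (nat_lit 680) (.dfs (nat_lit 71) (nat_lit 0x100800c010020) (nat_lit 0x100800c010034) (nat_lit 0x1004002001) (nat_lit 0x100400e01d) (nat_lit 0) (nat_lit 0) (nat_lit 2) (nat_lit 1) (nat_lit 0) (nat_lit 79) (nat_lit 1) (nat_lit 0) (nat_lit 1) (nat_lit 0) (nat_lit 1) (nat_lit 0x800000008000000000000000000000008000000080000000000000000000000080000000800000000000000000000000800000008000000000000000000000000000000000000000000000000000000000000000000000000000000000000000000000000000000000000000000000000000000000000000000000000000)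 (.cD (nat_lit 591) (.kS (nat_lit 1) (nat_lit 0x8018020040002040040000002) (nat_lit 0x1237228147) (nat_lit 0x800400200501000800401a01d02001000802c032039) (nat_lit 0x4004000000801002004000400200100104004000000801802004004a04c011001004)) (.cD (nat_lit 623) (.kS (nat_lit 1) (nat_lit 0x8018020040002040040000002) (nat_lit 0x1237228067) (nat_lit 0x800400200501000800401a01d02001000802c032039) (nat_lit 0x4004000000801002004000400200100104004000000801802004004a04c019001004)) (.cD (nat_lit 719) (.kS (nat_lit 1) (nat_lit 0x10018020040002001) (nat_lit 0x13b731f170) (nat_lit 0x800400200501000800401a01d02001000802c032039) (nat_lit 0x1800802004002607c05500100801002004000400200100101001802004006a05600b001003)) (.cD (nat_lit 751) (.kS (nat_lit 1) (nat_lit 0x10018020040002001) (nat_lit 0x13b731f050) (nat_lit 0x800400200501000800401a01d02001000802c032039) (nat_lit 0x1800802004002607c04d00100801002004000400200100101001802004006a056003001003)) (.cD (nat_lit 847) (.kS (nat_lit 1) (nat_lit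 0x8010020040001001) (nat_lit 4216) (nat_lit 0x8004002003) (nat_lit 0x2004008010001003008010020040027002002)) (.cD (nat_lit 879) (.kS (nat_lit 1) (nat_lit 0x18008020013001352002000008010020040001003) (nat_lit 4392) (nat_lit 0x8004002005) (nat_lit 0x35200200001001802007d0770021dd005000008010020040004002002352000018008020013062002006)) (.cD (nat_lit 975) (.kS (nat_lit 1) (nat_lit 0x8018020040002040040000002) (nat_lit 0x12372280c7) (nat_lit 0x800400200501000800401a01d02001000802c032039) (nat_lit 0x4004000000801002004000400200100104004000000801802004004a04c031001004)) (.cD (nat_lit 1007) (.kS (nat_lit 1) (nat_lit 0x8018020040002040040000002) (nat_lit 0x12372281e7) (nat_lit 0x800400200501000800401a01d02001000802c032039) (nat_lit 0x4004000000801002004000400200100104004000000801802004004a04c039001004)) .nil))))))))) (.cD (nat_lit 776) (.kS (nat_lit 1) (nat_lit 0x400c010020002040040000002) (nat_lit 4791) (nat_lit 0x8004002005) (nat_lit 0x4004000000400801002000200104004000000400c01002003d001004))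 (.cD (nat_lit 808) (.kS (nat_lit 1) (nat_lit 0x400c010020002040040000002) (nat_lit 5047) (nat_lit 0x8004002005) (nat_lit 0x4004000000400801002000200104004000000400c010020035001004)) (.cD (nat_lit 904) (.kS (nat_lit 1) (nat_lit 0x400c010020002040040000002) (nat_lit 4631) (nat_lit 0x8004002005) (nat_lit 0x4004000000400801002000200104004000000400c010020021001004)) (.cD (nat_lit 936) (.kS (nat_lit 1) (nat_lit 0x800c010020002001) (nat_lit 4759) (nat_lit 0x8004002005) (nat_lit 0xc00401002001300100400801002000200100800c010020039001003)) .nil))))))))) .nil))))))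
theorem c93 : (chk [] [] p93).n x60 s93 = true := by decide +kernel
noncomputable def p94 : Pf := (.lft (nat_lit 0x14a0c00801e40aa1460e40b8001001001) (nat_lit 153) (nat_lit 0x11e01c01a01801601401201000e80c80a8088068048028008) (nat_lit 0x1000800400200100080c41b61a9) (.extn a58 (nat_lit 0x100080040020010008004002001) (nat_lit 0x1020080040100) (nat_lit 2) (nat_lit 0) (nat_lit 0) (nat_lit 17) (nat_lit 0x2000000000000000200000000000000000000000000000000000000) (.cE (nat_lit 153) b148 (nat_lit 0) (.cut (nat_lit 0)) (.cut (nat_lit 1)) (.cE (nat_lit 217) b149 (nat_lit 0) (.cut (nat_lit 2)) (.cut (nat_lit 3)) .nil))))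
theorem c94 : (chk [(x57, s90), (x58, s91), (x59, s92), (x60, s93)] [] p94).n x56 s94 = true := by decide +kernel
noncomputable def p95 : Pf := (.ext (nat_lit 1) (nat_lit 0) (nat_lit 0x1200180100020) (nat_lit 0x10008004002001001) (nat_lit 0x2003004008) (nat_lit 4104) (nat_lit 4127) (nat_lit 0xa004002001) (.dfs (nat_lit 8) (nat_lit 0x1002003004008) (nat_lit 0x100200300400a) (nat_lit 4097) (nat_lit 4097) (nat_lit 4) (nat_lit 0) (nat_lit 2) (nat_lit 1) (nat_lit 0) (nat_lit 31) (nat_lit 1) (nat_lit 0) (nat_lit 1) (nat_lit 0) (nat_lit 1) (nat_lit 0) .nil))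
theorem c95 : (chk [] [] p95).n x61 s95 = true := by decide +kernel
noncomputable def p96 : Pf := (.ext (nat_lit 1) (nat_lit 0) (nat_lit 0x1200180100020) (nat_lit 0x10008004002001001) (nat_lit 0x2003004008) (nat_lit 4104) (nat_lit 4127) (nat_lit 0xa004002001) (.dfs (nat_lit 8) (nat_lit 0x1002003004008) (nat_lit 0x100200300400a) (nat_lit 4097) (nat_lit 4097) (nat_lit 4) (nat_lit 0) (nat_lit 2) (nat_lit 1) (nat_lit 0) (nat_lit 31) (nat_lit 1) (nat_lit 0) (nat_lit 1) (nat_lit 0) (nat_lit 1) (nat_lit 0) .nil))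
theorem c96 : (chk [] [] p96).n x62 s96 = true := by decide +kernel
noncomputable def p97 : Pf := (.ext (nat_lit 1) (nat_lit 0) (nat_lit 0x1200180100020) (nat_lit 0x10008004002001001) (nat_lit 0x2003004008) (nat_lit 4104) (nat_lit 4127) (nat_lit 0xa004002001) (.dfs (nat_lit 8) (nat_lit 0x1002003004008) (nat_lit 0x100200300400a) (nat_lit 4097) (nat_lit 4097) (nat_lit 4) (nat_lit 0) (nat_lit 2) (nat_lit 1) (nat_lit 0) (nat_lit 31) (nat_lit 1) (nat_lit 0) (nat_lit 1) (nat_lit 0) (nat_lit 1) (nat_lit 0) .nil))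
theorem c97 : (chk [] [] p97).n x63 s97 = true := by decide +kernel
noncomputable def p98 : Pf := (.ext (nat_lit 1) (nat_lit 0) (nat_lit 0x1200180100020) (nat_lit 0x10008004002001001) (nat_lit 0x2003004008) (nat_lit 4104) (nat_lit 4127) (nat_lit 0xa004002001) (.dfs (nat_lit 8) (nat_lit 0x1002003004008) (nat_lit 0x100200300400a) (nat_lit 4097) (nat_lit 4097) (nat_lit 4) (nat_lit 0) (nat_lit 2) (nat_lit 1) (nat_lit 0) (nat_lit 31) (nat_lit 1) (nat_lit 0) (nat_lit 1) (nat_lit 0) (nat_lit 1) (nat_lit 0) .nil))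
theorem c98 : (chk [] [] p98).n x64 s98 = true := by decide +kernel
noncomputable def p99 : Pf := (.lft (nat_lit 0x14a0c00801e40aa1460e40b8001001001) (nat_lit 25) (nat_lit 0x11e01c01a01801601401201000e80c80a8088068048028008) (nat_lit 0x1000800400200100080c41b61a9) (.extn a57 (nat_lit 0x100080040020010008004002001) (nat_lit 0x1020080040100) (nat_lit 2) (nat_lit 0) (nat_lit 0) (nat_lit 17) (nat_lit 0x20000000000000002000000) (.cE (nat_lit 25) b146 (nat_lit 0) (.cut (nat_lit 0)) (.cut (nat_lit 1)) (.cE (nat_lit 89) b147 (nat_lit 0) (.cut (nat_lit 2)) (.cut (nat_lit 3)) .nil))))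
theorem c99 : (chk [(x61, s95), (x62, s96), (x63, s97), (x64, s98)] [] p99).n x56 s99 = true := by decide +kernel
noncomputable def p100 : Pf := (.ext (nat_lit 0) (nat_lit 0) (nat_lit 0x10e40400c01f40ba0f81b019c) (nat_lit 0x80040020010008004002001002001) (nat_lit 0x10020040080) (nat_lit 4097) (nat_lit 4389) (nat_lit 0x140400200500580900f60d5) (.dfs (nat_lit 1) (nat_lit 0x1010020040080) (nat_lit 0x1050020040014) (nat_lit 0x1008004002001) (nat_lit 0x10580900f60d5) (nat_lit 148) (nat_lit 0) (nat_lit 2) (nat_lit 0) (nat_lit 0) (nat_lit 261) (nat_lit 1) (nat_lit 0) (nat_lit 1) (nat_lit 0) (nat_lit 1) (nat_lit 0x200000000000000020000000000000000000000000000000000000000000000000000000000000000000000000) (.cD (nat_lit 293) (.cut (nat_lit 1)) (.cD (nat_lit 357) (.cut (nat_lit 0)) .nil))))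
theorem c100 : (chk [(x56, s94), (x56, s99)] [] p100).n x56 s100 = true := by decide +kernel
noncomputable def p101 : Pf := (.ext (nat_lit 0) (nat_lit 0x8010020040001001) (nat_lit 0x1100040080020) (nat_lit 0x48020030008004001) (nat_lit 0x700500400e) (nat_lit 0x1002010008004) (nat_lit 0x100f00801c00c) (nat_lit 0xb00400600300800400200300c00400200100a004002007) (.dfs (nat_lit 4) (nat_lit 0x1001002004008) (nat_lit 0x100700200400a) (nat_lit 1) (nat_lit 1) (nat_lit 6) (nat_lit 0) (nat_lit 2) (nat_lit 0) (nat_lit 0x1002004008001001) (nat_lit 12) (nat_lit 1) (nat_lit 0) (nat_lit 0x1110024) (nat_lit 0x110024) (nat_lit 0x100011c00111c0011dc) (nat_lit 0x100000000000000000000000000000000000000000000000000000000000000000000000) (.cD (nat_lit 284) (.dfs (nat_lit 8) (nat_lit 0x1002004008010) (nat_lit 0x1002004008018) (nat_lit 4097) (nat_lit 4097) (nat_lit 0) (nat_lit 0) (nat_lit 2) (nat_lit 0) (nat_lit 0x2004008010001001) (nat_lit 28) (nat_lit 1) (nat_lit 0) (nat_lit 1) (nat_lit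 0) (nat_lit 1) (nat_lit 0x100000000000000010000000000000001000000000000000100000000000000) (.cD (nat_lit 56) (.kA false (nat_lit 0x14008010020002001001000014008010005001001001000004)) (.cD (nat_lit 120) (.kA false (nat_lit 0x7a01002001700600c00801001d0011ed005000003)) (.cD (nat_lit 184) (.kA true (nat_lit 0x4903001004800501f01800801e002001001000003)) (.cD (nat_lit 248) (.dfs (nat_lit 16) (nat_lit 0x100f018008033) (nat_lit 0x100f01800803b) (nat_lit 0x1020010004002001) (nat_lit 0x102001000c002009) (nat_lit 0) (nat_lit 0) (nat_lit 2) (nat_lit 1) (nat_lit 0) (nat_lit 44) (nat_lit 1) (nat_lit 0) (nat_lit 1) (nat_lit 0) (nat_lit 1) (nat_lit 0x100000000000000010000000000000001000000000000000100000000000) (.cD (nat_lit 44) (.kA false (nat_lit 0x6a01002001700607d030020066002002)) (.cD (nat_lit 108) (.dfs (nat_lit 2) (nat_lit 0x105d030020066) (nat_lit 0x107d010020051) (nat_lit 0x1040010008004002001) (nat_lit 0x105803001802300a02e) (nat_lit 7) (nat_lit 0) (nat_lit 2) (nat_lit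 0) (nat_lit 0) (nat_lit 275) (nat_lit 1) (nat_lit 0) (nat_lit 4224) (nat_lit 128) (nat_lit 0x100013b) (nat_lit 0x8000000000000000000000000000000000000000000000000000000000000000000000000000000) (.cD (nat_lit 315) (.iso x56 s100 (nat_lit 0) (nat_lit 0x11000800400200100080040a312d) (nat_lit 0x10008004002001000800407b1ed) [(nat_lit 0x8004002001007700404a068001020020000002), (nat_lit 0x10008004002001007001)] (.cut (nat_lit 0))) .nil)) (.cD (nat_lit 172) (.kA false (nat_lit 0x7a01002001700604d030020066002002)) (.cD (nat_lit 236) (.kA true (nat_lit 0x49030010048005001010030040001002)) .nil))))) .nil))))) .nil)))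
theorem c101 : (chk [(x56, s100)] [g145] p101).n x55 s101 = true := by decide +kernel
noncomputable def p102 : Pf := (.ext (nat_lit 0) (nat_lit 0x8030020048004001) (nat_lit 0x1100040080020) (nat_lit 0x7b02004a05a003040020010008001002) (nat_lit 0x600300400f) (nat_lit 0x1012008006) (nat_lit 0x101f01c018) (nat_lit 0x900400600100c00400200100f004006005) (.dfs (nat_lit 6) (nat_lit 0x1001002004008) (nat_lit 0x100500600400f) (nat_lit 1) (nat_lit 1) (nat_lit 0) (nat_lit 0) (nat_lit 2) (nat_lit 0) (nat_lit 0x1002004008001001) (nat_lit 24) (nat_lit 1) (nat_lit 0) (nat_lit 0x1110024) (nat_lit 0x110024) (nat_lit 0x100003c00103c0010bc) (nat_lit 0x1000000000000000) (.cD (nat_lit 60) (.dfs (nat_lit 8) (nat_lit 0x1002004008010) (nat_lit 0x1002004008018) (nat_lit 4097) (nat_lit 4111) (nat_lit 0) (nat_lit 0) (nat_lit 2) (nat_lit 0) (nat_lit 0x2004008010001001) (nat_lit 28) (nat_lit 1) (nat_lit 0) (nat_lit 1) (nat_lit 0) (nat_lit 1) (nat_lit 0x10000000000000001000000000000000100000000000000010000000000000000000000000000000000000000000000000000000000000000000)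 (.cD (nat_lit 268) (.kA false (nat_lit 0x7a01002001700601400c0100110010280180200220040c4004000004)) (.cD (nat_lit 332) (.kA false (nat_lit 0x140180100200020de002000014008010005001001001000004)) (.cD (nat_lit 396) (.dfs (nat_lit 18) (nat_lit 0x1004008010020) (nat_lit 0x1004018010024) (nat_lit 0x1002001) (nat_lit 0x100e005) (nat_lit 4) (nat_lit 0) (nat_lit 2) (nat_lit 0) (nat_lit 0x4008010020001001) (nat_lit 31) (nat_lit 1) (nat_lit 0) (nat_lit 4224) (nat_lit 128) (nat_lit 0x10001ab) (nat_lit 0x80000000000000000000000000000000000000000000000000000000000000000000000000000000000000000000000000000000000) (.cD (nat_lit 427) (.cut (nat_lit 0)) .nil)) (.cD (nat_lit 460) (.kS (nat_lit 0) (nat_lit 0x8010020040003001) (nat_lit 0x103c1c0) (nat_lit 0xa00600200f01000800400601d) (nat_lit 0x5a04a02007b00e027006004008010020002001001008010020040004002004003)) .nil))))) .nil)))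
theorem c102 : (chk [(x55, s101)] [] p102).n x55 s102 = true := by decide +kernel
noncomputable def p103 : Pf := (.ext (nat_lit 0) (nat_lit 0) (nat_lit 0x1100040080020003008014) (nat_lit 0x7002002803804901a04f004080040020010008004002001002) (nat_lit 0x30018020078) (nat_lit 4101) (nat_lit 4397) (nat_lit 0x1a02001000800405807b) (.dfs (nat_lit 5) (nat_lit 0x1030018020078) (nat_lit 0x1030018020022) (nat_lit 0x1040010008004002001) (nat_lit 0x101a01000800405807b) (nat_lit 32) (nat_lit 0) (nat_lit 2) (nat_lit 0) (nat_lit 0) (nat_lit 261) (nat_lit 1) (nat_lit 0) (nat_lit 1) (nat_lit 0) (nat_lit 1) (nat_lit 0x20000000000000002000000000000000000000000000000000000000000000000000000000000000000000000000) (.cD (nat_lit 301) (.kS (nat_lit 0) (nat_lit 0x600300400f0002001) (nat_lit 0x10ff06810d) (nat_lit 0xa00600200d010008004006019020010008031002034) (nat_lit 0x700500400e00920340950010100200400800080040010010600300400f001e054085001003)) (.cD (nat_lit 365) (.kS (nat_lit 0) (nat_lit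 0x600300400f0002001) (nat_lit 0x10681a6) (nat_lit 0x800400200301400c004005002) (nat_lit 0x40080100200020010070600300400f005403b001002)) .nil))))
theorem c103 : (chk [] [] p103).n x66 s103 = true := by decide +kernel
noncomputable def p104 : Pf := (.ext (nat_lit 0) (nat_lit 0x8010020040001001) (nat_lit 0x1100040080020) (nat_lit 0x48020030008006001) (nat_lit 0x700500400e) (nat_lit 0x1002010008004) (nat_lit 0x100f00801c00c) (nat_lit 0xb00400600300800400200300c00400200100a004002007) (.dfs (nat_lit 4) (nat_lit 0x1001002004008) (nat_lit 0x100700200400a) (nat_lit 1) (nat_lit 1) (nat_lit 6) (nat_lit 0) (nat_lit 2) (nat_lit 0) (nat_lit 0x1002004008001001) (nat_lit 12) (nat_lit 1) (nat_lit 0) (nat_lit 0x1110024) (nat_lit 0x110024) (nat_lit 0x100011c00111c0011dc) (nat_lit 0x100000000000000000000000000000000000000000000000000000000000000000000000) (.cD (nat_lit 284) (.dfs (nat_lit 8) (nat_lit 0x1002004008010) (nat_lit 0x1002004008018) (nat_lit 4097) (nat_lit 4097) (nat_lit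 0) (nat_lit 0) (nat_lit 2) (nat_lit 0) (nat_lit 0x2004008010001001) (nat_lit 28) (nat_lit 1) (nat_lit 0) (nat_lit 1) (nat_lit 0) (nat_lit 1) (nat_lit 0x100000000000000010000000000000001000000000000000100000000000000) (.cD (nat_lit 56) (.kA false (nat_lit 0x14008010020002041001000014008010005001041001000004)) (.cD (nat_lit 120) (.kA false (nat_lit 0x7a01002001700800c00801001d0011ad005000003)) (.cD (nat_lit 184) (.kA true (nat_lit 0x4903001004800701f01800801e002041001000003)) (.cD (nat_lit 248) (.dfs (nat_lit 16) (nat_lit 0x100f018008033) (nat_lit 0x100f01800803b) (nat_lit 0x1020010004002001) (nat_lit 0x102001000c002009) (nat_lit 0) (nat_lit 0) (nat_lit 2) (nat_lit 1) (nat_lit 0) (nat_lit 44) (nat_lit 1) (nat_lit 0) (nat_lit 1) (nat_lit 0) (nat_lit 1) (nat_lit 0x100000000000000010000000000000001000000000000000100000000000) (.cD (nat_lit 44) (.kA false (nat_lit 0x6a01002001700807d030020066002002)) (.cD (nat_lit 108) (.dfs (nat_lit 2) (nat_lit 0x105d030020066) (nat_lit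 0x107d010020051) (nat_lit 0x1040010008004002001) (nat_lit 0x105803001802300a02e) (nat_lit 7) (nat_lit 0) (nat_lit 2) (nat_lit 0) (nat_lit 0) (nat_lit 275) (nat_lit 1) (nat_lit 0) (nat_lit 4224) (nat_lit 128) (nat_lit 0x10001bb) (nat_lit 0x800000000000000000000000000000000000000000000000000000000000000000000000000000000000000000000000000000000000000) (.cD (nat_lit 443) (.iso x66 s103 (nat_lit 0) (nat_lit 0x1100080040020010048004023019) (nat_lit 0x1000800400200100480041cf0d9) [(nat_lit 0x800400200100ed04404a068001020020000002), (nat_lit 0xf004003006009301407d00102002000007802001803004900a0260040800400200100ad04400a001004), (nat_lit 0x4100100008204009a0200cc07100103c01000c01802e0290060780400600fa0560d5002121009000005)] (.cut (nat_lit 0))) .nil)) (.cD (nat_lit 172) (.kA false (nat_lit 0x7a01002001700804d030020066002002)) (.cD (nat_lit 236) (.kA true (nat_lit 0x49030010048007001010030040001002)) .nil))))) .nil))))) .nil)))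
theorem c104 : (chk [(x66, s103)] [g100] p104).n x65 s104 = true := by decide +kernel
noncomputable def p105 : Pf := (.ext (nat_lit 0) (nat_lit 0x8030020048006001) (nat_lit 0x1100040080020) (nat_lit 0x7b02004a05a005040020010008003002) (nat_lit 0x600300400f) (nat_lit 0x1012008006) (nat_lit 0x101f01c018) (nat_lit 0x900400600100c00400200100f004006005) (.dfs (nat_lit 6) (nat_lit 0x1001002004008) (nat_lit 0x100500600400f) (nat_lit 1) (nat_lit 1) (nat_lit 0) (nat_lit 0) (nat_lit 2) (nat_lit 0) (nat_lit 0x1002004008001001) (nat_lit 24) (nat_lit 1) (nat_lit 0) (nat_lit 0x1110024) (nat_lit 0x110024) (nat_lit 0x100003c00103c0010bc) (nat_lit 0x1000000000000000) (.cD (nat_lit 60) (.dfs (nat_lit 8) (nat_lit 0x1002004008010) (nat_lit 0x1002004008018) (nat_lit 4097) (nat_lit 4111) (nat_lit 0) (nat_lit 0) (nat_lit 2) (nat_lit 0) (nat_lit 0x2004008010001001) (nat_lit 28) (nat_lit 1) (nat_lit 0) (nat_lit 1) (nat_lit 0) (nat_lit 1) (nat_lit 0x10000000000000001000000000000000100000000000000010000000000000000000000000000000000000000000000000000000000000000000)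 (.cD (nat_lit 268) (.kA false (nat_lit 0x7a01002001700801400c0100110010280180200220060c4004000004)) (.cD (nat_lit 332) (.kA false (nat_lit 0x140180100200020de002000014008010005001041001000004)) (.cD (nat_lit 396) (.dfs (nat_lit 18) (nat_lit 0x1004008010020) (nat_lit 0x1004018010024) (nat_lit 0x1002001) (nat_lit 0x100e005) (nat_lit 4) (nat_lit 0) (nat_lit 2) (nat_lit 0) (nat_lit 0x4008010020001001) (nat_lit 31) (nat_lit 1) (nat_lit 0) (nat_lit 4224) (nat_lit 128) (nat_lit 0x100012b) (nat_lit 0x800000000000000000000000000000000000000000000000000000000000000000000000000) (.cD (nat_lit 299) (.cut (nat_lit 0)) .nil)) (.cD (nat_lit 460) (.kS (nat_lit 0) (nat_lit 0x8010020040005001) (nat_lit 0x103c1c0) (nat_lit 0xa00600200f01000800400601d) (nat_lit 0x5a04a02007b00e027008004008010020002001001008010020040004002006003)) .nil))))) .nil)))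
theorem c105 : (chk [(x65, s104)] [] p105).n x65 s105 = true := by decide +kernel
noncomputable def p106 : Pf := (.lft (nat_lit 0x80020040010002004008001003001) (nat_lit 0) (nat_lit 0x10f00e00d00c00b00a0090080) (nat_lit 0x8004002001000800406206f) (.extn a62 (nat_lit 0x80040020010008004002001) (nat_lit 0x1010040020080) (nat_lit 2) (nat_lit 0) (nat_lit 0) (nat_lit 0) (nat_lit 0x100000001) (.cE (nat_lit 0) b154 (nat_lit 0) (.cut (nat_lit 0)) (.iso x25 s30 (nat_lit 0) (nat_lit 0x1100080040020010048004082009) (nat_lit 0x100080040020010048004082049) [(nat_lit 0x40020010008034022011007020020000002), (nat_lit 0x40020010008024002021009001)] (.cut (nat_lit 1))) (.cE (nat_lit 32) b155 (nat_lit 0) (.cut (nat_lit 2)) (.iso x15 s14 (nat_lit 1) (nat_lit 0x1100080040020010048004082009) (nat_lit 0x100080040020010048004082049) [(nat_lit 0x40020010008034022011007020020000002), (nat_lit 0x40020010008024002021009001)] (.cut (nat_lit 3))) .nil))))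
theorem c106 : (chk [(x55, s102), (x25, s30), (x65, s105), (x15, s14)] [g114, g109] p106).n x54 s106 = true := by decide +kernel
noncomputable def p107 : Pf := (.ext (nat_lit 0) (nat_lit 0) (nat_lit 0x1200080100040) (nat_lit 0x10008004002001001) (nat_lit 0x2003004008) (nat_lit 4097) (nat_lit 4108) (nat_lit 0xb004002001) (.dfs (nat_lit 1) (nat_lit 0x1002003004008) (nat_lit 0x100200300400b) (nat_lit 4097) (nat_lit 4097) (nat_lit 1) (nat_lit 0) (nat_lit 2) (nat_lit 0) (nat_lit 0) (nat_lit 12) (nat_lit 1) (nat_lit 0) (nat_lit 1) (nat_lit 0) (nat_lit 1) (nat_lit 0) .nil))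
theorem c107 : (chk [] [] p107).n x68 s107 = true := by decide +kernel
noncomputable def p108 : Pf := (.ext (nat_lit 0) (nat_lit 0) (nat_lit 0x1200080100040) (nat_lit 0x10008004002001001) (nat_lit 0x2003004008) (nat_lit 4097) (nat_lit 4108) (nat_lit 0xb004002001) (.dfs (nat_lit 1) (nat_lit 0x1002003004008) (nat_lit 0x100200300400b) (nat_lit 4097) (nat_lit 4097) (nat_lit 1) (nat_lit 0) (nat_lit 2) (nat_lit 0) (nat_lit 0) (nat_lit 12) (nat_lit 1) (nat_lit 0) (nat_lit 1) (nat_lit 0) (nat_lit 1) (nat_lit 0) .nil))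
theorem c108 : (chk [] [] p108).n x69 s108 = true := by decide +kernel
noncomputable def p109 : Pf := (.ext (nat_lit 1) (nat_lit 0) (nat_lit 0x140030020004000a0100a0) (nat_lit 0x40020010008004002001001001) (nat_lit 0x10018020040) (nat_lit 4097) (nat_lit 4101) (nat_lit 0x35020010008017044067) (.dfs (nat_lit 1) (nat_lit 0x1010018020040) (nat_lit 0x1010018020035) (nat_lit 0x1008004002001) (nat_lit 0x1008017044067) (nat_lit 0) (nat_lit 0) (nat_lit 2) (nat_lit 1) (nat_lit 0) (nat_lit 5) (nat_lit 1) (nat_lit 0) (nat_lit 1) (nat_lit 0) (nat_lit 1) (nat_lit 0x200000000000000020000000000000000000000000000000000000000000000020000000000000002000000000000000000000000000000000000000000000002000000000000000200000000000000000000000000000000000000000000000200000000000000020) (.cD (nat_lit 5) (.kS (nat_lit 1) (nat_lit 0x10020040002001104004000002) (nat_lit 0x14e04b0400345) (nat_lit 0x800400200d01000800400a01d02001000801c03a00904002001003502700c01f) (nat_lit 0x100100001002004008000800400200100100410400001002004000205e0c6080061002004))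 (.cD (nat_lit 69) (.kS (nat_lit 1) (nat_lit 0x10020040002001104004000002) (nat_lit 0x14e04b0400305) (nat_lit 0x800400200d01000800400a01d02001000801c03a00904002001003502700c01f) (nat_lit 0x100100001002004008000800400200100100410400001002004000205e0c6080061002004)) (.cD (nat_lit 261) (.kS (nat_lit 1) (nat_lit 0x10020040002001104004000002) (nat_lit 0x14e04b0400245) (nat_lit 0x800400200d01000800400a01d02001000801c03a00904002001003502700c01f) (nat_lit 0x100100001002004008000800400200100100410400001002004000205e0c6080061002004)) (.cD (nat_lit 325) (.kS (nat_lit 1) (nat_lit 0x10020040002001104004000002) (nat_lit 0x14e04b0400205) (nat_lit 0x800400200d01000800400a01d02001000801c03a00904002001003502700c01f) (nat_lit 0x100100001002004008000800400200100100410400001002004000205e0c6080061002004)) (.cD (nat_lit 517) (.kS (nat_lit 1) (nat_lit 0x10020040002001104004000002) (nat_lit 0x14e04b0400145) (nat_lit 0x800400200d01000800400a01d02001000801c03a00904002001003502700c01f) (nat_lit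 0x100100001002004008000800400200100100410400001002004000205e0c6080061002004)) (.cD (nat_lit 581) (.kS (nat_lit 1) (nat_lit 0x10020040002001104004000002) (nat_lit 0x14e04b0400105) (nat_lit 0x800400200d01000800400a01d02001000801c03a00904002001003502700c01f) (nat_lit 0x100100001002004008000800400200100100410400001002004000205e0c6080061002004)) (.cD (nat_lit 773) (.kS (nat_lit 1) (nat_lit 0x10020040002001104004000002) (nat_lit 0x14e04b0400045) (nat_lit 0x800400200d01000800400a01d02001000801c03a00904002001003502700c01f) (nat_lit 0x100100001002004008000800400200100100410400001002004000205e0c6080061002004)) (.cD (nat_lit 837) (.kS (nat_lit 1) (nat_lit 0x10020040002001104004000002) (nat_lit 0x14e04b0400005) (nat_lit 0x800400200d01000800400a01d02001000801c03a00904002001003502700c01f) (nat_lit 0x100100001002004008000800400200100100410400001002004000205e0c6080061002004)) .nil))))))))))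
theorem c109 : (chk [] [] p109).n x72 s109 = true := by decide +kernel
noncomputable def p110 : Pf := (.ext (nat_lit 1) (nat_lit 0) (nat_lit 0x140030020004000a0100a0) (nat_lit 0x40020010008004002001001001) (nat_lit 0x10018020040) (nat_lit 4097) (nat_lit 4101) (nat_lit 0x35020010008017044067) (.dfs (nat_lit 1) (nat_lit 0x1010018020040) (nat_lit 0x1010018020035) (nat_lit 0x1008004002001) (nat_lit 0x1008017044067) (nat_lit 0) (nat_lit 0) (nat_lit 2) (nat_lit 1) (nat_lit 0) (nat_lit 5) (nat_lit 1) (nat_lit 0) (nat_lit 1) (nat_lit 0) (nat_lit 1) (nat_lit 0x200000000000000020000000000000000000000000000000000000000000000020000000000000002000000000000000000000000000000000000000000000002000000000000000200000000000000000000000000000000000000000000000200000000000000020) (.cD (nat_lit 5) (.kS (nat_lit 1) (nat_lit 0x10020040002001104004000002) (nat_lit 0x14e04b0400345) (nat_lit 0x800400200d01000800400a01d02001000801c03a00904002001003502700c01f) (nat_lit 0x100100001002004008000800400200100100410400001002004000205e0c6080061002004))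 (.cD (nat_lit 69) (.kS (nat_lit 1) (nat_lit 0x10020040002001104004000002) (nat_lit 0x14e04b0400305) (nat_lit 0x800400200d01000800400a01d02001000801c03a00904002001003502700c01f) (nat_lit 0x100100001002004008000800400200100100410400001002004000205e0c6080061002004)) (.cD (nat_lit 261) (.kS (nat_lit 1) (nat_lit 0x10020040002001104004000002) (nat_lit 0x14e04b0400245) (nat_lit 0x800400200d01000800400a01d02001000801c03a00904002001003502700c01f) (nat_lit 0x100100001002004008000800400200100100410400001002004000205e0c6080061002004)) (.cD (nat_lit 325) (.kS (nat_lit 1) (nat_lit 0x10020040002001104004000002) (nat_lit 0x14e04b0400205) (nat_lit 0x800400200d01000800400a01d02001000801c03a00904002001003502700c01f) (nat_lit 0x100100001002004008000800400200100100410400001002004000205e0c6080061002004)) (.cD (nat_lit 517) (.kS (nat_lit 1) (nat_lit 0x10020040002001104004000002) (nat_lit 0x14e04b0400145) (nat_lit 0x800400200d01000800400a01d02001000801c03a00904002001003502700c01f) (nat_lit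 0x100100001002004008000800400200100100410400001002004000205e0c6080061002004)) (.cD (nat_lit 581) (.kS (nat_lit 1) (nat_lit 0x10020040002001104004000002) (nat_lit 0x14e04b0400105) (nat_lit 0x800400200d01000800400a01d02001000801c03a00904002001003502700c01f) (nat_lit 0x100100001002004008000800400200100100410400001002004000205e0c6080061002004)) (.cD (nat_lit 773) (.kS (nat_lit 1) (nat_lit 0x10020040002001104004000002) (nat_lit 0x14e04b0400045) (nat_lit 0x800400200d01000800400a01d02001000801c03a00904002001003502700c01f) (nat_lit 0x100100001002004008000800400200100100410400001002004000205e0c6080061002004)) (.cD (nat_lit 837) (.kS (nat_lit 1) (nat_lit 0x10020040002001104004000002) (nat_lit 0x14e04b0400005) (nat_lit 0x800400200d01000800400a01d02001000801c03a00904002001003502700c01f) (nat_lit 0x100100001002004008000800400200100100410400001002004000205e0c6080061002004)) .nil))))))))))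
theorem c110 : (chk [] [] p110).n x73 s110 = true := by decide +kernel
noncomputable def p111 : Pf := (.ext (nat_lit 1) (nat_lit 0) (nat_lit 0x140030020004000a0100a0) (nat_lit 0x40020010008004002001001001) (nat_lit 0x10018020040) (nat_lit 4097) (nat_lit 4101) (nat_lit 0x35020010008017044067) (.dfs (nat_lit 1) (nat_lit 0x1010018020040) (nat_lit 0x1010018020035) (nat_lit 0x1008004002001) (nat_lit 0x1008017044067) (nat_lit 48) (nat_lit 0) (nat_lit 2) (nat_lit 1) (nat_lit 0) (nat_lit 5) (nat_lit 1) (nat_lit 0) (nat_lit 1) (nat_lit 0) (nat_lit 1) (nat_lit 0) .nil))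
theorem c111 : (chk [] [] p111).n x74 s111 = true := by decide +kernel
noncomputable def p112 : Pf := (.ext (nat_lit 1) (nat_lit 0) (nat_lit 0x140030020004001002e08e) (nat_lit 0x40020010008004002001001001) (nat_lit 0x10018020040) (nat_lit 4097) (nat_lit 4100) (nat_lit 0x7502001000802e022013) (.dfs (nat_lit 1) (nat_lit 0x1010018020040) (nat_lit 0x1010018020075) (nat_lit 0x1008004002001) (nat_lit 0x100802e022013) (nat_lit 61) (nat_lit 0) (nat_lit 2) (nat_lit 1) (nat_lit 0) (nat_lit 4) (nat_lit 1) (nat_lit 0) (nat_lit 1) (nat_lit 0) (nat_lit 1) (nat_lit 0) .nil))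
theorem c112 : (chk [] [] p112).n x75 s112 = true := by decide +kernel
noncomputable def p113 : Pf := (.lft (nat_lit 0x200080180004040008010027002001001001) (nat_lit 0) (nat_lit 0x13c03a03983803403203183002c02a02982802402202182001f01d01c81901701501481100f00d00c8090070050048010) (nat_lit 0x2001000800400200101881bc082043) (.extn a65 (nat_lit 0x200100080040020010008004002001) (nat_lit 0x1040100080200) (nat_lit 2) (nat_lit 0) (nat_lit 0) (nat_lit 0) (nat_lit 0x100000000000000000000000000000001) (.cE (nat_lit 0) b159 (nat_lit 0) (.cut (nat_lit 0)) (.cut (nat_lit 1)) (.cE (nat_lit 128) b160 (nat_lit 0) (.cut (nat_lit 2)) (.iso x75 s112 (nat_lit 0) (nat_lit 0x140020010008004002001008c4b40826f5) (nat_lit 0x4002001000800400200102ec7b40825e5) [(nat_lit 0x4002001000800200c035005001)] (.cut (nat_lit 3))) .nil))))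
theorem c113 : (chk [(x72, s109), (x73, s110), (x74, s111), (x75, s112)] [g152] p113).n x71 s113 = true := by decide +kernel
noncomputable def p114 : Pf := (.ext (nat_lit 0) (nat_lit 0) (nat_lit 0x1200180100020005008010040002) (nat_lit 0x100080040020010008004002001001001) (nat_lit 0xc30400c00d6) (nat_lit 4097) (nat_lit 4660) (nat_lit 0x1cc0400800ce1f90aa1a01aa1a9) (.dfs (nat_lit 1) (nat_lit 0x10c30400c00d6) (nat_lit 0x10c30800c00d5) (nat_lit 0x1100080020010008004002001) (nat_lit 0x11cc0400ce1f90aa1a01aa1a9) (nat_lit 3) (nat_lit 0) (nat_lit 2) (nat_lit 0) (nat_lit 0) (nat_lit 52) (nat_lit 1) (nat_lit 0) (nat_lit 4480) (nat_lit 384) (nat_lit 0x1000334) (nat_lit 0x10000000000000000000000000000000000000000000000000000000000000000000000000000000000000000000000000000000000000000000000000000000000000000000000000000000000000000000000000000000000000000000000000000000000000) (.cD (nat_lit 820) (.cut (nat_lit 0)) .nil)))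
theorem c114 : (chk [(x71, s113)] [] p114).n x71 s114 = true := by decide +kernel
noncomputable def p115 : Pf := (.ext (nat_lit 0) (nat_lit 0) (nat_lit 0x1400100200080002018020) (nat_lit 0x40020010008004002001001001) (nat_lit 0x10018020040) (nat_lit 4109) (nat_lit 4185) (nat_lit 0x6f02001000800d003001) (.dfs (nat_lit 13) (nat_lit 0x1010018020040) (nat_lit 0x101001802006f) (nat_lit 0x1008004002001) (nat_lit 0x100800d003001) (nat_lit 41) (nat_lit 0) (nat_lit 2) (nat_lit 0) (nat_lit 0) (nat_lit 89) (nat_lit 1) (nat_lit 0) (nat_lit 1) (nat_lit 0) (nat_lit 1) (nat_lit 0) .nil))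
theorem c115 : (chk [] [] p115).n x76 s115 = true := by decide +kernel
noncomputable def p116 : Pf := (.ext (nat_lit 0) (nat_lit 0) (nat_lit 0x1400100200080002018020) (nat_lit 0x40020010008004002001001001) (nat_lit 0x10018020040) (nat_lit 4109) (nat_lit 4185) (nat_lit 0x6f02001000800d003001) (.dfs (nat_lit 13) (nat_lit 0x1010018020040) (nat_lit 0x101001802006f) (nat_lit 0x1008004002001) (nat_lit 0x100800d003001) (nat_lit 41) (nat_lit 0) (nat_lit 2) (nat_lit 0) (nat_lit 0) (nat_lit 89) (nat_lit 1) (nat_lit 0) (nat_lit 1) (nat_lit 0) (nat_lit 1) (nat_lit 0) .nil))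
theorem c116 : (chk [] [] p116).n x77 s116 = true := by decide +kernel
noncomputable def p117 : Pf := (.mdl (nat_lit 1) (nat_lit 0x11003b01403402745a02c2418171080) (nat_lit 0x10c02000012802111013d4161129383))
theorem c117 : (chk [] [] p117).n x78 s117 = true := by decide +kernel
noncomputable def p118 : Pf := (.clm (.cut (nat_lit 0)) (.dfs (nat_lit 1024) (nat_lit 1) (nat_lit 1) (nat_lit 1) (nat_lit 1) (nat_lit 0) (nat_lit 0) (nat_lit 0) (nat_lit 0) (nat_lit 0) (nat_lit 0) (nat_lit 1) (nat_lit 0) (nat_lit 0x1400080040020010008004002001) (nat_lit 0x4000800400203101480042c6001) (nat_lit 0x10000200010200020200030200060200080200014000024000034000044000054000002ec0012ec0032ec0042ec0052ec0062ec0072ec0082ec0035800045800005300025300045300055300075300002200082200011200037b80047b80057b80077b80087b80030a00040a00080a00006400026400046400056400016000026000035000036b80056b80076b800178000378000478000240c00740c00060c00860c00205c00305c00805c0081e00017000053ec0055f80022a80082a8) (nat_lit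 0x100000000) (.cD (nat_lit 32) (.kin (nat_lit 1) (nat_lit 1)) .nil)))
theorem c118 : (chk [(x78, s117)] [] p118).n x78 s118 = true := by decide +kernel
noncomputable def p119 : Pf := (.ext (nat_lit 0) (nat_lit 0) (nat_lit 0x1400100200080002018020) (nat_lit 0x40020010008004002001001001) (nat_lit 0x10018020040) (nat_lit 0x104100d) (nat_lit 0x104c059) (nat_lit 0x6d02001000803c03300106f02001000800d003001) (.dfs (nat_lit 13) (nat_lit 0x1010018020040) (nat_lit 0x101001802006f) (nat_lit 0x1008004002001) (nat_lit 0x100800d003001) (nat_lit 25) (nat_lit 0) (nat_lit 2) (nat_lit 0) (nat_lit 0) (nat_lit 89) (nat_lit 1) (nat_lit 0) (nat_lit 1) (nat_lit 0) (nat_lit 1) (nat_lit 0x2000000000000000000000000000000020000000000000000000000000000000200000000000000000000000000000002000000000000000000000000000000020000000000000000000000000000000200000000000000000000000000000002000000000000000000000000000000020000000000000000000000) (.cD (nat_lit 89) (.kS (nat_lit 0) (nat_lit 0x10030040080002040040000002)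 (nat_lit 0x13183820a002d) (nat_lit 0x800400200d01000800400a00502001000800c00200104002001005f045003001) (nat_lit 0x40040000010020040080008004002001001040040000010030040080064078012003001004)) (.cD (nat_lit 217) (.dfs (nat_lit 65) (nat_lit 0x1020030040080) (nat_lit 0x10200300400da) (nat_lit 0x1010008004002001) (nat_lit 0x1010078066002023) (nat_lit 112) (nat_lit 0) (nat_lit 2) (nat_lit 0) (nat_lit 0) (nat_lit 76) (nat_lit 1) (nat_lit 0) (nat_lit 1) (nat_lit 0) (nat_lit 1) (nat_lit 0) .nil) (.cD (nat_lit 345) (.kS (nat_lit 0) (nat_lit 0x10030040080002040040000002) (nat_lit 0x13183820a012d) (nat_lit 0x800400200d01000800400a00502001000800c00200104002001005f045003001) (nat_lit 0x40040000010020040080008004002001001040040000010030040080064078012043001004)) (.cD (nat_lit 473) (.dfs (nat_lit 65) (nat_lit 0x1020030040080) (nat_lit 0x10200300400da) (nat_lit 0x1010008004002001) (nat_lit 0x1010078066002023) (nat_lit 112) (nat_lit 0) (nat_lit 2) (nat_lit 0) (nat_lit 0) (nat_lit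 76) (nat_lit 1) (nat_lit 0) (nat_lit 1) (nat_lit 0) (nat_lit 1) (nat_lit 0) .nil) (.cD (nat_lit 601) (.dfs (nat_lit 65) (nat_lit 0x1020030040080) (nat_lit 0x10200300400da) (nat_lit 0x1010008004002001) (nat_lit 0x1010078066002023) (nat_lit 112) (nat_lit 0) (nat_lit 2) (nat_lit 0) (nat_lit 0) (nat_lit 76) (nat_lit 1) (nat_lit 0) (nat_lit 1) (nat_lit 0) (nat_lit 1) (nat_lit 0) .nil) (.cD (nat_lit 729) (.kS (nat_lit 0) (nat_lit 0x10030040080002040040000002) (nat_lit 0x13183820a00ad) (nat_lit 0x800400200d01000800400a00502001000800c00200104002001005f045003001) (nat_lit 0x40040000010020040080008004002001001040040000010030040080064078012013001004)) (.cD (nat_lit 857) (.dfs (nat_lit 65) (nat_lit 0x1020030040080) (nat_lit 0x10200300400da) (nat_lit 0x1010008004002001) (nat_lit 0x1010078066002023) (nat_lit 112) (nat_lit 0) (nat_lit 2) (nat_lit 0) (nat_lit 0) (nat_lit 76) (nat_lit 1) (nat_lit 0) (nat_lit 1) (nat_lit 0) (nat_lit 1) (nat_lit 0) .nil) (.cD (nat_lit 985) (.kS (nat_lit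 0) (nat_lit 0x10030040080002040040000002) (nat_lit 0x13183820a01ad) (nat_lit 0x800400200d01000800400a00502001000800c00200104002001005f045003001) (nat_lit 0x40040000010020040080008004002001001040040000010030040080064078012053001004)) .nil))))))))))
theorem c119 : (chk [] [] p119).n x79 s119 = true := by decide +kernel
noncomputable def p120 : Pf := (.lft (nat_lit 0x20008010004000400811b08b001020001001) (nat_lit 186) (nat_lit 0x13f03ec3dc3c03bc3a039c38037036c35c34033c32031c3002f02ec2dc2c02bc2a029c28027026c25c24023c22021c200) (nat_lit 0x2001000800400200100081840921c1) (.extn a71 (nat_lit 0x200100080040020010008004002001) (nat_lit 0x1040100080200) (nat_lit 2) (nat_lit 0) (nat_lit 0) (nat_lit 58) (nat_lit 0x4000000000000000000000000000000040000000000000000000000000000000000000000000000) (.cE (nat_lit 186) b169 (nat_lit 0) (.cut (nat_lit 0)) (.cut (nat_lit 1)) (.cE (nat_lit 314) b170 (nat_lit 0) (.iso x78 s118 (nat_lit 0) (nat_lit 0x140020030004008067859808218c1f719c)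 (nat_lit 0x4002003000400803f02f57a551104827e) [] (.cut (nat_lit 2))) (.cut (nat_lit 3)) .nil))))
theorem c120 : (chk [(x76, s115), (x77, s116), (x78, s118), (x79, s119)] [g128] p120).n x70 s120 = true := by decide +kernel
noncomputable def p121 : Pf := (.ext (nat_lit 0) (nat_lit 0) (nat_lit 0x120008010004000100c010020006) (nat_lit 0x100080040020010008004001002001001) (nat_lit 0x600400801b4) (nat_lit 4098) (nat_lit 4212) (nat_lit 0x18e0400800a40ff0080c4042005) (.dfs (nat_lit 2) (nat_lit 0x10600400801b4) (nat_lit 0x10240800401d9) (nat_lit 0x1100020010008004002001) (nat_lit 0x118e0a40ff0080c4042005) (nat_lit 132) (nat_lit 0) (nat_lit 2) (nat_lit 0) (nat_lit 0) (nat_lit 36) (nat_lit 1) (nat_lit 0) (nat_lit 4224) (nat_lit 128) (nat_lit 0x10000f4) (nat_lit 0x10000000000000000000000000000000000000000000000000000000000000) (.cD (nat_lit 244) (.cut (nat_lit 0)) .nil)))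
theorem c121 : (chk [(x70, s120)] [] p121).n x70 s121 = true := by decide +kernel
noncomputable def p122 : Pf := (.ext (nat_lit 1) (nat_lit 0x10400c0100003001) (nat_lit 0x13d118010015a118084190) (nat_lit 0x1c10010000e004005002002c0740560011c100100008004002003000a0060020071c10010000800400200100080040020020011c1000007) (nat_lit 0x3800802006f) (nat_lit 4128) (nat_lit 4322) (nat_lit 0x77020010028004002021) (.dfs (nat_lit 32) (nat_lit 0x103800802006f) (nat_lit 0x1018028020078) (nat_lit 0x1040010004002001) (nat_lit 0x1077010004002021) (nat_lit 0) (nat_lit 0) (nat_lit 2) (nat_lit 1) (nat_lit 0x10400c0100005001) (nat_lit 40) (nat_lit 1) (nat_lit 0) (nat_lit 1) (nat_lit 0) (nat_lit 1) (nat_lit 0x40000000000000000000000000000000400000000000000000000000000000000000000000000000000000000) (.cD (nat_lit 226) (.cut (nat_lit 0)) (.cD (nat_lit 354) (.kS (nat_lit 1) (nat_lit 0x920020000100600400de0010920020000010400c0100005004) (nat_lit 0x10ca0c614e1b8) (nat_lit 0x800600200b01000c00401200102801000801c00200105002001003e004012011)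 (nat_lit 0x500300400be0260680340590010920020000300200400ce06406a0420010010020920000100600400de026028002021002002092000006)) .nil))))
theorem c122 : (chk [(x70, s121)] [] p122).n x70 s122 = true := by decide +kernel
noncomputable def p123 : Pf := (.ext (nat_lit 1) (nat_lit 0x30008020068002001) (nat_lit 0x1200180100020) (nat_lit 0x1940c00400220041c1001000002) (nat_lit 0x600100400d) (nat_lit 0x1040010008004) (nat_lit 0x1006010024038) (nat_lit 0x800400200300e00400200500f004006005009004006001) (.dfs (nat_lit 4) (nat_lit 0x1001002004008) (nat_lit 0x1001006004009) (nat_lit 1) (nat_lit 1) (nat_lit 4) (nat_lit 0) (nat_lit 2) (nat_lit 1) (nat_lit 0x1002004008001001) (nat_lit 56) (nat_lit 1) (nat_lit 0) (nat_lit 0x110024b) (nat_lit 0x10024b) (nat_lit 0x100006e00106e001138) (nat_lit 0x4000000000000000000000000000) (.cD (nat_lit 110) (.dfs (nat_lit 8) (nat_lit 0x1002004008010) (nat_lit 0x100a00c00801e) (nat_lit 4097) (nat_lit 4097) (nat_lit 0) (nat_lit 0) (nat_lit 2) (nat_lit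 1) (nat_lit 0x2004008010001001) (nat_lit 36) (nat_lit 1) (nat_lit 0) (nat_lit 4166) (nat_lit 70) (nat_lit 0x10000f2) (nat_lit 0x4000000000000000000000000000000000000000000000000000000000000) (.cD (nat_lit 242) (.dfs (nat_lit 16) (nat_lit 0x1004008010020) (nat_lit 0x1014008010038) (nat_lit 0x1002001) (nat_lit 0x1002001) (nat_lit 0) (nat_lit 0) (nat_lit 2) (nat_lit 1) (nat_lit 0x4008010020001001) (nat_lit 16) (nat_lit 1) (nat_lit 0) (nat_lit 1) (nat_lit 0) (nat_lit 1) (nat_lit 0x10000000000000000000000000000000000000000000000000000000000000000000000000000000000000000000000010000) (.cD (nat_lit 16) (.kS (nat_lit 1) (nat_lit 0x8010020040003008010020040001002) (nat_lit 0x110c0a8038) (nat_lit 0x800600200901400c00401e00102801000801c002001) (nat_lit 0x1c100100003002004008000a0060020091c100100000801002004000400200100200801002004003f029002004005)) (.cD (nat_lit 400) (.dfs (nat_lit 64) (nat_lit 0x1008010020040) (nat_lit 0x1018010020040) (nat_lit 0x1004002001) (nat_lit 0x1005003001)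 (nat_lit 0) (nat_lit 0) (nat_lit 2) (nat_lit 1) (nat_lit 0x8010020040001001) (nat_lit 6) (nat_lit 1) (nat_lit 0) (nat_lit 1) (nat_lit 0) (nat_lit 1) (nat_lit 0x100000000000000000000000000000001000000000000000000000000000000000000000000000000) (.cD (nat_lit 192) (.kA false (nat_lit 0x410200600800020600400801940061c1001000003)) (.cD (nat_lit 320) (.cut (nat_lit 0)) .nil))) .nil))) .nil)) .nil)))
theorem c123 : (chk [(x70, s122)] [] p123).n x70 s123 = true := by decide +kernel
noncomputable def p124 : Pf := (.ext (nat_lit 1) (nat_lit 0) (nat_lit 0x1291180100046) (nat_lit 0x1c10010000800400200300051940c0040022001003) (nat_lit 0x600100400d) (nat_lit 0x102401000c) (nat_lit 0x100801801c) (nat_lit 0xf00400600500e00400200500c004002001) (.dfs (nat_lit 12) (nat_lit 0x100600100400d) (nat_lit 0x1006001004009) (nat_lit 0x1008002) (nat_lit 0x100c002) (nat_lit 4) (nat_lit 0) (nat_lit 2) (nat_lit 1) (nat_lit 0) (nat_lit 28) (nat_lit 1) (nat_lit 0) (nat_lit 4608) (nat_lit 512) (nat_lit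 0x100001c00003c00009c0000bc) (nat_lit 0x100000001000000000000000000000001000000010000000) (.cD (nat_lit 28) (.kA true (nat_lit 0xc10810c01000041c100100000e00a00801d002092002000004)) (.cD (nat_lit 60) (.dfs (nat_lit 16) (nat_lit 0x100c00200801a) (nat_lit 0x100c00a00801e) (nat_lit 0x1010004001) (nat_lit 0x101c004001) (nat_lit 0) (nat_lit 0) (nat_lit 2) (nat_lit 1) (nat_lit 0) (nat_lit 24) (nat_lit 1) (nat_lit 0) (nat_lit 4352) (nat_lit 256) (nat_lit 0x1000018000038) (nat_lit 0x100000001000000) (.cD (nat_lit 24) (.kS (nat_lit 1) (nat_lit 0x300600400f00080400c90c0160004008008000018004010034002004) (nat_lit 0x10300d2) (nat_lit 0x800400200301000c004016001) (nat_lit 0x1c100100001801401003c0020010010180180000400c90c016000c0c40030300600400f003e034007005)) (.cD (nat_lit 56) (.dfs (nat_lit 36) (nat_lit 0x1018004010034) (nat_lit 0x1008014010038) (nat_lit 0x1020008002001) (nat_lit 0x103c018012011) (nat_lit 16) (nat_lit 0) (nat_lit 2) (nat_lit 1) (nat_lit 0) (nat_lit 8) (nat_lit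 1) (nat_lit 0) (nat_lit 4128) (nat_lit 32) (nat_lit 0x1000028) (nat_lit 0x10000000000) (.cD (nat_lit 40) (.cut (nat_lit 0)) .nil)) .nil))) (.cD (nat_lit 156) (.kA true (nat_lit 0x920020000060040080150010890400c01600031c1001000004)) (.cD (nat_lit 188) (.kA true (nat_lit 0x9200200000e0040080190012002000000010400c0100003004)) .nil))))))
theorem c124 : (chk [(x70, s123)] [] p124).n x70 s124 = true := by decide +kernel
noncomputable def p125 : Pf := (.ext (nat_lit 0) (nat_lit 0) (nat_lit 0x120008010004000100c010) (nat_lit 0x5302001800800200d009001106006000040020010008004002001001003) (nat_lit 0x1801002006d) (nat_lit 0x1020006) (nat_lit 0x101a02c) (nat_lit 0x40020010018036032031053020010018037002031) (.dfs (nat_lit 6) (nat_lit 0x101801002006d) (nat_lit 0x100801002007d) (nat_lit 0x1040008004002001) (nat_lit 0x1053018037002031) (nat_lit 16) (nat_lit 0) (nat_lit 2) (nat_lit 0) (nat_lit 0) (nat_lit 44) (nat_lit 1) (nat_lit 0) (nat_lit 4160) (nat_lit 64) (nat_lit 0x100006c0000ec)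 (nat_lit 0x100000000000000000000000000000001000000000000000000000000000) (.cD (nat_lit 108) (.dfs (nat_lit 32) (nat_lit 0x10300200400da) (nat_lit 0x10100200400fe) (nat_lit 0x1080010008004002001) (nat_lit 0x108003006c064062041) (nat_lit 0) (nat_lit 0) (nat_lit 2) (nat_lit 0) (nat_lit 0) (nat_lit 26) (nat_lit 1) (nat_lit 0) (nat_lit 1) (nat_lit 0) (nat_lit 1) (nat_lit 0x40000000000000000000000000000000400000000000000000000000000000004000000000000000000000000000000040000000000000000000000) (.cD (nat_lit 90) (.cut (nat_lit 1)) (.cD (nat_lit 218) (.kA true (nat_lit 0xae0400c01b40010200200000010400c0100001003)) (.cD (nat_lit 346) (.kS (nat_lit 0) (nat_lit 0x24080040181001008008000002) (nat_lit 4267) (nat_lit 0x800400200d) (nat_lit 0x184004000020040080100010001008008000024080040181033002004)) (.cD (nat_lit 474) (.kA true (nat_lit 0xee0400c01b40010200200000010400c0100001003)) .nil))))) (.cD (nat_lit 236) (.dfs (nat_lit 32) (nat_lit 0x10300200400da) (nat_lit 0x10100200400fe)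 (nat_lit 0x1080010008004002001) (nat_lit 0x108003006c064062041) (nat_lit 0) (nat_lit 0) (nat_lit 2) (nat_lit 0) (nat_lit 0) (nat_lit 26) (nat_lit 1) (nat_lit 0) (nat_lit 1) (nat_lit 0) (nat_lit 1) (nat_lit 0x40000000000000000000000000000000400000000000000000000000000000004000000000000000000000000000000040000000000000000000000) (.cD (nat_lit 90) (.kA true (nat_lit 0x2e0400c01b40010200200000010400c0100001003)) (.cD (nat_lit 218) (.kS (nat_lit 0) (nat_lit 0x24080040181001008008000002) (nat_lit 4523) (nat_lit 0x800400200d) (nat_lit 0x8008000020040080100010001008008000024080040181033002004)) (.cD (nat_lit 346) (.kA true (nat_lit 0x6e0400c01b40010200200000010400c0100001003)) (.cD (nat_lit 474) (.iso x71 s114 (nat_lit 0) (nat_lit 0x120010018002004033c2cc3640e6205) (nat_lit 0x2001001800200401f81cc36437e1a5) [(nat_lit 0x15c0800400200941b01760220e30021db007000002), (nat_lit 0x4002001000803407a063003200200000002)] (.cut (nat_lit 0))) .nil))))) .nil))))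
theorem c125 : (chk [(x71, s114), (x70, s124)] [g158] p125).n x70 s125 = true := by decide +kernel
noncomputable def p126 : Pf := (.ext (nat_lit 0) (nat_lit 0) (nat_lit 0x1200080100040) (nat_lit 0x10008004002003001) (nat_lit 0x2003004008) (nat_lit 0x101000c001) (nat_lit 0x101000d00c) (nat_lit 0xc00400200100a00400200100b004002001) (.dfs (nat_lit 1) (nat_lit 0x1002003004008) (nat_lit 0x100200300400b) (nat_lit 4097) (nat_lit 4097) (nat_lit 7) (nat_lit 0) (nat_lit 2) (nat_lit 0) (nat_lit 0) (nat_lit 12) (nat_lit 1) (nat_lit 0) (nat_lit 4608) (nat_lit 512) (nat_lit 0x100000c00004c00008c0000cc) (nat_lit 0x1000000000000000100000000000000010000000000000001000) (.cD (nat_lit 12) (.dfs (nat_lit 12) (nat_lit 0x1004006008010) (nat_lit 0x1004006008014) (nat_lit 0x1002001) (nat_lit 0x1002009) (nat_lit 12) (nat_lit 0) (nat_lit 2) (nat_lit 0) (nat_lit 0) (nat_lit 13) (nat_lit 1) (nat_lit 0) (nat_lit 1) (nat_lit 0) (nat_lit 1) (nat_lit 0x20000000000000002000000000000000200000000000000020000000000000002000000000000000200000000000000020000000000000002000)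 (.cD (nat_lit 13) (.kS (nat_lit 0) (nat_lit 0x400c010020002020020000002) (nat_lit 4428) (nat_lit 0x800400200d) (nat_lit 0x2002000000400801002000200102002000000400c01002000d001004)) (.cD (nat_lit 77) (.kS (nat_lit 0) (nat_lit 0x400c010020002020020000002) (nat_lit 4172) (nat_lit 0x800400200d) (nat_lit 0x2002000000400801002000200102002000000400c010020005001004)) (.cD (nat_lit 141) (.kS (nat_lit 0) (nat_lit 0x400c010020002020020000002) (nat_lit 4556) (nat_lit 0x800400200d) (nat_lit 0x2002000000400801002000200102002000000400c01002001d001004)) (.cD (nat_lit 205) (.kS (nat_lit 0) (nat_lit 0x400c010020002020020000002) (nat_lit 4300) (nat_lit 0x800400200d) (nat_lit 0x2002000000400801002000200102002000000400c010020015001004)) (.cD (nat_lit 269) (.kS (nat_lit 0) (nat_lit 0x400c010020002020020000002) (nat_lit 4108) (nat_lit 0x800400200d) (nat_lit 0x2002000000400801002000200102002000000400c010020001001004)) (.cD (nat_lit 333) (.kS (nat_lit 0) (nat_lit 0x400c010020002020020000002)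 (nat_lit 4364) (nat_lit 0x800400200d) (nat_lit 0x2002000000400801002000200102002000000400c010020009001004)) (.cD (nat_lit 397) (.kS (nat_lit 0) (nat_lit 0x800c010020002001) (nat_lit 4237) (nat_lit 0x800400200d) (nat_lit 0xc00401002000100100400801002000200100800c010020003001003)) (.cD (nat_lit 461) (.dfs (nat_lit 16) (nat_lit 0x100800c010020) (nat_lit 0x100800c010030) (nat_lit 0x1004002001) (nat_lit 0x1004002001) (nat_lit 0) (nat_lit 0) (nat_lit 2) (nat_lit 0) (nat_lit 0) (nat_lit 16) (nat_lit 1) (nat_lit 0) (nat_lit 1) (nat_lit 0) (nat_lit 1) (nat_lit 0x100000000000000010000000000000001000000000000000100000000000000010000000000000001000000000000000100000000000000010000) (.cD (nat_lit 16) (.kS (nat_lit 0) (nat_lit 0x8018020040002020020000002) (nat_lit 0x118c1c11d0) (nat_lit 0x800400200d01000800400a00502001000800c002001) (nat_lit 0x2002000000801002004000400200100102002000000801802004003203c039001004)) (.cD (nat_lit 80) (.kS (nat_lit 0) (nat_lit 0x10018020040002001)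 (nat_lit 0x118d001110) (nat_lit 0x800400200d01000800400a00502001000800c002001) (nat_lit 0x1800802004000201e009001008010020040004002001001010018020040016004011001003)) (.cD (nat_lit 144) (.kS (nat_lit 0) (nat_lit 0x8018020040002020020000002) (nat_lit 0x118c1c1150) (nat_lit 0x800400200d01000800400a00502001000800c002001) (nat_lit 0x2002000000801002004000400200100102002000000801802004003203c019001004)) (.cD (nat_lit 208) (.cut (nat_lit 0)) (.cD (nat_lit 272) (.kS (nat_lit 0) (nat_lit 0x10018020040002001) (nat_lit 0x118d001150) (nat_lit 0x800400200d01000800400a00502001000800c002001) (nat_lit 0x1800802004000201e011001008010020040004002001001010018020040016004019001003)) (.cD (nat_lit 336) (.kS (nat_lit 0) (nat_lit 0x8018020040002020020000002) (nat_lit 0x118c1c1190) (nat_lit 0x800400200d01000800400a00502001000800c002001) (nat_lit 0x2002000000801002004000400200100102002000000801802004003203c031001004)) (.cD (nat_lit 400) (.kS (nat_lit 0) (nat_lit 0x106006000008018020065002106006000003)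 (nat_lit 0x10dc11d) (nat_lit 0x800400200d01000800400a005) (nat_lit 0x1800802006502b0170021060060000180100200400360320010a612600000801802006500b004001006106000006)) (.cD (nat_lit 464) (.kS (nat_lit 0) (nat_lit 0x8018020040002020020000002) (nat_lit 0x118c1c1110) (nat_lit 0x800400200d01000800400a00502001000800c002001) (nat_lit 0x2002000000801002004000400200100102002000000801802004003203c011001004)) .nil))))))))) .nil))))))))) (.cD (nat_lit 76) (.dfs (nat_lit 12) (nat_lit 0x1004006008010) (nat_lit 0x1004006008014) (nat_lit 0x1002001) (nat_lit 0x1002009) (nat_lit 12) (nat_lit 0) (nat_lit 2) (nat_lit 0) (nat_lit 0) (nat_lit 13) (nat_lit 1) (nat_lit 0) (nat_lit 1) (nat_lit 0) (nat_lit 1) (nat_lit 0x20000000000000002000000000000000200000000000000020000000000000002000000000000000200000000000000020000000000000002000) (.cD (nat_lit 13) (.kS (nat_lit 0) (nat_lit 0x400c010020002020020000002) (nat_lit 4428) (nat_lit 0x800400200d) (nat_lit 0x2002000000400801002000200102002000000400c01002000d001004))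 (.cD (nat_lit 77) (.kS (nat_lit 0) (nat_lit 0x400c010020002020020000002) (nat_lit 4172) (nat_lit 0x800400200d) (nat_lit 0x2002000000400801002000200102002000000400c010020005001004)) (.cD (nat_lit 141) (.kS (nat_lit 0) (nat_lit 0x800c010020002001) (nat_lit 4301) (nat_lit 0x800400200d) (nat_lit 0xc00401002000500100400801002000200100800c010020007001003)) (.cD (nat_lit 205) (.dfs (nat_lit 16) (nat_lit 0x100800c010020) (nat_lit 0x100800c010030) (nat_lit 0x1004002001) (nat_lit 0x1004002001) (nat_lit 0) (nat_lit 0) (nat_lit 2) (nat_lit 0) (nat_lit 0) (nat_lit 16) (nat_lit 1) (nat_lit 0) (nat_lit 1) (nat_lit 0) (nat_lit 1) (nat_lit 0x100000000000000010000000000000001000000000000000100000000000000010000000000000001000000000000000100000000000000010000) (.cD (nat_lit 16) (.kS (nat_lit 0) (nat_lit 0x8018020040002020020000002) (nat_lit 0x10cc0c11d0) (nat_lit 0x800400200d01000800400a00502001000800c002001) (nat_lit 0x2002000000801002004000400200100102002000000801802004002a02c039001004))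 (.cD (nat_lit 80) (.kS (nat_lit 0) (nat_lit 0x10018020040002001) (nat_lit 0x11cd101110) (nat_lit 0x800400200d01000800400a00502001000800c002001) (nat_lit 0x1800802004000a00e00900100801002004000400200100101001802004001e014011001003)) (.cD (nat_lit 144) (.kS (nat_lit 0) (nat_lit 0x8018020040002020020000002) (nat_lit 0x10cc0c1150) (nat_lit 0x800400200d01000800400a00502001000800c002001) (nat_lit 0x2002000000801002004000400200100102002000000801802004002a02c019001004)) (.cD (nat_lit 208) (.iso x70 s125 (nat_lit 0) (nat_lit 0x1200100080040020010188184002101) (nat_lit 0x200100080040020010188184002101) [(nat_lit 0x40020010008014002001001001), (nat_lit 0x80040020010008004002041003001)] (.cut (nat_lit 0))) (.cD (nat_lit 272) (.kS (nat_lit 0) (nat_lit 0x10018020040002001) (nat_lit 0x11cd101150) (nat_lit 0x800400200d01000800400a00502001000800c002001) (nat_lit 0x1800802004000a00e01100100801002004000400200100101001802004001e014019001003)) (.cD (nat_lit 336) (.kS (nat_lit 0) (nat_lit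 0x8018020040002020020000002) (nat_lit 0x10cc0c1190) (nat_lit 0x800400200d01000800400a00502001000800c002001) (nat_lit 0x2002000000801002004000400200100102002000000801802004002a02c031001004)) (.cD (nat_lit 400) (.kS (nat_lit 0) (nat_lit 0x106006000008018020075002106006000003) (nat_lit 0x109c01d) (nat_lit 0x800400200d01000800400a005) (nat_lit 0x180080200750230070021060060000180100200400360320010a6126000008018020075013014001006106000006)) (.cD (nat_lit 464) (.kS (nat_lit 0) (nat_lit 0x8018020040002020020000002) (nat_lit 0x10cc0c1110) (nat_lit 0x800400200d01000800400a00502001000800c002001) (nat_lit 0x2002000000801002004000400200100102002000000801802004002a02c011001004)) .nil))))))))) (.cD (nat_lit 269) (.kS (nat_lit 0) (nat_lit 0x400c010020002020020000002) (nat_lit 4108) (nat_lit 0x800400200d) (nat_lit 0x2002000000400801002000200102002000000400c010020001001004)) (.cD (nat_lit 333) (.kS (nat_lit 0) (nat_lit 0x400c010020002020020000002) (nat_lit 4364) (nat_lit 0x800400200d)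 (nat_lit 0x2002000000400801002000200102002000000400c010020009001004)) (.cD (nat_lit 397) (.kS (nat_lit 0) (nat_lit 0x400c010020002020020000002) (nat_lit 4236) (nat_lit 0x800400200d) (nat_lit 0x2002000000400801002000200102002000000400c010020011001004)) (.cD (nat_lit 461) (.kS (nat_lit 0) (nat_lit 0x400c010020002020020000002) (nat_lit 4492) (nat_lit 0x800400200d) (nat_lit 0x2002000000400801002000200102002000000400c010020019001004)) .nil))))))))) (.cD (nat_lit 140) (.dfs (nat_lit 12) (nat_lit 0x1004006008010) (nat_lit 0x1004006008014) (nat_lit 0x1002001) (nat_lit 0x1002009) (nat_lit 12) (nat_lit 0) (nat_lit 2) (nat_lit 0) (nat_lit 0) (nat_lit 13) (nat_lit 1) (nat_lit 0) (nat_lit 1) (nat_lit 0) (nat_lit 1) (nat_lit 0x20000000000000002000000000000000200000000000000020000000000000002000000000000000200000000000000020000000000000002000) (.cD (nat_lit 13) (.kS (nat_lit 0) (nat_lit 0x400c010020002020020000002) (nat_lit 4428) (nat_lit 0x800400200d) (nat_lit 0x2002000000400801002000200102002000000400c01002000d001004))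 (.cD (nat_lit 77) (.kS (nat_lit 0) (nat_lit 0x400c010020002020020000002) (nat_lit 4172) (nat_lit 0x800400200d) (nat_lit 0x2002000000400801002000200102002000000400c010020005001004)) (.cD (nat_lit 141) (.kS (nat_lit 0) (nat_lit 0x400c010020002020020000002) (nat_lit 4556) (nat_lit 0x800400200d) (nat_lit 0x2002000000400801002000200102002000000400c01002001d001004)) (.cD (nat_lit 205) (.kS (nat_lit 0) (nat_lit 0x400c010020002020020000002) (nat_lit 4300) (nat_lit 0x800400200d) (nat_lit 0x2002000000400801002000200102002000000400c010020015001004)) (.cD (nat_lit 269) (.kS (nat_lit 0) (nat_lit 0x800c010020002001) (nat_lit 4237) (nat_lit 0x800400200d) (nat_lit 0xc00401002001100100400801002000200100800c010020003001003)) (.cD (nat_lit 333) (.dfs (nat_lit 16) (nat_lit 0x100800c010020) (nat_lit 0x100800c010030) (nat_lit 0x1004002001) (nat_lit 0x1004002001) (nat_lit 0) (nat_lit 0) (nat_lit 2) (nat_lit 0) (nat_lit 0) (nat_lit 16) (nat_lit 1) (nat_lit 0) (nat_lit 1) (nat_lit 0) (nat_lit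 1) (nat_lit 0x100000000000000010000000000000001000000000000000100000000000000010000000000000001000000000000000100000000000000010000) (.cD (nat_lit 16) (.kS (nat_lit 0) (nat_lit 0x8018020040002020020000002) (nat_lit 0x110c1411d0) (nat_lit 0x800400200d01000800400a00502001000800c002001) (nat_lit 0x2002000000801002004000400200100102002000000801802004001201c039001004)) (.cD (nat_lit 80) (.kS (nat_lit 0) (nat_lit 0x10018020040002001) (nat_lit 0x118d081110) (nat_lit 0x800400200d01000800400a00502001000800c002001) (nat_lit 0x1800802004002203e009001008010020040004002001001010018020040016024011001003)) (.cD (nat_lit 144) (.kS (nat_lit 0) (nat_lit 0x8018020040002020020000002) (nat_lit 0x110c141150) (nat_lit 0x800400200d01000800400a00502001000800c002001) (nat_lit 0x2002000000801002004000400200100102002000000801802004001201c019001004)) (.cD (nat_lit 208) (.iso x70 s125 (nat_lit 0) (nat_lit 0x1200100080040020010188184002081) (nat_lit 0x200100080040020010188184002081) [(nat_lit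 0x40020010008024002001001001), (nat_lit 0x80040020010008004002041003001)] (.cut (nat_lit 0))) (.cD (nat_lit 272) (.kS (nat_lit 0) (nat_lit 0x10018020040002001) (nat_lit 0x118d081150) (nat_lit 0x800400200d01000800400a00502001000800c002001) (nat_lit 0x1800802004002203e011001008010020040004002001001010018020040016024019001003)) (.cD (nat_lit 336) (.kS (nat_lit 0) (nat_lit 0x8018020040002020020000002) (nat_lit 0x110c141190) (nat_lit 0x800400200d01000800400a00502001000800c002001) (nat_lit 0x2002000000801002004000400200100102002000000801802004001201c031001004)) (.cD (nat_lit 400) (.kS (nat_lit 0) (nat_lit 0x106006000008018020045002106006000003) (nat_lit 0x105c19d) (nat_lit 0x800400200d01000800400a005) (nat_lit 0x1800802004500b0370021060060000180100200400360320010a612600000801802004502b024001006106000006)) (.cD (nat_lit 464) (.kS (nat_lit 0) (nat_lit 0x8018020040002020020000002) (nat_lit 0x110c141110) (nat_lit 0x800400200d01000800400a00502001000800c002001) (nat_lit 0x2002000000801002004000400200100102002000000801802004001201c011001004))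 .nil))))))))) (.cD (nat_lit 397) (.kS (nat_lit 0) (nat_lit 0x400c010020002020020000002) (nat_lit 4236) (nat_lit 0x800400200d) (nat_lit 0x2002000000400801002000200102002000000400c010020011001004)) (.cD (nat_lit 461) (.kS (nat_lit 0) (nat_lit 0x400c010020002020020000002) (nat_lit 4492) (nat_lit 0x800400200d) (nat_lit 0x2002000000400801002000200102002000000400c010020019001004)) .nil))))))))) (.cD (nat_lit 204) (.dfs (nat_lit 12) (nat_lit 0x1004006008010) (nat_lit 0x1004006008014) (nat_lit 0x1002001) (nat_lit 0x1002009) (nat_lit 12) (nat_lit 0) (nat_lit 2) (nat_lit 0) (nat_lit 0) (nat_lit 13) (nat_lit 1) (nat_lit 0) (nat_lit 1) (nat_lit 0) (nat_lit 1) (nat_lit 0x20000000000000002000000000000000200000000000000020000000000000002000000000000000200000000000000020000000000000002000) (.cD (nat_lit 13) (.kS (nat_lit 0) (nat_lit 0x800c010020002001) (nat_lit 4301) (nat_lit 0x800400200d) (nat_lit 0xc00401002001500100400801002000200100800c010020007001003)) (.cD (nat_lit 77) (.dfs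 (nat_lit 16) (nat_lit 0x100800c010020) (nat_lit 0x100800c010030) (nat_lit 0x1004002001) (nat_lit 0x1004002001) (nat_lit 0) (nat_lit 0) (nat_lit 2) (nat_lit 0) (nat_lit 0) (nat_lit 16) (nat_lit 1) (nat_lit 0) (nat_lit 1) (nat_lit 0) (nat_lit 1) (nat_lit 0x100000000000000010000000000000001000000000000000100000000000000010000000000000001000000000000000100000000000000010000) (.cD (nat_lit 16) (.kS (nat_lit 0) (nat_lit 0x8018020040002020020000002) (nat_lit 0x104c0411d0) (nat_lit 0x800400200d01000800400a00502001000800c002001) (nat_lit 0x2002000000801002004000400200100102002000000801802004000a00c039001004)) (.cD (nat_lit 80) (.kS (nat_lit 0) (nat_lit 0x10018020040002001) (nat_lit 0x11cd181110) (nat_lit 0x800400200d01000800400a00502001000800c002001) (nat_lit 0x1800802004002a02e00900100801002004000400200100101001802004001e034011001003)) (.cD (nat_lit 144) (.kS (nat_lit 0) (nat_lit 0x8018020040002020020000002) (nat_lit 0x104c041150) (nat_lit 0x800400200d01000800400a00502001000800c002001)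 (nat_lit 0x2002000000801002004000400200100102002000000801802004000a00c019001004)) (.cD (nat_lit 208) (.iso x70 s125 (nat_lit 0) (nat_lit 0x1200100080040020010008004002181) (nat_lit 0x200100080040020010008004002181) [(nat_lit 0x40020010008034002001001001), (nat_lit 0x80040020010008004002001003001)] (.cut (nat_lit 0))) (.cD (nat_lit 272) (.kS (nat_lit 0) (nat_lit 0x10018020040002001) (nat_lit 0x11cd181150) (nat_lit 0x800400200d01000800400a00502001000800c002001) (nat_lit 0x1800802004002a02e01100100801002004000400200100101001802004001e034019001003)) (.cD (nat_lit 336) (.kS (nat_lit 0) (nat_lit 0x8018020040002020020000002) (nat_lit 0x104c041190) (nat_lit 0x800400200d01000800400a00502001000800c002001) (nat_lit 0x2002000000801002004000400200100102002000000801802004000a00c031001004)) (.cD (nat_lit 400) (.kS (nat_lit 0) (nat_lit 0x106006000008018020055002106006000003) (nat_lit 0x101c09d) (nat_lit 0x800400200d01000800400a005) (nat_lit 0x180080200550030270021060060000180100200400360320010a6126000008018020055033034001006106000006))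 (.cD (nat_lit 464) (.kS (nat_lit 0) (nat_lit 0x8018020040002020020000002) (nat_lit 0x104c041110) (nat_lit 0x800400200d01000800400a00502001000800c002001) (nat_lit 0x2002000000801002004000400200100102002000000801802004000a00c011001004)) .nil))))))))) (.cD (nat_lit 141) (.kS (nat_lit 0) (nat_lit 0x400c010020002020020000002) (nat_lit 4556) (nat_lit 0x800400200d) (nat_lit 0x2002000000400801002000200102002000000400c01002001d001004)) (.cD (nat_lit 205) (.kS (nat_lit 0) (nat_lit 0x400c010020002020020000002) (nat_lit 4300) (nat_lit 0x800400200d) (nat_lit 0x2002000000400801002000200102002000000400c010020015001004)) (.cD (nat_lit 269) (.kS (nat_lit 0) (nat_lit 0x400c010020002020020000002) (nat_lit 4108) (nat_lit 0x800400200d) (nat_lit 0x2002000000400801002000200102002000000400c010020001001004)) (.cD (nat_lit 333) (.kS (nat_lit 0) (nat_lit 0x400c010020002020020000002) (nat_lit 4364) (nat_lit 0x800400200d) (nat_lit 0x2002000000400801002000200102002000000400c010020009001004))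 (.cD (nat_lit 397) (.kS (nat_lit 0) (nat_lit 0x400c010020002020020000002) (nat_lit 4236) (nat_lit 0x800400200d) (nat_lit 0x2002000000400801002000200102002000000400c010020011001004)) (.cD (nat_lit 461) (.kS (nat_lit 0) (nat_lit 0x400c010020002020020000002) (nat_lit 4492) (nat_lit 0x800400200d) (nat_lit 0x2002000000400801002000200102002000000400c010020019001004)) .nil))))))))) .nil))))))
theorem c126 : (chk [(x70, s125)] [g168] p126).n x70 s126 = true := by decide +kernel
noncomputable def p127 : Pf := (.ext (nat_lit 1) (nat_lit 0) (nat_lit 0x1200180100020) (nat_lit 0x10008004002001001) (nat_lit 0x2003004008) (nat_lit 4104) (nat_lit 4127) (nat_lit 0xa004002001) (.dfs (nat_lit 8) (nat_lit 0x1002003004008) (nat_lit 0x100200300400a) (nat_lit 4097) (nat_lit 4097) (nat_lit 4) (nat_lit 0) (nat_lit 2) (nat_lit 1) (nat_lit 0) (nat_lit 31) (nat_lit 1) (nat_lit 0) (nat_lit 1) (nat_lit 0) (nat_lit 1) (nat_lit 0) .nil))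
theorem c127 : (chk [] [] p127).n x80 s127 = true := by decide +kernel
noncomputable def p128 : Pf := (.lft (nat_lit 0x1420400c000207800405900106a001001) (nat_lit 32) (nat_lit 0x11de1d01ce1c019e19018e18015e15014e14011e11010e100) (nat_lit 0x1000800400200100080040c2049) (.extn a70 (nat_lit 0x100080040020010008004002001) (nat_lit 0x1020080040100) (nat_lit 2) (nat_lit 0) (nat_lit 0) (nat_lit 0) (nat_lit 0x100000000000000000000000000000000000000000000000100000000) (.cE (nat_lit 32) b167 (nat_lit 0) (.cut (nat_lit 0)) (.cut (nat_lit 1)) (.cE (nat_lit 224) b168 (nat_lit 0) (.cut (nat_lit 2)) (.iso x80 s127 (nat_lit 0) (nat_lit 0x120010018002004033c2cc2b22b6225) (nat_lit 0x2001001800200401f81be39633c117) [(nat_lit 0x1000800400200f007001)] (.cut (nat_lit 3))) .nil))))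
theorem c128 : (chk [(x68, s107), (x69, s108), (x70, s126), (x80, s127)] [g151] p128).n x67 s128 = true := by decide +kernel
noncomputable def p129 : Pf := (.ext (nat_lit 1) (nat_lit 0) (nat_lit 0x1200180100020) (nat_lit 0x10008004002001001) (nat_lit 0x2003004008) (nat_lit 4101) (nat_lit 4104) (nat_lit 0xb004002001) (.dfs (nat_lit 5) (nat_lit 0x1002003004008) (nat_lit 0x100200300400b) (nat_lit 4097) (nat_lit 4097) (nat_lit 3) (nat_lit 0) (nat_lit 2) (nat_lit 1) (nat_lit 0) (nat_lit 8) (nat_lit 1) (nat_lit 0) (nat_lit 1) (nat_lit 0) (nat_lit 1) (nat_lit 0) .nil))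
theorem c129 : (chk [] [] p129).n x81 s129 = true := by decide +kernel
noncomputable def p130 : Pf := (.ext (nat_lit 1) (nat_lit 0) (nat_lit 0x1200180100020) (nat_lit 0x10008004002001001) (nat_lit 0x2003004008) (nat_lit 4101) (nat_lit 4104) (nat_lit 0xb004002001) (.dfs (nat_lit 5) (nat_lit 0x1002003004008) (nat_lit 0x100200300400b) (nat_lit 4097) (nat_lit 4097) (nat_lit 3) (nat_lit 0) (nat_lit 2) (nat_lit 1) (nat_lit 0) (nat_lit 8) (nat_lit 1) (nat_lit 0) (nat_lit 1) (nat_lit 0) (nat_lit 1) (nat_lit 0) .nil))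
theorem c130 : (chk [] [] p130).n x82 s130 = true := by decide +kernel
noncomputable def p131 : Pf := (.ext (nat_lit 1) (nat_lit 0) (nat_lit 0x1200180100020) (nat_lit 0x10008004002001001) (nat_lit 0x2003004008) (nat_lit 4101) (nat_lit 4104) (nat_lit 0xb004002001) (.dfs (nat_lit 5) (nat_lit 0x1002003004008) (nat_lit 0x100200300400b) (nat_lit 4097) (nat_lit 4097) (nat_lit 5) (nat_lit 0) (nat_lit 2) (nat_lit 1) (nat_lit 0) (nat_lit 8) (nat_lit 1) (nat_lit 0) (nat_lit 1) (nat_lit 0) (nat_lit 1) (nat_lit 0) .nil))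
theorem c131 : (chk [] [] p131).n x83 s131 = true := by decide +kernel
noncomputable def p132 : Pf := (.ext (nat_lit 1) (nat_lit 0) (nat_lit 0x1200180100020) (nat_lit 0x10008004002001001) (nat_lit 0x2003004008) (nat_lit 4101) (nat_lit 4104) (nat_lit 0xb004002001) (.dfs (nat_lit 5) (nat_lit 0x1002003004008) (nat_lit 0x100200300400b) (nat_lit 4097) (nat_lit 4097) (nat_lit 5) (nat_lit 0) (nat_lit 2) (nat_lit 1) (nat_lit 0) (nat_lit 8) (nat_lit 1) (nat_lit 0) (nat_lit 1) (nat_lit 0) (nat_lit 1) (nat_lit 0) .nil))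
theorem c132 : (chk [] [] p132).n x84 s132 = true := by decide +kernel
noncomputable def p133 : Pf := (.lft (nat_lit 0x1980c00801740781c4074113001001001) (nat_lit 161) (nat_lit 0x11e01c01a01801601401201000e80c80a8088068048028008) (nat_lit 0x1000800400200100080c40de041) (.extn a63 (nat_lit 0x100080040020010008004002001) (nat_lit 0x1020080040100) (nat_lit 2) (nat_lit 0) (nat_lit 0) (nat_lit 1) (nat_lit 0x200000000000000020000000000000000000000000000000000000000) (.cE (nat_lit 161) b156 (nat_lit 0) (.cut (nat_lit 0)) (.cut (nat_lit 1)) (.cE (nat_lit 225) b157 (nat_lit 0) (.cut (nat_lit 2)) (.cut (nat_lit 3)) .nil))))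
theorem c133 : (chk [(x81, s129), (x82, s130), (x83, s131), (x84, s132)] [] p133).n x65 s133 = true := by decide +kernel
noncomputable def p134 : Pf := (.ext (nat_lit 0) (nat_lit 0) (nat_lit 0x11a00c008001603907f008020) (nat_lit 0x80040020010008004002001004001) (nat_lit 0x1020060080) (nat_lit 4098) (nat_lit 4145) (nat_lit 0xde040060010048004002003) (.dfs (nat_lit 2) (nat_lit 0x1001020060080) (nat_lit 0x10030600200de) (nat_lit 0x1040010008004002) (nat_lit 0x1040010048004002) (nat_lit 64) (nat_lit 0) (nat_lit 2) (nat_lit 0) (nat_lit 0) (nat_lit 25) (nat_lit 1) (nat_lit 0) (nat_lit 1) (nat_lit 0) (nat_lit 1) (nat_lit 0x2000000000000000000000000000000000000000000000002000000000000) (.cD (nat_lit 49) (.iso x65 s133 (nat_lit 0) (nat_lit 0x11000800c001002019e166172073) (nat_lit 0x1000800c00100200fc0a61f21ff) [(nat_lit 0x1d21020001200800c00201be15c0061720d1001002), (nat_lit 0x1000800400200f007001)] (.cut (nat_lit 1))) (.cD (nat_lit 241) (.cut (nat_lit 0)) .nil))))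
theorem c134 : (chk [(x67, s128), (x65, s133)] [g155] p134).n x67 s134 = true := by decide +kernel
noncomputable def p135 : Pf := (.ext (nat_lit 1) (nat_lit 0x10020040080003001) (nat_lit 0x11a00c008001603907f008) (nat_lit 0xe004005007003a062056003080040020010008004002001080040020010008004002004003) (nat_lit 0x30018020078) (nat_lit 4098) (nat_lit 4114) (nat_lit 0x6f020030008024002001) (.dfs (nat_lit 2) (nat_lit 0x1030018020078) (nat_lit 0x1010038020077) (nat_lit 0x1040010008004002001) (nat_lit 0x106f030008024002001) (nat_lit 32) (nat_lit 0) (nat_lit 2) (nat_lit 1) (nat_lit 0x10020040080005001) (nat_lit 4) (nat_lit 1) (nat_lit 0) (nat_lit 1) (nat_lit 0) (nat_lit 1) (nat_lit 0x40000000000000000000000000000000000000000000000040000) (.cD (nat_lit 18) (.kS (nat_lit 1) (nat_lit 0x600300400f0002010020040080005002) (nat_lit 0x10310a90bb0c8) (nat_lit 0xa00400200501400800400e001020018008037002001040030010058004012001) (nat_lit 0x700500400e000805603d00400101002004008006c0020010160010600300400f004a07406b042001003))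 (.cD (nat_lit 210) (.cut (nat_lit 0)) .nil))))
theorem c135 : (chk [(x67, s134)] [] p135).n x67 s135 = true := by decide +kernel
noncomputable def p136 : Pf := (.ext (nat_lit 1) (nat_lit 0) (nat_lit 0x11000c0080010002004008) (nat_lit 0x4002001000803f02b002003080040020010008004002001002) (nat_lit 0x30018020078) (nat_lit 4129) (nat_lit 4199) (nat_lit 0x6f020030008004002021) (.dfs (nat_lit 33) (nat_lit 0x1030018020078) (nat_lit 0x1010038020077) (nat_lit 0x1040010008004002001) (nat_lit 0x106f030008004002021) (nat_lit 0) (nat_lit 0) (nat_lit 2) (nat_lit 1) (nat_lit 0) (nat_lit 39) (nat_lit 1) (nat_lit 0) (nat_lit 1) (nat_lit 0) (nat_lit 1) (nat_lit 0x800000000000000080000000000000000000000000) (.cD (nat_lit 103) (.kS (nat_lit 1) (nat_lit 0x600300400f0002001) (nat_lit 0x104601c054023) (nat_lit 0x800600200901400c00401e00102801000801c00200104003001005f004002011) (nat_lit 0x700500400e003a06205606d0010100200400800080040020010010600300400f006c01607400b001003)) (.cD (nat_lit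 167) (.cut (nat_lit 0)) .nil))))
theorem c136 : (chk [(x67, s135)] [] p136).n x67 s136 = true := by decide +kernel
noncomputable def p137 : Pf := (.ext (nat_lit 1) (nat_lit 0x30018020078002001) (nat_lit 0x11000c0080010) (nat_lit 0x40030010001003001) (nat_lit 0x600300400f) (nat_lit 0x1020008004002) (nat_lit 0x102000802902f) (nat_lit 0x800400200300e00400200500f004006005009004006001) (.dfs (nat_lit 2) (nat_lit 0x1001002004008) (nat_lit 0x1001006004009) (nat_lit 1) (nat_lit 1) (nat_lit 4) (nat_lit 0) (nat_lit 2) (nat_lit 1) (nat_lit 0x1002004008001001) (nat_lit 47) (nat_lit 1) (nat_lit 0) (nat_lit 0x1120096) (nat_lit 0x120096) (nat_lit 0x10000390010390010f9) (nat_lit 0x200000000000000) (.cD (nat_lit 57) (.dfs (nat_lit 4) (nat_lit 0x1002004008010) (nat_lit 0x100a00c00801e) (nat_lit 4097) (nat_lit 4097) (nat_lit 0) (nat_lit 0) (nat_lit 2) (nat_lit 1) (nat_lit 0x2004008010001001) (nat_lit 41) (nat_lit 1) (nat_lit 0) (nat_lit 4310) (nat_lit 214) (nat_lit 0x100007f) (nat_lit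 0x80000000000000000000000000000000) (.cD (nat_lit 127) (.dfs (nat_lit 8) (nat_lit 0x1004008010020) (nat_lit 0x1014008010038) (nat_lit 0x1002001) (nat_lit 0x1002001) (nat_lit 0) (nat_lit 0) (nat_lit 2) (nat_lit 1) (nat_lit 0x4008010020001001) (nat_lit 8) (nat_lit 1) (nat_lit 0) (nat_lit 1) (nat_lit 0) (nat_lit 1) (nat_lit 0x100000000000000000000000000000000000000000000000100) (.cD (nat_lit 8) (.dfs (nat_lit 32) (nat_lit 0x1008010020040) (nat_lit 0x1018010020040) (nat_lit 0x1004002001) (nat_lit 0x1005003001) (nat_lit 0) (nat_lit 0) (nat_lit 2) (nat_lit 1) (nat_lit 0x8010020040001001) (nat_lit 32) (nat_lit 1) (nat_lit 0) (nat_lit 1) (nat_lit 0) (nat_lit 1) (nat_lit 0x100000000000000000000000000000000000000000000000100000000) (.cD (nat_lit 32) (.cut (nat_lit 0)) (.cD (nat_lit 224) (.kA false (nat_lit 0x38010020058005001020060080001002)) .nil))) (.cD (nat_lit 200) (.kS (nat_lit 1) (nat_lit 0x28018020078002028018020078004020020000003) (nat_lit 0x10d2048054) (nat_lit 0x800600200901400c00401e00102801000801c002001)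 (nat_lit 0x1002802007000403302100304900100003001802007800400101300402002000002801802007801701201300302801802007802c03103a001006)) .nil))) .nil)) .nil)))
theorem c137 : (chk [(x67, s136)] [] p137).n x67 s137 = true := by decide +kernel
noncomputable def p138 : Pf := (.ext (nat_lit 1) (nat_lit 0) (nat_lit 0x11a00c0080016) (nat_lit 0x7e020030018001049001000040030010001004003) (nat_lit 0x600300400f) (nat_lit 0x1021008006) (nat_lit 0x100400c002) (nat_lit 0xd00400600100e00400200500a004002005) (.dfs (nat_lit 6) (nat_lit 0x100600300400f) (nat_lit 0x1006007004009) (nat_lit 0x1008002001) (nat_lit 0x100a002005) (nat_lit 4) (nat_lit 0) (nat_lit 2) (nat_lit 1) (nat_lit 0) (nat_lit 2) (nat_lit 1) (nat_lit 0) (nat_lit 0x1100180040) (nat_lit 0x100180040) (nat_lit 0x1000002001002002002) (nat_lit 4) (.cD (nat_lit 2) (.dfs (nat_lit 8) (nat_lit 0x100c00600801e) (nat_lit 0x100c00e00801a) (nat_lit 0x1010004002001) (nat_lit 0x101c00400a001) (nat_lit 0) (nat_lit 0) (nat_lit 2) (nat_lit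 1) (nat_lit 0) (nat_lit 12) (nat_lit 1) (nat_lit 0) (nat_lit 1) (nat_lit 0) (nat_lit 1) (nat_lit 0x10001000000000000000000000000000000000000000000010001000) (.cD (nat_lit 12) (.kA true (nat_lit 0x2803002007600300801c0100230010c200200001800c01003c002004)) (.cD (nat_lit 28) (.kS (nat_lit 1) (nat_lit 0x1001303005e0050c200200001800c01003c002003) (nat_lit 0x1046008) (nat_lit 0x800600200901000c004016001) (nat_lit 0x1002802007600501300401800c01003c0020010010020c200001001303005e002004006004)) (.cD (nat_lit 204) (.kA true (nat_lit 0x401c01003c00100400400001401c01002b002049001000004)) (.cD (nat_lit 220) (.dfs (nat_lit 33) (nat_lit 0x101800c01003c) (nat_lit 0x100801c010038) (nat_lit 0x1020008004002001) (nat_lit 0x1034018004002011) (nat_lit 0) (nat_lit 0) (nat_lit 2) (nat_lit 1) (nat_lit 0) (nat_lit 4) (nat_lit 1) (nat_lit 0) (nat_lit 4112) (nat_lit 16) (nat_lit 0x1000004) (nat_lit 16) (.cD (nat_lit 4) (.cut (nat_lit 0)) .nil)) .nil))))) .nil)))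
theorem c138 : (chk [(x67, s137)] [] p138).n x67 s138 = true := by decide +kernel
noncomputable def p139 : Pf := (.lft (nat_lit 0x80020060001010002004008003001) (nat_lit 36) (nat_lit 0x10e80e00c80c00a80a0088080) (nat_lit 0x80040020010008004002061) (.extn a69 (nat_lit 0x80040020010008004002001) (nat_lit 0x1010040020080) (nat_lit 2) (nat_lit 0) (nat_lit 0) (nat_lit 4) (nat_lit 0x100000001000000000) (.cE (nat_lit 36) b166 (nat_lit 0) (.cut (nat_lit 0)) (.iso x15 s14 (nat_lit 0) (nat_lit 0x11000800c001002015e16613216d) (nat_lit 0x1000800c00100200bc066132117) [(nat_lit 0x6602000801803b05007c0080e202a000002), (nat_lit 0x1d210200004003001000106705204d00a002)] (.cut (nat_lit 1))) (.cE (nat_lit 68) (nat_lit 0xd00d50b60b30b40b10d20d70f80fd09e09b09c0990fa0ff0c40c10a20a70a00a50c60c308c0890ea0ef0e80ed08e08b0900950f60f30f40f10920970b80bd0de0db0dc0d90ba0bf0840810e20e70e00e50860830cc0c90aa0af0a80ad0ce0cb0f00f50960930940910f20f70d80dd0be0bb0bc0b90da0df0e40e10820870800850e60e30a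c0a90ca0cf0c80cd0ae0ab0b00b50d60d30d40d10b20b709809d0fe0fb0fc0f909a09f0a40a10c20c70c00c50a60a30ec0e908a08f08808d0ee0eb05f03a03905c03b05e05d03807701201107401307607501000b06e06d00806f00a00906c04302602504002704204102401f07a07901c07b01e01d07803705205103405303603505004b02e02d04802f04a04902c00306606500006700200106407f01a01907c01b07e07d01805703203105403305605503002b04e04d02804f02a02904c06300600506000706206100403f05a05903c05b03e03d05801707207101407301601507006b00e00d06800f06a06900c023046045020047022021044) (nat_lit 0) (.iso x26 s33 (nat_lit 1) (nat_lit 0x11000800c001002015e16613216d) (nat_lit 0x1000800c00100200bc066132117) [(nat_lit 0xc200200002401001800401e005003002), (nat_lit 0x6602000801803b05007c0080e202a000002), (nat_lit 0x1d210200004003001000106705204d00a002)] (.cut (nat_lit 2))) (.iso x25 s30 (nat_lit 1) (nat_lit 0x11000800c001002015e16613216d) (nat_lit 0x1000800c00100200bc066132117) [(nat_lit 0x6602000801803b05007c0080e202a000002), (nat_lit 0x1d210200004003001000106705204d00a002)]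 (.cut (nat_lit 3))) .nil))))
theorem c139 : (chk [(x67, s138), (x15, s14), (x26, s33), (x25, s30)] [g109, g114] p139).n x53 s139 = true := by decide +kernel
noncomputable def p140 : Pf := (.ext (nat_lit 1) (nat_lit 0x1010030040005001) (nat_lit 0x10d006004000b007) (nat_lit 0x77030001021007005040020010018036003058030010033006005003) (nat_lit 0x400e008011) (nat_lit 4097) (nat_lit 4101) (nat_lit 0x1700800c002001) (.dfs (nat_lit 1) (nat_lit 0x100400e008011) (nat_lit 0x100c00600801e) (nat_lit 0x1010002001) (nat_lit 0x1017002001) (nat_lit 8) (nat_lit 0) (nat_lit 2) (nat_lit 1) (nat_lit 0x1010030040007001) (nat_lit 5) (nat_lit 1) (nat_lit 0) (nat_lit 4107) (nat_lit 11) (nat_lit 0x100000500002e) (nat_lit 0x400000000020) (.cD (nat_lit 5) (.cut (nat_lit 1)) (.cD (nat_lit 46) (.iso x54 s106 (nat_lit 0) (nat_lit 0x10800400600080100cf0b30b9) (nat_lit 0x8004006000801007e0530f9) [(nat_lit 0x6100100002401001800400e01d001002), (nat_lit 0xb00400600300bf0ee0630eb00301d059000002), (nat_lit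 0x66020008018013070054006071015000002), (nat_lit 0xe908100004003001000105705207d008002), (nat_lit 0x1000800400200f009001)] (.cut (nat_lit 0))) .nil))))
theorem c140 : (chk [(x54, s106), (x53, s139)] [g153] p140).n x53 s140 = true := by decide +kernel
noncomputable def p141 : Pf := (.ext (nat_lit 1) (nat_lit 0x8010020040001001) (nat_lit 0x1080060040008) (nat_lit 0x4d030020033003061001000040030010001003003) (nat_lit 0x200700400e) (nat_lit 0x1010004002001) (nat_lit 0x1014004006005) (nat_lit 0x800400200300e00400200500f004006005009004006001) (.dfs (nat_lit 1) (nat_lit 0x1001002004008) (nat_lit 0x1001006004009) (nat_lit 1) (nat_lit 1) (nat_lit 4) (nat_lit 0) (nat_lit 2) (nat_lit 1) (nat_lit 0x1002004008001001) (nat_lit 5) (nat_lit 1) (nat_lit 0) (nat_lit 0x1008087) (nat_lit 32903) (nat_lit 0x100000500100500104d) (nat_lit 32) (.cD (nat_lit 5) (.dfs (nat_lit 2) (nat_lit 0x1002004008010) (nat_lit 0x100a00c00801e) (nat_lit 4097) (nat_lit 4097) (nat_lit 0) (nat_lit 0) (nat_lit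 2) (nat_lit 1) (nat_lit 0x2004008010001001) (nat_lit 6) (nat_lit 1) (nat_lit 0) (nat_lit 4136) (nat_lit 40) (nat_lit 0x1000006) (nat_lit 64) (.cD (nat_lit 6) (.dfs (nat_lit 4) (nat_lit 0x1004008010020) (nat_lit 0x1014008010038) (nat_lit 0x1002001) (nat_lit 0x1002001) (nat_lit 0) (nat_lit 0) (nat_lit 2) (nat_lit 1) (nat_lit 0x4008010020001001) (nat_lit 4) (nat_lit 1) (nat_lit 0) (nat_lit 1) (nat_lit 0) (nat_lit 1) (nat_lit 0x10000000000000000000000010) (.cD (nat_lit 4) (.kS (nat_lit 1) (nat_lit 0x28038020070002018010020040003010010000003) (nat_lit 0x1061064062) (nat_lit 0x800600200901400c00401e00102801000801c002001) (nat_lit 0x3001802007e005027024003010010000008010020040001004023003010010000018010020040002027023004028038020070024021022001006)) (.cD (nat_lit 100) (.dfs (nat_lit 16) (nat_lit 0x103803002006f) (nat_lit 0x102803002007f) (nat_lit 0x1040010008004002001) (nat_lit 0x1040010018005003001) (nat_lit 0) (nat_lit 0) (nat_lit 2) (nat_lit 1) (nat_lit 0) (nat_lit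 20) (nat_lit 1) (nat_lit 0) (nat_lit 1) (nat_lit 0) (nat_lit 1) (nat_lit 0x1000000010000000000000) (.cD (nat_lit 52) (.cut (nat_lit 0)) (.cD (nat_lit 84) (.kA false (nat_lit 0x2801002005800500306002009d00100c020010041005061001000004)) .nil))) .nil))) .nil)) .nil)))
theorem c141 : (chk [(x53, s140)] [] p141).n x53 s141 = true := by decide +kernel
noncomputable def p142 : Pf := (.ext (nat_lit 1) (nat_lit 0) (nat_lit 0x1080060040008002005) (nat_lit 0x6f02000803000202500404d030033013004012001061001000040030001011004002001040020010008002005003005) (nat_lit 0x801401003b) (nat_lit 4097) (nat_lit 4099) (nat_lit 0x24010018004002001) (.dfs (nat_lit 1) (nat_lit 0x100801401003b) (nat_lit 0x101801401002f) (nat_lit 0x1020004002001) (nat_lit 0x1024004002001) (nat_lit 16) (nat_lit 0) (nat_lit 2) (nat_lit 1) (nat_lit 0) (nat_lit 3) (nat_lit 1) (nat_lit 0) (nat_lit 4136) (nat_lit 40) (nat_lit 0x1000003) (nat_lit 8) (.cD (nat_lit 3) (.cut (nat_lit 0)) .nil)))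
theorem c142 : (chk [(x53, s141)] [] p142).n x53 s142 = true := by decide +kernel
noncomputable def p143 : Pf := (.ext (nat_lit 0) (nat_lit 0) (nat_lit 0x1080020040010004) (nat_lit 0x16008004002001004063003000010008004002001003003) (nat_lit 0x2004008016) (nat_lit 0x1008003) (nat_lit 0x100b003) (nat_lit 0x1000800400600d014008004002001) (.dfs (nat_lit 3) (nat_lit 0x1002004008016) (nat_lit 0x1002004008012) (nat_lit 0x1010001) (nat_lit 0x1014001) (nat_lit 12) (nat_lit 0) (nat_lit 2) (nat_lit 0) (nat_lit 0) (nat_lit 3) (nat_lit 1) (nat_lit 0) (nat_lit 1) (nat_lit 0) (nat_lit 1) (nat_lit 0x80008000800080008000800080008) (.cD (nat_lit 3) (.dfs (nat_lit 8) (nat_lit 0x100400801002c) (nat_lit 0x100c008010024) (nat_lit 0x1020002001) (nat_lit 0x102001a019) (nat_lit 0) (nat_lit 0) (nat_lit 2) (nat_lit 0) (nat_lit 0) (nat_lit 11) (nat_lit 1) (nat_lit 0) (nat_lit 4112) (nat_lit 16) (nat_lit 0x100000b00002b) (nat_lit 0x80000000800) (.cD (nat_lit 11) (.kA true (nat_lit 0x33010030058001001010030040001002))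 (.cD (nat_lit 43) (.kA true (nat_lit 0x13010030058001001010030040001002)) .nil))) (.cD (nat_lit 19) (.kS (nat_lit 0) (nat_lit 0x4008010028001063003000002) (nat_lit 0x1013004) (nat_lit 0x8004002005010008004006001) (nat_lit 0x800800000c00801002001901a00106b06b000004008010028001002002004)) (.cD (nat_lit 35) (.dfs (nat_lit 8) (nat_lit 0x100400801002c) (nat_lit 0x100c008010024) (nat_lit 0x1020002001) (nat_lit 0x102001a019) (nat_lit 0) (nat_lit 0) (nat_lit 2) (nat_lit 0) (nat_lit 0) (nat_lit 11) (nat_lit 1) (nat_lit 0) (nat_lit 4112) (nat_lit 16) (nat_lit 0x100000b00002b) (nat_lit 0x80000000800) (.cD (nat_lit 11) (.cut (nat_lit 0)) (.cD (nat_lit 43) (.iso x53 s142 (nat_lit 0) (nat_lit 0x108004002001000802404a009) (nat_lit 0x8004002001000802404a009) [(nat_lit 0x40020010008024022001001001), (nat_lit 0x4002001000800c03a011003008008000002), (nat_lit 0x10008004002009005001)] (.cut (nat_lit 0))) .nil))) (.cD (nat_lit 51) (.kS (nat_lit 0) (nat_lit 0x4008010028001063003000002)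 (nat_lit 0x1033004) (nat_lit 0x8004002005010008004006001) (nat_lit 0x800800000c00801002001901a00106b06b000004008010028001002002004)) (.cD (nat_lit 67) (.dfs (nat_lit 8) (nat_lit 0x100400801002c) (nat_lit 0x100c008010024) (nat_lit 0x1020002001) (nat_lit 0x102001a019) (nat_lit 0) (nat_lit 0) (nat_lit 2) (nat_lit 0) (nat_lit 0) (nat_lit 11) (nat_lit 1) (nat_lit 0) (nat_lit 4112) (nat_lit 16) (nat_lit 0x100000b00002b) (nat_lit 0x80000000800) (.cD (nat_lit 11) (.kA true (nat_lit 0x33010030058001001010030040001002)) (.cD (nat_lit 43) (.kA true (nat_lit 0x13010030058001001010030040001002)) .nil))) (.cD (nat_lit 83) (.kS (nat_lit 0) (nat_lit 0x4008010028001063003000002) (nat_lit 0x1053004) (nat_lit 0x8004002005010008004006001) (nat_lit 0x800800000c00801002001901a00106b06b000004008010028001002002004)) (.cD (nat_lit 99) (.dfs (nat_lit 8) (nat_lit 0x100400801002c) (nat_lit 0x100c008010024) (nat_lit 0x1020002001) (nat_lit 0x102001a019) (nat_lit 0) (nat_lit 0) (nat_lit 2) (nat_lit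 0) (nat_lit 0) (nat_lit 11) (nat_lit 1) (nat_lit 0) (nat_lit 4112) (nat_lit 16) (nat_lit 0x100000b00002b) (nat_lit 0x80000000800) (.cD (nat_lit 11) (.kA true (nat_lit 0x2001303005800106100100001001103006700101001802007f00403301003004e001061001000001020030041001061001000008)) (.cD (nat_lit 43) (.kA true (nat_lit 0x2003303005800100200200001001103006700101001802007f00401301003004e001002002000001020030041001061001000008)) .nil))) (.cD (nat_lit 115) (.kS (nat_lit 0) (nat_lit 0x4008010028001063003000002) (nat_lit 0x1073004) (nat_lit 0x8004002005010008004006001) (nat_lit 0x800800000c00801002001901a00106b06b000004008010028001002002004)) .nil))))))))))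
theorem c143 : (chk [(x53, s142)] [g165] p143).n x53 s143 = true := by decide +kernel
noncomputable def p144 : Pf := (.ext (nat_lit 1) (nat_lit 0) (nat_lit 0x1080060040008) (nat_lit 0x20010008004001001) (nat_lit 0x2003004008) (nat_lit 0x1004002001) (nat_lit 0x1006004005) (nat_lit 0xe00400200500f004006005009004006001) (.dfs (nat_lit 1) (nat_lit 0x1002003004008) (nat_lit 0x1006007004009) (nat_lit 4097) (nat_lit 4097) (nat_lit 4) (nat_lit 0) (nat_lit 2) (nat_lit 1) (nat_lit 0) (nat_lit 5) (nat_lit 1) (nat_lit 0) (nat_lit 0x1080008) (nat_lit 0x80008) (nat_lit 0x1000005001005001065) (nat_lit 32) (.cD (nat_lit 5) (.dfs (nat_lit 2) (nat_lit 0x1004006008010) (nat_lit 0x100c00600801e) (nat_lit 0x1002001) (nat_lit 0x100a001) (nat_lit 0) (nat_lit 0) (nat_lit 2) (nat_lit 1) (nat_lit 0) (nat_lit 4) (nat_lit 1) (nat_lit 0) (nat_lit 4136) (nat_lit 40) (nat_lit 0x1000004) (nat_lit 16) (.cD (nat_lit 4) (.dfs (nat_lit 4) (nat_lit 0x100800c010020) (nat_lit 0x100801c010038) (nat_lit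 0x1004002001) (nat_lit 0x1014002001) (nat_lit 0) (nat_lit 0) (nat_lit 2) (nat_lit 1) (nat_lit 0) (nat_lit 6) (nat_lit 1) (nat_lit 0) (nat_lit 1) (nat_lit 0) (nat_lit 1) (nat_lit 0x40000000000000000000000040) (.cD (nat_lit 6) (.cut (nat_lit 0)) (.cD (nat_lit 102) (.kS (nat_lit 1) (nat_lit 0x10018020040002001) (nat_lit 0x1003066002) (nat_lit 0x800600200901400c00401e00102801000801c002001) (nat_lit 0x18008020040005001023001008010020040004002001001010018020040006023002001003)) .nil))) .nil)) .nil)))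
theorem c144 : (chk [(x53, s143)] [] p144).n x53 s144 = true := by decide +kernel
noncomputable def p145 : Pf := (.anc (nat_lit 144) (nat_lit 0x63003000014002002) (nat_lit 0x100b040020010) (.czp (nat_lit 128) (nat_lit 0) (nat_lit 0x1080040020010008) z3 (.dfs (nat_lit 16) (nat_lit 4097) (nat_lit 4097) (nat_lit 1) (nat_lit 1) (nat_lit 0) (nat_lit 0) (nat_lit 3) (nat_lit 0) (nat_lit 0) (nat_lit 0) (nat_lit 1) (nat_lit 0) (nat_lit 0x1010008) (nat_lit 65544) (nat_lit 0x1001008000010001028000030) (nat_lit 0x1000000010001010100010100) (.cD (nat_lit 8) (.dfs (nat_lit 32) (nat_lit 4098) (nat_lit 4098) (nat_lit 4097) (nat_lit 4097) (nat_lit 0) (nat_lit 0) (nat_lit 3) (nat_lit 0) (nat_lit 0) (nat_lit 0) (nat_lit 1) (nat_lit 0) (nat_lit 1) (nat_lit 0) (nat_lit 1) (nat_lit 0x101000001010000010100000100) (.cD (nat_lit 8) (.kc (nat_lit 48) (nat_lit 0x3001001)) (.cD (nat_lit 32) (.kF (nat_lit 32) (nat_lit 0x61001000001006001002)) (.cD (nat_lit 40) (.kF (nat_lit 32) (nat_lit 0x61001000001006001002))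 (.cD (nat_lit 64) (.kF (nat_lit 16) (nat_lit 0x65005000002007001004004000003)) (.cD (nat_lit 72) (.kF (nat_lit 16) (nat_lit 0x63003000002007001004004000003)) (.cD (nat_lit 96) (.dfs (nat_lit 64) (nat_lit 4100) (nat_lit 4100) (nat_lit 0x1002001) (nat_lit 0x1002001) (nat_lit 0) (nat_lit 0) (nat_lit 3) (nat_lit 0) (nat_lit 0) (nat_lit 0) (nat_lit 1) (nat_lit 0) (nat_lit 1) (nat_lit 0) (nat_lit 1) (nat_lit 0x101000001010000010100000100) (.cD (nat_lit 8) (.kc (nat_lit 80) (nat_lit 0x5001001)) (.cD (nat_lit 32) (.kA false (nat_lit 0x6100100000400100200c001002)) (.cD (nat_lit 40) (.kA false (nat_lit 0x6100100000400100200c001002)) (.cD (nat_lit 64) (.kA false (nat_lit 0x6100100000400100200c001002)) (.cD (nat_lit 72) (.kA false (nat_lit 0x6100100000400100200c001002)) (.cD (nat_lit 96) (.kc (nat_lit 96) (nat_lit 0x3001001)) (.cD (nat_lit 104) (.kc (nat_lit 112) (nat_lit 0x7001001)) .nil)))))))) (.cD (nat_lit 104) (.dfs (nat_lit 64) (nat_lit 4100) (nat_lit 4100) (nat_lit 0x1002001)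 (nat_lit 0x1002001) (nat_lit 0) (nat_lit 0) (nat_lit 3) (nat_lit 0) (nat_lit 0) (nat_lit 0) (nat_lit 1) (nat_lit 0) (nat_lit 1) (nat_lit 0) (nat_lit 1) (nat_lit 0x101000001010000010100000100) (.cD (nat_lit 8) (.kc (nat_lit 80) (nat_lit 0x5001001)) (.cD (nat_lit 32) (.kA false (nat_lit 0x6100100000400100200c001002)) (.cD (nat_lit 40) (.kA false (nat_lit 0x6100100000400100200c001002)) (.cD (nat_lit 64) (.kA false (nat_lit 0x6100100000400100200c001002)) (.cD (nat_lit 72) (.kA false (nat_lit 0x6100100000400100200c001002)) (.cD (nat_lit 96) (.kc (nat_lit 112) (nat_lit 0x7001001)) (.cD (nat_lit 104) (.kc (nat_lit 96) (nat_lit 0x3001001)) .nil)))))))) .nil)))))))) (.cD (nat_lit 16) (.dfs (nat_lit 32) (nat_lit 4098) (nat_lit 4098) (nat_lit 4097) (nat_lit 4097) (nat_lit 0) (nat_lit 0) (nat_lit 3) (nat_lit 0) (nat_lit 0) (nat_lit 0) (nat_lit 1) (nat_lit 0) (nat_lit 1) (nat_lit 0) (nat_lit 1) (nat_lit 0x10001000100010001000100010000) (.cD (nat_lit 16) (.kc (nat_lit 48) (nat_lit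 0x3001001)) (.cD (nat_lit 32) (.dfs (nat_lit 64) (nat_lit 4100) (nat_lit 4100) (nat_lit 0x1002001) (nat_lit 0x1002001) (nat_lit 0) (nat_lit 0) (nat_lit 3) (nat_lit 0) (nat_lit 0) (nat_lit 0) (nat_lit 1) (nat_lit 0) (nat_lit 1) (nat_lit 0) (nat_lit 1) (nat_lit 0x10001000100010001000100010000) (.cD (nat_lit 16) (.kc (nat_lit 80) (nat_lit 0x5001001)) (.cD (nat_lit 32) (.kc (nat_lit 96) (nat_lit 0x3001001)) (.cD (nat_lit 48) (.kc (nat_lit 112) (nat_lit 0x7001001)) (.cD (nat_lit 64) (.dfs (nat_lit 11) (nat_lit 0x1004001002008) (nat_lit 0x1005001002008) (nat_lit 1) (nat_lit 1) (nat_lit 0) (nat_lit 0) (nat_lit 2) (nat_lit 0) (nat_lit 0) (nat_lit 8) (nat_lit 1) (nat_lit 0) (nat_lit 4112) (nat_lit 16) (nat_lit 0x10000880000a8) (nat_lit 0x1000000010000000000000000000000000000000000) (.cD (nat_lit 136) (.kb (nat_lit 11) (nat_lit 0x1061000001001002) (nat_lit 0x104002009000c006001)) (.cD (nat_lit 168) (.kb (nat_lit 43) (nat_lit 0x1061000005001002) (nat_lit 0x104002009000c002005))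 .nil))) (.cD (nat_lit 80) (.dfs (nat_lit 11) (nat_lit 4103) (nat_lit 4102) (nat_lit 1) (nat_lit 1) (nat_lit 0) (nat_lit 0) (nat_lit 1) (nat_lit 4192) (nat_lit 0x80040020010008004002061) (nat_lit 0) (nat_lit 1) (nat_lit 0) (nat_lit 1) (nat_lit 0) (nat_lit 1) (nat_lit 0) .nil) (.cD (nat_lit 96) (.kA false (nat_lit 0x5004002008001002004008014003063003000003)) (.cD (nat_lit 112) (.kA false (nat_lit 0x5004002008001002004008014003063003000003)) .nil)))))))) (.cD (nat_lit 48) (.dfs (nat_lit 64) (nat_lit 4100) (nat_lit 4100) (nat_lit 0x1002001) (nat_lit 0x1002001) (nat_lit 0) (nat_lit 0) (nat_lit 3) (nat_lit 0) (nat_lit 0) (nat_lit 0) (nat_lit 1) (nat_lit 0) (nat_lit 1) (nat_lit 0) (nat_lit 1) (nat_lit 0x10001000100010001000100010000) (.cD (nat_lit 16) (.kc (nat_lit 80) (nat_lit 0x5001001)) (.cD (nat_lit 32) (.kc (nat_lit 112) (nat_lit 0x7001001)) (.cD (nat_lit 48) (.kc (nat_lit 96) (nat_lit 0x3001001)) (.cD (nat_lit 64) (.kA false (nat_lit 0x400400000400100200e001004004000003))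 (.cD (nat_lit 80) (.kA false (nat_lit 0x400400000400100200e001004004000003)) (.cD (nat_lit 96) (.kA false (nat_lit 0x400400000400100200e001004004000003)) (.cD (nat_lit 112) (.kA false (nat_lit 0x400400000400100200e001004004000003)) .nil)))))))) (.cD (nat_lit 64) (.kF (nat_lit 16) (nat_lit 0x3006002008008000002007001004004000004)) (.cD (nat_lit 80) (.kF (nat_lit 32) (nat_lit 0x63003000001007001004004000003)) (.cD (nat_lit 96) (.dfs (nat_lit 64) (nat_lit 4100) (nat_lit 4100) (nat_lit 0x1002001) (nat_lit 0x1002001) (nat_lit 0) (nat_lit 0) (nat_lit 3) (nat_lit 0) (nat_lit 0) (nat_lit 0) (nat_lit 1) (nat_lit 0) (nat_lit 1) (nat_lit 0) (nat_lit 1) (nat_lit 0x10001000100010001000100010000) (.cD (nat_lit 16) (.kc (nat_lit 80) (nat_lit 0x5001001)) (.cD (nat_lit 32) (.kA false (nat_lit 0x400200300800100400100200c001002)) (.cD (nat_lit 48) (.kA false (nat_lit 0x400600300800100400100200c001002)) (.cD (nat_lit 64) (.kA false (nat_lit 0x5004002008001002004008014003063003000003))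 (.cD (nat_lit 80) (.kA false (nat_lit 0x400500300800100400100200c001002)) (.cD (nat_lit 96) (.kc (nat_lit 96) (nat_lit 0x3001001)) (.cD (nat_lit 112) (.kc (nat_lit 112) (nat_lit 0x7001001)) .nil)))))))) (.cD (nat_lit 112) (.dfs (nat_lit 64) (nat_lit 4100) (nat_lit 4100) (nat_lit 0x1002001) (nat_lit 0x1002001) (nat_lit 0) (nat_lit 0) (nat_lit 3) (nat_lit 0) (nat_lit 0) (nat_lit 0) (nat_lit 1) (nat_lit 0) (nat_lit 1) (nat_lit 0) (nat_lit 1) (nat_lit 0x10001000100010001000100010000) (.cD (nat_lit 16) (.kc (nat_lit 80) (nat_lit 0x5001001)) (.cD (nat_lit 32) (.kA false (nat_lit 0x400200700800100400100200c001002)) (.cD (nat_lit 48) (.kA false (nat_lit 0x400600700800100400100200c001002)) (.cD (nat_lit 64) (.kA false (nat_lit 0x5004002008001002004008014003063003000003)) (.cD (nat_lit 80) (.kA false (nat_lit 0x400500700800100400100200c001002)) (.cD (nat_lit 96) (.kc (nat_lit 112) (nat_lit 0x7001001)) (.cD (nat_lit 112) (.kc (nat_lit 96) (nat_lit 0x3001001)) .nil))))))))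 .nil)))))))) (.cD (nat_lit 32) (.kF (nat_lit 16) (nat_lit 0x4004000001003001002)) (.cD (nat_lit 40) (.kF (nat_lit 16) (nat_lit 0x2002000001003001002)) (.cD (nat_lit 48) (.kF (nat_lit 16) (nat_lit 0x6300300000c014004004004000001003001004)) (.cD (nat_lit 64) (.dfs (nat_lit 32) (nat_lit 4098) (nat_lit 4098) (nat_lit 4097) (nat_lit 4097) (nat_lit 0) (nat_lit 0) (nat_lit 3) (nat_lit 0) (nat_lit 0) (nat_lit 0) (nat_lit 1) (nat_lit 0) (nat_lit 0x1010008) (nat_lit 65544) (nat_lit 0x1001008000010001028000030) (nat_lit 0x1000000010001010100010100) (.cD (nat_lit 8) (.kF (nat_lit 16) (nat_lit 0x65005000002007001004004000003)) (.cD (nat_lit 16) (.kF (nat_lit 32) (nat_lit 0x63003000001006001002)) (.cD (nat_lit 32) (.dfs (nat_lit 64) (nat_lit 4100) (nat_lit 4100) (nat_lit 0x1002001) (nat_lit 0x1002001) (nat_lit 0) (nat_lit 0) (nat_lit 3) (nat_lit 0) (nat_lit 0) (nat_lit 0) (nat_lit 1) (nat_lit 0) (nat_lit 0x1010008) (nat_lit 65544) (nat_lit 0x1001008000010001028000030) (nat_lit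 0x1000000010001010100010100) (.cD (nat_lit 8) (.kA false (nat_lit 0x6300300000400100200c001002)) (.cD (nat_lit 16) (.dfs (nat_lit 11) (nat_lit 4102) (nat_lit 4103) (nat_lit 1) (nat_lit 1) (nat_lit 0) (nat_lit 0) (nat_lit 1) (nat_lit 4192) (nat_lit 0x80040020010008004002061) (nat_lit 0) (nat_lit 1) (nat_lit 0) (nat_lit 1) (nat_lit 0) (nat_lit 1) (nat_lit 0) .nil) (.cD (nat_lit 32) (.kc (nat_lit 96) (nat_lit 0x3001001)) (.cD (nat_lit 40) (.kA false (nat_lit 0x6300300000400100200c001002)) (.cD (nat_lit 48) (.kA false (nat_lit 0x300400200c002063003000002)) (.cD (nat_lit 64) (.kc (nat_lit 80) (nat_lit 0x5001001)) (.cD (nat_lit 96) (.kc (nat_lit 112) (nat_lit 0x7001001)) .nil)))))))) (.cD (nat_lit 40) (.kF (nat_lit 32) (nat_lit 0x63003000001006001002)) (.cD (nat_lit 48) (.dfs (nat_lit 64) (nat_lit 4100) (nat_lit 4100) (nat_lit 0x1002001) (nat_lit 0x1002001) (nat_lit 0) (nat_lit 0) (nat_lit 3) (nat_lit 0) (nat_lit 0) (nat_lit 0) (nat_lit 1) (nat_lit 0) (nat_lit 1) (nat_lit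 0) (nat_lit 1) (nat_lit 0x10001000100010001000100010000) (.cD (nat_lit 16) (.kA false (nat_lit 0x100400300c002063003000002)) (.cD (nat_lit 32) (.kA false (nat_lit 0x300400100c002063003000002)) (.cD (nat_lit 48) (.kc (nat_lit 96) (nat_lit 0x3001001)) (.cD (nat_lit 64) (.kc (nat_lit 80) (nat_lit 0x5001001)) (.cD (nat_lit 80) (.kA false (nat_lit 0x500400700c002063003000002)) (.cD (nat_lit 96) (.kA false (nat_lit 0x700400500c002063003000002)) (.cD (nat_lit 112) (.kc (nat_lit 112) (nat_lit 0x7001001)) .nil)))))))) (.cD (nat_lit 64) (.kc (nat_lit 48) (nat_lit 0x3001001)) (.cD (nat_lit 96) (.dfs (nat_lit 64) (nat_lit 4100) (nat_lit 4100) (nat_lit 0x1002001) (nat_lit 0x1002001) (nat_lit 0) (nat_lit 0) (nat_lit 3) (nat_lit 0) (nat_lit 0) (nat_lit 0) (nat_lit 1) (nat_lit 0) (nat_lit 0x1010008) (nat_lit 65544) (nat_lit 0x1001008000010001028000030) (nat_lit 0x1000000010001010100010100) (.cD (nat_lit 8) (.kA false (nat_lit 0x400400000400100200e001004004000003)) (.cD (nat_lit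 16) (.kA false (nat_lit 0x100400600c002063003000002)) (.cD (nat_lit 32) (.kc (nat_lit 112) (nat_lit 0x7001001)) (.cD (nat_lit 40) (.kA false (nat_lit 0x400400000400100200e001004004000003)) (.cD (nat_lit 48) (.kA false (nat_lit 0x700400600c002063003000002)) (.cD (nat_lit 64) (.kc (nat_lit 80) (nat_lit 0x5001001)) (.cD (nat_lit 96) (.kc (nat_lit 96) (nat_lit 0x3001001)) .nil)))))))) .nil)))))))) (.cD (nat_lit 96) (.kF (nat_lit 16) (nat_lit 0x67007000001003001002)) .nil))))))))))
theorem c145 : (chk [] [] p145).n x85 s145 = true := by decide +kernel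
noncomputable def p146 : Pf := (.clm (.cut (nat_lit 0)) (.dfs (nat_lit 64) (nat_lit 1) (nat_lit 1) (nat_lit 1) (nat_lit 1) (nat_lit 0) (nat_lit 0) (nat_lit 0) (nat_lit 0) (nat_lit 0) (nat_lit 0) (nat_lit 1) (nat_lit 0) (nat_lit 0x1004002001) (nat_lit 0x4002001) (nat_lit 0x100004000104000004400104400004800104800204800105400106000107e00207e00205800205e) (nat_lit 0x1110000000000000000) (.cD (nat_lit 64) (.kin (nat_lit 1) (nat_lit 0)) (.cD (nat_lit 68) (.czp (nat_lit 68) (nat_lit 0x1002001) (nat_lit 0x104002001000400a) z2 (.dfs (nat_lit 32) (nat_lit 4097) (nat_lit 4097) (nat_lit 1) (nat_lit 1) (nat_lit 0) (nat_lit 0) (nat_lit 3) (nat_lit 0) (nat_lit 0) (nat_lit 0) (nat_lit 0x104000e00a004) (nat_lit 1) (nat_lit 1) (nat_lit 0) (nat_lit 1) (nat_lit 0x1000100010000) (.cD (nat_lit 16) (.dfs (nat_lit 16) (nat_lit 4098) (nat_lit 4098) (nat_lit 4097) (nat_lit 4097) (nat_lit 0) (nat_lit 0) (nat_lit 3) (nat_lit 0) (nat_lit 0) (nat_lit 0) (nat_lit 0x104000e00a004) (nat_lit 2)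 (nat_lit 1) (nat_lit 0) (nat_lit 1) (nat_lit 0x1000100010000) (.cD (nat_lit 16) (.kc (nat_lit 48) (nat_lit 0x3001001)) (.cD (nat_lit 32) (.dfs (nat_lit 8) (nat_lit 4100) (nat_lit 4100) (nat_lit 0x1002001) (nat_lit 0x1002001) (nat_lit 0) (nat_lit 0) (nat_lit 3) (nat_lit 0) (nat_lit 0) (nat_lit 0) (nat_lit 1) (nat_lit 0) (nat_lit 0x100400a) (nat_lit 16394) (nat_lit 0x100000400100a00002400102a) (nat_lit 0x1041100010410) (.cD (nat_lit 4) (.kA false (nat_lit 0x700400200800200200200000100400200a001002002000004)) (.cD (nat_lit 10) (.dfs (nat_lit 4) (nat_lit 0x100100400200c) (nat_lit 0x100500400200c) (nat_lit 4104) (nat_lit 4104) (nat_lit 0) (nat_lit 0) (nat_lit 2) (nat_lit 0) (nat_lit 0x1001000001) (nat_lit 4) (nat_lit 1) (nat_lit 0) (nat_lit 4222) (nat_lit 126) (nat_lit 0x1000004000024) (nat_lit 0x1000000010) (.cD (nat_lit 4) (.dfs (nat_lit 2) (nat_lit 0x100100400c011) (nat_lit 0x100d00400c019) (nat_lit 0x1010008002) (nat_lit 0x1014008002) (nat_lit 0) (nat_lit 0) (nat_lit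 2) (nat_lit 1) (nat_lit 0) (nat_lit 2) (nat_lit 1) (nat_lit 0) (nat_lit 4196) (nat_lit 100) (nat_lit 0x1000002000012) (nat_lit 0x40004) (.cD (nat_lit 2) (.dfs (nat_lit 1) (nat_lit 0x1005008010022) (nat_lit 0x1004010008030) (nat_lit 0x1020004002001) (nat_lit 0x102a00501a001) (nat_lit 0) (nat_lit 0) (nat_lit 2) (nat_lit 0) (nat_lit 0) (nat_lit 1) (nat_lit 1) (nat_lit 0) (nat_lit 4112) (nat_lit 16) (nat_lit 0x1000001) (nat_lit 2) (.cD (nat_lit 1) (.extn a68 (nat_lit 0x40020010008004002001) (nat_lit 0x1008020010040) (nat_lit 2) (nat_lit 0) (nat_lit 0) (nat_lit 0) (nat_lit 0x1000000000001) (.cE (nat_lit 0) b164 (nat_lit 0) (.cut (nat_lit 5)) (.cut (nat_lit 6)) (.cE (nat_lit 48) b165 (nat_lit 0) (.cut (nat_lit 7)) (.cut (nat_lit 8)) .nil))) .nil)) (.cD (nat_lit 18) (.kA false (nat_lit 0x5008010022001004010008020001002)) .nil))) (.cD (nat_lit 36) (.kA true (nat_lit 0xd00400c015001001001000002)) .nil))) (.cD (nat_lit 16) (.kc (nat_lit 40) (nat_lit 0x5001001)) (.cD (nat_lit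 32) (.kc (nat_lit 24) (nat_lit 0x3001001)) (.cD (nat_lit 36) (.kA false (nat_lit 0x700400200800200200200000100400200a001002002000004)) (.cD (nat_lit 42) (.dfs (nat_lit 4) (nat_lit 0x100300400200c) (nat_lit 0x100700400200c) (nat_lit 0x1008001) (nat_lit 0x1008005) (nat_lit 0) (nat_lit 0) (nat_lit 2) (nat_lit 0) (nat_lit 0x1001000001) (nat_lit 4) (nat_lit 1) (nat_lit 0) (nat_lit 4222) (nat_lit 126) (nat_lit 0x1000004000024) (nat_lit 0x1000000010) (.cD (nat_lit 4) (.dfs (nat_lit 2) (nat_lit 0x100100400c011) (nat_lit 0x100d00400c019) (nat_lit 0x1010008002) (nat_lit 0x1014008002) (nat_lit 0) (nat_lit 0) (nat_lit 2) (nat_lit 1) (nat_lit 0) (nat_lit 2) (nat_lit 1) (nat_lit 0) (nat_lit 4196) (nat_lit 100) (nat_lit 0x1000002000012) (nat_lit 0x40004) (.cD (nat_lit 2) (.kA false (nat_lit 0x15008010022001004010008020001002)) (.cD (nat_lit 18) (.dfs (nat_lit 1) (nat_lit 0x101d008010022) (nat_lit 0x101c010008030) (nat_lit 0x1020004002001) (nat_lit 0x102a00501a001) (nat_lit 0)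 (nat_lit 0) (nat_lit 2) (nat_lit 0) (nat_lit 0) (nat_lit 5) (nat_lit 1) (nat_lit 0) (nat_lit 4112) (nat_lit 16) (nat_lit 0x1000015) (nat_lit 0x200000) (.cD (nat_lit 21) (.extn a72 (nat_lit 0x40020010008004002001) (nat_lit 0x1008020010040) (nat_lit 2) (nat_lit 0) (nat_lit 0) (nat_lit 4) (nat_lit 0x10000000000010) (.cE (nat_lit 4) b172 (nat_lit 0) (.cut (nat_lit 1)) (.cut (nat_lit 2)) (.cE (nat_lit 52) b173 (nat_lit 0) (.cut (nat_lit 3)) (.cut (nat_lit 4)) .nil))) .nil)) .nil))) (.cD (nat_lit 36) (.kA true (nat_lit 0xd00400c015001001001000002)) .nil))) (.cD (nat_lit 48) (.kc (nat_lit 56) (nat_lit 0x7001001)) .nil)))))))) (.cD (nat_lit 48) (.dfs (nat_lit 8) (nat_lit 4100) (nat_lit 4100) (nat_lit 0x1002001) (nat_lit 0x1002001) (nat_lit 0) (nat_lit 0) (nat_lit 3) (nat_lit 0) (nat_lit 0) (nat_lit 0) (nat_lit 1) (nat_lit 0) (nat_lit 0x100400a) (nat_lit 16394) (nat_lit 0x100000400100a00002400102a) (nat_lit 0x1041100010410) (.cD (nat_lit 4) (.kA false (nat_lit 0x300300000100400200a001002002000003))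 (.cD (nat_lit 10) (.kA false (nat_lit 0x200200000100400600a002003003000003)) (.cD (nat_lit 16) (.kc (nat_lit 40) (nat_lit 0x5001001)) (.cD (nat_lit 32) (.kc (nat_lit 56) (nat_lit 0x7001001)) (.cD (nat_lit 36) (.kA false (nat_lit 0x300300000100400200a001002002000003)) (.cD (nat_lit 42) (.kA false (nat_lit 0x200200000700400600a002003003000003)) (.cD (nat_lit 48) (.kc (nat_lit 24) (nat_lit 0x3001001)) .nil)))))))) .nil)))) (.cD (nat_lit 32) (.dfs (nat_lit 16) (nat_lit 4098) (nat_lit 4098) (nat_lit 4097) (nat_lit 4097) (nat_lit 0) (nat_lit 0) (nat_lit 3) (nat_lit 0) (nat_lit 0) (nat_lit 0) (nat_lit 0x104000e00a004) (nat_lit 2) (nat_lit 1) (nat_lit 0) (nat_lit 1) (nat_lit 0x1000100010000) (.cD (nat_lit 16) (.kF (nat_lit 16) (nat_lit 0x2002000002005002001001000003)) (.cD (nat_lit 32) (.kc (nat_lit 48) (nat_lit 0x3001001)) (.cD (nat_lit 48) (.kF (nat_lit 16) (nat_lit 0x2002000002005002003003000003)) .nil)))) (.cD (nat_lit 48) (.dfs (nat_lit 16) (nat_lit 4098) (nat_lit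 4098) (nat_lit 4097) (nat_lit 4097) (nat_lit 0) (nat_lit 0) (nat_lit 3) (nat_lit 0) (nat_lit 0) (nat_lit 0) (nat_lit 0x104000e00a004) (nat_lit 2) (nat_lit 1) (nat_lit 0) (nat_lit 1) (nat_lit 0x1000100010000) (.cD (nat_lit 16) (.kF (nat_lit 32) (nat_lit 0x2002000001005002001001000003)) (.cD (nat_lit 32) (.dfs (nat_lit 8) (nat_lit 4100) (nat_lit 4100) (nat_lit 0x1002001) (nat_lit 0x1002001) (nat_lit 0) (nat_lit 0) (nat_lit 3) (nat_lit 0) (nat_lit 0) (nat_lit 0) (nat_lit 1) (nat_lit 0) (nat_lit 0x100400a) (nat_lit 16394) (nat_lit 0x100000400100a00002400102a) (nat_lit 0x1041100010410) (.cD (nat_lit 4) (.kA false (nat_lit 0x300400200800200800800000100400200a001002002000004)) (.cD (nat_lit 10) (.kA false (nat_lit 0x7004002008002004004000001004002008001003)) (.cD (nat_lit 16) (.kc (nat_lit 56) (nat_lit 0x7001001)) (.cD (nat_lit 32) (.kc (nat_lit 24) (nat_lit 0x3001001)) (.cD (nat_lit 36) (.kA false (nat_lit 0x300400200800200800800000100400200a001002002000004)) (.cD (nat_lit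 42) (.kA false (nat_lit 0x7004002008002004004000001004002008001003)) (.cD (nat_lit 48) (.kc (nat_lit 40) (nat_lit 0x5001001)) .nil)))))))) (.cD (nat_lit 48) (.kc (nat_lit 48) (nat_lit 0x3001001)) .nil)))) .nil))))) (.cD (nat_lit 72) (.kn (nat_lit 1) (nat_lit 0x1040020010008004) false (nat_lit 0x1004002001) (nat_lit 0x4002001) (nat_lit 0x100004800104800204800107e)) .nil)))))
theorem c146 : (chk [(x5, s3), (x47, s79), (x48, s80), (x49, s86), (x50, s87), (x51, s88), (x52, s89), (x53, s144), (x85, s145)] [] p146).n x5 s146 = true := by decide +kernel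
noncomputable def p147 : Pf := (.ext (nat_lit 1) (nat_lit 0) (nat_lit 0x1040030020004) (nat_lit 0x1002004008003001) (nat_lit 0x2003004008) (nat_lit 0x1002001) (nat_lit 0x1003002) (nat_lit 0xe00400200500f004006005) (.dfs (nat_lit 1) (nat_lit 0x1002003004008) (nat_lit 0x100600300400f) (nat_lit 4097) (nat_lit 4101) (nat_lit 0) (nat_lit 0) (nat_lit 2) (nat_lit 1) (nat_lit 0) (nat_lit 2) (nat_lit 1) (nat_lit 0) (nat_lit 0x1040004) (nat_lit 0x40004) (nat_lit 0x1000002001002001032) (nat_lit 4) (.cD (nat_lit 2) (.dfs (nat_lit 2) (nat_lit 0x1004006008010) (nat_lit 0x100400e00801c) (nat_lit 0x1002001) (nat_lit 0x100a001) (nat_lit 0) (nat_lit 0) (nat_lit 2) (nat_lit 1) (nat_lit 0) (nat_lit 3) (nat_lit 1) (nat_lit 0) (nat_lit 4112) (nat_lit 16) (nat_lit 0x1000003) (nat_lit 8) (.cD (nat_lit 3) (.cut (nat_lit 0)) .nil)) .nil)))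
theorem c147 : (chk [(x5, s146)] [] p147).n x5 s147 = true := by decide +kernel
noncomputable def p148 : Pf := (.lft (nat_lit 0x20008018001004002001001) (nat_lit 0) (nat_lit 0x1028020) (nat_lit 0x20010008004002001) (.extn a67 (nat_lit 0x20010008004002001) (nat_lit 0x1004010008020) (nat_lit 2) (nat_lit 0) (nat_lit 0) (nat_lit 0) (nat_lit 0x1000001) (.cE (nat_lit 0) b163 t163 (.cut (nat_lit 0)) (.cut (nat_lit 1)) (.cE (nat_lit 24) (nat_lit 0x3c03d03e03f03103002b02a02c02d02e02f02102003b03a03403503603703903802302202402502602702902803303200600700400501b01a00100001601701401500b00a01101000e00f00c00d01301200900801e01f01c01d003002019018) (nat_lit 0) (.iso x5 s147 (nat_lit 0) (nat_lit 0x1040020010008004002011) (nat_lit 0x40020010008004002011) [(nat_lit 0x10008004002001005001), (nat_lit 0x8004002001007001)] (.cut (nat_lit 0))) (.iso x46 s77 (nat_lit 0) (nat_lit 0x1040020010008004002011) (nat_lit 0x40020010008004002011) [(nat_lit 0x8004002001007001)] (.cut (nat_lit 1))) .nil))))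
theorem c148 : (chk [(x5, s147), (x46, s77)] [g163] p148).n x3 s148 = true := by decide +kernel
noncomputable def p149 : Pf := (.ext (nat_lit 1) (nat_lit 0) (nat_lit 0x1020018010002) (nat_lit 0xf00200600a004001001000001002004008003003) (nat_lit 0x500600400f) (nat_lit 0x1004001) (nat_lit 0x1005001) (nat_lit 0x800400200300e004002005) (.dfs (nat_lit 1) (nat_lit 0x100500600400f) (nat_lit 0x100100600400d) (nat_lit 0x1008002001) (nat_lit 0x100e002005) (nat_lit 0) (nat_lit 0) (nat_lit 2) (nat_lit 1) (nat_lit 0) (nat_lit 1) (nat_lit 1) (nat_lit 0) (nat_lit 0x1020002) (nat_lit 0x20002) (nat_lit 0x1000001001001001019) (nat_lit 2) (.cD (nat_lit 1) (.dfs (nat_lit 4) (nat_lit 0x100a00c00801e) (nat_lit 0x100e00c00801a) (nat_lit 0x1010004002001) (nat_lit 0x1010004006001) (nat_lit 0) (nat_lit 0) (nat_lit 2) (nat_lit 1) (nat_lit 0) (nat_lit 5) (nat_lit 1) (nat_lit 0) (nat_lit 1) (nat_lit 0) (nat_lit 1) (nat_lit 0x20202020) (.cD (nat_lit 5) (.cut (nat_lit 1)) (.cD (nat_lit 13) (.kA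 false (nat_lit 0x1b01800803c001001008018020001002)) (.cD (nat_lit 21) (.kA false (nat_lit 0xb01800803c001001008018020001002)) (.cD (nat_lit 29) (.cut (nat_lit 0)) .nil))))) .nil)))
theorem c149 : (chk [(x3, s78), (x3, s148)] [] p149).n x3 s149 = true := by decide +kernel
noncomputable def p150 : Pf := (.ext (nat_lit 0) (nat_lit 0) (nat_lit 0x1020008010004) (nat_lit 0x1002004008001001) (nat_lit 0x2003004008) (nat_lit 4097) (nat_lit 4097) (nat_lit 0xc004002001) (.dfs (nat_lit 1) (nat_lit 0x1002003004008) (nat_lit 0x100200300400c) (nat_lit 4097) (nat_lit 4097) (nat_lit 0) (nat_lit 0) (nat_lit 2) (nat_lit 0) (nat_lit 0) (nat_lit 1) (nat_lit 1) (nat_lit 0) (nat_lit 4128) (nat_lit 32) (nat_lit 0x1000001000005000011000015) (nat_lit 0x220022) (.cD (nat_lit 1) (.kS (nat_lit 0) (nat_lit 0x2006008010002002002000002) (nat_lit 4125) (nat_lit 0x8004002003) (nat_lit 0x200200000200400801000100100200200000200600801000f001004)) (.cD (nat_lit 5) (.cut (nat_lit 0)) (.cD (nat_lit 17)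 (.iso x3 s149 (nat_lit 0) (nat_lit 0x1020010008004002011) (nat_lit 0x20010008004002011) [(nat_lit 0x10008004002005001001), (nat_lit 0x8004002001005001)] (.cut (nat_lit 0))) (.cD (nat_lit 21) (.kS (nat_lit 0) (nat_lit 0x2006008010002002002000002) (nat_lit 4121) (nat_lit 0x8004002003) (nat_lit 0x200200000200400801000100100200200000200600801000d001004)) .nil))))))
theorem c150 : (chk [(x3, s149)] [g162] p150).n x3 s150 = true := by decide +kernel
noncomputable def p151 : Pf := (.anc (nat_lit 42) (nat_lit 0x100100000f001002) (nat_lit 0x1005010008002) (.dfs (nat_lit 2) (nat_lit 1) (nat_lit 1) (nat_lit 4097) (nat_lit 4097) (nat_lit 0) (nat_lit 0) (nat_lit 0) (nat_lit 0) (nat_lit 0) (nat_lit 0) (nat_lit 1) (nat_lit 0) (nat_lit 0x1004002) (nat_lit 16386) (nat_lit 0x100100200000400100a00000c) (nat_lit 0x1011514) (.cD (nat_lit 2) (.kF (nat_lit 26) (nat_lit 0x100200100800f004005005000003)) (.cD (nat_lit 4) (.kF (nat_lit 26) (nat_lit 0x100200100800f004005005000003)) (.cD (nat_lit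 8) (.dfs (nat_lit 8) (nat_lit 1) (nat_lit 1) (nat_lit 0x1002001) (nat_lit 0x1002001) (nat_lit 0) (nat_lit 0) (nat_lit 0) (nat_lit 0) (nat_lit 0) (nat_lit 0) (nat_lit 1) (nat_lit 0) (nat_lit 0x1004002) (nat_lit 16386) (nat_lit 0x100100200000400100a00000c) (nat_lit 0x1011514) (.cD (nat_lit 2) (.czs (nat_lit 2) z1 (nat_lit 16) (.dfs (nat_lit 16) (nat_lit 4097) (nat_lit 4097) (nat_lit 0x1004002) (nat_lit 0x1004002) (nat_lit 0) (nat_lit 0) (nat_lit 3) (nat_lit 0) (nat_lit 0) (nat_lit 0) (nat_lit 1) (nat_lit 0) (nat_lit 1) (nat_lit 0) (nat_lit 1) (nat_lit 0x5050504) (.cD (nat_lit 2) (.kc (nat_lit 24) (nat_lit 0x3001001)) (.cD (nat_lit 8) (.kc (nat_lit 18) (nat_lit 0x5001001)) (.cD (nat_lit 10) (.kc (nat_lit 26) (nat_lit 0x7001001)) (.cD (nat_lit 16) (.kA true (nat_lit 0x100100000700100300c001001001000003)) (.cD (nat_lit 18) (.kA true (nat_lit 0x200500100800100400100300e001002)) (.cD (nat_lit 24) (.kA true (nat_lit 0x200300700800100400100300e001002)) (.cD (nat_lit 26)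 (.dfs (nat_lit 5) (nat_lit 4100) (nat_lit 4102) (nat_lit 1) (nat_lit 1) (nat_lit 0) (nat_lit 0) (nat_lit 1) (nat_lit 4104) (nat_lit 0x20010008004002001) (nat_lit 0) (nat_lit 1) (nat_lit 0) (nat_lit 1) (nat_lit 0) (nat_lit 1) (nat_lit 0) .nil) .nil))))))))) (.cD (nat_lit 4) (.kF (nat_lit 2) (nat_lit 0x1001000003006001005005000003)) (.cD (nat_lit 8) (.kc (nat_lit 10) (nat_lit 0x3001001)) (.cD (nat_lit 10) (.kF (nat_lit 2) (nat_lit 0x100400100600f004001001000003)) (.cD (nat_lit 12) (.kF (nat_lit 2) (nat_lit 0x100400100600f004001001000003)) (.cD (nat_lit 16) (.kF (nat_lit 2) (nat_lit 0x1001000003006001005005000003)) (.cD (nat_lit 24) (.kF (nat_lit 2) (nat_lit 0x100400100600f004001001000003)) .nil)))))))) (.cD (nat_lit 10) (.czs (nat_lit 10) z1 (nat_lit 16) (.dfs (nat_lit 8) (nat_lit 4097) (nat_lit 4097) (nat_lit 4098) (nat_lit 4098) (nat_lit 0) (nat_lit 0) (nat_lit 3) (nat_lit 0) (nat_lit 0) (nat_lit 0) (nat_lit 1) (nat_lit 0) (nat_lit 1) (nat_lit 0) (nat_lit 1) (nat_lit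 0x5050504) (.cD (nat_lit 2) (.dfs (nat_lit 16) (nat_lit 4098) (nat_lit 4098) (nat_lit 0x1004001) (nat_lit 0x1004001) (nat_lit 0) (nat_lit 0) (nat_lit 3) (nat_lit 0) (nat_lit 0) (nat_lit 0) (nat_lit 1) (nat_lit 0) (nat_lit 1) (nat_lit 0) (nat_lit 1) (nat_lit 0x5050504) (.cD (nat_lit 2) (.kc (nat_lit 24) (nat_lit 0x3001001)) (.cD (nat_lit 8) (.kc (nat_lit 26) (nat_lit 0x7001001)) (.cD (nat_lit 10) (.kc (nat_lit 18) (nat_lit 0x5001001)) (.cD (nat_lit 16) (.kA true (nat_lit 0x500100700e002001001000002)) (.cD (nat_lit 18) (.kA true (nat_lit 0x700300500e002001001000002)) (.cD (nat_lit 24) (.kA true (nat_lit 0x300700100e002001001000002)) (.cD (nat_lit 26) (.dfs (nat_lit 5) (nat_lit 4102) (nat_lit 4100) (nat_lit 1) (nat_lit 1) (nat_lit 0) (nat_lit 0) (nat_lit 1) (nat_lit 4104) (nat_lit 0x20010008004002001) (nat_lit 0) (nat_lit 1) (nat_lit 0) (nat_lit 1) (nat_lit 0) (nat_lit 1) (nat_lit 0) .nil) .nil)))))))) (.cD (nat_lit 8) (.kF (nat_lit 2) (nat_lit 0x100400100600f004001001000003))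 (.cD (nat_lit 10) (.kc (nat_lit 10) (nat_lit 0x3001001)) (.cD (nat_lit 16) (.dfs (nat_lit 16) (nat_lit 4098) (nat_lit 4098) (nat_lit 0x1004001) (nat_lit 0x1004001) (nat_lit 0) (nat_lit 0) (nat_lit 3) (nat_lit 0) (nat_lit 0) (nat_lit 0) (nat_lit 1) (nat_lit 0) (nat_lit 1) (nat_lit 0) (nat_lit 1) (nat_lit 0x5050504) (.cD (nat_lit 2) (.kA true (nat_lit 0x300400500800100700100300c001001001000003)) (.cD (nat_lit 8) (.dfs (nat_lit 5) (nat_lit 0x1005002003008) (nat_lit 0x1007002003008) (nat_lit 0x1004001) (nat_lit 0x1006001) (nat_lit 0) (nat_lit 0) (nat_lit 2) (nat_lit 1) (nat_lit 0) (nat_lit 4) (nat_lit 1) (nat_lit 0) (nat_lit 4098) (nat_lit 2) (nat_lit 0x100002400002c) (nat_lit 0x101000000000) (.cD (nat_lit 36) (.kA false (nat_lit 0x13004002010001001001000011004002012002001001000004)) (.cD (nat_lit 44) (.kA false (nat_lit 0x11004002010001001001000013004002012002001001000004)) .nil))) (.cD (nat_lit 10) (.kc (nat_lit 18) (nat_lit 0x5001001)) (.cD (nat_lit 16) (.kc (nat_lit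 24) (nat_lit 0x3001001)) (.cD (nat_lit 18) (.kA true (nat_lit 0x200500400800100700100300c001001001000003)) (.cD (nat_lit 24) (.kA true (nat_lit 0x400300200800100700100300c001001001000003)) (.cD (nat_lit 26) (.kc (nat_lit 26) (nat_lit 0x7001001)) .nil)))))))) (.cD (nat_lit 18) (.kF (nat_lit 2) (nat_lit 0x100100000200f003003006001005005000004)) (.cD (nat_lit 24) (.kF (nat_lit 2) (nat_lit 0x100400100600f004001001000003)) (.cD (nat_lit 26) (.kF (nat_lit 2) (nat_lit 0x100400100600f004001001000003)) .nil))))))))) (.cD (nat_lit 12) (.czs (nat_lit 44) z0 (nat_lit 16) (.dfs (nat_lit 8) (nat_lit 4099) (nat_lit 4099) (nat_lit 0x1002001) (nat_lit 0x1002001) (nat_lit 0) (nat_lit 0) (nat_lit 3) (nat_lit 0) (nat_lit 0) (nat_lit 0) (nat_lit 1) (nat_lit 0) (nat_lit 1) (nat_lit 0) (nat_lit 1) (nat_lit 0x11111110) (.cD (nat_lit 4) (.kF (nat_lit 2) (nat_lit 0x1001000002007001002)) (.cD (nat_lit 8) (.kF (nat_lit 2) (nat_lit 0x100400100600f004001001000003)) (.cD (nat_lit 12) (.kc (nat_lit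 10) (nat_lit 0x3001001)) (.cD (nat_lit 16) (.dfs (nat_lit 16) (nat_lit 4102) (nat_lit 4102) (nat_lit 0x1004002001) (nat_lit 0x1004002001) (nat_lit 0) (nat_lit 0) (nat_lit 3) (nat_lit 0) (nat_lit 0) (nat_lit 0) (nat_lit 1) (nat_lit 0) (nat_lit 1) (nat_lit 0) (nat_lit 1) (nat_lit 0x11111110) (.cD (nat_lit 4) (.kA false (nat_lit 0x100100000400600c00f003001002005008002003)) (.cD (nat_lit 8) (.kA false (nat_lit 0x100100000c00600400f003005002001008002003)) (.cD (nat_lit 12) (.kc (nat_lit 18) (nat_lit 0x5001001)) (.cD (nat_lit 16) (.kc (nat_lit 24) (nat_lit 0x3001001)) (.cD (nat_lit 20) (.kA false (nat_lit 0x100100000200600a00f003003002007008002003)) (.cD (nat_lit 24) (.kA false (nat_lit 0x100100000a00600200f003007002003008002003)) (.cD (nat_lit 28) (.kc (nat_lit 26) (nat_lit 0x7001001)) .nil)))))))) (.cD (nat_lit 20) (.dfs (nat_lit 16) (nat_lit 4102) (nat_lit 4102) (nat_lit 0x1004002001) (nat_lit 0x1004002001) (nat_lit 0) (nat_lit 0) (nat_lit 3) (nat_lit 0) (nat_lit 0)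 (nat_lit 0) (nat_lit 1) (nat_lit 0) (nat_lit 1) (nat_lit 0) (nat_lit 1) (nat_lit 0x11111110) (.cD (nat_lit 4) (.kA false (nat_lit 0x100100000400200c00f003001003005008002003)) (.cD (nat_lit 8) (.kA false (nat_lit 0x100100000c00a00400f003005007001008002003)) (.cD (nat_lit 12) (.kc (nat_lit 18) (nat_lit 0x5001001)) (.cD (nat_lit 16) (.kA false (nat_lit 0x100100000200400a00f003003001007008002003)) (.cD (nat_lit 20) (.kc (nat_lit 24) (nat_lit 0x3001001)) (.cD (nat_lit 24) (.kc (nat_lit 26) (nat_lit 0x7001001)) (.cD (nat_lit 28) (.kA false (nat_lit 0x100100000a00c00200f003007005003008002003)) .nil)))))))) (.cD (nat_lit 24) (.kF (nat_lit 2) (nat_lit 0x100400100600f004001001000003)) (.cD (nat_lit 28) (.kF (nat_lit 2) (nat_lit 0x100400100600f004001001000003)) .nil))))))))) (.cD (nat_lit 16) (.kF (nat_lit 26) (nat_lit 0x100200100800f004005005000003)) (.cD (nat_lit 24) (.dfs (nat_lit 8) (nat_lit 1) (nat_lit 1) (nat_lit 0x1002001) (nat_lit 0x1002001) (nat_lit 0) (nat_lit 0)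 (nat_lit 0) (nat_lit 0) (nat_lit 0) (nat_lit 0) (nat_lit 1) (nat_lit 0) (nat_lit 0x1004002) (nat_lit 16386) (nat_lit 0x100100200000400100a00000c) (nat_lit 0x1011514) (.cD (nat_lit 2) (.kF (nat_lit 2) (nat_lit 0x1001000002007004002007001003)) (.cD (nat_lit 4) (.czs (nat_lit 60) z0 (nat_lit 16) (.dfs (nat_lit 16) (nat_lit 4103) (nat_lit 4103) (nat_lit 0x1004002001) (nat_lit 0x1004002001) (nat_lit 0) (nat_lit 0) (nat_lit 3) (nat_lit 0) (nat_lit 0) (nat_lit 0) (nat_lit 1) (nat_lit 0) (nat_lit 1) (nat_lit 0) (nat_lit 1) (nat_lit 0x11111110) (.cD (nat_lit 4) (.kc (nat_lit 24) (nat_lit 0x3001001)) (.cD (nat_lit 8) (.kA false (nat_lit 0x100100000600c00400f003002005001008002003)) (.cD (nat_lit 12) (.kA false (nat_lit 0x100100000600a00200f003002007003008002003)) (.cD (nat_lit 16) (.kA false (nat_lit 0x100100000600400c00f003002001005008002003)) (.cD (nat_lit 20) (.kA false (nat_lit 0x100100000600200a00f003002003007008002003)) (.cD (nat_lit 24) (.kc (nat_lit 18) (nat_lit 0x5001001))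 (.cD (nat_lit 28) (.kc (nat_lit 26) (nat_lit 0x7001001)) .nil))))))))) (.cD (nat_lit 8) (.kF (nat_lit 2) (nat_lit 0x100400100600f004001001000003)) (.cD (nat_lit 10) (.kF (nat_lit 2) (nat_lit 0x100400100600f004001001000003)) (.cD (nat_lit 12) (.kF (nat_lit 2) (nat_lit 0x100400100600f004001001000003)) (.cD (nat_lit 16) (.kF (nat_lit 2) (nat_lit 0x1001000002007001002)) (.cD (nat_lit 24) (.kc (nat_lit 10) (nat_lit 0x3001001)) .nil)))))))) .nil)))))))))
theorem c151 : (chk [] [] p151).n x86 s151 = true := by decide +kernel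
noncomputable def p152 : Pf := (.anc (nat_lit 68) (nat_lit 0x10002002002000002) (nat_lit 0x1009020010004) (.czp (nat_lit 64) (nat_lit 0) (nat_lit 0x1040020010008004) z6 (.dfs (nat_lit 4) (nat_lit 4097) (nat_lit 4097) (nat_lit 1) (nat_lit 1) (nat_lit 0) (nat_lit 0) (nat_lit 3) (nat_lit 0) (nat_lit 0) (nat_lit 0) (nat_lit 1) (nat_lit 0) (nat_lit 0x1008004) (nat_lit 32772) (nat_lit 0x1001004000008001014000018) (nat_lit 0x1000101110110) (.cD (nat_lit 4) (.dfs (nat_lit 16) (nat_lit 4098) (nat_lit 4098) (nat_lit 4097) (nat_lit 4097) (nat_lit 0) (nat_lit 0) (nat_lit 3) (nat_lit 0) (nat_lit 0) (nat_lit 0) (nat_lit 1) (nat_lit 0) (nat_lit 1) (nat_lit 0) (nat_lit 1) (nat_lit 0x11001100110010) (.cD (nat_lit 4) (.kc (nat_lit 20) (nat_lit 0x3001001)) (.cD (nat_lit 16) (.dfs (nat_lit 32) (nat_lit 4100) (nat_lit 4100) (nat_lit 0x1002001) (nat_lit 0x1002001) (nat_lit 0) (nat_lit 0) (nat_lit 3) (nat_lit 0) (nat_lit 0) (nat_lit 0) (nat_lit 1) (nat_lit 0) (nat_lit 1) (nat_lit 0) (nat_lit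 1) (nat_lit 0x11001100110010) (.cD (nat_lit 4) (.kc (nat_lit 36) (nat_lit 0x5001001)) (.cD (nat_lit 16) (.kc (nat_lit 48) (nat_lit 0x3001001)) (.cD (nat_lit 20) (.kc (nat_lit 52) (nat_lit 0x7001001)) (.cD (nat_lit 32) (.dfs (nat_lit 9) (nat_lit 0x1004001003008) (nat_lit 0x1005001003008) (nat_lit 4098) (nat_lit 4098) (nat_lit 3) (nat_lit 0) (nat_lit 2) (nat_lit 1) (nat_lit 0) (nat_lit 8) (nat_lit 1) (nat_lit 0) (nat_lit 1) (nat_lit 0) (nat_lit 1) (nat_lit 0) .nil) (.cD (nat_lit 36) (.kA true (nat_lit 0x100100000400100300d001001001000003)) (.cD (nat_lit 48) (.kA true (nat_lit 0x600800401000400400100300d001001001000003)) (.cD (nat_lit 52) (.kA true (nat_lit 0x5004003008001008004002005007001001000003)) .nil)))))))) (.cD (nat_lit 20) (.dfs (nat_lit 32) (nat_lit 4100) (nat_lit 4100) (nat_lit 0x1002001) (nat_lit 0x1002001) (nat_lit 0) (nat_lit 0) (nat_lit 3) (nat_lit 0) (nat_lit 0) (nat_lit 0) (nat_lit 1) (nat_lit 0) (nat_lit 1) (nat_lit 0) (nat_lit 1) (nat_lit 0x11001100110010)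 (.cD (nat_lit 4) (.kc (nat_lit 36) (nat_lit 0x5001001)) (.cD (nat_lit 16) (.kc (nat_lit 52) (nat_lit 0x7001001)) (.cD (nat_lit 20) (.kc (nat_lit 48) (nat_lit 0x3001001)) (.cD (nat_lit 32) (.kA true (nat_lit 0x5004003008001008004002005007001001000003)) (.cD (nat_lit 36) (.dfs (nat_lit 9) (nat_lit 4102) (nat_lit 4103) (nat_lit 1) (nat_lit 1) (nat_lit 3) (nat_lit 0) (nat_lit 1) (nat_lit 4112) (nat_lit 0x40020010008004002001) (nat_lit 0) (nat_lit 1) (nat_lit 0) (nat_lit 1) (nat_lit 0) (nat_lit 1) (nat_lit 0) .nil) (.cD (nat_lit 48) (.kA true (nat_lit 0x400300500800100400100300c001002)) (.cD (nat_lit 52) (.kA true (nat_lit 0x400700100800100400100300c001002)) .nil)))))))) (.cD (nat_lit 32) (.kF (nat_lit 16) (nat_lit 0x100400100c012004002002000003)) (.cD (nat_lit 36) (.kF (nat_lit 16) (nat_lit 0x100400100c012004002002000003)) (.cD (nat_lit 48) (.dfs (nat_lit 32) (nat_lit 4100) (nat_lit 4100) (nat_lit 0x1002001) (nat_lit 0x1002001) (nat_lit 0) (nat_lit 0) (nat_lit 3) (nat_lit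 0) (nat_lit 0) (nat_lit 0) (nat_lit 1) (nat_lit 0) (nat_lit 1) (nat_lit 0) (nat_lit 1) (nat_lit 0x11001100110010) (.cD (nat_lit 4) (.kc (nat_lit 36) (nat_lit 0x5001001)) (.cD (nat_lit 16) (.kA true (nat_lit 0x400200100800100400100300c001002)) (.cD (nat_lit 20) (.kA true (nat_lit 0x400600500800100400100300c001002)) (.cD (nat_lit 32) (.kA true (nat_lit 0x5004003008001008004002005007001001000003)) (.cD (nat_lit 36) (.kA true (nat_lit 0x400500600800100400100300c001002)) (.cD (nat_lit 48) (.kc (nat_lit 48) (nat_lit 0x3001001)) (.cD (nat_lit 52) (.kc (nat_lit 52) (nat_lit 0x7001001)) .nil)))))))) (.cD (nat_lit 52) (.dfs (nat_lit 32) (nat_lit 4100) (nat_lit 4100) (nat_lit 0x1002001) (nat_lit 0x1002001) (nat_lit 0) (nat_lit 0) (nat_lit 3) (nat_lit 0) (nat_lit 0) (nat_lit 0) (nat_lit 1) (nat_lit 0) (nat_lit 1) (nat_lit 0) (nat_lit 1) (nat_lit 0x11001100110010) (.cD (nat_lit 4) (.kc (nat_lit 36) (nat_lit 0x5001001)) (.cD (nat_lit 16) (.kA true (nat_lit 0x400200500800100400100300c001002))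 (.cD (nat_lit 20) (.kA true (nat_lit 0x400600100800100400100300c001002)) (.cD (nat_lit 32) (.kA true (nat_lit 0x5004003008001008004002005007001001000003)) (.cD (nat_lit 36) (.kA true (nat_lit 0x400500200800100400100300c001002)) (.cD (nat_lit 48) (.kc (nat_lit 52) (nat_lit 0x7001001)) (.cD (nat_lit 52) (.kc (nat_lit 48) (nat_lit 0x3001001)) .nil)))))))) .nil)))))))) (.cD (nat_lit 8) (.dfs (nat_lit 16) (nat_lit 4098) (nat_lit 4098) (nat_lit 4097) (nat_lit 4097) (nat_lit 0) (nat_lit 0) (nat_lit 3) (nat_lit 0) (nat_lit 0) (nat_lit 0) (nat_lit 1) (nat_lit 0) (nat_lit 1) (nat_lit 0) (nat_lit 1) (nat_lit 0x101010101010100) (.cD (nat_lit 8) (.kc (nat_lit 20) (nat_lit 0x3001001)) (.cD (nat_lit 16) (.dfs (nat_lit 32) (nat_lit 4100) (nat_lit 4100) (nat_lit 0x1002001) (nat_lit 0x1002001) (nat_lit 0) (nat_lit 0) (nat_lit 3) (nat_lit 0) (nat_lit 0) (nat_lit 0) (nat_lit 1) (nat_lit 0) (nat_lit 1) (nat_lit 0) (nat_lit 1) (nat_lit 0x101010101010100) (.cD (nat_lit 8) (.kc (nat_lit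 36) (nat_lit 0x5001001)) (.cD (nat_lit 16) (.kc (nat_lit 48) (nat_lit 0x3001001)) (.cD (nat_lit 24) (.kc (nat_lit 52) (nat_lit 0x7001001)) (.cD (nat_lit 32) (.kA false (nat_lit 0x300400200c00200e004008014005001001000003)) (.cD (nat_lit 40) (.kA false (nat_lit 0x100100000300500200d002001001000003)) (.cD (nat_lit 48) (.kA false (nat_lit 0x200800c01000400500300200b002001001000003)) (.cD (nat_lit 56) (.kA false (nat_lit 0x500400200c00200e004008014005001001000003)) .nil)))))))) (.cD (nat_lit 24) (.dfs (nat_lit 32) (nat_lit 4100) (nat_lit 4100) (nat_lit 0x1002001) (nat_lit 0x1002001) (nat_lit 0) (nat_lit 0) (nat_lit 3) (nat_lit 0) (nat_lit 0) (nat_lit 0) (nat_lit 1) (nat_lit 0) (nat_lit 1) (nat_lit 0) (nat_lit 1) (nat_lit 0x101010101010100) (.cD (nat_lit 8) (.kc (nat_lit 36) (nat_lit 0x5001001)) (.cD (nat_lit 16) (.kc (nat_lit 52) (nat_lit 0x7001001)) (.cD (nat_lit 24) (.kc (nat_lit 48) (nat_lit 0x3001001)) (.cD (nat_lit 32) (.kA false (nat_lit 0x700400600c00200e004008014005001001000003))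 (.cD (nat_lit 40) (.kA false (nat_lit 0x100100000700500600d002001001000003)) (.cD (nat_lit 48) (.kA false (nat_lit 0x100400600c00200e004008014005001001000003)) (.cD (nat_lit 56) (.kA false (nat_lit 0x400800a01000400100300600b002001001000003)) .nil)))))))) (.cD (nat_lit 32) (.kF (nat_lit 16) (nat_lit 0x100400100c012004002002000003)) (.cD (nat_lit 40) (.kF (nat_lit 16) (nat_lit 0x100400100c012004002002000003)) (.cD (nat_lit 48) (.kF (nat_lit 16) (nat_lit 0x100100000e014006001006001003)) (.cD (nat_lit 56) (.kF (nat_lit 16) (nat_lit 0x100100000a014006001006001003)) .nil)))))))) (.cD (nat_lit 16) (.kF (nat_lit 4) (nat_lit 0x2002000001003001002)) (.cD (nat_lit 20) (.kF (nat_lit 4) (nat_lit 0xe01e003001003001002)) (.cD (nat_lit 24) (.kF (nat_lit 4) (nat_lit 0x1002001002012004002002000003)) (.cD (nat_lit 32) (.dfs (nat_lit 16) (nat_lit 4098) (nat_lit 4098) (nat_lit 4097) (nat_lit 4097) (nat_lit 0) (nat_lit 0) (nat_lit 3) (nat_lit 0) (nat_lit 0) (nat_lit 0) (nat_lit 1) (nat_lit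 0) (nat_lit 0x1008004) (nat_lit 32772) (nat_lit 0x1001004000008001014000018) (nat_lit 0x1000101110110) (.cD (nat_lit 4) (.kF (nat_lit 16) (nat_lit 0x1001000001006001002)) (.cD (nat_lit 8) (.kF (nat_lit 16) (nat_lit 0x100400100c012004002002000003)) (.cD (nat_lit 16) (.dfs (nat_lit 32) (nat_lit 4100) (nat_lit 4100) (nat_lit 0x1002001) (nat_lit 0x1002001) (nat_lit 0) (nat_lit 0) (nat_lit 3) (nat_lit 0) (nat_lit 0) (nat_lit 0) (nat_lit 1) (nat_lit 0) (nat_lit 0x1008004) (nat_lit 32772) (nat_lit 0x1001004000008001014000018) (nat_lit 0x1000101110110) (.cD (nat_lit 4) (.kA true (nat_lit 0x100400600c002001001000002)) (.cD (nat_lit 8) (.kA false (nat_lit 0x700400200c002001001000002)) (.cD (nat_lit 16) (.kc (nat_lit 48) (nat_lit 0x3001001)) (.cD (nat_lit 20) (.kA true (nat_lit 0x300400600c002001001000002)) (.cD (nat_lit 24) (.kA false (nat_lit 0x500400200c002001001000002)) (.cD (nat_lit 32) (.kc (nat_lit 36) (nat_lit 0x5001001)) (.cD (nat_lit 48) (.kc (nat_lit 52) (nat_lit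 0x7001001)) .nil)))))))) (.cD (nat_lit 20) (.dfs (nat_lit 32) (nat_lit 4100) (nat_lit 4100) (nat_lit 0x1002001) (nat_lit 0x1002001) (nat_lit 0) (nat_lit 0) (nat_lit 3) (nat_lit 0) (nat_lit 0) (nat_lit 0) (nat_lit 1) (nat_lit 0) (nat_lit 1) (nat_lit 0) (nat_lit 1) (nat_lit 0x11001100110010) (.cD (nat_lit 4) (.kA true (nat_lit 0x100400700c002001001000002)) (.cD (nat_lit 16) (.kA true (nat_lit 0x300400500c002001001000002)) (.cD (nat_lit 20) (.kc (nat_lit 48) (nat_lit 0x3001001)) (.cD (nat_lit 32) (.kc (nat_lit 36) (nat_lit 0x5001001)) (.cD (nat_lit 36) (.dfs (nat_lit 9) (nat_lit 4100) (nat_lit 4101) (nat_lit 1) (nat_lit 1) (nat_lit 3) (nat_lit 0) (nat_lit 1) (nat_lit 4128) (nat_lit 0x40020010008004002001) (nat_lit 0) (nat_lit 1) (nat_lit 0) (nat_lit 1) (nat_lit 0) (nat_lit 1) (nat_lit 0) .nil) (.cD (nat_lit 48) (.kA true (nat_lit 0x700400100c002001001000002)) (.cD (nat_lit 52) (.kc (nat_lit 52) (nat_lit 0x7001001)) .nil)))))))) (.cD (nat_lit 24) (.kF (nat_lit 16) (nat_lit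 0x1001000001006001002)) (.cD (nat_lit 32) (.kc (nat_lit 20) (nat_lit 0x3001001)) (.cD (nat_lit 48) (.dfs (nat_lit 32) (nat_lit 4100) (nat_lit 4100) (nat_lit 0x1002001) (nat_lit 0x1002001) (nat_lit 0) (nat_lit 0) (nat_lit 3) (nat_lit 0) (nat_lit 0) (nat_lit 0) (nat_lit 1) (nat_lit 0) (nat_lit 0x1008004) (nat_lit 32772) (nat_lit 0x1001004000008001014000018) (nat_lit 0x1000101110110) (.cD (nat_lit 4) (.kA true (nat_lit 0x100400200c002001001000002)) (.cD (nat_lit 8) (.kA false (nat_lit 0x300400600c002001001000002)) (.cD (nat_lit 16) (.kc (nat_lit 52) (nat_lit 0x7001001)) (.cD (nat_lit 20) (.kA true (nat_lit 0x700400200c002001001000002)) (.cD (nat_lit 24) (.kA false (nat_lit 0x500400600c002001001000002)) (.cD (nat_lit 32) (.kc (nat_lit 36) (nat_lit 0x5001001)) (.cD (nat_lit 48) (.kc (nat_lit 48) (nat_lit 0x3001001)) .nil)))))))) .nil)))))))) (.cD (nat_lit 48) (.kF (nat_lit 4) (nat_lit 0x1002001002012004002002000003)) .nil))))))))))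
theorem c152 : (chk [] [] p152).n x88 s152 = true := by decide +kernel
noncomputable def p153 : Pf := (.anc (nat_lit 68) (nat_lit 0x10002002002000002) (nat_lit 0x1009020010004) (.czp (nat_lit 64) (nat_lit 0) (nat_lit 0x1040020010008004) z6 (.dfs (nat_lit 4) (nat_lit 4097) (nat_lit 4097) (nat_lit 1) (nat_lit 1) (nat_lit 0) (nat_lit 0) (nat_lit 3) (nat_lit 0) (nat_lit 0) (nat_lit 0) (nat_lit 1) (nat_lit 0) (nat_lit 0x1008004) (nat_lit 32772) (nat_lit 0x1001004000008001014000018) (nat_lit 0x1000101110110) (.cD (nat_lit 4) (.dfs (nat_lit 16) (nat_lit 4098) (nat_lit 4098) (nat_lit 4097) (nat_lit 4097) (nat_lit 0) (nat_lit 0) (nat_lit 3) (nat_lit 0) (nat_lit 0) (nat_lit 0) (nat_lit 1) (nat_lit 0) (nat_lit 1) (nat_lit 0) (nat_lit 1) (nat_lit 0x11001100110010) (.cD (nat_lit 4) (.kc (nat_lit 20) (nat_lit 0x3001001)) (.cD (nat_lit 16) (.dfs (nat_lit 32) (nat_lit 4100) (nat_lit 4100) (nat_lit 0x1002001) (nat_lit 0x1002001) (nat_lit 0) (nat_lit 0) (nat_lit 3) (nat_lit 0) (nat_lit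 0) (nat_lit 0) (nat_lit 1) (nat_lit 0) (nat_lit 1) (nat_lit 0) (nat_lit 1) (nat_lit 0x11001100110010) (.cD (nat_lit 4) (.kc (nat_lit 36) (nat_lit 0x5001001)) (.cD (nat_lit 16) (.kc (nat_lit 48) (nat_lit 0x3001001)) (.cD (nat_lit 20) (.kc (nat_lit 52) (nat_lit 0x7001001)) (.cD (nat_lit 32) (.dfs (nat_lit 9) (nat_lit 0x1004001003008) (nat_lit 0x1005001003008) (nat_lit 4098) (nat_lit 4098) (nat_lit 3) (nat_lit 0) (nat_lit 2) (nat_lit 1) (nat_lit 0) (nat_lit 8) (nat_lit 1) (nat_lit 0) (nat_lit 1) (nat_lit 0) (nat_lit 1) (nat_lit 0) .nil) (.cD (nat_lit 36) (.kA true (nat_lit 0x100100000400100300d001001001000003)) (.cD (nat_lit 48) (.kA true (nat_lit 0x600800401000400400100300d001001001000003)) (.cD (nat_lit 52) (.kA true (nat_lit 0x5004003008001008004002005007001001000003)) .nil)))))))) (.cD (nat_lit 20) (.dfs (nat_lit 32) (nat_lit 4100) (nat_lit 4100) (nat_lit 0x1002001) (nat_lit 0x1002001) (nat_lit 0) (nat_lit 0) (nat_lit 3) (nat_lit 0) (nat_lit 0) (nat_lit 0) (nat_lit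 1) (nat_lit 0) (nat_lit 1) (nat_lit 0) (nat_lit 1) (nat_lit 0x11001100110010) (.cD (nat_lit 4) (.kc (nat_lit 36) (nat_lit 0x5001001)) (.cD (nat_lit 16) (.kc (nat_lit 52) (nat_lit 0x7001001)) (.cD (nat_lit 20) (.kc (nat_lit 48) (nat_lit 0x3001001)) (.cD (nat_lit 32) (.kA true (nat_lit 0x5004003008001008004002005007001001000003)) (.cD (nat_lit 36) (.dfs (nat_lit 9) (nat_lit 4102) (nat_lit 4103) (nat_lit 1) (nat_lit 1) (nat_lit 3) (nat_lit 0) (nat_lit 1) (nat_lit 4112) (nat_lit 0x40020010008004002001) (nat_lit 0) (nat_lit 1) (nat_lit 0) (nat_lit 1) (nat_lit 0) (nat_lit 1) (nat_lit 0) .nil) (.cD (nat_lit 48) (.kA true (nat_lit 0x400300500800100400100300c001002)) (.cD (nat_lit 52) (.kA true (nat_lit 0x400700100800100400100300c001002)) .nil)))))))) (.cD (nat_lit 32) (.kF (nat_lit 16) (nat_lit 0x100400100c012004002002000003)) (.cD (nat_lit 36) (.kF (nat_lit 16) (nat_lit 0x100400100c012004002002000003)) (.cD (nat_lit 48) (.dfs (nat_lit 32) (nat_lit 4100) (nat_lit 4100)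 (nat_lit 0x1002001) (nat_lit 0x1002001) (nat_lit 0) (nat_lit 0) (nat_lit 3) (nat_lit 0) (nat_lit 0) (nat_lit 0) (nat_lit 1) (nat_lit 0) (nat_lit 1) (nat_lit 0) (nat_lit 1) (nat_lit 0x11001100110010) (.cD (nat_lit 4) (.kc (nat_lit 36) (nat_lit 0x5001001)) (.cD (nat_lit 16) (.kA true (nat_lit 0x400200100800100400100300c001002)) (.cD (nat_lit 20) (.kA true (nat_lit 0x400600500800100400100300c001002)) (.cD (nat_lit 32) (.kA true (nat_lit 0x5004003008001008004002005007001001000003)) (.cD (nat_lit 36) (.kA true (nat_lit 0x400500600800100400100300c001002)) (.cD (nat_lit 48) (.kc (nat_lit 48) (nat_lit 0x3001001)) (.cD (nat_lit 52) (.kc (nat_lit 52) (nat_lit 0x7001001)) .nil)))))))) (.cD (nat_lit 52) (.dfs (nat_lit 32) (nat_lit 4100) (nat_lit 4100) (nat_lit 0x1002001) (nat_lit 0x1002001) (nat_lit 0) (nat_lit 0) (nat_lit 3) (nat_lit 0) (nat_lit 0) (nat_lit 0) (nat_lit 1) (nat_lit 0) (nat_lit 1) (nat_lit 0) (nat_lit 1) (nat_lit 0x11001100110010) (.cD (nat_lit 4) (.kc (nat_lit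 36) (nat_lit 0x5001001)) (.cD (nat_lit 16) (.kA true (nat_lit 0x400200500800100400100300c001002)) (.cD (nat_lit 20) (.kA true (nat_lit 0x400600100800100400100300c001002)) (.cD (nat_lit 32) (.kA true (nat_lit 0x5004003008001008004002005007001001000003)) (.cD (nat_lit 36) (.kA true (nat_lit 0x400500200800100400100300c001002)) (.cD (nat_lit 48) (.kc (nat_lit 52) (nat_lit 0x7001001)) (.cD (nat_lit 52) (.kc (nat_lit 48) (nat_lit 0x3001001)) .nil)))))))) .nil)))))))) (.cD (nat_lit 8) (.dfs (nat_lit 16) (nat_lit 4098) (nat_lit 4098) (nat_lit 4097) (nat_lit 4097) (nat_lit 0) (nat_lit 0) (nat_lit 3) (nat_lit 0) (nat_lit 0) (nat_lit 0) (nat_lit 1) (nat_lit 0) (nat_lit 1) (nat_lit 0) (nat_lit 1) (nat_lit 0x101010101010100) (.cD (nat_lit 8) (.kc (nat_lit 20) (nat_lit 0x3001001)) (.cD (nat_lit 16) (.dfs (nat_lit 32) (nat_lit 4100) (nat_lit 4100) (nat_lit 0x1002001) (nat_lit 0x1002001) (nat_lit 0) (nat_lit 0) (nat_lit 3) (nat_lit 0) (nat_lit 0) (nat_lit 0) (nat_lit 1) (nat_lit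 0) (nat_lit 1) (nat_lit 0) (nat_lit 1) (nat_lit 0x101010101010100) (.cD (nat_lit 8) (.kc (nat_lit 36) (nat_lit 0x5001001)) (.cD (nat_lit 16) (.kc (nat_lit 48) (nat_lit 0x3001001)) (.cD (nat_lit 24) (.kc (nat_lit 52) (nat_lit 0x7001001)) (.cD (nat_lit 32) (.kA false (nat_lit 0x300400200c00200e004008014005001001000003)) (.cD (nat_lit 40) (.kA false (nat_lit 0x100100000300500200d002001001000003)) (.cD (nat_lit 48) (.kA false (nat_lit 0x200800c01000400500300200b002001001000003)) (.cD (nat_lit 56) (.kA false (nat_lit 0x500400200c00200e004008014005001001000003)) .nil)))))))) (.cD (nat_lit 24) (.dfs (nat_lit 32) (nat_lit 4100) (nat_lit 4100) (nat_lit 0x1002001) (nat_lit 0x1002001) (nat_lit 0) (nat_lit 0) (nat_lit 3) (nat_lit 0) (nat_lit 0) (nat_lit 0) (nat_lit 1) (nat_lit 0) (nat_lit 1) (nat_lit 0) (nat_lit 1) (nat_lit 0x101010101010100) (.cD (nat_lit 8) (.kc (nat_lit 36) (nat_lit 0x5001001)) (.cD (nat_lit 16) (.kc (nat_lit 52) (nat_lit 0x7001001)) (.cD (nat_lit 24) (.kc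 (nat_lit 48) (nat_lit 0x3001001)) (.cD (nat_lit 32) (.kA false (nat_lit 0x700400600c00200e004008014005001001000003)) (.cD (nat_lit 40) (.kA false (nat_lit 0x100100000700500600d002001001000003)) (.cD (nat_lit 48) (.kA false (nat_lit 0x100400600c00200e004008014005001001000003)) (.cD (nat_lit 56) (.kA false (nat_lit 0x400800a01000400100300600b002001001000003)) .nil)))))))) (.cD (nat_lit 32) (.kF (nat_lit 16) (nat_lit 0x100400100c012004002002000003)) (.cD (nat_lit 40) (.kF (nat_lit 16) (nat_lit 0x100400100c012004002002000003)) (.cD (nat_lit 48) (.kF (nat_lit 16) (nat_lit 0x100100000e014006001006001003)) (.cD (nat_lit 56) (.kF (nat_lit 16) (nat_lit 0x100100000a014006001006001003)) .nil)))))))) (.cD (nat_lit 16) (.kF (nat_lit 4) (nat_lit 0x2002000001003001002)) (.cD (nat_lit 20) (.kF (nat_lit 4) (nat_lit 0xe01e003001003001002)) (.cD (nat_lit 24) (.kF (nat_lit 4) (nat_lit 0x1002001002012004002002000003)) (.cD (nat_lit 32) (.dfs (nat_lit 16) (nat_lit 4098) (nat_lit 4098)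 (nat_lit 4097) (nat_lit 4097) (nat_lit 0) (nat_lit 0) (nat_lit 3) (nat_lit 0) (nat_lit 0) (nat_lit 0) (nat_lit 1) (nat_lit 0) (nat_lit 0x1008004) (nat_lit 32772) (nat_lit 0x1001004000008001014000018) (nat_lit 0x1000101110110) (.cD (nat_lit 4) (.kF (nat_lit 16) (nat_lit 0x1001000001006001002)) (.cD (nat_lit 8) (.kF (nat_lit 16) (nat_lit 0x100400100c012004002002000003)) (.cD (nat_lit 16) (.dfs (nat_lit 32) (nat_lit 4100) (nat_lit 4100) (nat_lit 0x1002001) (nat_lit 0x1002001) (nat_lit 0) (nat_lit 0) (nat_lit 3) (nat_lit 0) (nat_lit 0) (nat_lit 0) (nat_lit 1) (nat_lit 0) (nat_lit 0x1008004) (nat_lit 32772) (nat_lit 0x1001004000008001014000018) (nat_lit 0x1000101110110) (.cD (nat_lit 4) (.kA true (nat_lit 0x100400600c002001001000002)) (.cD (nat_lit 8) (.kA false (nat_lit 0x700400200c002001001000002)) (.cD (nat_lit 16) (.kc (nat_lit 48) (nat_lit 0x3001001)) (.cD (nat_lit 20) (.kA true (nat_lit 0x300400600c002001001000002)) (.cD (nat_lit 24) (.kA false (nat_lit 0x500400200c002001001000002))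 (.cD (nat_lit 32) (.kc (nat_lit 36) (nat_lit 0x5001001)) (.cD (nat_lit 48) (.kc (nat_lit 52) (nat_lit 0x7001001)) .nil)))))))) (.cD (nat_lit 20) (.dfs (nat_lit 32) (nat_lit 4100) (nat_lit 4100) (nat_lit 0x1002001) (nat_lit 0x1002001) (nat_lit 0) (nat_lit 0) (nat_lit 3) (nat_lit 0) (nat_lit 0) (nat_lit 0) (nat_lit 1) (nat_lit 0) (nat_lit 1) (nat_lit 0) (nat_lit 1) (nat_lit 0x11001100110010) (.cD (nat_lit 4) (.kA true (nat_lit 0x100400700c002001001000002)) (.cD (nat_lit 16) (.kA true (nat_lit 0x300400500c002001001000002)) (.cD (nat_lit 20) (.kc (nat_lit 48) (nat_lit 0x3001001)) (.cD (nat_lit 32) (.kc (nat_lit 36) (nat_lit 0x5001001)) (.cD (nat_lit 36) (.dfs (nat_lit 9) (nat_lit 4100) (nat_lit 4101) (nat_lit 1) (nat_lit 1) (nat_lit 3) (nat_lit 0) (nat_lit 1) (nat_lit 4128) (nat_lit 0x40020010008004002001) (nat_lit 0) (nat_lit 1) (nat_lit 0) (nat_lit 1) (nat_lit 0) (nat_lit 1) (nat_lit 0) .nil) (.cD (nat_lit 48) (.kA true (nat_lit 0x700400100c002001001000002)) (.cD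 (nat_lit 52) (.kc (nat_lit 52) (nat_lit 0x7001001)) .nil)))))))) (.cD (nat_lit 24) (.kF (nat_lit 16) (nat_lit 0x1001000001006001002)) (.cD (nat_lit 32) (.kc (nat_lit 20) (nat_lit 0x3001001)) (.cD (nat_lit 48) (.dfs (nat_lit 32) (nat_lit 4100) (nat_lit 4100) (nat_lit 0x1002001) (nat_lit 0x1002001) (nat_lit 0) (nat_lit 0) (nat_lit 3) (nat_lit 0) (nat_lit 0) (nat_lit 0) (nat_lit 1) (nat_lit 0) (nat_lit 0x1008004) (nat_lit 32772) (nat_lit 0x1001004000008001014000018) (nat_lit 0x1000101110110) (.cD (nat_lit 4) (.kA true (nat_lit 0x100400200c002001001000002)) (.cD (nat_lit 8) (.kA false (nat_lit 0x300400600c002001001000002)) (.cD (nat_lit 16) (.kc (nat_lit 52) (nat_lit 0x7001001)) (.cD (nat_lit 20) (.kA true (nat_lit 0x700400200c002001001000002)) (.cD (nat_lit 24) (.kA false (nat_lit 0x500400600c002001001000002)) (.cD (nat_lit 32) (.kc (nat_lit 36) (nat_lit 0x5001001)) (.cD (nat_lit 48) (.kc (nat_lit 48) (nat_lit 0x3001001)) .nil)))))))) .nil)))))))) (.cD (nat_lit 48)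 (.kF (nat_lit 4) (nat_lit 0x1002001002012004002002000003)) .nil))))))))))
theorem c153 : (chk [] [] p153).n x89 s153 = true := by decide +kernel
noncomputable def p154 : Pf := (.anc (nat_lit 68) (nat_lit 0x10002002002000002) (nat_lit 0x1009020010004) (.czp (nat_lit 64) (nat_lit 0) (nat_lit 0x1040020010008004) z6 (.dfs (nat_lit 4) (nat_lit 4097) (nat_lit 4097) (nat_lit 1) (nat_lit 1) (nat_lit 0) (nat_lit 0) (nat_lit 3) (nat_lit 0) (nat_lit 0) (nat_lit 0) (nat_lit 1) (nat_lit 0) (nat_lit 0x1008004) (nat_lit 32772) (nat_lit 0x1001004000008001014000018) (nat_lit 0x1000101110110) (.cD (nat_lit 4) (.dfs (nat_lit 16) (nat_lit 4098) (nat_lit 4098) (nat_lit 4097) (nat_lit 4097) (nat_lit 0) (nat_lit 0) (nat_lit 3) (nat_lit 0) (nat_lit 0) (nat_lit 0) (nat_lit 1) (nat_lit 0) (nat_lit 1) (nat_lit 0) (nat_lit 1) (nat_lit 0x11001100110010) (.cD (nat_lit 4) (.kc (nat_lit 20) (nat_lit 0x3001001)) (.cD (nat_lit 16) (.dfs (nat_lit 32) (nat_lit 4100) (nat_lit 4100) (nat_lit 0x1002001)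 (nat_lit 0x1002001) (nat_lit 0) (nat_lit 0) (nat_lit 3) (nat_lit 0) (nat_lit 0) (nat_lit 0) (nat_lit 1) (nat_lit 0) (nat_lit 1) (nat_lit 0) (nat_lit 1) (nat_lit 0x11001100110010) (.cD (nat_lit 4) (.kc (nat_lit 36) (nat_lit 0x5001001)) (.cD (nat_lit 16) (.kc (nat_lit 48) (nat_lit 0x3001001)) (.cD (nat_lit 20) (.kc (nat_lit 52) (nat_lit 0x7001001)) (.cD (nat_lit 32) (.dfs (nat_lit 9) (nat_lit 0x1004001003008) (nat_lit 0x1005001003008) (nat_lit 4098) (nat_lit 4098) (nat_lit 1) (nat_lit 0) (nat_lit 2) (nat_lit 1) (nat_lit 0) (nat_lit 8) (nat_lit 1) (nat_lit 0) (nat_lit 4100) (nat_lit 4) (nat_lit 0x100000c00001c) (nat_lit 0x10001000) (.cD (nat_lit 12) (.kA false (nat_lit 0xf00200401000100200200000d002004016002013003000004)) (.cD (nat_lit 28) (.kA false (nat_lit 0xb002004010001002002000009002004016002013003000004)) .nil))) (.cD (nat_lit 36) (.kA true (nat_lit 0x1100100000400100300d001011001000003)) (.cD (nat_lit 48) (.kA true (nat_lit 0x600800401000400400100300d001011001000003))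 (.cD (nat_lit 52) (.kA true (nat_lit 0x5004003008001008004002005007011001000003)) .nil)))))))) (.cD (nat_lit 20) (.dfs (nat_lit 32) (nat_lit 4100) (nat_lit 4100) (nat_lit 0x1002001) (nat_lit 0x1002001) (nat_lit 0) (nat_lit 0) (nat_lit 3) (nat_lit 0) (nat_lit 0) (nat_lit 0) (nat_lit 1) (nat_lit 0) (nat_lit 1) (nat_lit 0) (nat_lit 1) (nat_lit 0x11001100110010) (.cD (nat_lit 4) (.kc (nat_lit 36) (nat_lit 0x5001001)) (.cD (nat_lit 16) (.kc (nat_lit 52) (nat_lit 0x7001001)) (.cD (nat_lit 20) (.kc (nat_lit 48) (nat_lit 0x3001001)) (.cD (nat_lit 32) (.kA true (nat_lit 0x5004003008001008004002005007011001000003)) (.cD (nat_lit 36) (.dfs (nat_lit 9) (nat_lit 4102) (nat_lit 4103) (nat_lit 1) (nat_lit 1) (nat_lit 1) (nat_lit 0) (nat_lit 1) (nat_lit 4112) (nat_lit 0x40020010008004002011) (nat_lit 0) (nat_lit 1) (nat_lit 0) (nat_lit 1) (nat_lit 0) (nat_lit 1) (nat_lit 0) .nil) (.cD (nat_lit 48) (.kA true (nat_lit 0x400300500800100400100300c001002)) (.cD (nat_lit 52) (.kA true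 (nat_lit 0x400700100800100400100300c001002)) .nil)))))))) (.cD (nat_lit 32) (.kF (nat_lit 16) (nat_lit 0x100400100c012004002002000003)) (.cD (nat_lit 36) (.kF (nat_lit 16) (nat_lit 0x100400100c012004002002000003)) (.cD (nat_lit 48) (.dfs (nat_lit 32) (nat_lit 4100) (nat_lit 4100) (nat_lit 0x1002001) (nat_lit 0x1002001) (nat_lit 0) (nat_lit 0) (nat_lit 3) (nat_lit 0) (nat_lit 0) (nat_lit 0) (nat_lit 1) (nat_lit 0) (nat_lit 1) (nat_lit 0) (nat_lit 1) (nat_lit 0x11001100110010) (.cD (nat_lit 4) (.kc (nat_lit 36) (nat_lit 0x5001001)) (.cD (nat_lit 16) (.kA true (nat_lit 0x400200100800100400100300c001002)) (.cD (nat_lit 20) (.kA true (nat_lit 0x400600500800100400100300c001002)) (.cD (nat_lit 32) (.kA true (nat_lit 0x5004003008001008004002005007011001000003)) (.cD (nat_lit 36) (.kA true (nat_lit 0x400500600800100400100300c001002)) (.cD (nat_lit 48) (.kc (nat_lit 48) (nat_lit 0x3001001)) (.cD (nat_lit 52) (.kc (nat_lit 52) (nat_lit 0x7001001)) .nil)))))))) (.cD (nat_lit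 52) (.dfs (nat_lit 32) (nat_lit 4100) (nat_lit 4100) (nat_lit 0x1002001) (nat_lit 0x1002001) (nat_lit 0) (nat_lit 0) (nat_lit 3) (nat_lit 0) (nat_lit 0) (nat_lit 0) (nat_lit 1) (nat_lit 0) (nat_lit 1) (nat_lit 0) (nat_lit 1) (nat_lit 0x11001100110010) (.cD (nat_lit 4) (.kc (nat_lit 36) (nat_lit 0x5001001)) (.cD (nat_lit 16) (.kA true (nat_lit 0x400200500800100400100300c001002)) (.cD (nat_lit 20) (.kA true (nat_lit 0x400600100800100400100300c001002)) (.cD (nat_lit 32) (.kA true (nat_lit 0x5004003008001008004002005007011001000003)) (.cD (nat_lit 36) (.kA true (nat_lit 0x400500200800100400100300c001002)) (.cD (nat_lit 48) (.kc (nat_lit 52) (nat_lit 0x7001001)) (.cD (nat_lit 52) (.kc (nat_lit 48) (nat_lit 0x3001001)) .nil)))))))) .nil)))))))) (.cD (nat_lit 8) (.dfs (nat_lit 16) (nat_lit 4098) (nat_lit 4098) (nat_lit 4097) (nat_lit 4097) (nat_lit 0) (nat_lit 0) (nat_lit 3) (nat_lit 0) (nat_lit 0) (nat_lit 0) (nat_lit 1) (nat_lit 0) (nat_lit 1) (nat_lit 0) (nat_lit 1)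 (nat_lit 0x101010101010100) (.cD (nat_lit 8) (.kc (nat_lit 20) (nat_lit 0x3001001)) (.cD (nat_lit 16) (.dfs (nat_lit 32) (nat_lit 4100) (nat_lit 4100) (nat_lit 0x1002001) (nat_lit 0x1002001) (nat_lit 0) (nat_lit 0) (nat_lit 3) (nat_lit 0) (nat_lit 0) (nat_lit 0) (nat_lit 1) (nat_lit 0) (nat_lit 1) (nat_lit 0) (nat_lit 1) (nat_lit 0x101010101010100) (.cD (nat_lit 8) (.kc (nat_lit 36) (nat_lit 0x5001001)) (.cD (nat_lit 16) (.kc (nat_lit 48) (nat_lit 0x3001001)) (.cD (nat_lit 24) (.kc (nat_lit 52) (nat_lit 0x7001001)) (.cD (nat_lit 32) (.kA false (nat_lit 0x300400200c00200e004008014005011001000003)) (.cD (nat_lit 40) (.kA false (nat_lit 0x1100100000300500200d002011001000003)) (.cD (nat_lit 48) (.kA false (nat_lit 0x200800c01000400500300200b002011001000003)) (.cD (nat_lit 56) (.kA false (nat_lit 0x500400200c00200e004008014005011001000003)) .nil)))))))) (.cD (nat_lit 24) (.dfs (nat_lit 32) (nat_lit 4100) (nat_lit 4100) (nat_lit 0x1002001) (nat_lit 0x1002001) (nat_lit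 0) (nat_lit 0) (nat_lit 3) (nat_lit 0) (nat_lit 0) (nat_lit 0) (nat_lit 1) (nat_lit 0) (nat_lit 1) (nat_lit 0) (nat_lit 1) (nat_lit 0x101010101010100) (.cD (nat_lit 8) (.kc (nat_lit 36) (nat_lit 0x5001001)) (.cD (nat_lit 16) (.kc (nat_lit 52) (nat_lit 0x7001001)) (.cD (nat_lit 24) (.kc (nat_lit 48) (nat_lit 0x3001001)) (.cD (nat_lit 32) (.kA false (nat_lit 0x700400600c00200e004008014005011001000003)) (.cD (nat_lit 40) (.kA false (nat_lit 0x1100100000700500600d002011001000003)) (.cD (nat_lit 48) (.kA false (nat_lit 0x100400600c00200e004008014005011001000003)) (.cD (nat_lit 56) (.kA false (nat_lit 0x400800a01000400100300600b002011001000003)) .nil)))))))) (.cD (nat_lit 32) (.kF (nat_lit 16) (nat_lit 0x100400100c012004002002000003)) (.cD (nat_lit 40) (.kF (nat_lit 16) (nat_lit 0x100400100c012004002002000003)) (.cD (nat_lit 48) (.kF (nat_lit 16) (nat_lit 0x1100100000e014006001006001003)) (.cD (nat_lit 56) (.kF (nat_lit 16) (nat_lit 0x1100100000a014006001006001003)) .nil))))))))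 (.cD (nat_lit 16) (.kF (nat_lit 4) (nat_lit 0x2002000001003001002)) (.cD (nat_lit 20) (.kF (nat_lit 4) (nat_lit 0xe01e003001003001002)) (.cD (nat_lit 24) (.kF (nat_lit 4) (nat_lit 0x1002001002012004002002000003)) (.cD (nat_lit 32) (.dfs (nat_lit 16) (nat_lit 4098) (nat_lit 4098) (nat_lit 4097) (nat_lit 4097) (nat_lit 0) (nat_lit 0) (nat_lit 3) (nat_lit 0) (nat_lit 0) (nat_lit 0) (nat_lit 1) (nat_lit 0) (nat_lit 0x1008004) (nat_lit 32772) (nat_lit 0x1001004000008001014000018) (nat_lit 0x1000101110110) (.cD (nat_lit 4) (.kF (nat_lit 16) (nat_lit 0x11001000001006001002)) (.cD (nat_lit 8) (.kF (nat_lit 16) (nat_lit 0x100400100c012004002002000003)) (.cD (nat_lit 16) (.dfs (nat_lit 32) (nat_lit 4100) (nat_lit 4100) (nat_lit 0x1002001) (nat_lit 0x1002001) (nat_lit 0) (nat_lit 0) (nat_lit 3) (nat_lit 0) (nat_lit 0) (nat_lit 0) (nat_lit 1) (nat_lit 0) (nat_lit 0x1008004) (nat_lit 32772) (nat_lit 0x1001004000008001014000018) (nat_lit 0x1000101110110) (.cD (nat_lit 4) (.kA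 true (nat_lit 0x100400600c002011001000002)) (.cD (nat_lit 8) (.kA false (nat_lit 0x700400200c002011001000002)) (.cD (nat_lit 16) (.kc (nat_lit 48) (nat_lit 0x3001001)) (.cD (nat_lit 20) (.kA true (nat_lit 0x300400600c002011001000002)) (.cD (nat_lit 24) (.kA false (nat_lit 0x500400200c002011001000002)) (.cD (nat_lit 32) (.kc (nat_lit 36) (nat_lit 0x5001001)) (.cD (nat_lit 48) (.kc (nat_lit 52) (nat_lit 0x7001001)) .nil)))))))) (.cD (nat_lit 20) (.dfs (nat_lit 32) (nat_lit 4100) (nat_lit 4100) (nat_lit 0x1002001) (nat_lit 0x1002001) (nat_lit 0) (nat_lit 0) (nat_lit 3) (nat_lit 0) (nat_lit 0) (nat_lit 0) (nat_lit 1) (nat_lit 0) (nat_lit 1) (nat_lit 0) (nat_lit 1) (nat_lit 0x11001100110010) (.cD (nat_lit 4) (.kA true (nat_lit 0x100400700c002011001000002)) (.cD (nat_lit 16) (.kA true (nat_lit 0x300400500c002011001000002)) (.cD (nat_lit 20) (.kc (nat_lit 48) (nat_lit 0x3001001)) (.cD (nat_lit 32) (.kc (nat_lit 36) (nat_lit 0x5001001)) (.cD (nat_lit 36) (.dfs (nat_lit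 9) (nat_lit 4100) (nat_lit 4101) (nat_lit 1) (nat_lit 1) (nat_lit 1) (nat_lit 0) (nat_lit 1) (nat_lit 4128) (nat_lit 0x40020010008004002011) (nat_lit 0) (nat_lit 1) (nat_lit 0) (nat_lit 1) (nat_lit 0) (nat_lit 1) (nat_lit 0) .nil) (.cD (nat_lit 48) (.kA true (nat_lit 0x700400100c002011001000002)) (.cD (nat_lit 52) (.kc (nat_lit 52) (nat_lit 0x7001001)) .nil)))))))) (.cD (nat_lit 24) (.kF (nat_lit 16) (nat_lit 0x11001000001006001002)) (.cD (nat_lit 32) (.kc (nat_lit 20) (nat_lit 0x3001001)) (.cD (nat_lit 48) (.dfs (nat_lit 32) (nat_lit 4100) (nat_lit 4100) (nat_lit 0x1002001) (nat_lit 0x1002001) (nat_lit 0) (nat_lit 0) (nat_lit 3) (nat_lit 0) (nat_lit 0) (nat_lit 0) (nat_lit 1) (nat_lit 0) (nat_lit 0x1008004) (nat_lit 32772) (nat_lit 0x1001004000008001014000018) (nat_lit 0x1000101110110) (.cD (nat_lit 4) (.kA true (nat_lit 0x100400200c002011001000002)) (.cD (nat_lit 8) (.kA false (nat_lit 0x300400600c002011001000002)) (.cD (nat_lit 16) (.kc (nat_lit 52) (nat_lit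 0x7001001)) (.cD (nat_lit 20) (.kA true (nat_lit 0x700400200c002011001000002)) (.cD (nat_lit 24) (.kA false (nat_lit 0x500400600c002011001000002)) (.cD (nat_lit 32) (.kc (nat_lit 36) (nat_lit 0x5001001)) (.cD (nat_lit 48) (.kc (nat_lit 48) (nat_lit 0x3001001)) .nil)))))))) .nil)))))))) (.cD (nat_lit 48) (.kF (nat_lit 4) (nat_lit 0x1002001002012004002002000003)) .nil))))))))))
theorem c154 : (chk [] [] p154).n x90 s154 = true := by decide +kernel
noncomputable def p155 : Pf := (.anc (nat_lit 72) (nat_lit 0x11001000014004002) (nat_lit 0x1003020010008) (.czp (nat_lit 64) (nat_lit 0) (nat_lit 0x1040020010008004) z6 (.dfs (nat_lit 8) (nat_lit 4097) (nat_lit 4097) (nat_lit 1) (nat_lit 1) (nat_lit 0) (nat_lit 0) (nat_lit 3) (nat_lit 0) (nat_lit 0) (nat_lit 0) (nat_lit 1) (nat_lit 0) (nat_lit 0x1008004) (nat_lit 32772) (nat_lit 0x1001004000008001014000018) (nat_lit 0x1000101110110) (.cD (nat_lit 4) (.dfs (nat_lit 16) (nat_lit 4098) (nat_lit 4098) (nat_lit 4097) (nat_lit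 4097) (nat_lit 0) (nat_lit 0) (nat_lit 3) (nat_lit 0) (nat_lit 0) (nat_lit 0) (nat_lit 1) (nat_lit 0) (nat_lit 1) (nat_lit 0) (nat_lit 1) (nat_lit 0x11001100110010) (.cD (nat_lit 4) (.kc (nat_lit 24) (nat_lit 0x3001001)) (.cD (nat_lit 16) (.dfs (nat_lit 32) (nat_lit 4100) (nat_lit 4100) (nat_lit 0x1002001) (nat_lit 0x1002001) (nat_lit 0) (nat_lit 0) (nat_lit 3) (nat_lit 0) (nat_lit 0) (nat_lit 0) (nat_lit 1) (nat_lit 0) (nat_lit 1) (nat_lit 0) (nat_lit 1) (nat_lit 0x11001100110010) (.cD (nat_lit 4) (.kc (nat_lit 40) (nat_lit 0x5001001)) (.cD (nat_lit 16) (.kc (nat_lit 48) (nat_lit 0x3001001)) (.cD (nat_lit 20) (.kc (nat_lit 56) (nat_lit 0x7001001)) (.cD (nat_lit 32) (.kA false (nat_lit 0x300400200800100e004008014005011001000003)) (.cD (nat_lit 36) (.kA false (nat_lit 0x1100100000700100200d001011001000003)) (.cD (nat_lit 48) (.kA false (nat_lit 0x200800c01000400700100200d001011001000003)) (.cD (nat_lit 52) (.kA false (nat_lit 0x300400200800100e004008014005011001000003))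 .nil)))))))) (.cD (nat_lit 20) (.dfs (nat_lit 32) (nat_lit 4100) (nat_lit 4100) (nat_lit 0x1002001) (nat_lit 0x1002001) (nat_lit 0) (nat_lit 0) (nat_lit 3) (nat_lit 0) (nat_lit 0) (nat_lit 0) (nat_lit 1) (nat_lit 0) (nat_lit 1) (nat_lit 0) (nat_lit 1) (nat_lit 0x11001100110010) (.cD (nat_lit 4) (.kc (nat_lit 40) (nat_lit 0x5001001)) (.cD (nat_lit 16) (.kc (nat_lit 56) (nat_lit 0x7001001)) (.cD (nat_lit 20) (.kc (nat_lit 48) (nat_lit 0x3001001)) (.cD (nat_lit 32) (.kA false (nat_lit 0x300400200800100e004008014005011001000003)) (.cD (nat_lit 36) (.kA false (nat_lit 0x1100100000700100200d001011001000003)) (.cD (nat_lit 48) (.kA false (nat_lit 0x400800a01000400700100200d001011001000003)) (.cD (nat_lit 52) (.kA false (nat_lit 0x300400200800100e004008014005011001000003)) .nil)))))))) (.cD (nat_lit 32) (.kF (nat_lit 16) (nat_lit 0x4010004002002000001006001003)) (.cD (nat_lit 36) (.kF (nat_lit 16) (nat_lit 0x11001000001007001002002000003)) (.cD (nat_lit 48) (.dfs (nat_lit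 32) (nat_lit 4100) (nat_lit 4100) (nat_lit 0x1002001) (nat_lit 0x1002001) (nat_lit 0) (nat_lit 0) (nat_lit 3) (nat_lit 0) (nat_lit 0) (nat_lit 0) (nat_lit 1) (nat_lit 0) (nat_lit 1) (nat_lit 0) (nat_lit 1) (nat_lit 0x11001100110010) (.cD (nat_lit 4) (.kc (nat_lit 40) (nat_lit 0x5001001)) (.cD (nat_lit 16) (.kA false (nat_lit 0x600c00801e00300700100200d001011001000003)) (.cD (nat_lit 20) (.kA false (nat_lit 0x200200000700100200d001011001000003)) (.cD (nat_lit 32) (.kA false (nat_lit 0x300400200800100e004008014005011001000003)) (.cD (nat_lit 36) (.kA false (nat_lit 0x1100100000700100200d001011001000003)) (.cD (nat_lit 48) (.kc (nat_lit 48) (nat_lit 0x3001001)) (.cD (nat_lit 52) (.kc (nat_lit 56) (nat_lit 0x7001001)) .nil)))))))) (.cD (nat_lit 52) (.dfs (nat_lit 32) (nat_lit 4100) (nat_lit 4100) (nat_lit 0x1002001) (nat_lit 0x1002001) (nat_lit 0) (nat_lit 0) (nat_lit 3) (nat_lit 0) (nat_lit 0) (nat_lit 0) (nat_lit 1) (nat_lit 0) (nat_lit 1) (nat_lit 0) (nat_lit 1)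 (nat_lit 0x11001100110010) (.cD (nat_lit 4) (.kc (nat_lit 40) (nat_lit 0x5001001)) (.cD (nat_lit 16) (.kA false (nat_lit 0x400c00a01e00300700100200d001011001000003)) (.cD (nat_lit 20) (.kA false (nat_lit 0x200200000700100200d001011001000003)) (.cD (nat_lit 32) (.kA false (nat_lit 0x300400200800100e004008014005011001000003)) (.cD (nat_lit 36) (.kA false (nat_lit 0x1100100000700100200d001011001000003)) (.cD (nat_lit 48) (.kc (nat_lit 56) (nat_lit 0x7001001)) (.cD (nat_lit 52) (.kc (nat_lit 48) (nat_lit 0x3001001)) .nil)))))))) .nil)))))))) (.cD (nat_lit 8) (.dfs (nat_lit 16) (nat_lit 4098) (nat_lit 4098) (nat_lit 4097) (nat_lit 4097) (nat_lit 0) (nat_lit 0) (nat_lit 3) (nat_lit 0) (nat_lit 0) (nat_lit 0) (nat_lit 1) (nat_lit 0) (nat_lit 1) (nat_lit 0) (nat_lit 1) (nat_lit 0x101010101010100) (.cD (nat_lit 8) (.kc (nat_lit 24) (nat_lit 0x3001001)) (.cD (nat_lit 16) (.dfs (nat_lit 32) (nat_lit 4100) (nat_lit 4100) (nat_lit 0x1002001) (nat_lit 0x1002001) (nat_lit 0) (nat_lit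 0) (nat_lit 3) (nat_lit 0) (nat_lit 0) (nat_lit 0) (nat_lit 1) (nat_lit 0) (nat_lit 1) (nat_lit 0) (nat_lit 1) (nat_lit 0x101010101010100) (.cD (nat_lit 8) (.kc (nat_lit 40) (nat_lit 0x5001001)) (.cD (nat_lit 16) (.kc (nat_lit 48) (nat_lit 0x3001001)) (.cD (nat_lit 24) (.kc (nat_lit 56) (nat_lit 0x7001001)) (.cD (nat_lit 32) (.kA false (nat_lit 0x300400200800100e004008014005011001000003)) (.cD (nat_lit 40) (.kA false (nat_lit 0x1100100000700100200d001011001000003)) (.cD (nat_lit 48) (.dfs (nat_lit 3) (nat_lit 0x1004003002008) (nat_lit 0x1007003002008) (nat_lit 4097) (nat_lit 4097) (nat_lit 2) (nat_lit 0) (nat_lit 2) (nat_lit 0) (nat_lit 0) (nat_lit 4) (nat_lit 1) (nat_lit 0) (nat_lit 1) (nat_lit 0) (nat_lit 1) (nat_lit 0) .nil) (.cD (nat_lit 56) (.dfs (nat_lit 3) (nat_lit 4101) (nat_lit 4102) (nat_lit 1) (nat_lit 1) (nat_lit 2) (nat_lit 0) (nat_lit 1) (nat_lit 4144) (nat_lit 0x40020010008004002011) (nat_lit 0) (nat_lit 1) (nat_lit 0) (nat_lit 1) (nat_lit 0) (nat_lit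 1) (nat_lit 0) .nil) .nil)))))))) (.cD (nat_lit 24) (.dfs (nat_lit 32) (nat_lit 4100) (nat_lit 4100) (nat_lit 0x1002001) (nat_lit 0x1002001) (nat_lit 0) (nat_lit 0) (nat_lit 3) (nat_lit 0) (nat_lit 0) (nat_lit 0) (nat_lit 1) (nat_lit 0) (nat_lit 1) (nat_lit 0) (nat_lit 1) (nat_lit 0x101010101010100) (.cD (nat_lit 8) (.kc (nat_lit 40) (nat_lit 0x5001001)) (.cD (nat_lit 16) (.kc (nat_lit 56) (nat_lit 0x7001001)) (.cD (nat_lit 24) (.kc (nat_lit 48) (nat_lit 0x3001001)) (.cD (nat_lit 32) (.kA false (nat_lit 0x300400200800100e004008014005011001000003)) (.cD (nat_lit 40) (.kA false (nat_lit 0x1100100000700100200d001011001000003)) (.cD (nat_lit 48) (.kA false (nat_lit 0x300400200800100e004008014005011001000003)) (.cD (nat_lit 56) (.kA false (nat_lit 0x300400200800100e004008014005011001000003)) .nil)))))))) (.cD (nat_lit 32) (.kF (nat_lit 8) (nat_lit 0x3006002004004000002007001002002000004)) (.cD (nat_lit 40) (.kF (nat_lit 8) (nat_lit 0x11001000002007001002002000003)) (.cD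 (nat_lit 48) (.kF (nat_lit 16) (nat_lit 0x1100100000e014006001006001003)) (.cD (nat_lit 56) (.kF (nat_lit 16) (nat_lit 0x1100100000a014006001006001003)) .nil)))))))) (.cD (nat_lit 16) (.kF (nat_lit 8) (nat_lit 0x2002000001003001002)) (.cD (nat_lit 20) (.kF (nat_lit 8) (nat_lit 0xe01e003001003001002)) (.cD (nat_lit 24) (.kF (nat_lit 8) (nat_lit 0x11001000002014006011001000001003001004)) (.cD (nat_lit 32) (.dfs (nat_lit 16) (nat_lit 4098) (nat_lit 4098) (nat_lit 4097) (nat_lit 4097) (nat_lit 0) (nat_lit 0) (nat_lit 3) (nat_lit 0) (nat_lit 0) (nat_lit 0) (nat_lit 1) (nat_lit 0) (nat_lit 0x1008004) (nat_lit 32772) (nat_lit 0x1001004000008001014000018) (nat_lit 0x1000101110110) (.cD (nat_lit 4) (.kF (nat_lit 16) (nat_lit 0x11001000001006001002)) (.cD (nat_lit 8) (.kF (nat_lit 8) (nat_lit 0x11001000004016005002007001002002000004)) (.cD (nat_lit 16) (.dfs (nat_lit 32) (nat_lit 4100) (nat_lit 4100) (nat_lit 0x1002001) (nat_lit 0x1002001) (nat_lit 0) (nat_lit 0) (nat_lit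 3) (nat_lit 0) (nat_lit 0) (nat_lit 0) (nat_lit 1) (nat_lit 0) (nat_lit 0x1008004) (nat_lit 32772) (nat_lit 0x1001004000008001014000018) (nat_lit 0x1000101110110) (.cD (nat_lit 4) (.kA false (nat_lit 0x1100100000400100200c001002)) (.cD (nat_lit 8) (.kA false (nat_lit 0x700400200c002011001000002)) (.cD (nat_lit 16) (.kc (nat_lit 48) (nat_lit 0x3001001)) (.cD (nat_lit 20) (.kA false (nat_lit 0x1100100000400100200c001002)) (.cD (nat_lit 24) (.dfs (nat_lit 3) (nat_lit 4100) (nat_lit 4103) (nat_lit 1) (nat_lit 1) (nat_lit 2) (nat_lit 0) (nat_lit 1) (nat_lit 4128) (nat_lit 0x40020010008004002011) (nat_lit 0) (nat_lit 1) (nat_lit 0) (nat_lit 1) (nat_lit 0) (nat_lit 1) (nat_lit 0) .nil) (.cD (nat_lit 32) (.kc (nat_lit 40) (nat_lit 0x5001001)) (.cD (nat_lit 48) (.kc (nat_lit 56) (nat_lit 0x7001001)) .nil)))))))) (.cD (nat_lit 20) (.dfs (nat_lit 32) (nat_lit 4100) (nat_lit 4100) (nat_lit 0x1002001) (nat_lit 0x1002001) (nat_lit 0) (nat_lit 0) (nat_lit 3) (nat_lit 0) (nat_lit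 0) (nat_lit 0) (nat_lit 1) (nat_lit 0) (nat_lit 1) (nat_lit 0) (nat_lit 1) (nat_lit 0x11001100110010) (.cD (nat_lit 4) (.kA false (nat_lit 0x1100100000400100200c001002)) (.cD (nat_lit 16) (.kA false (nat_lit 0x1100100000400100200c001002)) (.cD (nat_lit 20) (.kc (nat_lit 48) (nat_lit 0x3001001)) (.cD (nat_lit 32) (.kc (nat_lit 40) (nat_lit 0x5001001)) (.cD (nat_lit 36) (.kA false (nat_lit 0x1100100000400100200c001002)) (.cD (nat_lit 48) (.kA false (nat_lit 0x1100100000400100200c001002)) (.cD (nat_lit 52) (.kc (nat_lit 56) (nat_lit 0x7001001)) .nil)))))))) (.cD (nat_lit 24) (.kF (nat_lit 16) (nat_lit 0x11001000001006001002)) (.cD (nat_lit 32) (.kc (nat_lit 24) (nat_lit 0x3001001)) (.cD (nat_lit 48) (.dfs (nat_lit 32) (nat_lit 4100) (nat_lit 4100) (nat_lit 0x1002001) (nat_lit 0x1002001) (nat_lit 0) (nat_lit 0) (nat_lit 3) (nat_lit 0) (nat_lit 0) (nat_lit 0) (nat_lit 1) (nat_lit 0) (nat_lit 0x1008004) (nat_lit 32772) (nat_lit 0x1001004000008001014000018) (nat_lit 0x1000101110110)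 (.cD (nat_lit 4) (.kA false (nat_lit 0x1100100000400100200c001002)) (.cD (nat_lit 8) (.kA false (nat_lit 0x300400600c002011001000002)) (.cD (nat_lit 16) (.kc (nat_lit 56) (nat_lit 0x7001001)) (.cD (nat_lit 20) (.kA false (nat_lit 0x1100100000400100200c001002)) (.cD (nat_lit 24) (.kA false (nat_lit 0x500400600c002011001000002)) (.cD (nat_lit 32) (.kc (nat_lit 40) (nat_lit 0x5001001)) (.cD (nat_lit 48) (.kc (nat_lit 48) (nat_lit 0x3001001)) .nil)))))))) .nil)))))))) (.cD (nat_lit 48) (.kF (nat_lit 8) (nat_lit 0x13003000001003001002)) .nil))))))))))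
theorem c155 : (chk [] [] p155).n x91 s155 = true := by decide +kernel
noncomputable def p156 : Pf := (.anc (nat_lit 68) (nat_lit 0x10002002002000002) (nat_lit 0x1009020010004) (.czp (nat_lit 64) (nat_lit 0) (nat_lit 0x1040020010008004) z6 (.dfs (nat_lit 4) (nat_lit 4097) (nat_lit 4097) (nat_lit 1) (nat_lit 1) (nat_lit 0) (nat_lit 0) (nat_lit 3) (nat_lit 0) (nat_lit 0) (nat_lit 0) (nat_lit 1) (nat_lit 0) (nat_lit 0x1008004) (nat_lit 32772) (nat_lit 0x1001004000008001014000018) (nat_lit 0x1000101110110) (.cD (nat_lit 4) (.dfs (nat_lit 16) (nat_lit 4098) (nat_lit 4098) (nat_lit 4097) (nat_lit 4097) (nat_lit 0) (nat_lit 0) (nat_lit 3) (nat_lit 0) (nat_lit 0) (nat_lit 0) (nat_lit 1) (nat_lit 0) (nat_lit 1) (nat_lit 0) (nat_lit 1) (nat_lit 0x11001100110010) (.cD (nat_lit 4) (.kc (nat_lit 20) (nat_lit 0x3001001)) (.cD (nat_lit 16) (.dfs (nat_lit 32) (nat_lit 4100) (nat_lit 4100) (nat_lit 0x1002001) (nat_lit 0x1002001) (nat_lit 0) (nat_lit 0) (nat_lit 3) (nat_lit 0) (nat_lit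 0) (nat_lit 0) (nat_lit 1) (nat_lit 0) (nat_lit 1) (nat_lit 0) (nat_lit 1) (nat_lit 0x11001100110010) (.cD (nat_lit 4) (.kc (nat_lit 36) (nat_lit 0x5001001)) (.cD (nat_lit 16) (.kc (nat_lit 48) (nat_lit 0x3001001)) (.cD (nat_lit 20) (.kc (nat_lit 52) (nat_lit 0x7001001)) (.cD (nat_lit 32) (.dfs (nat_lit 9) (nat_lit 0x1004001003008) (nat_lit 0x1005001003008) (nat_lit 4098) (nat_lit 4098) (nat_lit 2) (nat_lit 0) (nat_lit 2) (nat_lit 1) (nat_lit 0) (nat_lit 8) (nat_lit 1) (nat_lit 0) (nat_lit 1) (nat_lit 0) (nat_lit 1) (nat_lit 0) .nil) (.cD (nat_lit 36) (.kA true (nat_lit 0x2100100000400100300d001021001000003)) (.cD (nat_lit 48) (.kA true (nat_lit 0x600800401000400400100300d001021001000003)) (.cD (nat_lit 52) (.kA true (nat_lit 0x5004003008001008004002005007021001000003)) .nil)))))))) (.cD (nat_lit 20) (.dfs (nat_lit 32) (nat_lit 4100) (nat_lit 4100) (nat_lit 0x1002001) (nat_lit 0x1002001) (nat_lit 0) (nat_lit 0) (nat_lit 3) (nat_lit 0) (nat_lit 0) (nat_lit 0) (nat_lit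 1) (nat_lit 0) (nat_lit 1) (nat_lit 0) (nat_lit 1) (nat_lit 0x11001100110010) (.cD (nat_lit 4) (.kc (nat_lit 36) (nat_lit 0x5001001)) (.cD (nat_lit 16) (.kc (nat_lit 52) (nat_lit 0x7001001)) (.cD (nat_lit 20) (.kc (nat_lit 48) (nat_lit 0x3001001)) (.cD (nat_lit 32) (.kA true (nat_lit 0x5004003008001008004002005007021001000003)) (.cD (nat_lit 36) (.dfs (nat_lit 9) (nat_lit 4102) (nat_lit 4103) (nat_lit 1) (nat_lit 1) (nat_lit 2) (nat_lit 0) (nat_lit 1) (nat_lit 4112) (nat_lit 0x40020010008004002021) (nat_lit 0) (nat_lit 1) (nat_lit 0) (nat_lit 1) (nat_lit 0) (nat_lit 1) (nat_lit 0) .nil) (.cD (nat_lit 48) (.kA true (nat_lit 0x400300500800100400100300c001002)) (.cD (nat_lit 52) (.kA true (nat_lit 0x400700100800100400100300c001002)) .nil)))))))) (.cD (nat_lit 32) (.kF (nat_lit 16) (nat_lit 0x100400100c012004002002000003)) (.cD (nat_lit 36) (.kF (nat_lit 16) (nat_lit 0x100400100c012004002002000003)) (.cD (nat_lit 48) (.dfs (nat_lit 32) (nat_lit 4100) (nat_lit 4100)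 (nat_lit 0x1002001) (nat_lit 0x1002001) (nat_lit 0) (nat_lit 0) (nat_lit 3) (nat_lit 0) (nat_lit 0) (nat_lit 0) (nat_lit 1) (nat_lit 0) (nat_lit 1) (nat_lit 0) (nat_lit 1) (nat_lit 0x11001100110010) (.cD (nat_lit 4) (.kc (nat_lit 36) (nat_lit 0x5001001)) (.cD (nat_lit 16) (.kA true (nat_lit 0x400200100800100400100300c001002)) (.cD (nat_lit 20) (.kA true (nat_lit 0x400600500800100400100300c001002)) (.cD (nat_lit 32) (.kA true (nat_lit 0x5004003008001008004002005007021001000003)) (.cD (nat_lit 36) (.kA true (nat_lit 0x400500600800100400100300c001002)) (.cD (nat_lit 48) (.kc (nat_lit 48) (nat_lit 0x3001001)) (.cD (nat_lit 52) (.kc (nat_lit 52) (nat_lit 0x7001001)) .nil)))))))) (.cD (nat_lit 52) (.dfs (nat_lit 32) (nat_lit 4100) (nat_lit 4100) (nat_lit 0x1002001) (nat_lit 0x1002001) (nat_lit 0) (nat_lit 0) (nat_lit 3) (nat_lit 0) (nat_lit 0) (nat_lit 0) (nat_lit 1) (nat_lit 0) (nat_lit 1) (nat_lit 0) (nat_lit 1) (nat_lit 0x11001100110010) (.cD (nat_lit 4) (.kc (nat_lit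 36) (nat_lit 0x5001001)) (.cD (nat_lit 16) (.kA true (nat_lit 0x400200500800100400100300c001002)) (.cD (nat_lit 20) (.kA true (nat_lit 0x400600100800100400100300c001002)) (.cD (nat_lit 32) (.kA true (nat_lit 0x5004003008001008004002005007021001000003)) (.cD (nat_lit 36) (.kA true (nat_lit 0x400500200800100400100300c001002)) (.cD (nat_lit 48) (.kc (nat_lit 52) (nat_lit 0x7001001)) (.cD (nat_lit 52) (.kc (nat_lit 48) (nat_lit 0x3001001)) .nil)))))))) .nil)))))))) (.cD (nat_lit 8) (.dfs (nat_lit 16) (nat_lit 4098) (nat_lit 4098) (nat_lit 4097) (nat_lit 4097) (nat_lit 0) (nat_lit 0) (nat_lit 3) (nat_lit 0) (nat_lit 0) (nat_lit 0) (nat_lit 1) (nat_lit 0) (nat_lit 1) (nat_lit 0) (nat_lit 1) (nat_lit 0x101010101010100) (.cD (nat_lit 8) (.kc (nat_lit 20) (nat_lit 0x3001001)) (.cD (nat_lit 16) (.dfs (nat_lit 32) (nat_lit 4100) (nat_lit 4100) (nat_lit 0x1002001) (nat_lit 0x1002001) (nat_lit 0) (nat_lit 0) (nat_lit 3) (nat_lit 0) (nat_lit 0) (nat_lit 0) (nat_lit 1) (nat_lit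 0) (nat_lit 1) (nat_lit 0) (nat_lit 1) (nat_lit 0x101010101010100) (.cD (nat_lit 8) (.kc (nat_lit 36) (nat_lit 0x5001001)) (.cD (nat_lit 16) (.kc (nat_lit 48) (nat_lit 0x3001001)) (.cD (nat_lit 24) (.kc (nat_lit 52) (nat_lit 0x7001001)) (.cD (nat_lit 32) (.kA false (nat_lit 0x300400200c00200e004008014005021001000003)) (.cD (nat_lit 40) (.kA false (nat_lit 0x2100100000300500200d002021001000003)) (.cD (nat_lit 48) (.kA false (nat_lit 0x200800c01000400500300200b002021001000003)) (.cD (nat_lit 56) (.kA false (nat_lit 0x500400200c00200e004008014005021001000003)) .nil)))))))) (.cD (nat_lit 24) (.dfs (nat_lit 32) (nat_lit 4100) (nat_lit 4100) (nat_lit 0x1002001) (nat_lit 0x1002001) (nat_lit 0) (nat_lit 0) (nat_lit 3) (nat_lit 0) (nat_lit 0) (nat_lit 0) (nat_lit 1) (nat_lit 0) (nat_lit 1) (nat_lit 0) (nat_lit 1) (nat_lit 0x101010101010100) (.cD (nat_lit 8) (.kc (nat_lit 36) (nat_lit 0x5001001)) (.cD (nat_lit 16) (.kc (nat_lit 52) (nat_lit 0x7001001)) (.cD (nat_lit 24) (.kc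 (nat_lit 48) (nat_lit 0x3001001)) (.cD (nat_lit 32) (.kA false (nat_lit 0x700400600c00200e004008014005021001000003)) (.cD (nat_lit 40) (.kA false (nat_lit 0x2100100000700500600d002021001000003)) (.cD (nat_lit 48) (.kA false (nat_lit 0x100400600c00200e004008014005021001000003)) (.cD (nat_lit 56) (.kA false (nat_lit 0x400800a01000400100300600b002021001000003)) .nil)))))))) (.cD (nat_lit 32) (.kF (nat_lit 16) (nat_lit 0x100400100c012004002002000003)) (.cD (nat_lit 40) (.kF (nat_lit 16) (nat_lit 0x100400100c012004002002000003)) (.cD (nat_lit 48) (.kF (nat_lit 16) (nat_lit 0x2100100000e014006001006001003)) (.cD (nat_lit 56) (.kF (nat_lit 16) (nat_lit 0x2100100000a014006001006001003)) .nil)))))))) (.cD (nat_lit 16) (.kF (nat_lit 4) (nat_lit 0x2002000001003001002)) (.cD (nat_lit 20) (.kF (nat_lit 4) (nat_lit 0xe01e003001003001002)) (.cD (nat_lit 24) (.kF (nat_lit 4) (nat_lit 0x1002001002012004002002000003)) (.cD (nat_lit 32) (.dfs (nat_lit 16) (nat_lit 4098) (nat_lit 4098)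 (nat_lit 4097) (nat_lit 4097) (nat_lit 0) (nat_lit 0) (nat_lit 3) (nat_lit 0) (nat_lit 0) (nat_lit 0) (nat_lit 1) (nat_lit 0) (nat_lit 0x1008004) (nat_lit 32772) (nat_lit 0x1001004000008001014000018) (nat_lit 0x1000101110110) (.cD (nat_lit 4) (.kF (nat_lit 16) (nat_lit 0x21001000001006001002)) (.cD (nat_lit 8) (.kF (nat_lit 16) (nat_lit 0x100400100c012004002002000003)) (.cD (nat_lit 16) (.dfs (nat_lit 32) (nat_lit 4100) (nat_lit 4100) (nat_lit 0x1002001) (nat_lit 0x1002001) (nat_lit 0) (nat_lit 0) (nat_lit 3) (nat_lit 0) (nat_lit 0) (nat_lit 0) (nat_lit 1) (nat_lit 0) (nat_lit 0x1008004) (nat_lit 32772) (nat_lit 0x1001004000008001014000018) (nat_lit 0x1000101110110) (.cD (nat_lit 4) (.kA true (nat_lit 0x100400600c002021001000002)) (.cD (nat_lit 8) (.kA false (nat_lit 0x700400200c002021001000002)) (.cD (nat_lit 16) (.kc (nat_lit 48) (nat_lit 0x3001001)) (.cD (nat_lit 20) (.kA true (nat_lit 0x300400600c002021001000002)) (.cD (nat_lit 24) (.kA false (nat_lit 0x500400200c002021001000002))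 (.cD (nat_lit 32) (.kc (nat_lit 36) (nat_lit 0x5001001)) (.cD (nat_lit 48) (.kc (nat_lit 52) (nat_lit 0x7001001)) .nil)))))))) (.cD (nat_lit 20) (.dfs (nat_lit 32) (nat_lit 4100) (nat_lit 4100) (nat_lit 0x1002001) (nat_lit 0x1002001) (nat_lit 0) (nat_lit 0) (nat_lit 3) (nat_lit 0) (nat_lit 0) (nat_lit 0) (nat_lit 1) (nat_lit 0) (nat_lit 1) (nat_lit 0) (nat_lit 1) (nat_lit 0x11001100110010) (.cD (nat_lit 4) (.kA true (nat_lit 0x100400700c002021001000002)) (.cD (nat_lit 16) (.kA true (nat_lit 0x300400500c002021001000002)) (.cD (nat_lit 20) (.kc (nat_lit 48) (nat_lit 0x3001001)) (.cD (nat_lit 32) (.kc (nat_lit 36) (nat_lit 0x5001001)) (.cD (nat_lit 36) (.dfs (nat_lit 9) (nat_lit 4100) (nat_lit 4101) (nat_lit 1) (nat_lit 1) (nat_lit 2) (nat_lit 0) (nat_lit 1) (nat_lit 4128) (nat_lit 0x40020010008004002021) (nat_lit 0) (nat_lit 1) (nat_lit 0) (nat_lit 1) (nat_lit 0) (nat_lit 1) (nat_lit 0) .nil) (.cD (nat_lit 48) (.kA true (nat_lit 0x700400100c002021001000002)) (.cD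 (nat_lit 52) (.kc (nat_lit 52) (nat_lit 0x7001001)) .nil)))))))) (.cD (nat_lit 24) (.kF (nat_lit 16) (nat_lit 0x21001000001006001002)) (.cD (nat_lit 32) (.kc (nat_lit 20) (nat_lit 0x3001001)) (.cD (nat_lit 48) (.dfs (nat_lit 32) (nat_lit 4100) (nat_lit 4100) (nat_lit 0x1002001) (nat_lit 0x1002001) (nat_lit 0) (nat_lit 0) (nat_lit 3) (nat_lit 0) (nat_lit 0) (nat_lit 0) (nat_lit 1) (nat_lit 0) (nat_lit 0x1008004) (nat_lit 32772) (nat_lit 0x1001004000008001014000018) (nat_lit 0x1000101110110) (.cD (nat_lit 4) (.kA true (nat_lit 0x100400200c002021001000002)) (.cD (nat_lit 8) (.kA false (nat_lit 0x300400600c002021001000002)) (.cD (nat_lit 16) (.kc (nat_lit 52) (nat_lit 0x7001001)) (.cD (nat_lit 20) (.kA true (nat_lit 0x700400200c002021001000002)) (.cD (nat_lit 24) (.kA false (nat_lit 0x500400600c002021001000002)) (.cD (nat_lit 32) (.kc (nat_lit 36) (nat_lit 0x5001001)) (.cD (nat_lit 48) (.kc (nat_lit 48) (nat_lit 0x3001001)) .nil)))))))) .nil)))))))) (.cD (nat_lit 48)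 (.kF (nat_lit 4) (nat_lit 0x1002001002012004002002000003)) .nil))))))))))
theorem c156 : (chk [] [] p156).n x92 s156 = true := by decide +kernel
noncomputable def p157 : Pf := (.anc (nat_lit 68) (nat_lit 0x10002002002000002) (nat_lit 0x1009020010004) (.czp (nat_lit 64) (nat_lit 0) (nat_lit 0x1040020010008004) z6 (.dfs (nat_lit 4) (nat_lit 4097) (nat_lit 4097) (nat_lit 1) (nat_lit 1) (nat_lit 0) (nat_lit 0) (nat_lit 3) (nat_lit 0) (nat_lit 0) (nat_lit 0) (nat_lit 1) (nat_lit 0) (nat_lit 0x1008004) (nat_lit 32772) (nat_lit 0x1001004000008001014000018) (nat_lit 0x1000101110110) (.cD (nat_lit 4) (.dfs (nat_lit 16) (nat_lit 4098) (nat_lit 4098) (nat_lit 4097) (nat_lit 4097) (nat_lit 0) (nat_lit 0) (nat_lit 3) (nat_lit 0) (nat_lit 0) (nat_lit 0) (nat_lit 1) (nat_lit 0) (nat_lit 1) (nat_lit 0) (nat_lit 1) (nat_lit 0x11001100110010) (.cD (nat_lit 4) (.kc (nat_lit 20) (nat_lit 0x3001001)) (.cD (nat_lit 16) (.dfs (nat_lit 32) (nat_lit 4100) (nat_lit 4100) (nat_lit 0x1002001)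 (nat_lit 0x1002001) (nat_lit 0) (nat_lit 0) (nat_lit 3) (nat_lit 0) (nat_lit 0) (nat_lit 0) (nat_lit 1) (nat_lit 0) (nat_lit 1) (nat_lit 0) (nat_lit 1) (nat_lit 0x11001100110010) (.cD (nat_lit 4) (.kc (nat_lit 36) (nat_lit 0x5001001)) (.cD (nat_lit 16) (.kc (nat_lit 48) (nat_lit 0x3001001)) (.cD (nat_lit 20) (.kc (nat_lit 52) (nat_lit 0x7001001)) (.cD (nat_lit 32) (.dfs (nat_lit 9) (nat_lit 0x1004001003008) (nat_lit 0x1005001003008) (nat_lit 4098) (nat_lit 4098) (nat_lit 2) (nat_lit 0) (nat_lit 2) (nat_lit 1) (nat_lit 0) (nat_lit 8) (nat_lit 1) (nat_lit 0) (nat_lit 1) (nat_lit 0) (nat_lit 1) (nat_lit 0) .nil) (.cD (nat_lit 36) (.kA true (nat_lit 0x2100100000400100300d001021001000003)) (.cD (nat_lit 48) (.kA true (nat_lit 0x600800401000400400100300d001021001000003)) (.cD (nat_lit 52) (.kA true (nat_lit 0x5004003008001008004002005007021001000003)) .nil)))))))) (.cD (nat_lit 20) (.dfs (nat_lit 32) (nat_lit 4100) (nat_lit 4100) (nat_lit 0x1002001) (nat_lit 0x1002001)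 (nat_lit 0) (nat_lit 0) (nat_lit 3) (nat_lit 0) (nat_lit 0) (nat_lit 0) (nat_lit 1) (nat_lit 0) (nat_lit 1) (nat_lit 0) (nat_lit 1) (nat_lit 0x11001100110010) (.cD (nat_lit 4) (.kc (nat_lit 36) (nat_lit 0x5001001)) (.cD (nat_lit 16) (.kc (nat_lit 52) (nat_lit 0x7001001)) (.cD (nat_lit 20) (.kc (nat_lit 48) (nat_lit 0x3001001)) (.cD (nat_lit 32) (.kA true (nat_lit 0x5004003008001008004002005007021001000003)) (.cD (nat_lit 36) (.dfs (nat_lit 9) (nat_lit 4102) (nat_lit 4103) (nat_lit 1) (nat_lit 1) (nat_lit 2) (nat_lit 0) (nat_lit 1) (nat_lit 4112) (nat_lit 0x40020010008004002021) (nat_lit 0) (nat_lit 1) (nat_lit 0) (nat_lit 1) (nat_lit 0) (nat_lit 1) (nat_lit 0) .nil) (.cD (nat_lit 48) (.kA true (nat_lit 0x400300500800100400100300c001002)) (.cD (nat_lit 52) (.kA true (nat_lit 0x400700100800100400100300c001002)) .nil)))))))) (.cD (nat_lit 32) (.kF (nat_lit 16) (nat_lit 0x100400100c012004002002000003)) (.cD (nat_lit 36) (.kF (nat_lit 16) (nat_lit 0x100400100c012004002002000003))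 (.cD (nat_lit 48) (.dfs (nat_lit 32) (nat_lit 4100) (nat_lit 4100) (nat_lit 0x1002001) (nat_lit 0x1002001) (nat_lit 0) (nat_lit 0) (nat_lit 3) (nat_lit 0) (nat_lit 0) (nat_lit 0) (nat_lit 1) (nat_lit 0) (nat_lit 1) (nat_lit 0) (nat_lit 1) (nat_lit 0x11001100110010) (.cD (nat_lit 4) (.kc (nat_lit 36) (nat_lit 0x5001001)) (.cD (nat_lit 16) (.kA true (nat_lit 0x400200100800100400100300c001002)) (.cD (nat_lit 20) (.kA true (nat_lit 0x400600500800100400100300c001002)) (.cD (nat_lit 32) (.kA true (nat_lit 0x5004003008001008004002005007021001000003)) (.cD (nat_lit 36) (.kA true (nat_lit 0x400500600800100400100300c001002)) (.cD (nat_lit 48) (.kc (nat_lit 48) (nat_lit 0x3001001)) (.cD (nat_lit 52) (.kc (nat_lit 52) (nat_lit 0x7001001)) .nil)))))))) (.cD (nat_lit 52) (.dfs (nat_lit 32) (nat_lit 4100) (nat_lit 4100) (nat_lit 0x1002001) (nat_lit 0x1002001) (nat_lit 0) (nat_lit 0) (nat_lit 3) (nat_lit 0) (nat_lit 0) (nat_lit 0) (nat_lit 1) (nat_lit 0) (nat_lit 1) (nat_lit 0)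 (nat_lit 1) (nat_lit 0x11001100110010) (.cD (nat_lit 4) (.kc (nat_lit 36) (nat_lit 0x5001001)) (.cD (nat_lit 16) (.kA true (nat_lit 0x400200500800100400100300c001002)) (.cD (nat_lit 20) (.kA true (nat_lit 0x400600100800100400100300c001002)) (.cD (nat_lit 32) (.kA true (nat_lit 0x5004003008001008004002005007021001000003)) (.cD (nat_lit 36) (.kA true (nat_lit 0x400500200800100400100300c001002)) (.cD (nat_lit 48) (.kc (nat_lit 52) (nat_lit 0x7001001)) (.cD (nat_lit 52) (.kc (nat_lit 48) (nat_lit 0x3001001)) .nil)))))))) .nil)))))))) (.cD (nat_lit 8) (.dfs (nat_lit 16) (nat_lit 4098) (nat_lit 4098) (nat_lit 4097) (nat_lit 4097) (nat_lit 0) (nat_lit 0) (nat_lit 3) (nat_lit 0) (nat_lit 0) (nat_lit 0) (nat_lit 1) (nat_lit 0) (nat_lit 1) (nat_lit 0) (nat_lit 1) (nat_lit 0x101010101010100) (.cD (nat_lit 8) (.kc (nat_lit 20) (nat_lit 0x3001001)) (.cD (nat_lit 16) (.dfs (nat_lit 32) (nat_lit 4100) (nat_lit 4100) (nat_lit 0x1002001) (nat_lit 0x1002001) (nat_lit 0) (nat_lit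 0) (nat_lit 3) (nat_lit 0) (nat_lit 0) (nat_lit 0) (nat_lit 1) (nat_lit 0) (nat_lit 1) (nat_lit 0) (nat_lit 1) (nat_lit 0x101010101010100) (.cD (nat_lit 8) (.kc (nat_lit 36) (nat_lit 0x5001001)) (.cD (nat_lit 16) (.kc (nat_lit 48) (nat_lit 0x3001001)) (.cD (nat_lit 24) (.kc (nat_lit 52) (nat_lit 0x7001001)) (.cD (nat_lit 32) (.kA false (nat_lit 0x300400200c00200e004008014005021001000003)) (.cD (nat_lit 40) (.kA false (nat_lit 0x2100100000300500200d002021001000003)) (.cD (nat_lit 48) (.kA false (nat_lit 0x200800c01000400500300200b002021001000003)) (.cD (nat_lit 56) (.kA false (nat_lit 0x500400200c00200e004008014005021001000003)) .nil)))))))) (.cD (nat_lit 24) (.dfs (nat_lit 32) (nat_lit 4100) (nat_lit 4100) (nat_lit 0x1002001) (nat_lit 0x1002001) (nat_lit 0) (nat_lit 0) (nat_lit 3) (nat_lit 0) (nat_lit 0) (nat_lit 0) (nat_lit 1) (nat_lit 0) (nat_lit 1) (nat_lit 0) (nat_lit 1) (nat_lit 0x101010101010100) (.cD (nat_lit 8) (.kc (nat_lit 36) (nat_lit 0x5001001)) (.cD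 (nat_lit 16) (.kc (nat_lit 52) (nat_lit 0x7001001)) (.cD (nat_lit 24) (.kc (nat_lit 48) (nat_lit 0x3001001)) (.cD (nat_lit 32) (.kA false (nat_lit 0x700400600c00200e004008014005021001000003)) (.cD (nat_lit 40) (.kA false (nat_lit 0x2100100000700500600d002021001000003)) (.cD (nat_lit 48) (.kA false (nat_lit 0x100400600c00200e004008014005021001000003)) (.cD (nat_lit 56) (.kA false (nat_lit 0x400800a01000400100300600b002021001000003)) .nil)))))))) (.cD (nat_lit 32) (.kF (nat_lit 16) (nat_lit 0x100400100c012004002002000003)) (.cD (nat_lit 40) (.kF (nat_lit 16) (nat_lit 0x100400100c012004002002000003)) (.cD (nat_lit 48) (.kF (nat_lit 16) (nat_lit 0x2100100000e014006001006001003)) (.cD (nat_lit 56) (.kF (nat_lit 16) (nat_lit 0x2100100000a014006001006001003)) .nil)))))))) (.cD (nat_lit 16) (.kF (nat_lit 4) (nat_lit 0x2002000001003001002)) (.cD (nat_lit 20) (.kF (nat_lit 4) (nat_lit 0xe01e003001003001002)) (.cD (nat_lit 24) (.kF (nat_lit 4) (nat_lit 0x1002001002012004002002000003))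 (.cD (nat_lit 32) (.dfs (nat_lit 16) (nat_lit 4098) (nat_lit 4098) (nat_lit 4097) (nat_lit 4097) (nat_lit 0) (nat_lit 0) (nat_lit 3) (nat_lit 0) (nat_lit 0) (nat_lit 0) (nat_lit 1) (nat_lit 0) (nat_lit 0x1008004) (nat_lit 32772) (nat_lit 0x1001004000008001014000018) (nat_lit 0x1000101110110) (.cD (nat_lit 4) (.kF (nat_lit 16) (nat_lit 0x21001000001006001002)) (.cD (nat_lit 8) (.kF (nat_lit 16) (nat_lit 0x100400100c012004002002000003)) (.cD (nat_lit 16) (.dfs (nat_lit 32) (nat_lit 4100) (nat_lit 4100) (nat_lit 0x1002001) (nat_lit 0x1002001) (nat_lit 0) (nat_lit 0) (nat_lit 3) (nat_lit 0) (nat_lit 0) (nat_lit 0) (nat_lit 1) (nat_lit 0) (nat_lit 0x1008004) (nat_lit 32772) (nat_lit 0x1001004000008001014000018) (nat_lit 0x1000101110110) (.cD (nat_lit 4) (.kA true (nat_lit 0x100400600c002021001000002)) (.cD (nat_lit 8) (.kA false (nat_lit 0x700400200c002021001000002)) (.cD (nat_lit 16) (.kc (nat_lit 48) (nat_lit 0x3001001)) (.cD (nat_lit 20) (.kA true (nat_lit 0x300400600c002021001000002))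 (.cD (nat_lit 24) (.kA false (nat_lit 0x500400200c002021001000002)) (.cD (nat_lit 32) (.kc (nat_lit 36) (nat_lit 0x5001001)) (.cD (nat_lit 48) (.kc (nat_lit 52) (nat_lit 0x7001001)) .nil)))))))) (.cD (nat_lit 20) (.dfs (nat_lit 32) (nat_lit 4100) (nat_lit 4100) (nat_lit 0x1002001) (nat_lit 0x1002001) (nat_lit 0) (nat_lit 0) (nat_lit 3) (nat_lit 0) (nat_lit 0) (nat_lit 0) (nat_lit 1) (nat_lit 0) (nat_lit 1) (nat_lit 0) (nat_lit 1) (nat_lit 0x11001100110010) (.cD (nat_lit 4) (.kA true (nat_lit 0x100400700c002021001000002)) (.cD (nat_lit 16) (.kA true (nat_lit 0x300400500c002021001000002)) (.cD (nat_lit 20) (.kc (nat_lit 48) (nat_lit 0x3001001)) (.cD (nat_lit 32) (.kc (nat_lit 36) (nat_lit 0x5001001)) (.cD (nat_lit 36) (.dfs (nat_lit 9) (nat_lit 4100) (nat_lit 4101) (nat_lit 1) (nat_lit 1) (nat_lit 2) (nat_lit 0) (nat_lit 1) (nat_lit 4128) (nat_lit 0x40020010008004002021) (nat_lit 0) (nat_lit 1) (nat_lit 0) (nat_lit 1) (nat_lit 0) (nat_lit 1) (nat_lit 0) .nil) (.cD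 (nat_lit 48) (.kA true (nat_lit 0x700400100c002021001000002)) (.cD (nat_lit 52) (.kc (nat_lit 52) (nat_lit 0x7001001)) .nil)))))))) (.cD (nat_lit 24) (.kF (nat_lit 16) (nat_lit 0x21001000001006001002)) (.cD (nat_lit 32) (.kc (nat_lit 20) (nat_lit 0x3001001)) (.cD (nat_lit 48) (.dfs (nat_lit 32) (nat_lit 4100) (nat_lit 4100) (nat_lit 0x1002001) (nat_lit 0x1002001) (nat_lit 0) (nat_lit 0) (nat_lit 3) (nat_lit 0) (nat_lit 0) (nat_lit 0) (nat_lit 1) (nat_lit 0) (nat_lit 0x1008004) (nat_lit 32772) (nat_lit 0x1001004000008001014000018) (nat_lit 0x1000101110110) (.cD (nat_lit 4) (.kA true (nat_lit 0x100400200c002021001000002)) (.cD (nat_lit 8) (.kA false (nat_lit 0x300400600c002021001000002)) (.cD (nat_lit 16) (.kc (nat_lit 52) (nat_lit 0x7001001)) (.cD (nat_lit 20) (.kA true (nat_lit 0x700400200c002021001000002)) (.cD (nat_lit 24) (.kA false (nat_lit 0x500400600c002021001000002)) (.cD (nat_lit 32) (.kc (nat_lit 36) (nat_lit 0x5001001)) (.cD (nat_lit 48) (.kc (nat_lit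 48) (nat_lit 0x3001001)) .nil)))))))) .nil)))))))) (.cD (nat_lit 48) (.kF (nat_lit 4) (nat_lit 0x1002001002012004002002000003)) .nil))))))))))
theorem c157 : (chk [] [] p157).n x93 s157 = true := by decide +kernel
noncomputable def p158 : Pf := (.anc (nat_lit 68) (nat_lit 0x10002002002000002) (nat_lit 0x1009020010004) (.czp (nat_lit 64) (nat_lit 0) (nat_lit 0x1040020010008004) z6 (.dfs (nat_lit 4) (nat_lit 4097) (nat_lit 4097) (nat_lit 1) (nat_lit 1) (nat_lit 0) (nat_lit 0) (nat_lit 3) (nat_lit 0) (nat_lit 0) (nat_lit 0) (nat_lit 1) (nat_lit 0) (nat_lit 0x1008004) (nat_lit 32772) (nat_lit 0x1001004000008001014000018) (nat_lit 0x1000101110110) (.cD (nat_lit 4) (.dfs (nat_lit 16) (nat_lit 4098) (nat_lit 4098) (nat_lit 4097) (nat_lit 4097) (nat_lit 0) (nat_lit 0) (nat_lit 3) (nat_lit 0) (nat_lit 0) (nat_lit 0) (nat_lit 1) (nat_lit 0) (nat_lit 1) (nat_lit 0) (nat_lit 1) (nat_lit 0x11001100110010) (.cD (nat_lit 4) (.kc (nat_lit 20) (nat_lit 0x3001001)) (.cD (nat_lit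 16) (.dfs (nat_lit 32) (nat_lit 4100) (nat_lit 4100) (nat_lit 0x1002001) (nat_lit 0x1002001) (nat_lit 0) (nat_lit 0) (nat_lit 3) (nat_lit 0) (nat_lit 0) (nat_lit 0) (nat_lit 1) (nat_lit 0) (nat_lit 1) (nat_lit 0) (nat_lit 1) (nat_lit 0x11001100110010) (.cD (nat_lit 4) (.kc (nat_lit 36) (nat_lit 0x5001001)) (.cD (nat_lit 16) (.kc (nat_lit 48) (nat_lit 0x3001001)) (.cD (nat_lit 20) (.kc (nat_lit 52) (nat_lit 0x7001001)) (.cD (nat_lit 32) (.dfs (nat_lit 9) (nat_lit 0x1004001003008) (nat_lit 0x1005001003008) (nat_lit 4098) (nat_lit 4098) (nat_lit 0) (nat_lit 0) (nat_lit 2) (nat_lit 1) (nat_lit 0) (nat_lit 8) (nat_lit 1) (nat_lit 0) (nat_lit 4100) (nat_lit 4) (nat_lit 0x1000008000018) (nat_lit 0x1000100) (.cD (nat_lit 8) (.kA false (nat_lit 0x7002004010001002002000007002004016002033003000004)) (.cD (nat_lit 24) (.kA false (nat_lit 0x3002004010001002002000003002004016002033003000004)) .nil))) (.cD (nat_lit 36) (.kA true (nat_lit 0x3100100000400100300d001031001000003))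 (.cD (nat_lit 48) (.kA true (nat_lit 0x600800401000400400100300d001031001000003)) (.cD (nat_lit 52) (.kA true (nat_lit 0x5004003008001008004002005007031001000003)) .nil)))))))) (.cD (nat_lit 20) (.dfs (nat_lit 32) (nat_lit 4100) (nat_lit 4100) (nat_lit 0x1002001) (nat_lit 0x1002001) (nat_lit 0) (nat_lit 0) (nat_lit 3) (nat_lit 0) (nat_lit 0) (nat_lit 0) (nat_lit 1) (nat_lit 0) (nat_lit 1) (nat_lit 0) (nat_lit 1) (nat_lit 0x11001100110010) (.cD (nat_lit 4) (.kc (nat_lit 36) (nat_lit 0x5001001)) (.cD (nat_lit 16) (.kc (nat_lit 52) (nat_lit 0x7001001)) (.cD (nat_lit 20) (.kc (nat_lit 48) (nat_lit 0x3001001)) (.cD (nat_lit 32) (.kA true (nat_lit 0x5004003008001008004002005007031001000003)) (.cD (nat_lit 36) (.dfs (nat_lit 9) (nat_lit 4102) (nat_lit 4103) (nat_lit 1) (nat_lit 1) (nat_lit 0) (nat_lit 0) (nat_lit 1) (nat_lit 4112) (nat_lit 0x40020010008004002031) (nat_lit 0) (nat_lit 1) (nat_lit 0) (nat_lit 1) (nat_lit 0) (nat_lit 1) (nat_lit 0) .nil) (.cD (nat_lit 48)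 (.kA true (nat_lit 0x400300500800100400100300c001002)) (.cD (nat_lit 52) (.kA true (nat_lit 0x400700100800100400100300c001002)) .nil)))))))) (.cD (nat_lit 32) (.kF (nat_lit 16) (nat_lit 0x100400100c012004002002000003)) (.cD (nat_lit 36) (.kF (nat_lit 16) (nat_lit 0x100400100c012004002002000003)) (.cD (nat_lit 48) (.dfs (nat_lit 32) (nat_lit 4100) (nat_lit 4100) (nat_lit 0x1002001) (nat_lit 0x1002001) (nat_lit 0) (nat_lit 0) (nat_lit 3) (nat_lit 0) (nat_lit 0) (nat_lit 0) (nat_lit 1) (nat_lit 0) (nat_lit 1) (nat_lit 0) (nat_lit 1) (nat_lit 0x11001100110010) (.cD (nat_lit 4) (.kc (nat_lit 36) (nat_lit 0x5001001)) (.cD (nat_lit 16) (.kA true (nat_lit 0x400200100800100400100300c001002)) (.cD (nat_lit 20) (.kA true (nat_lit 0x400600500800100400100300c001002)) (.cD (nat_lit 32) (.kA true (nat_lit 0x5004003008001008004002005007031001000003)) (.cD (nat_lit 36) (.kA true (nat_lit 0x400500600800100400100300c001002)) (.cD (nat_lit 48) (.kc (nat_lit 48) (nat_lit 0x3001001))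 (.cD (nat_lit 52) (.kc (nat_lit 52) (nat_lit 0x7001001)) .nil)))))))) (.cD (nat_lit 52) (.dfs (nat_lit 32) (nat_lit 4100) (nat_lit 4100) (nat_lit 0x1002001) (nat_lit 0x1002001) (nat_lit 0) (nat_lit 0) (nat_lit 3) (nat_lit 0) (nat_lit 0) (nat_lit 0) (nat_lit 1) (nat_lit 0) (nat_lit 1) (nat_lit 0) (nat_lit 1) (nat_lit 0x11001100110010) (.cD (nat_lit 4) (.kc (nat_lit 36) (nat_lit 0x5001001)) (.cD (nat_lit 16) (.kA true (nat_lit 0x400200500800100400100300c001002)) (.cD (nat_lit 20) (.kA true (nat_lit 0x400600100800100400100300c001002)) (.cD (nat_lit 32) (.kA true (nat_lit 0x5004003008001008004002005007031001000003)) (.cD (nat_lit 36) (.kA true (nat_lit 0x400500200800100400100300c001002)) (.cD (nat_lit 48) (.kc (nat_lit 52) (nat_lit 0x7001001)) (.cD (nat_lit 52) (.kc (nat_lit 48) (nat_lit 0x3001001)) .nil)))))))) .nil)))))))) (.cD (nat_lit 8) (.dfs (nat_lit 16) (nat_lit 4098) (nat_lit 4098) (nat_lit 4097) (nat_lit 4097) (nat_lit 0) (nat_lit 0) (nat_lit 3) (nat_lit 0)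 (nat_lit 0) (nat_lit 0) (nat_lit 1) (nat_lit 0) (nat_lit 1) (nat_lit 0) (nat_lit 1) (nat_lit 0x101010101010100) (.cD (nat_lit 8) (.kc (nat_lit 20) (nat_lit 0x3001001)) (.cD (nat_lit 16) (.dfs (nat_lit 32) (nat_lit 4100) (nat_lit 4100) (nat_lit 0x1002001) (nat_lit 0x1002001) (nat_lit 0) (nat_lit 0) (nat_lit 3) (nat_lit 0) (nat_lit 0) (nat_lit 0) (nat_lit 1) (nat_lit 0) (nat_lit 1) (nat_lit 0) (nat_lit 1) (nat_lit 0x101010101010100) (.cD (nat_lit 8) (.kc (nat_lit 36) (nat_lit 0x5001001)) (.cD (nat_lit 16) (.kc (nat_lit 48) (nat_lit 0x3001001)) (.cD (nat_lit 24) (.kc (nat_lit 52) (nat_lit 0x7001001)) (.cD (nat_lit 32) (.kA false (nat_lit 0x300400200c00200e004008014005031001000003)) (.cD (nat_lit 40) (.kA false (nat_lit 0x3100100000300500200d002031001000003)) (.cD (nat_lit 48) (.kA false (nat_lit 0x200800c01000400500300200b002031001000003)) (.cD (nat_lit 56) (.kA false (nat_lit 0x500400200c00200e004008014005031001000003)) .nil)))))))) (.cD (nat_lit 24) (.dfs (nat_lit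 32) (nat_lit 4100) (nat_lit 4100) (nat_lit 0x1002001) (nat_lit 0x1002001) (nat_lit 0) (nat_lit 0) (nat_lit 3) (nat_lit 0) (nat_lit 0) (nat_lit 0) (nat_lit 1) (nat_lit 0) (nat_lit 1) (nat_lit 0) (nat_lit 1) (nat_lit 0x101010101010100) (.cD (nat_lit 8) (.kc (nat_lit 36) (nat_lit 0x5001001)) (.cD (nat_lit 16) (.kc (nat_lit 52) (nat_lit 0x7001001)) (.cD (nat_lit 24) (.kc (nat_lit 48) (nat_lit 0x3001001)) (.cD (nat_lit 32) (.kA false (nat_lit 0x700400600c00200e004008014005031001000003)) (.cD (nat_lit 40) (.kA false (nat_lit 0x3100100000700500600d002031001000003)) (.cD (nat_lit 48) (.kA false (nat_lit 0x100400600c00200e004008014005031001000003)) (.cD (nat_lit 56) (.kA false (nat_lit 0x400800a01000400100300600b002031001000003)) .nil)))))))) (.cD (nat_lit 32) (.kF (nat_lit 16) (nat_lit 0x100400100c012004002002000003)) (.cD (nat_lit 40) (.kF (nat_lit 16) (nat_lit 0x100400100c012004002002000003)) (.cD (nat_lit 48) (.kF (nat_lit 16) (nat_lit 0x3100100000e014006001006001003))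 (.cD (nat_lit 56) (.kF (nat_lit 16) (nat_lit 0x3100100000a014006001006001003)) .nil)))))))) (.cD (nat_lit 16) (.kF (nat_lit 4) (nat_lit 0x2002000001003001002)) (.cD (nat_lit 20) (.kF (nat_lit 4) (nat_lit 0xe01e003001003001002)) (.cD (nat_lit 24) (.kF (nat_lit 4) (nat_lit 0x1002001002012004002002000003)) (.cD (nat_lit 32) (.dfs (nat_lit 16) (nat_lit 4098) (nat_lit 4098) (nat_lit 4097) (nat_lit 4097) (nat_lit 0) (nat_lit 0) (nat_lit 3) (nat_lit 0) (nat_lit 0) (nat_lit 0) (nat_lit 1) (nat_lit 0) (nat_lit 0x1008004) (nat_lit 32772) (nat_lit 0x1001004000008001014000018) (nat_lit 0x1000101110110) (.cD (nat_lit 4) (.kF (nat_lit 16) (nat_lit 0x31001000001006001002)) (.cD (nat_lit 8) (.kF (nat_lit 16) (nat_lit 0x100400100c012004002002000003)) (.cD (nat_lit 16) (.dfs (nat_lit 32) (nat_lit 4100) (nat_lit 4100) (nat_lit 0x1002001) (nat_lit 0x1002001) (nat_lit 0) (nat_lit 0) (nat_lit 3) (nat_lit 0) (nat_lit 0) (nat_lit 0) (nat_lit 1) (nat_lit 0) (nat_lit 0x1008004) (nat_lit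 32772) (nat_lit 0x1001004000008001014000018) (nat_lit 0x1000101110110) (.cD (nat_lit 4) (.kA true (nat_lit 0x100400600c002031001000002)) (.cD (nat_lit 8) (.kA false (nat_lit 0x700400200c002031001000002)) (.cD (nat_lit 16) (.kc (nat_lit 48) (nat_lit 0x3001001)) (.cD (nat_lit 20) (.kA true (nat_lit 0x300400600c002031001000002)) (.cD (nat_lit 24) (.kA false (nat_lit 0x500400200c002031001000002)) (.cD (nat_lit 32) (.kc (nat_lit 36) (nat_lit 0x5001001)) (.cD (nat_lit 48) (.kc (nat_lit 52) (nat_lit 0x7001001)) .nil)))))))) (.cD (nat_lit 20) (.dfs (nat_lit 32) (nat_lit 4100) (nat_lit 4100) (nat_lit 0x1002001) (nat_lit 0x1002001) (nat_lit 0) (nat_lit 0) (nat_lit 3) (nat_lit 0) (nat_lit 0) (nat_lit 0) (nat_lit 1) (nat_lit 0) (nat_lit 1) (nat_lit 0) (nat_lit 1) (nat_lit 0x11001100110010) (.cD (nat_lit 4) (.kA true (nat_lit 0x100400700c002031001000002)) (.cD (nat_lit 16) (.kA true (nat_lit 0x300400500c002031001000002)) (.cD (nat_lit 20) (.kc (nat_lit 48) (nat_lit 0x3001001))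 (.cD (nat_lit 32) (.kc (nat_lit 36) (nat_lit 0x5001001)) (.cD (nat_lit 36) (.dfs (nat_lit 9) (nat_lit 4100) (nat_lit 4101) (nat_lit 1) (nat_lit 1) (nat_lit 0) (nat_lit 0) (nat_lit 1) (nat_lit 4128) (nat_lit 0x40020010008004002031) (nat_lit 0) (nat_lit 1) (nat_lit 0) (nat_lit 1) (nat_lit 0) (nat_lit 1) (nat_lit 0) .nil) (.cD (nat_lit 48) (.kA true (nat_lit 0x700400100c002031001000002)) (.cD (nat_lit 52) (.kc (nat_lit 52) (nat_lit 0x7001001)) .nil)))))))) (.cD (nat_lit 24) (.kF (nat_lit 16) (nat_lit 0x31001000001006001002)) (.cD (nat_lit 32) (.kc (nat_lit 20) (nat_lit 0x3001001)) (.cD (nat_lit 48) (.dfs (nat_lit 32) (nat_lit 4100) (nat_lit 4100) (nat_lit 0x1002001) (nat_lit 0x1002001) (nat_lit 0) (nat_lit 0) (nat_lit 3) (nat_lit 0) (nat_lit 0) (nat_lit 0) (nat_lit 1) (nat_lit 0) (nat_lit 0x1008004) (nat_lit 32772) (nat_lit 0x1001004000008001014000018) (nat_lit 0x1000101110110) (.cD (nat_lit 4) (.kA true (nat_lit 0x100400200c002031001000002)) (.cD (nat_lit 8) (.kA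 false (nat_lit 0x300400600c002031001000002)) (.cD (nat_lit 16) (.kc (nat_lit 52) (nat_lit 0x7001001)) (.cD (nat_lit 20) (.kA true (nat_lit 0x700400200c002031001000002)) (.cD (nat_lit 24) (.kA false (nat_lit 0x500400600c002031001000002)) (.cD (nat_lit 32) (.kc (nat_lit 36) (nat_lit 0x5001001)) (.cD (nat_lit 48) (.kc (nat_lit 48) (nat_lit 0x3001001)) .nil)))))))) .nil)))))))) (.cD (nat_lit 48) (.kF (nat_lit 4) (nat_lit 0x1002001002012004002002000003)) .nil))))))))))
theorem c158 : (chk [] [] p158).n x94 s158 = true := by decide +kernel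
noncomputable def p159 : Pf := (.anc (nat_lit 72) (nat_lit 0x31001000014004002) (nat_lit 0x1003020010008) (.czp (nat_lit 64) (nat_lit 0) (nat_lit 0x1040020010008004) z6 (.dfs (nat_lit 8) (nat_lit 4097) (nat_lit 4097) (nat_lit 1) (nat_lit 1) (nat_lit 0) (nat_lit 0) (nat_lit 3) (nat_lit 0) (nat_lit 0) (nat_lit 0) (nat_lit 1) (nat_lit 0) (nat_lit 0x1008004) (nat_lit 32772) (nat_lit 0x1001004000008001014000018) (nat_lit 0x1000101110110) (.cD (nat_lit 4) (.dfs (nat_lit 16) (nat_lit 4098) (nat_lit 4098) (nat_lit 4097) (nat_lit 4097) (nat_lit 0) (nat_lit 0) (nat_lit 3) (nat_lit 0) (nat_lit 0) (nat_lit 0) (nat_lit 1) (nat_lit 0) (nat_lit 1) (nat_lit 0) (nat_lit 1) (nat_lit 0x11001100110010) (.cD (nat_lit 4) (.kc (nat_lit 24) (nat_lit 0x3001001)) (.cD (nat_lit 16) (.dfs (nat_lit 32) (nat_lit 4100) (nat_lit 4100) (nat_lit 0x1002001) (nat_lit 0x1002001) (nat_lit 0) (nat_lit 0) (nat_lit 3) (nat_lit 0) (nat_lit 0) (nat_lit 0) (nat_lit 1) (nat_lit 0) (nat_lit 1) (nat_lit 0) (nat_lit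 1) (nat_lit 0x11001100110010) (.cD (nat_lit 4) (.kc (nat_lit 40) (nat_lit 0x5001001)) (.cD (nat_lit 16) (.kc (nat_lit 48) (nat_lit 0x3001001)) (.cD (nat_lit 20) (.kc (nat_lit 56) (nat_lit 0x7001001)) (.cD (nat_lit 32) (.kA false (nat_lit 0x300400200800100e004008014005031001000003)) (.cD (nat_lit 36) (.kA false (nat_lit 0x3100100000700100200d001031001000003)) (.cD (nat_lit 48) (.kA false (nat_lit 0x200800c01000400700100200d001031001000003)) (.cD (nat_lit 52) (.kA false (nat_lit 0x300400200800100e004008014005031001000003)) .nil)))))))) (.cD (nat_lit 20) (.dfs (nat_lit 32) (nat_lit 4100) (nat_lit 4100) (nat_lit 0x1002001) (nat_lit 0x1002001) (nat_lit 0) (nat_lit 0) (nat_lit 3) (nat_lit 0) (nat_lit 0) (nat_lit 0) (nat_lit 1) (nat_lit 0) (nat_lit 1) (nat_lit 0) (nat_lit 1) (nat_lit 0x11001100110010) (.cD (nat_lit 4) (.kc (nat_lit 40) (nat_lit 0x5001001)) (.cD (nat_lit 16) (.kc (nat_lit 56) (nat_lit 0x7001001)) (.cD (nat_lit 20) (.kc (nat_lit 48) (nat_lit 0x3001001))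 (.cD (nat_lit 32) (.kA false (nat_lit 0x300400200800100e004008014005031001000003)) (.cD (nat_lit 36) (.kA false (nat_lit 0x3100100000700100200d001031001000003)) (.cD (nat_lit 48) (.kA false (nat_lit 0x400800a01000400700100200d001031001000003)) (.cD (nat_lit 52) (.kA false (nat_lit 0x300400200800100e004008014005031001000003)) .nil)))))))) (.cD (nat_lit 32) (.kF (nat_lit 16) (nat_lit 0x4010004002002000001006001003)) (.cD (nat_lit 36) (.kF (nat_lit 16) (nat_lit 0x31001000001007001002002000003)) (.cD (nat_lit 48) (.dfs (nat_lit 32) (nat_lit 4100) (nat_lit 4100) (nat_lit 0x1002001) (nat_lit 0x1002001) (nat_lit 0) (nat_lit 0) (nat_lit 3) (nat_lit 0) (nat_lit 0) (nat_lit 0) (nat_lit 1) (nat_lit 0) (nat_lit 1) (nat_lit 0) (nat_lit 1) (nat_lit 0x11001100110010) (.cD (nat_lit 4) (.kc (nat_lit 40) (nat_lit 0x5001001)) (.cD (nat_lit 16) (.kA false (nat_lit 0x600c00801e00300700100200d001031001000003)) (.cD (nat_lit 20) (.kA false (nat_lit 0x200200000700100200d001031001000003))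 (.cD (nat_lit 32) (.kA false (nat_lit 0x300400200800100e004008014005031001000003)) (.cD (nat_lit 36) (.kA false (nat_lit 0x3100100000700100200d001031001000003)) (.cD (nat_lit 48) (.kc (nat_lit 48) (nat_lit 0x3001001)) (.cD (nat_lit 52) (.kc (nat_lit 56) (nat_lit 0x7001001)) .nil)))))))) (.cD (nat_lit 52) (.dfs (nat_lit 32) (nat_lit 4100) (nat_lit 4100) (nat_lit 0x1002001) (nat_lit 0x1002001) (nat_lit 0) (nat_lit 0) (nat_lit 3) (nat_lit 0) (nat_lit 0) (nat_lit 0) (nat_lit 1) (nat_lit 0) (nat_lit 1) (nat_lit 0) (nat_lit 1) (nat_lit 0x11001100110010) (.cD (nat_lit 4) (.kc (nat_lit 40) (nat_lit 0x5001001)) (.cD (nat_lit 16) (.kA false (nat_lit 0x400c00a01e00300700100200d001031001000003)) (.cD (nat_lit 20) (.kA false (nat_lit 0x200200000700100200d001031001000003)) (.cD (nat_lit 32) (.kA false (nat_lit 0x300400200800100e004008014005031001000003)) (.cD (nat_lit 36) (.kA false (nat_lit 0x3100100000700100200d001031001000003)) (.cD (nat_lit 48) (.kc (nat_lit 56) (nat_lit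 0x7001001)) (.cD (nat_lit 52) (.kc (nat_lit 48) (nat_lit 0x3001001)) .nil)))))))) .nil)))))))) (.cD (nat_lit 8) (.dfs (nat_lit 16) (nat_lit 4098) (nat_lit 4098) (nat_lit 4097) (nat_lit 4097) (nat_lit 0) (nat_lit 0) (nat_lit 3) (nat_lit 0) (nat_lit 0) (nat_lit 0) (nat_lit 1) (nat_lit 0) (nat_lit 1) (nat_lit 0) (nat_lit 1) (nat_lit 0x101010101010100) (.cD (nat_lit 8) (.kc (nat_lit 24) (nat_lit 0x3001001)) (.cD (nat_lit 16) (.dfs (nat_lit 32) (nat_lit 4100) (nat_lit 4100) (nat_lit 0x1002001) (nat_lit 0x1002001) (nat_lit 0) (nat_lit 0) (nat_lit 3) (nat_lit 0) (nat_lit 0) (nat_lit 0) (nat_lit 1) (nat_lit 0) (nat_lit 1) (nat_lit 0) (nat_lit 1) (nat_lit 0x101010101010100) (.cD (nat_lit 8) (.kc (nat_lit 40) (nat_lit 0x5001001)) (.cD (nat_lit 16) (.kc (nat_lit 48) (nat_lit 0x3001001)) (.cD (nat_lit 24) (.kc (nat_lit 56) (nat_lit 0x7001001)) (.cD (nat_lit 32) (.kA false (nat_lit 0x300400200800100e004008014005031001000003)) (.cD (nat_lit 40) (.kA false (nat_lit 0x3100100000700100200d001031001000003))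 (.cD (nat_lit 48) (.dfs (nat_lit 3) (nat_lit 0x1004003002008) (nat_lit 0x1007003002008) (nat_lit 4097) (nat_lit 4097) (nat_lit 3) (nat_lit 0) (nat_lit 2) (nat_lit 0) (nat_lit 0) (nat_lit 4) (nat_lit 1) (nat_lit 0) (nat_lit 4104) (nat_lit 8) (nat_lit 0x100004c00005c) (nat_lit 0x100010000000000000000000) (.cD (nat_lit 76) (.kb (nat_lit 43) (nat_lit 0x1000400b001002) (nat_lit 0x1020010048004002009)) (.cD (nat_lit 92) (.kb (nat_lit 59) (nat_lit 0x1000400f001002) (nat_lit 0x1020010048004002009)) .nil))) (.cD (nat_lit 56) (.dfs (nat_lit 3) (nat_lit 4101) (nat_lit 4102) (nat_lit 1) (nat_lit 1) (nat_lit 3) (nat_lit 0) (nat_lit 1) (nat_lit 4144) (nat_lit 0x40020010008004002031) (nat_lit 0) (nat_lit 1) (nat_lit 0) (nat_lit 1) (nat_lit 0) (nat_lit 1) (nat_lit 0) .nil) .nil)))))))) (.cD (nat_lit 24) (.dfs (nat_lit 32) (nat_lit 4100) (nat_lit 4100) (nat_lit 0x1002001) (nat_lit 0x1002001) (nat_lit 0) (nat_lit 0) (nat_lit 3) (nat_lit 0) (nat_lit 0) (nat_lit 0) (nat_lit 1) (nat_lit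 0) (nat_lit 1) (nat_lit 0) (nat_lit 1) (nat_lit 0x101010101010100) (.cD (nat_lit 8) (.kc (nat_lit 40) (nat_lit 0x5001001)) (.cD (nat_lit 16) (.kc (nat_lit 56) (nat_lit 0x7001001)) (.cD (nat_lit 24) (.kc (nat_lit 48) (nat_lit 0x3001001)) (.cD (nat_lit 32) (.kA false (nat_lit 0x300400200800100e004008014005031001000003)) (.cD (nat_lit 40) (.kA false (nat_lit 0x3100100000700100200d001031001000003)) (.cD (nat_lit 48) (.kA false (nat_lit 0x300400200800100e004008014005031001000003)) (.cD (nat_lit 56) (.kA false (nat_lit 0x300400200800100e004008014005031001000003)) .nil)))))))) (.cD (nat_lit 32) (.kF (nat_lit 8) (nat_lit 0x3006002004004000002007001002002000004)) (.cD (nat_lit 40) (.kF (nat_lit 8) (nat_lit 0x31001000002007001002002000003)) (.cD (nat_lit 48) (.kF (nat_lit 16) (nat_lit 0x3100100000e014006001006001003)) (.cD (nat_lit 56) (.kF (nat_lit 16) (nat_lit 0x3100100000a014006001006001003)) .nil)))))))) (.cD (nat_lit 16) (.kF (nat_lit 8) (nat_lit 0x2002000001003001002))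 (.cD (nat_lit 20) (.kF (nat_lit 8) (nat_lit 0xe01e003001003001002)) (.cD (nat_lit 24) (.kF (nat_lit 8) (nat_lit 0x31001000002014006031001000001003001004)) (.cD (nat_lit 32) (.dfs (nat_lit 16) (nat_lit 4098) (nat_lit 4098) (nat_lit 4097) (nat_lit 4097) (nat_lit 0) (nat_lit 0) (nat_lit 3) (nat_lit 0) (nat_lit 0) (nat_lit 0) (nat_lit 1) (nat_lit 0) (nat_lit 0x1008004) (nat_lit 32772) (nat_lit 0x1001004000008001014000018) (nat_lit 0x1000101110110) (.cD (nat_lit 4) (.kF (nat_lit 16) (nat_lit 0x31001000001006001002)) (.cD (nat_lit 8) (.kF (nat_lit 8) (nat_lit 0x31001000004016005002007001002002000004)) (.cD (nat_lit 16) (.dfs (nat_lit 32) (nat_lit 4100) (nat_lit 4100) (nat_lit 0x1002001) (nat_lit 0x1002001) (nat_lit 0) (nat_lit 0) (nat_lit 3) (nat_lit 0) (nat_lit 0) (nat_lit 0) (nat_lit 1) (nat_lit 0) (nat_lit 0x1008004) (nat_lit 32772) (nat_lit 0x1001004000008001014000018) (nat_lit 0x1000101110110) (.cD (nat_lit 4) (.kA false (nat_lit 0x3100100000400100200c001002)) (.cD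 (nat_lit 8) (.kA false (nat_lit 0x700400200c002031001000002)) (.cD (nat_lit 16) (.kc (nat_lit 48) (nat_lit 0x3001001)) (.cD (nat_lit 20) (.kA false (nat_lit 0x3100100000400100200c001002)) (.cD (nat_lit 24) (.dfs (nat_lit 3) (nat_lit 4100) (nat_lit 4103) (nat_lit 1) (nat_lit 1) (nat_lit 3) (nat_lit 0) (nat_lit 1) (nat_lit 4128) (nat_lit 0x40020010008004002031) (nat_lit 0) (nat_lit 1) (nat_lit 0) (nat_lit 1) (nat_lit 0) (nat_lit 1) (nat_lit 0) .nil) (.cD (nat_lit 32) (.kc (nat_lit 40) (nat_lit 0x5001001)) (.cD (nat_lit 48) (.kc (nat_lit 56) (nat_lit 0x7001001)) .nil)))))))) (.cD (nat_lit 20) (.dfs (nat_lit 32) (nat_lit 4100) (nat_lit 4100) (nat_lit 0x1002001) (nat_lit 0x1002001) (nat_lit 0) (nat_lit 0) (nat_lit 3) (nat_lit 0) (nat_lit 0) (nat_lit 0) (nat_lit 1) (nat_lit 0) (nat_lit 1) (nat_lit 0) (nat_lit 1) (nat_lit 0x11001100110010) (.cD (nat_lit 4) (.kA false (nat_lit 0x3100100000400100200c001002)) (.cD (nat_lit 16) (.kA false (nat_lit 0x3100100000400100200c001002))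 (.cD (nat_lit 20) (.kc (nat_lit 48) (nat_lit 0x3001001)) (.cD (nat_lit 32) (.kc (nat_lit 40) (nat_lit 0x5001001)) (.cD (nat_lit 36) (.kA false (nat_lit 0x3100100000400100200c001002)) (.cD (nat_lit 48) (.kA false (nat_lit 0x3100100000400100200c001002)) (.cD (nat_lit 52) (.kc (nat_lit 56) (nat_lit 0x7001001)) .nil)))))))) (.cD (nat_lit 24) (.kF (nat_lit 16) (nat_lit 0x31001000001006001002)) (.cD (nat_lit 32) (.kc (nat_lit 24) (nat_lit 0x3001001)) (.cD (nat_lit 48) (.dfs (nat_lit 32) (nat_lit 4100) (nat_lit 4100) (nat_lit 0x1002001) (nat_lit 0x1002001) (nat_lit 0) (nat_lit 0) (nat_lit 3) (nat_lit 0) (nat_lit 0) (nat_lit 0) (nat_lit 1) (nat_lit 0) (nat_lit 0x1008004) (nat_lit 32772) (nat_lit 0x1001004000008001014000018) (nat_lit 0x1000101110110) (.cD (nat_lit 4) (.kA false (nat_lit 0x3100100000400100200c001002)) (.cD (nat_lit 8) (.kA false (nat_lit 0x300400600c002031001000002)) (.cD (nat_lit 16) (.kc (nat_lit 56) (nat_lit 0x7001001)) (.cD (nat_lit 20) (.kA false (nat_lit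 0x3100100000400100200c001002)) (.cD (nat_lit 24) (.kA false (nat_lit 0x500400600c002031001000002)) (.cD (nat_lit 32) (.kc (nat_lit 40) (nat_lit 0x5001001)) (.cD (nat_lit 48) (.kc (nat_lit 48) (nat_lit 0x3001001)) .nil)))))))) .nil)))))))) (.cD (nat_lit 48) (.kF (nat_lit 8) (nat_lit 0x33003000001003001002)) .nil))))))))))
theorem c159 : (chk [] [] p159).n x95 s159 = true := by decide +kernel
noncomputable def p160 : Pf := (.lft (nat_lit 0x20008018001004002003001) (nat_lit 0) (nat_lit 0x1028020) (nat_lit 0x20010008004002001) (.extn a22 (nat_lit 0x20010008004002001) (nat_lit 0x1004010008020) (nat_lit 2) (nat_lit 0) (nat_lit 0) (nat_lit 0) (nat_lit 0x1010101) (.cE (nat_lit 0) b65 (nat_lit 0) (.cut (nat_lit 0)) (.cut (nat_lit 1)) (.cE (nat_lit 8) b66 (nat_lit 0) (.cut (nat_lit 2)) (.cut (nat_lit 3)) (.cE (nat_lit 16) b67 (nat_lit 0) (.cut (nat_lit 4)) (.cut (nat_lit 5)) (.cE (nat_lit 24) b68 t68 (.cut (nat_lit 6)) (.cut (nat_lit 7)) .nil))))))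
theorem c160 : (chk [(x88, s152), (x89, s153), (x90, s154), (x91, s155), (x92, s156), (x93, s157), (x94, s158), (x95, s159)] [] p160).n x87 s160 = true := by decide +kernel
noncomputable def p161 : Pf := (.anc (nat_lit 68) (nat_lit 0x10002002002000002) (nat_lit 0x1009020010004) (.czp (nat_lit 64) (nat_lit 0) (nat_lit 0x1040020010008004) z6 (.dfs (nat_lit 4) (nat_lit 4097) (nat_lit 4097) (nat_lit 1) (nat_lit 1) (nat_lit 0) (nat_lit 0) (nat_lit 3) (nat_lit 0) (nat_lit 0) (nat_lit 0) (nat_lit 1) (nat_lit 0) (nat_lit 0x1008004) (nat_lit 32772) (nat_lit 0x1001004000008001014000018) (nat_lit 0x1000101110110) (.cD (nat_lit 4) (.dfs (nat_lit 16) (nat_lit 4098) (nat_lit 4098) (nat_lit 4097) (nat_lit 4097) (nat_lit 0) (nat_lit 0) (nat_lit 3) (nat_lit 0) (nat_lit 0) (nat_lit 0) (nat_lit 1) (nat_lit 0) (nat_lit 1) (nat_lit 0) (nat_lit 1) (nat_lit 0x11001100110010) (.cD (nat_lit 4) (.kc (nat_lit 20) (nat_lit 0x3001001)) (.cD (nat_lit 16) (.dfs (nat_lit 32) (nat_lit 4100) (nat_lit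 4100) (nat_lit 0x1002001) (nat_lit 0x1002001) (nat_lit 0) (nat_lit 0) (nat_lit 3) (nat_lit 0) (nat_lit 0) (nat_lit 0) (nat_lit 1) (nat_lit 0) (nat_lit 1) (nat_lit 0) (nat_lit 1) (nat_lit 0x11001100110010) (.cD (nat_lit 4) (.kc (nat_lit 36) (nat_lit 0x5001001)) (.cD (nat_lit 16) (.kc (nat_lit 48) (nat_lit 0x3001001)) (.cD (nat_lit 20) (.kc (nat_lit 52) (nat_lit 0x7001001)) (.cD (nat_lit 32) (.dfs (nat_lit 9) (nat_lit 0x1004001003008) (nat_lit 0x1005001003008) (nat_lit 4098) (nat_lit 4098) (nat_lit 3) (nat_lit 0) (nat_lit 2) (nat_lit 1) (nat_lit 0) (nat_lit 8) (nat_lit 1) (nat_lit 0) (nat_lit 1) (nat_lit 0) (nat_lit 1) (nat_lit 0) .nil) (.cD (nat_lit 36) (.kA true (nat_lit 0x100100000400100300d001001001000003)) (.cD (nat_lit 48) (.kA true (nat_lit 0x600800401000400400100300d001001001000003)) (.cD (nat_lit 52) (.kA true (nat_lit 0x5004003008001008004002005007001001000003)) .nil)))))))) (.cD (nat_lit 20) (.dfs (nat_lit 32) (nat_lit 4100) (nat_lit 4100) (nat_lit 0x1002001)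 (nat_lit 0x1002001) (nat_lit 0) (nat_lit 0) (nat_lit 3) (nat_lit 0) (nat_lit 0) (nat_lit 0) (nat_lit 1) (nat_lit 0) (nat_lit 1) (nat_lit 0) (nat_lit 1) (nat_lit 0x11001100110010) (.cD (nat_lit 4) (.kc (nat_lit 36) (nat_lit 0x5001001)) (.cD (nat_lit 16) (.kc (nat_lit 52) (nat_lit 0x7001001)) (.cD (nat_lit 20) (.kc (nat_lit 48) (nat_lit 0x3001001)) (.cD (nat_lit 32) (.kA true (nat_lit 0x5004003008001008004002005007001001000003)) (.cD (nat_lit 36) (.dfs (nat_lit 9) (nat_lit 4102) (nat_lit 4103) (nat_lit 1) (nat_lit 1) (nat_lit 3) (nat_lit 0) (nat_lit 1) (nat_lit 4112) (nat_lit 0x40020010008004002001) (nat_lit 0) (nat_lit 1) (nat_lit 0) (nat_lit 1) (nat_lit 0) (nat_lit 1) (nat_lit 0) .nil) (.cD (nat_lit 48) (.kA true (nat_lit 0x400300500800100400100300c001002)) (.cD (nat_lit 52) (.kA true (nat_lit 0x400700100800100400100300c001002)) .nil)))))))) (.cD (nat_lit 32) (.kF (nat_lit 16) (nat_lit 0x100400100c012004002002000003)) (.cD (nat_lit 36) (.kF (nat_lit 16) (nat_lit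 0x100400100c012004002002000003)) (.cD (nat_lit 48) (.dfs (nat_lit 32) (nat_lit 4100) (nat_lit 4100) (nat_lit 0x1002001) (nat_lit 0x1002001) (nat_lit 0) (nat_lit 0) (nat_lit 3) (nat_lit 0) (nat_lit 0) (nat_lit 0) (nat_lit 1) (nat_lit 0) (nat_lit 1) (nat_lit 0) (nat_lit 1) (nat_lit 0x11001100110010) (.cD (nat_lit 4) (.kc (nat_lit 36) (nat_lit 0x5001001)) (.cD (nat_lit 16) (.kA true (nat_lit 0x400200100800100400100300c001002)) (.cD (nat_lit 20) (.kA true (nat_lit 0x400600500800100400100300c001002)) (.cD (nat_lit 32) (.kA true (nat_lit 0x5004003008001008004002005007001001000003)) (.cD (nat_lit 36) (.kA true (nat_lit 0x400500600800100400100300c001002)) (.cD (nat_lit 48) (.kc (nat_lit 48) (nat_lit 0x3001001)) (.cD (nat_lit 52) (.kc (nat_lit 52) (nat_lit 0x7001001)) .nil)))))))) (.cD (nat_lit 52) (.dfs (nat_lit 32) (nat_lit 4100) (nat_lit 4100) (nat_lit 0x1002001) (nat_lit 0x1002001) (nat_lit 0) (nat_lit 0) (nat_lit 3) (nat_lit 0) (nat_lit 0) (nat_lit 0) (nat_lit 1) (nat_lit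 0) (nat_lit 1) (nat_lit 0) (nat_lit 1) (nat_lit 0x11001100110010) (.cD (nat_lit 4) (.kc (nat_lit 36) (nat_lit 0x5001001)) (.cD (nat_lit 16) (.kA true (nat_lit 0x400200500800100400100300c001002)) (.cD (nat_lit 20) (.kA true (nat_lit 0x400600100800100400100300c001002)) (.cD (nat_lit 32) (.kA true (nat_lit 0x5004003008001008004002005007001001000003)) (.cD (nat_lit 36) (.kA true (nat_lit 0x400500200800100400100300c001002)) (.cD (nat_lit 48) (.kc (nat_lit 52) (nat_lit 0x7001001)) (.cD (nat_lit 52) (.kc (nat_lit 48) (nat_lit 0x3001001)) .nil)))))))) .nil)))))))) (.cD (nat_lit 8) (.dfs (nat_lit 16) (nat_lit 4098) (nat_lit 4098) (nat_lit 4097) (nat_lit 4097) (nat_lit 0) (nat_lit 0) (nat_lit 3) (nat_lit 0) (nat_lit 0) (nat_lit 0) (nat_lit 1) (nat_lit 0) (nat_lit 1) (nat_lit 0) (nat_lit 1) (nat_lit 0x101010101010100) (.cD (nat_lit 8) (.kc (nat_lit 20) (nat_lit 0x3001001)) (.cD (nat_lit 16) (.dfs (nat_lit 32) (nat_lit 4100) (nat_lit 4100) (nat_lit 0x1002001) (nat_lit 0x1002001)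 (nat_lit 0) (nat_lit 0) (nat_lit 3) (nat_lit 0) (nat_lit 0) (nat_lit 0) (nat_lit 1) (nat_lit 0) (nat_lit 1) (nat_lit 0) (nat_lit 1) (nat_lit 0x101010101010100) (.cD (nat_lit 8) (.kc (nat_lit 36) (nat_lit 0x5001001)) (.cD (nat_lit 16) (.kc (nat_lit 48) (nat_lit 0x3001001)) (.cD (nat_lit 24) (.kc (nat_lit 52) (nat_lit 0x7001001)) (.cD (nat_lit 32) (.kA false (nat_lit 0x300400200c00200e004008014005001001000003)) (.cD (nat_lit 40) (.kA false (nat_lit 0x100100000300500200d002001001000003)) (.cD (nat_lit 48) (.kA false (nat_lit 0x200800c01000400500300200b002001001000003)) (.cD (nat_lit 56) (.kA false (nat_lit 0x500400200c00200e004008014005001001000003)) .nil)))))))) (.cD (nat_lit 24) (.dfs (nat_lit 32) (nat_lit 4100) (nat_lit 4100) (nat_lit 0x1002001) (nat_lit 0x1002001) (nat_lit 0) (nat_lit 0) (nat_lit 3) (nat_lit 0) (nat_lit 0) (nat_lit 0) (nat_lit 1) (nat_lit 0) (nat_lit 1) (nat_lit 0) (nat_lit 1) (nat_lit 0x101010101010100) (.cD (nat_lit 8) (.kc (nat_lit 36) (nat_lit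 0x5001001)) (.cD (nat_lit 16) (.kc (nat_lit 52) (nat_lit 0x7001001)) (.cD (nat_lit 24) (.kc (nat_lit 48) (nat_lit 0x3001001)) (.cD (nat_lit 32) (.kA false (nat_lit 0x700400600c00200e004008014005001001000003)) (.cD (nat_lit 40) (.kA false (nat_lit 0x100100000700500600d002001001000003)) (.cD (nat_lit 48) (.kA false (nat_lit 0x100400600c00200e004008014005001001000003)) (.cD (nat_lit 56) (.kA false (nat_lit 0x400800a01000400100300600b002001001000003)) .nil)))))))) (.cD (nat_lit 32) (.kF (nat_lit 16) (nat_lit 0x100400100c012004002002000003)) (.cD (nat_lit 40) (.kF (nat_lit 16) (nat_lit 0x100400100c012004002002000003)) (.cD (nat_lit 48) (.kF (nat_lit 16) (nat_lit 0x100100000e014006001006001003)) (.cD (nat_lit 56) (.kF (nat_lit 16) (nat_lit 0x100100000a014006001006001003)) .nil)))))))) (.cD (nat_lit 16) (.kF (nat_lit 4) (nat_lit 0x2002000001003001002)) (.cD (nat_lit 20) (.kF (nat_lit 4) (nat_lit 0xe01e003001003001002)) (.cD (nat_lit 24) (.kF (nat_lit 4) (nat_lit 0x1002001002012004002002000003))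 (.cD (nat_lit 32) (.dfs (nat_lit 16) (nat_lit 4098) (nat_lit 4098) (nat_lit 4097) (nat_lit 4097) (nat_lit 0) (nat_lit 0) (nat_lit 3) (nat_lit 0) (nat_lit 0) (nat_lit 0) (nat_lit 1) (nat_lit 0) (nat_lit 0x1008004) (nat_lit 32772) (nat_lit 0x1001004000008001014000018) (nat_lit 0x1000101110110) (.cD (nat_lit 4) (.kF (nat_lit 16) (nat_lit 0x1001000001006001002)) (.cD (nat_lit 8) (.kF (nat_lit 16) (nat_lit 0x100400100c012004002002000003)) (.cD (nat_lit 16) (.dfs (nat_lit 32) (nat_lit 4100) (nat_lit 4100) (nat_lit 0x1002001) (nat_lit 0x1002001) (nat_lit 0) (nat_lit 0) (nat_lit 3) (nat_lit 0) (nat_lit 0) (nat_lit 0) (nat_lit 1) (nat_lit 0) (nat_lit 0x1008004) (nat_lit 32772) (nat_lit 0x1001004000008001014000018) (nat_lit 0x1000101110110) (.cD (nat_lit 4) (.kA true (nat_lit 0x100400600c002001001000002)) (.cD (nat_lit 8) (.kA false (nat_lit 0x700400200c002001001000002)) (.cD (nat_lit 16) (.kc (nat_lit 48) (nat_lit 0x3001001)) (.cD (nat_lit 20) (.kA true (nat_lit 0x300400600c002001001000002))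 (.cD (nat_lit 24) (.kA false (nat_lit 0x500400200c002001001000002)) (.cD (nat_lit 32) (.kc (nat_lit 36) (nat_lit 0x5001001)) (.cD (nat_lit 48) (.kc (nat_lit 52) (nat_lit 0x7001001)) .nil)))))))) (.cD (nat_lit 20) (.dfs (nat_lit 32) (nat_lit 4100) (nat_lit 4100) (nat_lit 0x1002001) (nat_lit 0x1002001) (nat_lit 0) (nat_lit 0) (nat_lit 3) (nat_lit 0) (nat_lit 0) (nat_lit 0) (nat_lit 1) (nat_lit 0) (nat_lit 1) (nat_lit 0) (nat_lit 1) (nat_lit 0x11001100110010) (.cD (nat_lit 4) (.kA true (nat_lit 0x100400700c002001001000002)) (.cD (nat_lit 16) (.kA true (nat_lit 0x300400500c002001001000002)) (.cD (nat_lit 20) (.kc (nat_lit 48) (nat_lit 0x3001001)) (.cD (nat_lit 32) (.kc (nat_lit 36) (nat_lit 0x5001001)) (.cD (nat_lit 36) (.dfs (nat_lit 9) (nat_lit 4100) (nat_lit 4101) (nat_lit 1) (nat_lit 1) (nat_lit 3) (nat_lit 0) (nat_lit 1) (nat_lit 4128) (nat_lit 0x40020010008004002001) (nat_lit 0) (nat_lit 1) (nat_lit 0) (nat_lit 1) (nat_lit 0) (nat_lit 1) (nat_lit 0) .nil) (.cD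 (nat_lit 48) (.kA true (nat_lit 0x700400100c002001001000002)) (.cD (nat_lit 52) (.kc (nat_lit 52) (nat_lit 0x7001001)) .nil)))))))) (.cD (nat_lit 24) (.kF (nat_lit 16) (nat_lit 0x1001000001006001002)) (.cD (nat_lit 32) (.kc (nat_lit 20) (nat_lit 0x3001001)) (.cD (nat_lit 48) (.dfs (nat_lit 32) (nat_lit 4100) (nat_lit 4100) (nat_lit 0x1002001) (nat_lit 0x1002001) (nat_lit 0) (nat_lit 0) (nat_lit 3) (nat_lit 0) (nat_lit 0) (nat_lit 0) (nat_lit 1) (nat_lit 0) (nat_lit 0x1008004) (nat_lit 32772) (nat_lit 0x1001004000008001014000018) (nat_lit 0x1000101110110) (.cD (nat_lit 4) (.kA true (nat_lit 0x100400200c002001001000002)) (.cD (nat_lit 8) (.kA false (nat_lit 0x300400600c002001001000002)) (.cD (nat_lit 16) (.kc (nat_lit 52) (nat_lit 0x7001001)) (.cD (nat_lit 20) (.kA true (nat_lit 0x700400200c002001001000002)) (.cD (nat_lit 24) (.kA false (nat_lit 0x500400600c002001001000002)) (.cD (nat_lit 32) (.kc (nat_lit 36) (nat_lit 0x5001001)) (.cD (nat_lit 48) (.kc (nat_lit 48)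 (nat_lit 0x3001001)) .nil)))))))) .nil)))))))) (.cD (nat_lit 48) (.kF (nat_lit 4) (nat_lit 0x1002001002012004002002000003)) .nil))))))))))
theorem c161 : (chk [] [] p161).n x88 s161 = true := by decide +kernel
noncomputable def p162 : Pf := (.anc (nat_lit 68) (nat_lit 0x10002002002000002) (nat_lit 0x1009020010004) (.czp (nat_lit 64) (nat_lit 0) (nat_lit 0x1040020010008004) z6 (.dfs (nat_lit 4) (nat_lit 4097) (nat_lit 4097) (nat_lit 1) (nat_lit 1) (nat_lit 0) (nat_lit 0) (nat_lit 3) (nat_lit 0) (nat_lit 0) (nat_lit 0) (nat_lit 1) (nat_lit 0) (nat_lit 0x1008004) (nat_lit 32772) (nat_lit 0x1001004000008001014000018) (nat_lit 0x1000101110110) (.cD (nat_lit 4) (.dfs (nat_lit 16) (nat_lit 4098) (nat_lit 4098) (nat_lit 4097) (nat_lit 4097) (nat_lit 0) (nat_lit 0) (nat_lit 3) (nat_lit 0) (nat_lit 0) (nat_lit 0) (nat_lit 1) (nat_lit 0) (nat_lit 1) (nat_lit 0) (nat_lit 1) (nat_lit 0x11001100110010) (.cD (nat_lit 4) (.kc (nat_lit 20) (nat_lit 0x3001001)) (.cD (nat_lit 16)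 (.dfs (nat_lit 32) (nat_lit 4100) (nat_lit 4100) (nat_lit 0x1002001) (nat_lit 0x1002001) (nat_lit 0) (nat_lit 0) (nat_lit 3) (nat_lit 0) (nat_lit 0) (nat_lit 0) (nat_lit 1) (nat_lit 0) (nat_lit 1) (nat_lit 0) (nat_lit 1) (nat_lit 0x11001100110010) (.cD (nat_lit 4) (.kc (nat_lit 36) (nat_lit 0x5001001)) (.cD (nat_lit 16) (.kc (nat_lit 48) (nat_lit 0x3001001)) (.cD (nat_lit 20) (.kc (nat_lit 52) (nat_lit 0x7001001)) (.cD (nat_lit 32) (.dfs (nat_lit 9) (nat_lit 0x1004001003008) (nat_lit 0x1005001003008) (nat_lit 4098) (nat_lit 4098) (nat_lit 3) (nat_lit 0) (nat_lit 2) (nat_lit 1) (nat_lit 0) (nat_lit 8) (nat_lit 1) (nat_lit 0) (nat_lit 1) (nat_lit 0) (nat_lit 1) (nat_lit 0) .nil) (.cD (nat_lit 36) (.kA true (nat_lit 0x100100000400100300d001001001000003)) (.cD (nat_lit 48) (.kA true (nat_lit 0x600800401000400400100300d001001001000003)) (.cD (nat_lit 52) (.kA true (nat_lit 0x5004003008001008004002005007001001000003)) .nil)))))))) (.cD (nat_lit 20) (.dfs (nat_lit 32)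 (nat_lit 4100) (nat_lit 4100) (nat_lit 0x1002001) (nat_lit 0x1002001) (nat_lit 0) (nat_lit 0) (nat_lit 3) (nat_lit 0) (nat_lit 0) (nat_lit 0) (nat_lit 1) (nat_lit 0) (nat_lit 1) (nat_lit 0) (nat_lit 1) (nat_lit 0x11001100110010) (.cD (nat_lit 4) (.kc (nat_lit 36) (nat_lit 0x5001001)) (.cD (nat_lit 16) (.kc (nat_lit 52) (nat_lit 0x7001001)) (.cD (nat_lit 20) (.kc (nat_lit 48) (nat_lit 0x3001001)) (.cD (nat_lit 32) (.kA true (nat_lit 0x5004003008001008004002005007001001000003)) (.cD (nat_lit 36) (.dfs (nat_lit 9) (nat_lit 4102) (nat_lit 4103) (nat_lit 1) (nat_lit 1) (nat_lit 3) (nat_lit 0) (nat_lit 1) (nat_lit 4112) (nat_lit 0x40020010008004002001) (nat_lit 0) (nat_lit 1) (nat_lit 0) (nat_lit 1) (nat_lit 0) (nat_lit 1) (nat_lit 0) .nil) (.cD (nat_lit 48) (.kA true (nat_lit 0x400300500800100400100300c001002)) (.cD (nat_lit 52) (.kA true (nat_lit 0x400700100800100400100300c001002)) .nil)))))))) (.cD (nat_lit 32) (.kF (nat_lit 16) (nat_lit 0x100400100c012004002002000003))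 (.cD (nat_lit 36) (.kF (nat_lit 16) (nat_lit 0x100400100c012004002002000003)) (.cD (nat_lit 48) (.dfs (nat_lit 32) (nat_lit 4100) (nat_lit 4100) (nat_lit 0x1002001) (nat_lit 0x1002001) (nat_lit 0) (nat_lit 0) (nat_lit 3) (nat_lit 0) (nat_lit 0) (nat_lit 0) (nat_lit 1) (nat_lit 0) (nat_lit 1) (nat_lit 0) (nat_lit 1) (nat_lit 0x11001100110010) (.cD (nat_lit 4) (.kc (nat_lit 36) (nat_lit 0x5001001)) (.cD (nat_lit 16) (.kA true (nat_lit 0x400200100800100400100300c001002)) (.cD (nat_lit 20) (.kA true (nat_lit 0x400600500800100400100300c001002)) (.cD (nat_lit 32) (.kA true (nat_lit 0x5004003008001008004002005007001001000003)) (.cD (nat_lit 36) (.kA true (nat_lit 0x400500600800100400100300c001002)) (.cD (nat_lit 48) (.kc (nat_lit 48) (nat_lit 0x3001001)) (.cD (nat_lit 52) (.kc (nat_lit 52) (nat_lit 0x7001001)) .nil)))))))) (.cD (nat_lit 52) (.dfs (nat_lit 32) (nat_lit 4100) (nat_lit 4100) (nat_lit 0x1002001) (nat_lit 0x1002001) (nat_lit 0) (nat_lit 0) (nat_lit 3) (nat_lit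 0) (nat_lit 0) (nat_lit 0) (nat_lit 1) (nat_lit 0) (nat_lit 1) (nat_lit 0) (nat_lit 1) (nat_lit 0x11001100110010) (.cD (nat_lit 4) (.kc (nat_lit 36) (nat_lit 0x5001001)) (.cD (nat_lit 16) (.kA true (nat_lit 0x400200500800100400100300c001002)) (.cD (nat_lit 20) (.kA true (nat_lit 0x400600100800100400100300c001002)) (.cD (nat_lit 32) (.kA true (nat_lit 0x5004003008001008004002005007001001000003)) (.cD (nat_lit 36) (.kA true (nat_lit 0x400500200800100400100300c001002)) (.cD (nat_lit 48) (.kc (nat_lit 52) (nat_lit 0x7001001)) (.cD (nat_lit 52) (.kc (nat_lit 48) (nat_lit 0x3001001)) .nil)))))))) .nil)))))))) (.cD (nat_lit 8) (.dfs (nat_lit 16) (nat_lit 4098) (nat_lit 4098) (nat_lit 4097) (nat_lit 4097) (nat_lit 0) (nat_lit 0) (nat_lit 3) (nat_lit 0) (nat_lit 0) (nat_lit 0) (nat_lit 1) (nat_lit 0) (nat_lit 1) (nat_lit 0) (nat_lit 1) (nat_lit 0x101010101010100) (.cD (nat_lit 8) (.kc (nat_lit 20) (nat_lit 0x3001001)) (.cD (nat_lit 16) (.dfs (nat_lit 32) (nat_lit 4100) (nat_lit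 4100) (nat_lit 0x1002001) (nat_lit 0x1002001) (nat_lit 0) (nat_lit 0) (nat_lit 3) (nat_lit 0) (nat_lit 0) (nat_lit 0) (nat_lit 1) (nat_lit 0) (nat_lit 1) (nat_lit 0) (nat_lit 1) (nat_lit 0x101010101010100) (.cD (nat_lit 8) (.kc (nat_lit 36) (nat_lit 0x5001001)) (.cD (nat_lit 16) (.kc (nat_lit 48) (nat_lit 0x3001001)) (.cD (nat_lit 24) (.kc (nat_lit 52) (nat_lit 0x7001001)) (.cD (nat_lit 32) (.kA false (nat_lit 0x300400200c00200e004008014005001001000003)) (.cD (nat_lit 40) (.kA false (nat_lit 0x100100000300500200d002001001000003)) (.cD (nat_lit 48) (.kA false (nat_lit 0x200800c01000400500300200b002001001000003)) (.cD (nat_lit 56) (.kA false (nat_lit 0x500400200c00200e004008014005001001000003)) .nil)))))))) (.cD (nat_lit 24) (.dfs (nat_lit 32) (nat_lit 4100) (nat_lit 4100) (nat_lit 0x1002001) (nat_lit 0x1002001) (nat_lit 0) (nat_lit 0) (nat_lit 3) (nat_lit 0) (nat_lit 0) (nat_lit 0) (nat_lit 1) (nat_lit 0) (nat_lit 1) (nat_lit 0) (nat_lit 1) (nat_lit 0x101010101010100)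 (.cD (nat_lit 8) (.kc (nat_lit 36) (nat_lit 0x5001001)) (.cD (nat_lit 16) (.kc (nat_lit 52) (nat_lit 0x7001001)) (.cD (nat_lit 24) (.kc (nat_lit 48) (nat_lit 0x3001001)) (.cD (nat_lit 32) (.kA false (nat_lit 0x700400600c00200e004008014005001001000003)) (.cD (nat_lit 40) (.kA false (nat_lit 0x100100000700500600d002001001000003)) (.cD (nat_lit 48) (.kA false (nat_lit 0x100400600c00200e004008014005001001000003)) (.cD (nat_lit 56) (.kA false (nat_lit 0x400800a01000400100300600b002001001000003)) .nil)))))))) (.cD (nat_lit 32) (.kF (nat_lit 16) (nat_lit 0x100400100c012004002002000003)) (.cD (nat_lit 40) (.kF (nat_lit 16) (nat_lit 0x100400100c012004002002000003)) (.cD (nat_lit 48) (.kF (nat_lit 16) (nat_lit 0x100100000e014006001006001003)) (.cD (nat_lit 56) (.kF (nat_lit 16) (nat_lit 0x100100000a014006001006001003)) .nil)))))))) (.cD (nat_lit 16) (.kF (nat_lit 4) (nat_lit 0x2002000001003001002)) (.cD (nat_lit 20) (.kF (nat_lit 4) (nat_lit 0xe01e003001003001002)) (.cD (nat_lit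 24) (.kF (nat_lit 4) (nat_lit 0x1002001002012004002002000003)) (.cD (nat_lit 32) (.dfs (nat_lit 16) (nat_lit 4098) (nat_lit 4098) (nat_lit 4097) (nat_lit 4097) (nat_lit 0) (nat_lit 0) (nat_lit 3) (nat_lit 0) (nat_lit 0) (nat_lit 0) (nat_lit 1) (nat_lit 0) (nat_lit 0x1008004) (nat_lit 32772) (nat_lit 0x1001004000008001014000018) (nat_lit 0x1000101110110) (.cD (nat_lit 4) (.kF (nat_lit 16) (nat_lit 0x1001000001006001002)) (.cD (nat_lit 8) (.kF (nat_lit 16) (nat_lit 0x100400100c012004002002000003)) (.cD (nat_lit 16) (.dfs (nat_lit 32) (nat_lit 4100) (nat_lit 4100) (nat_lit 0x1002001) (nat_lit 0x1002001) (nat_lit 0) (nat_lit 0) (nat_lit 3) (nat_lit 0) (nat_lit 0) (nat_lit 0) (nat_lit 1) (nat_lit 0) (nat_lit 0x1008004) (nat_lit 32772) (nat_lit 0x1001004000008001014000018) (nat_lit 0x1000101110110) (.cD (nat_lit 4) (.kA true (nat_lit 0x100400600c002001001000002)) (.cD (nat_lit 8) (.kA false (nat_lit 0x700400200c002001001000002)) (.cD (nat_lit 16) (.kc (nat_lit 48) (nat_lit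 0x3001001)) (.cD (nat_lit 20) (.kA true (nat_lit 0x300400600c002001001000002)) (.cD (nat_lit 24) (.kA false (nat_lit 0x500400200c002001001000002)) (.cD (nat_lit 32) (.kc (nat_lit 36) (nat_lit 0x5001001)) (.cD (nat_lit 48) (.kc (nat_lit 52) (nat_lit 0x7001001)) .nil)))))))) (.cD (nat_lit 20) (.dfs (nat_lit 32) (nat_lit 4100) (nat_lit 4100) (nat_lit 0x1002001) (nat_lit 0x1002001) (nat_lit 0) (nat_lit 0) (nat_lit 3) (nat_lit 0) (nat_lit 0) (nat_lit 0) (nat_lit 1) (nat_lit 0) (nat_lit 1) (nat_lit 0) (nat_lit 1) (nat_lit 0x11001100110010) (.cD (nat_lit 4) (.kA true (nat_lit 0x100400700c002001001000002)) (.cD (nat_lit 16) (.kA true (nat_lit 0x300400500c002001001000002)) (.cD (nat_lit 20) (.kc (nat_lit 48) (nat_lit 0x3001001)) (.cD (nat_lit 32) (.kc (nat_lit 36) (nat_lit 0x5001001)) (.cD (nat_lit 36) (.dfs (nat_lit 9) (nat_lit 4100) (nat_lit 4101) (nat_lit 1) (nat_lit 1) (nat_lit 3) (nat_lit 0) (nat_lit 1) (nat_lit 4128) (nat_lit 0x40020010008004002001) (nat_lit 0) (nat_lit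 1) (nat_lit 0) (nat_lit 1) (nat_lit 0) (nat_lit 1) (nat_lit 0) .nil) (.cD (nat_lit 48) (.kA true (nat_lit 0x700400100c002001001000002)) (.cD (nat_lit 52) (.kc (nat_lit 52) (nat_lit 0x7001001)) .nil)))))))) (.cD (nat_lit 24) (.kF (nat_lit 16) (nat_lit 0x1001000001006001002)) (.cD (nat_lit 32) (.kc (nat_lit 20) (nat_lit 0x3001001)) (.cD (nat_lit 48) (.dfs (nat_lit 32) (nat_lit 4100) (nat_lit 4100) (nat_lit 0x1002001) (nat_lit 0x1002001) (nat_lit 0) (nat_lit 0) (nat_lit 3) (nat_lit 0) (nat_lit 0) (nat_lit 0) (nat_lit 1) (nat_lit 0) (nat_lit 0x1008004) (nat_lit 32772) (nat_lit 0x1001004000008001014000018) (nat_lit 0x1000101110110) (.cD (nat_lit 4) (.kA true (nat_lit 0x100400200c002001001000002)) (.cD (nat_lit 8) (.kA false (nat_lit 0x300400600c002001001000002)) (.cD (nat_lit 16) (.kc (nat_lit 52) (nat_lit 0x7001001)) (.cD (nat_lit 20) (.kA true (nat_lit 0x700400200c002001001000002)) (.cD (nat_lit 24) (.kA false (nat_lit 0x500400600c002001001000002)) (.cD (nat_lit 32)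 (.kc (nat_lit 36) (nat_lit 0x5001001)) (.cD (nat_lit 48) (.kc (nat_lit 48) (nat_lit 0x3001001)) .nil)))))))) .nil)))))))) (.cD (nat_lit 48) (.kF (nat_lit 4) (nat_lit 0x1002001002012004002002000003)) .nil))))))))))
theorem c162 : (chk [] [] p162).n x89 s162 = true := by decide +kernel
noncomputable def p163 : Pf := (.anc (nat_lit 68) (nat_lit 0x10002002002000002) (nat_lit 0x1009020010004) (.czp (nat_lit 64) (nat_lit 0) (nat_lit 0x1040020010008004) z6 (.dfs (nat_lit 4) (nat_lit 4097) (nat_lit 4097) (nat_lit 1) (nat_lit 1) (nat_lit 0) (nat_lit 0) (nat_lit 3) (nat_lit 0) (nat_lit 0) (nat_lit 0) (nat_lit 1) (nat_lit 0) (nat_lit 0x1008004) (nat_lit 32772) (nat_lit 0x1001004000008001014000018) (nat_lit 0x1000101110110) (.cD (nat_lit 4) (.dfs (nat_lit 16) (nat_lit 4098) (nat_lit 4098) (nat_lit 4097) (nat_lit 4097) (nat_lit 0) (nat_lit 0) (nat_lit 3) (nat_lit 0) (nat_lit 0) (nat_lit 0) (nat_lit 1) (nat_lit 0) (nat_lit 1) (nat_lit 0) (nat_lit 1) (nat_lit 0x11001100110010)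 (.cD (nat_lit 4) (.kc (nat_lit 20) (nat_lit 0x3001001)) (.cD (nat_lit 16) (.dfs (nat_lit 32) (nat_lit 4100) (nat_lit 4100) (nat_lit 0x1002001) (nat_lit 0x1002001) (nat_lit 0) (nat_lit 0) (nat_lit 3) (nat_lit 0) (nat_lit 0) (nat_lit 0) (nat_lit 1) (nat_lit 0) (nat_lit 1) (nat_lit 0) (nat_lit 1) (nat_lit 0x11001100110010) (.cD (nat_lit 4) (.kc (nat_lit 36) (nat_lit 0x5001001)) (.cD (nat_lit 16) (.kc (nat_lit 48) (nat_lit 0x3001001)) (.cD (nat_lit 20) (.kc (nat_lit 52) (nat_lit 0x7001001)) (.cD (nat_lit 32) (.dfs (nat_lit 9) (nat_lit 0x1004001003008) (nat_lit 0x1005001003008) (nat_lit 4098) (nat_lit 4098) (nat_lit 1) (nat_lit 0) (nat_lit 2) (nat_lit 1) (nat_lit 0) (nat_lit 8) (nat_lit 1) (nat_lit 0) (nat_lit 4100) (nat_lit 4) (nat_lit 0x100000c00001c) (nat_lit 0x10001000) (.cD (nat_lit 12) (.kA false (nat_lit 0xf00200401000100200200000d002004016002013003000004)) (.cD (nat_lit 28) (.kA false (nat_lit 0xb002004010001002002000009002004016002013003000004)) .nil))) (.cD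 (nat_lit 36) (.kA true (nat_lit 0x1100100000400100300d001011001000003)) (.cD (nat_lit 48) (.kA true (nat_lit 0x600800401000400400100300d001011001000003)) (.cD (nat_lit 52) (.kA true (nat_lit 0x5004003008001008004002005007011001000003)) .nil)))))))) (.cD (nat_lit 20) (.dfs (nat_lit 32) (nat_lit 4100) (nat_lit 4100) (nat_lit 0x1002001) (nat_lit 0x1002001) (nat_lit 0) (nat_lit 0) (nat_lit 3) (nat_lit 0) (nat_lit 0) (nat_lit 0) (nat_lit 1) (nat_lit 0) (nat_lit 1) (nat_lit 0) (nat_lit 1) (nat_lit 0x11001100110010) (.cD (nat_lit 4) (.kc (nat_lit 36) (nat_lit 0x5001001)) (.cD (nat_lit 16) (.kc (nat_lit 52) (nat_lit 0x7001001)) (.cD (nat_lit 20) (.kc (nat_lit 48) (nat_lit 0x3001001)) (.cD (nat_lit 32) (.kA true (nat_lit 0x5004003008001008004002005007011001000003)) (.cD (nat_lit 36) (.dfs (nat_lit 9) (nat_lit 4102) (nat_lit 4103) (nat_lit 1) (nat_lit 1) (nat_lit 1) (nat_lit 0) (nat_lit 1) (nat_lit 4112) (nat_lit 0x40020010008004002011) (nat_lit 0) (nat_lit 1) (nat_lit 0)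 (nat_lit 1) (nat_lit 0) (nat_lit 1) (nat_lit 0) .nil) (.cD (nat_lit 48) (.kA true (nat_lit 0x400300500800100400100300c001002)) (.cD (nat_lit 52) (.kA true (nat_lit 0x400700100800100400100300c001002)) .nil)))))))) (.cD (nat_lit 32) (.kF (nat_lit 16) (nat_lit 0x100400100c012004002002000003)) (.cD (nat_lit 36) (.kF (nat_lit 16) (nat_lit 0x100400100c012004002002000003)) (.cD (nat_lit 48) (.dfs (nat_lit 32) (nat_lit 4100) (nat_lit 4100) (nat_lit 0x1002001) (nat_lit 0x1002001) (nat_lit 0) (nat_lit 0) (nat_lit 3) (nat_lit 0) (nat_lit 0) (nat_lit 0) (nat_lit 1) (nat_lit 0) (nat_lit 1) (nat_lit 0) (nat_lit 1) (nat_lit 0x11001100110010) (.cD (nat_lit 4) (.kc (nat_lit 36) (nat_lit 0x5001001)) (.cD (nat_lit 16) (.kA true (nat_lit 0x400200100800100400100300c001002)) (.cD (nat_lit 20) (.kA true (nat_lit 0x400600500800100400100300c001002)) (.cD (nat_lit 32) (.kA true (nat_lit 0x5004003008001008004002005007011001000003)) (.cD (nat_lit 36) (.kA true (nat_lit 0x400500600800100400100300c001002))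 (.cD (nat_lit 48) (.kc (nat_lit 48) (nat_lit 0x3001001)) (.cD (nat_lit 52) (.kc (nat_lit 52) (nat_lit 0x7001001)) .nil)))))))) (.cD (nat_lit 52) (.dfs (nat_lit 32) (nat_lit 4100) (nat_lit 4100) (nat_lit 0x1002001) (nat_lit 0x1002001) (nat_lit 0) (nat_lit 0) (nat_lit 3) (nat_lit 0) (nat_lit 0) (nat_lit 0) (nat_lit 1) (nat_lit 0) (nat_lit 1) (nat_lit 0) (nat_lit 1) (nat_lit 0x11001100110010) (.cD (nat_lit 4) (.kc (nat_lit 36) (nat_lit 0x5001001)) (.cD (nat_lit 16) (.kA true (nat_lit 0x400200500800100400100300c001002)) (.cD (nat_lit 20) (.kA true (nat_lit 0x400600100800100400100300c001002)) (.cD (nat_lit 32) (.kA true (nat_lit 0x5004003008001008004002005007011001000003)) (.cD (nat_lit 36) (.kA true (nat_lit 0x400500200800100400100300c001002)) (.cD (nat_lit 48) (.kc (nat_lit 52) (nat_lit 0x7001001)) (.cD (nat_lit 52) (.kc (nat_lit 48) (nat_lit 0x3001001)) .nil)))))))) .nil)))))))) (.cD (nat_lit 8) (.dfs (nat_lit 16) (nat_lit 4098) (nat_lit 4098) (nat_lit 4097) (nat_lit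 4097) (nat_lit 0) (nat_lit 0) (nat_lit 3) (nat_lit 0) (nat_lit 0) (nat_lit 0) (nat_lit 1) (nat_lit 0) (nat_lit 1) (nat_lit 0) (nat_lit 1) (nat_lit 0x101010101010100) (.cD (nat_lit 8) (.kc (nat_lit 20) (nat_lit 0x3001001)) (.cD (nat_lit 16) (.dfs (nat_lit 32) (nat_lit 4100) (nat_lit 4100) (nat_lit 0x1002001) (nat_lit 0x1002001) (nat_lit 0) (nat_lit 0) (nat_lit 3) (nat_lit 0) (nat_lit 0) (nat_lit 0) (nat_lit 1) (nat_lit 0) (nat_lit 1) (nat_lit 0) (nat_lit 1) (nat_lit 0x101010101010100) (.cD (nat_lit 8) (.kc (nat_lit 36) (nat_lit 0x5001001)) (.cD (nat_lit 16) (.kc (nat_lit 48) (nat_lit 0x3001001)) (.cD (nat_lit 24) (.kc (nat_lit 52) (nat_lit 0x7001001)) (.cD (nat_lit 32) (.kA false (nat_lit 0x300400200c00200e004008014005011001000003)) (.cD (nat_lit 40) (.kA false (nat_lit 0x1100100000300500200d002011001000003)) (.cD (nat_lit 48) (.kA false (nat_lit 0x200800c01000400500300200b002011001000003)) (.cD (nat_lit 56) (.kA false (nat_lit 0x500400200c00200e004008014005011001000003))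 .nil)))))))) (.cD (nat_lit 24) (.dfs (nat_lit 32) (nat_lit 4100) (nat_lit 4100) (nat_lit 0x1002001) (nat_lit 0x1002001) (nat_lit 0) (nat_lit 0) (nat_lit 3) (nat_lit 0) (nat_lit 0) (nat_lit 0) (nat_lit 1) (nat_lit 0) (nat_lit 1) (nat_lit 0) (nat_lit 1) (nat_lit 0x101010101010100) (.cD (nat_lit 8) (.kc (nat_lit 36) (nat_lit 0x5001001)) (.cD (nat_lit 16) (.kc (nat_lit 52) (nat_lit 0x7001001)) (.cD (nat_lit 24) (.kc (nat_lit 48) (nat_lit 0x3001001)) (.cD (nat_lit 32) (.kA false (nat_lit 0x700400600c00200e004008014005011001000003)) (.cD (nat_lit 40) (.kA false (nat_lit 0x1100100000700500600d002011001000003)) (.cD (nat_lit 48) (.kA false (nat_lit 0x100400600c00200e004008014005011001000003)) (.cD (nat_lit 56) (.kA false (nat_lit 0x400800a01000400100300600b002011001000003)) .nil)))))))) (.cD (nat_lit 32) (.kF (nat_lit 16) (nat_lit 0x100400100c012004002002000003)) (.cD (nat_lit 40) (.kF (nat_lit 16) (nat_lit 0x100400100c012004002002000003)) (.cD (nat_lit 48) (.kF (nat_lit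 16) (nat_lit 0x1100100000e014006001006001003)) (.cD (nat_lit 56) (.kF (nat_lit 16) (nat_lit 0x1100100000a014006001006001003)) .nil)))))))) (.cD (nat_lit 16) (.kF (nat_lit 4) (nat_lit 0x2002000001003001002)) (.cD (nat_lit 20) (.kF (nat_lit 4) (nat_lit 0xe01e003001003001002)) (.cD (nat_lit 24) (.kF (nat_lit 4) (nat_lit 0x1002001002012004002002000003)) (.cD (nat_lit 32) (.dfs (nat_lit 16) (nat_lit 4098) (nat_lit 4098) (nat_lit 4097) (nat_lit 4097) (nat_lit 0) (nat_lit 0) (nat_lit 3) (nat_lit 0) (nat_lit 0) (nat_lit 0) (nat_lit 1) (nat_lit 0) (nat_lit 0x1008004) (nat_lit 32772) (nat_lit 0x1001004000008001014000018) (nat_lit 0x1000101110110) (.cD (nat_lit 4) (.kF (nat_lit 16) (nat_lit 0x11001000001006001002)) (.cD (nat_lit 8) (.kF (nat_lit 16) (nat_lit 0x100400100c012004002002000003)) (.cD (nat_lit 16) (.dfs (nat_lit 32) (nat_lit 4100) (nat_lit 4100) (nat_lit 0x1002001) (nat_lit 0x1002001) (nat_lit 0) (nat_lit 0) (nat_lit 3) (nat_lit 0) (nat_lit 0) (nat_lit 0) (nat_lit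 1) (nat_lit 0) (nat_lit 0x1008004) (nat_lit 32772) (nat_lit 0x1001004000008001014000018) (nat_lit 0x1000101110110) (.cD (nat_lit 4) (.kA true (nat_lit 0x100400600c002011001000002)) (.cD (nat_lit 8) (.kA false (nat_lit 0x700400200c002011001000002)) (.cD (nat_lit 16) (.kc (nat_lit 48) (nat_lit 0x3001001)) (.cD (nat_lit 20) (.kA true (nat_lit 0x300400600c002011001000002)) (.cD (nat_lit 24) (.kA false (nat_lit 0x500400200c002011001000002)) (.cD (nat_lit 32) (.kc (nat_lit 36) (nat_lit 0x5001001)) (.cD (nat_lit 48) (.kc (nat_lit 52) (nat_lit 0x7001001)) .nil)))))))) (.cD (nat_lit 20) (.dfs (nat_lit 32) (nat_lit 4100) (nat_lit 4100) (nat_lit 0x1002001) (nat_lit 0x1002001) (nat_lit 0) (nat_lit 0) (nat_lit 3) (nat_lit 0) (nat_lit 0) (nat_lit 0) (nat_lit 1) (nat_lit 0) (nat_lit 1) (nat_lit 0) (nat_lit 1) (nat_lit 0x11001100110010) (.cD (nat_lit 4) (.kA true (nat_lit 0x100400700c002011001000002)) (.cD (nat_lit 16) (.kA true (nat_lit 0x300400500c002011001000002)) (.cD (nat_lit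 20) (.kc (nat_lit 48) (nat_lit 0x3001001)) (.cD (nat_lit 32) (.kc (nat_lit 36) (nat_lit 0x5001001)) (.cD (nat_lit 36) (.dfs (nat_lit 9) (nat_lit 4100) (nat_lit 4101) (nat_lit 1) (nat_lit 1) (nat_lit 1) (nat_lit 0) (nat_lit 1) (nat_lit 4128) (nat_lit 0x40020010008004002011) (nat_lit 0) (nat_lit 1) (nat_lit 0) (nat_lit 1) (nat_lit 0) (nat_lit 1) (nat_lit 0) .nil) (.cD (nat_lit 48) (.kA true (nat_lit 0x700400100c002011001000002)) (.cD (nat_lit 52) (.kc (nat_lit 52) (nat_lit 0x7001001)) .nil)))))))) (.cD (nat_lit 24) (.kF (nat_lit 16) (nat_lit 0x11001000001006001002)) (.cD (nat_lit 32) (.kc (nat_lit 20) (nat_lit 0x3001001)) (.cD (nat_lit 48) (.dfs (nat_lit 32) (nat_lit 4100) (nat_lit 4100) (nat_lit 0x1002001) (nat_lit 0x1002001) (nat_lit 0) (nat_lit 0) (nat_lit 3) (nat_lit 0) (nat_lit 0) (nat_lit 0) (nat_lit 1) (nat_lit 0) (nat_lit 0x1008004) (nat_lit 32772) (nat_lit 0x1001004000008001014000018) (nat_lit 0x1000101110110) (.cD (nat_lit 4) (.kA true (nat_lit 0x100400200c002011001000002))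 (.cD (nat_lit 8) (.kA false (nat_lit 0x300400600c002011001000002)) (.cD (nat_lit 16) (.kc (nat_lit 52) (nat_lit 0x7001001)) (.cD (nat_lit 20) (.kA true (nat_lit 0x700400200c002011001000002)) (.cD (nat_lit 24) (.kA false (nat_lit 0x500400600c002011001000002)) (.cD (nat_lit 32) (.kc (nat_lit 36) (nat_lit 0x5001001)) (.cD (nat_lit 48) (.kc (nat_lit 48) (nat_lit 0x3001001)) .nil)))))))) .nil)))))))) (.cD (nat_lit 48) (.kF (nat_lit 4) (nat_lit 0x1002001002012004002002000003)) .nil))))))))))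
theorem c163 : (chk [] [] p163).n x90 s163 = true := by decide +kernel
noncomputable def p164 : Pf := (.anc (nat_lit 72) (nat_lit 0x11001000014004002) (nat_lit 0x1003020010008) (.czp (nat_lit 64) (nat_lit 0) (nat_lit 0x1040020010008004) z6 (.dfs (nat_lit 8) (nat_lit 4097) (nat_lit 4097) (nat_lit 1) (nat_lit 1) (nat_lit 0) (nat_lit 0) (nat_lit 3) (nat_lit 0) (nat_lit 0) (nat_lit 0) (nat_lit 1) (nat_lit 0) (nat_lit 0x1008004) (nat_lit 32772) (nat_lit 0x1001004000008001014000018) (nat_lit 0x1000101110110) (.cD (nat_lit 4) (.dfs (nat_lit 16) (nat_lit 4098) (nat_lit 4098) (nat_lit 4097) (nat_lit 4097) (nat_lit 0) (nat_lit 0) (nat_lit 3) (nat_lit 0) (nat_lit 0) (nat_lit 0) (nat_lit 1) (nat_lit 0) (nat_lit 1) (nat_lit 0) (nat_lit 1) (nat_lit 0x11001100110010) (.cD (nat_lit 4) (.kc (nat_lit 24) (nat_lit 0x3001001)) (.cD (nat_lit 16) (.dfs (nat_lit 32) (nat_lit 4100) (nat_lit 4100) (nat_lit 0x1002001) (nat_lit 0x1002001) (nat_lit 0) (nat_lit 0) (nat_lit 3) (nat_lit 0) (nat_lit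 0) (nat_lit 0) (nat_lit 1) (nat_lit 0) (nat_lit 1) (nat_lit 0) (nat_lit 1) (nat_lit 0x11001100110010) (.cD (nat_lit 4) (.kc (nat_lit 40) (nat_lit 0x5001001)) (.cD (nat_lit 16) (.kc (nat_lit 48) (nat_lit 0x3001001)) (.cD (nat_lit 20) (.kc (nat_lit 56) (nat_lit 0x7001001)) (.cD (nat_lit 32) (.kA false (nat_lit 0x300400200800100e004008014005011001000003)) (.cD (nat_lit 36) (.kA false (nat_lit 0x1100100000700100200d001011001000003)) (.cD (nat_lit 48) (.kA false (nat_lit 0x200800c01000400700100200d001011001000003)) (.cD (nat_lit 52) (.kA false (nat_lit 0x300400200800100e004008014005011001000003)) .nil)))))))) (.cD (nat_lit 20) (.dfs (nat_lit 32) (nat_lit 4100) (nat_lit 4100) (nat_lit 0x1002001) (nat_lit 0x1002001) (nat_lit 0) (nat_lit 0) (nat_lit 3) (nat_lit 0) (nat_lit 0) (nat_lit 0) (nat_lit 1) (nat_lit 0) (nat_lit 1) (nat_lit 0) (nat_lit 1) (nat_lit 0x11001100110010) (.cD (nat_lit 4) (.kc (nat_lit 40) (nat_lit 0x5001001)) (.cD (nat_lit 16) (.kc (nat_lit 56) (nat_lit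 0x7001001)) (.cD (nat_lit 20) (.kc (nat_lit 48) (nat_lit 0x3001001)) (.cD (nat_lit 32) (.kA false (nat_lit 0x300400200800100e004008014005011001000003)) (.cD (nat_lit 36) (.kA false (nat_lit 0x1100100000700100200d001011001000003)) (.cD (nat_lit 48) (.kA false (nat_lit 0x400800a01000400700100200d001011001000003)) (.cD (nat_lit 52) (.kA false (nat_lit 0x300400200800100e004008014005011001000003)) .nil)))))))) (.cD (nat_lit 32) (.kF (nat_lit 16) (nat_lit 0x4010004002002000001006001003)) (.cD (nat_lit 36) (.kF (nat_lit 16) (nat_lit 0x11001000001007001002002000003)) (.cD (nat_lit 48) (.dfs (nat_lit 32) (nat_lit 4100) (nat_lit 4100) (nat_lit 0x1002001) (nat_lit 0x1002001) (nat_lit 0) (nat_lit 0) (nat_lit 3) (nat_lit 0) (nat_lit 0) (nat_lit 0) (nat_lit 1) (nat_lit 0) (nat_lit 1) (nat_lit 0) (nat_lit 1) (nat_lit 0x11001100110010) (.cD (nat_lit 4) (.kc (nat_lit 40) (nat_lit 0x5001001)) (.cD (nat_lit 16) (.kA false (nat_lit 0x600c00801e00300700100200d001011001000003)) (.cD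 (nat_lit 20) (.kA false (nat_lit 0x200200000700100200d001011001000003)) (.cD (nat_lit 32) (.kA false (nat_lit 0x300400200800100e004008014005011001000003)) (.cD (nat_lit 36) (.kA false (nat_lit 0x1100100000700100200d001011001000003)) (.cD (nat_lit 48) (.kc (nat_lit 48) (nat_lit 0x3001001)) (.cD (nat_lit 52) (.kc (nat_lit 56) (nat_lit 0x7001001)) .nil)))))))) (.cD (nat_lit 52) (.dfs (nat_lit 32) (nat_lit 4100) (nat_lit 4100) (nat_lit 0x1002001) (nat_lit 0x1002001) (nat_lit 0) (nat_lit 0) (nat_lit 3) (nat_lit 0) (nat_lit 0) (nat_lit 0) (nat_lit 1) (nat_lit 0) (nat_lit 1) (nat_lit 0) (nat_lit 1) (nat_lit 0x11001100110010) (.cD (nat_lit 4) (.kc (nat_lit 40) (nat_lit 0x5001001)) (.cD (nat_lit 16) (.kA false (nat_lit 0x400c00a01e00300700100200d001011001000003)) (.cD (nat_lit 20) (.kA false (nat_lit 0x200200000700100200d001011001000003)) (.cD (nat_lit 32) (.kA false (nat_lit 0x300400200800100e004008014005011001000003)) (.cD (nat_lit 36) (.kA false (nat_lit 0x1100100000700100200d001011001000003))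 (.cD (nat_lit 48) (.kc (nat_lit 56) (nat_lit 0x7001001)) (.cD (nat_lit 52) (.kc (nat_lit 48) (nat_lit 0x3001001)) .nil)))))))) .nil)))))))) (.cD (nat_lit 8) (.dfs (nat_lit 16) (nat_lit 4098) (nat_lit 4098) (nat_lit 4097) (nat_lit 4097) (nat_lit 0) (nat_lit 0) (nat_lit 3) (nat_lit 0) (nat_lit 0) (nat_lit 0) (nat_lit 1) (nat_lit 0) (nat_lit 1) (nat_lit 0) (nat_lit 1) (nat_lit 0x101010101010100) (.cD (nat_lit 8) (.kc (nat_lit 24) (nat_lit 0x3001001)) (.cD (nat_lit 16) (.dfs (nat_lit 32) (nat_lit 4100) (nat_lit 4100) (nat_lit 0x1002001) (nat_lit 0x1002001) (nat_lit 0) (nat_lit 0) (nat_lit 3) (nat_lit 0) (nat_lit 0) (nat_lit 0) (nat_lit 1) (nat_lit 0) (nat_lit 1) (nat_lit 0) (nat_lit 1) (nat_lit 0x101010101010100) (.cD (nat_lit 8) (.kc (nat_lit 40) (nat_lit 0x5001001)) (.cD (nat_lit 16) (.kc (nat_lit 48) (nat_lit 0x3001001)) (.cD (nat_lit 24) (.kc (nat_lit 56) (nat_lit 0x7001001)) (.cD (nat_lit 32) (.kA false (nat_lit 0x300400200800100e004008014005011001000003)) (.cD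 (nat_lit 40) (.kA false (nat_lit 0x1100100000700100200d001011001000003)) (.cD (nat_lit 48) (.dfs (nat_lit 3) (nat_lit 0x1004003002008) (nat_lit 0x1007003002008) (nat_lit 4097) (nat_lit 4097) (nat_lit 2) (nat_lit 0) (nat_lit 2) (nat_lit 0) (nat_lit 0) (nat_lit 4) (nat_lit 1) (nat_lit 0) (nat_lit 1) (nat_lit 0) (nat_lit 1) (nat_lit 0) .nil) (.cD (nat_lit 56) (.dfs (nat_lit 3) (nat_lit 4101) (nat_lit 4102) (nat_lit 1) (nat_lit 1) (nat_lit 2) (nat_lit 0) (nat_lit 1) (nat_lit 4144) (nat_lit 0x40020010008004002011) (nat_lit 0) (nat_lit 1) (nat_lit 0) (nat_lit 1) (nat_lit 0) (nat_lit 1) (nat_lit 0) .nil) .nil)))))))) (.cD (nat_lit 24) (.dfs (nat_lit 32) (nat_lit 4100) (nat_lit 4100) (nat_lit 0x1002001) (nat_lit 0x1002001) (nat_lit 0) (nat_lit 0) (nat_lit 3) (nat_lit 0) (nat_lit 0) (nat_lit 0) (nat_lit 1) (nat_lit 0) (nat_lit 1) (nat_lit 0) (nat_lit 1) (nat_lit 0x101010101010100) (.cD (nat_lit 8) (.kc (nat_lit 40) (nat_lit 0x5001001)) (.cD (nat_lit 16) (.kc (nat_lit 56)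 (nat_lit 0x7001001)) (.cD (nat_lit 24) (.kc (nat_lit 48) (nat_lit 0x3001001)) (.cD (nat_lit 32) (.kA false (nat_lit 0x300400200800100e004008014005011001000003)) (.cD (nat_lit 40) (.kA false (nat_lit 0x1100100000700100200d001011001000003)) (.cD (nat_lit 48) (.kA false (nat_lit 0x300400200800100e004008014005011001000003)) (.cD (nat_lit 56) (.kA false (nat_lit 0x300400200800100e004008014005011001000003)) .nil)))))))) (.cD (nat_lit 32) (.kF (nat_lit 8) (nat_lit 0x3006002004004000002007001002002000004)) (.cD (nat_lit 40) (.kF (nat_lit 8) (nat_lit 0x11001000002007001002002000003)) (.cD (nat_lit 48) (.kF (nat_lit 16) (nat_lit 0x1100100000e014006001006001003)) (.cD (nat_lit 56) (.kF (nat_lit 16) (nat_lit 0x1100100000a014006001006001003)) .nil)))))))) (.cD (nat_lit 16) (.kF (nat_lit 8) (nat_lit 0x2002000001003001002)) (.cD (nat_lit 20) (.kF (nat_lit 8) (nat_lit 0xe01e003001003001002)) (.cD (nat_lit 24) (.kF (nat_lit 8) (nat_lit 0x11001000002014006011001000001003001004))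 (.cD (nat_lit 32) (.dfs (nat_lit 16) (nat_lit 4098) (nat_lit 4098) (nat_lit 4097) (nat_lit 4097) (nat_lit 0) (nat_lit 0) (nat_lit 3) (nat_lit 0) (nat_lit 0) (nat_lit 0) (nat_lit 1) (nat_lit 0) (nat_lit 0x1008004) (nat_lit 32772) (nat_lit 0x1001004000008001014000018) (nat_lit 0x1000101110110) (.cD (nat_lit 4) (.kF (nat_lit 16) (nat_lit 0x11001000001006001002)) (.cD (nat_lit 8) (.kF (nat_lit 8) (nat_lit 0x11001000004016005002007001002002000004)) (.cD (nat_lit 16) (.dfs (nat_lit 32) (nat_lit 4100) (nat_lit 4100) (nat_lit 0x1002001) (nat_lit 0x1002001) (nat_lit 0) (nat_lit 0) (nat_lit 3) (nat_lit 0) (nat_lit 0) (nat_lit 0) (nat_lit 1) (nat_lit 0) (nat_lit 0x1008004) (nat_lit 32772) (nat_lit 0x1001004000008001014000018) (nat_lit 0x1000101110110) (.cD (nat_lit 4) (.kA false (nat_lit 0x1100100000400100200c001002)) (.cD (nat_lit 8) (.kA false (nat_lit 0x700400200c002011001000002)) (.cD (nat_lit 16) (.kc (nat_lit 48) (nat_lit 0x3001001)) (.cD (nat_lit 20) (.kA false (nat_lit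 0x1100100000400100200c001002)) (.cD (nat_lit 24) (.dfs (nat_lit 3) (nat_lit 4100) (nat_lit 4103) (nat_lit 1) (nat_lit 1) (nat_lit 2) (nat_lit 0) (nat_lit 1) (nat_lit 4128) (nat_lit 0x40020010008004002011) (nat_lit 0) (nat_lit 1) (nat_lit 0) (nat_lit 1) (nat_lit 0) (nat_lit 1) (nat_lit 0) .nil) (.cD (nat_lit 32) (.kc (nat_lit 40) (nat_lit 0x5001001)) (.cD (nat_lit 48) (.kc (nat_lit 56) (nat_lit 0x7001001)) .nil)))))))) (.cD (nat_lit 20) (.dfs (nat_lit 32) (nat_lit 4100) (nat_lit 4100) (nat_lit 0x1002001) (nat_lit 0x1002001) (nat_lit 0) (nat_lit 0) (nat_lit 3) (nat_lit 0) (nat_lit 0) (nat_lit 0) (nat_lit 1) (nat_lit 0) (nat_lit 1) (nat_lit 0) (nat_lit 1) (nat_lit 0x11001100110010) (.cD (nat_lit 4) (.kA false (nat_lit 0x1100100000400100200c001002)) (.cD (nat_lit 16) (.kA false (nat_lit 0x1100100000400100200c001002)) (.cD (nat_lit 20) (.kc (nat_lit 48) (nat_lit 0x3001001)) (.cD (nat_lit 32) (.kc (nat_lit 40) (nat_lit 0x5001001)) (.cD (nat_lit 36) (.kA false (nat_lit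 0x1100100000400100200c001002)) (.cD (nat_lit 48) (.kA false (nat_lit 0x1100100000400100200c001002)) (.cD (nat_lit 52) (.kc (nat_lit 56) (nat_lit 0x7001001)) .nil)))))))) (.cD (nat_lit 24) (.kF (nat_lit 16) (nat_lit 0x11001000001006001002)) (.cD (nat_lit 32) (.kc (nat_lit 24) (nat_lit 0x3001001)) (.cD (nat_lit 48) (.dfs (nat_lit 32) (nat_lit 4100) (nat_lit 4100) (nat_lit 0x1002001) (nat_lit 0x1002001) (nat_lit 0) (nat_lit 0) (nat_lit 3) (nat_lit 0) (nat_lit 0) (nat_lit 0) (nat_lit 1) (nat_lit 0) (nat_lit 0x1008004) (nat_lit 32772) (nat_lit 0x1001004000008001014000018) (nat_lit 0x1000101110110) (.cD (nat_lit 4) (.kA false (nat_lit 0x1100100000400100200c001002)) (.cD (nat_lit 8) (.kA false (nat_lit 0x300400600c002011001000002)) (.cD (nat_lit 16) (.kc (nat_lit 56) (nat_lit 0x7001001)) (.cD (nat_lit 20) (.kA false (nat_lit 0x1100100000400100200c001002)) (.cD (nat_lit 24) (.kA false (nat_lit 0x500400600c002011001000002)) (.cD (nat_lit 32) (.kc (nat_lit 40) (nat_lit 0x5001001))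 (.cD (nat_lit 48) (.kc (nat_lit 48) (nat_lit 0x3001001)) .nil)))))))) .nil)))))))) (.cD (nat_lit 48) (.kF (nat_lit 8) (nat_lit 0x13003000001003001002)) .nil))))))))))
theorem c164 : (chk [] [] p164).n x91 s164 = true := by decide +kernel
noncomputable def p165 : Pf := (.anc (nat_lit 68) (nat_lit 0x10002002002000002) (nat_lit 0x1009020010004) (.czp (nat_lit 64) (nat_lit 0) (nat_lit 0x1040020010008004) z6 (.dfs (nat_lit 4) (nat_lit 4097) (nat_lit 4097) (nat_lit 1) (nat_lit 1) (nat_lit 0) (nat_lit 0) (nat_lit 3) (nat_lit 0) (nat_lit 0) (nat_lit 0) (nat_lit 1) (nat_lit 0) (nat_lit 0x1008004) (nat_lit 32772) (nat_lit 0x1001004000008001014000018) (nat_lit 0x1000101110110) (.cD (nat_lit 4) (.dfs (nat_lit 16) (nat_lit 4098) (nat_lit 4098) (nat_lit 4097) (nat_lit 4097) (nat_lit 0) (nat_lit 0) (nat_lit 3) (nat_lit 0) (nat_lit 0) (nat_lit 0) (nat_lit 1) (nat_lit 0) (nat_lit 1) (nat_lit 0) (nat_lit 1) (nat_lit 0x11001100110010) (.cD (nat_lit 4) (.kc (nat_lit 20) (nat_lit 0x3001001))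 (.cD (nat_lit 16) (.dfs (nat_lit 32) (nat_lit 4100) (nat_lit 4100) (nat_lit 0x1002001) (nat_lit 0x1002001) (nat_lit 0) (nat_lit 0) (nat_lit 3) (nat_lit 0) (nat_lit 0) (nat_lit 0) (nat_lit 1) (nat_lit 0) (nat_lit 1) (nat_lit 0) (nat_lit 1) (nat_lit 0x11001100110010) (.cD (nat_lit 4) (.kc (nat_lit 36) (nat_lit 0x5001001)) (.cD (nat_lit 16) (.kc (nat_lit 48) (nat_lit 0x3001001)) (.cD (nat_lit 20) (.kc (nat_lit 52) (nat_lit 0x7001001)) (.cD (nat_lit 32) (.dfs (nat_lit 9) (nat_lit 0x1004001003008) (nat_lit 0x1005001003008) (nat_lit 4098) (nat_lit 4098) (nat_lit 2) (nat_lit 0) (nat_lit 2) (nat_lit 1) (nat_lit 0) (nat_lit 8) (nat_lit 1) (nat_lit 0) (nat_lit 1) (nat_lit 0) (nat_lit 1) (nat_lit 0) .nil) (.cD (nat_lit 36) (.kA true (nat_lit 0x2100100000400100300d001021001000003)) (.cD (nat_lit 48) (.kA true (nat_lit 0x600800401000400400100300d001021001000003)) (.cD (nat_lit 52) (.kA true (nat_lit 0x5004003008001008004002005007021001000003)) .nil)))))))) (.cD (nat_lit 20)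 (.dfs (nat_lit 32) (nat_lit 4100) (nat_lit 4100) (nat_lit 0x1002001) (nat_lit 0x1002001) (nat_lit 0) (nat_lit 0) (nat_lit 3) (nat_lit 0) (nat_lit 0) (nat_lit 0) (nat_lit 1) (nat_lit 0) (nat_lit 1) (nat_lit 0) (nat_lit 1) (nat_lit 0x11001100110010) (.cD (nat_lit 4) (.kc (nat_lit 36) (nat_lit 0x5001001)) (.cD (nat_lit 16) (.kc (nat_lit 52) (nat_lit 0x7001001)) (.cD (nat_lit 20) (.kc (nat_lit 48) (nat_lit 0x3001001)) (.cD (nat_lit 32) (.kA true (nat_lit 0x5004003008001008004002005007021001000003)) (.cD (nat_lit 36) (.dfs (nat_lit 9) (nat_lit 4102) (nat_lit 4103) (nat_lit 1) (nat_lit 1) (nat_lit 2) (nat_lit 0) (nat_lit 1) (nat_lit 4112) (nat_lit 0x40020010008004002021) (nat_lit 0) (nat_lit 1) (nat_lit 0) (nat_lit 1) (nat_lit 0) (nat_lit 1) (nat_lit 0) .nil) (.cD (nat_lit 48) (.kA true (nat_lit 0x400300500800100400100300c001002)) (.cD (nat_lit 52) (.kA true (nat_lit 0x400700100800100400100300c001002)) .nil)))))))) (.cD (nat_lit 32) (.kF (nat_lit 16) (nat_lit 0x100400100c012004002002000003))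 (.cD (nat_lit 36) (.kF (nat_lit 16) (nat_lit 0x100400100c012004002002000003)) (.cD (nat_lit 48) (.dfs (nat_lit 32) (nat_lit 4100) (nat_lit 4100) (nat_lit 0x1002001) (nat_lit 0x1002001) (nat_lit 0) (nat_lit 0) (nat_lit 3) (nat_lit 0) (nat_lit 0) (nat_lit 0) (nat_lit 1) (nat_lit 0) (nat_lit 1) (nat_lit 0) (nat_lit 1) (nat_lit 0x11001100110010) (.cD (nat_lit 4) (.kc (nat_lit 36) (nat_lit 0x5001001)) (.cD (nat_lit 16) (.kA true (nat_lit 0x400200100800100400100300c001002)) (.cD (nat_lit 20) (.kA true (nat_lit 0x400600500800100400100300c001002)) (.cD (nat_lit 32) (.kA true (nat_lit 0x5004003008001008004002005007021001000003)) (.cD (nat_lit 36) (.kA true (nat_lit 0x400500600800100400100300c001002)) (.cD (nat_lit 48) (.kc (nat_lit 48) (nat_lit 0x3001001)) (.cD (nat_lit 52) (.kc (nat_lit 52) (nat_lit 0x7001001)) .nil)))))))) (.cD (nat_lit 52) (.dfs (nat_lit 32) (nat_lit 4100) (nat_lit 4100) (nat_lit 0x1002001) (nat_lit 0x1002001) (nat_lit 0) (nat_lit 0) (nat_lit 3) (nat_lit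 0) (nat_lit 0) (nat_lit 0) (nat_lit 1) (nat_lit 0) (nat_lit 1) (nat_lit 0) (nat_lit 1) (nat_lit 0x11001100110010) (.cD (nat_lit 4) (.kc (nat_lit 36) (nat_lit 0x5001001)) (.cD (nat_lit 16) (.kA true (nat_lit 0x400200500800100400100300c001002)) (.cD (nat_lit 20) (.kA true (nat_lit 0x400600100800100400100300c001002)) (.cD (nat_lit 32) (.kA true (nat_lit 0x5004003008001008004002005007021001000003)) (.cD (nat_lit 36) (.kA true (nat_lit 0x400500200800100400100300c001002)) (.cD (nat_lit 48) (.kc (nat_lit 52) (nat_lit 0x7001001)) (.cD (nat_lit 52) (.kc (nat_lit 48) (nat_lit 0x3001001)) .nil)))))))) .nil)))))))) (.cD (nat_lit 8) (.dfs (nat_lit 16) (nat_lit 4098) (nat_lit 4098) (nat_lit 4097) (nat_lit 4097) (nat_lit 0) (nat_lit 0) (nat_lit 3) (nat_lit 0) (nat_lit 0) (nat_lit 0) (nat_lit 1) (nat_lit 0) (nat_lit 1) (nat_lit 0) (nat_lit 1) (nat_lit 0x101010101010100) (.cD (nat_lit 8) (.kc (nat_lit 20) (nat_lit 0x3001001)) (.cD (nat_lit 16) (.dfs (nat_lit 32) (nat_lit 4100) (nat_lit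 4100) (nat_lit 0x1002001) (nat_lit 0x1002001) (nat_lit 0) (nat_lit 0) (nat_lit 3) (nat_lit 0) (nat_lit 0) (nat_lit 0) (nat_lit 1) (nat_lit 0) (nat_lit 1) (nat_lit 0) (nat_lit 1) (nat_lit 0x101010101010100) (.cD (nat_lit 8) (.kc (nat_lit 36) (nat_lit 0x5001001)) (.cD (nat_lit 16) (.kc (nat_lit 48) (nat_lit 0x3001001)) (.cD (nat_lit 24) (.kc (nat_lit 52) (nat_lit 0x7001001)) (.cD (nat_lit 32) (.kA false (nat_lit 0x300400200c00200e004008014005021001000003)) (.cD (nat_lit 40) (.kA false (nat_lit 0x2100100000300500200d002021001000003)) (.cD (nat_lit 48) (.kA false (nat_lit 0x200800c01000400500300200b002021001000003)) (.cD (nat_lit 56) (.kA false (nat_lit 0x500400200c00200e004008014005021001000003)) .nil)))))))) (.cD (nat_lit 24) (.dfs (nat_lit 32) (nat_lit 4100) (nat_lit 4100) (nat_lit 0x1002001) (nat_lit 0x1002001) (nat_lit 0) (nat_lit 0) (nat_lit 3) (nat_lit 0) (nat_lit 0) (nat_lit 0) (nat_lit 1) (nat_lit 0) (nat_lit 1) (nat_lit 0) (nat_lit 1) (nat_lit 0x101010101010100)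 (.cD (nat_lit 8) (.kc (nat_lit 36) (nat_lit 0x5001001)) (.cD (nat_lit 16) (.kc (nat_lit 52) (nat_lit 0x7001001)) (.cD (nat_lit 24) (.kc (nat_lit 48) (nat_lit 0x3001001)) (.cD (nat_lit 32) (.kA false (nat_lit 0x700400600c00200e004008014005021001000003)) (.cD (nat_lit 40) (.kA false (nat_lit 0x2100100000700500600d002021001000003)) (.cD (nat_lit 48) (.kA false (nat_lit 0x100400600c00200e004008014005021001000003)) (.cD (nat_lit 56) (.kA false (nat_lit 0x400800a01000400100300600b002021001000003)) .nil)))))))) (.cD (nat_lit 32) (.kF (nat_lit 16) (nat_lit 0x100400100c012004002002000003)) (.cD (nat_lit 40) (.kF (nat_lit 16) (nat_lit 0x100400100c012004002002000003)) (.cD (nat_lit 48) (.kF (nat_lit 16) (nat_lit 0x2100100000e014006001006001003)) (.cD (nat_lit 56) (.kF (nat_lit 16) (nat_lit 0x2100100000a014006001006001003)) .nil)))))))) (.cD (nat_lit 16) (.kF (nat_lit 4) (nat_lit 0x2002000001003001002)) (.cD (nat_lit 20) (.kF (nat_lit 4) (nat_lit 0xe01e003001003001002)) (.cD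 (nat_lit 24) (.kF (nat_lit 4) (nat_lit 0x1002001002012004002002000003)) (.cD (nat_lit 32) (.dfs (nat_lit 16) (nat_lit 4098) (nat_lit 4098) (nat_lit 4097) (nat_lit 4097) (nat_lit 0) (nat_lit 0) (nat_lit 3) (nat_lit 0) (nat_lit 0) (nat_lit 0) (nat_lit 1) (nat_lit 0) (nat_lit 0x1008004) (nat_lit 32772) (nat_lit 0x1001004000008001014000018) (nat_lit 0x1000101110110) (.cD (nat_lit 4) (.kF (nat_lit 16) (nat_lit 0x21001000001006001002)) (.cD (nat_lit 8) (.kF (nat_lit 16) (nat_lit 0x100400100c012004002002000003)) (.cD (nat_lit 16) (.dfs (nat_lit 32) (nat_lit 4100) (nat_lit 4100) (nat_lit 0x1002001) (nat_lit 0x1002001) (nat_lit 0) (nat_lit 0) (nat_lit 3) (nat_lit 0) (nat_lit 0) (nat_lit 0) (nat_lit 1) (nat_lit 0) (nat_lit 0x1008004) (nat_lit 32772) (nat_lit 0x1001004000008001014000018) (nat_lit 0x1000101110110) (.cD (nat_lit 4) (.kA true (nat_lit 0x100400600c002021001000002)) (.cD (nat_lit 8) (.kA false (nat_lit 0x700400200c002021001000002)) (.cD (nat_lit 16) (.kc (nat_lit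 48) (nat_lit 0x3001001)) (.cD (nat_lit 20) (.kA true (nat_lit 0x300400600c002021001000002)) (.cD (nat_lit 24) (.kA false (nat_lit 0x500400200c002021001000002)) (.cD (nat_lit 32) (.kc (nat_lit 36) (nat_lit 0x5001001)) (.cD (nat_lit 48) (.kc (nat_lit 52) (nat_lit 0x7001001)) .nil)))))))) (.cD (nat_lit 20) (.dfs (nat_lit 32) (nat_lit 4100) (nat_lit 4100) (nat_lit 0x1002001) (nat_lit 0x1002001) (nat_lit 0) (nat_lit 0) (nat_lit 3) (nat_lit 0) (nat_lit 0) (nat_lit 0) (nat_lit 1) (nat_lit 0) (nat_lit 1) (nat_lit 0) (nat_lit 1) (nat_lit 0x11001100110010) (.cD (nat_lit 4) (.kA true (nat_lit 0x100400700c002021001000002)) (.cD (nat_lit 16) (.kA true (nat_lit 0x300400500c002021001000002)) (.cD (nat_lit 20) (.kc (nat_lit 48) (nat_lit 0x3001001)) (.cD (nat_lit 32) (.kc (nat_lit 36) (nat_lit 0x5001001)) (.cD (nat_lit 36) (.dfs (nat_lit 9) (nat_lit 4100) (nat_lit 4101) (nat_lit 1) (nat_lit 1) (nat_lit 2) (nat_lit 0) (nat_lit 1) (nat_lit 4128) (nat_lit 0x40020010008004002021) (nat_lit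 0) (nat_lit 1) (nat_lit 0) (nat_lit 1) (nat_lit 0) (nat_lit 1) (nat_lit 0) .nil) (.cD (nat_lit 48) (.kA true (nat_lit 0x700400100c002021001000002)) (.cD (nat_lit 52) (.kc (nat_lit 52) (nat_lit 0x7001001)) .nil)))))))) (.cD (nat_lit 24) (.kF (nat_lit 16) (nat_lit 0x21001000001006001002)) (.cD (nat_lit 32) (.kc (nat_lit 20) (nat_lit 0x3001001)) (.cD (nat_lit 48) (.dfs (nat_lit 32) (nat_lit 4100) (nat_lit 4100) (nat_lit 0x1002001) (nat_lit 0x1002001) (nat_lit 0) (nat_lit 0) (nat_lit 3) (nat_lit 0) (nat_lit 0) (nat_lit 0) (nat_lit 1) (nat_lit 0) (nat_lit 0x1008004) (nat_lit 32772) (nat_lit 0x1001004000008001014000018) (nat_lit 0x1000101110110) (.cD (nat_lit 4) (.kA true (nat_lit 0x100400200c002021001000002)) (.cD (nat_lit 8) (.kA false (nat_lit 0x300400600c002021001000002)) (.cD (nat_lit 16) (.kc (nat_lit 52) (nat_lit 0x7001001)) (.cD (nat_lit 20) (.kA true (nat_lit 0x700400200c002021001000002)) (.cD (nat_lit 24) (.kA false (nat_lit 0x500400600c002021001000002)) (.cD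 (nat_lit 32) (.kc (nat_lit 36) (nat_lit 0x5001001)) (.cD (nat_lit 48) (.kc (nat_lit 48) (nat_lit 0x3001001)) .nil)))))))) .nil)))))))) (.cD (nat_lit 48) (.kF (nat_lit 4) (nat_lit 0x1002001002012004002002000003)) .nil))))))))))
theorem c165 : (chk [] [] p165).n x92 s165 = true := by decide +kernel
noncomputable def p166 : Pf := (.anc (nat_lit 68) (nat_lit 0x10002002002000002) (nat_lit 0x1009020010004) (.czp (nat_lit 64) (nat_lit 0) (nat_lit 0x1040020010008004) z6 (.dfs (nat_lit 4) (nat_lit 4097) (nat_lit 4097) (nat_lit 1) (nat_lit 1) (nat_lit 0) (nat_lit 0) (nat_lit 3) (nat_lit 0) (nat_lit 0) (nat_lit 0) (nat_lit 1) (nat_lit 0) (nat_lit 0x1008004) (nat_lit 32772) (nat_lit 0x1001004000008001014000018) (nat_lit 0x1000101110110) (.cD (nat_lit 4) (.dfs (nat_lit 16) (nat_lit 4098) (nat_lit 4098) (nat_lit 4097) (nat_lit 4097) (nat_lit 0) (nat_lit 0) (nat_lit 3) (nat_lit 0) (nat_lit 0) (nat_lit 0) (nat_lit 1) (nat_lit 0) (nat_lit 1) (nat_lit 0) (nat_lit 1) (nat_lit 0x11001100110010)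 (.cD (nat_lit 4) (.kc (nat_lit 20) (nat_lit 0x3001001)) (.cD (nat_lit 16) (.dfs (nat_lit 32) (nat_lit 4100) (nat_lit 4100) (nat_lit 0x1002001) (nat_lit 0x1002001) (nat_lit 0) (nat_lit 0) (nat_lit 3) (nat_lit 0) (nat_lit 0) (nat_lit 0) (nat_lit 1) (nat_lit 0) (nat_lit 1) (nat_lit 0) (nat_lit 1) (nat_lit 0x11001100110010) (.cD (nat_lit 4) (.kc (nat_lit 36) (nat_lit 0x5001001)) (.cD (nat_lit 16) (.kc (nat_lit 48) (nat_lit 0x3001001)) (.cD (nat_lit 20) (.kc (nat_lit 52) (nat_lit 0x7001001)) (.cD (nat_lit 32) (.dfs (nat_lit 9) (nat_lit 0x1004001003008) (nat_lit 0x1005001003008) (nat_lit 4098) (nat_lit 4098) (nat_lit 2) (nat_lit 0) (nat_lit 2) (nat_lit 1) (nat_lit 0) (nat_lit 8) (nat_lit 1) (nat_lit 0) (nat_lit 1) (nat_lit 0) (nat_lit 1) (nat_lit 0) .nil) (.cD (nat_lit 36) (.kA true (nat_lit 0x2100100000400100300d001021001000003)) (.cD (nat_lit 48) (.kA true (nat_lit 0x600800401000400400100300d001021001000003)) (.cD (nat_lit 52) (.kA true (nat_lit 0x5004003008001008004002005007021001000003))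 .nil)))))))) (.cD (nat_lit 20) (.dfs (nat_lit 32) (nat_lit 4100) (nat_lit 4100) (nat_lit 0x1002001) (nat_lit 0x1002001) (nat_lit 0) (nat_lit 0) (nat_lit 3) (nat_lit 0) (nat_lit 0) (nat_lit 0) (nat_lit 1) (nat_lit 0) (nat_lit 1) (nat_lit 0) (nat_lit 1) (nat_lit 0x11001100110010) (.cD (nat_lit 4) (.kc (nat_lit 36) (nat_lit 0x5001001)) (.cD (nat_lit 16) (.kc (nat_lit 52) (nat_lit 0x7001001)) (.cD (nat_lit 20) (.kc (nat_lit 48) (nat_lit 0x3001001)) (.cD (nat_lit 32) (.kA true (nat_lit 0x5004003008001008004002005007021001000003)) (.cD (nat_lit 36) (.dfs (nat_lit 9) (nat_lit 4102) (nat_lit 4103) (nat_lit 1) (nat_lit 1) (nat_lit 2) (nat_lit 0) (nat_lit 1) (nat_lit 4112) (nat_lit 0x40020010008004002021) (nat_lit 0) (nat_lit 1) (nat_lit 0) (nat_lit 1) (nat_lit 0) (nat_lit 1) (nat_lit 0) .nil) (.cD (nat_lit 48) (.kA true (nat_lit 0x400300500800100400100300c001002)) (.cD (nat_lit 52) (.kA true (nat_lit 0x400700100800100400100300c001002)) .nil)))))))) (.cD (nat_lit 32) (.kF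 (nat_lit 16) (nat_lit 0x100400100c012004002002000003)) (.cD (nat_lit 36) (.kF (nat_lit 16) (nat_lit 0x100400100c012004002002000003)) (.cD (nat_lit 48) (.dfs (nat_lit 32) (nat_lit 4100) (nat_lit 4100) (nat_lit 0x1002001) (nat_lit 0x1002001) (nat_lit 0) (nat_lit 0) (nat_lit 3) (nat_lit 0) (nat_lit 0) (nat_lit 0) (nat_lit 1) (nat_lit 0) (nat_lit 1) (nat_lit 0) (nat_lit 1) (nat_lit 0x11001100110010) (.cD (nat_lit 4) (.kc (nat_lit 36) (nat_lit 0x5001001)) (.cD (nat_lit 16) (.kA true (nat_lit 0x400200100800100400100300c001002)) (.cD (nat_lit 20) (.kA true (nat_lit 0x400600500800100400100300c001002)) (.cD (nat_lit 32) (.kA true (nat_lit 0x5004003008001008004002005007021001000003)) (.cD (nat_lit 36) (.kA true (nat_lit 0x400500600800100400100300c001002)) (.cD (nat_lit 48) (.kc (nat_lit 48) (nat_lit 0x3001001)) (.cD (nat_lit 52) (.kc (nat_lit 52) (nat_lit 0x7001001)) .nil)))))))) (.cD (nat_lit 52) (.dfs (nat_lit 32) (nat_lit 4100) (nat_lit 4100) (nat_lit 0x1002001) (nat_lit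 0x1002001) (nat_lit 0) (nat_lit 0) (nat_lit 3) (nat_lit 0) (nat_lit 0) (nat_lit 0) (nat_lit 1) (nat_lit 0) (nat_lit 1) (nat_lit 0) (nat_lit 1) (nat_lit 0x11001100110010) (.cD (nat_lit 4) (.kc (nat_lit 36) (nat_lit 0x5001001)) (.cD (nat_lit 16) (.kA true (nat_lit 0x400200500800100400100300c001002)) (.cD (nat_lit 20) (.kA true (nat_lit 0x400600100800100400100300c001002)) (.cD (nat_lit 32) (.kA true (nat_lit 0x5004003008001008004002005007021001000003)) (.cD (nat_lit 36) (.kA true (nat_lit 0x400500200800100400100300c001002)) (.cD (nat_lit 48) (.kc (nat_lit 52) (nat_lit 0x7001001)) (.cD (nat_lit 52) (.kc (nat_lit 48) (nat_lit 0x3001001)) .nil)))))))) .nil)))))))) (.cD (nat_lit 8) (.dfs (nat_lit 16) (nat_lit 4098) (nat_lit 4098) (nat_lit 4097) (nat_lit 4097) (nat_lit 0) (nat_lit 0) (nat_lit 3) (nat_lit 0) (nat_lit 0) (nat_lit 0) (nat_lit 1) (nat_lit 0) (nat_lit 1) (nat_lit 0) (nat_lit 1) (nat_lit 0x101010101010100) (.cD (nat_lit 8) (.kc (nat_lit 20) (nat_lit 0x3001001))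 (.cD (nat_lit 16) (.dfs (nat_lit 32) (nat_lit 4100) (nat_lit 4100) (nat_lit 0x1002001) (nat_lit 0x1002001) (nat_lit 0) (nat_lit 0) (nat_lit 3) (nat_lit 0) (nat_lit 0) (nat_lit 0) (nat_lit 1) (nat_lit 0) (nat_lit 1) (nat_lit 0) (nat_lit 1) (nat_lit 0x101010101010100) (.cD (nat_lit 8) (.kc (nat_lit 36) (nat_lit 0x5001001)) (.cD (nat_lit 16) (.kc (nat_lit 48) (nat_lit 0x3001001)) (.cD (nat_lit 24) (.kc (nat_lit 52) (nat_lit 0x7001001)) (.cD (nat_lit 32) (.kA false (nat_lit 0x300400200c00200e004008014005021001000003)) (.cD (nat_lit 40) (.kA false (nat_lit 0x2100100000300500200d002021001000003)) (.cD (nat_lit 48) (.kA false (nat_lit 0x200800c01000400500300200b002021001000003)) (.cD (nat_lit 56) (.kA false (nat_lit 0x500400200c00200e004008014005021001000003)) .nil)))))))) (.cD (nat_lit 24) (.dfs (nat_lit 32) (nat_lit 4100) (nat_lit 4100) (nat_lit 0x1002001) (nat_lit 0x1002001) (nat_lit 0) (nat_lit 0) (nat_lit 3) (nat_lit 0) (nat_lit 0) (nat_lit 0) (nat_lit 1) (nat_lit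 0) (nat_lit 1) (nat_lit 0) (nat_lit 1) (nat_lit 0x101010101010100) (.cD (nat_lit 8) (.kc (nat_lit 36) (nat_lit 0x5001001)) (.cD (nat_lit 16) (.kc (nat_lit 52) (nat_lit 0x7001001)) (.cD (nat_lit 24) (.kc (nat_lit 48) (nat_lit 0x3001001)) (.cD (nat_lit 32) (.kA false (nat_lit 0x700400600c00200e004008014005021001000003)) (.cD (nat_lit 40) (.kA false (nat_lit 0x2100100000700500600d002021001000003)) (.cD (nat_lit 48) (.kA false (nat_lit 0x100400600c00200e004008014005021001000003)) (.cD (nat_lit 56) (.kA false (nat_lit 0x400800a01000400100300600b002021001000003)) .nil)))))))) (.cD (nat_lit 32) (.kF (nat_lit 16) (nat_lit 0x100400100c012004002002000003)) (.cD (nat_lit 40) (.kF (nat_lit 16) (nat_lit 0x100400100c012004002002000003)) (.cD (nat_lit 48) (.kF (nat_lit 16) (nat_lit 0x2100100000e014006001006001003)) (.cD (nat_lit 56) (.kF (nat_lit 16) (nat_lit 0x2100100000a014006001006001003)) .nil)))))))) (.cD (nat_lit 16) (.kF (nat_lit 4) (nat_lit 0x2002000001003001002)) (.cD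 (nat_lit 20) (.kF (nat_lit 4) (nat_lit 0xe01e003001003001002)) (.cD (nat_lit 24) (.kF (nat_lit 4) (nat_lit 0x1002001002012004002002000003)) (.cD (nat_lit 32) (.dfs (nat_lit 16) (nat_lit 4098) (nat_lit 4098) (nat_lit 4097) (nat_lit 4097) (nat_lit 0) (nat_lit 0) (nat_lit 3) (nat_lit 0) (nat_lit 0) (nat_lit 0) (nat_lit 1) (nat_lit 0) (nat_lit 0x1008004) (nat_lit 32772) (nat_lit 0x1001004000008001014000018) (nat_lit 0x1000101110110) (.cD (nat_lit 4) (.kF (nat_lit 16) (nat_lit 0x21001000001006001002)) (.cD (nat_lit 8) (.kF (nat_lit 16) (nat_lit 0x100400100c012004002002000003)) (.cD (nat_lit 16) (.dfs (nat_lit 32) (nat_lit 4100) (nat_lit 4100) (nat_lit 0x1002001) (nat_lit 0x1002001) (nat_lit 0) (nat_lit 0) (nat_lit 3) (nat_lit 0) (nat_lit 0) (nat_lit 0) (nat_lit 1) (nat_lit 0) (nat_lit 0x1008004) (nat_lit 32772) (nat_lit 0x1001004000008001014000018) (nat_lit 0x1000101110110) (.cD (nat_lit 4) (.kA true (nat_lit 0x100400600c002021001000002)) (.cD (nat_lit 8) (.kA false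 (nat_lit 0x700400200c002021001000002)) (.cD (nat_lit 16) (.kc (nat_lit 48) (nat_lit 0x3001001)) (.cD (nat_lit 20) (.kA true (nat_lit 0x300400600c002021001000002)) (.cD (nat_lit 24) (.kA false (nat_lit 0x500400200c002021001000002)) (.cD (nat_lit 32) (.kc (nat_lit 36) (nat_lit 0x5001001)) (.cD (nat_lit 48) (.kc (nat_lit 52) (nat_lit 0x7001001)) .nil)))))))) (.cD (nat_lit 20) (.dfs (nat_lit 32) (nat_lit 4100) (nat_lit 4100) (nat_lit 0x1002001) (nat_lit 0x1002001) (nat_lit 0) (nat_lit 0) (nat_lit 3) (nat_lit 0) (nat_lit 0) (nat_lit 0) (nat_lit 1) (nat_lit 0) (nat_lit 1) (nat_lit 0) (nat_lit 1) (nat_lit 0x11001100110010) (.cD (nat_lit 4) (.kA true (nat_lit 0x100400700c002021001000002)) (.cD (nat_lit 16) (.kA true (nat_lit 0x300400500c002021001000002)) (.cD (nat_lit 20) (.kc (nat_lit 48) (nat_lit 0x3001001)) (.cD (nat_lit 32) (.kc (nat_lit 36) (nat_lit 0x5001001)) (.cD (nat_lit 36) (.dfs (nat_lit 9) (nat_lit 4100) (nat_lit 4101) (nat_lit 1) (nat_lit 1) (nat_lit 2) (nat_lit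 0) (nat_lit 1) (nat_lit 4128) (nat_lit 0x40020010008004002021) (nat_lit 0) (nat_lit 1) (nat_lit 0) (nat_lit 1) (nat_lit 0) (nat_lit 1) (nat_lit 0) .nil) (.cD (nat_lit 48) (.kA true (nat_lit 0x700400100c002021001000002)) (.cD (nat_lit 52) (.kc (nat_lit 52) (nat_lit 0x7001001)) .nil)))))))) (.cD (nat_lit 24) (.kF (nat_lit 16) (nat_lit 0x21001000001006001002)) (.cD (nat_lit 32) (.kc (nat_lit 20) (nat_lit 0x3001001)) (.cD (nat_lit 48) (.dfs (nat_lit 32) (nat_lit 4100) (nat_lit 4100) (nat_lit 0x1002001) (nat_lit 0x1002001) (nat_lit 0) (nat_lit 0) (nat_lit 3) (nat_lit 0) (nat_lit 0) (nat_lit 0) (nat_lit 1) (nat_lit 0) (nat_lit 0x1008004) (nat_lit 32772) (nat_lit 0x1001004000008001014000018) (nat_lit 0x1000101110110) (.cD (nat_lit 4) (.kA true (nat_lit 0x100400200c002021001000002)) (.cD (nat_lit 8) (.kA false (nat_lit 0x300400600c002021001000002)) (.cD (nat_lit 16) (.kc (nat_lit 52) (nat_lit 0x7001001)) (.cD (nat_lit 20) (.kA true (nat_lit 0x700400200c002021001000002))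 (.cD (nat_lit 24) (.kA false (nat_lit 0x500400600c002021001000002)) (.cD (nat_lit 32) (.kc (nat_lit 36) (nat_lit 0x5001001)) (.cD (nat_lit 48) (.kc (nat_lit 48) (nat_lit 0x3001001)) .nil)))))))) .nil)))))))) (.cD (nat_lit 48) (.kF (nat_lit 4) (nat_lit 0x1002001002012004002002000003)) .nil))))))))))
theorem c166 : (chk [] [] p166).n x93 s166 = true := by decide +kernel
noncomputable def p167 : Pf := (.anc (nat_lit 68) (nat_lit 0x10002002002000002) (nat_lit 0x1009020010004) (.czp (nat_lit 64) (nat_lit 0) (nat_lit 0x1040020010008004) z6 (.dfs (nat_lit 4) (nat_lit 4097) (nat_lit 4097) (nat_lit 1) (nat_lit 1) (nat_lit 0) (nat_lit 0) (nat_lit 3) (nat_lit 0) (nat_lit 0) (nat_lit 0) (nat_lit 1) (nat_lit 0) (nat_lit 0x1008004) (nat_lit 32772) (nat_lit 0x1001004000008001014000018) (nat_lit 0x1000101110110) (.cD (nat_lit 4) (.dfs (nat_lit 16) (nat_lit 4098) (nat_lit 4098) (nat_lit 4097) (nat_lit 4097) (nat_lit 0) (nat_lit 0) (nat_lit 3) (nat_lit 0) (nat_lit 0) (nat_lit 0)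 (nat_lit 1) (nat_lit 0) (nat_lit 1) (nat_lit 0) (nat_lit 1) (nat_lit 0x11001100110010) (.cD (nat_lit 4) (.kc (nat_lit 20) (nat_lit 0x3001001)) (.cD (nat_lit 16) (.dfs (nat_lit 32) (nat_lit 4100) (nat_lit 4100) (nat_lit 0x1002001) (nat_lit 0x1002001) (nat_lit 0) (nat_lit 0) (nat_lit 3) (nat_lit 0) (nat_lit 0) (nat_lit 0) (nat_lit 1) (nat_lit 0) (nat_lit 1) (nat_lit 0) (nat_lit 1) (nat_lit 0x11001100110010) (.cD (nat_lit 4) (.kc (nat_lit 36) (nat_lit 0x5001001)) (.cD (nat_lit 16) (.kc (nat_lit 48) (nat_lit 0x3001001)) (.cD (nat_lit 20) (.kc (nat_lit 52) (nat_lit 0x7001001)) (.cD (nat_lit 32) (.dfs (nat_lit 9) (nat_lit 0x1004001003008) (nat_lit 0x1005001003008) (nat_lit 4098) (nat_lit 4098) (nat_lit 0) (nat_lit 0) (nat_lit 2) (nat_lit 1) (nat_lit 0) (nat_lit 8) (nat_lit 1) (nat_lit 0) (nat_lit 4100) (nat_lit 4) (nat_lit 0x1000008000018) (nat_lit 0x1000100) (.cD (nat_lit 8) (.kA false (nat_lit 0x7002004010001002002000007002004016002033003000004)) (.cD (nat_lit 24) (.kA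 false (nat_lit 0x3002004010001002002000003002004016002033003000004)) .nil))) (.cD (nat_lit 36) (.kA true (nat_lit 0x3100100000400100300d001031001000003)) (.cD (nat_lit 48) (.kA true (nat_lit 0x600800401000400400100300d001031001000003)) (.cD (nat_lit 52) (.kA true (nat_lit 0x5004003008001008004002005007031001000003)) .nil)))))))) (.cD (nat_lit 20) (.dfs (nat_lit 32) (nat_lit 4100) (nat_lit 4100) (nat_lit 0x1002001) (nat_lit 0x1002001) (nat_lit 0) (nat_lit 0) (nat_lit 3) (nat_lit 0) (nat_lit 0) (nat_lit 0) (nat_lit 1) (nat_lit 0) (nat_lit 1) (nat_lit 0) (nat_lit 1) (nat_lit 0x11001100110010) (.cD (nat_lit 4) (.kc (nat_lit 36) (nat_lit 0x5001001)) (.cD (nat_lit 16) (.kc (nat_lit 52) (nat_lit 0x7001001)) (.cD (nat_lit 20) (.kc (nat_lit 48) (nat_lit 0x3001001)) (.cD (nat_lit 32) (.kA true (nat_lit 0x5004003008001008004002005007031001000003)) (.cD (nat_lit 36) (.dfs (nat_lit 9) (nat_lit 4102) (nat_lit 4103) (nat_lit 1) (nat_lit 1) (nat_lit 0) (nat_lit 0) (nat_lit 1) (nat_lit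 4112) (nat_lit 0x40020010008004002031) (nat_lit 0) (nat_lit 1) (nat_lit 0) (nat_lit 1) (nat_lit 0) (nat_lit 1) (nat_lit 0) .nil) (.cD (nat_lit 48) (.kA true (nat_lit 0x400300500800100400100300c001002)) (.cD (nat_lit 52) (.kA true (nat_lit 0x400700100800100400100300c001002)) .nil)))))))) (.cD (nat_lit 32) (.kF (nat_lit 16) (nat_lit 0x100400100c012004002002000003)) (.cD (nat_lit 36) (.kF (nat_lit 16) (nat_lit 0x100400100c012004002002000003)) (.cD (nat_lit 48) (.dfs (nat_lit 32) (nat_lit 4100) (nat_lit 4100) (nat_lit 0x1002001) (nat_lit 0x1002001) (nat_lit 0) (nat_lit 0) (nat_lit 3) (nat_lit 0) (nat_lit 0) (nat_lit 0) (nat_lit 1) (nat_lit 0) (nat_lit 1) (nat_lit 0) (nat_lit 1) (nat_lit 0x11001100110010) (.cD (nat_lit 4) (.kc (nat_lit 36) (nat_lit 0x5001001)) (.cD (nat_lit 16) (.kA true (nat_lit 0x400200100800100400100300c001002)) (.cD (nat_lit 20) (.kA true (nat_lit 0x400600500800100400100300c001002)) (.cD (nat_lit 32) (.kA true (nat_lit 0x5004003008001008004002005007031001000003))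 (.cD (nat_lit 36) (.kA true (nat_lit 0x400500600800100400100300c001002)) (.cD (nat_lit 48) (.kc (nat_lit 48) (nat_lit 0x3001001)) (.cD (nat_lit 52) (.kc (nat_lit 52) (nat_lit 0x7001001)) .nil)))))))) (.cD (nat_lit 52) (.dfs (nat_lit 32) (nat_lit 4100) (nat_lit 4100) (nat_lit 0x1002001) (nat_lit 0x1002001) (nat_lit 0) (nat_lit 0) (nat_lit 3) (nat_lit 0) (nat_lit 0) (nat_lit 0) (nat_lit 1) (nat_lit 0) (nat_lit 1) (nat_lit 0) (nat_lit 1) (nat_lit 0x11001100110010) (.cD (nat_lit 4) (.kc (nat_lit 36) (nat_lit 0x5001001)) (.cD (nat_lit 16) (.kA true (nat_lit 0x400200500800100400100300c001002)) (.cD (nat_lit 20) (.kA true (nat_lit 0x400600100800100400100300c001002)) (.cD (nat_lit 32) (.kA true (nat_lit 0x5004003008001008004002005007031001000003)) (.cD (nat_lit 36) (.kA true (nat_lit 0x400500200800100400100300c001002)) (.cD (nat_lit 48) (.kc (nat_lit 52) (nat_lit 0x7001001)) (.cD (nat_lit 52) (.kc (nat_lit 48) (nat_lit 0x3001001)) .nil)))))))) .nil)))))))) (.cD (nat_lit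 8) (.dfs (nat_lit 16) (nat_lit 4098) (nat_lit 4098) (nat_lit 4097) (nat_lit 4097) (nat_lit 0) (nat_lit 0) (nat_lit 3) (nat_lit 0) (nat_lit 0) (nat_lit 0) (nat_lit 1) (nat_lit 0) (nat_lit 1) (nat_lit 0) (nat_lit 1) (nat_lit 0x101010101010100) (.cD (nat_lit 8) (.kc (nat_lit 20) (nat_lit 0x3001001)) (.cD (nat_lit 16) (.dfs (nat_lit 32) (nat_lit 4100) (nat_lit 4100) (nat_lit 0x1002001) (nat_lit 0x1002001) (nat_lit 0) (nat_lit 0) (nat_lit 3) (nat_lit 0) (nat_lit 0) (nat_lit 0) (nat_lit 1) (nat_lit 0) (nat_lit 1) (nat_lit 0) (nat_lit 1) (nat_lit 0x101010101010100) (.cD (nat_lit 8) (.kc (nat_lit 36) (nat_lit 0x5001001)) (.cD (nat_lit 16) (.kc (nat_lit 48) (nat_lit 0x3001001)) (.cD (nat_lit 24) (.kc (nat_lit 52) (nat_lit 0x7001001)) (.cD (nat_lit 32) (.kA false (nat_lit 0x300400200c00200e004008014005031001000003)) (.cD (nat_lit 40) (.kA false (nat_lit 0x3100100000300500200d002031001000003)) (.cD (nat_lit 48) (.kA false (nat_lit 0x200800c01000400500300200b002031001000003))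 (.cD (nat_lit 56) (.kA false (nat_lit 0x500400200c00200e004008014005031001000003)) .nil)))))))) (.cD (nat_lit 24) (.dfs (nat_lit 32) (nat_lit 4100) (nat_lit 4100) (nat_lit 0x1002001) (nat_lit 0x1002001) (nat_lit 0) (nat_lit 0) (nat_lit 3) (nat_lit 0) (nat_lit 0) (nat_lit 0) (nat_lit 1) (nat_lit 0) (nat_lit 1) (nat_lit 0) (nat_lit 1) (nat_lit 0x101010101010100) (.cD (nat_lit 8) (.kc (nat_lit 36) (nat_lit 0x5001001)) (.cD (nat_lit 16) (.kc (nat_lit 52) (nat_lit 0x7001001)) (.cD (nat_lit 24) (.kc (nat_lit 48) (nat_lit 0x3001001)) (.cD (nat_lit 32) (.kA false (nat_lit 0x700400600c00200e004008014005031001000003)) (.cD (nat_lit 40) (.kA false (nat_lit 0x3100100000700500600d002031001000003)) (.cD (nat_lit 48) (.kA false (nat_lit 0x100400600c00200e004008014005031001000003)) (.cD (nat_lit 56) (.kA false (nat_lit 0x400800a01000400100300600b002031001000003)) .nil)))))))) (.cD (nat_lit 32) (.kF (nat_lit 16) (nat_lit 0x100400100c012004002002000003)) (.cD (nat_lit 40) (.kF (nat_lit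 16) (nat_lit 0x100400100c012004002002000003)) (.cD (nat_lit 48) (.kF (nat_lit 16) (nat_lit 0x3100100000e014006001006001003)) (.cD (nat_lit 56) (.kF (nat_lit 16) (nat_lit 0x3100100000a014006001006001003)) .nil)))))))) (.cD (nat_lit 16) (.kF (nat_lit 4) (nat_lit 0x2002000001003001002)) (.cD (nat_lit 20) (.kF (nat_lit 4) (nat_lit 0xe01e003001003001002)) (.cD (nat_lit 24) (.kF (nat_lit 4) (nat_lit 0x1002001002012004002002000003)) (.cD (nat_lit 32) (.dfs (nat_lit 16) (nat_lit 4098) (nat_lit 4098) (nat_lit 4097) (nat_lit 4097) (nat_lit 0) (nat_lit 0) (nat_lit 3) (nat_lit 0) (nat_lit 0) (nat_lit 0) (nat_lit 1) (nat_lit 0) (nat_lit 0x1008004) (nat_lit 32772) (nat_lit 0x1001004000008001014000018) (nat_lit 0x1000101110110) (.cD (nat_lit 4) (.kF (nat_lit 16) (nat_lit 0x31001000001006001002)) (.cD (nat_lit 8) (.kF (nat_lit 16) (nat_lit 0x100400100c012004002002000003)) (.cD (nat_lit 16) (.dfs (nat_lit 32) (nat_lit 4100) (nat_lit 4100) (nat_lit 0x1002001) (nat_lit 0x1002001)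 (nat_lit 0) (nat_lit 0) (nat_lit 3) (nat_lit 0) (nat_lit 0) (nat_lit 0) (nat_lit 1) (nat_lit 0) (nat_lit 0x1008004) (nat_lit 32772) (nat_lit 0x1001004000008001014000018) (nat_lit 0x1000101110110) (.cD (nat_lit 4) (.kA true (nat_lit 0x100400600c002031001000002)) (.cD (nat_lit 8) (.kA false (nat_lit 0x700400200c002031001000002)) (.cD (nat_lit 16) (.kc (nat_lit 48) (nat_lit 0x3001001)) (.cD (nat_lit 20) (.kA true (nat_lit 0x300400600c002031001000002)) (.cD (nat_lit 24) (.kA false (nat_lit 0x500400200c002031001000002)) (.cD (nat_lit 32) (.kc (nat_lit 36) (nat_lit 0x5001001)) (.cD (nat_lit 48) (.kc (nat_lit 52) (nat_lit 0x7001001)) .nil)))))))) (.cD (nat_lit 20) (.dfs (nat_lit 32) (nat_lit 4100) (nat_lit 4100) (nat_lit 0x1002001) (nat_lit 0x1002001) (nat_lit 0) (nat_lit 0) (nat_lit 3) (nat_lit 0) (nat_lit 0) (nat_lit 0) (nat_lit 1) (nat_lit 0) (nat_lit 1) (nat_lit 0) (nat_lit 1) (nat_lit 0x11001100110010) (.cD (nat_lit 4) (.kA true (nat_lit 0x100400700c002031001000002))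 (.cD (nat_lit 16) (.kA true (nat_lit 0x300400500c002031001000002)) (.cD (nat_lit 20) (.kc (nat_lit 48) (nat_lit 0x3001001)) (.cD (nat_lit 32) (.kc (nat_lit 36) (nat_lit 0x5001001)) (.cD (nat_lit 36) (.dfs (nat_lit 9) (nat_lit 4100) (nat_lit 4101) (nat_lit 1) (nat_lit 1) (nat_lit 0) (nat_lit 0) (nat_lit 1) (nat_lit 4128) (nat_lit 0x40020010008004002031) (nat_lit 0) (nat_lit 1) (nat_lit 0) (nat_lit 1) (nat_lit 0) (nat_lit 1) (nat_lit 0) .nil) (.cD (nat_lit 48) (.kA true (nat_lit 0x700400100c002031001000002)) (.cD (nat_lit 52) (.kc (nat_lit 52) (nat_lit 0x7001001)) .nil)))))))) (.cD (nat_lit 24) (.kF (nat_lit 16) (nat_lit 0x31001000001006001002)) (.cD (nat_lit 32) (.kc (nat_lit 20) (nat_lit 0x3001001)) (.cD (nat_lit 48) (.dfs (nat_lit 32) (nat_lit 4100) (nat_lit 4100) (nat_lit 0x1002001) (nat_lit 0x1002001) (nat_lit 0) (nat_lit 0) (nat_lit 3) (nat_lit 0) (nat_lit 0) (nat_lit 0) (nat_lit 1) (nat_lit 0) (nat_lit 0x1008004) (nat_lit 32772) (nat_lit 0x1001004000008001014000018)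 (nat_lit 0x1000101110110) (.cD (nat_lit 4) (.kA true (nat_lit 0x100400200c002031001000002)) (.cD (nat_lit 8) (.kA false (nat_lit 0x300400600c002031001000002)) (.cD (nat_lit 16) (.kc (nat_lit 52) (nat_lit 0x7001001)) (.cD (nat_lit 20) (.kA true (nat_lit 0x700400200c002031001000002)) (.cD (nat_lit 24) (.kA false (nat_lit 0x500400600c002031001000002)) (.cD (nat_lit 32) (.kc (nat_lit 36) (nat_lit 0x5001001)) (.cD (nat_lit 48) (.kc (nat_lit 48) (nat_lit 0x3001001)) .nil)))))))) .nil)))))))) (.cD (nat_lit 48) (.kF (nat_lit 4) (nat_lit 0x1002001002012004002002000003)) .nil))))))))))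
theorem c167 : (chk [] [] p167).n x94 s167 = true := by decide +kernel
noncomputable def p168 : Pf := (.anc (nat_lit 72) (nat_lit 0x31001000014004002) (nat_lit 0x1003020010008) (.czp (nat_lit 64) (nat_lit 0) (nat_lit 0x1040020010008004) z6 (.dfs (nat_lit 8) (nat_lit 4097) (nat_lit 4097) (nat_lit 1) (nat_lit 1) (nat_lit 0) (nat_lit 0) (nat_lit 3) (nat_lit 0) (nat_lit 0) (nat_lit 0) (nat_lit 1) (nat_lit 0) (nat_lit 0x1008004) (nat_lit 32772) (nat_lit 0x1001004000008001014000018) (nat_lit 0x1000101110110) (.cD (nat_lit 4) (.dfs (nat_lit 16) (nat_lit 4098) (nat_lit 4098) (nat_lit 4097) (nat_lit 4097) (nat_lit 0) (nat_lit 0) (nat_lit 3) (nat_lit 0) (nat_lit 0) (nat_lit 0) (nat_lit 1) (nat_lit 0) (nat_lit 1) (nat_lit 0) (nat_lit 1) (nat_lit 0x11001100110010) (.cD (nat_lit 4) (.kc (nat_lit 24) (nat_lit 0x3001001)) (.cD (nat_lit 16) (.dfs (nat_lit 32) (nat_lit 4100) (nat_lit 4100) (nat_lit 0x1002001) (nat_lit 0x1002001) (nat_lit 0) (nat_lit 0) (nat_lit 3) (nat_lit 0) (nat_lit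 0) (nat_lit 0) (nat_lit 1) (nat_lit 0) (nat_lit 1) (nat_lit 0) (nat_lit 1) (nat_lit 0x11001100110010) (.cD (nat_lit 4) (.kc (nat_lit 40) (nat_lit 0x5001001)) (.cD (nat_lit 16) (.kc (nat_lit 48) (nat_lit 0x3001001)) (.cD (nat_lit 20) (.kc (nat_lit 56) (nat_lit 0x7001001)) (.cD (nat_lit 32) (.kA false (nat_lit 0x300400200800100e004008014005031001000003)) (.cD (nat_lit 36) (.kA false (nat_lit 0x3100100000700100200d001031001000003)) (.cD (nat_lit 48) (.kA false (nat_lit 0x200800c01000400700100200d001031001000003)) (.cD (nat_lit 52) (.kA false (nat_lit 0x300400200800100e004008014005031001000003)) .nil)))))))) (.cD (nat_lit 20) (.dfs (nat_lit 32) (nat_lit 4100) (nat_lit 4100) (nat_lit 0x1002001) (nat_lit 0x1002001) (nat_lit 0) (nat_lit 0) (nat_lit 3) (nat_lit 0) (nat_lit 0) (nat_lit 0) (nat_lit 1) (nat_lit 0) (nat_lit 1) (nat_lit 0) (nat_lit 1) (nat_lit 0x11001100110010) (.cD (nat_lit 4) (.kc (nat_lit 40) (nat_lit 0x5001001)) (.cD (nat_lit 16) (.kc (nat_lit 56) (nat_lit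 0x7001001)) (.cD (nat_lit 20) (.kc (nat_lit 48) (nat_lit 0x3001001)) (.cD (nat_lit 32) (.kA false (nat_lit 0x300400200800100e004008014005031001000003)) (.cD (nat_lit 36) (.kA false (nat_lit 0x3100100000700100200d001031001000003)) (.cD (nat_lit 48) (.kA false (nat_lit 0x400800a01000400700100200d001031001000003)) (.cD (nat_lit 52) (.kA false (nat_lit 0x300400200800100e004008014005031001000003)) .nil)))))))) (.cD (nat_lit 32) (.kF (nat_lit 16) (nat_lit 0x4010004002002000001006001003)) (.cD (nat_lit 36) (.kF (nat_lit 16) (nat_lit 0x31001000001007001002002000003)) (.cD (nat_lit 48) (.dfs (nat_lit 32) (nat_lit 4100) (nat_lit 4100) (nat_lit 0x1002001) (nat_lit 0x1002001) (nat_lit 0) (nat_lit 0) (nat_lit 3) (nat_lit 0) (nat_lit 0) (nat_lit 0) (nat_lit 1) (nat_lit 0) (nat_lit 1) (nat_lit 0) (nat_lit 1) (nat_lit 0x11001100110010) (.cD (nat_lit 4) (.kc (nat_lit 40) (nat_lit 0x5001001)) (.cD (nat_lit 16) (.kA false (nat_lit 0x600c00801e00300700100200d001031001000003)) (.cD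 (nat_lit 20) (.kA false (nat_lit 0x200200000700100200d001031001000003)) (.cD (nat_lit 32) (.kA false (nat_lit 0x300400200800100e004008014005031001000003)) (.cD (nat_lit 36) (.kA false (nat_lit 0x3100100000700100200d001031001000003)) (.cD (nat_lit 48) (.kc (nat_lit 48) (nat_lit 0x3001001)) (.cD (nat_lit 52) (.kc (nat_lit 56) (nat_lit 0x7001001)) .nil)))))))) (.cD (nat_lit 52) (.dfs (nat_lit 32) (nat_lit 4100) (nat_lit 4100) (nat_lit 0x1002001) (nat_lit 0x1002001) (nat_lit 0) (nat_lit 0) (nat_lit 3) (nat_lit 0) (nat_lit 0) (nat_lit 0) (nat_lit 1) (nat_lit 0) (nat_lit 1) (nat_lit 0) (nat_lit 1) (nat_lit 0x11001100110010) (.cD (nat_lit 4) (.kc (nat_lit 40) (nat_lit 0x5001001)) (.cD (nat_lit 16) (.kA false (nat_lit 0x400c00a01e00300700100200d001031001000003)) (.cD (nat_lit 20) (.kA false (nat_lit 0x200200000700100200d001031001000003)) (.cD (nat_lit 32) (.kA false (nat_lit 0x300400200800100e004008014005031001000003)) (.cD (nat_lit 36) (.kA false (nat_lit 0x3100100000700100200d001031001000003))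 (.cD (nat_lit 48) (.kc (nat_lit 56) (nat_lit 0x7001001)) (.cD (nat_lit 52) (.kc (nat_lit 48) (nat_lit 0x3001001)) .nil)))))))) .nil)))))))) (.cD (nat_lit 8) (.dfs (nat_lit 16) (nat_lit 4098) (nat_lit 4098) (nat_lit 4097) (nat_lit 4097) (nat_lit 0) (nat_lit 0) (nat_lit 3) (nat_lit 0) (nat_lit 0) (nat_lit 0) (nat_lit 1) (nat_lit 0) (nat_lit 1) (nat_lit 0) (nat_lit 1) (nat_lit 0x101010101010100) (.cD (nat_lit 8) (.kc (nat_lit 24) (nat_lit 0x3001001)) (.cD (nat_lit 16) (.dfs (nat_lit 32) (nat_lit 4100) (nat_lit 4100) (nat_lit 0x1002001) (nat_lit 0x1002001) (nat_lit 0) (nat_lit 0) (nat_lit 3) (nat_lit 0) (nat_lit 0) (nat_lit 0) (nat_lit 1) (nat_lit 0) (nat_lit 1) (nat_lit 0) (nat_lit 1) (nat_lit 0x101010101010100) (.cD (nat_lit 8) (.kc (nat_lit 40) (nat_lit 0x5001001)) (.cD (nat_lit 16) (.kc (nat_lit 48) (nat_lit 0x3001001)) (.cD (nat_lit 24) (.kc (nat_lit 56) (nat_lit 0x7001001)) (.cD (nat_lit 32) (.kA false (nat_lit 0x300400200800100e004008014005031001000003)) (.cD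 (nat_lit 40) (.kA false (nat_lit 0x3100100000700100200d001031001000003)) (.cD (nat_lit 48) (.dfs (nat_lit 3) (nat_lit 0x1004003002008) (nat_lit 0x1007003002008) (nat_lit 4097) (nat_lit 4097) (nat_lit 3) (nat_lit 0) (nat_lit 2) (nat_lit 0) (nat_lit 0) (nat_lit 4) (nat_lit 1) (nat_lit 0) (nat_lit 4104) (nat_lit 8) (nat_lit 0x100004c00005c) (nat_lit 0x100010000000000000000000) (.cD (nat_lit 76) (.kb (nat_lit 43) (nat_lit 0x1000400b001002) (nat_lit 0x1020010048004002009)) (.cD (nat_lit 92) (.kb (nat_lit 59) (nat_lit 0x1000400f001002) (nat_lit 0x1020010048004002009)) .nil))) (.cD (nat_lit 56) (.dfs (nat_lit 3) (nat_lit 4101) (nat_lit 4102) (nat_lit 1) (nat_lit 1) (nat_lit 3) (nat_lit 0) (nat_lit 1) (nat_lit 4144) (nat_lit 0x40020010008004002031) (nat_lit 0) (nat_lit 1) (nat_lit 0) (nat_lit 1) (nat_lit 0) (nat_lit 1) (nat_lit 0) .nil) .nil)))))))) (.cD (nat_lit 24) (.dfs (nat_lit 32) (nat_lit 4100) (nat_lit 4100) (nat_lit 0x1002001) (nat_lit 0x1002001) (nat_lit 0) (nat_lit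 0) (nat_lit 3) (nat_lit 0) (nat_lit 0) (nat_lit 0) (nat_lit 1) (nat_lit 0) (nat_lit 1) (nat_lit 0) (nat_lit 1) (nat_lit 0x101010101010100) (.cD (nat_lit 8) (.kc (nat_lit 40) (nat_lit 0x5001001)) (.cD (nat_lit 16) (.kc (nat_lit 56) (nat_lit 0x7001001)) (.cD (nat_lit 24) (.kc (nat_lit 48) (nat_lit 0x3001001)) (.cD (nat_lit 32) (.kA false (nat_lit 0x300400200800100e004008014005031001000003)) (.cD (nat_lit 40) (.kA false (nat_lit 0x3100100000700100200d001031001000003)) (.cD (nat_lit 48) (.kA false (nat_lit 0x300400200800100e004008014005031001000003)) (.cD (nat_lit 56) (.kA false (nat_lit 0x300400200800100e004008014005031001000003)) .nil)))))))) (.cD (nat_lit 32) (.kF (nat_lit 8) (nat_lit 0x3006002004004000002007001002002000004)) (.cD (nat_lit 40) (.kF (nat_lit 8) (nat_lit 0x31001000002007001002002000003)) (.cD (nat_lit 48) (.kF (nat_lit 16) (nat_lit 0x3100100000e014006001006001003)) (.cD (nat_lit 56) (.kF (nat_lit 16) (nat_lit 0x3100100000a014006001006001003)) .nil))))))))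 (.cD (nat_lit 16) (.kF (nat_lit 8) (nat_lit 0x2002000001003001002)) (.cD (nat_lit 20) (.kF (nat_lit 8) (nat_lit 0xe01e003001003001002)) (.cD (nat_lit 24) (.kF (nat_lit 8) (nat_lit 0x31001000002014006031001000001003001004)) (.cD (nat_lit 32) (.dfs (nat_lit 16) (nat_lit 4098) (nat_lit 4098) (nat_lit 4097) (nat_lit 4097) (nat_lit 0) (nat_lit 0) (nat_lit 3) (nat_lit 0) (nat_lit 0) (nat_lit 0) (nat_lit 1) (nat_lit 0) (nat_lit 0x1008004) (nat_lit 32772) (nat_lit 0x1001004000008001014000018) (nat_lit 0x1000101110110) (.cD (nat_lit 4) (.kF (nat_lit 16) (nat_lit 0x31001000001006001002)) (.cD (nat_lit 8) (.kF (nat_lit 8) (nat_lit 0x31001000004016005002007001002002000004)) (.cD (nat_lit 16) (.dfs (nat_lit 32) (nat_lit 4100) (nat_lit 4100) (nat_lit 0x1002001) (nat_lit 0x1002001) (nat_lit 0) (nat_lit 0) (nat_lit 3) (nat_lit 0) (nat_lit 0) (nat_lit 0) (nat_lit 1) (nat_lit 0) (nat_lit 0x1008004) (nat_lit 32772) (nat_lit 0x1001004000008001014000018) (nat_lit 0x1000101110110) (.cD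 (nat_lit 4) (.kA false (nat_lit 0x3100100000400100200c001002)) (.cD (nat_lit 8) (.kA false (nat_lit 0x700400200c002031001000002)) (.cD (nat_lit 16) (.kc (nat_lit 48) (nat_lit 0x3001001)) (.cD (nat_lit 20) (.kA false (nat_lit 0x3100100000400100200c001002)) (.cD (nat_lit 24) (.dfs (nat_lit 3) (nat_lit 4100) (nat_lit 4103) (nat_lit 1) (nat_lit 1) (nat_lit 3) (nat_lit 0) (nat_lit 1) (nat_lit 4128) (nat_lit 0x40020010008004002031) (nat_lit 0) (nat_lit 1) (nat_lit 0) (nat_lit 1) (nat_lit 0) (nat_lit 1) (nat_lit 0) .nil) (.cD (nat_lit 32) (.kc (nat_lit 40) (nat_lit 0x5001001)) (.cD (nat_lit 48) (.kc (nat_lit 56) (nat_lit 0x7001001)) .nil)))))))) (.cD (nat_lit 20) (.dfs (nat_lit 32) (nat_lit 4100) (nat_lit 4100) (nat_lit 0x1002001) (nat_lit 0x1002001) (nat_lit 0) (nat_lit 0) (nat_lit 3) (nat_lit 0) (nat_lit 0) (nat_lit 0) (nat_lit 1) (nat_lit 0) (nat_lit 1) (nat_lit 0) (nat_lit 1) (nat_lit 0x11001100110010) (.cD (nat_lit 4) (.kA false (nat_lit 0x3100100000400100200c001002))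 (.cD (nat_lit 16) (.kA false (nat_lit 0x3100100000400100200c001002)) (.cD (nat_lit 20) (.kc (nat_lit 48) (nat_lit 0x3001001)) (.cD (nat_lit 32) (.kc (nat_lit 40) (nat_lit 0x5001001)) (.cD (nat_lit 36) (.kA false (nat_lit 0x3100100000400100200c001002)) (.cD (nat_lit 48) (.kA false (nat_lit 0x3100100000400100200c001002)) (.cD (nat_lit 52) (.kc (nat_lit 56) (nat_lit 0x7001001)) .nil)))))))) (.cD (nat_lit 24) (.kF (nat_lit 16) (nat_lit 0x31001000001006001002)) (.cD (nat_lit 32) (.kc (nat_lit 24) (nat_lit 0x3001001)) (.cD (nat_lit 48) (.dfs (nat_lit 32) (nat_lit 4100) (nat_lit 4100) (nat_lit 0x1002001) (nat_lit 0x1002001) (nat_lit 0) (nat_lit 0) (nat_lit 3) (nat_lit 0) (nat_lit 0) (nat_lit 0) (nat_lit 1) (nat_lit 0) (nat_lit 0x1008004) (nat_lit 32772) (nat_lit 0x1001004000008001014000018) (nat_lit 0x1000101110110) (.cD (nat_lit 4) (.kA false (nat_lit 0x3100100000400100200c001002)) (.cD (nat_lit 8) (.kA false (nat_lit 0x300400600c002031001000002)) (.cD (nat_lit 16) (.kc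 (nat_lit 56) (nat_lit 0x7001001)) (.cD (nat_lit 20) (.kA false (nat_lit 0x3100100000400100200c001002)) (.cD (nat_lit 24) (.kA false (nat_lit 0x500400600c002031001000002)) (.cD (nat_lit 32) (.kc (nat_lit 40) (nat_lit 0x5001001)) (.cD (nat_lit 48) (.kc (nat_lit 48) (nat_lit 0x3001001)) .nil)))))))) .nil)))))))) (.cD (nat_lit 48) (.kF (nat_lit 8) (nat_lit 0x33003000001003001002)) .nil))))))))))
theorem c168 : (chk [] [] p168).n x95 s168 = true := by decide +kernel
noncomputable def p169 : Pf := (.lft (nat_lit 0x20008018001004002003001) (nat_lit 0) (nat_lit 0x1028020) (nat_lit 0x20010008004002001) (.extn a22 (nat_lit 0x20010008004002001) (nat_lit 0x1004010008020) (nat_lit 2) (nat_lit 0) (nat_lit 0) (nat_lit 0) (nat_lit 0x1010101) (.cE (nat_lit 0) b65 (nat_lit 0) (.cut (nat_lit 0)) (.cut (nat_lit 1)) (.cE (nat_lit 8) b66 (nat_lit 0) (.cut (nat_lit 2)) (.cut (nat_lit 3)) (.cE (nat_lit 16) b67 (nat_lit 0) (.cut (nat_lit 4)) (.cut (nat_lit 5)) (.cE (nat_lit 24) b68 t68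 (.cut (nat_lit 6)) (.cut (nat_lit 7)) .nil))))))
theorem c169 : (chk [(x88, s161), (x89, s162), (x90, s163), (x91, s164), (x92, s165), (x93, s166), (x94, s167), (x95, s168)] [] p169).n x87 s169 = true := by decide +kernel
noncomputable def p170 : Pf := (.ext (nat_lit 1) (nat_lit 0) (nat_lit 0x1020018010002) (nat_lit 0x700200c008005001001000001002004008005003) (nat_lit 0x300200400f) (nat_lit 4101) (nat_lit 4101) (nat_lit 0xe004002001) (.dfs (nat_lit 5) (nat_lit 0x100300200400f) (nat_lit 0x1003002004009) (nat_lit 0x1008001) (nat_lit 0x100e001) (nat_lit 0) (nat_lit 0) (nat_lit 2) (nat_lit 1) (nat_lit 0) (nat_lit 5) (nat_lit 1) (nat_lit 0) (nat_lit 4128) (nat_lit 32) (nat_lit 0x1000005000007000015000017) (nat_lit 0xa000a0) (.cD (nat_lit 5) (.kS (nat_lit 1) (nat_lit 0x4008010020003001) (nat_lit 4125) (nat_lit 0x8004002007) (nat_lit 0x600400801a001001002004008010001001004008010020003004003)) (.cD (nat_lit 7) (.cut (nat_lit 1)) (.cD (nat_lit 21) (.kS (nat_lit 1) (nat_lit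 0x4008010020003001) (nat_lit 4125) (nat_lit 0x8004002007) (nat_lit 0x600400801a005001002004008010001001004008010020003004003)) (.cD (nat_lit 23) (.cut (nat_lit 0)) .nil))))))
theorem c170 : (chk [(x87, s160), (x87, s169)] [] p170).n x87 s170 = true := by decide +kernel
noncomputable def p171 : Pf := (.anc (nat_lit 68) (nat_lit 0x10002002002000002) (nat_lit 0x1009020010004) (.czp (nat_lit 64) (nat_lit 0) (nat_lit 0x1040020010008004) z6 (.dfs (nat_lit 4) (nat_lit 4097) (nat_lit 4097) (nat_lit 1) (nat_lit 1) (nat_lit 0) (nat_lit 0) (nat_lit 3) (nat_lit 0) (nat_lit 0) (nat_lit 0) (nat_lit 1) (nat_lit 0) (nat_lit 0x1008004) (nat_lit 32772) (nat_lit 0x1001004000008001014000018) (nat_lit 0x1000101110110) (.cD (nat_lit 4) (.dfs (nat_lit 16) (nat_lit 4098) (nat_lit 4098) (nat_lit 4097) (nat_lit 4097) (nat_lit 0) (nat_lit 0) (nat_lit 3) (nat_lit 0) (nat_lit 0) (nat_lit 0) (nat_lit 1) (nat_lit 0) (nat_lit 1) (nat_lit 0) (nat_lit 1) (nat_lit 0x11001100110010) (.cD (nat_lit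 4) (.kc (nat_lit 20) (nat_lit 0x3001001)) (.cD (nat_lit 16) (.dfs (nat_lit 32) (nat_lit 4100) (nat_lit 4100) (nat_lit 0x1002001) (nat_lit 0x1002001) (nat_lit 0) (nat_lit 0) (nat_lit 3) (nat_lit 0) (nat_lit 0) (nat_lit 0) (nat_lit 1) (nat_lit 0) (nat_lit 1) (nat_lit 0) (nat_lit 1) (nat_lit 0x11001100110010) (.cD (nat_lit 4) (.kc (nat_lit 36) (nat_lit 0x5001001)) (.cD (nat_lit 16) (.kc (nat_lit 48) (nat_lit 0x3001001)) (.cD (nat_lit 20) (.kc (nat_lit 52) (nat_lit 0x7001001)) (.cD (nat_lit 32) (.dfs (nat_lit 9) (nat_lit 0x1004001003008) (nat_lit 0x1005001003008) (nat_lit 4098) (nat_lit 4098) (nat_lit 2) (nat_lit 0) (nat_lit 2) (nat_lit 1) (nat_lit 0) (nat_lit 8) (nat_lit 1) (nat_lit 0) (nat_lit 1) (nat_lit 0) (nat_lit 1) (nat_lit 0) .nil) (.cD (nat_lit 36) (.kA true (nat_lit 0x100100000400100300d001001001000003)) (.cD (nat_lit 48) (.kA true (nat_lit 0x600800401000400400100300d001001001000003)) (.cD (nat_lit 52) (.kA true (nat_lit 0x5004003008001008004002005007001001000003))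 .nil)))))))) (.cD (nat_lit 20) (.dfs (nat_lit 32) (nat_lit 4100) (nat_lit 4100) (nat_lit 0x1002001) (nat_lit 0x1002001) (nat_lit 0) (nat_lit 0) (nat_lit 3) (nat_lit 0) (nat_lit 0) (nat_lit 0) (nat_lit 1) (nat_lit 0) (nat_lit 1) (nat_lit 0) (nat_lit 1) (nat_lit 0x11001100110010) (.cD (nat_lit 4) (.kc (nat_lit 36) (nat_lit 0x5001001)) (.cD (nat_lit 16) (.kc (nat_lit 52) (nat_lit 0x7001001)) (.cD (nat_lit 20) (.kc (nat_lit 48) (nat_lit 0x3001001)) (.cD (nat_lit 32) (.kA true (nat_lit 0x5004003008001008004002005007001001000003)) (.cD (nat_lit 36) (.dfs (nat_lit 9) (nat_lit 4102) (nat_lit 4103) (nat_lit 1) (nat_lit 1) (nat_lit 2) (nat_lit 0) (nat_lit 1) (nat_lit 4112) (nat_lit 0x40020010008004002001) (nat_lit 0) (nat_lit 1) (nat_lit 0) (nat_lit 1) (nat_lit 0) (nat_lit 1) (nat_lit 0) .nil) (.cD (nat_lit 48) (.kA true (nat_lit 0x400300500800100400100300c001002)) (.cD (nat_lit 52) (.kA true (nat_lit 0x400700100800100400100300c001002)) .nil)))))))) (.cD (nat_lit 32) (.kF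 (nat_lit 16) (nat_lit 0x100400100c012004002002000003)) (.cD (nat_lit 36) (.kF (nat_lit 16) (nat_lit 0x100400100c012004002002000003)) (.cD (nat_lit 48) (.dfs (nat_lit 32) (nat_lit 4100) (nat_lit 4100) (nat_lit 0x1002001) (nat_lit 0x1002001) (nat_lit 0) (nat_lit 0) (nat_lit 3) (nat_lit 0) (nat_lit 0) (nat_lit 0) (nat_lit 1) (nat_lit 0) (nat_lit 1) (nat_lit 0) (nat_lit 1) (nat_lit 0x11001100110010) (.cD (nat_lit 4) (.kc (nat_lit 36) (nat_lit 0x5001001)) (.cD (nat_lit 16) (.kA true (nat_lit 0x400200100800100400100300c001002)) (.cD (nat_lit 20) (.kA true (nat_lit 0x400600500800100400100300c001002)) (.cD (nat_lit 32) (.kA true (nat_lit 0x5004003008001008004002005007001001000003)) (.cD (nat_lit 36) (.kA true (nat_lit 0x400500600800100400100300c001002)) (.cD (nat_lit 48) (.kc (nat_lit 48) (nat_lit 0x3001001)) (.cD (nat_lit 52) (.kc (nat_lit 52) (nat_lit 0x7001001)) .nil)))))))) (.cD (nat_lit 52) (.dfs (nat_lit 32) (nat_lit 4100) (nat_lit 4100) (nat_lit 0x1002001) (nat_lit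 0x1002001) (nat_lit 0) (nat_lit 0) (nat_lit 3) (nat_lit 0) (nat_lit 0) (nat_lit 0) (nat_lit 1) (nat_lit 0) (nat_lit 1) (nat_lit 0) (nat_lit 1) (nat_lit 0x11001100110010) (.cD (nat_lit 4) (.kc (nat_lit 36) (nat_lit 0x5001001)) (.cD (nat_lit 16) (.kA true (nat_lit 0x400200500800100400100300c001002)) (.cD (nat_lit 20) (.kA true (nat_lit 0x400600100800100400100300c001002)) (.cD (nat_lit 32) (.kA true (nat_lit 0x5004003008001008004002005007001001000003)) (.cD (nat_lit 36) (.kA true (nat_lit 0x400500200800100400100300c001002)) (.cD (nat_lit 48) (.kc (nat_lit 52) (nat_lit 0x7001001)) (.cD (nat_lit 52) (.kc (nat_lit 48) (nat_lit 0x3001001)) .nil)))))))) .nil)))))))) (.cD (nat_lit 8) (.dfs (nat_lit 16) (nat_lit 4098) (nat_lit 4098) (nat_lit 4097) (nat_lit 4097) (nat_lit 0) (nat_lit 0) (nat_lit 3) (nat_lit 0) (nat_lit 0) (nat_lit 0) (nat_lit 1) (nat_lit 0) (nat_lit 1) (nat_lit 0) (nat_lit 1) (nat_lit 0x101010101010100) (.cD (nat_lit 8) (.kc (nat_lit 20) (nat_lit 0x3001001))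 (.cD (nat_lit 16) (.dfs (nat_lit 32) (nat_lit 4100) (nat_lit 4100) (nat_lit 0x1002001) (nat_lit 0x1002001) (nat_lit 0) (nat_lit 0) (nat_lit 3) (nat_lit 0) (nat_lit 0) (nat_lit 0) (nat_lit 1) (nat_lit 0) (nat_lit 1) (nat_lit 0) (nat_lit 1) (nat_lit 0x101010101010100) (.cD (nat_lit 8) (.kc (nat_lit 36) (nat_lit 0x5001001)) (.cD (nat_lit 16) (.kc (nat_lit 48) (nat_lit 0x3001001)) (.cD (nat_lit 24) (.kc (nat_lit 52) (nat_lit 0x7001001)) (.cD (nat_lit 32) (.kA false (nat_lit 0x700400200c00200a004008014005001001000003)) (.cD (nat_lit 40) (.kA false (nat_lit 0x100100000600500200d002001001000003)) (.cD (nat_lit 48) (.kA false (nat_lit 0xa00800c01000400600300200b002001001000003)) (.cD (nat_lit 56) (.kA false (nat_lit 0x100400200c00200a004008014005001001000003)) .nil)))))))) (.cD (nat_lit 24) (.dfs (nat_lit 32) (nat_lit 4100) (nat_lit 4100) (nat_lit 0x1002001) (nat_lit 0x1002001) (nat_lit 0) (nat_lit 0) (nat_lit 3) (nat_lit 0) (nat_lit 0) (nat_lit 0) (nat_lit 1) (nat_lit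 0) (nat_lit 1) (nat_lit 0) (nat_lit 1) (nat_lit 0x101010101010100) (.cD (nat_lit 8) (.kc (nat_lit 36) (nat_lit 0x5001001)) (.cD (nat_lit 16) (.kc (nat_lit 52) (nat_lit 0x7001001)) (.cD (nat_lit 24) (.kc (nat_lit 48) (nat_lit 0x3001001)) (.cD (nat_lit 32) (.kA false (nat_lit 0x300400600c00200a004008014005001001000003)) (.cD (nat_lit 40) (.kA false (nat_lit 0x100100000200500600d002001001000003)) (.cD (nat_lit 48) (.kA false (nat_lit 0x500400600c00200a004008014005001001000003)) (.cD (nat_lit 56) (.kA false (nat_lit 0xc00800a01000400200300600b002001001000003)) .nil)))))))) (.cD (nat_lit 32) (.kF (nat_lit 16) (nat_lit 0x100400100c012004002002000003)) (.cD (nat_lit 40) (.kF (nat_lit 16) (nat_lit 0x100400100c012004002002000003)) (.cD (nat_lit 48) (.kF (nat_lit 16) (nat_lit 0x100100000e014006001006001003)) (.cD (nat_lit 56) (.kF (nat_lit 16) (nat_lit 0x100100000a014006001006001003)) .nil)))))))) (.cD (nat_lit 16) (.kF (nat_lit 4) (nat_lit 0x2002000001003001002)) (.cD (nat_lit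 20) (.kF (nat_lit 4) (nat_lit 0xe01e003001003001002)) (.cD (nat_lit 24) (.kF (nat_lit 4) (nat_lit 0x1002001002012004002002000003)) (.cD (nat_lit 32) (.dfs (nat_lit 16) (nat_lit 4098) (nat_lit 4098) (nat_lit 4097) (nat_lit 4097) (nat_lit 0) (nat_lit 0) (nat_lit 3) (nat_lit 0) (nat_lit 0) (nat_lit 0) (nat_lit 1) (nat_lit 0) (nat_lit 0x1008004) (nat_lit 32772) (nat_lit 0x1001004000008001014000018) (nat_lit 0x1000101110110) (.cD (nat_lit 4) (.kF (nat_lit 16) (nat_lit 0x1001000001006001002)) (.cD (nat_lit 8) (.kF (nat_lit 16) (nat_lit 0x100400100c012004002002000003)) (.cD (nat_lit 16) (.dfs (nat_lit 32) (nat_lit 4100) (nat_lit 4100) (nat_lit 0x1002001) (nat_lit 0x1002001) (nat_lit 0) (nat_lit 0) (nat_lit 3) (nat_lit 0) (nat_lit 0) (nat_lit 0) (nat_lit 1) (nat_lit 0) (nat_lit 0x1008004) (nat_lit 32772) (nat_lit 0x1001004000008001014000018) (nat_lit 0x1000101110110) (.cD (nat_lit 4) (.kA true (nat_lit 0x100400600c002001001000002)) (.cD (nat_lit 8) (.kA false (nat_lit 0x300400200c002001001000002))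 (.cD (nat_lit 16) (.kc (nat_lit 48) (nat_lit 0x3001001)) (.cD (nat_lit 20) (.kA true (nat_lit 0x300400600c002001001000002)) (.cD (nat_lit 24) (.kA false (nat_lit 0x100400200c002001001000002)) (.cD (nat_lit 32) (.kc (nat_lit 36) (nat_lit 0x5001001)) (.cD (nat_lit 48) (.kc (nat_lit 52) (nat_lit 0x7001001)) .nil)))))))) (.cD (nat_lit 20) (.dfs (nat_lit 32) (nat_lit 4100) (nat_lit 4100) (nat_lit 0x1002001) (nat_lit 0x1002001) (nat_lit 0) (nat_lit 0) (nat_lit 3) (nat_lit 0) (nat_lit 0) (nat_lit 0) (nat_lit 1) (nat_lit 0) (nat_lit 1) (nat_lit 0) (nat_lit 1) (nat_lit 0x11001100110010) (.cD (nat_lit 4) (.kA true (nat_lit 0x100400700c002001001000002)) (.cD (nat_lit 16) (.kA true (nat_lit 0x300400500c002001001000002)) (.cD (nat_lit 20) (.kc (nat_lit 48) (nat_lit 0x3001001)) (.cD (nat_lit 32) (.kc (nat_lit 36) (nat_lit 0x5001001)) (.cD (nat_lit 36) (.dfs (nat_lit 9) (nat_lit 4100) (nat_lit 4101) (nat_lit 1) (nat_lit 1) (nat_lit 2) (nat_lit 0) (nat_lit 1) (nat_lit 4128) (nat_lit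 0x40020010008004002001) (nat_lit 0) (nat_lit 1) (nat_lit 0) (nat_lit 1) (nat_lit 0) (nat_lit 1) (nat_lit 0) .nil) (.cD (nat_lit 48) (.kA true (nat_lit 0x700400100c002001001000002)) (.cD (nat_lit 52) (.kc (nat_lit 52) (nat_lit 0x7001001)) .nil)))))))) (.cD (nat_lit 24) (.kF (nat_lit 16) (nat_lit 0x1001000001006001002)) (.cD (nat_lit 32) (.kc (nat_lit 20) (nat_lit 0x3001001)) (.cD (nat_lit 48) (.dfs (nat_lit 32) (nat_lit 4100) (nat_lit 4100) (nat_lit 0x1002001) (nat_lit 0x1002001) (nat_lit 0) (nat_lit 0) (nat_lit 3) (nat_lit 0) (nat_lit 0) (nat_lit 0) (nat_lit 1) (nat_lit 0) (nat_lit 0x1008004) (nat_lit 32772) (nat_lit 0x1001004000008001014000018) (nat_lit 0x1000101110110) (.cD (nat_lit 4) (.kA true (nat_lit 0x100400200c002001001000002)) (.cD (nat_lit 8) (.kA false (nat_lit 0x700400600c002001001000002)) (.cD (nat_lit 16) (.kc (nat_lit 52) (nat_lit 0x7001001)) (.cD (nat_lit 20) (.kA true (nat_lit 0x700400200c002001001000002)) (.cD (nat_lit 24) (.kA false (nat_lit 0x100400600c002001001000002))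 (.cD (nat_lit 32) (.kc (nat_lit 36) (nat_lit 0x5001001)) (.cD (nat_lit 48) (.kc (nat_lit 48) (nat_lit 0x3001001)) .nil)))))))) .nil)))))))) (.cD (nat_lit 48) (.kF (nat_lit 4) (nat_lit 0x1002001002012004002002000003)) .nil))))))))))
theorem c171 : (chk [] [] p171).n x96 s171 = true := by decide +kernel
noncomputable def p172 : Pf := (.anc (nat_lit 68) (nat_lit 0x10002002002000002) (nat_lit 0x1009020010004) (.czp (nat_lit 64) (nat_lit 0) (nat_lit 0x1040020010008004) z6 (.dfs (nat_lit 4) (nat_lit 4097) (nat_lit 4097) (nat_lit 1) (nat_lit 1) (nat_lit 0) (nat_lit 0) (nat_lit 3) (nat_lit 0) (nat_lit 0) (nat_lit 0) (nat_lit 1) (nat_lit 0) (nat_lit 0x1008004) (nat_lit 32772) (nat_lit 0x1001004000008001014000018) (nat_lit 0x1000101110110) (.cD (nat_lit 4) (.dfs (nat_lit 16) (nat_lit 4098) (nat_lit 4098) (nat_lit 4097) (nat_lit 4097) (nat_lit 0) (nat_lit 0) (nat_lit 3) (nat_lit 0) (nat_lit 0) (nat_lit 0) (nat_lit 1) (nat_lit 0) (nat_lit 1) (nat_lit 0) (nat_lit 1) (nat_lit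 0x11001100110010) (.cD (nat_lit 4) (.kc (nat_lit 20) (nat_lit 0x3001001)) (.cD (nat_lit 16) (.dfs (nat_lit 32) (nat_lit 4100) (nat_lit 4100) (nat_lit 0x1002001) (nat_lit 0x1002001) (nat_lit 0) (nat_lit 0) (nat_lit 3) (nat_lit 0) (nat_lit 0) (nat_lit 0) (nat_lit 1) (nat_lit 0) (nat_lit 1) (nat_lit 0) (nat_lit 1) (nat_lit 0x11001100110010) (.cD (nat_lit 4) (.kc (nat_lit 36) (nat_lit 0x5001001)) (.cD (nat_lit 16) (.kc (nat_lit 48) (nat_lit 0x3001001)) (.cD (nat_lit 20) (.kc (nat_lit 52) (nat_lit 0x7001001)) (.cD (nat_lit 32) (.dfs (nat_lit 9) (nat_lit 0x1004001003008) (nat_lit 0x1005001003008) (nat_lit 4098) (nat_lit 4098) (nat_lit 2) (nat_lit 0) (nat_lit 2) (nat_lit 1) (nat_lit 0) (nat_lit 8) (nat_lit 1) (nat_lit 0) (nat_lit 1) (nat_lit 0) (nat_lit 1) (nat_lit 0) .nil) (.cD (nat_lit 36) (.kA true (nat_lit 0x100100000400100300d001001001000003)) (.cD (nat_lit 48) (.kA true (nat_lit 0x600800401000400400100300d001001001000003)) (.cD (nat_lit 52) (.kA true (nat_lit 0x5004003008001008004002005007001001000003))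 .nil)))))))) (.cD (nat_lit 20) (.dfs (nat_lit 32) (nat_lit 4100) (nat_lit 4100) (nat_lit 0x1002001) (nat_lit 0x1002001) (nat_lit 0) (nat_lit 0) (nat_lit 3) (nat_lit 0) (nat_lit 0) (nat_lit 0) (nat_lit 1) (nat_lit 0) (nat_lit 1) (nat_lit 0) (nat_lit 1) (nat_lit 0x11001100110010) (.cD (nat_lit 4) (.kc (nat_lit 36) (nat_lit 0x5001001)) (.cD (nat_lit 16) (.kc (nat_lit 52) (nat_lit 0x7001001)) (.cD (nat_lit 20) (.kc (nat_lit 48) (nat_lit 0x3001001)) (.cD (nat_lit 32) (.kA true (nat_lit 0x5004003008001008004002005007001001000003)) (.cD (nat_lit 36) (.dfs (nat_lit 9) (nat_lit 4102) (nat_lit 4103) (nat_lit 1) (nat_lit 1) (nat_lit 2) (nat_lit 0) (nat_lit 1) (nat_lit 4112) (nat_lit 0x40020010008004002001) (nat_lit 0) (nat_lit 1) (nat_lit 0) (nat_lit 1) (nat_lit 0) (nat_lit 1) (nat_lit 0) .nil) (.cD (nat_lit 48) (.kA true (nat_lit 0x400300500800100400100300c001002)) (.cD (nat_lit 52) (.kA true (nat_lit 0x400700100800100400100300c001002)) .nil)))))))) (.cD (nat_lit 32) (.kF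 (nat_lit 16) (nat_lit 0x100400100c012004002002000003)) (.cD (nat_lit 36) (.kF (nat_lit 16) (nat_lit 0x100400100c012004002002000003)) (.cD (nat_lit 48) (.dfs (nat_lit 32) (nat_lit 4100) (nat_lit 4100) (nat_lit 0x1002001) (nat_lit 0x1002001) (nat_lit 0) (nat_lit 0) (nat_lit 3) (nat_lit 0) (nat_lit 0) (nat_lit 0) (nat_lit 1) (nat_lit 0) (nat_lit 1) (nat_lit 0) (nat_lit 1) (nat_lit 0x11001100110010) (.cD (nat_lit 4) (.kc (nat_lit 36) (nat_lit 0x5001001)) (.cD (nat_lit 16) (.kA true (nat_lit 0x400200100800100400100300c001002)) (.cD (nat_lit 20) (.kA true (nat_lit 0x400600500800100400100300c001002)) (.cD (nat_lit 32) (.kA true (nat_lit 0x5004003008001008004002005007001001000003)) (.cD (nat_lit 36) (.kA true (nat_lit 0x400500600800100400100300c001002)) (.cD (nat_lit 48) (.kc (nat_lit 48) (nat_lit 0x3001001)) (.cD (nat_lit 52) (.kc (nat_lit 52) (nat_lit 0x7001001)) .nil)))))))) (.cD (nat_lit 52) (.dfs (nat_lit 32) (nat_lit 4100) (nat_lit 4100) (nat_lit 0x1002001) (nat_lit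 0x1002001) (nat_lit 0) (nat_lit 0) (nat_lit 3) (nat_lit 0) (nat_lit 0) (nat_lit 0) (nat_lit 1) (nat_lit 0) (nat_lit 1) (nat_lit 0) (nat_lit 1) (nat_lit 0x11001100110010) (.cD (nat_lit 4) (.kc (nat_lit 36) (nat_lit 0x5001001)) (.cD (nat_lit 16) (.kA true (nat_lit 0x400200500800100400100300c001002)) (.cD (nat_lit 20) (.kA true (nat_lit 0x400600100800100400100300c001002)) (.cD (nat_lit 32) (.kA true (nat_lit 0x5004003008001008004002005007001001000003)) (.cD (nat_lit 36) (.kA true (nat_lit 0x400500200800100400100300c001002)) (.cD (nat_lit 48) (.kc (nat_lit 52) (nat_lit 0x7001001)) (.cD (nat_lit 52) (.kc (nat_lit 48) (nat_lit 0x3001001)) .nil)))))))) .nil)))))))) (.cD (nat_lit 8) (.dfs (nat_lit 16) (nat_lit 4098) (nat_lit 4098) (nat_lit 4097) (nat_lit 4097) (nat_lit 0) (nat_lit 0) (nat_lit 3) (nat_lit 0) (nat_lit 0) (nat_lit 0) (nat_lit 1) (nat_lit 0) (nat_lit 1) (nat_lit 0) (nat_lit 1) (nat_lit 0x101010101010100) (.cD (nat_lit 8) (.kc (nat_lit 20) (nat_lit 0x3001001))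 (.cD (nat_lit 16) (.dfs (nat_lit 32) (nat_lit 4100) (nat_lit 4100) (nat_lit 0x1002001) (nat_lit 0x1002001) (nat_lit 0) (nat_lit 0) (nat_lit 3) (nat_lit 0) (nat_lit 0) (nat_lit 0) (nat_lit 1) (nat_lit 0) (nat_lit 1) (nat_lit 0) (nat_lit 1) (nat_lit 0x101010101010100) (.cD (nat_lit 8) (.kc (nat_lit 36) (nat_lit 0x5001001)) (.cD (nat_lit 16) (.kc (nat_lit 48) (nat_lit 0x3001001)) (.cD (nat_lit 24) (.kc (nat_lit 52) (nat_lit 0x7001001)) (.cD (nat_lit 32) (.kA false (nat_lit 0x700400200c00200a004008014005001001000003)) (.cD (nat_lit 40) (.kA false (nat_lit 0x100100000600500200d002001001000003)) (.cD (nat_lit 48) (.kA false (nat_lit 0xa00800c01000400600300200b002001001000003)) (.cD (nat_lit 56) (.kA false (nat_lit 0x100400200c00200a004008014005001001000003)) .nil)))))))) (.cD (nat_lit 24) (.dfs (nat_lit 32) (nat_lit 4100) (nat_lit 4100) (nat_lit 0x1002001) (nat_lit 0x1002001) (nat_lit 0) (nat_lit 0) (nat_lit 3) (nat_lit 0) (nat_lit 0) (nat_lit 0) (nat_lit 1) (nat_lit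 0) (nat_lit 1) (nat_lit 0) (nat_lit 1) (nat_lit 0x101010101010100) (.cD (nat_lit 8) (.kc (nat_lit 36) (nat_lit 0x5001001)) (.cD (nat_lit 16) (.kc (nat_lit 52) (nat_lit 0x7001001)) (.cD (nat_lit 24) (.kc (nat_lit 48) (nat_lit 0x3001001)) (.cD (nat_lit 32) (.kA false (nat_lit 0x300400600c00200a004008014005001001000003)) (.cD (nat_lit 40) (.kA false (nat_lit 0x100100000200500600d002001001000003)) (.cD (nat_lit 48) (.kA false (nat_lit 0x500400600c00200a004008014005001001000003)) (.cD (nat_lit 56) (.kA false (nat_lit 0xc00800a01000400200300600b002001001000003)) .nil)))))))) (.cD (nat_lit 32) (.kF (nat_lit 16) (nat_lit 0x100400100c012004002002000003)) (.cD (nat_lit 40) (.kF (nat_lit 16) (nat_lit 0x100400100c012004002002000003)) (.cD (nat_lit 48) (.kF (nat_lit 16) (nat_lit 0x100100000e014006001006001003)) (.cD (nat_lit 56) (.kF (nat_lit 16) (nat_lit 0x100100000a014006001006001003)) .nil)))))))) (.cD (nat_lit 16) (.kF (nat_lit 4) (nat_lit 0x2002000001003001002)) (.cD (nat_lit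 20) (.kF (nat_lit 4) (nat_lit 0xe01e003001003001002)) (.cD (nat_lit 24) (.kF (nat_lit 4) (nat_lit 0x1002001002012004002002000003)) (.cD (nat_lit 32) (.dfs (nat_lit 16) (nat_lit 4098) (nat_lit 4098) (nat_lit 4097) (nat_lit 4097) (nat_lit 0) (nat_lit 0) (nat_lit 3) (nat_lit 0) (nat_lit 0) (nat_lit 0) (nat_lit 1) (nat_lit 0) (nat_lit 0x1008004) (nat_lit 32772) (nat_lit 0x1001004000008001014000018) (nat_lit 0x1000101110110) (.cD (nat_lit 4) (.kF (nat_lit 16) (nat_lit 0x1001000001006001002)) (.cD (nat_lit 8) (.kF (nat_lit 16) (nat_lit 0x100400100c012004002002000003)) (.cD (nat_lit 16) (.dfs (nat_lit 32) (nat_lit 4100) (nat_lit 4100) (nat_lit 0x1002001) (nat_lit 0x1002001) (nat_lit 0) (nat_lit 0) (nat_lit 3) (nat_lit 0) (nat_lit 0) (nat_lit 0) (nat_lit 1) (nat_lit 0) (nat_lit 0x1008004) (nat_lit 32772) (nat_lit 0x1001004000008001014000018) (nat_lit 0x1000101110110) (.cD (nat_lit 4) (.kA true (nat_lit 0x100400600c002001001000002)) (.cD (nat_lit 8) (.kA false (nat_lit 0x300400200c002001001000002))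 (.cD (nat_lit 16) (.kc (nat_lit 48) (nat_lit 0x3001001)) (.cD (nat_lit 20) (.kA true (nat_lit 0x300400600c002001001000002)) (.cD (nat_lit 24) (.kA false (nat_lit 0x100400200c002001001000002)) (.cD (nat_lit 32) (.kc (nat_lit 36) (nat_lit 0x5001001)) (.cD (nat_lit 48) (.kc (nat_lit 52) (nat_lit 0x7001001)) .nil)))))))) (.cD (nat_lit 20) (.dfs (nat_lit 32) (nat_lit 4100) (nat_lit 4100) (nat_lit 0x1002001) (nat_lit 0x1002001) (nat_lit 0) (nat_lit 0) (nat_lit 3) (nat_lit 0) (nat_lit 0) (nat_lit 0) (nat_lit 1) (nat_lit 0) (nat_lit 1) (nat_lit 0) (nat_lit 1) (nat_lit 0x11001100110010) (.cD (nat_lit 4) (.kA true (nat_lit 0x100400700c002001001000002)) (.cD (nat_lit 16) (.kA true (nat_lit 0x300400500c002001001000002)) (.cD (nat_lit 20) (.kc (nat_lit 48) (nat_lit 0x3001001)) (.cD (nat_lit 32) (.kc (nat_lit 36) (nat_lit 0x5001001)) (.cD (nat_lit 36) (.dfs (nat_lit 9) (nat_lit 4100) (nat_lit 4101) (nat_lit 1) (nat_lit 1) (nat_lit 2) (nat_lit 0) (nat_lit 1) (nat_lit 4128) (nat_lit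 0x40020010008004002001) (nat_lit 0) (nat_lit 1) (nat_lit 0) (nat_lit 1) (nat_lit 0) (nat_lit 1) (nat_lit 0) .nil) (.cD (nat_lit 48) (.kA true (nat_lit 0x700400100c002001001000002)) (.cD (nat_lit 52) (.kc (nat_lit 52) (nat_lit 0x7001001)) .nil)))))))) (.cD (nat_lit 24) (.kF (nat_lit 16) (nat_lit 0x1001000001006001002)) (.cD (nat_lit 32) (.kc (nat_lit 20) (nat_lit 0x3001001)) (.cD (nat_lit 48) (.dfs (nat_lit 32) (nat_lit 4100) (nat_lit 4100) (nat_lit 0x1002001) (nat_lit 0x1002001) (nat_lit 0) (nat_lit 0) (nat_lit 3) (nat_lit 0) (nat_lit 0) (nat_lit 0) (nat_lit 1) (nat_lit 0) (nat_lit 0x1008004) (nat_lit 32772) (nat_lit 0x1001004000008001014000018) (nat_lit 0x1000101110110) (.cD (nat_lit 4) (.kA true (nat_lit 0x100400200c002001001000002)) (.cD (nat_lit 8) (.kA false (nat_lit 0x700400600c002001001000002)) (.cD (nat_lit 16) (.kc (nat_lit 52) (nat_lit 0x7001001)) (.cD (nat_lit 20) (.kA true (nat_lit 0x700400200c002001001000002)) (.cD (nat_lit 24) (.kA false (nat_lit 0x100400600c002001001000002))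 (.cD (nat_lit 32) (.kc (nat_lit 36) (nat_lit 0x5001001)) (.cD (nat_lit 48) (.kc (nat_lit 48) (nat_lit 0x3001001)) .nil)))))))) .nil)))))))) (.cD (nat_lit 48) (.kF (nat_lit 4) (nat_lit 0x1002001002012004002002000003)) .nil))))))))))
theorem c172 : (chk [] [] p172).n x97 s172 = true := by decide +kernel
noncomputable def p173 : Pf := (.anc (nat_lit 68) (nat_lit 0x10002002002000002) (nat_lit 0x1009020010004) (.czp (nat_lit 64) (nat_lit 0) (nat_lit 0x1040020010008004) z6 (.dfs (nat_lit 4) (nat_lit 4097) (nat_lit 4097) (nat_lit 1) (nat_lit 1) (nat_lit 0) (nat_lit 0) (nat_lit 3) (nat_lit 0) (nat_lit 0) (nat_lit 0) (nat_lit 1) (nat_lit 0) (nat_lit 0x1008004) (nat_lit 32772) (nat_lit 0x1001004000008001014000018) (nat_lit 0x1000101110110) (.cD (nat_lit 4) (.dfs (nat_lit 16) (nat_lit 4098) (nat_lit 4098) (nat_lit 4097) (nat_lit 4097) (nat_lit 0) (nat_lit 0) (nat_lit 3) (nat_lit 0) (nat_lit 0) (nat_lit 0) (nat_lit 1) (nat_lit 0) (nat_lit 1) (nat_lit 0) (nat_lit 1) (nat_lit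 0x11001100110010) (.cD (nat_lit 4) (.kc (nat_lit 20) (nat_lit 0x3001001)) (.cD (nat_lit 16) (.dfs (nat_lit 32) (nat_lit 4100) (nat_lit 4100) (nat_lit 0x1002001) (nat_lit 0x1002001) (nat_lit 0) (nat_lit 0) (nat_lit 3) (nat_lit 0) (nat_lit 0) (nat_lit 0) (nat_lit 1) (nat_lit 0) (nat_lit 1) (nat_lit 0) (nat_lit 1) (nat_lit 0x11001100110010) (.cD (nat_lit 4) (.kc (nat_lit 36) (nat_lit 0x5001001)) (.cD (nat_lit 16) (.kc (nat_lit 48) (nat_lit 0x3001001)) (.cD (nat_lit 20) (.kc (nat_lit 52) (nat_lit 0x7001001)) (.cD (nat_lit 32) (.dfs (nat_lit 9) (nat_lit 0x1004001003008) (nat_lit 0x1005001003008) (nat_lit 4098) (nat_lit 4098) (nat_lit 0) (nat_lit 0) (nat_lit 2) (nat_lit 1) (nat_lit 0) (nat_lit 8) (nat_lit 1) (nat_lit 0) (nat_lit 4100) (nat_lit 4) (nat_lit 0x1000008000018) (nat_lit 0x1000100) (.cD (nat_lit 8) (.kA false (nat_lit 0x5002004010001002002000005002004016002013003000004)) (.cD (nat_lit 24) (.kA false (nat_lit 0x1002004010001002002000001002004016002013003000004))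 .nil))) (.cD (nat_lit 36) (.kA true (nat_lit 0x1100100000400100300d001011001000003)) (.cD (nat_lit 48) (.kA true (nat_lit 0x600800401000400400100300d001011001000003)) (.cD (nat_lit 52) (.kA true (nat_lit 0x5004003008001008004002005007011001000003)) .nil)))))))) (.cD (nat_lit 20) (.dfs (nat_lit 32) (nat_lit 4100) (nat_lit 4100) (nat_lit 0x1002001) (nat_lit 0x1002001) (nat_lit 0) (nat_lit 0) (nat_lit 3) (nat_lit 0) (nat_lit 0) (nat_lit 0) (nat_lit 1) (nat_lit 0) (nat_lit 1) (nat_lit 0) (nat_lit 1) (nat_lit 0x11001100110010) (.cD (nat_lit 4) (.kc (nat_lit 36) (nat_lit 0x5001001)) (.cD (nat_lit 16) (.kc (nat_lit 52) (nat_lit 0x7001001)) (.cD (nat_lit 20) (.kc (nat_lit 48) (nat_lit 0x3001001)) (.cD (nat_lit 32) (.kA true (nat_lit 0x5004003008001008004002005007011001000003)) (.cD (nat_lit 36) (.dfs (nat_lit 9) (nat_lit 4102) (nat_lit 4103) (nat_lit 1) (nat_lit 1) (nat_lit 0) (nat_lit 0) (nat_lit 1) (nat_lit 4112) (nat_lit 0x40020010008004002011) (nat_lit 0) (nat_lit 1)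 (nat_lit 0) (nat_lit 1) (nat_lit 0) (nat_lit 1) (nat_lit 0) .nil) (.cD (nat_lit 48) (.kA true (nat_lit 0x400300500800100400100300c001002)) (.cD (nat_lit 52) (.kA true (nat_lit 0x400700100800100400100300c001002)) .nil)))))))) (.cD (nat_lit 32) (.kF (nat_lit 16) (nat_lit 0x100400100c012004002002000003)) (.cD (nat_lit 36) (.kF (nat_lit 16) (nat_lit 0x100400100c012004002002000003)) (.cD (nat_lit 48) (.dfs (nat_lit 32) (nat_lit 4100) (nat_lit 4100) (nat_lit 0x1002001) (nat_lit 0x1002001) (nat_lit 0) (nat_lit 0) (nat_lit 3) (nat_lit 0) (nat_lit 0) (nat_lit 0) (nat_lit 1) (nat_lit 0) (nat_lit 1) (nat_lit 0) (nat_lit 1) (nat_lit 0x11001100110010) (.cD (nat_lit 4) (.kc (nat_lit 36) (nat_lit 0x5001001)) (.cD (nat_lit 16) (.kA true (nat_lit 0x400200100800100400100300c001002)) (.cD (nat_lit 20) (.kA true (nat_lit 0x400600500800100400100300c001002)) (.cD (nat_lit 32) (.kA true (nat_lit 0x5004003008001008004002005007011001000003)) (.cD (nat_lit 36) (.kA true (nat_lit 0x400500600800100400100300c001002))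 (.cD (nat_lit 48) (.kc (nat_lit 48) (nat_lit 0x3001001)) (.cD (nat_lit 52) (.kc (nat_lit 52) (nat_lit 0x7001001)) .nil)))))))) (.cD (nat_lit 52) (.dfs (nat_lit 32) (nat_lit 4100) (nat_lit 4100) (nat_lit 0x1002001) (nat_lit 0x1002001) (nat_lit 0) (nat_lit 0) (nat_lit 3) (nat_lit 0) (nat_lit 0) (nat_lit 0) (nat_lit 1) (nat_lit 0) (nat_lit 1) (nat_lit 0) (nat_lit 1) (nat_lit 0x11001100110010) (.cD (nat_lit 4) (.kc (nat_lit 36) (nat_lit 0x5001001)) (.cD (nat_lit 16) (.kA true (nat_lit 0x400200500800100400100300c001002)) (.cD (nat_lit 20) (.kA true (nat_lit 0x400600100800100400100300c001002)) (.cD (nat_lit 32) (.kA true (nat_lit 0x5004003008001008004002005007011001000003)) (.cD (nat_lit 36) (.kA true (nat_lit 0x400500200800100400100300c001002)) (.cD (nat_lit 48) (.kc (nat_lit 52) (nat_lit 0x7001001)) (.cD (nat_lit 52) (.kc (nat_lit 48) (nat_lit 0x3001001)) .nil)))))))) .nil)))))))) (.cD (nat_lit 8) (.dfs (nat_lit 16) (nat_lit 4098) (nat_lit 4098) (nat_lit 4097) (nat_lit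 4097) (nat_lit 0) (nat_lit 0) (nat_lit 3) (nat_lit 0) (nat_lit 0) (nat_lit 0) (nat_lit 1) (nat_lit 0) (nat_lit 1) (nat_lit 0) (nat_lit 1) (nat_lit 0x101010101010100) (.cD (nat_lit 8) (.kc (nat_lit 20) (nat_lit 0x3001001)) (.cD (nat_lit 16) (.dfs (nat_lit 32) (nat_lit 4100) (nat_lit 4100) (nat_lit 0x1002001) (nat_lit 0x1002001) (nat_lit 0) (nat_lit 0) (nat_lit 3) (nat_lit 0) (nat_lit 0) (nat_lit 0) (nat_lit 1) (nat_lit 0) (nat_lit 1) (nat_lit 0) (nat_lit 1) (nat_lit 0x101010101010100) (.cD (nat_lit 8) (.kc (nat_lit 36) (nat_lit 0x5001001)) (.cD (nat_lit 16) (.kc (nat_lit 48) (nat_lit 0x3001001)) (.cD (nat_lit 24) (.kc (nat_lit 52) (nat_lit 0x7001001)) (.cD (nat_lit 32) (.kA false (nat_lit 0x700400200c00200a004008014005011001000003)) (.cD (nat_lit 40) (.kA false (nat_lit 0x1100100000600500200d002011001000003)) (.cD (nat_lit 48) (.kA false (nat_lit 0xa00800c01000400600300200b002011001000003)) (.cD (nat_lit 56) (.kA false (nat_lit 0x100400200c00200a004008014005011001000003))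 .nil)))))))) (.cD (nat_lit 24) (.dfs (nat_lit 32) (nat_lit 4100) (nat_lit 4100) (nat_lit 0x1002001) (nat_lit 0x1002001) (nat_lit 0) (nat_lit 0) (nat_lit 3) (nat_lit 0) (nat_lit 0) (nat_lit 0) (nat_lit 1) (nat_lit 0) (nat_lit 1) (nat_lit 0) (nat_lit 1) (nat_lit 0x101010101010100) (.cD (nat_lit 8) (.kc (nat_lit 36) (nat_lit 0x5001001)) (.cD (nat_lit 16) (.kc (nat_lit 52) (nat_lit 0x7001001)) (.cD (nat_lit 24) (.kc (nat_lit 48) (nat_lit 0x3001001)) (.cD (nat_lit 32) (.kA false (nat_lit 0x300400600c00200a004008014005011001000003)) (.cD (nat_lit 40) (.kA false (nat_lit 0x1100100000200500600d002011001000003)) (.cD (nat_lit 48) (.kA false (nat_lit 0x500400600c00200a004008014005011001000003)) (.cD (nat_lit 56) (.kA false (nat_lit 0xc00800a01000400200300600b002011001000003)) .nil)))))))) (.cD (nat_lit 32) (.kF (nat_lit 16) (nat_lit 0x100400100c012004002002000003)) (.cD (nat_lit 40) (.kF (nat_lit 16) (nat_lit 0x100400100c012004002002000003)) (.cD (nat_lit 48) (.kF (nat_lit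 16) (nat_lit 0x1100100000e014006001006001003)) (.cD (nat_lit 56) (.kF (nat_lit 16) (nat_lit 0x1100100000a014006001006001003)) .nil)))))))) (.cD (nat_lit 16) (.kF (nat_lit 4) (nat_lit 0x2002000001003001002)) (.cD (nat_lit 20) (.kF (nat_lit 4) (nat_lit 0xe01e003001003001002)) (.cD (nat_lit 24) (.kF (nat_lit 4) (nat_lit 0x1002001002012004002002000003)) (.cD (nat_lit 32) (.dfs (nat_lit 16) (nat_lit 4098) (nat_lit 4098) (nat_lit 4097) (nat_lit 4097) (nat_lit 0) (nat_lit 0) (nat_lit 3) (nat_lit 0) (nat_lit 0) (nat_lit 0) (nat_lit 1) (nat_lit 0) (nat_lit 0x1008004) (nat_lit 32772) (nat_lit 0x1001004000008001014000018) (nat_lit 0x1000101110110) (.cD (nat_lit 4) (.kF (nat_lit 16) (nat_lit 0x11001000001006001002)) (.cD (nat_lit 8) (.kF (nat_lit 16) (nat_lit 0x100400100c012004002002000003)) (.cD (nat_lit 16) (.dfs (nat_lit 32) (nat_lit 4100) (nat_lit 4100) (nat_lit 0x1002001) (nat_lit 0x1002001) (nat_lit 0) (nat_lit 0) (nat_lit 3) (nat_lit 0) (nat_lit 0) (nat_lit 0) (nat_lit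 1) (nat_lit 0) (nat_lit 0x1008004) (nat_lit 32772) (nat_lit 0x1001004000008001014000018) (nat_lit 0x1000101110110) (.cD (nat_lit 4) (.kA true (nat_lit 0x100400600c002011001000002)) (.cD (nat_lit 8) (.kA false (nat_lit 0x300400200c002011001000002)) (.cD (nat_lit 16) (.kc (nat_lit 48) (nat_lit 0x3001001)) (.cD (nat_lit 20) (.kA true (nat_lit 0x300400600c002011001000002)) (.cD (nat_lit 24) (.kA false (nat_lit 0x100400200c002011001000002)) (.cD (nat_lit 32) (.kc (nat_lit 36) (nat_lit 0x5001001)) (.cD (nat_lit 48) (.kc (nat_lit 52) (nat_lit 0x7001001)) .nil)))))))) (.cD (nat_lit 20) (.dfs (nat_lit 32) (nat_lit 4100) (nat_lit 4100) (nat_lit 0x1002001) (nat_lit 0x1002001) (nat_lit 0) (nat_lit 0) (nat_lit 3) (nat_lit 0) (nat_lit 0) (nat_lit 0) (nat_lit 1) (nat_lit 0) (nat_lit 1) (nat_lit 0) (nat_lit 1) (nat_lit 0x11001100110010) (.cD (nat_lit 4) (.kA true (nat_lit 0x100400700c002011001000002)) (.cD (nat_lit 16) (.kA true (nat_lit 0x300400500c002011001000002)) (.cD (nat_lit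 20) (.kc (nat_lit 48) (nat_lit 0x3001001)) (.cD (nat_lit 32) (.kc (nat_lit 36) (nat_lit 0x5001001)) (.cD (nat_lit 36) (.dfs (nat_lit 9) (nat_lit 4100) (nat_lit 4101) (nat_lit 1) (nat_lit 1) (nat_lit 0) (nat_lit 0) (nat_lit 1) (nat_lit 4128) (nat_lit 0x40020010008004002011) (nat_lit 0) (nat_lit 1) (nat_lit 0) (nat_lit 1) (nat_lit 0) (nat_lit 1) (nat_lit 0) .nil) (.cD (nat_lit 48) (.kA true (nat_lit 0x700400100c002011001000002)) (.cD (nat_lit 52) (.kc (nat_lit 52) (nat_lit 0x7001001)) .nil)))))))) (.cD (nat_lit 24) (.kF (nat_lit 16) (nat_lit 0x11001000001006001002)) (.cD (nat_lit 32) (.kc (nat_lit 20) (nat_lit 0x3001001)) (.cD (nat_lit 48) (.dfs (nat_lit 32) (nat_lit 4100) (nat_lit 4100) (nat_lit 0x1002001) (nat_lit 0x1002001) (nat_lit 0) (nat_lit 0) (nat_lit 3) (nat_lit 0) (nat_lit 0) (nat_lit 0) (nat_lit 1) (nat_lit 0) (nat_lit 0x1008004) (nat_lit 32772) (nat_lit 0x1001004000008001014000018) (nat_lit 0x1000101110110) (.cD (nat_lit 4) (.kA true (nat_lit 0x100400200c002011001000002))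 (.cD (nat_lit 8) (.kA false (nat_lit 0x700400600c002011001000002)) (.cD (nat_lit 16) (.kc (nat_lit 52) (nat_lit 0x7001001)) (.cD (nat_lit 20) (.kA true (nat_lit 0x700400200c002011001000002)) (.cD (nat_lit 24) (.kA false (nat_lit 0x100400600c002011001000002)) (.cD (nat_lit 32) (.kc (nat_lit 36) (nat_lit 0x5001001)) (.cD (nat_lit 48) (.kc (nat_lit 48) (nat_lit 0x3001001)) .nil)))))))) .nil)))))))) (.cD (nat_lit 48) (.kF (nat_lit 4) (nat_lit 0x1002001002012004002002000003)) .nil))))))))))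
theorem c173 : (chk [] [] p173).n x98 s173 = true := by decide +kernel
noncomputable def p174 : Pf := (.anc (nat_lit 72) (nat_lit 0x11001000014004002) (nat_lit 0x1007020010008) (.czp (nat_lit 64) (nat_lit 0) (nat_lit 0x1040020010008004) z6 (.dfs (nat_lit 8) (nat_lit 4097) (nat_lit 4097) (nat_lit 1) (nat_lit 1) (nat_lit 0) (nat_lit 0) (nat_lit 3) (nat_lit 0) (nat_lit 0) (nat_lit 0) (nat_lit 1) (nat_lit 0) (nat_lit 0x1008004) (nat_lit 32772) (nat_lit 0x1001004000008001014000018) (nat_lit 0x1000101110110) (.cD (nat_lit 4) (.dfs (nat_lit 16) (nat_lit 4098) (nat_lit 4098) (nat_lit 4097) (nat_lit 4097) (nat_lit 0) (nat_lit 0) (nat_lit 3) (nat_lit 0) (nat_lit 0) (nat_lit 0) (nat_lit 1) (nat_lit 0) (nat_lit 1) (nat_lit 0) (nat_lit 1) (nat_lit 0x11001100110010) (.cD (nat_lit 4) (.kc (nat_lit 24) (nat_lit 0x3001001)) (.cD (nat_lit 16) (.dfs (nat_lit 32) (nat_lit 4100) (nat_lit 4100) (nat_lit 0x1002001) (nat_lit 0x1002001) (nat_lit 0) (nat_lit 0) (nat_lit 3) (nat_lit 0) (nat_lit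 0) (nat_lit 0) (nat_lit 1) (nat_lit 0) (nat_lit 1) (nat_lit 0) (nat_lit 1) (nat_lit 0x11001100110010) (.cD (nat_lit 4) (.kc (nat_lit 40) (nat_lit 0x5001001)) (.cD (nat_lit 16) (.kc (nat_lit 48) (nat_lit 0x3001001)) (.cD (nat_lit 20) (.kc (nat_lit 56) (nat_lit 0x7001001)) (.cD (nat_lit 32) (.kA false (nat_lit 0x700400200800100a004008014005011001000003)) (.cD (nat_lit 36) (.kA false (nat_lit 0x1100100000600100200d001011001000003)) (.cD (nat_lit 48) (.kA false (nat_lit 0xa00800c01000400600100200d001011001000003)) (.cD (nat_lit 52) (.kA false (nat_lit 0x700400200800100a004008014005011001000003)) .nil)))))))) (.cD (nat_lit 20) (.dfs (nat_lit 32) (nat_lit 4100) (nat_lit 4100) (nat_lit 0x1002001) (nat_lit 0x1002001) (nat_lit 0) (nat_lit 0) (nat_lit 3) (nat_lit 0) (nat_lit 0) (nat_lit 0) (nat_lit 1) (nat_lit 0) (nat_lit 1) (nat_lit 0) (nat_lit 1) (nat_lit 0x11001100110010) (.cD (nat_lit 4) (.kc (nat_lit 40) (nat_lit 0x5001001)) (.cD (nat_lit 16) (.kc (nat_lit 56) (nat_lit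 0x7001001)) (.cD (nat_lit 20) (.kc (nat_lit 48) (nat_lit 0x3001001)) (.cD (nat_lit 32) (.kA false (nat_lit 0x700400200800100a004008014005011001000003)) (.cD (nat_lit 36) (.kA false (nat_lit 0x1100100000600100200d001011001000003)) (.cD (nat_lit 48) (.kA false (nat_lit 0xc00800a01000400600100200d001011001000003)) (.cD (nat_lit 52) (.kA false (nat_lit 0x700400200800100a004008014005011001000003)) .nil)))))))) (.cD (nat_lit 32) (.kF (nat_lit 16) (nat_lit 0x4010004002002000001006001003)) (.cD (nat_lit 36) (.kF (nat_lit 16) (nat_lit 0x11001000001007001002002000003)) (.cD (nat_lit 48) (.dfs (nat_lit 32) (nat_lit 4100) (nat_lit 4100) (nat_lit 0x1002001) (nat_lit 0x1002001) (nat_lit 0) (nat_lit 0) (nat_lit 3) (nat_lit 0) (nat_lit 0) (nat_lit 0) (nat_lit 1) (nat_lit 0) (nat_lit 1) (nat_lit 0) (nat_lit 1) (nat_lit 0x11001100110010) (.cD (nat_lit 4) (.kc (nat_lit 40) (nat_lit 0x5001001)) (.cD (nat_lit 16) (.kA false (nat_lit 0xa00c00801e00300600100200d001011001000003)) (.cD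 (nat_lit 20) (.kA false (nat_lit 0x200200000600100200d001011001000003)) (.cD (nat_lit 32) (.kA false (nat_lit 0x700400200800100a004008014005011001000003)) (.cD (nat_lit 36) (.kA false (nat_lit 0x1100100000600100200d001011001000003)) (.cD (nat_lit 48) (.kc (nat_lit 48) (nat_lit 0x3001001)) (.cD (nat_lit 52) (.kc (nat_lit 56) (nat_lit 0x7001001)) .nil)))))))) (.cD (nat_lit 52) (.dfs (nat_lit 32) (nat_lit 4100) (nat_lit 4100) (nat_lit 0x1002001) (nat_lit 0x1002001) (nat_lit 0) (nat_lit 0) (nat_lit 3) (nat_lit 0) (nat_lit 0) (nat_lit 0) (nat_lit 1) (nat_lit 0) (nat_lit 1) (nat_lit 0) (nat_lit 1) (nat_lit 0x11001100110010) (.cD (nat_lit 4) (.kc (nat_lit 40) (nat_lit 0x5001001)) (.cD (nat_lit 16) (.kA false (nat_lit 0x800c00a01e00300600100200d001011001000003)) (.cD (nat_lit 20) (.kA false (nat_lit 0x200200000600100200d001011001000003)) (.cD (nat_lit 32) (.kA false (nat_lit 0x700400200800100a004008014005011001000003)) (.cD (nat_lit 36) (.kA false (nat_lit 0x1100100000600100200d001011001000003))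 (.cD (nat_lit 48) (.kc (nat_lit 56) (nat_lit 0x7001001)) (.cD (nat_lit 52) (.kc (nat_lit 48) (nat_lit 0x3001001)) .nil)))))))) .nil)))))))) (.cD (nat_lit 8) (.dfs (nat_lit 16) (nat_lit 4098) (nat_lit 4098) (nat_lit 4097) (nat_lit 4097) (nat_lit 0) (nat_lit 0) (nat_lit 3) (nat_lit 0) (nat_lit 0) (nat_lit 0) (nat_lit 1) (nat_lit 0) (nat_lit 1) (nat_lit 0) (nat_lit 1) (nat_lit 0x101010101010100) (.cD (nat_lit 8) (.kc (nat_lit 24) (nat_lit 0x3001001)) (.cD (nat_lit 16) (.dfs (nat_lit 32) (nat_lit 4100) (nat_lit 4100) (nat_lit 0x1002001) (nat_lit 0x1002001) (nat_lit 0) (nat_lit 0) (nat_lit 3) (nat_lit 0) (nat_lit 0) (nat_lit 0) (nat_lit 1) (nat_lit 0) (nat_lit 1) (nat_lit 0) (nat_lit 1) (nat_lit 0x101010101010100) (.cD (nat_lit 8) (.kc (nat_lit 40) (nat_lit 0x5001001)) (.cD (nat_lit 16) (.kc (nat_lit 48) (nat_lit 0x3001001)) (.cD (nat_lit 24) (.kc (nat_lit 56) (nat_lit 0x7001001)) (.cD (nat_lit 32) (.kA false (nat_lit 0x700400200800100a004008014005011001000003)) (.cD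 (nat_lit 40) (.kA false (nat_lit 0x1100100000600100200d001011001000003)) (.cD (nat_lit 48) (.dfs (nat_lit 7) (nat_lit 0x1004003002008) (nat_lit 0x1007003002008) (nat_lit 4097) (nat_lit 4097) (nat_lit 3) (nat_lit 0) (nat_lit 2) (nat_lit 0) (nat_lit 0) (nat_lit 4) (nat_lit 1) (nat_lit 0) (nat_lit 4104) (nat_lit 8) (nat_lit 0x100004c00005c) (nat_lit 0x100010000000000000000000) (.cD (nat_lit 76) (.kA true (nat_lit 0x1b006002010001011001000019006002016002011001000004)) (.cD (nat_lit 92) (.kA true (nat_lit 0x1f00600201000101100100001d006002016002011001000004)) .nil))) (.cD (nat_lit 56) (.dfs (nat_lit 7) (nat_lit 4101) (nat_lit 4102) (nat_lit 1) (nat_lit 1) (nat_lit 3) (nat_lit 0) (nat_lit 1) (nat_lit 4144) (nat_lit 0x40020010008004002011) (nat_lit 0) (nat_lit 1) (nat_lit 0) (nat_lit 1) (nat_lit 0) (nat_lit 1) (nat_lit 0) .nil) .nil)))))))) (.cD (nat_lit 24) (.dfs (nat_lit 32) (nat_lit 4100) (nat_lit 4100) (nat_lit 0x1002001) (nat_lit 0x1002001) (nat_lit 0) (nat_lit 0)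 (nat_lit 3) (nat_lit 0) (nat_lit 0) (nat_lit 0) (nat_lit 1) (nat_lit 0) (nat_lit 1) (nat_lit 0) (nat_lit 1) (nat_lit 0x101010101010100) (.cD (nat_lit 8) (.kc (nat_lit 40) (nat_lit 0x5001001)) (.cD (nat_lit 16) (.kc (nat_lit 56) (nat_lit 0x7001001)) (.cD (nat_lit 24) (.kc (nat_lit 48) (nat_lit 0x3001001)) (.cD (nat_lit 32) (.kA false (nat_lit 0x700400200800100a004008014005011001000003)) (.cD (nat_lit 40) (.kA false (nat_lit 0x1100100000600100200d001011001000003)) (.cD (nat_lit 48) (.kA false (nat_lit 0x700400200800100a004008014005011001000003)) (.cD (nat_lit 56) (.kA false (nat_lit 0x700400200800100a004008014005011001000003)) .nil)))))))) (.cD (nat_lit 32) (.kF (nat_lit 8) (nat_lit 0x3006002004004000002007001002002000004)) (.cD (nat_lit 40) (.kF (nat_lit 8) (nat_lit 0x11001000002007001002002000003)) (.cD (nat_lit 48) (.kF (nat_lit 16) (nat_lit 0x1100100000e014006001006001003)) (.cD (nat_lit 56) (.kF (nat_lit 16) (nat_lit 0x1100100000a014006001006001003)) .nil))))))))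 (.cD (nat_lit 16) (.kF (nat_lit 8) (nat_lit 0x2002000001003001002)) (.cD (nat_lit 20) (.kF (nat_lit 8) (nat_lit 0xe01e003001003001002)) (.cD (nat_lit 24) (.kF (nat_lit 8) (nat_lit 0x11001000002016005011001000001003001004)) (.cD (nat_lit 32) (.dfs (nat_lit 16) (nat_lit 4098) (nat_lit 4098) (nat_lit 4097) (nat_lit 4097) (nat_lit 0) (nat_lit 0) (nat_lit 3) (nat_lit 0) (nat_lit 0) (nat_lit 0) (nat_lit 1) (nat_lit 0) (nat_lit 0x1008004) (nat_lit 32772) (nat_lit 0x1001004000008001014000018) (nat_lit 0x1000101110110) (.cD (nat_lit 4) (.kF (nat_lit 16) (nat_lit 0x11001000001006001002)) (.cD (nat_lit 8) (.kF (nat_lit 8) (nat_lit 0x11001000004016005002007001002002000004)) (.cD (nat_lit 16) (.dfs (nat_lit 32) (nat_lit 4100) (nat_lit 4100) (nat_lit 0x1002001) (nat_lit 0x1002001) (nat_lit 0) (nat_lit 0) (nat_lit 3) (nat_lit 0) (nat_lit 0) (nat_lit 0) (nat_lit 1) (nat_lit 0) (nat_lit 0x1008004) (nat_lit 32772) (nat_lit 0x1001004000008001014000018) (nat_lit 0x1000101110110) (.cD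 (nat_lit 4) (.kA false (nat_lit 0x1100100000400100200c001002)) (.cD (nat_lit 8) (.kA false (nat_lit 0x300400200c002011001000002)) (.cD (nat_lit 16) (.kc (nat_lit 48) (nat_lit 0x3001001)) (.cD (nat_lit 20) (.kA false (nat_lit 0x1100100000400100200c001002)) (.cD (nat_lit 24) (.dfs (nat_lit 7) (nat_lit 4100) (nat_lit 4103) (nat_lit 1) (nat_lit 1) (nat_lit 3) (nat_lit 0) (nat_lit 1) (nat_lit 4128) (nat_lit 0x40020010008004002011) (nat_lit 0) (nat_lit 1) (nat_lit 0) (nat_lit 1) (nat_lit 0) (nat_lit 1) (nat_lit 0) .nil) (.cD (nat_lit 32) (.kc (nat_lit 40) (nat_lit 0x5001001)) (.cD (nat_lit 48) (.kc (nat_lit 56) (nat_lit 0x7001001)) .nil)))))))) (.cD (nat_lit 20) (.dfs (nat_lit 32) (nat_lit 4100) (nat_lit 4100) (nat_lit 0x1002001) (nat_lit 0x1002001) (nat_lit 0) (nat_lit 0) (nat_lit 3) (nat_lit 0) (nat_lit 0) (nat_lit 0) (nat_lit 1) (nat_lit 0) (nat_lit 1) (nat_lit 0) (nat_lit 1) (nat_lit 0x11001100110010) (.cD (nat_lit 4) (.kA false (nat_lit 0x1100100000400100200c001002))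 (.cD (nat_lit 16) (.kA false (nat_lit 0x1100100000400100200c001002)) (.cD (nat_lit 20) (.kc (nat_lit 48) (nat_lit 0x3001001)) (.cD (nat_lit 32) (.kc (nat_lit 40) (nat_lit 0x5001001)) (.cD (nat_lit 36) (.kA false (nat_lit 0x1100100000400100200c001002)) (.cD (nat_lit 48) (.kA false (nat_lit 0x1100100000400100200c001002)) (.cD (nat_lit 52) (.kc (nat_lit 56) (nat_lit 0x7001001)) .nil)))))))) (.cD (nat_lit 24) (.kF (nat_lit 16) (nat_lit 0x11001000001006001002)) (.cD (nat_lit 32) (.kc (nat_lit 24) (nat_lit 0x3001001)) (.cD (nat_lit 48) (.dfs (nat_lit 32) (nat_lit 4100) (nat_lit 4100) (nat_lit 0x1002001) (nat_lit 0x1002001) (nat_lit 0) (nat_lit 0) (nat_lit 3) (nat_lit 0) (nat_lit 0) (nat_lit 0) (nat_lit 1) (nat_lit 0) (nat_lit 0x1008004) (nat_lit 32772) (nat_lit 0x1001004000008001014000018) (nat_lit 0x1000101110110) (.cD (nat_lit 4) (.kA false (nat_lit 0x1100100000400100200c001002)) (.cD (nat_lit 8) (.kA false (nat_lit 0x700400600c002011001000002)) (.cD (nat_lit 16) (.kc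 (nat_lit 56) (nat_lit 0x7001001)) (.cD (nat_lit 20) (.kA false (nat_lit 0x1100100000400100200c001002)) (.cD (nat_lit 24) (.kA false (nat_lit 0x100400600c002011001000002)) (.cD (nat_lit 32) (.kc (nat_lit 40) (nat_lit 0x5001001)) (.cD (nat_lit 48) (.kc (nat_lit 48) (nat_lit 0x3001001)) .nil)))))))) .nil)))))))) (.cD (nat_lit 48) (.kF (nat_lit 8) (nat_lit 0x13003000001003001002)) .nil))))))))))
theorem c174 : (chk [] [] p174).n x99 s174 = true := by decide +kernel
noncomputable def p175 : Pf := (.anc (nat_lit 68) (nat_lit 0x10002002002000002) (nat_lit 0x1009020010004) (.czp (nat_lit 64) (nat_lit 0) (nat_lit 0x1040020010008004) z6 (.dfs (nat_lit 4) (nat_lit 4097) (nat_lit 4097) (nat_lit 1) (nat_lit 1) (nat_lit 0) (nat_lit 0) (nat_lit 3) (nat_lit 0) (nat_lit 0) (nat_lit 0) (nat_lit 1) (nat_lit 0) (nat_lit 0x1008004) (nat_lit 32772) (nat_lit 0x1001004000008001014000018) (nat_lit 0x1000101110110) (.cD (nat_lit 4) (.dfs (nat_lit 16) (nat_lit 4098) (nat_lit 4098) (nat_lit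 4097) (nat_lit 4097) (nat_lit 0) (nat_lit 0) (nat_lit 3) (nat_lit 0) (nat_lit 0) (nat_lit 0) (nat_lit 1) (nat_lit 0) (nat_lit 1) (nat_lit 0) (nat_lit 1) (nat_lit 0x11001100110010) (.cD (nat_lit 4) (.kc (nat_lit 20) (nat_lit 0x3001001)) (.cD (nat_lit 16) (.dfs (nat_lit 32) (nat_lit 4100) (nat_lit 4100) (nat_lit 0x1002001) (nat_lit 0x1002001) (nat_lit 0) (nat_lit 0) (nat_lit 3) (nat_lit 0) (nat_lit 0) (nat_lit 0) (nat_lit 1) (nat_lit 0) (nat_lit 1) (nat_lit 0) (nat_lit 1) (nat_lit 0x11001100110010) (.cD (nat_lit 4) (.kc (nat_lit 36) (nat_lit 0x5001001)) (.cD (nat_lit 16) (.kc (nat_lit 48) (nat_lit 0x3001001)) (.cD (nat_lit 20) (.kc (nat_lit 52) (nat_lit 0x7001001)) (.cD (nat_lit 32) (.dfs (nat_lit 9) (nat_lit 0x1004001003008) (nat_lit 0x1005001003008) (nat_lit 4098) (nat_lit 4098) (nat_lit 3) (nat_lit 0) (nat_lit 2) (nat_lit 1) (nat_lit 0) (nat_lit 8) (nat_lit 1) (nat_lit 0) (nat_lit 1) (nat_lit 0) (nat_lit 1) (nat_lit 0) .nil) (.cD (nat_lit 36) (.kA true (nat_lit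 0x2100100000400100300d001021001000003)) (.cD (nat_lit 48) (.kA true (nat_lit 0x600800401000400400100300d001021001000003)) (.cD (nat_lit 52) (.kA true (nat_lit 0x5004003008001008004002005007021001000003)) .nil)))))))) (.cD (nat_lit 20) (.dfs (nat_lit 32) (nat_lit 4100) (nat_lit 4100) (nat_lit 0x1002001) (nat_lit 0x1002001) (nat_lit 0) (nat_lit 0) (nat_lit 3) (nat_lit 0) (nat_lit 0) (nat_lit 0) (nat_lit 1) (nat_lit 0) (nat_lit 1) (nat_lit 0) (nat_lit 1) (nat_lit 0x11001100110010) (.cD (nat_lit 4) (.kc (nat_lit 36) (nat_lit 0x5001001)) (.cD (nat_lit 16) (.kc (nat_lit 52) (nat_lit 0x7001001)) (.cD (nat_lit 20) (.kc (nat_lit 48) (nat_lit 0x3001001)) (.cD (nat_lit 32) (.kA true (nat_lit 0x5004003008001008004002005007021001000003)) (.cD (nat_lit 36) (.dfs (nat_lit 9) (nat_lit 4102) (nat_lit 4103) (nat_lit 1) (nat_lit 1) (nat_lit 3) (nat_lit 0) (nat_lit 1) (nat_lit 4112) (nat_lit 0x40020010008004002021) (nat_lit 0) (nat_lit 1) (nat_lit 0) (nat_lit 1) (nat_lit 0) (nat_lit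 1) (nat_lit 0) .nil) (.cD (nat_lit 48) (.kA true (nat_lit 0x400300500800100400100300c001002)) (.cD (nat_lit 52) (.kA true (nat_lit 0x400700100800100400100300c001002)) .nil)))))))) (.cD (nat_lit 32) (.kF (nat_lit 16) (nat_lit 0x100400100c012004002002000003)) (.cD (nat_lit 36) (.kF (nat_lit 16) (nat_lit 0x100400100c012004002002000003)) (.cD (nat_lit 48) (.dfs (nat_lit 32) (nat_lit 4100) (nat_lit 4100) (nat_lit 0x1002001) (nat_lit 0x1002001) (nat_lit 0) (nat_lit 0) (nat_lit 3) (nat_lit 0) (nat_lit 0) (nat_lit 0) (nat_lit 1) (nat_lit 0) (nat_lit 1) (nat_lit 0) (nat_lit 1) (nat_lit 0x11001100110010) (.cD (nat_lit 4) (.kc (nat_lit 36) (nat_lit 0x5001001)) (.cD (nat_lit 16) (.kA true (nat_lit 0x400200100800100400100300c001002)) (.cD (nat_lit 20) (.kA true (nat_lit 0x400600500800100400100300c001002)) (.cD (nat_lit 32) (.kA true (nat_lit 0x5004003008001008004002005007021001000003)) (.cD (nat_lit 36) (.kA true (nat_lit 0x400500600800100400100300c001002)) (.cD (nat_lit 48)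 (.kc (nat_lit 48) (nat_lit 0x3001001)) (.cD (nat_lit 52) (.kc (nat_lit 52) (nat_lit 0x7001001)) .nil)))))))) (.cD (nat_lit 52) (.dfs (nat_lit 32) (nat_lit 4100) (nat_lit 4100) (nat_lit 0x1002001) (nat_lit 0x1002001) (nat_lit 0) (nat_lit 0) (nat_lit 3) (nat_lit 0) (nat_lit 0) (nat_lit 0) (nat_lit 1) (nat_lit 0) (nat_lit 1) (nat_lit 0) (nat_lit 1) (nat_lit 0x11001100110010) (.cD (nat_lit 4) (.kc (nat_lit 36) (nat_lit 0x5001001)) (.cD (nat_lit 16) (.kA true (nat_lit 0x400200500800100400100300c001002)) (.cD (nat_lit 20) (.kA true (nat_lit 0x400600100800100400100300c001002)) (.cD (nat_lit 32) (.kA true (nat_lit 0x5004003008001008004002005007021001000003)) (.cD (nat_lit 36) (.kA true (nat_lit 0x400500200800100400100300c001002)) (.cD (nat_lit 48) (.kc (nat_lit 52) (nat_lit 0x7001001)) (.cD (nat_lit 52) (.kc (nat_lit 48) (nat_lit 0x3001001)) .nil)))))))) .nil)))))))) (.cD (nat_lit 8) (.dfs (nat_lit 16) (nat_lit 4098) (nat_lit 4098) (nat_lit 4097) (nat_lit 4097) (nat_lit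 0) (nat_lit 0) (nat_lit 3) (nat_lit 0) (nat_lit 0) (nat_lit 0) (nat_lit 1) (nat_lit 0) (nat_lit 1) (nat_lit 0) (nat_lit 1) (nat_lit 0x101010101010100) (.cD (nat_lit 8) (.kc (nat_lit 20) (nat_lit 0x3001001)) (.cD (nat_lit 16) (.dfs (nat_lit 32) (nat_lit 4100) (nat_lit 4100) (nat_lit 0x1002001) (nat_lit 0x1002001) (nat_lit 0) (nat_lit 0) (nat_lit 3) (nat_lit 0) (nat_lit 0) (nat_lit 0) (nat_lit 1) (nat_lit 0) (nat_lit 1) (nat_lit 0) (nat_lit 1) (nat_lit 0x101010101010100) (.cD (nat_lit 8) (.kc (nat_lit 36) (nat_lit 0x5001001)) (.cD (nat_lit 16) (.kc (nat_lit 48) (nat_lit 0x3001001)) (.cD (nat_lit 24) (.kc (nat_lit 52) (nat_lit 0x7001001)) (.cD (nat_lit 32) (.kA false (nat_lit 0x700400200c00200a004008014005021001000003)) (.cD (nat_lit 40) (.kA false (nat_lit 0x2100100000600500200d002021001000003)) (.cD (nat_lit 48) (.kA false (nat_lit 0xa00800c01000400600300200b002021001000003)) (.cD (nat_lit 56) (.kA false (nat_lit 0x100400200c00200a004008014005021001000003)) .nil))))))))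 (.cD (nat_lit 24) (.dfs (nat_lit 32) (nat_lit 4100) (nat_lit 4100) (nat_lit 0x1002001) (nat_lit 0x1002001) (nat_lit 0) (nat_lit 0) (nat_lit 3) (nat_lit 0) (nat_lit 0) (nat_lit 0) (nat_lit 1) (nat_lit 0) (nat_lit 1) (nat_lit 0) (nat_lit 1) (nat_lit 0x101010101010100) (.cD (nat_lit 8) (.kc (nat_lit 36) (nat_lit 0x5001001)) (.cD (nat_lit 16) (.kc (nat_lit 52) (nat_lit 0x7001001)) (.cD (nat_lit 24) (.kc (nat_lit 48) (nat_lit 0x3001001)) (.cD (nat_lit 32) (.kA false (nat_lit 0x300400600c00200a004008014005021001000003)) (.cD (nat_lit 40) (.kA false (nat_lit 0x2100100000200500600d002021001000003)) (.cD (nat_lit 48) (.kA false (nat_lit 0x500400600c00200a004008014005021001000003)) (.cD (nat_lit 56) (.kA false (nat_lit 0xc00800a01000400200300600b002021001000003)) .nil)))))))) (.cD (nat_lit 32) (.kF (nat_lit 16) (nat_lit 0x100400100c012004002002000003)) (.cD (nat_lit 40) (.kF (nat_lit 16) (nat_lit 0x100400100c012004002002000003)) (.cD (nat_lit 48) (.kF (nat_lit 16) (nat_lit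 0x2100100000e014006001006001003)) (.cD (nat_lit 56) (.kF (nat_lit 16) (nat_lit 0x2100100000a014006001006001003)) .nil)))))))) (.cD (nat_lit 16) (.kF (nat_lit 4) (nat_lit 0x2002000001003001002)) (.cD (nat_lit 20) (.kF (nat_lit 4) (nat_lit 0xe01e003001003001002)) (.cD (nat_lit 24) (.kF (nat_lit 4) (nat_lit 0x1002001002012004002002000003)) (.cD (nat_lit 32) (.dfs (nat_lit 16) (nat_lit 4098) (nat_lit 4098) (nat_lit 4097) (nat_lit 4097) (nat_lit 0) (nat_lit 0) (nat_lit 3) (nat_lit 0) (nat_lit 0) (nat_lit 0) (nat_lit 1) (nat_lit 0) (nat_lit 0x1008004) (nat_lit 32772) (nat_lit 0x1001004000008001014000018) (nat_lit 0x1000101110110) (.cD (nat_lit 4) (.kF (nat_lit 16) (nat_lit 0x21001000001006001002)) (.cD (nat_lit 8) (.kF (nat_lit 16) (nat_lit 0x100400100c012004002002000003)) (.cD (nat_lit 16) (.dfs (nat_lit 32) (nat_lit 4100) (nat_lit 4100) (nat_lit 0x1002001) (nat_lit 0x1002001) (nat_lit 0) (nat_lit 0) (nat_lit 3) (nat_lit 0) (nat_lit 0) (nat_lit 0) (nat_lit 1) (nat_lit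 0) (nat_lit 0x1008004) (nat_lit 32772) (nat_lit 0x1001004000008001014000018) (nat_lit 0x1000101110110) (.cD (nat_lit 4) (.kA true (nat_lit 0x100400600c002021001000002)) (.cD (nat_lit 8) (.kA false (nat_lit 0x300400200c002021001000002)) (.cD (nat_lit 16) (.kc (nat_lit 48) (nat_lit 0x3001001)) (.cD (nat_lit 20) (.kA true (nat_lit 0x300400600c002021001000002)) (.cD (nat_lit 24) (.kA false (nat_lit 0x100400200c002021001000002)) (.cD (nat_lit 32) (.kc (nat_lit 36) (nat_lit 0x5001001)) (.cD (nat_lit 48) (.kc (nat_lit 52) (nat_lit 0x7001001)) .nil)))))))) (.cD (nat_lit 20) (.dfs (nat_lit 32) (nat_lit 4100) (nat_lit 4100) (nat_lit 0x1002001) (nat_lit 0x1002001) (nat_lit 0) (nat_lit 0) (nat_lit 3) (nat_lit 0) (nat_lit 0) (nat_lit 0) (nat_lit 1) (nat_lit 0) (nat_lit 1) (nat_lit 0) (nat_lit 1) (nat_lit 0x11001100110010) (.cD (nat_lit 4) (.kA true (nat_lit 0x100400700c002021001000002)) (.cD (nat_lit 16) (.kA true (nat_lit 0x300400500c002021001000002)) (.cD (nat_lit 20) (.kc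 (nat_lit 48) (nat_lit 0x3001001)) (.cD (nat_lit 32) (.kc (nat_lit 36) (nat_lit 0x5001001)) (.cD (nat_lit 36) (.dfs (nat_lit 9) (nat_lit 4100) (nat_lit 4101) (nat_lit 1) (nat_lit 1) (nat_lit 3) (nat_lit 0) (nat_lit 1) (nat_lit 4128) (nat_lit 0x40020010008004002021) (nat_lit 0) (nat_lit 1) (nat_lit 0) (nat_lit 1) (nat_lit 0) (nat_lit 1) (nat_lit 0) .nil) (.cD (nat_lit 48) (.kA true (nat_lit 0x700400100c002021001000002)) (.cD (nat_lit 52) (.kc (nat_lit 52) (nat_lit 0x7001001)) .nil)))))))) (.cD (nat_lit 24) (.kF (nat_lit 16) (nat_lit 0x21001000001006001002)) (.cD (nat_lit 32) (.kc (nat_lit 20) (nat_lit 0x3001001)) (.cD (nat_lit 48) (.dfs (nat_lit 32) (nat_lit 4100) (nat_lit 4100) (nat_lit 0x1002001) (nat_lit 0x1002001) (nat_lit 0) (nat_lit 0) (nat_lit 3) (nat_lit 0) (nat_lit 0) (nat_lit 0) (nat_lit 1) (nat_lit 0) (nat_lit 0x1008004) (nat_lit 32772) (nat_lit 0x1001004000008001014000018) (nat_lit 0x1000101110110) (.cD (nat_lit 4) (.kA true (nat_lit 0x100400200c002021001000002))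 (.cD (nat_lit 8) (.kA false (nat_lit 0x700400600c002021001000002)) (.cD (nat_lit 16) (.kc (nat_lit 52) (nat_lit 0x7001001)) (.cD (nat_lit 20) (.kA true (nat_lit 0x700400200c002021001000002)) (.cD (nat_lit 24) (.kA false (nat_lit 0x100400600c002021001000002)) (.cD (nat_lit 32) (.kc (nat_lit 36) (nat_lit 0x5001001)) (.cD (nat_lit 48) (.kc (nat_lit 48) (nat_lit 0x3001001)) .nil)))))))) .nil)))))))) (.cD (nat_lit 48) (.kF (nat_lit 4) (nat_lit 0x1002001002012004002002000003)) .nil))))))))))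
theorem c175 : (chk [] [] p175).n x100 s175 = true := by decide +kernel
noncomputable def p176 : Pf := (.anc (nat_lit 68) (nat_lit 0x10002002002000002) (nat_lit 0x1009020010004) (.czp (nat_lit 64) (nat_lit 0) (nat_lit 0x1040020010008004) z6 (.dfs (nat_lit 4) (nat_lit 4097) (nat_lit 4097) (nat_lit 1) (nat_lit 1) (nat_lit 0) (nat_lit 0) (nat_lit 3) (nat_lit 0) (nat_lit 0) (nat_lit 0) (nat_lit 1) (nat_lit 0) (nat_lit 0x1008004) (nat_lit 32772) (nat_lit 0x1001004000008001014000018) (nat_lit 0x1000101110110) (.cD (nat_lit 4) (.dfs (nat_lit 16) (nat_lit 4098) (nat_lit 4098) (nat_lit 4097) (nat_lit 4097) (nat_lit 0) (nat_lit 0) (nat_lit 3) (nat_lit 0) (nat_lit 0) (nat_lit 0) (nat_lit 1) (nat_lit 0) (nat_lit 1) (nat_lit 0) (nat_lit 1) (nat_lit 0x11001100110010) (.cD (nat_lit 4) (.kc (nat_lit 20) (nat_lit 0x3001001)) (.cD (nat_lit 16) (.dfs (nat_lit 32) (nat_lit 4100) (nat_lit 4100) (nat_lit 0x1002001) (nat_lit 0x1002001) (nat_lit 0) (nat_lit 0) (nat_lit 3) (nat_lit 0) (nat_lit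 0) (nat_lit 0) (nat_lit 1) (nat_lit 0) (nat_lit 1) (nat_lit 0) (nat_lit 1) (nat_lit 0x11001100110010) (.cD (nat_lit 4) (.kc (nat_lit 36) (nat_lit 0x5001001)) (.cD (nat_lit 16) (.kc (nat_lit 48) (nat_lit 0x3001001)) (.cD (nat_lit 20) (.kc (nat_lit 52) (nat_lit 0x7001001)) (.cD (nat_lit 32) (.dfs (nat_lit 9) (nat_lit 0x1004001003008) (nat_lit 0x1005001003008) (nat_lit 4098) (nat_lit 4098) (nat_lit 3) (nat_lit 0) (nat_lit 2) (nat_lit 1) (nat_lit 0) (nat_lit 8) (nat_lit 1) (nat_lit 0) (nat_lit 1) (nat_lit 0) (nat_lit 1) (nat_lit 0) .nil) (.cD (nat_lit 36) (.kA true (nat_lit 0x2100100000400100300d001021001000003)) (.cD (nat_lit 48) (.kA true (nat_lit 0x600800401000400400100300d001021001000003)) (.cD (nat_lit 52) (.kA true (nat_lit 0x5004003008001008004002005007021001000003)) .nil)))))))) (.cD (nat_lit 20) (.dfs (nat_lit 32) (nat_lit 4100) (nat_lit 4100) (nat_lit 0x1002001) (nat_lit 0x1002001) (nat_lit 0) (nat_lit 0) (nat_lit 3) (nat_lit 0) (nat_lit 0) (nat_lit 0) (nat_lit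 1) (nat_lit 0) (nat_lit 1) (nat_lit 0) (nat_lit 1) (nat_lit 0x11001100110010) (.cD (nat_lit 4) (.kc (nat_lit 36) (nat_lit 0x5001001)) (.cD (nat_lit 16) (.kc (nat_lit 52) (nat_lit 0x7001001)) (.cD (nat_lit 20) (.kc (nat_lit 48) (nat_lit 0x3001001)) (.cD (nat_lit 32) (.kA true (nat_lit 0x5004003008001008004002005007021001000003)) (.cD (nat_lit 36) (.dfs (nat_lit 9) (nat_lit 4102) (nat_lit 4103) (nat_lit 1) (nat_lit 1) (nat_lit 3) (nat_lit 0) (nat_lit 1) (nat_lit 4112) (nat_lit 0x40020010008004002021) (nat_lit 0) (nat_lit 1) (nat_lit 0) (nat_lit 1) (nat_lit 0) (nat_lit 1) (nat_lit 0) .nil) (.cD (nat_lit 48) (.kA true (nat_lit 0x400300500800100400100300c001002)) (.cD (nat_lit 52) (.kA true (nat_lit 0x400700100800100400100300c001002)) .nil)))))))) (.cD (nat_lit 32) (.kF (nat_lit 16) (nat_lit 0x100400100c012004002002000003)) (.cD (nat_lit 36) (.kF (nat_lit 16) (nat_lit 0x100400100c012004002002000003)) (.cD (nat_lit 48) (.dfs (nat_lit 32) (nat_lit 4100) (nat_lit 4100)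 (nat_lit 0x1002001) (nat_lit 0x1002001) (nat_lit 0) (nat_lit 0) (nat_lit 3) (nat_lit 0) (nat_lit 0) (nat_lit 0) (nat_lit 1) (nat_lit 0) (nat_lit 1) (nat_lit 0) (nat_lit 1) (nat_lit 0x11001100110010) (.cD (nat_lit 4) (.kc (nat_lit 36) (nat_lit 0x5001001)) (.cD (nat_lit 16) (.kA true (nat_lit 0x400200100800100400100300c001002)) (.cD (nat_lit 20) (.kA true (nat_lit 0x400600500800100400100300c001002)) (.cD (nat_lit 32) (.kA true (nat_lit 0x5004003008001008004002005007021001000003)) (.cD (nat_lit 36) (.kA true (nat_lit 0x400500600800100400100300c001002)) (.cD (nat_lit 48) (.kc (nat_lit 48) (nat_lit 0x3001001)) (.cD (nat_lit 52) (.kc (nat_lit 52) (nat_lit 0x7001001)) .nil)))))))) (.cD (nat_lit 52) (.dfs (nat_lit 32) (nat_lit 4100) (nat_lit 4100) (nat_lit 0x1002001) (nat_lit 0x1002001) (nat_lit 0) (nat_lit 0) (nat_lit 3) (nat_lit 0) (nat_lit 0) (nat_lit 0) (nat_lit 1) (nat_lit 0) (nat_lit 1) (nat_lit 0) (nat_lit 1) (nat_lit 0x11001100110010) (.cD (nat_lit 4) (.kc (nat_lit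 36) (nat_lit 0x5001001)) (.cD (nat_lit 16) (.kA true (nat_lit 0x400200500800100400100300c001002)) (.cD (nat_lit 20) (.kA true (nat_lit 0x400600100800100400100300c001002)) (.cD (nat_lit 32) (.kA true (nat_lit 0x5004003008001008004002005007021001000003)) (.cD (nat_lit 36) (.kA true (nat_lit 0x400500200800100400100300c001002)) (.cD (nat_lit 48) (.kc (nat_lit 52) (nat_lit 0x7001001)) (.cD (nat_lit 52) (.kc (nat_lit 48) (nat_lit 0x3001001)) .nil)))))))) .nil)))))))) (.cD (nat_lit 8) (.dfs (nat_lit 16) (nat_lit 4098) (nat_lit 4098) (nat_lit 4097) (nat_lit 4097) (nat_lit 0) (nat_lit 0) (nat_lit 3) (nat_lit 0) (nat_lit 0) (nat_lit 0) (nat_lit 1) (nat_lit 0) (nat_lit 1) (nat_lit 0) (nat_lit 1) (nat_lit 0x101010101010100) (.cD (nat_lit 8) (.kc (nat_lit 20) (nat_lit 0x3001001)) (.cD (nat_lit 16) (.dfs (nat_lit 32) (nat_lit 4100) (nat_lit 4100) (nat_lit 0x1002001) (nat_lit 0x1002001) (nat_lit 0) (nat_lit 0) (nat_lit 3) (nat_lit 0) (nat_lit 0) (nat_lit 0) (nat_lit 1) (nat_lit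 0) (nat_lit 1) (nat_lit 0) (nat_lit 1) (nat_lit 0x101010101010100) (.cD (nat_lit 8) (.kc (nat_lit 36) (nat_lit 0x5001001)) (.cD (nat_lit 16) (.kc (nat_lit 48) (nat_lit 0x3001001)) (.cD (nat_lit 24) (.kc (nat_lit 52) (nat_lit 0x7001001)) (.cD (nat_lit 32) (.kA false (nat_lit 0x700400200c00200a004008014005021001000003)) (.cD (nat_lit 40) (.kA false (nat_lit 0x2100100000600500200d002021001000003)) (.cD (nat_lit 48) (.kA false (nat_lit 0xa00800c01000400600300200b002021001000003)) (.cD (nat_lit 56) (.kA false (nat_lit 0x100400200c00200a004008014005021001000003)) .nil)))))))) (.cD (nat_lit 24) (.dfs (nat_lit 32) (nat_lit 4100) (nat_lit 4100) (nat_lit 0x1002001) (nat_lit 0x1002001) (nat_lit 0) (nat_lit 0) (nat_lit 3) (nat_lit 0) (nat_lit 0) (nat_lit 0) (nat_lit 1) (nat_lit 0) (nat_lit 1) (nat_lit 0) (nat_lit 1) (nat_lit 0x101010101010100) (.cD (nat_lit 8) (.kc (nat_lit 36) (nat_lit 0x5001001)) (.cD (nat_lit 16) (.kc (nat_lit 52) (nat_lit 0x7001001)) (.cD (nat_lit 24) (.kc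 (nat_lit 48) (nat_lit 0x3001001)) (.cD (nat_lit 32) (.kA false (nat_lit 0x300400600c00200a004008014005021001000003)) (.cD (nat_lit 40) (.kA false (nat_lit 0x2100100000200500600d002021001000003)) (.cD (nat_lit 48) (.kA false (nat_lit 0x500400600c00200a004008014005021001000003)) (.cD (nat_lit 56) (.kA false (nat_lit 0xc00800a01000400200300600b002021001000003)) .nil)))))))) (.cD (nat_lit 32) (.kF (nat_lit 16) (nat_lit 0x100400100c012004002002000003)) (.cD (nat_lit 40) (.kF (nat_lit 16) (nat_lit 0x100400100c012004002002000003)) (.cD (nat_lit 48) (.kF (nat_lit 16) (nat_lit 0x2100100000e014006001006001003)) (.cD (nat_lit 56) (.kF (nat_lit 16) (nat_lit 0x2100100000a014006001006001003)) .nil)))))))) (.cD (nat_lit 16) (.kF (nat_lit 4) (nat_lit 0x2002000001003001002)) (.cD (nat_lit 20) (.kF (nat_lit 4) (nat_lit 0xe01e003001003001002)) (.cD (nat_lit 24) (.kF (nat_lit 4) (nat_lit 0x1002001002012004002002000003)) (.cD (nat_lit 32) (.dfs (nat_lit 16) (nat_lit 4098) (nat_lit 4098)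 (nat_lit 4097) (nat_lit 4097) (nat_lit 0) (nat_lit 0) (nat_lit 3) (nat_lit 0) (nat_lit 0) (nat_lit 0) (nat_lit 1) (nat_lit 0) (nat_lit 0x1008004) (nat_lit 32772) (nat_lit 0x1001004000008001014000018) (nat_lit 0x1000101110110) (.cD (nat_lit 4) (.kF (nat_lit 16) (nat_lit 0x21001000001006001002)) (.cD (nat_lit 8) (.kF (nat_lit 16) (nat_lit 0x100400100c012004002002000003)) (.cD (nat_lit 16) (.dfs (nat_lit 32) (nat_lit 4100) (nat_lit 4100) (nat_lit 0x1002001) (nat_lit 0x1002001) (nat_lit 0) (nat_lit 0) (nat_lit 3) (nat_lit 0) (nat_lit 0) (nat_lit 0) (nat_lit 1) (nat_lit 0) (nat_lit 0x1008004) (nat_lit 32772) (nat_lit 0x1001004000008001014000018) (nat_lit 0x1000101110110) (.cD (nat_lit 4) (.kA true (nat_lit 0x100400600c002021001000002)) (.cD (nat_lit 8) (.kA false (nat_lit 0x300400200c002021001000002)) (.cD (nat_lit 16) (.kc (nat_lit 48) (nat_lit 0x3001001)) (.cD (nat_lit 20) (.kA true (nat_lit 0x300400600c002021001000002)) (.cD (nat_lit 24) (.kA false (nat_lit 0x100400200c002021001000002))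 (.cD (nat_lit 32) (.kc (nat_lit 36) (nat_lit 0x5001001)) (.cD (nat_lit 48) (.kc (nat_lit 52) (nat_lit 0x7001001)) .nil)))))))) (.cD (nat_lit 20) (.dfs (nat_lit 32) (nat_lit 4100) (nat_lit 4100) (nat_lit 0x1002001) (nat_lit 0x1002001) (nat_lit 0) (nat_lit 0) (nat_lit 3) (nat_lit 0) (nat_lit 0) (nat_lit 0) (nat_lit 1) (nat_lit 0) (nat_lit 1) (nat_lit 0) (nat_lit 1) (nat_lit 0x11001100110010) (.cD (nat_lit 4) (.kA true (nat_lit 0x100400700c002021001000002)) (.cD (nat_lit 16) (.kA true (nat_lit 0x300400500c002021001000002)) (.cD (nat_lit 20) (.kc (nat_lit 48) (nat_lit 0x3001001)) (.cD (nat_lit 32) (.kc (nat_lit 36) (nat_lit 0x5001001)) (.cD (nat_lit 36) (.dfs (nat_lit 9) (nat_lit 4100) (nat_lit 4101) (nat_lit 1) (nat_lit 1) (nat_lit 3) (nat_lit 0) (nat_lit 1) (nat_lit 4128) (nat_lit 0x40020010008004002021) (nat_lit 0) (nat_lit 1) (nat_lit 0) (nat_lit 1) (nat_lit 0) (nat_lit 1) (nat_lit 0) .nil) (.cD (nat_lit 48) (.kA true (nat_lit 0x700400100c002021001000002)) (.cD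 (nat_lit 52) (.kc (nat_lit 52) (nat_lit 0x7001001)) .nil)))))))) (.cD (nat_lit 24) (.kF (nat_lit 16) (nat_lit 0x21001000001006001002)) (.cD (nat_lit 32) (.kc (nat_lit 20) (nat_lit 0x3001001)) (.cD (nat_lit 48) (.dfs (nat_lit 32) (nat_lit 4100) (nat_lit 4100) (nat_lit 0x1002001) (nat_lit 0x1002001) (nat_lit 0) (nat_lit 0) (nat_lit 3) (nat_lit 0) (nat_lit 0) (nat_lit 0) (nat_lit 1) (nat_lit 0) (nat_lit 0x1008004) (nat_lit 32772) (nat_lit 0x1001004000008001014000018) (nat_lit 0x1000101110110) (.cD (nat_lit 4) (.kA true (nat_lit 0x100400200c002021001000002)) (.cD (nat_lit 8) (.kA false (nat_lit 0x700400600c002021001000002)) (.cD (nat_lit 16) (.kc (nat_lit 52) (nat_lit 0x7001001)) (.cD (nat_lit 20) (.kA true (nat_lit 0x700400200c002021001000002)) (.cD (nat_lit 24) (.kA false (nat_lit 0x100400600c002021001000002)) (.cD (nat_lit 32) (.kc (nat_lit 36) (nat_lit 0x5001001)) (.cD (nat_lit 48) (.kc (nat_lit 48) (nat_lit 0x3001001)) .nil)))))))) .nil)))))))) (.cD (nat_lit 48)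 (.kF (nat_lit 4) (nat_lit 0x1002001002012004002002000003)) .nil))))))))))
theorem c176 : (chk [] [] p176).n x101 s176 = true := by decide +kernel
noncomputable def p177 : Pf := (.anc (nat_lit 68) (nat_lit 0x10002002002000002) (nat_lit 0x1009020010004) (.czp (nat_lit 64) (nat_lit 0) (nat_lit 0x1040020010008004) z6 (.dfs (nat_lit 4) (nat_lit 4097) (nat_lit 4097) (nat_lit 1) (nat_lit 1) (nat_lit 0) (nat_lit 0) (nat_lit 3) (nat_lit 0) (nat_lit 0) (nat_lit 0) (nat_lit 1) (nat_lit 0) (nat_lit 0x1008004) (nat_lit 32772) (nat_lit 0x1001004000008001014000018) (nat_lit 0x1000101110110) (.cD (nat_lit 4) (.dfs (nat_lit 16) (nat_lit 4098) (nat_lit 4098) (nat_lit 4097) (nat_lit 4097) (nat_lit 0) (nat_lit 0) (nat_lit 3) (nat_lit 0) (nat_lit 0) (nat_lit 0) (nat_lit 1) (nat_lit 0) (nat_lit 1) (nat_lit 0) (nat_lit 1) (nat_lit 0x11001100110010) (.cD (nat_lit 4) (.kc (nat_lit 20) (nat_lit 0x3001001)) (.cD (nat_lit 16) (.dfs (nat_lit 32) (nat_lit 4100) (nat_lit 4100) (nat_lit 0x1002001)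 (nat_lit 0x1002001) (nat_lit 0) (nat_lit 0) (nat_lit 3) (nat_lit 0) (nat_lit 0) (nat_lit 0) (nat_lit 1) (nat_lit 0) (nat_lit 1) (nat_lit 0) (nat_lit 1) (nat_lit 0x11001100110010) (.cD (nat_lit 4) (.kc (nat_lit 36) (nat_lit 0x5001001)) (.cD (nat_lit 16) (.kc (nat_lit 48) (nat_lit 0x3001001)) (.cD (nat_lit 20) (.kc (nat_lit 52) (nat_lit 0x7001001)) (.cD (nat_lit 32) (.dfs (nat_lit 9) (nat_lit 0x1004001003008) (nat_lit 0x1005001003008) (nat_lit 4098) (nat_lit 4098) (nat_lit 1) (nat_lit 0) (nat_lit 2) (nat_lit 1) (nat_lit 0) (nat_lit 8) (nat_lit 1) (nat_lit 0) (nat_lit 4100) (nat_lit 4) (nat_lit 0x100000c00001c) (nat_lit 0x10001000) (.cD (nat_lit 12) (.kA false (nat_lit 0xd00200401000100200200000f002004016002033003000004)) (.cD (nat_lit 28) (.kA false (nat_lit 0x900200401000100200200000b002004016002033003000004)) .nil))) (.cD (nat_lit 36) (.kA true (nat_lit 0x3100100000400100300d001031001000003)) (.cD (nat_lit 48) (.kA true (nat_lit 0x600800401000400400100300d001031001000003))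 (.cD (nat_lit 52) (.kA true (nat_lit 0x5004003008001008004002005007031001000003)) .nil)))))))) (.cD (nat_lit 20) (.dfs (nat_lit 32) (nat_lit 4100) (nat_lit 4100) (nat_lit 0x1002001) (nat_lit 0x1002001) (nat_lit 0) (nat_lit 0) (nat_lit 3) (nat_lit 0) (nat_lit 0) (nat_lit 0) (nat_lit 1) (nat_lit 0) (nat_lit 1) (nat_lit 0) (nat_lit 1) (nat_lit 0x11001100110010) (.cD (nat_lit 4) (.kc (nat_lit 36) (nat_lit 0x5001001)) (.cD (nat_lit 16) (.kc (nat_lit 52) (nat_lit 0x7001001)) (.cD (nat_lit 20) (.kc (nat_lit 48) (nat_lit 0x3001001)) (.cD (nat_lit 32) (.kA true (nat_lit 0x5004003008001008004002005007031001000003)) (.cD (nat_lit 36) (.dfs (nat_lit 9) (nat_lit 4102) (nat_lit 4103) (nat_lit 1) (nat_lit 1) (nat_lit 1) (nat_lit 0) (nat_lit 1) (nat_lit 4112) (nat_lit 0x40020010008004002031) (nat_lit 0) (nat_lit 1) (nat_lit 0) (nat_lit 1) (nat_lit 0) (nat_lit 1) (nat_lit 0) .nil) (.cD (nat_lit 48) (.kA true (nat_lit 0x400300500800100400100300c001002)) (.cD (nat_lit 52) (.kA true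 (nat_lit 0x400700100800100400100300c001002)) .nil)))))))) (.cD (nat_lit 32) (.kF (nat_lit 16) (nat_lit 0x100400100c012004002002000003)) (.cD (nat_lit 36) (.kF (nat_lit 16) (nat_lit 0x100400100c012004002002000003)) (.cD (nat_lit 48) (.dfs (nat_lit 32) (nat_lit 4100) (nat_lit 4100) (nat_lit 0x1002001) (nat_lit 0x1002001) (nat_lit 0) (nat_lit 0) (nat_lit 3) (nat_lit 0) (nat_lit 0) (nat_lit 0) (nat_lit 1) (nat_lit 0) (nat_lit 1) (nat_lit 0) (nat_lit 1) (nat_lit 0x11001100110010) (.cD (nat_lit 4) (.kc (nat_lit 36) (nat_lit 0x5001001)) (.cD (nat_lit 16) (.kA true (nat_lit 0x400200100800100400100300c001002)) (.cD (nat_lit 20) (.kA true (nat_lit 0x400600500800100400100300c001002)) (.cD (nat_lit 32) (.kA true (nat_lit 0x5004003008001008004002005007031001000003)) (.cD (nat_lit 36) (.kA true (nat_lit 0x400500600800100400100300c001002)) (.cD (nat_lit 48) (.kc (nat_lit 48) (nat_lit 0x3001001)) (.cD (nat_lit 52) (.kc (nat_lit 52) (nat_lit 0x7001001)) .nil)))))))) (.cD (nat_lit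 52) (.dfs (nat_lit 32) (nat_lit 4100) (nat_lit 4100) (nat_lit 0x1002001) (nat_lit 0x1002001) (nat_lit 0) (nat_lit 0) (nat_lit 3) (nat_lit 0) (nat_lit 0) (nat_lit 0) (nat_lit 1) (nat_lit 0) (nat_lit 1) (nat_lit 0) (nat_lit 1) (nat_lit 0x11001100110010) (.cD (nat_lit 4) (.kc (nat_lit 36) (nat_lit 0x5001001)) (.cD (nat_lit 16) (.kA true (nat_lit 0x400200500800100400100300c001002)) (.cD (nat_lit 20) (.kA true (nat_lit 0x400600100800100400100300c001002)) (.cD (nat_lit 32) (.kA true (nat_lit 0x5004003008001008004002005007031001000003)) (.cD (nat_lit 36) (.kA true (nat_lit 0x400500200800100400100300c001002)) (.cD (nat_lit 48) (.kc (nat_lit 52) (nat_lit 0x7001001)) (.cD (nat_lit 52) (.kc (nat_lit 48) (nat_lit 0x3001001)) .nil)))))))) .nil)))))))) (.cD (nat_lit 8) (.dfs (nat_lit 16) (nat_lit 4098) (nat_lit 4098) (nat_lit 4097) (nat_lit 4097) (nat_lit 0) (nat_lit 0) (nat_lit 3) (nat_lit 0) (nat_lit 0) (nat_lit 0) (nat_lit 1) (nat_lit 0) (nat_lit 1) (nat_lit 0) (nat_lit 1)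 (nat_lit 0x101010101010100) (.cD (nat_lit 8) (.kc (nat_lit 20) (nat_lit 0x3001001)) (.cD (nat_lit 16) (.dfs (nat_lit 32) (nat_lit 4100) (nat_lit 4100) (nat_lit 0x1002001) (nat_lit 0x1002001) (nat_lit 0) (nat_lit 0) (nat_lit 3) (nat_lit 0) (nat_lit 0) (nat_lit 0) (nat_lit 1) (nat_lit 0) (nat_lit 1) (nat_lit 0) (nat_lit 1) (nat_lit 0x101010101010100) (.cD (nat_lit 8) (.kc (nat_lit 36) (nat_lit 0x5001001)) (.cD (nat_lit 16) (.kc (nat_lit 48) (nat_lit 0x3001001)) (.cD (nat_lit 24) (.kc (nat_lit 52) (nat_lit 0x7001001)) (.cD (nat_lit 32) (.kA false (nat_lit 0x700400200c00200a004008014005031001000003)) (.cD (nat_lit 40) (.kA false (nat_lit 0x3100100000600500200d002031001000003)) (.cD (nat_lit 48) (.kA false (nat_lit 0xa00800c01000400600300200b002031001000003)) (.cD (nat_lit 56) (.kA false (nat_lit 0x100400200c00200a004008014005031001000003)) .nil)))))))) (.cD (nat_lit 24) (.dfs (nat_lit 32) (nat_lit 4100) (nat_lit 4100) (nat_lit 0x1002001) (nat_lit 0x1002001) (nat_lit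 0) (nat_lit 0) (nat_lit 3) (nat_lit 0) (nat_lit 0) (nat_lit 0) (nat_lit 1) (nat_lit 0) (nat_lit 1) (nat_lit 0) (nat_lit 1) (nat_lit 0x101010101010100) (.cD (nat_lit 8) (.kc (nat_lit 36) (nat_lit 0x5001001)) (.cD (nat_lit 16) (.kc (nat_lit 52) (nat_lit 0x7001001)) (.cD (nat_lit 24) (.kc (nat_lit 48) (nat_lit 0x3001001)) (.cD (nat_lit 32) (.kA false (nat_lit 0x300400600c00200a004008014005031001000003)) (.cD (nat_lit 40) (.kA false (nat_lit 0x3100100000200500600d002031001000003)) (.cD (nat_lit 48) (.kA false (nat_lit 0x500400600c00200a004008014005031001000003)) (.cD (nat_lit 56) (.kA false (nat_lit 0xc00800a01000400200300600b002031001000003)) .nil)))))))) (.cD (nat_lit 32) (.kF (nat_lit 16) (nat_lit 0x100400100c012004002002000003)) (.cD (nat_lit 40) (.kF (nat_lit 16) (nat_lit 0x100400100c012004002002000003)) (.cD (nat_lit 48) (.kF (nat_lit 16) (nat_lit 0x3100100000e014006001006001003)) (.cD (nat_lit 56) (.kF (nat_lit 16) (nat_lit 0x3100100000a014006001006001003)) .nil))))))))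 (.cD (nat_lit 16) (.kF (nat_lit 4) (nat_lit 0x2002000001003001002)) (.cD (nat_lit 20) (.kF (nat_lit 4) (nat_lit 0xe01e003001003001002)) (.cD (nat_lit 24) (.kF (nat_lit 4) (nat_lit 0x1002001002012004002002000003)) (.cD (nat_lit 32) (.dfs (nat_lit 16) (nat_lit 4098) (nat_lit 4098) (nat_lit 4097) (nat_lit 4097) (nat_lit 0) (nat_lit 0) (nat_lit 3) (nat_lit 0) (nat_lit 0) (nat_lit 0) (nat_lit 1) (nat_lit 0) (nat_lit 0x1008004) (nat_lit 32772) (nat_lit 0x1001004000008001014000018) (nat_lit 0x1000101110110) (.cD (nat_lit 4) (.kF (nat_lit 16) (nat_lit 0x31001000001006001002)) (.cD (nat_lit 8) (.kF (nat_lit 16) (nat_lit 0x100400100c012004002002000003)) (.cD (nat_lit 16) (.dfs (nat_lit 32) (nat_lit 4100) (nat_lit 4100) (nat_lit 0x1002001) (nat_lit 0x1002001) (nat_lit 0) (nat_lit 0) (nat_lit 3) (nat_lit 0) (nat_lit 0) (nat_lit 0) (nat_lit 1) (nat_lit 0) (nat_lit 0x1008004) (nat_lit 32772) (nat_lit 0x1001004000008001014000018) (nat_lit 0x1000101110110) (.cD (nat_lit 4) (.kA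 true (nat_lit 0x100400600c002031001000002)) (.cD (nat_lit 8) (.kA false (nat_lit 0x300400200c002031001000002)) (.cD (nat_lit 16) (.kc (nat_lit 48) (nat_lit 0x3001001)) (.cD (nat_lit 20) (.kA true (nat_lit 0x300400600c002031001000002)) (.cD (nat_lit 24) (.kA false (nat_lit 0x100400200c002031001000002)) (.cD (nat_lit 32) (.kc (nat_lit 36) (nat_lit 0x5001001)) (.cD (nat_lit 48) (.kc (nat_lit 52) (nat_lit 0x7001001)) .nil)))))))) (.cD (nat_lit 20) (.dfs (nat_lit 32) (nat_lit 4100) (nat_lit 4100) (nat_lit 0x1002001) (nat_lit 0x1002001) (nat_lit 0) (nat_lit 0) (nat_lit 3) (nat_lit 0) (nat_lit 0) (nat_lit 0) (nat_lit 1) (nat_lit 0) (nat_lit 1) (nat_lit 0) (nat_lit 1) (nat_lit 0x11001100110010) (.cD (nat_lit 4) (.kA true (nat_lit 0x100400700c002031001000002)) (.cD (nat_lit 16) (.kA true (nat_lit 0x300400500c002031001000002)) (.cD (nat_lit 20) (.kc (nat_lit 48) (nat_lit 0x3001001)) (.cD (nat_lit 32) (.kc (nat_lit 36) (nat_lit 0x5001001)) (.cD (nat_lit 36) (.dfs (nat_lit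 9) (nat_lit 4100) (nat_lit 4101) (nat_lit 1) (nat_lit 1) (nat_lit 1) (nat_lit 0) (nat_lit 1) (nat_lit 4128) (nat_lit 0x40020010008004002031) (nat_lit 0) (nat_lit 1) (nat_lit 0) (nat_lit 1) (nat_lit 0) (nat_lit 1) (nat_lit 0) .nil) (.cD (nat_lit 48) (.kA true (nat_lit 0x700400100c002031001000002)) (.cD (nat_lit 52) (.kc (nat_lit 52) (nat_lit 0x7001001)) .nil)))))))) (.cD (nat_lit 24) (.kF (nat_lit 16) (nat_lit 0x31001000001006001002)) (.cD (nat_lit 32) (.kc (nat_lit 20) (nat_lit 0x3001001)) (.cD (nat_lit 48) (.dfs (nat_lit 32) (nat_lit 4100) (nat_lit 4100) (nat_lit 0x1002001) (nat_lit 0x1002001) (nat_lit 0) (nat_lit 0) (nat_lit 3) (nat_lit 0) (nat_lit 0) (nat_lit 0) (nat_lit 1) (nat_lit 0) (nat_lit 0x1008004) (nat_lit 32772) (nat_lit 0x1001004000008001014000018) (nat_lit 0x1000101110110) (.cD (nat_lit 4) (.kA true (nat_lit 0x100400200c002031001000002)) (.cD (nat_lit 8) (.kA false (nat_lit 0x700400600c002031001000002)) (.cD (nat_lit 16) (.kc (nat_lit 52) (nat_lit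 0x7001001)) (.cD (nat_lit 20) (.kA true (nat_lit 0x700400200c002031001000002)) (.cD (nat_lit 24) (.kA false (nat_lit 0x100400600c002031001000002)) (.cD (nat_lit 32) (.kc (nat_lit 36) (nat_lit 0x5001001)) (.cD (nat_lit 48) (.kc (nat_lit 48) (nat_lit 0x3001001)) .nil)))))))) .nil)))))))) (.cD (nat_lit 48) (.kF (nat_lit 4) (nat_lit 0x1002001002012004002002000003)) .nil))))))))))
theorem c177 : (chk [] [] p177).n x102 s177 = true := by decide +kernel
noncomputable def p178 : Pf := (.anc (nat_lit 72) (nat_lit 0x31001000014004002) (nat_lit 0x1007020010008) (.czp (nat_lit 64) (nat_lit 0) (nat_lit 0x1040020010008004) z6 (.dfs (nat_lit 8) (nat_lit 4097) (nat_lit 4097) (nat_lit 1) (nat_lit 1) (nat_lit 0) (nat_lit 0) (nat_lit 3) (nat_lit 0) (nat_lit 0) (nat_lit 0) (nat_lit 1) (nat_lit 0) (nat_lit 0x1008004) (nat_lit 32772) (nat_lit 0x1001004000008001014000018) (nat_lit 0x1000101110110) (.cD (nat_lit 4) (.dfs (nat_lit 16) (nat_lit 4098) (nat_lit 4098) (nat_lit 4097) (nat_lit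 4097) (nat_lit 0) (nat_lit 0) (nat_lit 3) (nat_lit 0) (nat_lit 0) (nat_lit 0) (nat_lit 1) (nat_lit 0) (nat_lit 1) (nat_lit 0) (nat_lit 1) (nat_lit 0x11001100110010) (.cD (nat_lit 4) (.kc (nat_lit 24) (nat_lit 0x3001001)) (.cD (nat_lit 16) (.dfs (nat_lit 32) (nat_lit 4100) (nat_lit 4100) (nat_lit 0x1002001) (nat_lit 0x1002001) (nat_lit 0) (nat_lit 0) (nat_lit 3) (nat_lit 0) (nat_lit 0) (nat_lit 0) (nat_lit 1) (nat_lit 0) (nat_lit 1) (nat_lit 0) (nat_lit 1) (nat_lit 0x11001100110010) (.cD (nat_lit 4) (.kc (nat_lit 40) (nat_lit 0x5001001)) (.cD (nat_lit 16) (.kc (nat_lit 48) (nat_lit 0x3001001)) (.cD (nat_lit 20) (.kc (nat_lit 56) (nat_lit 0x7001001)) (.cD (nat_lit 32) (.kA false (nat_lit 0x700400200800100a004008014005031001000003)) (.cD (nat_lit 36) (.kA false (nat_lit 0x3100100000600100200d001031001000003)) (.cD (nat_lit 48) (.kA false (nat_lit 0xa00800c01000400600100200d001031001000003)) (.cD (nat_lit 52) (.kA false (nat_lit 0x700400200800100a004008014005031001000003))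 .nil)))))))) (.cD (nat_lit 20) (.dfs (nat_lit 32) (nat_lit 4100) (nat_lit 4100) (nat_lit 0x1002001) (nat_lit 0x1002001) (nat_lit 0) (nat_lit 0) (nat_lit 3) (nat_lit 0) (nat_lit 0) (nat_lit 0) (nat_lit 1) (nat_lit 0) (nat_lit 1) (nat_lit 0) (nat_lit 1) (nat_lit 0x11001100110010) (.cD (nat_lit 4) (.kc (nat_lit 40) (nat_lit 0x5001001)) (.cD (nat_lit 16) (.kc (nat_lit 56) (nat_lit 0x7001001)) (.cD (nat_lit 20) (.kc (nat_lit 48) (nat_lit 0x3001001)) (.cD (nat_lit 32) (.kA false (nat_lit 0x700400200800100a004008014005031001000003)) (.cD (nat_lit 36) (.kA false (nat_lit 0x3100100000600100200d001031001000003)) (.cD (nat_lit 48) (.kA false (nat_lit 0xc00800a01000400600100200d001031001000003)) (.cD (nat_lit 52) (.kA false (nat_lit 0x700400200800100a004008014005031001000003)) .nil)))))))) (.cD (nat_lit 32) (.kF (nat_lit 16) (nat_lit 0x4010004002002000001006001003)) (.cD (nat_lit 36) (.kF (nat_lit 16) (nat_lit 0x31001000001007001002002000003)) (.cD (nat_lit 48) (.dfs (nat_lit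 32) (nat_lit 4100) (nat_lit 4100) (nat_lit 0x1002001) (nat_lit 0x1002001) (nat_lit 0) (nat_lit 0) (nat_lit 3) (nat_lit 0) (nat_lit 0) (nat_lit 0) (nat_lit 1) (nat_lit 0) (nat_lit 1) (nat_lit 0) (nat_lit 1) (nat_lit 0x11001100110010) (.cD (nat_lit 4) (.kc (nat_lit 40) (nat_lit 0x5001001)) (.cD (nat_lit 16) (.kA false (nat_lit 0xa00c00801e00300600100200d001031001000003)) (.cD (nat_lit 20) (.kA false (nat_lit 0x200200000600100200d001031001000003)) (.cD (nat_lit 32) (.kA false (nat_lit 0x700400200800100a004008014005031001000003)) (.cD (nat_lit 36) (.kA false (nat_lit 0x3100100000600100200d001031001000003)) (.cD (nat_lit 48) (.kc (nat_lit 48) (nat_lit 0x3001001)) (.cD (nat_lit 52) (.kc (nat_lit 56) (nat_lit 0x7001001)) .nil)))))))) (.cD (nat_lit 52) (.dfs (nat_lit 32) (nat_lit 4100) (nat_lit 4100) (nat_lit 0x1002001) (nat_lit 0x1002001) (nat_lit 0) (nat_lit 0) (nat_lit 3) (nat_lit 0) (nat_lit 0) (nat_lit 0) (nat_lit 1) (nat_lit 0) (nat_lit 1) (nat_lit 0) (nat_lit 1)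 (nat_lit 0x11001100110010) (.cD (nat_lit 4) (.kc (nat_lit 40) (nat_lit 0x5001001)) (.cD (nat_lit 16) (.kA false (nat_lit 0x800c00a01e00300600100200d001031001000003)) (.cD (nat_lit 20) (.kA false (nat_lit 0x200200000600100200d001031001000003)) (.cD (nat_lit 32) (.kA false (nat_lit 0x700400200800100a004008014005031001000003)) (.cD (nat_lit 36) (.kA false (nat_lit 0x3100100000600100200d001031001000003)) (.cD (nat_lit 48) (.kc (nat_lit 56) (nat_lit 0x7001001)) (.cD (nat_lit 52) (.kc (nat_lit 48) (nat_lit 0x3001001)) .nil)))))))) .nil)))))))) (.cD (nat_lit 8) (.dfs (nat_lit 16) (nat_lit 4098) (nat_lit 4098) (nat_lit 4097) (nat_lit 4097) (nat_lit 0) (nat_lit 0) (nat_lit 3) (nat_lit 0) (nat_lit 0) (nat_lit 0) (nat_lit 1) (nat_lit 0) (nat_lit 1) (nat_lit 0) (nat_lit 1) (nat_lit 0x101010101010100) (.cD (nat_lit 8) (.kc (nat_lit 24) (nat_lit 0x3001001)) (.cD (nat_lit 16) (.dfs (nat_lit 32) (nat_lit 4100) (nat_lit 4100) (nat_lit 0x1002001) (nat_lit 0x1002001) (nat_lit 0) (nat_lit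 0) (nat_lit 3) (nat_lit 0) (nat_lit 0) (nat_lit 0) (nat_lit 1) (nat_lit 0) (nat_lit 1) (nat_lit 0) (nat_lit 1) (nat_lit 0x101010101010100) (.cD (nat_lit 8) (.kc (nat_lit 40) (nat_lit 0x5001001)) (.cD (nat_lit 16) (.kc (nat_lit 48) (nat_lit 0x3001001)) (.cD (nat_lit 24) (.kc (nat_lit 56) (nat_lit 0x7001001)) (.cD (nat_lit 32) (.kA false (nat_lit 0x700400200800100a004008014005031001000003)) (.cD (nat_lit 40) (.kA false (nat_lit 0x3100100000600100200d001031001000003)) (.cD (nat_lit 48) (.dfs (nat_lit 7) (nat_lit 0x1004003002008) (nat_lit 0x1007003002008) (nat_lit 4097) (nat_lit 4097) (nat_lit 2) (nat_lit 0) (nat_lit 2) (nat_lit 0) (nat_lit 0) (nat_lit 4) (nat_lit 1) (nat_lit 0) (nat_lit 1) (nat_lit 0) (nat_lit 1) (nat_lit 0) .nil) (.cD (nat_lit 56) (.dfs (nat_lit 7) (nat_lit 4101) (nat_lit 4102) (nat_lit 1) (nat_lit 1) (nat_lit 2) (nat_lit 0) (nat_lit 1) (nat_lit 4144) (nat_lit 0x40020010008004002031) (nat_lit 0) (nat_lit 1) (nat_lit 0) (nat_lit 1) (nat_lit 0) (nat_lit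 1) (nat_lit 0) .nil) .nil)))))))) (.cD (nat_lit 24) (.dfs (nat_lit 32) (nat_lit 4100) (nat_lit 4100) (nat_lit 0x1002001) (nat_lit 0x1002001) (nat_lit 0) (nat_lit 0) (nat_lit 3) (nat_lit 0) (nat_lit 0) (nat_lit 0) (nat_lit 1) (nat_lit 0) (nat_lit 1) (nat_lit 0) (nat_lit 1) (nat_lit 0x101010101010100) (.cD (nat_lit 8) (.kc (nat_lit 40) (nat_lit 0x5001001)) (.cD (nat_lit 16) (.kc (nat_lit 56) (nat_lit 0x7001001)) (.cD (nat_lit 24) (.kc (nat_lit 48) (nat_lit 0x3001001)) (.cD (nat_lit 32) (.kA false (nat_lit 0x700400200800100a004008014005031001000003)) (.cD (nat_lit 40) (.kA false (nat_lit 0x3100100000600100200d001031001000003)) (.cD (nat_lit 48) (.kA false (nat_lit 0x700400200800100a004008014005031001000003)) (.cD (nat_lit 56) (.kA false (nat_lit 0x700400200800100a004008014005031001000003)) .nil)))))))) (.cD (nat_lit 32) (.kF (nat_lit 8) (nat_lit 0x3006002004004000002007001002002000004)) (.cD (nat_lit 40) (.kF (nat_lit 8) (nat_lit 0x31001000002007001002002000003)) (.cD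 (nat_lit 48) (.kF (nat_lit 16) (nat_lit 0x3100100000e014006001006001003)) (.cD (nat_lit 56) (.kF (nat_lit 16) (nat_lit 0x3100100000a014006001006001003)) .nil)))))))) (.cD (nat_lit 16) (.kF (nat_lit 8) (nat_lit 0x2002000001003001002)) (.cD (nat_lit 20) (.kF (nat_lit 8) (nat_lit 0xe01e003001003001002)) (.cD (nat_lit 24) (.kF (nat_lit 8) (nat_lit 0x31001000002016005031001000001003001004)) (.cD (nat_lit 32) (.dfs (nat_lit 16) (nat_lit 4098) (nat_lit 4098) (nat_lit 4097) (nat_lit 4097) (nat_lit 0) (nat_lit 0) (nat_lit 3) (nat_lit 0) (nat_lit 0) (nat_lit 0) (nat_lit 1) (nat_lit 0) (nat_lit 0x1008004) (nat_lit 32772) (nat_lit 0x1001004000008001014000018) (nat_lit 0x1000101110110) (.cD (nat_lit 4) (.kF (nat_lit 16) (nat_lit 0x31001000001006001002)) (.cD (nat_lit 8) (.kF (nat_lit 8) (nat_lit 0x31001000004016005002007001002002000004)) (.cD (nat_lit 16) (.dfs (nat_lit 32) (nat_lit 4100) (nat_lit 4100) (nat_lit 0x1002001) (nat_lit 0x1002001) (nat_lit 0) (nat_lit 0) (nat_lit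 3) (nat_lit 0) (nat_lit 0) (nat_lit 0) (nat_lit 1) (nat_lit 0) (nat_lit 0x1008004) (nat_lit 32772) (nat_lit 0x1001004000008001014000018) (nat_lit 0x1000101110110) (.cD (nat_lit 4) (.kA false (nat_lit 0x3100100000400100200c001002)) (.cD (nat_lit 8) (.kA false (nat_lit 0x300400200c002031001000002)) (.cD (nat_lit 16) (.kc (nat_lit 48) (nat_lit 0x3001001)) (.cD (nat_lit 20) (.kA false (nat_lit 0x3100100000400100200c001002)) (.cD (nat_lit 24) (.dfs (nat_lit 7) (nat_lit 4100) (nat_lit 4103) (nat_lit 1) (nat_lit 1) (nat_lit 2) (nat_lit 0) (nat_lit 1) (nat_lit 4128) (nat_lit 0x40020010008004002031) (nat_lit 0) (nat_lit 1) (nat_lit 0) (nat_lit 1) (nat_lit 0) (nat_lit 1) (nat_lit 0) .nil) (.cD (nat_lit 32) (.kc (nat_lit 40) (nat_lit 0x5001001)) (.cD (nat_lit 48) (.kc (nat_lit 56) (nat_lit 0x7001001)) .nil)))))))) (.cD (nat_lit 20) (.dfs (nat_lit 32) (nat_lit 4100) (nat_lit 4100) (nat_lit 0x1002001) (nat_lit 0x1002001) (nat_lit 0) (nat_lit 0) (nat_lit 3) (nat_lit 0) (nat_lit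 0) (nat_lit 0) (nat_lit 1) (nat_lit 0) (nat_lit 1) (nat_lit 0) (nat_lit 1) (nat_lit 0x11001100110010) (.cD (nat_lit 4) (.kA false (nat_lit 0x3100100000400100200c001002)) (.cD (nat_lit 16) (.kA false (nat_lit 0x3100100000400100200c001002)) (.cD (nat_lit 20) (.kc (nat_lit 48) (nat_lit 0x3001001)) (.cD (nat_lit 32) (.kc (nat_lit 40) (nat_lit 0x5001001)) (.cD (nat_lit 36) (.kA false (nat_lit 0x3100100000400100200c001002)) (.cD (nat_lit 48) (.kA false (nat_lit 0x3100100000400100200c001002)) (.cD (nat_lit 52) (.kc (nat_lit 56) (nat_lit 0x7001001)) .nil)))))))) (.cD (nat_lit 24) (.kF (nat_lit 16) (nat_lit 0x31001000001006001002)) (.cD (nat_lit 32) (.kc (nat_lit 24) (nat_lit 0x3001001)) (.cD (nat_lit 48) (.dfs (nat_lit 32) (nat_lit 4100) (nat_lit 4100) (nat_lit 0x1002001) (nat_lit 0x1002001) (nat_lit 0) (nat_lit 0) (nat_lit 3) (nat_lit 0) (nat_lit 0) (nat_lit 0) (nat_lit 1) (nat_lit 0) (nat_lit 0x1008004) (nat_lit 32772) (nat_lit 0x1001004000008001014000018) (nat_lit 0x1000101110110)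 (.cD (nat_lit 4) (.kA false (nat_lit 0x3100100000400100200c001002)) (.cD (nat_lit 8) (.kA false (nat_lit 0x700400600c002031001000002)) (.cD (nat_lit 16) (.kc (nat_lit 56) (nat_lit 0x7001001)) (.cD (nat_lit 20) (.kA false (nat_lit 0x3100100000400100200c001002)) (.cD (nat_lit 24) (.kA false (nat_lit 0x100400600c002031001000002)) (.cD (nat_lit 32) (.kc (nat_lit 40) (nat_lit 0x5001001)) (.cD (nat_lit 48) (.kc (nat_lit 48) (nat_lit 0x3001001)) .nil)))))))) .nil)))))))) (.cD (nat_lit 48) (.kF (nat_lit 8) (nat_lit 0x33003000001003001002)) .nil))))))))))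
theorem c178 : (chk [] [] p178).n x103 s178 = true := by decide +kernel
noncomputable def p179 : Pf := (.lft (nat_lit 0x20008018001004002003001) (nat_lit 0) (nat_lit 0x1028020) (nat_lit 0x20010008004002001) (.extn a21 (nat_lit 0x20010008004002001) (nat_lit 0x1004010008020) (nat_lit 2) (nat_lit 0) (nat_lit 0) (nat_lit 0) (nat_lit 0x1010101) (.cE (nat_lit 0) b61 (nat_lit 0) (.cut (nat_lit 0)) (.cut (nat_lit 1)) (.cE (nat_lit 8) b62 (nat_lit 0) (.cut (nat_lit 2)) (.cut (nat_lit 3)) (.cE (nat_lit 16) b63 (nat_lit 0) (.cut (nat_lit 4)) (.cut (nat_lit 5)) (.cE (nat_lit 24) b64 (nat_lit 0) (.cut (nat_lit 6)) (.cut (nat_lit 7)) .nil))))))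
theorem c179 : (chk [(x96, s171), (x97, s172), (x98, s173), (x99, s174), (x100, s175), (x101, s176), (x102, s177), (x103, s178)] [] p179).n x87 s179 = true := by decide +kernel
noncomputable def p180 : Pf := (.anc (nat_lit 68) (nat_lit 0x10002002002000002) (nat_lit 0x1009020010004) (.czp (nat_lit 64) (nat_lit 0) (nat_lit 0x1040020010008004) z6 (.dfs (nat_lit 4) (nat_lit 4097) (nat_lit 4097) (nat_lit 1) (nat_lit 1) (nat_lit 0) (nat_lit 0) (nat_lit 3) (nat_lit 0) (nat_lit 0) (nat_lit 0) (nat_lit 1) (nat_lit 0) (nat_lit 0x1008004) (nat_lit 32772) (nat_lit 0x1001004000008001014000018) (nat_lit 0x1000101110110) (.cD (nat_lit 4) (.dfs (nat_lit 16) (nat_lit 4098) (nat_lit 4098) (nat_lit 4097) (nat_lit 4097) (nat_lit 0) (nat_lit 0) (nat_lit 3) (nat_lit 0) (nat_lit 0) (nat_lit 0) (nat_lit 1) (nat_lit 0) (nat_lit 1) (nat_lit 0) (nat_lit 1) (nat_lit 0x11001100110010) (.cD (nat_lit 4) (.kc (nat_lit 20) (nat_lit 0x3001001)) (.cD (nat_lit 16) (.dfs (nat_lit 32) (nat_lit 4100)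 (nat_lit 4100) (nat_lit 0x1002001) (nat_lit 0x1002001) (nat_lit 0) (nat_lit 0) (nat_lit 3) (nat_lit 0) (nat_lit 0) (nat_lit 0) (nat_lit 1) (nat_lit 0) (nat_lit 1) (nat_lit 0) (nat_lit 1) (nat_lit 0x11001100110010) (.cD (nat_lit 4) (.kc (nat_lit 36) (nat_lit 0x5001001)) (.cD (nat_lit 16) (.kc (nat_lit 48) (nat_lit 0x3001001)) (.cD (nat_lit 20) (.kc (nat_lit 52) (nat_lit 0x7001001)) (.cD (nat_lit 32) (.dfs (nat_lit 9) (nat_lit 0x1004001003008) (nat_lit 0x1005001003008) (nat_lit 4098) (nat_lit 4098) (nat_lit 2) (nat_lit 0) (nat_lit 2) (nat_lit 1) (nat_lit 0) (nat_lit 8) (nat_lit 1) (nat_lit 0) (nat_lit 1) (nat_lit 0) (nat_lit 1) (nat_lit 0) .nil) (.cD (nat_lit 36) (.kA true (nat_lit 0x100100000400100300d001001001000003)) (.cD (nat_lit 48) (.kA true (nat_lit 0x600800401000400400100300d001001001000003)) (.cD (nat_lit 52) (.kA true (nat_lit 0x5004003008001008004002005007001001000003)) .nil)))))))) (.cD (nat_lit 20) (.dfs (nat_lit 32) (nat_lit 4100) (nat_lit 4100) (nat_lit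 0x1002001) (nat_lit 0x1002001) (nat_lit 0) (nat_lit 0) (nat_lit 3) (nat_lit 0) (nat_lit 0) (nat_lit 0) (nat_lit 1) (nat_lit 0) (nat_lit 1) (nat_lit 0) (nat_lit 1) (nat_lit 0x11001100110010) (.cD (nat_lit 4) (.kc (nat_lit 36) (nat_lit 0x5001001)) (.cD (nat_lit 16) (.kc (nat_lit 52) (nat_lit 0x7001001)) (.cD (nat_lit 20) (.kc (nat_lit 48) (nat_lit 0x3001001)) (.cD (nat_lit 32) (.kA true (nat_lit 0x5004003008001008004002005007001001000003)) (.cD (nat_lit 36) (.dfs (nat_lit 9) (nat_lit 4102) (nat_lit 4103) (nat_lit 1) (nat_lit 1) (nat_lit 2) (nat_lit 0) (nat_lit 1) (nat_lit 4112) (nat_lit 0x40020010008004002001) (nat_lit 0) (nat_lit 1) (nat_lit 0) (nat_lit 1) (nat_lit 0) (nat_lit 1) (nat_lit 0) .nil) (.cD (nat_lit 48) (.kA true (nat_lit 0x400300500800100400100300c001002)) (.cD (nat_lit 52) (.kA true (nat_lit 0x400700100800100400100300c001002)) .nil)))))))) (.cD (nat_lit 32) (.kF (nat_lit 16) (nat_lit 0x100400100c012004002002000003)) (.cD (nat_lit 36) (.kF (nat_lit 16)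 (nat_lit 0x100400100c012004002002000003)) (.cD (nat_lit 48) (.dfs (nat_lit 32) (nat_lit 4100) (nat_lit 4100) (nat_lit 0x1002001) (nat_lit 0x1002001) (nat_lit 0) (nat_lit 0) (nat_lit 3) (nat_lit 0) (nat_lit 0) (nat_lit 0) (nat_lit 1) (nat_lit 0) (nat_lit 1) (nat_lit 0) (nat_lit 1) (nat_lit 0x11001100110010) (.cD (nat_lit 4) (.kc (nat_lit 36) (nat_lit 0x5001001)) (.cD (nat_lit 16) (.kA true (nat_lit 0x400200100800100400100300c001002)) (.cD (nat_lit 20) (.kA true (nat_lit 0x400600500800100400100300c001002)) (.cD (nat_lit 32) (.kA true (nat_lit 0x5004003008001008004002005007001001000003)) (.cD (nat_lit 36) (.kA true (nat_lit 0x400500600800100400100300c001002)) (.cD (nat_lit 48) (.kc (nat_lit 48) (nat_lit 0x3001001)) (.cD (nat_lit 52) (.kc (nat_lit 52) (nat_lit 0x7001001)) .nil)))))))) (.cD (nat_lit 52) (.dfs (nat_lit 32) (nat_lit 4100) (nat_lit 4100) (nat_lit 0x1002001) (nat_lit 0x1002001) (nat_lit 0) (nat_lit 0) (nat_lit 3) (nat_lit 0) (nat_lit 0) (nat_lit 0) (nat_lit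 1) (nat_lit 0) (nat_lit 1) (nat_lit 0) (nat_lit 1) (nat_lit 0x11001100110010) (.cD (nat_lit 4) (.kc (nat_lit 36) (nat_lit 0x5001001)) (.cD (nat_lit 16) (.kA true (nat_lit 0x400200500800100400100300c001002)) (.cD (nat_lit 20) (.kA true (nat_lit 0x400600100800100400100300c001002)) (.cD (nat_lit 32) (.kA true (nat_lit 0x5004003008001008004002005007001001000003)) (.cD (nat_lit 36) (.kA true (nat_lit 0x400500200800100400100300c001002)) (.cD (nat_lit 48) (.kc (nat_lit 52) (nat_lit 0x7001001)) (.cD (nat_lit 52) (.kc (nat_lit 48) (nat_lit 0x3001001)) .nil)))))))) .nil)))))))) (.cD (nat_lit 8) (.dfs (nat_lit 16) (nat_lit 4098) (nat_lit 4098) (nat_lit 4097) (nat_lit 4097) (nat_lit 0) (nat_lit 0) (nat_lit 3) (nat_lit 0) (nat_lit 0) (nat_lit 0) (nat_lit 1) (nat_lit 0) (nat_lit 1) (nat_lit 0) (nat_lit 1) (nat_lit 0x101010101010100) (.cD (nat_lit 8) (.kc (nat_lit 20) (nat_lit 0x3001001)) (.cD (nat_lit 16) (.dfs (nat_lit 32) (nat_lit 4100) (nat_lit 4100) (nat_lit 0x1002001) (nat_lit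 0x1002001) (nat_lit 0) (nat_lit 0) (nat_lit 3) (nat_lit 0) (nat_lit 0) (nat_lit 0) (nat_lit 1) (nat_lit 0) (nat_lit 1) (nat_lit 0) (nat_lit 1) (nat_lit 0x101010101010100) (.cD (nat_lit 8) (.kc (nat_lit 36) (nat_lit 0x5001001)) (.cD (nat_lit 16) (.kc (nat_lit 48) (nat_lit 0x3001001)) (.cD (nat_lit 24) (.kc (nat_lit 52) (nat_lit 0x7001001)) (.cD (nat_lit 32) (.kA false (nat_lit 0x700400200c00200a004008014005001001000003)) (.cD (nat_lit 40) (.kA false (nat_lit 0x100100000600500200d002001001000003)) (.cD (nat_lit 48) (.kA false (nat_lit 0xa00800c01000400600300200b002001001000003)) (.cD (nat_lit 56) (.kA false (nat_lit 0x100400200c00200a004008014005001001000003)) .nil)))))))) (.cD (nat_lit 24) (.dfs (nat_lit 32) (nat_lit 4100) (nat_lit 4100) (nat_lit 0x1002001) (nat_lit 0x1002001) (nat_lit 0) (nat_lit 0) (nat_lit 3) (nat_lit 0) (nat_lit 0) (nat_lit 0) (nat_lit 1) (nat_lit 0) (nat_lit 1) (nat_lit 0) (nat_lit 1) (nat_lit 0x101010101010100) (.cD (nat_lit 8) (.kc (nat_lit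 36) (nat_lit 0x5001001)) (.cD (nat_lit 16) (.kc (nat_lit 52) (nat_lit 0x7001001)) (.cD (nat_lit 24) (.kc (nat_lit 48) (nat_lit 0x3001001)) (.cD (nat_lit 32) (.kA false (nat_lit 0x300400600c00200a004008014005001001000003)) (.cD (nat_lit 40) (.kA false (nat_lit 0x100100000200500600d002001001000003)) (.cD (nat_lit 48) (.kA false (nat_lit 0x500400600c00200a004008014005001001000003)) (.cD (nat_lit 56) (.kA false (nat_lit 0xc00800a01000400200300600b002001001000003)) .nil)))))))) (.cD (nat_lit 32) (.kF (nat_lit 16) (nat_lit 0x100400100c012004002002000003)) (.cD (nat_lit 40) (.kF (nat_lit 16) (nat_lit 0x100400100c012004002002000003)) (.cD (nat_lit 48) (.kF (nat_lit 16) (nat_lit 0x100100000e014006001006001003)) (.cD (nat_lit 56) (.kF (nat_lit 16) (nat_lit 0x100100000a014006001006001003)) .nil)))))))) (.cD (nat_lit 16) (.kF (nat_lit 4) (nat_lit 0x2002000001003001002)) (.cD (nat_lit 20) (.kF (nat_lit 4) (nat_lit 0xe01e003001003001002)) (.cD (nat_lit 24) (.kF (nat_lit 4) (nat_lit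 0x1002001002012004002002000003)) (.cD (nat_lit 32) (.dfs (nat_lit 16) (nat_lit 4098) (nat_lit 4098) (nat_lit 4097) (nat_lit 4097) (nat_lit 0) (nat_lit 0) (nat_lit 3) (nat_lit 0) (nat_lit 0) (nat_lit 0) (nat_lit 1) (nat_lit 0) (nat_lit 0x1008004) (nat_lit 32772) (nat_lit 0x1001004000008001014000018) (nat_lit 0x1000101110110) (.cD (nat_lit 4) (.kF (nat_lit 16) (nat_lit 0x1001000001006001002)) (.cD (nat_lit 8) (.kF (nat_lit 16) (nat_lit 0x100400100c012004002002000003)) (.cD (nat_lit 16) (.dfs (nat_lit 32) (nat_lit 4100) (nat_lit 4100) (nat_lit 0x1002001) (nat_lit 0x1002001) (nat_lit 0) (nat_lit 0) (nat_lit 3) (nat_lit 0) (nat_lit 0) (nat_lit 0) (nat_lit 1) (nat_lit 0) (nat_lit 0x1008004) (nat_lit 32772) (nat_lit 0x1001004000008001014000018) (nat_lit 0x1000101110110) (.cD (nat_lit 4) (.kA true (nat_lit 0x100400600c002001001000002)) (.cD (nat_lit 8) (.kA false (nat_lit 0x300400200c002001001000002)) (.cD (nat_lit 16) (.kc (nat_lit 48) (nat_lit 0x3001001)) (.cD (nat_lit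 20) (.kA true (nat_lit 0x300400600c002001001000002)) (.cD (nat_lit 24) (.kA false (nat_lit 0x100400200c002001001000002)) (.cD (nat_lit 32) (.kc (nat_lit 36) (nat_lit 0x5001001)) (.cD (nat_lit 48) (.kc (nat_lit 52) (nat_lit 0x7001001)) .nil)))))))) (.cD (nat_lit 20) (.dfs (nat_lit 32) (nat_lit 4100) (nat_lit 4100) (nat_lit 0x1002001) (nat_lit 0x1002001) (nat_lit 0) (nat_lit 0) (nat_lit 3) (nat_lit 0) (nat_lit 0) (nat_lit 0) (nat_lit 1) (nat_lit 0) (nat_lit 1) (nat_lit 0) (nat_lit 1) (nat_lit 0x11001100110010) (.cD (nat_lit 4) (.kA true (nat_lit 0x100400700c002001001000002)) (.cD (nat_lit 16) (.kA true (nat_lit 0x300400500c002001001000002)) (.cD (nat_lit 20) (.kc (nat_lit 48) (nat_lit 0x3001001)) (.cD (nat_lit 32) (.kc (nat_lit 36) (nat_lit 0x5001001)) (.cD (nat_lit 36) (.dfs (nat_lit 9) (nat_lit 4100) (nat_lit 4101) (nat_lit 1) (nat_lit 1) (nat_lit 2) (nat_lit 0) (nat_lit 1) (nat_lit 4128) (nat_lit 0x40020010008004002001) (nat_lit 0) (nat_lit 1) (nat_lit 0) (nat_lit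 1) (nat_lit 0) (nat_lit 1) (nat_lit 0) .nil) (.cD (nat_lit 48) (.kA true (nat_lit 0x700400100c002001001000002)) (.cD (nat_lit 52) (.kc (nat_lit 52) (nat_lit 0x7001001)) .nil)))))))) (.cD (nat_lit 24) (.kF (nat_lit 16) (nat_lit 0x1001000001006001002)) (.cD (nat_lit 32) (.kc (nat_lit 20) (nat_lit 0x3001001)) (.cD (nat_lit 48) (.dfs (nat_lit 32) (nat_lit 4100) (nat_lit 4100) (nat_lit 0x1002001) (nat_lit 0x1002001) (nat_lit 0) (nat_lit 0) (nat_lit 3) (nat_lit 0) (nat_lit 0) (nat_lit 0) (nat_lit 1) (nat_lit 0) (nat_lit 0x1008004) (nat_lit 32772) (nat_lit 0x1001004000008001014000018) (nat_lit 0x1000101110110) (.cD (nat_lit 4) (.kA true (nat_lit 0x100400200c002001001000002)) (.cD (nat_lit 8) (.kA false (nat_lit 0x700400600c002001001000002)) (.cD (nat_lit 16) (.kc (nat_lit 52) (nat_lit 0x7001001)) (.cD (nat_lit 20) (.kA true (nat_lit 0x700400200c002001001000002)) (.cD (nat_lit 24) (.kA false (nat_lit 0x100400600c002001001000002)) (.cD (nat_lit 32) (.kc (nat_lit 36) (nat_lit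 0x5001001)) (.cD (nat_lit 48) (.kc (nat_lit 48) (nat_lit 0x3001001)) .nil)))))))) .nil)))))))) (.cD (nat_lit 48) (.kF (nat_lit 4) (nat_lit 0x1002001002012004002002000003)) .nil))))))))))
theorem c180 : (chk [] [] p180).n x96 s180 = true := by decide +kernel
noncomputable def p181 : Pf := (.anc (nat_lit 68) (nat_lit 0x10002002002000002) (nat_lit 0x1009020010004) (.czp (nat_lit 64) (nat_lit 0) (nat_lit 0x1040020010008004) z6 (.dfs (nat_lit 4) (nat_lit 4097) (nat_lit 4097) (nat_lit 1) (nat_lit 1) (nat_lit 0) (nat_lit 0) (nat_lit 3) (nat_lit 0) (nat_lit 0) (nat_lit 0) (nat_lit 1) (nat_lit 0) (nat_lit 0x1008004) (nat_lit 32772) (nat_lit 0x1001004000008001014000018) (nat_lit 0x1000101110110) (.cD (nat_lit 4) (.dfs (nat_lit 16) (nat_lit 4098) (nat_lit 4098) (nat_lit 4097) (nat_lit 4097) (nat_lit 0) (nat_lit 0) (nat_lit 3) (nat_lit 0) (nat_lit 0) (nat_lit 0) (nat_lit 1) (nat_lit 0) (nat_lit 1) (nat_lit 0) (nat_lit 1) (nat_lit 0x11001100110010) (.cD (nat_lit 4) (.kc (nat_lit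 20) (nat_lit 0x3001001)) (.cD (nat_lit 16) (.dfs (nat_lit 32) (nat_lit 4100) (nat_lit 4100) (nat_lit 0x1002001) (nat_lit 0x1002001) (nat_lit 0) (nat_lit 0) (nat_lit 3) (nat_lit 0) (nat_lit 0) (nat_lit 0) (nat_lit 1) (nat_lit 0) (nat_lit 1) (nat_lit 0) (nat_lit 1) (nat_lit 0x11001100110010) (.cD (nat_lit 4) (.kc (nat_lit 36) (nat_lit 0x5001001)) (.cD (nat_lit 16) (.kc (nat_lit 48) (nat_lit 0x3001001)) (.cD (nat_lit 20) (.kc (nat_lit 52) (nat_lit 0x7001001)) (.cD (nat_lit 32) (.dfs (nat_lit 9) (nat_lit 0x1004001003008) (nat_lit 0x1005001003008) (nat_lit 4098) (nat_lit 4098) (nat_lit 2) (nat_lit 0) (nat_lit 2) (nat_lit 1) (nat_lit 0) (nat_lit 8) (nat_lit 1) (nat_lit 0) (nat_lit 1) (nat_lit 0) (nat_lit 1) (nat_lit 0) .nil) (.cD (nat_lit 36) (.kA true (nat_lit 0x100100000400100300d001001001000003)) (.cD (nat_lit 48) (.kA true (nat_lit 0x600800401000400400100300d001001001000003)) (.cD (nat_lit 52) (.kA true (nat_lit 0x5004003008001008004002005007001001000003)) .nil))))))))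 (.cD (nat_lit 20) (.dfs (nat_lit 32) (nat_lit 4100) (nat_lit 4100) (nat_lit 0x1002001) (nat_lit 0x1002001) (nat_lit 0) (nat_lit 0) (nat_lit 3) (nat_lit 0) (nat_lit 0) (nat_lit 0) (nat_lit 1) (nat_lit 0) (nat_lit 1) (nat_lit 0) (nat_lit 1) (nat_lit 0x11001100110010) (.cD (nat_lit 4) (.kc (nat_lit 36) (nat_lit 0x5001001)) (.cD (nat_lit 16) (.kc (nat_lit 52) (nat_lit 0x7001001)) (.cD (nat_lit 20) (.kc (nat_lit 48) (nat_lit 0x3001001)) (.cD (nat_lit 32) (.kA true (nat_lit 0x5004003008001008004002005007001001000003)) (.cD (nat_lit 36) (.dfs (nat_lit 9) (nat_lit 4102) (nat_lit 4103) (nat_lit 1) (nat_lit 1) (nat_lit 2) (nat_lit 0) (nat_lit 1) (nat_lit 4112) (nat_lit 0x40020010008004002001) (nat_lit 0) (nat_lit 1) (nat_lit 0) (nat_lit 1) (nat_lit 0) (nat_lit 1) (nat_lit 0) .nil) (.cD (nat_lit 48) (.kA true (nat_lit 0x400300500800100400100300c001002)) (.cD (nat_lit 52) (.kA true (nat_lit 0x400700100800100400100300c001002)) .nil)))))))) (.cD (nat_lit 32) (.kF (nat_lit 16)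 (nat_lit 0x100400100c012004002002000003)) (.cD (nat_lit 36) (.kF (nat_lit 16) (nat_lit 0x100400100c012004002002000003)) (.cD (nat_lit 48) (.dfs (nat_lit 32) (nat_lit 4100) (nat_lit 4100) (nat_lit 0x1002001) (nat_lit 0x1002001) (nat_lit 0) (nat_lit 0) (nat_lit 3) (nat_lit 0) (nat_lit 0) (nat_lit 0) (nat_lit 1) (nat_lit 0) (nat_lit 1) (nat_lit 0) (nat_lit 1) (nat_lit 0x11001100110010) (.cD (nat_lit 4) (.kc (nat_lit 36) (nat_lit 0x5001001)) (.cD (nat_lit 16) (.kA true (nat_lit 0x400200100800100400100300c001002)) (.cD (nat_lit 20) (.kA true (nat_lit 0x400600500800100400100300c001002)) (.cD (nat_lit 32) (.kA true (nat_lit 0x5004003008001008004002005007001001000003)) (.cD (nat_lit 36) (.kA true (nat_lit 0x400500600800100400100300c001002)) (.cD (nat_lit 48) (.kc (nat_lit 48) (nat_lit 0x3001001)) (.cD (nat_lit 52) (.kc (nat_lit 52) (nat_lit 0x7001001)) .nil)))))))) (.cD (nat_lit 52) (.dfs (nat_lit 32) (nat_lit 4100) (nat_lit 4100) (nat_lit 0x1002001) (nat_lit 0x1002001)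 (nat_lit 0) (nat_lit 0) (nat_lit 3) (nat_lit 0) (nat_lit 0) (nat_lit 0) (nat_lit 1) (nat_lit 0) (nat_lit 1) (nat_lit 0) (nat_lit 1) (nat_lit 0x11001100110010) (.cD (nat_lit 4) (.kc (nat_lit 36) (nat_lit 0x5001001)) (.cD (nat_lit 16) (.kA true (nat_lit 0x400200500800100400100300c001002)) (.cD (nat_lit 20) (.kA true (nat_lit 0x400600100800100400100300c001002)) (.cD (nat_lit 32) (.kA true (nat_lit 0x5004003008001008004002005007001001000003)) (.cD (nat_lit 36) (.kA true (nat_lit 0x400500200800100400100300c001002)) (.cD (nat_lit 48) (.kc (nat_lit 52) (nat_lit 0x7001001)) (.cD (nat_lit 52) (.kc (nat_lit 48) (nat_lit 0x3001001)) .nil)))))))) .nil)))))))) (.cD (nat_lit 8) (.dfs (nat_lit 16) (nat_lit 4098) (nat_lit 4098) (nat_lit 4097) (nat_lit 4097) (nat_lit 0) (nat_lit 0) (nat_lit 3) (nat_lit 0) (nat_lit 0) (nat_lit 0) (nat_lit 1) (nat_lit 0) (nat_lit 1) (nat_lit 0) (nat_lit 1) (nat_lit 0x101010101010100) (.cD (nat_lit 8) (.kc (nat_lit 20) (nat_lit 0x3001001)) (.cD (nat_lit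 16) (.dfs (nat_lit 32) (nat_lit 4100) (nat_lit 4100) (nat_lit 0x1002001) (nat_lit 0x1002001) (nat_lit 0) (nat_lit 0) (nat_lit 3) (nat_lit 0) (nat_lit 0) (nat_lit 0) (nat_lit 1) (nat_lit 0) (nat_lit 1) (nat_lit 0) (nat_lit 1) (nat_lit 0x101010101010100) (.cD (nat_lit 8) (.kc (nat_lit 36) (nat_lit 0x5001001)) (.cD (nat_lit 16) (.kc (nat_lit 48) (nat_lit 0x3001001)) (.cD (nat_lit 24) (.kc (nat_lit 52) (nat_lit 0x7001001)) (.cD (nat_lit 32) (.kA false (nat_lit 0x700400200c00200a004008014005001001000003)) (.cD (nat_lit 40) (.kA false (nat_lit 0x100100000600500200d002001001000003)) (.cD (nat_lit 48) (.kA false (nat_lit 0xa00800c01000400600300200b002001001000003)) (.cD (nat_lit 56) (.kA false (nat_lit 0x100400200c00200a004008014005001001000003)) .nil)))))))) (.cD (nat_lit 24) (.dfs (nat_lit 32) (nat_lit 4100) (nat_lit 4100) (nat_lit 0x1002001) (nat_lit 0x1002001) (nat_lit 0) (nat_lit 0) (nat_lit 3) (nat_lit 0) (nat_lit 0) (nat_lit 0) (nat_lit 1) (nat_lit 0) (nat_lit 1)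 (nat_lit 0) (nat_lit 1) (nat_lit 0x101010101010100) (.cD (nat_lit 8) (.kc (nat_lit 36) (nat_lit 0x5001001)) (.cD (nat_lit 16) (.kc (nat_lit 52) (nat_lit 0x7001001)) (.cD (nat_lit 24) (.kc (nat_lit 48) (nat_lit 0x3001001)) (.cD (nat_lit 32) (.kA false (nat_lit 0x300400600c00200a004008014005001001000003)) (.cD (nat_lit 40) (.kA false (nat_lit 0x100100000200500600d002001001000003)) (.cD (nat_lit 48) (.kA false (nat_lit 0x500400600c00200a004008014005001001000003)) (.cD (nat_lit 56) (.kA false (nat_lit 0xc00800a01000400200300600b002001001000003)) .nil)))))))) (.cD (nat_lit 32) (.kF (nat_lit 16) (nat_lit 0x100400100c012004002002000003)) (.cD (nat_lit 40) (.kF (nat_lit 16) (nat_lit 0x100400100c012004002002000003)) (.cD (nat_lit 48) (.kF (nat_lit 16) (nat_lit 0x100100000e014006001006001003)) (.cD (nat_lit 56) (.kF (nat_lit 16) (nat_lit 0x100100000a014006001006001003)) .nil)))))))) (.cD (nat_lit 16) (.kF (nat_lit 4) (nat_lit 0x2002000001003001002)) (.cD (nat_lit 20) (.kF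 (nat_lit 4) (nat_lit 0xe01e003001003001002)) (.cD (nat_lit 24) (.kF (nat_lit 4) (nat_lit 0x1002001002012004002002000003)) (.cD (nat_lit 32) (.dfs (nat_lit 16) (nat_lit 4098) (nat_lit 4098) (nat_lit 4097) (nat_lit 4097) (nat_lit 0) (nat_lit 0) (nat_lit 3) (nat_lit 0) (nat_lit 0) (nat_lit 0) (nat_lit 1) (nat_lit 0) (nat_lit 0x1008004) (nat_lit 32772) (nat_lit 0x1001004000008001014000018) (nat_lit 0x1000101110110) (.cD (nat_lit 4) (.kF (nat_lit 16) (nat_lit 0x1001000001006001002)) (.cD (nat_lit 8) (.kF (nat_lit 16) (nat_lit 0x100400100c012004002002000003)) (.cD (nat_lit 16) (.dfs (nat_lit 32) (nat_lit 4100) (nat_lit 4100) (nat_lit 0x1002001) (nat_lit 0x1002001) (nat_lit 0) (nat_lit 0) (nat_lit 3) (nat_lit 0) (nat_lit 0) (nat_lit 0) (nat_lit 1) (nat_lit 0) (nat_lit 0x1008004) (nat_lit 32772) (nat_lit 0x1001004000008001014000018) (nat_lit 0x1000101110110) (.cD (nat_lit 4) (.kA true (nat_lit 0x100400600c002001001000002)) (.cD (nat_lit 8) (.kA false (nat_lit 0x300400200c002001001000002))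 (.cD (nat_lit 16) (.kc (nat_lit 48) (nat_lit 0x3001001)) (.cD (nat_lit 20) (.kA true (nat_lit 0x300400600c002001001000002)) (.cD (nat_lit 24) (.kA false (nat_lit 0x100400200c002001001000002)) (.cD (nat_lit 32) (.kc (nat_lit 36) (nat_lit 0x5001001)) (.cD (nat_lit 48) (.kc (nat_lit 52) (nat_lit 0x7001001)) .nil)))))))) (.cD (nat_lit 20) (.dfs (nat_lit 32) (nat_lit 4100) (nat_lit 4100) (nat_lit 0x1002001) (nat_lit 0x1002001) (nat_lit 0) (nat_lit 0) (nat_lit 3) (nat_lit 0) (nat_lit 0) (nat_lit 0) (nat_lit 1) (nat_lit 0) (nat_lit 1) (nat_lit 0) (nat_lit 1) (nat_lit 0x11001100110010) (.cD (nat_lit 4) (.kA true (nat_lit 0x100400700c002001001000002)) (.cD (nat_lit 16) (.kA true (nat_lit 0x300400500c002001001000002)) (.cD (nat_lit 20) (.kc (nat_lit 48) (nat_lit 0x3001001)) (.cD (nat_lit 32) (.kc (nat_lit 36) (nat_lit 0x5001001)) (.cD (nat_lit 36) (.dfs (nat_lit 9) (nat_lit 4100) (nat_lit 4101) (nat_lit 1) (nat_lit 1) (nat_lit 2) (nat_lit 0) (nat_lit 1) (nat_lit 4128) (nat_lit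 0x40020010008004002001) (nat_lit 0) (nat_lit 1) (nat_lit 0) (nat_lit 1) (nat_lit 0) (nat_lit 1) (nat_lit 0) .nil) (.cD (nat_lit 48) (.kA true (nat_lit 0x700400100c002001001000002)) (.cD (nat_lit 52) (.kc (nat_lit 52) (nat_lit 0x7001001)) .nil)))))))) (.cD (nat_lit 24) (.kF (nat_lit 16) (nat_lit 0x1001000001006001002)) (.cD (nat_lit 32) (.kc (nat_lit 20) (nat_lit 0x3001001)) (.cD (nat_lit 48) (.dfs (nat_lit 32) (nat_lit 4100) (nat_lit 4100) (nat_lit 0x1002001) (nat_lit 0x1002001) (nat_lit 0) (nat_lit 0) (nat_lit 3) (nat_lit 0) (nat_lit 0) (nat_lit 0) (nat_lit 1) (nat_lit 0) (nat_lit 0x1008004) (nat_lit 32772) (nat_lit 0x1001004000008001014000018) (nat_lit 0x1000101110110) (.cD (nat_lit 4) (.kA true (nat_lit 0x100400200c002001001000002)) (.cD (nat_lit 8) (.kA false (nat_lit 0x700400600c002001001000002)) (.cD (nat_lit 16) (.kc (nat_lit 52) (nat_lit 0x7001001)) (.cD (nat_lit 20) (.kA true (nat_lit 0x700400200c002001001000002)) (.cD (nat_lit 24) (.kA false (nat_lit 0x100400600c002001001000002))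 (.cD (nat_lit 32) (.kc (nat_lit 36) (nat_lit 0x5001001)) (.cD (nat_lit 48) (.kc (nat_lit 48) (nat_lit 0x3001001)) .nil)))))))) .nil)))))))) (.cD (nat_lit 48) (.kF (nat_lit 4) (nat_lit 0x1002001002012004002002000003)) .nil))))))))))
theorem c181 : (chk [] [] p181).n x97 s181 = true := by decide +kernel
noncomputable def p182 : Pf := (.anc (nat_lit 68) (nat_lit 0x10002002002000002) (nat_lit 0x1009020010004) (.czp (nat_lit 64) (nat_lit 0) (nat_lit 0x1040020010008004) z6 (.dfs (nat_lit 4) (nat_lit 4097) (nat_lit 4097) (nat_lit 1) (nat_lit 1) (nat_lit 0) (nat_lit 0) (nat_lit 3) (nat_lit 0) (nat_lit 0) (nat_lit 0) (nat_lit 1) (nat_lit 0) (nat_lit 0x1008004) (nat_lit 32772) (nat_lit 0x1001004000008001014000018) (nat_lit 0x1000101110110) (.cD (nat_lit 4) (.dfs (nat_lit 16) (nat_lit 4098) (nat_lit 4098) (nat_lit 4097) (nat_lit 4097) (nat_lit 0) (nat_lit 0) (nat_lit 3) (nat_lit 0) (nat_lit 0) (nat_lit 0) (nat_lit 1) (nat_lit 0) (nat_lit 1) (nat_lit 0) (nat_lit 1) (nat_lit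 0x11001100110010) (.cD (nat_lit 4) (.kc (nat_lit 20) (nat_lit 0x3001001)) (.cD (nat_lit 16) (.dfs (nat_lit 32) (nat_lit 4100) (nat_lit 4100) (nat_lit 0x1002001) (nat_lit 0x1002001) (nat_lit 0) (nat_lit 0) (nat_lit 3) (nat_lit 0) (nat_lit 0) (nat_lit 0) (nat_lit 1) (nat_lit 0) (nat_lit 1) (nat_lit 0) (nat_lit 1) (nat_lit 0x11001100110010) (.cD (nat_lit 4) (.kc (nat_lit 36) (nat_lit 0x5001001)) (.cD (nat_lit 16) (.kc (nat_lit 48) (nat_lit 0x3001001)) (.cD (nat_lit 20) (.kc (nat_lit 52) (nat_lit 0x7001001)) (.cD (nat_lit 32) (.dfs (nat_lit 9) (nat_lit 0x1004001003008) (nat_lit 0x1005001003008) (nat_lit 4098) (nat_lit 4098) (nat_lit 0) (nat_lit 0) (nat_lit 2) (nat_lit 1) (nat_lit 0) (nat_lit 8) (nat_lit 1) (nat_lit 0) (nat_lit 4100) (nat_lit 4) (nat_lit 0x1000008000018) (nat_lit 0x1000100) (.cD (nat_lit 8) (.kA false (nat_lit 0x5002004010001002002000005002004016002013003000004)) (.cD (nat_lit 24) (.kA false (nat_lit 0x1002004010001002002000001002004016002013003000004))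 .nil))) (.cD (nat_lit 36) (.kA true (nat_lit 0x1100100000400100300d001011001000003)) (.cD (nat_lit 48) (.kA true (nat_lit 0x600800401000400400100300d001011001000003)) (.cD (nat_lit 52) (.kA true (nat_lit 0x5004003008001008004002005007011001000003)) .nil)))))))) (.cD (nat_lit 20) (.dfs (nat_lit 32) (nat_lit 4100) (nat_lit 4100) (nat_lit 0x1002001) (nat_lit 0x1002001) (nat_lit 0) (nat_lit 0) (nat_lit 3) (nat_lit 0) (nat_lit 0) (nat_lit 0) (nat_lit 1) (nat_lit 0) (nat_lit 1) (nat_lit 0) (nat_lit 1) (nat_lit 0x11001100110010) (.cD (nat_lit 4) (.kc (nat_lit 36) (nat_lit 0x5001001)) (.cD (nat_lit 16) (.kc (nat_lit 52) (nat_lit 0x7001001)) (.cD (nat_lit 20) (.kc (nat_lit 48) (nat_lit 0x3001001)) (.cD (nat_lit 32) (.kA true (nat_lit 0x5004003008001008004002005007011001000003)) (.cD (nat_lit 36) (.dfs (nat_lit 9) (nat_lit 4102) (nat_lit 4103) (nat_lit 1) (nat_lit 1) (nat_lit 0) (nat_lit 0) (nat_lit 1) (nat_lit 4112) (nat_lit 0x40020010008004002011) (nat_lit 0) (nat_lit 1)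 (nat_lit 0) (nat_lit 1) (nat_lit 0) (nat_lit 1) (nat_lit 0) .nil) (.cD (nat_lit 48) (.kA true (nat_lit 0x400300500800100400100300c001002)) (.cD (nat_lit 52) (.kA true (nat_lit 0x400700100800100400100300c001002)) .nil)))))))) (.cD (nat_lit 32) (.kF (nat_lit 16) (nat_lit 0x100400100c012004002002000003)) (.cD (nat_lit 36) (.kF (nat_lit 16) (nat_lit 0x100400100c012004002002000003)) (.cD (nat_lit 48) (.dfs (nat_lit 32) (nat_lit 4100) (nat_lit 4100) (nat_lit 0x1002001) (nat_lit 0x1002001) (nat_lit 0) (nat_lit 0) (nat_lit 3) (nat_lit 0) (nat_lit 0) (nat_lit 0) (nat_lit 1) (nat_lit 0) (nat_lit 1) (nat_lit 0) (nat_lit 1) (nat_lit 0x11001100110010) (.cD (nat_lit 4) (.kc (nat_lit 36) (nat_lit 0x5001001)) (.cD (nat_lit 16) (.kA true (nat_lit 0x400200100800100400100300c001002)) (.cD (nat_lit 20) (.kA true (nat_lit 0x400600500800100400100300c001002)) (.cD (nat_lit 32) (.kA true (nat_lit 0x5004003008001008004002005007011001000003)) (.cD (nat_lit 36) (.kA true (nat_lit 0x400500600800100400100300c001002))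 (.cD (nat_lit 48) (.kc (nat_lit 48) (nat_lit 0x3001001)) (.cD (nat_lit 52) (.kc (nat_lit 52) (nat_lit 0x7001001)) .nil)))))))) (.cD (nat_lit 52) (.dfs (nat_lit 32) (nat_lit 4100) (nat_lit 4100) (nat_lit 0x1002001) (nat_lit 0x1002001) (nat_lit 0) (nat_lit 0) (nat_lit 3) (nat_lit 0) (nat_lit 0) (nat_lit 0) (nat_lit 1) (nat_lit 0) (nat_lit 1) (nat_lit 0) (nat_lit 1) (nat_lit 0x11001100110010) (.cD (nat_lit 4) (.kc (nat_lit 36) (nat_lit 0x5001001)) (.cD (nat_lit 16) (.kA true (nat_lit 0x400200500800100400100300c001002)) (.cD (nat_lit 20) (.kA true (nat_lit 0x400600100800100400100300c001002)) (.cD (nat_lit 32) (.kA true (nat_lit 0x5004003008001008004002005007011001000003)) (.cD (nat_lit 36) (.kA true (nat_lit 0x400500200800100400100300c001002)) (.cD (nat_lit 48) (.kc (nat_lit 52) (nat_lit 0x7001001)) (.cD (nat_lit 52) (.kc (nat_lit 48) (nat_lit 0x3001001)) .nil)))))))) .nil)))))))) (.cD (nat_lit 8) (.dfs (nat_lit 16) (nat_lit 4098) (nat_lit 4098) (nat_lit 4097) (nat_lit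 4097) (nat_lit 0) (nat_lit 0) (nat_lit 3) (nat_lit 0) (nat_lit 0) (nat_lit 0) (nat_lit 1) (nat_lit 0) (nat_lit 1) (nat_lit 0) (nat_lit 1) (nat_lit 0x101010101010100) (.cD (nat_lit 8) (.kc (nat_lit 20) (nat_lit 0x3001001)) (.cD (nat_lit 16) (.dfs (nat_lit 32) (nat_lit 4100) (nat_lit 4100) (nat_lit 0x1002001) (nat_lit 0x1002001) (nat_lit 0) (nat_lit 0) (nat_lit 3) (nat_lit 0) (nat_lit 0) (nat_lit 0) (nat_lit 1) (nat_lit 0) (nat_lit 1) (nat_lit 0) (nat_lit 1) (nat_lit 0x101010101010100) (.cD (nat_lit 8) (.kc (nat_lit 36) (nat_lit 0x5001001)) (.cD (nat_lit 16) (.kc (nat_lit 48) (nat_lit 0x3001001)) (.cD (nat_lit 24) (.kc (nat_lit 52) (nat_lit 0x7001001)) (.cD (nat_lit 32) (.kA false (nat_lit 0x700400200c00200a004008014005011001000003)) (.cD (nat_lit 40) (.kA false (nat_lit 0x1100100000600500200d002011001000003)) (.cD (nat_lit 48) (.kA false (nat_lit 0xa00800c01000400600300200b002011001000003)) (.cD (nat_lit 56) (.kA false (nat_lit 0x100400200c00200a004008014005011001000003))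 .nil)))))))) (.cD (nat_lit 24) (.dfs (nat_lit 32) (nat_lit 4100) (nat_lit 4100) (nat_lit 0x1002001) (nat_lit 0x1002001) (nat_lit 0) (nat_lit 0) (nat_lit 3) (nat_lit 0) (nat_lit 0) (nat_lit 0) (nat_lit 1) (nat_lit 0) (nat_lit 1) (nat_lit 0) (nat_lit 1) (nat_lit 0x101010101010100) (.cD (nat_lit 8) (.kc (nat_lit 36) (nat_lit 0x5001001)) (.cD (nat_lit 16) (.kc (nat_lit 52) (nat_lit 0x7001001)) (.cD (nat_lit 24) (.kc (nat_lit 48) (nat_lit 0x3001001)) (.cD (nat_lit 32) (.kA false (nat_lit 0x300400600c00200a004008014005011001000003)) (.cD (nat_lit 40) (.kA false (nat_lit 0x1100100000200500600d002011001000003)) (.cD (nat_lit 48) (.kA false (nat_lit 0x500400600c00200a004008014005011001000003)) (.cD (nat_lit 56) (.kA false (nat_lit 0xc00800a01000400200300600b002011001000003)) .nil)))))))) (.cD (nat_lit 32) (.kF (nat_lit 16) (nat_lit 0x100400100c012004002002000003)) (.cD (nat_lit 40) (.kF (nat_lit 16) (nat_lit 0x100400100c012004002002000003)) (.cD (nat_lit 48) (.kF (nat_lit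 16) (nat_lit 0x1100100000e014006001006001003)) (.cD (nat_lit 56) (.kF (nat_lit 16) (nat_lit 0x1100100000a014006001006001003)) .nil)))))))) (.cD (nat_lit 16) (.kF (nat_lit 4) (nat_lit 0x2002000001003001002)) (.cD (nat_lit 20) (.kF (nat_lit 4) (nat_lit 0xe01e003001003001002)) (.cD (nat_lit 24) (.kF (nat_lit 4) (nat_lit 0x1002001002012004002002000003)) (.cD (nat_lit 32) (.dfs (nat_lit 16) (nat_lit 4098) (nat_lit 4098) (nat_lit 4097) (nat_lit 4097) (nat_lit 0) (nat_lit 0) (nat_lit 3) (nat_lit 0) (nat_lit 0) (nat_lit 0) (nat_lit 1) (nat_lit 0) (nat_lit 0x1008004) (nat_lit 32772) (nat_lit 0x1001004000008001014000018) (nat_lit 0x1000101110110) (.cD (nat_lit 4) (.kF (nat_lit 16) (nat_lit 0x11001000001006001002)) (.cD (nat_lit 8) (.kF (nat_lit 16) (nat_lit 0x100400100c012004002002000003)) (.cD (nat_lit 16) (.dfs (nat_lit 32) (nat_lit 4100) (nat_lit 4100) (nat_lit 0x1002001) (nat_lit 0x1002001) (nat_lit 0) (nat_lit 0) (nat_lit 3) (nat_lit 0) (nat_lit 0) (nat_lit 0) (nat_lit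 1) (nat_lit 0) (nat_lit 0x1008004) (nat_lit 32772) (nat_lit 0x1001004000008001014000018) (nat_lit 0x1000101110110) (.cD (nat_lit 4) (.kA true (nat_lit 0x100400600c002011001000002)) (.cD (nat_lit 8) (.kA false (nat_lit 0x300400200c002011001000002)) (.cD (nat_lit 16) (.kc (nat_lit 48) (nat_lit 0x3001001)) (.cD (nat_lit 20) (.kA true (nat_lit 0x300400600c002011001000002)) (.cD (nat_lit 24) (.kA false (nat_lit 0x100400200c002011001000002)) (.cD (nat_lit 32) (.kc (nat_lit 36) (nat_lit 0x5001001)) (.cD (nat_lit 48) (.kc (nat_lit 52) (nat_lit 0x7001001)) .nil)))))))) (.cD (nat_lit 20) (.dfs (nat_lit 32) (nat_lit 4100) (nat_lit 4100) (nat_lit 0x1002001) (nat_lit 0x1002001) (nat_lit 0) (nat_lit 0) (nat_lit 3) (nat_lit 0) (nat_lit 0) (nat_lit 0) (nat_lit 1) (nat_lit 0) (nat_lit 1) (nat_lit 0) (nat_lit 1) (nat_lit 0x11001100110010) (.cD (nat_lit 4) (.kA true (nat_lit 0x100400700c002011001000002)) (.cD (nat_lit 16) (.kA true (nat_lit 0x300400500c002011001000002)) (.cD (nat_lit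 20) (.kc (nat_lit 48) (nat_lit 0x3001001)) (.cD (nat_lit 32) (.kc (nat_lit 36) (nat_lit 0x5001001)) (.cD (nat_lit 36) (.dfs (nat_lit 9) (nat_lit 4100) (nat_lit 4101) (nat_lit 1) (nat_lit 1) (nat_lit 0) (nat_lit 0) (nat_lit 1) (nat_lit 4128) (nat_lit 0x40020010008004002011) (nat_lit 0) (nat_lit 1) (nat_lit 0) (nat_lit 1) (nat_lit 0) (nat_lit 1) (nat_lit 0) .nil) (.cD (nat_lit 48) (.kA true (nat_lit 0x700400100c002011001000002)) (.cD (nat_lit 52) (.kc (nat_lit 52) (nat_lit 0x7001001)) .nil)))))))) (.cD (nat_lit 24) (.kF (nat_lit 16) (nat_lit 0x11001000001006001002)) (.cD (nat_lit 32) (.kc (nat_lit 20) (nat_lit 0x3001001)) (.cD (nat_lit 48) (.dfs (nat_lit 32) (nat_lit 4100) (nat_lit 4100) (nat_lit 0x1002001) (nat_lit 0x1002001) (nat_lit 0) (nat_lit 0) (nat_lit 3) (nat_lit 0) (nat_lit 0) (nat_lit 0) (nat_lit 1) (nat_lit 0) (nat_lit 0x1008004) (nat_lit 32772) (nat_lit 0x1001004000008001014000018) (nat_lit 0x1000101110110) (.cD (nat_lit 4) (.kA true (nat_lit 0x100400200c002011001000002))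 (.cD (nat_lit 8) (.kA false (nat_lit 0x700400600c002011001000002)) (.cD (nat_lit 16) (.kc (nat_lit 52) (nat_lit 0x7001001)) (.cD (nat_lit 20) (.kA true (nat_lit 0x700400200c002011001000002)) (.cD (nat_lit 24) (.kA false (nat_lit 0x100400600c002011001000002)) (.cD (nat_lit 32) (.kc (nat_lit 36) (nat_lit 0x5001001)) (.cD (nat_lit 48) (.kc (nat_lit 48) (nat_lit 0x3001001)) .nil)))))))) .nil)))))))) (.cD (nat_lit 48) (.kF (nat_lit 4) (nat_lit 0x1002001002012004002002000003)) .nil))))))))))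
theorem c182 : (chk [] [] p182).n x98 s182 = true := by decide +kernel
noncomputable def p183 : Pf := (.anc (nat_lit 72) (nat_lit 0x11001000014004002) (nat_lit 0x1007020010008) (.czp (nat_lit 64) (nat_lit 0) (nat_lit 0x1040020010008004) z6 (.dfs (nat_lit 8) (nat_lit 4097) (nat_lit 4097) (nat_lit 1) (nat_lit 1) (nat_lit 0) (nat_lit 0) (nat_lit 3) (nat_lit 0) (nat_lit 0) (nat_lit 0) (nat_lit 1) (nat_lit 0) (nat_lit 0x1008004) (nat_lit 32772) (nat_lit 0x1001004000008001014000018) (nat_lit 0x1000101110110) (.cD (nat_lit 4) (.dfs (nat_lit 16) (nat_lit 4098) (nat_lit 4098) (nat_lit 4097) (nat_lit 4097) (nat_lit 0) (nat_lit 0) (nat_lit 3) (nat_lit 0) (nat_lit 0) (nat_lit 0) (nat_lit 1) (nat_lit 0) (nat_lit 1) (nat_lit 0) (nat_lit 1) (nat_lit 0x11001100110010) (.cD (nat_lit 4) (.kc (nat_lit 24) (nat_lit 0x3001001)) (.cD (nat_lit 16) (.dfs (nat_lit 32) (nat_lit 4100) (nat_lit 4100) (nat_lit 0x1002001) (nat_lit 0x1002001) (nat_lit 0) (nat_lit 0) (nat_lit 3) (nat_lit 0) (nat_lit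 0) (nat_lit 0) (nat_lit 1) (nat_lit 0) (nat_lit 1) (nat_lit 0) (nat_lit 1) (nat_lit 0x11001100110010) (.cD (nat_lit 4) (.kc (nat_lit 40) (nat_lit 0x5001001)) (.cD (nat_lit 16) (.kc (nat_lit 48) (nat_lit 0x3001001)) (.cD (nat_lit 20) (.kc (nat_lit 56) (nat_lit 0x7001001)) (.cD (nat_lit 32) (.kA false (nat_lit 0x700400200800100a004008014005011001000003)) (.cD (nat_lit 36) (.kA false (nat_lit 0x1100100000600100200d001011001000003)) (.cD (nat_lit 48) (.kA false (nat_lit 0xa00800c01000400600100200d001011001000003)) (.cD (nat_lit 52) (.kA false (nat_lit 0x700400200800100a004008014005011001000003)) .nil)))))))) (.cD (nat_lit 20) (.dfs (nat_lit 32) (nat_lit 4100) (nat_lit 4100) (nat_lit 0x1002001) (nat_lit 0x1002001) (nat_lit 0) (nat_lit 0) (nat_lit 3) (nat_lit 0) (nat_lit 0) (nat_lit 0) (nat_lit 1) (nat_lit 0) (nat_lit 1) (nat_lit 0) (nat_lit 1) (nat_lit 0x11001100110010) (.cD (nat_lit 4) (.kc (nat_lit 40) (nat_lit 0x5001001)) (.cD (nat_lit 16) (.kc (nat_lit 56) (nat_lit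 0x7001001)) (.cD (nat_lit 20) (.kc (nat_lit 48) (nat_lit 0x3001001)) (.cD (nat_lit 32) (.kA false (nat_lit 0x700400200800100a004008014005011001000003)) (.cD (nat_lit 36) (.kA false (nat_lit 0x1100100000600100200d001011001000003)) (.cD (nat_lit 48) (.kA false (nat_lit 0xc00800a01000400600100200d001011001000003)) (.cD (nat_lit 52) (.kA false (nat_lit 0x700400200800100a004008014005011001000003)) .nil)))))))) (.cD (nat_lit 32) (.kF (nat_lit 16) (nat_lit 0x4010004002002000001006001003)) (.cD (nat_lit 36) (.kF (nat_lit 16) (nat_lit 0x11001000001007001002002000003)) (.cD (nat_lit 48) (.dfs (nat_lit 32) (nat_lit 4100) (nat_lit 4100) (nat_lit 0x1002001) (nat_lit 0x1002001) (nat_lit 0) (nat_lit 0) (nat_lit 3) (nat_lit 0) (nat_lit 0) (nat_lit 0) (nat_lit 1) (nat_lit 0) (nat_lit 1) (nat_lit 0) (nat_lit 1) (nat_lit 0x11001100110010) (.cD (nat_lit 4) (.kc (nat_lit 40) (nat_lit 0x5001001)) (.cD (nat_lit 16) (.kA false (nat_lit 0xa00c00801e00300600100200d001011001000003)) (.cD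 (nat_lit 20) (.kA false (nat_lit 0x200200000600100200d001011001000003)) (.cD (nat_lit 32) (.kA false (nat_lit 0x700400200800100a004008014005011001000003)) (.cD (nat_lit 36) (.kA false (nat_lit 0x1100100000600100200d001011001000003)) (.cD (nat_lit 48) (.kc (nat_lit 48) (nat_lit 0x3001001)) (.cD (nat_lit 52) (.kc (nat_lit 56) (nat_lit 0x7001001)) .nil)))))))) (.cD (nat_lit 52) (.dfs (nat_lit 32) (nat_lit 4100) (nat_lit 4100) (nat_lit 0x1002001) (nat_lit 0x1002001) (nat_lit 0) (nat_lit 0) (nat_lit 3) (nat_lit 0) (nat_lit 0) (nat_lit 0) (nat_lit 1) (nat_lit 0) (nat_lit 1) (nat_lit 0) (nat_lit 1) (nat_lit 0x11001100110010) (.cD (nat_lit 4) (.kc (nat_lit 40) (nat_lit 0x5001001)) (.cD (nat_lit 16) (.kA false (nat_lit 0x800c00a01e00300600100200d001011001000003)) (.cD (nat_lit 20) (.kA false (nat_lit 0x200200000600100200d001011001000003)) (.cD (nat_lit 32) (.kA false (nat_lit 0x700400200800100a004008014005011001000003)) (.cD (nat_lit 36) (.kA false (nat_lit 0x1100100000600100200d001011001000003))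 (.cD (nat_lit 48) (.kc (nat_lit 56) (nat_lit 0x7001001)) (.cD (nat_lit 52) (.kc (nat_lit 48) (nat_lit 0x3001001)) .nil)))))))) .nil)))))))) (.cD (nat_lit 8) (.dfs (nat_lit 16) (nat_lit 4098) (nat_lit 4098) (nat_lit 4097) (nat_lit 4097) (nat_lit 0) (nat_lit 0) (nat_lit 3) (nat_lit 0) (nat_lit 0) (nat_lit 0) (nat_lit 1) (nat_lit 0) (nat_lit 1) (nat_lit 0) (nat_lit 1) (nat_lit 0x101010101010100) (.cD (nat_lit 8) (.kc (nat_lit 24) (nat_lit 0x3001001)) (.cD (nat_lit 16) (.dfs (nat_lit 32) (nat_lit 4100) (nat_lit 4100) (nat_lit 0x1002001) (nat_lit 0x1002001) (nat_lit 0) (nat_lit 0) (nat_lit 3) (nat_lit 0) (nat_lit 0) (nat_lit 0) (nat_lit 1) (nat_lit 0) (nat_lit 1) (nat_lit 0) (nat_lit 1) (nat_lit 0x101010101010100) (.cD (nat_lit 8) (.kc (nat_lit 40) (nat_lit 0x5001001)) (.cD (nat_lit 16) (.kc (nat_lit 48) (nat_lit 0x3001001)) (.cD (nat_lit 24) (.kc (nat_lit 56) (nat_lit 0x7001001)) (.cD (nat_lit 32) (.kA false (nat_lit 0x700400200800100a004008014005011001000003)) (.cD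 (nat_lit 40) (.kA false (nat_lit 0x1100100000600100200d001011001000003)) (.cD (nat_lit 48) (.dfs (nat_lit 7) (nat_lit 0x1004003002008) (nat_lit 0x1007003002008) (nat_lit 4097) (nat_lit 4097) (nat_lit 3) (nat_lit 0) (nat_lit 2) (nat_lit 0) (nat_lit 0) (nat_lit 4) (nat_lit 1) (nat_lit 0) (nat_lit 4104) (nat_lit 8) (nat_lit 0x100004c00005c) (nat_lit 0x100010000000000000000000) (.cD (nat_lit 76) (.kA true (nat_lit 0x1b006002010001011001000019006002016002011001000004)) (.cD (nat_lit 92) (.kA true (nat_lit 0x1f00600201000101100100001d006002016002011001000004)) .nil))) (.cD (nat_lit 56) (.dfs (nat_lit 7) (nat_lit 4101) (nat_lit 4102) (nat_lit 1) (nat_lit 1) (nat_lit 3) (nat_lit 0) (nat_lit 1) (nat_lit 4144) (nat_lit 0x40020010008004002011) (nat_lit 0) (nat_lit 1) (nat_lit 0) (nat_lit 1) (nat_lit 0) (nat_lit 1) (nat_lit 0) .nil) .nil)))))))) (.cD (nat_lit 24) (.dfs (nat_lit 32) (nat_lit 4100) (nat_lit 4100) (nat_lit 0x1002001) (nat_lit 0x1002001) (nat_lit 0) (nat_lit 0)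 (nat_lit 3) (nat_lit 0) (nat_lit 0) (nat_lit 0) (nat_lit 1) (nat_lit 0) (nat_lit 1) (nat_lit 0) (nat_lit 1) (nat_lit 0x101010101010100) (.cD (nat_lit 8) (.kc (nat_lit 40) (nat_lit 0x5001001)) (.cD (nat_lit 16) (.kc (nat_lit 56) (nat_lit 0x7001001)) (.cD (nat_lit 24) (.kc (nat_lit 48) (nat_lit 0x3001001)) (.cD (nat_lit 32) (.kA false (nat_lit 0x700400200800100a004008014005011001000003)) (.cD (nat_lit 40) (.kA false (nat_lit 0x1100100000600100200d001011001000003)) (.cD (nat_lit 48) (.kA false (nat_lit 0x700400200800100a004008014005011001000003)) (.cD (nat_lit 56) (.kA false (nat_lit 0x700400200800100a004008014005011001000003)) .nil)))))))) (.cD (nat_lit 32) (.kF (nat_lit 8) (nat_lit 0x3006002004004000002007001002002000004)) (.cD (nat_lit 40) (.kF (nat_lit 8) (nat_lit 0x11001000002007001002002000003)) (.cD (nat_lit 48) (.kF (nat_lit 16) (nat_lit 0x1100100000e014006001006001003)) (.cD (nat_lit 56) (.kF (nat_lit 16) (nat_lit 0x1100100000a014006001006001003)) .nil))))))))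 (.cD (nat_lit 16) (.kF (nat_lit 8) (nat_lit 0x2002000001003001002)) (.cD (nat_lit 20) (.kF (nat_lit 8) (nat_lit 0xe01e003001003001002)) (.cD (nat_lit 24) (.kF (nat_lit 8) (nat_lit 0x11001000002016005011001000001003001004)) (.cD (nat_lit 32) (.dfs (nat_lit 16) (nat_lit 4098) (nat_lit 4098) (nat_lit 4097) (nat_lit 4097) (nat_lit 0) (nat_lit 0) (nat_lit 3) (nat_lit 0) (nat_lit 0) (nat_lit 0) (nat_lit 1) (nat_lit 0) (nat_lit 0x1008004) (nat_lit 32772) (nat_lit 0x1001004000008001014000018) (nat_lit 0x1000101110110) (.cD (nat_lit 4) (.kF (nat_lit 16) (nat_lit 0x11001000001006001002)) (.cD (nat_lit 8) (.kF (nat_lit 8) (nat_lit 0x11001000004016005002007001002002000004)) (.cD (nat_lit 16) (.dfs (nat_lit 32) (nat_lit 4100) (nat_lit 4100) (nat_lit 0x1002001) (nat_lit 0x1002001) (nat_lit 0) (nat_lit 0) (nat_lit 3) (nat_lit 0) (nat_lit 0) (nat_lit 0) (nat_lit 1) (nat_lit 0) (nat_lit 0x1008004) (nat_lit 32772) (nat_lit 0x1001004000008001014000018) (nat_lit 0x1000101110110) (.cD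 (nat_lit 4) (.kA false (nat_lit 0x1100100000400100200c001002)) (.cD (nat_lit 8) (.kA false (nat_lit 0x300400200c002011001000002)) (.cD (nat_lit 16) (.kc (nat_lit 48) (nat_lit 0x3001001)) (.cD (nat_lit 20) (.kA false (nat_lit 0x1100100000400100200c001002)) (.cD (nat_lit 24) (.dfs (nat_lit 7) (nat_lit 4100) (nat_lit 4103) (nat_lit 1) (nat_lit 1) (nat_lit 3) (nat_lit 0) (nat_lit 1) (nat_lit 4128) (nat_lit 0x40020010008004002011) (nat_lit 0) (nat_lit 1) (nat_lit 0) (nat_lit 1) (nat_lit 0) (nat_lit 1) (nat_lit 0) .nil) (.cD (nat_lit 32) (.kc (nat_lit 40) (nat_lit 0x5001001)) (.cD (nat_lit 48) (.kc (nat_lit 56) (nat_lit 0x7001001)) .nil)))))))) (.cD (nat_lit 20) (.dfs (nat_lit 32) (nat_lit 4100) (nat_lit 4100) (nat_lit 0x1002001) (nat_lit 0x1002001) (nat_lit 0) (nat_lit 0) (nat_lit 3) (nat_lit 0) (nat_lit 0) (nat_lit 0) (nat_lit 1) (nat_lit 0) (nat_lit 1) (nat_lit 0) (nat_lit 1) (nat_lit 0x11001100110010) (.cD (nat_lit 4) (.kA false (nat_lit 0x1100100000400100200c001002))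 (.cD (nat_lit 16) (.kA false (nat_lit 0x1100100000400100200c001002)) (.cD (nat_lit 20) (.kc (nat_lit 48) (nat_lit 0x3001001)) (.cD (nat_lit 32) (.kc (nat_lit 40) (nat_lit 0x5001001)) (.cD (nat_lit 36) (.kA false (nat_lit 0x1100100000400100200c001002)) (.cD (nat_lit 48) (.kA false (nat_lit 0x1100100000400100200c001002)) (.cD (nat_lit 52) (.kc (nat_lit 56) (nat_lit 0x7001001)) .nil)))))))) (.cD (nat_lit 24) (.kF (nat_lit 16) (nat_lit 0x11001000001006001002)) (.cD (nat_lit 32) (.kc (nat_lit 24) (nat_lit 0x3001001)) (.cD (nat_lit 48) (.dfs (nat_lit 32) (nat_lit 4100) (nat_lit 4100) (nat_lit 0x1002001) (nat_lit 0x1002001) (nat_lit 0) (nat_lit 0) (nat_lit 3) (nat_lit 0) (nat_lit 0) (nat_lit 0) (nat_lit 1) (nat_lit 0) (nat_lit 0x1008004) (nat_lit 32772) (nat_lit 0x1001004000008001014000018) (nat_lit 0x1000101110110) (.cD (nat_lit 4) (.kA false (nat_lit 0x1100100000400100200c001002)) (.cD (nat_lit 8) (.kA false (nat_lit 0x700400600c002011001000002)) (.cD (nat_lit 16) (.kc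 (nat_lit 56) (nat_lit 0x7001001)) (.cD (nat_lit 20) (.kA false (nat_lit 0x1100100000400100200c001002)) (.cD (nat_lit 24) (.kA false (nat_lit 0x100400600c002011001000002)) (.cD (nat_lit 32) (.kc (nat_lit 40) (nat_lit 0x5001001)) (.cD (nat_lit 48) (.kc (nat_lit 48) (nat_lit 0x3001001)) .nil)))))))) .nil)))))))) (.cD (nat_lit 48) (.kF (nat_lit 8) (nat_lit 0x13003000001003001002)) .nil))))))))))
theorem c183 : (chk [] [] p183).n x99 s183 = true := by decide +kernel
noncomputable def p184 : Pf := (.anc (nat_lit 68) (nat_lit 0x10002002002000002) (nat_lit 0x1009020010004) (.czp (nat_lit 64) (nat_lit 0) (nat_lit 0x1040020010008004) z6 (.dfs (nat_lit 4) (nat_lit 4097) (nat_lit 4097) (nat_lit 1) (nat_lit 1) (nat_lit 0) (nat_lit 0) (nat_lit 3) (nat_lit 0) (nat_lit 0) (nat_lit 0) (nat_lit 1) (nat_lit 0) (nat_lit 0x1008004) (nat_lit 32772) (nat_lit 0x1001004000008001014000018) (nat_lit 0x1000101110110) (.cD (nat_lit 4) (.dfs (nat_lit 16) (nat_lit 4098) (nat_lit 4098) (nat_lit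 4097) (nat_lit 4097) (nat_lit 0) (nat_lit 0) (nat_lit 3) (nat_lit 0) (nat_lit 0) (nat_lit 0) (nat_lit 1) (nat_lit 0) (nat_lit 1) (nat_lit 0) (nat_lit 1) (nat_lit 0x11001100110010) (.cD (nat_lit 4) (.kc (nat_lit 20) (nat_lit 0x3001001)) (.cD (nat_lit 16) (.dfs (nat_lit 32) (nat_lit 4100) (nat_lit 4100) (nat_lit 0x1002001) (nat_lit 0x1002001) (nat_lit 0) (nat_lit 0) (nat_lit 3) (nat_lit 0) (nat_lit 0) (nat_lit 0) (nat_lit 1) (nat_lit 0) (nat_lit 1) (nat_lit 0) (nat_lit 1) (nat_lit 0x11001100110010) (.cD (nat_lit 4) (.kc (nat_lit 36) (nat_lit 0x5001001)) (.cD (nat_lit 16) (.kc (nat_lit 48) (nat_lit 0x3001001)) (.cD (nat_lit 20) (.kc (nat_lit 52) (nat_lit 0x7001001)) (.cD (nat_lit 32) (.dfs (nat_lit 9) (nat_lit 0x1004001003008) (nat_lit 0x1005001003008) (nat_lit 4098) (nat_lit 4098) (nat_lit 3) (nat_lit 0) (nat_lit 2) (nat_lit 1) (nat_lit 0) (nat_lit 8) (nat_lit 1) (nat_lit 0) (nat_lit 1) (nat_lit 0) (nat_lit 1) (nat_lit 0) .nil) (.cD (nat_lit 36) (.kA true (nat_lit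 0x2100100000400100300d001021001000003)) (.cD (nat_lit 48) (.kA true (nat_lit 0x600800401000400400100300d001021001000003)) (.cD (nat_lit 52) (.kA true (nat_lit 0x5004003008001008004002005007021001000003)) .nil)))))))) (.cD (nat_lit 20) (.dfs (nat_lit 32) (nat_lit 4100) (nat_lit 4100) (nat_lit 0x1002001) (nat_lit 0x1002001) (nat_lit 0) (nat_lit 0) (nat_lit 3) (nat_lit 0) (nat_lit 0) (nat_lit 0) (nat_lit 1) (nat_lit 0) (nat_lit 1) (nat_lit 0) (nat_lit 1) (nat_lit 0x11001100110010) (.cD (nat_lit 4) (.kc (nat_lit 36) (nat_lit 0x5001001)) (.cD (nat_lit 16) (.kc (nat_lit 52) (nat_lit 0x7001001)) (.cD (nat_lit 20) (.kc (nat_lit 48) (nat_lit 0x3001001)) (.cD (nat_lit 32) (.kA true (nat_lit 0x5004003008001008004002005007021001000003)) (.cD (nat_lit 36) (.dfs (nat_lit 9) (nat_lit 4102) (nat_lit 4103) (nat_lit 1) (nat_lit 1) (nat_lit 3) (nat_lit 0) (nat_lit 1) (nat_lit 4112) (nat_lit 0x40020010008004002021) (nat_lit 0) (nat_lit 1) (nat_lit 0) (nat_lit 1) (nat_lit 0) (nat_lit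 1) (nat_lit 0) .nil) (.cD (nat_lit 48) (.kA true (nat_lit 0x400300500800100400100300c001002)) (.cD (nat_lit 52) (.kA true (nat_lit 0x400700100800100400100300c001002)) .nil)))))))) (.cD (nat_lit 32) (.kF (nat_lit 16) (nat_lit 0x100400100c012004002002000003)) (.cD (nat_lit 36) (.kF (nat_lit 16) (nat_lit 0x100400100c012004002002000003)) (.cD (nat_lit 48) (.dfs (nat_lit 32) (nat_lit 4100) (nat_lit 4100) (nat_lit 0x1002001) (nat_lit 0x1002001) (nat_lit 0) (nat_lit 0) (nat_lit 3) (nat_lit 0) (nat_lit 0) (nat_lit 0) (nat_lit 1) (nat_lit 0) (nat_lit 1) (nat_lit 0) (nat_lit 1) (nat_lit 0x11001100110010) (.cD (nat_lit 4) (.kc (nat_lit 36) (nat_lit 0x5001001)) (.cD (nat_lit 16) (.kA true (nat_lit 0x400200100800100400100300c001002)) (.cD (nat_lit 20) (.kA true (nat_lit 0x400600500800100400100300c001002)) (.cD (nat_lit 32) (.kA true (nat_lit 0x5004003008001008004002005007021001000003)) (.cD (nat_lit 36) (.kA true (nat_lit 0x400500600800100400100300c001002)) (.cD (nat_lit 48)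 (.kc (nat_lit 48) (nat_lit 0x3001001)) (.cD (nat_lit 52) (.kc (nat_lit 52) (nat_lit 0x7001001)) .nil)))))))) (.cD (nat_lit 52) (.dfs (nat_lit 32) (nat_lit 4100) (nat_lit 4100) (nat_lit 0x1002001) (nat_lit 0x1002001) (nat_lit 0) (nat_lit 0) (nat_lit 3) (nat_lit 0) (nat_lit 0) (nat_lit 0) (nat_lit 1) (nat_lit 0) (nat_lit 1) (nat_lit 0) (nat_lit 1) (nat_lit 0x11001100110010) (.cD (nat_lit 4) (.kc (nat_lit 36) (nat_lit 0x5001001)) (.cD (nat_lit 16) (.kA true (nat_lit 0x400200500800100400100300c001002)) (.cD (nat_lit 20) (.kA true (nat_lit 0x400600100800100400100300c001002)) (.cD (nat_lit 32) (.kA true (nat_lit 0x5004003008001008004002005007021001000003)) (.cD (nat_lit 36) (.kA true (nat_lit 0x400500200800100400100300c001002)) (.cD (nat_lit 48) (.kc (nat_lit 52) (nat_lit 0x7001001)) (.cD (nat_lit 52) (.kc (nat_lit 48) (nat_lit 0x3001001)) .nil)))))))) .nil)))))))) (.cD (nat_lit 8) (.dfs (nat_lit 16) (nat_lit 4098) (nat_lit 4098) (nat_lit 4097) (nat_lit 4097) (nat_lit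 0) (nat_lit 0) (nat_lit 3) (nat_lit 0) (nat_lit 0) (nat_lit 0) (nat_lit 1) (nat_lit 0) (nat_lit 1) (nat_lit 0) (nat_lit 1) (nat_lit 0x101010101010100) (.cD (nat_lit 8) (.kc (nat_lit 20) (nat_lit 0x3001001)) (.cD (nat_lit 16) (.dfs (nat_lit 32) (nat_lit 4100) (nat_lit 4100) (nat_lit 0x1002001) (nat_lit 0x1002001) (nat_lit 0) (nat_lit 0) (nat_lit 3) (nat_lit 0) (nat_lit 0) (nat_lit 0) (nat_lit 1) (nat_lit 0) (nat_lit 1) (nat_lit 0) (nat_lit 1) (nat_lit 0x101010101010100) (.cD (nat_lit 8) (.kc (nat_lit 36) (nat_lit 0x5001001)) (.cD (nat_lit 16) (.kc (nat_lit 48) (nat_lit 0x3001001)) (.cD (nat_lit 24) (.kc (nat_lit 52) (nat_lit 0x7001001)) (.cD (nat_lit 32) (.kA false (nat_lit 0x700400200c00200a004008014005021001000003)) (.cD (nat_lit 40) (.kA false (nat_lit 0x2100100000600500200d002021001000003)) (.cD (nat_lit 48) (.kA false (nat_lit 0xa00800c01000400600300200b002021001000003)) (.cD (nat_lit 56) (.kA false (nat_lit 0x100400200c00200a004008014005021001000003)) .nil))))))))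 (.cD (nat_lit 24) (.dfs (nat_lit 32) (nat_lit 4100) (nat_lit 4100) (nat_lit 0x1002001) (nat_lit 0x1002001) (nat_lit 0) (nat_lit 0) (nat_lit 3) (nat_lit 0) (nat_lit 0) (nat_lit 0) (nat_lit 1) (nat_lit 0) (nat_lit 1) (nat_lit 0) (nat_lit 1) (nat_lit 0x101010101010100) (.cD (nat_lit 8) (.kc (nat_lit 36) (nat_lit 0x5001001)) (.cD (nat_lit 16) (.kc (nat_lit 52) (nat_lit 0x7001001)) (.cD (nat_lit 24) (.kc (nat_lit 48) (nat_lit 0x3001001)) (.cD (nat_lit 32) (.kA false (nat_lit 0x300400600c00200a004008014005021001000003)) (.cD (nat_lit 40) (.kA false (nat_lit 0x2100100000200500600d002021001000003)) (.cD (nat_lit 48) (.kA false (nat_lit 0x500400600c00200a004008014005021001000003)) (.cD (nat_lit 56) (.kA false (nat_lit 0xc00800a01000400200300600b002021001000003)) .nil)))))))) (.cD (nat_lit 32) (.kF (nat_lit 16) (nat_lit 0x100400100c012004002002000003)) (.cD (nat_lit 40) (.kF (nat_lit 16) (nat_lit 0x100400100c012004002002000003)) (.cD (nat_lit 48) (.kF (nat_lit 16) (nat_lit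 0x2100100000e014006001006001003)) (.cD (nat_lit 56) (.kF (nat_lit 16) (nat_lit 0x2100100000a014006001006001003)) .nil)))))))) (.cD (nat_lit 16) (.kF (nat_lit 4) (nat_lit 0x2002000001003001002)) (.cD (nat_lit 20) (.kF (nat_lit 4) (nat_lit 0xe01e003001003001002)) (.cD (nat_lit 24) (.kF (nat_lit 4) (nat_lit 0x1002001002012004002002000003)) (.cD (nat_lit 32) (.dfs (nat_lit 16) (nat_lit 4098) (nat_lit 4098) (nat_lit 4097) (nat_lit 4097) (nat_lit 0) (nat_lit 0) (nat_lit 3) (nat_lit 0) (nat_lit 0) (nat_lit 0) (nat_lit 1) (nat_lit 0) (nat_lit 0x1008004) (nat_lit 32772) (nat_lit 0x1001004000008001014000018) (nat_lit 0x1000101110110) (.cD (nat_lit 4) (.kF (nat_lit 16) (nat_lit 0x21001000001006001002)) (.cD (nat_lit 8) (.kF (nat_lit 16) (nat_lit 0x100400100c012004002002000003)) (.cD (nat_lit 16) (.dfs (nat_lit 32) (nat_lit 4100) (nat_lit 4100) (nat_lit 0x1002001) (nat_lit 0x1002001) (nat_lit 0) (nat_lit 0) (nat_lit 3) (nat_lit 0) (nat_lit 0) (nat_lit 0) (nat_lit 1) (nat_lit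 0) (nat_lit 0x1008004) (nat_lit 32772) (nat_lit 0x1001004000008001014000018) (nat_lit 0x1000101110110) (.cD (nat_lit 4) (.kA true (nat_lit 0x100400600c002021001000002)) (.cD (nat_lit 8) (.kA false (nat_lit 0x300400200c002021001000002)) (.cD (nat_lit 16) (.kc (nat_lit 48) (nat_lit 0x3001001)) (.cD (nat_lit 20) (.kA true (nat_lit 0x300400600c002021001000002)) (.cD (nat_lit 24) (.kA false (nat_lit 0x100400200c002021001000002)) (.cD (nat_lit 32) (.kc (nat_lit 36) (nat_lit 0x5001001)) (.cD (nat_lit 48) (.kc (nat_lit 52) (nat_lit 0x7001001)) .nil)))))))) (.cD (nat_lit 20) (.dfs (nat_lit 32) (nat_lit 4100) (nat_lit 4100) (nat_lit 0x1002001) (nat_lit 0x1002001) (nat_lit 0) (nat_lit 0) (nat_lit 3) (nat_lit 0) (nat_lit 0) (nat_lit 0) (nat_lit 1) (nat_lit 0) (nat_lit 1) (nat_lit 0) (nat_lit 1) (nat_lit 0x11001100110010) (.cD (nat_lit 4) (.kA true (nat_lit 0x100400700c002021001000002)) (.cD (nat_lit 16) (.kA true (nat_lit 0x300400500c002021001000002)) (.cD (nat_lit 20) (.kc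 (nat_lit 48) (nat_lit 0x3001001)) (.cD (nat_lit 32) (.kc (nat_lit 36) (nat_lit 0x5001001)) (.cD (nat_lit 36) (.dfs (nat_lit 9) (nat_lit 4100) (nat_lit 4101) (nat_lit 1) (nat_lit 1) (nat_lit 3) (nat_lit 0) (nat_lit 1) (nat_lit 4128) (nat_lit 0x40020010008004002021) (nat_lit 0) (nat_lit 1) (nat_lit 0) (nat_lit 1) (nat_lit 0) (nat_lit 1) (nat_lit 0) .nil) (.cD (nat_lit 48) (.kA true (nat_lit 0x700400100c002021001000002)) (.cD (nat_lit 52) (.kc (nat_lit 52) (nat_lit 0x7001001)) .nil)))))))) (.cD (nat_lit 24) (.kF (nat_lit 16) (nat_lit 0x21001000001006001002)) (.cD (nat_lit 32) (.kc (nat_lit 20) (nat_lit 0x3001001)) (.cD (nat_lit 48) (.dfs (nat_lit 32) (nat_lit 4100) (nat_lit 4100) (nat_lit 0x1002001) (nat_lit 0x1002001) (nat_lit 0) (nat_lit 0) (nat_lit 3) (nat_lit 0) (nat_lit 0) (nat_lit 0) (nat_lit 1) (nat_lit 0) (nat_lit 0x1008004) (nat_lit 32772) (nat_lit 0x1001004000008001014000018) (nat_lit 0x1000101110110) (.cD (nat_lit 4) (.kA true (nat_lit 0x100400200c002021001000002))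 (.cD (nat_lit 8) (.kA false (nat_lit 0x700400600c002021001000002)) (.cD (nat_lit 16) (.kc (nat_lit 52) (nat_lit 0x7001001)) (.cD (nat_lit 20) (.kA true (nat_lit 0x700400200c002021001000002)) (.cD (nat_lit 24) (.kA false (nat_lit 0x100400600c002021001000002)) (.cD (nat_lit 32) (.kc (nat_lit 36) (nat_lit 0x5001001)) (.cD (nat_lit 48) (.kc (nat_lit 48) (nat_lit 0x3001001)) .nil)))))))) .nil)))))))) (.cD (nat_lit 48) (.kF (nat_lit 4) (nat_lit 0x1002001002012004002002000003)) .nil))))))))))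
theorem c184 : (chk [] [] p184).n x100 s184 = true := by decide +kernel
noncomputable def p185 : Pf := (.anc (nat_lit 68) (nat_lit 0x10002002002000002) (nat_lit 0x1009020010004) (.czp (nat_lit 64) (nat_lit 0) (nat_lit 0x1040020010008004) z6 (.dfs (nat_lit 4) (nat_lit 4097) (nat_lit 4097) (nat_lit 1) (nat_lit 1) (nat_lit 0) (nat_lit 0) (nat_lit 3) (nat_lit 0) (nat_lit 0) (nat_lit 0) (nat_lit 1) (nat_lit 0) (nat_lit 0x1008004) (nat_lit 32772) (nat_lit 0x1001004000008001014000018) (nat_lit 0x1000101110110) (.cD (nat_lit 4) (.dfs (nat_lit 16) (nat_lit 4098) (nat_lit 4098) (nat_lit 4097) (nat_lit 4097) (nat_lit 0) (nat_lit 0) (nat_lit 3) (nat_lit 0) (nat_lit 0) (nat_lit 0) (nat_lit 1) (nat_lit 0) (nat_lit 1) (nat_lit 0) (nat_lit 1) (nat_lit 0x11001100110010) (.cD (nat_lit 4) (.kc (nat_lit 20) (nat_lit 0x3001001)) (.cD (nat_lit 16) (.dfs (nat_lit 32) (nat_lit 4100) (nat_lit 4100) (nat_lit 0x1002001) (nat_lit 0x1002001) (nat_lit 0) (nat_lit 0) (nat_lit 3) (nat_lit 0) (nat_lit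 0) (nat_lit 0) (nat_lit 1) (nat_lit 0) (nat_lit 1) (nat_lit 0) (nat_lit 1) (nat_lit 0x11001100110010) (.cD (nat_lit 4) (.kc (nat_lit 36) (nat_lit 0x5001001)) (.cD (nat_lit 16) (.kc (nat_lit 48) (nat_lit 0x3001001)) (.cD (nat_lit 20) (.kc (nat_lit 52) (nat_lit 0x7001001)) (.cD (nat_lit 32) (.dfs (nat_lit 9) (nat_lit 0x1004001003008) (nat_lit 0x1005001003008) (nat_lit 4098) (nat_lit 4098) (nat_lit 3) (nat_lit 0) (nat_lit 2) (nat_lit 1) (nat_lit 0) (nat_lit 8) (nat_lit 1) (nat_lit 0) (nat_lit 1) (nat_lit 0) (nat_lit 1) (nat_lit 0) .nil) (.cD (nat_lit 36) (.kA true (nat_lit 0x2100100000400100300d001021001000003)) (.cD (nat_lit 48) (.kA true (nat_lit 0x600800401000400400100300d001021001000003)) (.cD (nat_lit 52) (.kA true (nat_lit 0x5004003008001008004002005007021001000003)) .nil)))))))) (.cD (nat_lit 20) (.dfs (nat_lit 32) (nat_lit 4100) (nat_lit 4100) (nat_lit 0x1002001) (nat_lit 0x1002001) (nat_lit 0) (nat_lit 0) (nat_lit 3) (nat_lit 0) (nat_lit 0) (nat_lit 0) (nat_lit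 1) (nat_lit 0) (nat_lit 1) (nat_lit 0) (nat_lit 1) (nat_lit 0x11001100110010) (.cD (nat_lit 4) (.kc (nat_lit 36) (nat_lit 0x5001001)) (.cD (nat_lit 16) (.kc (nat_lit 52) (nat_lit 0x7001001)) (.cD (nat_lit 20) (.kc (nat_lit 48) (nat_lit 0x3001001)) (.cD (nat_lit 32) (.kA true (nat_lit 0x5004003008001008004002005007021001000003)) (.cD (nat_lit 36) (.dfs (nat_lit 9) (nat_lit 4102) (nat_lit 4103) (nat_lit 1) (nat_lit 1) (nat_lit 3) (nat_lit 0) (nat_lit 1) (nat_lit 4112) (nat_lit 0x40020010008004002021) (nat_lit 0) (nat_lit 1) (nat_lit 0) (nat_lit 1) (nat_lit 0) (nat_lit 1) (nat_lit 0) .nil) (.cD (nat_lit 48) (.kA true (nat_lit 0x400300500800100400100300c001002)) (.cD (nat_lit 52) (.kA true (nat_lit 0x400700100800100400100300c001002)) .nil)))))))) (.cD (nat_lit 32) (.kF (nat_lit 16) (nat_lit 0x100400100c012004002002000003)) (.cD (nat_lit 36) (.kF (nat_lit 16) (nat_lit 0x100400100c012004002002000003)) (.cD (nat_lit 48) (.dfs (nat_lit 32) (nat_lit 4100) (nat_lit 4100)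 (nat_lit 0x1002001) (nat_lit 0x1002001) (nat_lit 0) (nat_lit 0) (nat_lit 3) (nat_lit 0) (nat_lit 0) (nat_lit 0) (nat_lit 1) (nat_lit 0) (nat_lit 1) (nat_lit 0) (nat_lit 1) (nat_lit 0x11001100110010) (.cD (nat_lit 4) (.kc (nat_lit 36) (nat_lit 0x5001001)) (.cD (nat_lit 16) (.kA true (nat_lit 0x400200100800100400100300c001002)) (.cD (nat_lit 20) (.kA true (nat_lit 0x400600500800100400100300c001002)) (.cD (nat_lit 32) (.kA true (nat_lit 0x5004003008001008004002005007021001000003)) (.cD (nat_lit 36) (.kA true (nat_lit 0x400500600800100400100300c001002)) (.cD (nat_lit 48) (.kc (nat_lit 48) (nat_lit 0x3001001)) (.cD (nat_lit 52) (.kc (nat_lit 52) (nat_lit 0x7001001)) .nil)))))))) (.cD (nat_lit 52) (.dfs (nat_lit 32) (nat_lit 4100) (nat_lit 4100) (nat_lit 0x1002001) (nat_lit 0x1002001) (nat_lit 0) (nat_lit 0) (nat_lit 3) (nat_lit 0) (nat_lit 0) (nat_lit 0) (nat_lit 1) (nat_lit 0) (nat_lit 1) (nat_lit 0) (nat_lit 1) (nat_lit 0x11001100110010) (.cD (nat_lit 4) (.kc (nat_lit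 36) (nat_lit 0x5001001)) (.cD (nat_lit 16) (.kA true (nat_lit 0x400200500800100400100300c001002)) (.cD (nat_lit 20) (.kA true (nat_lit 0x400600100800100400100300c001002)) (.cD (nat_lit 32) (.kA true (nat_lit 0x5004003008001008004002005007021001000003)) (.cD (nat_lit 36) (.kA true (nat_lit 0x400500200800100400100300c001002)) (.cD (nat_lit 48) (.kc (nat_lit 52) (nat_lit 0x7001001)) (.cD (nat_lit 52) (.kc (nat_lit 48) (nat_lit 0x3001001)) .nil)))))))) .nil)))))))) (.cD (nat_lit 8) (.dfs (nat_lit 16) (nat_lit 4098) (nat_lit 4098) (nat_lit 4097) (nat_lit 4097) (nat_lit 0) (nat_lit 0) (nat_lit 3) (nat_lit 0) (nat_lit 0) (nat_lit 0) (nat_lit 1) (nat_lit 0) (nat_lit 1) (nat_lit 0) (nat_lit 1) (nat_lit 0x101010101010100) (.cD (nat_lit 8) (.kc (nat_lit 20) (nat_lit 0x3001001)) (.cD (nat_lit 16) (.dfs (nat_lit 32) (nat_lit 4100) (nat_lit 4100) (nat_lit 0x1002001) (nat_lit 0x1002001) (nat_lit 0) (nat_lit 0) (nat_lit 3) (nat_lit 0) (nat_lit 0) (nat_lit 0) (nat_lit 1) (nat_lit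 0) (nat_lit 1) (nat_lit 0) (nat_lit 1) (nat_lit 0x101010101010100) (.cD (nat_lit 8) (.kc (nat_lit 36) (nat_lit 0x5001001)) (.cD (nat_lit 16) (.kc (nat_lit 48) (nat_lit 0x3001001)) (.cD (nat_lit 24) (.kc (nat_lit 52) (nat_lit 0x7001001)) (.cD (nat_lit 32) (.kA false (nat_lit 0x700400200c00200a004008014005021001000003)) (.cD (nat_lit 40) (.kA false (nat_lit 0x2100100000600500200d002021001000003)) (.cD (nat_lit 48) (.kA false (nat_lit 0xa00800c01000400600300200b002021001000003)) (.cD (nat_lit 56) (.kA false (nat_lit 0x100400200c00200a004008014005021001000003)) .nil)))))))) (.cD (nat_lit 24) (.dfs (nat_lit 32) (nat_lit 4100) (nat_lit 4100) (nat_lit 0x1002001) (nat_lit 0x1002001) (nat_lit 0) (nat_lit 0) (nat_lit 3) (nat_lit 0) (nat_lit 0) (nat_lit 0) (nat_lit 1) (nat_lit 0) (nat_lit 1) (nat_lit 0) (nat_lit 1) (nat_lit 0x101010101010100) (.cD (nat_lit 8) (.kc (nat_lit 36) (nat_lit 0x5001001)) (.cD (nat_lit 16) (.kc (nat_lit 52) (nat_lit 0x7001001)) (.cD (nat_lit 24) (.kc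 (nat_lit 48) (nat_lit 0x3001001)) (.cD (nat_lit 32) (.kA false (nat_lit 0x300400600c00200a004008014005021001000003)) (.cD (nat_lit 40) (.kA false (nat_lit 0x2100100000200500600d002021001000003)) (.cD (nat_lit 48) (.kA false (nat_lit 0x500400600c00200a004008014005021001000003)) (.cD (nat_lit 56) (.kA false (nat_lit 0xc00800a01000400200300600b002021001000003)) .nil)))))))) (.cD (nat_lit 32) (.kF (nat_lit 16) (nat_lit 0x100400100c012004002002000003)) (.cD (nat_lit 40) (.kF (nat_lit 16) (nat_lit 0x100400100c012004002002000003)) (.cD (nat_lit 48) (.kF (nat_lit 16) (nat_lit 0x2100100000e014006001006001003)) (.cD (nat_lit 56) (.kF (nat_lit 16) (nat_lit 0x2100100000a014006001006001003)) .nil)))))))) (.cD (nat_lit 16) (.kF (nat_lit 4) (nat_lit 0x2002000001003001002)) (.cD (nat_lit 20) (.kF (nat_lit 4) (nat_lit 0xe01e003001003001002)) (.cD (nat_lit 24) (.kF (nat_lit 4) (nat_lit 0x1002001002012004002002000003)) (.cD (nat_lit 32) (.dfs (nat_lit 16) (nat_lit 4098) (nat_lit 4098)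 (nat_lit 4097) (nat_lit 4097) (nat_lit 0) (nat_lit 0) (nat_lit 3) (nat_lit 0) (nat_lit 0) (nat_lit 0) (nat_lit 1) (nat_lit 0) (nat_lit 0x1008004) (nat_lit 32772) (nat_lit 0x1001004000008001014000018) (nat_lit 0x1000101110110) (.cD (nat_lit 4) (.kF (nat_lit 16) (nat_lit 0x21001000001006001002)) (.cD (nat_lit 8) (.kF (nat_lit 16) (nat_lit 0x100400100c012004002002000003)) (.cD (nat_lit 16) (.dfs (nat_lit 32) (nat_lit 4100) (nat_lit 4100) (nat_lit 0x1002001) (nat_lit 0x1002001) (nat_lit 0) (nat_lit 0) (nat_lit 3) (nat_lit 0) (nat_lit 0) (nat_lit 0) (nat_lit 1) (nat_lit 0) (nat_lit 0x1008004) (nat_lit 32772) (nat_lit 0x1001004000008001014000018) (nat_lit 0x1000101110110) (.cD (nat_lit 4) (.kA true (nat_lit 0x100400600c002021001000002)) (.cD (nat_lit 8) (.kA false (nat_lit 0x300400200c002021001000002)) (.cD (nat_lit 16) (.kc (nat_lit 48) (nat_lit 0x3001001)) (.cD (nat_lit 20) (.kA true (nat_lit 0x300400600c002021001000002)) (.cD (nat_lit 24) (.kA false (nat_lit 0x100400200c002021001000002))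 (.cD (nat_lit 32) (.kc (nat_lit 36) (nat_lit 0x5001001)) (.cD (nat_lit 48) (.kc (nat_lit 52) (nat_lit 0x7001001)) .nil)))))))) (.cD (nat_lit 20) (.dfs (nat_lit 32) (nat_lit 4100) (nat_lit 4100) (nat_lit 0x1002001) (nat_lit 0x1002001) (nat_lit 0) (nat_lit 0) (nat_lit 3) (nat_lit 0) (nat_lit 0) (nat_lit 0) (nat_lit 1) (nat_lit 0) (nat_lit 1) (nat_lit 0) (nat_lit 1) (nat_lit 0x11001100110010) (.cD (nat_lit 4) (.kA true (nat_lit 0x100400700c002021001000002)) (.cD (nat_lit 16) (.kA true (nat_lit 0x300400500c002021001000002)) (.cD (nat_lit 20) (.kc (nat_lit 48) (nat_lit 0x3001001)) (.cD (nat_lit 32) (.kc (nat_lit 36) (nat_lit 0x5001001)) (.cD (nat_lit 36) (.dfs (nat_lit 9) (nat_lit 4100) (nat_lit 4101) (nat_lit 1) (nat_lit 1) (nat_lit 3) (nat_lit 0) (nat_lit 1) (nat_lit 4128) (nat_lit 0x40020010008004002021) (nat_lit 0) (nat_lit 1) (nat_lit 0) (nat_lit 1) (nat_lit 0) (nat_lit 1) (nat_lit 0) .nil) (.cD (nat_lit 48) (.kA true (nat_lit 0x700400100c002021001000002)) (.cD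 (nat_lit 52) (.kc (nat_lit 52) (nat_lit 0x7001001)) .nil)))))))) (.cD (nat_lit 24) (.kF (nat_lit 16) (nat_lit 0x21001000001006001002)) (.cD (nat_lit 32) (.kc (nat_lit 20) (nat_lit 0x3001001)) (.cD (nat_lit 48) (.dfs (nat_lit 32) (nat_lit 4100) (nat_lit 4100) (nat_lit 0x1002001) (nat_lit 0x1002001) (nat_lit 0) (nat_lit 0) (nat_lit 3) (nat_lit 0) (nat_lit 0) (nat_lit 0) (nat_lit 1) (nat_lit 0) (nat_lit 0x1008004) (nat_lit 32772) (nat_lit 0x1001004000008001014000018) (nat_lit 0x1000101110110) (.cD (nat_lit 4) (.kA true (nat_lit 0x100400200c002021001000002)) (.cD (nat_lit 8) (.kA false (nat_lit 0x700400600c002021001000002)) (.cD (nat_lit 16) (.kc (nat_lit 52) (nat_lit 0x7001001)) (.cD (nat_lit 20) (.kA true (nat_lit 0x700400200c002021001000002)) (.cD (nat_lit 24) (.kA false (nat_lit 0x100400600c002021001000002)) (.cD (nat_lit 32) (.kc (nat_lit 36) (nat_lit 0x5001001)) (.cD (nat_lit 48) (.kc (nat_lit 48) (nat_lit 0x3001001)) .nil)))))))) .nil)))))))) (.cD (nat_lit 48)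 (.kF (nat_lit 4) (nat_lit 0x1002001002012004002002000003)) .nil))))))))))
theorem c185 : (chk [] [] p185).n x101 s185 = true := by decide +kernel
noncomputable def p186 : Pf := (.anc (nat_lit 68) (nat_lit 0x10002002002000002) (nat_lit 0x1009020010004) (.czp (nat_lit 64) (nat_lit 0) (nat_lit 0x1040020010008004) z6 (.dfs (nat_lit 4) (nat_lit 4097) (nat_lit 4097) (nat_lit 1) (nat_lit 1) (nat_lit 0) (nat_lit 0) (nat_lit 3) (nat_lit 0) (nat_lit 0) (nat_lit 0) (nat_lit 1) (nat_lit 0) (nat_lit 0x1008004) (nat_lit 32772) (nat_lit 0x1001004000008001014000018) (nat_lit 0x1000101110110) (.cD (nat_lit 4) (.dfs (nat_lit 16) (nat_lit 4098) (nat_lit 4098) (nat_lit 4097) (nat_lit 4097) (nat_lit 0) (nat_lit 0) (nat_lit 3) (nat_lit 0) (nat_lit 0) (nat_lit 0) (nat_lit 1) (nat_lit 0) (nat_lit 1) (nat_lit 0) (nat_lit 1) (nat_lit 0x11001100110010) (.cD (nat_lit 4) (.kc (nat_lit 20) (nat_lit 0x3001001)) (.cD (nat_lit 16) (.dfs (nat_lit 32) (nat_lit 4100) (nat_lit 4100) (nat_lit 0x1002001)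 (nat_lit 0x1002001) (nat_lit 0) (nat_lit 0) (nat_lit 3) (nat_lit 0) (nat_lit 0) (nat_lit 0) (nat_lit 1) (nat_lit 0) (nat_lit 1) (nat_lit 0) (nat_lit 1) (nat_lit 0x11001100110010) (.cD (nat_lit 4) (.kc (nat_lit 36) (nat_lit 0x5001001)) (.cD (nat_lit 16) (.kc (nat_lit 48) (nat_lit 0x3001001)) (.cD (nat_lit 20) (.kc (nat_lit 52) (nat_lit 0x7001001)) (.cD (nat_lit 32) (.dfs (nat_lit 9) (nat_lit 0x1004001003008) (nat_lit 0x1005001003008) (nat_lit 4098) (nat_lit 4098) (nat_lit 1) (nat_lit 0) (nat_lit 2) (nat_lit 1) (nat_lit 0) (nat_lit 8) (nat_lit 1) (nat_lit 0) (nat_lit 4100) (nat_lit 4) (nat_lit 0x100000c00001c) (nat_lit 0x10001000) (.cD (nat_lit 12) (.kA false (nat_lit 0xd00200401000100200200000f002004016002033003000004)) (.cD (nat_lit 28) (.kA false (nat_lit 0x900200401000100200200000b002004016002033003000004)) .nil))) (.cD (nat_lit 36) (.kA true (nat_lit 0x3100100000400100300d001031001000003)) (.cD (nat_lit 48) (.kA true (nat_lit 0x600800401000400400100300d001031001000003))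 (.cD (nat_lit 52) (.kA true (nat_lit 0x5004003008001008004002005007031001000003)) .nil)))))))) (.cD (nat_lit 20) (.dfs (nat_lit 32) (nat_lit 4100) (nat_lit 4100) (nat_lit 0x1002001) (nat_lit 0x1002001) (nat_lit 0) (nat_lit 0) (nat_lit 3) (nat_lit 0) (nat_lit 0) (nat_lit 0) (nat_lit 1) (nat_lit 0) (nat_lit 1) (nat_lit 0) (nat_lit 1) (nat_lit 0x11001100110010) (.cD (nat_lit 4) (.kc (nat_lit 36) (nat_lit 0x5001001)) (.cD (nat_lit 16) (.kc (nat_lit 52) (nat_lit 0x7001001)) (.cD (nat_lit 20) (.kc (nat_lit 48) (nat_lit 0x3001001)) (.cD (nat_lit 32) (.kA true (nat_lit 0x5004003008001008004002005007031001000003)) (.cD (nat_lit 36) (.dfs (nat_lit 9) (nat_lit 4102) (nat_lit 4103) (nat_lit 1) (nat_lit 1) (nat_lit 1) (nat_lit 0) (nat_lit 1) (nat_lit 4112) (nat_lit 0x40020010008004002031) (nat_lit 0) (nat_lit 1) (nat_lit 0) (nat_lit 1) (nat_lit 0) (nat_lit 1) (nat_lit 0) .nil) (.cD (nat_lit 48) (.kA true (nat_lit 0x400300500800100400100300c001002)) (.cD (nat_lit 52) (.kA true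 (nat_lit 0x400700100800100400100300c001002)) .nil)))))))) (.cD (nat_lit 32) (.kF (nat_lit 16) (nat_lit 0x100400100c012004002002000003)) (.cD (nat_lit 36) (.kF (nat_lit 16) (nat_lit 0x100400100c012004002002000003)) (.cD (nat_lit 48) (.dfs (nat_lit 32) (nat_lit 4100) (nat_lit 4100) (nat_lit 0x1002001) (nat_lit 0x1002001) (nat_lit 0) (nat_lit 0) (nat_lit 3) (nat_lit 0) (nat_lit 0) (nat_lit 0) (nat_lit 1) (nat_lit 0) (nat_lit 1) (nat_lit 0) (nat_lit 1) (nat_lit 0x11001100110010) (.cD (nat_lit 4) (.kc (nat_lit 36) (nat_lit 0x5001001)) (.cD (nat_lit 16) (.kA true (nat_lit 0x400200100800100400100300c001002)) (.cD (nat_lit 20) (.kA true (nat_lit 0x400600500800100400100300c001002)) (.cD (nat_lit 32) (.kA true (nat_lit 0x5004003008001008004002005007031001000003)) (.cD (nat_lit 36) (.kA true (nat_lit 0x400500600800100400100300c001002)) (.cD (nat_lit 48) (.kc (nat_lit 48) (nat_lit 0x3001001)) (.cD (nat_lit 52) (.kc (nat_lit 52) (nat_lit 0x7001001)) .nil)))))))) (.cD (nat_lit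 52) (.dfs (nat_lit 32) (nat_lit 4100) (nat_lit 4100) (nat_lit 0x1002001) (nat_lit 0x1002001) (nat_lit 0) (nat_lit 0) (nat_lit 3) (nat_lit 0) (nat_lit 0) (nat_lit 0) (nat_lit 1) (nat_lit 0) (nat_lit 1) (nat_lit 0) (nat_lit 1) (nat_lit 0x11001100110010) (.cD (nat_lit 4) (.kc (nat_lit 36) (nat_lit 0x5001001)) (.cD (nat_lit 16) (.kA true (nat_lit 0x400200500800100400100300c001002)) (.cD (nat_lit 20) (.kA true (nat_lit 0x400600100800100400100300c001002)) (.cD (nat_lit 32) (.kA true (nat_lit 0x5004003008001008004002005007031001000003)) (.cD (nat_lit 36) (.kA true (nat_lit 0x400500200800100400100300c001002)) (.cD (nat_lit 48) (.kc (nat_lit 52) (nat_lit 0x7001001)) (.cD (nat_lit 52) (.kc (nat_lit 48) (nat_lit 0x3001001)) .nil)))))))) .nil)))))))) (.cD (nat_lit 8) (.dfs (nat_lit 16) (nat_lit 4098) (nat_lit 4098) (nat_lit 4097) (nat_lit 4097) (nat_lit 0) (nat_lit 0) (nat_lit 3) (nat_lit 0) (nat_lit 0) (nat_lit 0) (nat_lit 1) (nat_lit 0) (nat_lit 1) (nat_lit 0) (nat_lit 1)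 (nat_lit 0x101010101010100) (.cD (nat_lit 8) (.kc (nat_lit 20) (nat_lit 0x3001001)) (.cD (nat_lit 16) (.dfs (nat_lit 32) (nat_lit 4100) (nat_lit 4100) (nat_lit 0x1002001) (nat_lit 0x1002001) (nat_lit 0) (nat_lit 0) (nat_lit 3) (nat_lit 0) (nat_lit 0) (nat_lit 0) (nat_lit 1) (nat_lit 0) (nat_lit 1) (nat_lit 0) (nat_lit 1) (nat_lit 0x101010101010100) (.cD (nat_lit 8) (.kc (nat_lit 36) (nat_lit 0x5001001)) (.cD (nat_lit 16) (.kc (nat_lit 48) (nat_lit 0x3001001)) (.cD (nat_lit 24) (.kc (nat_lit 52) (nat_lit 0x7001001)) (.cD (nat_lit 32) (.kA false (nat_lit 0x700400200c00200a004008014005031001000003)) (.cD (nat_lit 40) (.kA false (nat_lit 0x3100100000600500200d002031001000003)) (.cD (nat_lit 48) (.kA false (nat_lit 0xa00800c01000400600300200b002031001000003)) (.cD (nat_lit 56) (.kA false (nat_lit 0x100400200c00200a004008014005031001000003)) .nil)))))))) (.cD (nat_lit 24) (.dfs (nat_lit 32) (nat_lit 4100) (nat_lit 4100) (nat_lit 0x1002001) (nat_lit 0x1002001) (nat_lit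 0) (nat_lit 0) (nat_lit 3) (nat_lit 0) (nat_lit 0) (nat_lit 0) (nat_lit 1) (nat_lit 0) (nat_lit 1) (nat_lit 0) (nat_lit 1) (nat_lit 0x101010101010100) (.cD (nat_lit 8) (.kc (nat_lit 36) (nat_lit 0x5001001)) (.cD (nat_lit 16) (.kc (nat_lit 52) (nat_lit 0x7001001)) (.cD (nat_lit 24) (.kc (nat_lit 48) (nat_lit 0x3001001)) (.cD (nat_lit 32) (.kA false (nat_lit 0x300400600c00200a004008014005031001000003)) (.cD (nat_lit 40) (.kA false (nat_lit 0x3100100000200500600d002031001000003)) (.cD (nat_lit 48) (.kA false (nat_lit 0x500400600c00200a004008014005031001000003)) (.cD (nat_lit 56) (.kA false (nat_lit 0xc00800a01000400200300600b002031001000003)) .nil)))))))) (.cD (nat_lit 32) (.kF (nat_lit 16) (nat_lit 0x100400100c012004002002000003)) (.cD (nat_lit 40) (.kF (nat_lit 16) (nat_lit 0x100400100c012004002002000003)) (.cD (nat_lit 48) (.kF (nat_lit 16) (nat_lit 0x3100100000e014006001006001003)) (.cD (nat_lit 56) (.kF (nat_lit 16) (nat_lit 0x3100100000a014006001006001003)) .nil))))))))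 (.cD (nat_lit 16) (.kF (nat_lit 4) (nat_lit 0x2002000001003001002)) (.cD (nat_lit 20) (.kF (nat_lit 4) (nat_lit 0xe01e003001003001002)) (.cD (nat_lit 24) (.kF (nat_lit 4) (nat_lit 0x1002001002012004002002000003)) (.cD (nat_lit 32) (.dfs (nat_lit 16) (nat_lit 4098) (nat_lit 4098) (nat_lit 4097) (nat_lit 4097) (nat_lit 0) (nat_lit 0) (nat_lit 3) (nat_lit 0) (nat_lit 0) (nat_lit 0) (nat_lit 1) (nat_lit 0) (nat_lit 0x1008004) (nat_lit 32772) (nat_lit 0x1001004000008001014000018) (nat_lit 0x1000101110110) (.cD (nat_lit 4) (.kF (nat_lit 16) (nat_lit 0x31001000001006001002)) (.cD (nat_lit 8) (.kF (nat_lit 16) (nat_lit 0x100400100c012004002002000003)) (.cD (nat_lit 16) (.dfs (nat_lit 32) (nat_lit 4100) (nat_lit 4100) (nat_lit 0x1002001) (nat_lit 0x1002001) (nat_lit 0) (nat_lit 0) (nat_lit 3) (nat_lit 0) (nat_lit 0) (nat_lit 0) (nat_lit 1) (nat_lit 0) (nat_lit 0x1008004) (nat_lit 32772) (nat_lit 0x1001004000008001014000018) (nat_lit 0x1000101110110) (.cD (nat_lit 4) (.kA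 true (nat_lit 0x100400600c002031001000002)) (.cD (nat_lit 8) (.kA false (nat_lit 0x300400200c002031001000002)) (.cD (nat_lit 16) (.kc (nat_lit 48) (nat_lit 0x3001001)) (.cD (nat_lit 20) (.kA true (nat_lit 0x300400600c002031001000002)) (.cD (nat_lit 24) (.kA false (nat_lit 0x100400200c002031001000002)) (.cD (nat_lit 32) (.kc (nat_lit 36) (nat_lit 0x5001001)) (.cD (nat_lit 48) (.kc (nat_lit 52) (nat_lit 0x7001001)) .nil)))))))) (.cD (nat_lit 20) (.dfs (nat_lit 32) (nat_lit 4100) (nat_lit 4100) (nat_lit 0x1002001) (nat_lit 0x1002001) (nat_lit 0) (nat_lit 0) (nat_lit 3) (nat_lit 0) (nat_lit 0) (nat_lit 0) (nat_lit 1) (nat_lit 0) (nat_lit 1) (nat_lit 0) (nat_lit 1) (nat_lit 0x11001100110010) (.cD (nat_lit 4) (.kA true (nat_lit 0x100400700c002031001000002)) (.cD (nat_lit 16) (.kA true (nat_lit 0x300400500c002031001000002)) (.cD (nat_lit 20) (.kc (nat_lit 48) (nat_lit 0x3001001)) (.cD (nat_lit 32) (.kc (nat_lit 36) (nat_lit 0x5001001)) (.cD (nat_lit 36) (.dfs (nat_lit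 9) (nat_lit 4100) (nat_lit 4101) (nat_lit 1) (nat_lit 1) (nat_lit 1) (nat_lit 0) (nat_lit 1) (nat_lit 4128) (nat_lit 0x40020010008004002031) (nat_lit 0) (nat_lit 1) (nat_lit 0) (nat_lit 1) (nat_lit 0) (nat_lit 1) (nat_lit 0) .nil) (.cD (nat_lit 48) (.kA true (nat_lit 0x700400100c002031001000002)) (.cD (nat_lit 52) (.kc (nat_lit 52) (nat_lit 0x7001001)) .nil)))))))) (.cD (nat_lit 24) (.kF (nat_lit 16) (nat_lit 0x31001000001006001002)) (.cD (nat_lit 32) (.kc (nat_lit 20) (nat_lit 0x3001001)) (.cD (nat_lit 48) (.dfs (nat_lit 32) (nat_lit 4100) (nat_lit 4100) (nat_lit 0x1002001) (nat_lit 0x1002001) (nat_lit 0) (nat_lit 0) (nat_lit 3) (nat_lit 0) (nat_lit 0) (nat_lit 0) (nat_lit 1) (nat_lit 0) (nat_lit 0x1008004) (nat_lit 32772) (nat_lit 0x1001004000008001014000018) (nat_lit 0x1000101110110) (.cD (nat_lit 4) (.kA true (nat_lit 0x100400200c002031001000002)) (.cD (nat_lit 8) (.kA false (nat_lit 0x700400600c002031001000002)) (.cD (nat_lit 16) (.kc (nat_lit 52) (nat_lit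 0x7001001)) (.cD (nat_lit 20) (.kA true (nat_lit 0x700400200c002031001000002)) (.cD (nat_lit 24) (.kA false (nat_lit 0x100400600c002031001000002)) (.cD (nat_lit 32) (.kc (nat_lit 36) (nat_lit 0x5001001)) (.cD (nat_lit 48) (.kc (nat_lit 48) (nat_lit 0x3001001)) .nil)))))))) .nil)))))))) (.cD (nat_lit 48) (.kF (nat_lit 4) (nat_lit 0x1002001002012004002002000003)) .nil))))))))))
theorem c186 : (chk [] [] p186).n x102 s186 = true := by decide +kernel
noncomputable def p187 : Pf := (.anc (nat_lit 72) (nat_lit 0x31001000014004002) (nat_lit 0x1007020010008) (.czp (nat_lit 64) (nat_lit 0) (nat_lit 0x1040020010008004) z6 (.dfs (nat_lit 8) (nat_lit 4097) (nat_lit 4097) (nat_lit 1) (nat_lit 1) (nat_lit 0) (nat_lit 0) (nat_lit 3) (nat_lit 0) (nat_lit 0) (nat_lit 0) (nat_lit 1) (nat_lit 0) (nat_lit 0x1008004) (nat_lit 32772) (nat_lit 0x1001004000008001014000018) (nat_lit 0x1000101110110) (.cD (nat_lit 4) (.dfs (nat_lit 16) (nat_lit 4098) (nat_lit 4098) (nat_lit 4097) (nat_lit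 4097) (nat_lit 0) (nat_lit 0) (nat_lit 3) (nat_lit 0) (nat_lit 0) (nat_lit 0) (nat_lit 1) (nat_lit 0) (nat_lit 1) (nat_lit 0) (nat_lit 1) (nat_lit 0x11001100110010) (.cD (nat_lit 4) (.kc (nat_lit 24) (nat_lit 0x3001001)) (.cD (nat_lit 16) (.dfs (nat_lit 32) (nat_lit 4100) (nat_lit 4100) (nat_lit 0x1002001) (nat_lit 0x1002001) (nat_lit 0) (nat_lit 0) (nat_lit 3) (nat_lit 0) (nat_lit 0) (nat_lit 0) (nat_lit 1) (nat_lit 0) (nat_lit 1) (nat_lit 0) (nat_lit 1) (nat_lit 0x11001100110010) (.cD (nat_lit 4) (.kc (nat_lit 40) (nat_lit 0x5001001)) (.cD (nat_lit 16) (.kc (nat_lit 48) (nat_lit 0x3001001)) (.cD (nat_lit 20) (.kc (nat_lit 56) (nat_lit 0x7001001)) (.cD (nat_lit 32) (.kA false (nat_lit 0x700400200800100a004008014005031001000003)) (.cD (nat_lit 36) (.kA false (nat_lit 0x3100100000600100200d001031001000003)) (.cD (nat_lit 48) (.kA false (nat_lit 0xa00800c01000400600100200d001031001000003)) (.cD (nat_lit 52) (.kA false (nat_lit 0x700400200800100a004008014005031001000003))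 .nil)))))))) (.cD (nat_lit 20) (.dfs (nat_lit 32) (nat_lit 4100) (nat_lit 4100) (nat_lit 0x1002001) (nat_lit 0x1002001) (nat_lit 0) (nat_lit 0) (nat_lit 3) (nat_lit 0) (nat_lit 0) (nat_lit 0) (nat_lit 1) (nat_lit 0) (nat_lit 1) (nat_lit 0) (nat_lit 1) (nat_lit 0x11001100110010) (.cD (nat_lit 4) (.kc (nat_lit 40) (nat_lit 0x5001001)) (.cD (nat_lit 16) (.kc (nat_lit 56) (nat_lit 0x7001001)) (.cD (nat_lit 20) (.kc (nat_lit 48) (nat_lit 0x3001001)) (.cD (nat_lit 32) (.kA false (nat_lit 0x700400200800100a004008014005031001000003)) (.cD (nat_lit 36) (.kA false (nat_lit 0x3100100000600100200d001031001000003)) (.cD (nat_lit 48) (.kA false (nat_lit 0xc00800a01000400600100200d001031001000003)) (.cD (nat_lit 52) (.kA false (nat_lit 0x700400200800100a004008014005031001000003)) .nil)))))))) (.cD (nat_lit 32) (.kF (nat_lit 16) (nat_lit 0x4010004002002000001006001003)) (.cD (nat_lit 36) (.kF (nat_lit 16) (nat_lit 0x31001000001007001002002000003)) (.cD (nat_lit 48) (.dfs (nat_lit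 32) (nat_lit 4100) (nat_lit 4100) (nat_lit 0x1002001) (nat_lit 0x1002001) (nat_lit 0) (nat_lit 0) (nat_lit 3) (nat_lit 0) (nat_lit 0) (nat_lit 0) (nat_lit 1) (nat_lit 0) (nat_lit 1) (nat_lit 0) (nat_lit 1) (nat_lit 0x11001100110010) (.cD (nat_lit 4) (.kc (nat_lit 40) (nat_lit 0x5001001)) (.cD (nat_lit 16) (.kA false (nat_lit 0xa00c00801e00300600100200d001031001000003)) (.cD (nat_lit 20) (.kA false (nat_lit 0x200200000600100200d001031001000003)) (.cD (nat_lit 32) (.kA false (nat_lit 0x700400200800100a004008014005031001000003)) (.cD (nat_lit 36) (.kA false (nat_lit 0x3100100000600100200d001031001000003)) (.cD (nat_lit 48) (.kc (nat_lit 48) (nat_lit 0x3001001)) (.cD (nat_lit 52) (.kc (nat_lit 56) (nat_lit 0x7001001)) .nil)))))))) (.cD (nat_lit 52) (.dfs (nat_lit 32) (nat_lit 4100) (nat_lit 4100) (nat_lit 0x1002001) (nat_lit 0x1002001) (nat_lit 0) (nat_lit 0) (nat_lit 3) (nat_lit 0) (nat_lit 0) (nat_lit 0) (nat_lit 1) (nat_lit 0) (nat_lit 1) (nat_lit 0) (nat_lit 1)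 (nat_lit 0x11001100110010) (.cD (nat_lit 4) (.kc (nat_lit 40) (nat_lit 0x5001001)) (.cD (nat_lit 16) (.kA false (nat_lit 0x800c00a01e00300600100200d001031001000003)) (.cD (nat_lit 20) (.kA false (nat_lit 0x200200000600100200d001031001000003)) (.cD (nat_lit 32) (.kA false (nat_lit 0x700400200800100a004008014005031001000003)) (.cD (nat_lit 36) (.kA false (nat_lit 0x3100100000600100200d001031001000003)) (.cD (nat_lit 48) (.kc (nat_lit 56) (nat_lit 0x7001001)) (.cD (nat_lit 52) (.kc (nat_lit 48) (nat_lit 0x3001001)) .nil)))))))) .nil)))))))) (.cD (nat_lit 8) (.dfs (nat_lit 16) (nat_lit 4098) (nat_lit 4098) (nat_lit 4097) (nat_lit 4097) (nat_lit 0) (nat_lit 0) (nat_lit 3) (nat_lit 0) (nat_lit 0) (nat_lit 0) (nat_lit 1) (nat_lit 0) (nat_lit 1) (nat_lit 0) (nat_lit 1) (nat_lit 0x101010101010100) (.cD (nat_lit 8) (.kc (nat_lit 24) (nat_lit 0x3001001)) (.cD (nat_lit 16) (.dfs (nat_lit 32) (nat_lit 4100) (nat_lit 4100) (nat_lit 0x1002001) (nat_lit 0x1002001) (nat_lit 0) (nat_lit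 0) (nat_lit 3) (nat_lit 0) (nat_lit 0) (nat_lit 0) (nat_lit 1) (nat_lit 0) (nat_lit 1) (nat_lit 0) (nat_lit 1) (nat_lit 0x101010101010100) (.cD (nat_lit 8) (.kc (nat_lit 40) (nat_lit 0x5001001)) (.cD (nat_lit 16) (.kc (nat_lit 48) (nat_lit 0x3001001)) (.cD (nat_lit 24) (.kc (nat_lit 56) (nat_lit 0x7001001)) (.cD (nat_lit 32) (.kA false (nat_lit 0x700400200800100a004008014005031001000003)) (.cD (nat_lit 40) (.kA false (nat_lit 0x3100100000600100200d001031001000003)) (.cD (nat_lit 48) (.dfs (nat_lit 7) (nat_lit 0x1004003002008) (nat_lit 0x1007003002008) (nat_lit 4097) (nat_lit 4097) (nat_lit 2) (nat_lit 0) (nat_lit 2) (nat_lit 0) (nat_lit 0) (nat_lit 4) (nat_lit 1) (nat_lit 0) (nat_lit 1) (nat_lit 0) (nat_lit 1) (nat_lit 0) .nil) (.cD (nat_lit 56) (.dfs (nat_lit 7) (nat_lit 4101) (nat_lit 4102) (nat_lit 1) (nat_lit 1) (nat_lit 2) (nat_lit 0) (nat_lit 1) (nat_lit 4144) (nat_lit 0x40020010008004002031) (nat_lit 0) (nat_lit 1) (nat_lit 0) (nat_lit 1) (nat_lit 0) (nat_lit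 1) (nat_lit 0) .nil) .nil)))))))) (.cD (nat_lit 24) (.dfs (nat_lit 32) (nat_lit 4100) (nat_lit 4100) (nat_lit 0x1002001) (nat_lit 0x1002001) (nat_lit 0) (nat_lit 0) (nat_lit 3) (nat_lit 0) (nat_lit 0) (nat_lit 0) (nat_lit 1) (nat_lit 0) (nat_lit 1) (nat_lit 0) (nat_lit 1) (nat_lit 0x101010101010100) (.cD (nat_lit 8) (.kc (nat_lit 40) (nat_lit 0x5001001)) (.cD (nat_lit 16) (.kc (nat_lit 56) (nat_lit 0x7001001)) (.cD (nat_lit 24) (.kc (nat_lit 48) (nat_lit 0x3001001)) (.cD (nat_lit 32) (.kA false (nat_lit 0x700400200800100a004008014005031001000003)) (.cD (nat_lit 40) (.kA false (nat_lit 0x3100100000600100200d001031001000003)) (.cD (nat_lit 48) (.kA false (nat_lit 0x700400200800100a004008014005031001000003)) (.cD (nat_lit 56) (.kA false (nat_lit 0x700400200800100a004008014005031001000003)) .nil)))))))) (.cD (nat_lit 32) (.kF (nat_lit 8) (nat_lit 0x3006002004004000002007001002002000004)) (.cD (nat_lit 40) (.kF (nat_lit 8) (nat_lit 0x31001000002007001002002000003)) (.cD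 (nat_lit 48) (.kF (nat_lit 16) (nat_lit 0x3100100000e014006001006001003)) (.cD (nat_lit 56) (.kF (nat_lit 16) (nat_lit 0x3100100000a014006001006001003)) .nil)))))))) (.cD (nat_lit 16) (.kF (nat_lit 8) (nat_lit 0x2002000001003001002)) (.cD (nat_lit 20) (.kF (nat_lit 8) (nat_lit 0xe01e003001003001002)) (.cD (nat_lit 24) (.kF (nat_lit 8) (nat_lit 0x31001000002016005031001000001003001004)) (.cD (nat_lit 32) (.dfs (nat_lit 16) (nat_lit 4098) (nat_lit 4098) (nat_lit 4097) (nat_lit 4097) (nat_lit 0) (nat_lit 0) (nat_lit 3) (nat_lit 0) (nat_lit 0) (nat_lit 0) (nat_lit 1) (nat_lit 0) (nat_lit 0x1008004) (nat_lit 32772) (nat_lit 0x1001004000008001014000018) (nat_lit 0x1000101110110) (.cD (nat_lit 4) (.kF (nat_lit 16) (nat_lit 0x31001000001006001002)) (.cD (nat_lit 8) (.kF (nat_lit 8) (nat_lit 0x31001000004016005002007001002002000004)) (.cD (nat_lit 16) (.dfs (nat_lit 32) (nat_lit 4100) (nat_lit 4100) (nat_lit 0x1002001) (nat_lit 0x1002001) (nat_lit 0) (nat_lit 0) (nat_lit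 3) (nat_lit 0) (nat_lit 0) (nat_lit 0) (nat_lit 1) (nat_lit 0) (nat_lit 0x1008004) (nat_lit 32772) (nat_lit 0x1001004000008001014000018) (nat_lit 0x1000101110110) (.cD (nat_lit 4) (.kA false (nat_lit 0x3100100000400100200c001002)) (.cD (nat_lit 8) (.kA false (nat_lit 0x300400200c002031001000002)) (.cD (nat_lit 16) (.kc (nat_lit 48) (nat_lit 0x3001001)) (.cD (nat_lit 20) (.kA false (nat_lit 0x3100100000400100200c001002)) (.cD (nat_lit 24) (.dfs (nat_lit 7) (nat_lit 4100) (nat_lit 4103) (nat_lit 1) (nat_lit 1) (nat_lit 2) (nat_lit 0) (nat_lit 1) (nat_lit 4128) (nat_lit 0x40020010008004002031) (nat_lit 0) (nat_lit 1) (nat_lit 0) (nat_lit 1) (nat_lit 0) (nat_lit 1) (nat_lit 0) .nil) (.cD (nat_lit 32) (.kc (nat_lit 40) (nat_lit 0x5001001)) (.cD (nat_lit 48) (.kc (nat_lit 56) (nat_lit 0x7001001)) .nil)))))))) (.cD (nat_lit 20) (.dfs (nat_lit 32) (nat_lit 4100) (nat_lit 4100) (nat_lit 0x1002001) (nat_lit 0x1002001) (nat_lit 0) (nat_lit 0) (nat_lit 3) (nat_lit 0) (nat_lit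 0) (nat_lit 0) (nat_lit 1) (nat_lit 0) (nat_lit 1) (nat_lit 0) (nat_lit 1) (nat_lit 0x11001100110010) (.cD (nat_lit 4) (.kA false (nat_lit 0x3100100000400100200c001002)) (.cD (nat_lit 16) (.kA false (nat_lit 0x3100100000400100200c001002)) (.cD (nat_lit 20) (.kc (nat_lit 48) (nat_lit 0x3001001)) (.cD (nat_lit 32) (.kc (nat_lit 40) (nat_lit 0x5001001)) (.cD (nat_lit 36) (.kA false (nat_lit 0x3100100000400100200c001002)) (.cD (nat_lit 48) (.kA false (nat_lit 0x3100100000400100200c001002)) (.cD (nat_lit 52) (.kc (nat_lit 56) (nat_lit 0x7001001)) .nil)))))))) (.cD (nat_lit 24) (.kF (nat_lit 16) (nat_lit 0x31001000001006001002)) (.cD (nat_lit 32) (.kc (nat_lit 24) (nat_lit 0x3001001)) (.cD (nat_lit 48) (.dfs (nat_lit 32) (nat_lit 4100) (nat_lit 4100) (nat_lit 0x1002001) (nat_lit 0x1002001) (nat_lit 0) (nat_lit 0) (nat_lit 3) (nat_lit 0) (nat_lit 0) (nat_lit 0) (nat_lit 1) (nat_lit 0) (nat_lit 0x1008004) (nat_lit 32772) (nat_lit 0x1001004000008001014000018) (nat_lit 0x1000101110110)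 (.cD (nat_lit 4) (.kA false (nat_lit 0x3100100000400100200c001002)) (.cD (nat_lit 8) (.kA false (nat_lit 0x700400600c002031001000002)) (.cD (nat_lit 16) (.kc (nat_lit 56) (nat_lit 0x7001001)) (.cD (nat_lit 20) (.kA false (nat_lit 0x3100100000400100200c001002)) (.cD (nat_lit 24) (.kA false (nat_lit 0x100400600c002031001000002)) (.cD (nat_lit 32) (.kc (nat_lit 40) (nat_lit 0x5001001)) (.cD (nat_lit 48) (.kc (nat_lit 48) (nat_lit 0x3001001)) .nil)))))))) .nil)))))))) (.cD (nat_lit 48) (.kF (nat_lit 8) (nat_lit 0x33003000001003001002)) .nil))))))))))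
theorem c187 : (chk [] [] p187).n x103 s187 = true := by decide +kernel
noncomputable def p188 : Pf := (.lft (nat_lit 0x20008018001004002003001) (nat_lit 0) (nat_lit 0x1028020) (nat_lit 0x20010008004002001) (.extn a21 (nat_lit 0x20010008004002001) (nat_lit 0x1004010008020) (nat_lit 2) (nat_lit 0) (nat_lit 0) (nat_lit 0) (nat_lit 0x1010101) (.cE (nat_lit 0) b61 (nat_lit 0) (.cut (nat_lit 0)) (.cut (nat_lit 1)) (.cE (nat_lit 8) b62 (nat_lit 0) (.cut (nat_lit 2)) (.cut (nat_lit 3)) (.cE (nat_lit 16) b63 (nat_lit 0) (.cut (nat_lit 4)) (.cut (nat_lit 5)) (.cE (nat_lit 24) b64 (nat_lit 0) (.cut (nat_lit 6)) (.cut (nat_lit 7)) .nil))))))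
theorem c188 : (chk [(x96, s180), (x97, s181), (x98, s182), (x99, s183), (x100, s184), (x101, s185), (x102, s186), (x103, s187)] [] p188).n x87 s188 = true := by decide +kernel
noncomputable def p189 : Pf := (.ext (nat_lit 1) (nat_lit 0) (nat_lit 0x1020018010002) (nat_lit 0x700200c008005001001000001002004008005003) (nat_lit 0x300200400f) (nat_lit 4101) (nat_lit 4101) (nat_lit 0xe004002001) (.dfs (nat_lit 5) (nat_lit 0x100300200400f) (nat_lit 0x1003002004009) (nat_lit 0x1008001) (nat_lit 0x100e001) (nat_lit 0) (nat_lit 0) (nat_lit 2) (nat_lit 1) (nat_lit 0) (nat_lit 5) (nat_lit 1) (nat_lit 0) (nat_lit 4128) (nat_lit 32) (nat_lit 0x1000005000007000015000017) (nat_lit 0xa000a0) (.cD (nat_lit 5) (.cut (nat_lit 1)) (.cD (nat_lit 7) (.kS (nat_lit 1) (nat_lit 0x4008010020003001) (nat_lit 4109) (nat_lit 0x8004002007) (nat_lit 0x600400801a007001002004008010001001004008010020003004003)) (.cD (nat_lit 21) (.cut (nat_lit 0)) (.cD (nat_lit 23) (.kS (nat_lit 1) (nat_lit 0x4008010020003001)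 (nat_lit 4109) (nat_lit 0x8004002007) (nat_lit 0x600400801a003001002004008010001001004008010020003004003)) .nil))))))
theorem c189 : (chk [(x87, s179), (x87, s188)] [] p189).n x87 s189 = true := by decide +kernel
noncomputable def p190 : Pf := (.ext (nat_lit 1) (nat_lit 0) (nat_lit 0x1020018010002) (nat_lit 0x12006002001001001) (nat_lit 0x100200400a) (nat_lit 0x1004001) (nat_lit 0x1004001) (nat_lit 0x800400200300e004002003) (.dfs (nat_lit 1) (nat_lit 0x100100200400a) (nat_lit 0x100300200400c) (nat_lit 4104) (nat_lit 4110) (nat_lit 0) (nat_lit 0) (nat_lit 2) (nat_lit 1) (nat_lit 0) (nat_lit 1) (nat_lit 1) (nat_lit 0) (nat_lit 0x1038002) (nat_lit 0x38002) (nat_lit 0x1000001001001001011) (nat_lit 2) (.cD (nat_lit 1) (.dfs (nat_lit 4) (nat_lit 0x1002004008014) (nat_lit 0x1006004008014) (nat_lit 0x1010001) (nat_lit 0x1010001) (nat_lit 0) (nat_lit 0) (nat_lit 2) (nat_lit 1) (nat_lit 0) (nat_lit 4) (nat_lit 1) (nat_lit 0) (nat_lit 1) (nat_lit 0) (nat_lit 1) (nat_lit 0x10101010)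 (.cD (nat_lit 4) (.kA false (nat_lit 0x8002004010003001008018020001002)) (.cD (nat_lit 12) (.cut (nat_lit 1)) (.cD (nat_lit 20) (.kA false (nat_lit 0xa002004010003001008018020001002)) (.cD (nat_lit 28) (.cut (nat_lit 0)) .nil))))) .nil)))
theorem c190 : (chk [(x87, s170), (x87, s189)] [] p190).n x87 s190 = true := by decide +kernel
noncomputable def p191 : Pf := (.ext (nat_lit 1) (nat_lit 0) (nat_lit 0x1040030020004) (nat_lit 0x1002004008001001) (nat_lit 0x2003004008) (nat_lit 4107) (nat_lit 4107) (nat_lit 0xc004002001) (.dfs (nat_lit 11) (nat_lit 0x1002003004008) (nat_lit 0x100200300400c) (nat_lit 4097) (nat_lit 4097) (nat_lit 2) (nat_lit 0) (nat_lit 2) (nat_lit 1) (nat_lit 0) (nat_lit 11) (nat_lit 1) (nat_lit 0) (nat_lit 1) (nat_lit 0) (nat_lit 1) (nat_lit 0) .nil))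
theorem c191 : (chk [] [] p191).n x104 s191 = true := by decide +kernel
noncomputable def p192 : Pf := (.anc (nat_lit 68) (nat_lit 0x10002002002000002) (nat_lit 0x1009020010004) (.czp (nat_lit 64) (nat_lit 0) (nat_lit 0x1040020010008004) z6 (.dfs (nat_lit 4) (nat_lit 4097) (nat_lit 4097) (nat_lit 1) (nat_lit 1) (nat_lit 0) (nat_lit 0) (nat_lit 3) (nat_lit 0) (nat_lit 0) (nat_lit 0) (nat_lit 1) (nat_lit 0) (nat_lit 0x1008004) (nat_lit 32772) (nat_lit 0x1001004000008001014000018) (nat_lit 0x1000101110110) (.cD (nat_lit 4) (.dfs (nat_lit 16) (nat_lit 4098) (nat_lit 4098) (nat_lit 4097) (nat_lit 4097) (nat_lit 0) (nat_lit 0) (nat_lit 3) (nat_lit 0) (nat_lit 0) (nat_lit 0) (nat_lit 1) (nat_lit 0) (nat_lit 1) (nat_lit 0) (nat_lit 1) (nat_lit 0x11001100110010) (.cD (nat_lit 4) (.kc (nat_lit 20) (nat_lit 0x3001001)) (.cD (nat_lit 16) (.dfs (nat_lit 32) (nat_lit 4100) (nat_lit 4100) (nat_lit 0x1002001) (nat_lit 0x1002001) (nat_lit 0) (nat_lit 0) (nat_lit 3) (nat_lit 0) (nat_lit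 0) (nat_lit 0) (nat_lit 1) (nat_lit 0) (nat_lit 1) (nat_lit 0) (nat_lit 1) (nat_lit 0x11001100110010) (.cD (nat_lit 4) (.kc (nat_lit 36) (nat_lit 0x5001001)) (.cD (nat_lit 16) (.kc (nat_lit 48) (nat_lit 0x3001001)) (.cD (nat_lit 20) (.kc (nat_lit 52) (nat_lit 0x7001001)) (.cD (nat_lit 32) (.dfs (nat_lit 9) (nat_lit 0x1004001003008) (nat_lit 0x1005001003008) (nat_lit 4098) (nat_lit 4098) (nat_lit 1) (nat_lit 0) (nat_lit 2) (nat_lit 1) (nat_lit 0) (nat_lit 8) (nat_lit 1) (nat_lit 0) (nat_lit 4100) (nat_lit 4) (nat_lit 0x100004c00005c) (nat_lit 0x100010000000000000000000) (.cD (nat_lit 76) (.kb (nat_lit 13) (nat_lit 0x100100001400600b001003) (nat_lit 0x1020010008044006003)) (.cD (nat_lit 92) (.kb (nat_lit 29) (nat_lit 0x100100001400600f001003) (nat_lit 0x1020010008044006003)) .nil))) (.cD (nat_lit 36) (.kA true (nat_lit 0x100100000400100300d001001001000003)) (.cD (nat_lit 48) (.kA true (nat_lit 0x600800401000400400100300d001001001000003)) (.cD (nat_lit 52) (.kA true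 (nat_lit 0x5004003008001008004002005007001001000003)) .nil)))))))) (.cD (nat_lit 20) (.dfs (nat_lit 32) (nat_lit 4100) (nat_lit 4100) (nat_lit 0x1002001) (nat_lit 0x1002001) (nat_lit 0) (nat_lit 0) (nat_lit 3) (nat_lit 0) (nat_lit 0) (nat_lit 0) (nat_lit 1) (nat_lit 0) (nat_lit 1) (nat_lit 0) (nat_lit 1) (nat_lit 0x11001100110010) (.cD (nat_lit 4) (.kc (nat_lit 36) (nat_lit 0x5001001)) (.cD (nat_lit 16) (.kc (nat_lit 52) (nat_lit 0x7001001)) (.cD (nat_lit 20) (.kc (nat_lit 48) (nat_lit 0x3001001)) (.cD (nat_lit 32) (.kA true (nat_lit 0x5004003008001008004002005007001001000003)) (.cD (nat_lit 36) (.dfs (nat_lit 9) (nat_lit 4102) (nat_lit 4103) (nat_lit 1) (nat_lit 1) (nat_lit 1) (nat_lit 0) (nat_lit 1) (nat_lit 4112) (nat_lit 0x40020010008004002001) (nat_lit 0) (nat_lit 1) (nat_lit 0) (nat_lit 1) (nat_lit 0) (nat_lit 1) (nat_lit 0) .nil) (.cD (nat_lit 48) (.kA true (nat_lit 0x400300500800100400100300c001002)) (.cD (nat_lit 52) (.kA true (nat_lit 0x400700100800100400100300c001002))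 .nil)))))))) (.cD (nat_lit 32) (.kF (nat_lit 16) (nat_lit 0x100400100c012004002002000003)) (.cD (nat_lit 36) (.kF (nat_lit 16) (nat_lit 0x100400100c012004002002000003)) (.cD (nat_lit 48) (.dfs (nat_lit 32) (nat_lit 4100) (nat_lit 4100) (nat_lit 0x1002001) (nat_lit 0x1002001) (nat_lit 0) (nat_lit 0) (nat_lit 3) (nat_lit 0) (nat_lit 0) (nat_lit 0) (nat_lit 1) (nat_lit 0) (nat_lit 1) (nat_lit 0) (nat_lit 1) (nat_lit 0x11001100110010) (.cD (nat_lit 4) (.kc (nat_lit 36) (nat_lit 0x5001001)) (.cD (nat_lit 16) (.kA true (nat_lit 0x400200100800100400100300c001002)) (.cD (nat_lit 20) (.kA true (nat_lit 0x400600500800100400100300c001002)) (.cD (nat_lit 32) (.kA true (nat_lit 0x5004003008001008004002005007001001000003)) (.cD (nat_lit 36) (.kA true (nat_lit 0x400500600800100400100300c001002)) (.cD (nat_lit 48) (.kc (nat_lit 48) (nat_lit 0x3001001)) (.cD (nat_lit 52) (.kc (nat_lit 52) (nat_lit 0x7001001)) .nil)))))))) (.cD (nat_lit 52) (.dfs (nat_lit 32) (nat_lit 4100) (nat_lit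 4100) (nat_lit 0x1002001) (nat_lit 0x1002001) (nat_lit 0) (nat_lit 0) (nat_lit 3) (nat_lit 0) (nat_lit 0) (nat_lit 0) (nat_lit 1) (nat_lit 0) (nat_lit 1) (nat_lit 0) (nat_lit 1) (nat_lit 0x11001100110010) (.cD (nat_lit 4) (.kc (nat_lit 36) (nat_lit 0x5001001)) (.cD (nat_lit 16) (.kA true (nat_lit 0x400200500800100400100300c001002)) (.cD (nat_lit 20) (.kA true (nat_lit 0x400600100800100400100300c001002)) (.cD (nat_lit 32) (.kA true (nat_lit 0x5004003008001008004002005007001001000003)) (.cD (nat_lit 36) (.kA true (nat_lit 0x400500200800100400100300c001002)) (.cD (nat_lit 48) (.kc (nat_lit 52) (nat_lit 0x7001001)) (.cD (nat_lit 52) (.kc (nat_lit 48) (nat_lit 0x3001001)) .nil)))))))) .nil)))))))) (.cD (nat_lit 8) (.dfs (nat_lit 16) (nat_lit 4098) (nat_lit 4098) (nat_lit 4097) (nat_lit 4097) (nat_lit 0) (nat_lit 0) (nat_lit 3) (nat_lit 0) (nat_lit 0) (nat_lit 0) (nat_lit 1) (nat_lit 0) (nat_lit 1) (nat_lit 0) (nat_lit 1) (nat_lit 0x101010101010100) (.cD (nat_lit 8) (.kc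 (nat_lit 20) (nat_lit 0x3001001)) (.cD (nat_lit 16) (.dfs (nat_lit 32) (nat_lit 4100) (nat_lit 4100) (nat_lit 0x1002001) (nat_lit 0x1002001) (nat_lit 0) (nat_lit 0) (nat_lit 3) (nat_lit 0) (nat_lit 0) (nat_lit 0) (nat_lit 1) (nat_lit 0) (nat_lit 1) (nat_lit 0) (nat_lit 1) (nat_lit 0x101010101010100) (.cD (nat_lit 8) (.kc (nat_lit 36) (nat_lit 0x5001001)) (.cD (nat_lit 16) (.kc (nat_lit 48) (nat_lit 0x3001001)) (.cD (nat_lit 24) (.kc (nat_lit 52) (nat_lit 0x7001001)) (.cD (nat_lit 32) (.kA false (nat_lit 0x100400200c002006004008014005001001000003)) (.cD (nat_lit 40) (.kA false (nat_lit 0x100100000100500200d002001001000003)) (.cD (nat_lit 48) (.kA false (nat_lit 0xe00800c01000400700300200b002001001000003)) (.cD (nat_lit 56) (.kA false (nat_lit 0x700400200c002006004008014005001001000003)) .nil)))))))) (.cD (nat_lit 24) (.dfs (nat_lit 32) (nat_lit 4100) (nat_lit 4100) (nat_lit 0x1002001) (nat_lit 0x1002001) (nat_lit 0) (nat_lit 0) (nat_lit 3) (nat_lit 0) (nat_lit 0)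 (nat_lit 0) (nat_lit 1) (nat_lit 0) (nat_lit 1) (nat_lit 0) (nat_lit 1) (nat_lit 0x101010101010100) (.cD (nat_lit 8) (.kc (nat_lit 36) (nat_lit 0x5001001)) (.cD (nat_lit 16) (.kc (nat_lit 52) (nat_lit 0x7001001)) (.cD (nat_lit 24) (.kc (nat_lit 48) (nat_lit 0x3001001)) (.cD (nat_lit 32) (.kA false (nat_lit 0x100400600c002006004008014005001001000003)) (.cD (nat_lit 40) (.kA false (nat_lit 0x100100000100500600d002001001000003)) (.cD (nat_lit 48) (.kA false (nat_lit 0x700400600c002006004008014005001001000003)) (.cD (nat_lit 56) (.kA false (nat_lit 0xe00800a01000400700300600b002001001000003)) .nil)))))))) (.cD (nat_lit 32) (.kF (nat_lit 16) (nat_lit 0x100400100c012004002002000003)) (.cD (nat_lit 40) (.kF (nat_lit 16) (nat_lit 0x100400100c012004002002000003)) (.cD (nat_lit 48) (.dfs (nat_lit 32) (nat_lit 4100) (nat_lit 4100) (nat_lit 0x1002001) (nat_lit 0x1002001) (nat_lit 0) (nat_lit 0) (nat_lit 3) (nat_lit 0) (nat_lit 0) (nat_lit 0) (nat_lit 1) (nat_lit 0) (nat_lit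 1) (nat_lit 0) (nat_lit 1) (nat_lit 0x101010101010100) (.cD (nat_lit 8) (.kc (nat_lit 36) (nat_lit 0x5001001)) (.cD (nat_lit 16) (.kA false (nat_lit 0xe00800401000400700300100b002001001000003)) (.cD (nat_lit 24) (.kA false (nat_lit 0x700400500c002006004008014005001001000003)) (.cD (nat_lit 32) (.kA false (nat_lit 0x100400300c002006004008014005001001000003)) (.cD (nat_lit 40) (.kA false (nat_lit 0x100100000100500700d002001001000003)) (.cD (nat_lit 48) (.kc (nat_lit 48) (nat_lit 0x3001001)) (.cD (nat_lit 56) (.kc (nat_lit 52) (nat_lit 0x7001001)) .nil)))))))) (.cD (nat_lit 56) (.dfs (nat_lit 32) (nat_lit 4100) (nat_lit 4100) (nat_lit 0x1002001) (nat_lit 0x1002001) (nat_lit 0) (nat_lit 0) (nat_lit 3) (nat_lit 0) (nat_lit 0) (nat_lit 0) (nat_lit 1) (nat_lit 0) (nat_lit 1) (nat_lit 0) (nat_lit 1) (nat_lit 0x101010101010100) (.cD (nat_lit 8) (.kc (nat_lit 36) (nat_lit 0x5001001)) (.cD (nat_lit 16) (.kA false (nat_lit 0x700400100c002006004008014005001001000003)) (.cD (nat_lit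 24) (.kA false (nat_lit 0xe00800201000400700300500b002001001000003)) (.cD (nat_lit 32) (.kA false (nat_lit 0x100400700c002006004008014005001001000003)) (.cD (nat_lit 40) (.kA false (nat_lit 0x100100000100500300d002001001000003)) (.cD (nat_lit 48) (.kc (nat_lit 52) (nat_lit 0x7001001)) (.cD (nat_lit 56) (.kc (nat_lit 48) (nat_lit 0x3001001)) .nil)))))))) .nil)))))))) (.cD (nat_lit 16) (.kF (nat_lit 4) (nat_lit 0x2002000001003001002)) (.cD (nat_lit 20) (.kF (nat_lit 4) (nat_lit 0xe01e003001003001002)) (.cD (nat_lit 24) (.kF (nat_lit 4) (nat_lit 0x1002001002012004002002000003)) (.cD (nat_lit 32) (.dfs (nat_lit 16) (nat_lit 4098) (nat_lit 4098) (nat_lit 4097) (nat_lit 4097) (nat_lit 0) (nat_lit 0) (nat_lit 3) (nat_lit 0) (nat_lit 0) (nat_lit 0) (nat_lit 1) (nat_lit 0) (nat_lit 0x1008004) (nat_lit 32772) (nat_lit 0x1001004000008001014000018) (nat_lit 0x1000101110110) (.cD (nat_lit 4) (.kF (nat_lit 16) (nat_lit 0x1001000001006001002)) (.cD (nat_lit 8) (.kF (nat_lit 16)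 (nat_lit 0x1001000001006001002)) (.cD (nat_lit 16) (.dfs (nat_lit 32) (nat_lit 4100) (nat_lit 4100) (nat_lit 0x1002001) (nat_lit 0x1002001) (nat_lit 0) (nat_lit 0) (nat_lit 3) (nat_lit 0) (nat_lit 0) (nat_lit 0) (nat_lit 1) (nat_lit 0) (nat_lit 0x1008004) (nat_lit 32772) (nat_lit 0x1001004000008001014000018) (nat_lit 0x1000101110110) (.cD (nat_lit 4) (.kA true (nat_lit 0x100400600c002001001000002)) (.cD (nat_lit 8) (.kA false (nat_lit 0x500400200c002001001000002)) (.cD (nat_lit 16) (.kc (nat_lit 48) (nat_lit 0x3001001)) (.cD (nat_lit 20) (.kA true (nat_lit 0x300400600c002001001000002)) (.cD (nat_lit 24) (.kA false (nat_lit 0x700400200c002001001000002)) (.cD (nat_lit 32) (.kc (nat_lit 36) (nat_lit 0x5001001)) (.cD (nat_lit 48) (.kc (nat_lit 52) (nat_lit 0x7001001)) .nil)))))))) (.cD (nat_lit 20) (.dfs (nat_lit 32) (nat_lit 4100) (nat_lit 4100) (nat_lit 0x1002001) (nat_lit 0x1002001) (nat_lit 0) (nat_lit 0) (nat_lit 3) (nat_lit 0) (nat_lit 0) (nat_lit 0) (nat_lit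 1) (nat_lit 0) (nat_lit 1) (nat_lit 0) (nat_lit 1) (nat_lit 0x11001100110010) (.cD (nat_lit 4) (.kA true (nat_lit 0x100400700c002001001000002)) (.cD (nat_lit 16) (.kA true (nat_lit 0x300400500c002001001000002)) (.cD (nat_lit 20) (.kc (nat_lit 48) (nat_lit 0x3001001)) (.cD (nat_lit 32) (.kc (nat_lit 36) (nat_lit 0x5001001)) (.cD (nat_lit 36) (.dfs (nat_lit 9) (nat_lit 4100) (nat_lit 4101) (nat_lit 1) (nat_lit 1) (nat_lit 1) (nat_lit 0) (nat_lit 1) (nat_lit 4128) (nat_lit 0x40020010008004002001) (nat_lit 0) (nat_lit 1) (nat_lit 0) (nat_lit 1) (nat_lit 0) (nat_lit 1) (nat_lit 0) .nil) (.cD (nat_lit 48) (.kA true (nat_lit 0x700400100c002001001000002)) (.cD (nat_lit 52) (.kc (nat_lit 52) (nat_lit 0x7001001)) .nil)))))))) (.cD (nat_lit 24) (.dfs (nat_lit 32) (nat_lit 4100) (nat_lit 4100) (nat_lit 0x1002001) (nat_lit 0x1002001) (nat_lit 0) (nat_lit 0) (nat_lit 3) (nat_lit 0) (nat_lit 0) (nat_lit 0) (nat_lit 1) (nat_lit 0) (nat_lit 1) (nat_lit 0) (nat_lit 1) (nat_lit 0x101010101010100)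 (.cD (nat_lit 8) (.kA false (nat_lit 0x500400300c002001001000002)) (.cD (nat_lit 16) (.kA false (nat_lit 0x700400100c002001001000002)) (.cD (nat_lit 24) (.kc (nat_lit 48) (nat_lit 0x3001001)) (.cD (nat_lit 32) (.kc (nat_lit 36) (nat_lit 0x5001001)) (.cD (nat_lit 40) (.kA false (nat_lit 0x100400700c002001001000002)) (.cD (nat_lit 48) (.kA false (nat_lit 0x300400500c002001001000002)) (.cD (nat_lit 56) (.kc (nat_lit 52) (nat_lit 0x7001001)) .nil)))))))) (.cD (nat_lit 32) (.kc (nat_lit 20) (nat_lit 0x3001001)) (.cD (nat_lit 48) (.dfs (nat_lit 32) (nat_lit 4100) (nat_lit 4100) (nat_lit 0x1002001) (nat_lit 0x1002001) (nat_lit 0) (nat_lit 0) (nat_lit 3) (nat_lit 0) (nat_lit 0) (nat_lit 0) (nat_lit 1) (nat_lit 0) (nat_lit 0x1008004) (nat_lit 32772) (nat_lit 0x1001004000008001014000018) (nat_lit 0x1000101110110) (.cD (nat_lit 4) (.kA true (nat_lit 0x100400200c002001001000002)) (.cD (nat_lit 8) (.kA false (nat_lit 0x500400600c002001001000002)) (.cD (nat_lit 16) (.kc (nat_lit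 52) (nat_lit 0x7001001)) (.cD (nat_lit 20) (.kA true (nat_lit 0x700400200c002001001000002)) (.cD (nat_lit 24) (.kA false (nat_lit 0x300400600c002001001000002)) (.cD (nat_lit 32) (.kc (nat_lit 36) (nat_lit 0x5001001)) (.cD (nat_lit 48) (.kc (nat_lit 48) (nat_lit 0x3001001)) .nil)))))))) .nil)))))))) (.cD (nat_lit 48) (.kF (nat_lit 4) (nat_lit 0x1002001002012004002002000003)) .nil))))))))))
theorem c192 : (chk [] [] p192).n x105 s192 = true := by decide +kernel
noncomputable def p193 : Pf := (.anc (nat_lit 68) (nat_lit 0x10002002002000002) (nat_lit 0x1009020010004) (.czp (nat_lit 64) (nat_lit 0) (nat_lit 0x1040020010008004) z6 (.dfs (nat_lit 4) (nat_lit 4097) (nat_lit 4097) (nat_lit 1) (nat_lit 1) (nat_lit 0) (nat_lit 0) (nat_lit 3) (nat_lit 0) (nat_lit 0) (nat_lit 0) (nat_lit 1) (nat_lit 0) (nat_lit 0x1008004) (nat_lit 32772) (nat_lit 0x1001004000008001014000018) (nat_lit 0x1000101110110) (.cD (nat_lit 4) (.dfs (nat_lit 16) (nat_lit 4098) (nat_lit 4098) (nat_lit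 4097) (nat_lit 4097) (nat_lit 0) (nat_lit 0) (nat_lit 3) (nat_lit 0) (nat_lit 0) (nat_lit 0) (nat_lit 1) (nat_lit 0) (nat_lit 1) (nat_lit 0) (nat_lit 1) (nat_lit 0x11001100110010) (.cD (nat_lit 4) (.kc (nat_lit 20) (nat_lit 0x3001001)) (.cD (nat_lit 16) (.dfs (nat_lit 32) (nat_lit 4100) (nat_lit 4100) (nat_lit 0x1002001) (nat_lit 0x1002001) (nat_lit 0) (nat_lit 0) (nat_lit 3) (nat_lit 0) (nat_lit 0) (nat_lit 0) (nat_lit 1) (nat_lit 0) (nat_lit 1) (nat_lit 0) (nat_lit 1) (nat_lit 0x11001100110010) (.cD (nat_lit 4) (.kc (nat_lit 36) (nat_lit 0x5001001)) (.cD (nat_lit 16) (.kc (nat_lit 48) (nat_lit 0x3001001)) (.cD (nat_lit 20) (.kc (nat_lit 52) (nat_lit 0x7001001)) (.cD (nat_lit 32) (.dfs (nat_lit 9) (nat_lit 0x1004001003008) (nat_lit 0x1005001003008) (nat_lit 4098) (nat_lit 4098) (nat_lit 3) (nat_lit 0) (nat_lit 2) (nat_lit 1) (nat_lit 0) (nat_lit 8) (nat_lit 1) (nat_lit 0) (nat_lit 1) (nat_lit 0) (nat_lit 1) (nat_lit 0) .nil) (.cD (nat_lit 36) (.kA true (nat_lit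 0x1100100000400100300d001011001000003)) (.cD (nat_lit 48) (.kA true (nat_lit 0x600800401000400400100300d001011001000003)) (.cD (nat_lit 52) (.kA true (nat_lit 0x5004003008001008004002005007011001000003)) .nil)))))))) (.cD (nat_lit 20) (.dfs (nat_lit 32) (nat_lit 4100) (nat_lit 4100) (nat_lit 0x1002001) (nat_lit 0x1002001) (nat_lit 0) (nat_lit 0) (nat_lit 3) (nat_lit 0) (nat_lit 0) (nat_lit 0) (nat_lit 1) (nat_lit 0) (nat_lit 1) (nat_lit 0) (nat_lit 1) (nat_lit 0x11001100110010) (.cD (nat_lit 4) (.kc (nat_lit 36) (nat_lit 0x5001001)) (.cD (nat_lit 16) (.kc (nat_lit 52) (nat_lit 0x7001001)) (.cD (nat_lit 20) (.kc (nat_lit 48) (nat_lit 0x3001001)) (.cD (nat_lit 32) (.kA true (nat_lit 0x5004003008001008004002005007011001000003)) (.cD (nat_lit 36) (.dfs (nat_lit 9) (nat_lit 4102) (nat_lit 4103) (nat_lit 1) (nat_lit 1) (nat_lit 3) (nat_lit 0) (nat_lit 1) (nat_lit 4112) (nat_lit 0x40020010008004002011) (nat_lit 0) (nat_lit 1) (nat_lit 0) (nat_lit 1) (nat_lit 0) (nat_lit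 1) (nat_lit 0) .nil) (.cD (nat_lit 48) (.kA true (nat_lit 0x400300500800100400100300c001002)) (.cD (nat_lit 52) (.kA true (nat_lit 0x400700100800100400100300c001002)) .nil)))))))) (.cD (nat_lit 32) (.kF (nat_lit 16) (nat_lit 0x100400100c012004002002000003)) (.cD (nat_lit 36) (.kF (nat_lit 16) (nat_lit 0x100400100c012004002002000003)) (.cD (nat_lit 48) (.dfs (nat_lit 32) (nat_lit 4100) (nat_lit 4100) (nat_lit 0x1002001) (nat_lit 0x1002001) (nat_lit 0) (nat_lit 0) (nat_lit 3) (nat_lit 0) (nat_lit 0) (nat_lit 0) (nat_lit 1) (nat_lit 0) (nat_lit 1) (nat_lit 0) (nat_lit 1) (nat_lit 0x11001100110010) (.cD (nat_lit 4) (.kc (nat_lit 36) (nat_lit 0x5001001)) (.cD (nat_lit 16) (.kA true (nat_lit 0x400200100800100400100300c001002)) (.cD (nat_lit 20) (.kA true (nat_lit 0x400600500800100400100300c001002)) (.cD (nat_lit 32) (.kA true (nat_lit 0x5004003008001008004002005007011001000003)) (.cD (nat_lit 36) (.kA true (nat_lit 0x400500600800100400100300c001002)) (.cD (nat_lit 48)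 (.kc (nat_lit 48) (nat_lit 0x3001001)) (.cD (nat_lit 52) (.kc (nat_lit 52) (nat_lit 0x7001001)) .nil)))))))) (.cD (nat_lit 52) (.dfs (nat_lit 32) (nat_lit 4100) (nat_lit 4100) (nat_lit 0x1002001) (nat_lit 0x1002001) (nat_lit 0) (nat_lit 0) (nat_lit 3) (nat_lit 0) (nat_lit 0) (nat_lit 0) (nat_lit 1) (nat_lit 0) (nat_lit 1) (nat_lit 0) (nat_lit 1) (nat_lit 0x11001100110010) (.cD (nat_lit 4) (.kc (nat_lit 36) (nat_lit 0x5001001)) (.cD (nat_lit 16) (.kA true (nat_lit 0x400200500800100400100300c001002)) (.cD (nat_lit 20) (.kA true (nat_lit 0x400600100800100400100300c001002)) (.cD (nat_lit 32) (.kA true (nat_lit 0x5004003008001008004002005007011001000003)) (.cD (nat_lit 36) (.kA true (nat_lit 0x400500200800100400100300c001002)) (.cD (nat_lit 48) (.kc (nat_lit 52) (nat_lit 0x7001001)) (.cD (nat_lit 52) (.kc (nat_lit 48) (nat_lit 0x3001001)) .nil)))))))) .nil)))))))) (.cD (nat_lit 8) (.dfs (nat_lit 16) (nat_lit 4098) (nat_lit 4098) (nat_lit 4097) (nat_lit 4097) (nat_lit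 0) (nat_lit 0) (nat_lit 3) (nat_lit 0) (nat_lit 0) (nat_lit 0) (nat_lit 1) (nat_lit 0) (nat_lit 1) (nat_lit 0) (nat_lit 1) (nat_lit 0x101010101010100) (.cD (nat_lit 8) (.kc (nat_lit 20) (nat_lit 0x3001001)) (.cD (nat_lit 16) (.dfs (nat_lit 32) (nat_lit 4100) (nat_lit 4100) (nat_lit 0x1002001) (nat_lit 0x1002001) (nat_lit 0) (nat_lit 0) (nat_lit 3) (nat_lit 0) (nat_lit 0) (nat_lit 0) (nat_lit 1) (nat_lit 0) (nat_lit 1) (nat_lit 0) (nat_lit 1) (nat_lit 0x101010101010100) (.cD (nat_lit 8) (.kc (nat_lit 36) (nat_lit 0x5001001)) (.cD (nat_lit 16) (.kc (nat_lit 48) (nat_lit 0x3001001)) (.cD (nat_lit 24) (.kc (nat_lit 52) (nat_lit 0x7001001)) (.cD (nat_lit 32) (.kA false (nat_lit 0x100400200c002006004008014005011001000003)) (.cD (nat_lit 40) (.kA false (nat_lit 0x1100100000100500200d002011001000003)) (.cD (nat_lit 48) (.kA false (nat_lit 0xe00800c01000400700300200b002011001000003)) (.cD (nat_lit 56) (.kA false (nat_lit 0x700400200c002006004008014005011001000003)) .nil))))))))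 (.cD (nat_lit 24) (.dfs (nat_lit 32) (nat_lit 4100) (nat_lit 4100) (nat_lit 0x1002001) (nat_lit 0x1002001) (nat_lit 0) (nat_lit 0) (nat_lit 3) (nat_lit 0) (nat_lit 0) (nat_lit 0) (nat_lit 1) (nat_lit 0) (nat_lit 1) (nat_lit 0) (nat_lit 1) (nat_lit 0x101010101010100) (.cD (nat_lit 8) (.kc (nat_lit 36) (nat_lit 0x5001001)) (.cD (nat_lit 16) (.kc (nat_lit 52) (nat_lit 0x7001001)) (.cD (nat_lit 24) (.kc (nat_lit 48) (nat_lit 0x3001001)) (.cD (nat_lit 32) (.kA false (nat_lit 0x100400600c002006004008014005011001000003)) (.cD (nat_lit 40) (.kA false (nat_lit 0x1100100000100500600d002011001000003)) (.cD (nat_lit 48) (.kA false (nat_lit 0x700400600c002006004008014005011001000003)) (.cD (nat_lit 56) (.kA false (nat_lit 0xe00800a01000400700300600b002011001000003)) .nil)))))))) (.cD (nat_lit 32) (.kF (nat_lit 16) (nat_lit 0x100400100c012004002002000003)) (.cD (nat_lit 40) (.kF (nat_lit 16) (nat_lit 0x100400100c012004002002000003)) (.cD (nat_lit 48) (.dfs (nat_lit 32) (nat_lit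 4100) (nat_lit 4100) (nat_lit 0x1002001) (nat_lit 0x1002001) (nat_lit 0) (nat_lit 0) (nat_lit 3) (nat_lit 0) (nat_lit 0) (nat_lit 0) (nat_lit 1) (nat_lit 0) (nat_lit 1) (nat_lit 0) (nat_lit 1) (nat_lit 0x101010101010100) (.cD (nat_lit 8) (.kc (nat_lit 36) (nat_lit 0x5001001)) (.cD (nat_lit 16) (.kA false (nat_lit 0xe00800401000400700300100b002011001000003)) (.cD (nat_lit 24) (.kA false (nat_lit 0x700400500c002006004008014005011001000003)) (.cD (nat_lit 32) (.kA false (nat_lit 0x100400300c002006004008014005011001000003)) (.cD (nat_lit 40) (.kA false (nat_lit 0x1100100000100500700d002011001000003)) (.cD (nat_lit 48) (.kc (nat_lit 48) (nat_lit 0x3001001)) (.cD (nat_lit 56) (.kc (nat_lit 52) (nat_lit 0x7001001)) .nil)))))))) (.cD (nat_lit 56) (.dfs (nat_lit 32) (nat_lit 4100) (nat_lit 4100) (nat_lit 0x1002001) (nat_lit 0x1002001) (nat_lit 0) (nat_lit 0) (nat_lit 3) (nat_lit 0) (nat_lit 0) (nat_lit 0) (nat_lit 1) (nat_lit 0) (nat_lit 1) (nat_lit 0) (nat_lit 1) (nat_lit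 0x101010101010100) (.cD (nat_lit 8) (.kc (nat_lit 36) (nat_lit 0x5001001)) (.cD (nat_lit 16) (.kA false (nat_lit 0x700400100c002006004008014005011001000003)) (.cD (nat_lit 24) (.kA false (nat_lit 0xe00800201000400700300500b002011001000003)) (.cD (nat_lit 32) (.kA false (nat_lit 0x100400700c002006004008014005011001000003)) (.cD (nat_lit 40) (.kA false (nat_lit 0x1100100000100500300d002011001000003)) (.cD (nat_lit 48) (.kc (nat_lit 52) (nat_lit 0x7001001)) (.cD (nat_lit 56) (.kc (nat_lit 48) (nat_lit 0x3001001)) .nil)))))))) .nil)))))))) (.cD (nat_lit 16) (.kF (nat_lit 4) (nat_lit 0x2002000001003001002)) (.cD (nat_lit 20) (.kF (nat_lit 4) (nat_lit 0xe01e003001003001002)) (.cD (nat_lit 24) (.kF (nat_lit 4) (nat_lit 0x1002001002012004002002000003)) (.cD (nat_lit 32) (.dfs (nat_lit 16) (nat_lit 4098) (nat_lit 4098) (nat_lit 4097) (nat_lit 4097) (nat_lit 0) (nat_lit 0) (nat_lit 3) (nat_lit 0) (nat_lit 0) (nat_lit 0) (nat_lit 1) (nat_lit 0) (nat_lit 0x1008004) (nat_lit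 32772) (nat_lit 0x1001004000008001014000018) (nat_lit 0x1000101110110) (.cD (nat_lit 4) (.kF (nat_lit 16) (nat_lit 0x11001000001006001002)) (.cD (nat_lit 8) (.kF (nat_lit 16) (nat_lit 0x11001000001006001002)) (.cD (nat_lit 16) (.dfs (nat_lit 32) (nat_lit 4100) (nat_lit 4100) (nat_lit 0x1002001) (nat_lit 0x1002001) (nat_lit 0) (nat_lit 0) (nat_lit 3) (nat_lit 0) (nat_lit 0) (nat_lit 0) (nat_lit 1) (nat_lit 0) (nat_lit 0x1008004) (nat_lit 32772) (nat_lit 0x1001004000008001014000018) (nat_lit 0x1000101110110) (.cD (nat_lit 4) (.kA true (nat_lit 0x100400600c002011001000002)) (.cD (nat_lit 8) (.kA false (nat_lit 0x500400200c002011001000002)) (.cD (nat_lit 16) (.kc (nat_lit 48) (nat_lit 0x3001001)) (.cD (nat_lit 20) (.kA true (nat_lit 0x300400600c002011001000002)) (.cD (nat_lit 24) (.kA false (nat_lit 0x700400200c002011001000002)) (.cD (nat_lit 32) (.kc (nat_lit 36) (nat_lit 0x5001001)) (.cD (nat_lit 48) (.kc (nat_lit 52) (nat_lit 0x7001001)) .nil)))))))) (.cD (nat_lit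 20) (.dfs (nat_lit 32) (nat_lit 4100) (nat_lit 4100) (nat_lit 0x1002001) (nat_lit 0x1002001) (nat_lit 0) (nat_lit 0) (nat_lit 3) (nat_lit 0) (nat_lit 0) (nat_lit 0) (nat_lit 1) (nat_lit 0) (nat_lit 1) (nat_lit 0) (nat_lit 1) (nat_lit 0x11001100110010) (.cD (nat_lit 4) (.kA true (nat_lit 0x100400700c002011001000002)) (.cD (nat_lit 16) (.kA true (nat_lit 0x300400500c002011001000002)) (.cD (nat_lit 20) (.kc (nat_lit 48) (nat_lit 0x3001001)) (.cD (nat_lit 32) (.kc (nat_lit 36) (nat_lit 0x5001001)) (.cD (nat_lit 36) (.dfs (nat_lit 9) (nat_lit 4100) (nat_lit 4101) (nat_lit 1) (nat_lit 1) (nat_lit 3) (nat_lit 0) (nat_lit 1) (nat_lit 4128) (nat_lit 0x40020010008004002011) (nat_lit 0) (nat_lit 1) (nat_lit 0) (nat_lit 1) (nat_lit 0) (nat_lit 1) (nat_lit 0) .nil) (.cD (nat_lit 48) (.kA true (nat_lit 0x700400100c002011001000002)) (.cD (nat_lit 52) (.kc (nat_lit 52) (nat_lit 0x7001001)) .nil)))))))) (.cD (nat_lit 24) (.dfs (nat_lit 32) (nat_lit 4100) (nat_lit 4100) (nat_lit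 0x1002001) (nat_lit 0x1002001) (nat_lit 0) (nat_lit 0) (nat_lit 3) (nat_lit 0) (nat_lit 0) (nat_lit 0) (nat_lit 1) (nat_lit 0) (nat_lit 1) (nat_lit 0) (nat_lit 1) (nat_lit 0x101010101010100) (.cD (nat_lit 8) (.kA false (nat_lit 0x500400300c002011001000002)) (.cD (nat_lit 16) (.kA false (nat_lit 0x700400100c002011001000002)) (.cD (nat_lit 24) (.kc (nat_lit 48) (nat_lit 0x3001001)) (.cD (nat_lit 32) (.kc (nat_lit 36) (nat_lit 0x5001001)) (.cD (nat_lit 40) (.kA false (nat_lit 0x100400700c002011001000002)) (.cD (nat_lit 48) (.kA false (nat_lit 0x300400500c002011001000002)) (.cD (nat_lit 56) (.kc (nat_lit 52) (nat_lit 0x7001001)) .nil)))))))) (.cD (nat_lit 32) (.kc (nat_lit 20) (nat_lit 0x3001001)) (.cD (nat_lit 48) (.dfs (nat_lit 32) (nat_lit 4100) (nat_lit 4100) (nat_lit 0x1002001) (nat_lit 0x1002001) (nat_lit 0) (nat_lit 0) (nat_lit 3) (nat_lit 0) (nat_lit 0) (nat_lit 0) (nat_lit 1) (nat_lit 0) (nat_lit 0x1008004) (nat_lit 32772) (nat_lit 0x1001004000008001014000018)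 (nat_lit 0x1000101110110) (.cD (nat_lit 4) (.kA true (nat_lit 0x100400200c002011001000002)) (.cD (nat_lit 8) (.kA false (nat_lit 0x500400600c002011001000002)) (.cD (nat_lit 16) (.kc (nat_lit 52) (nat_lit 0x7001001)) (.cD (nat_lit 20) (.kA true (nat_lit 0x700400200c002011001000002)) (.cD (nat_lit 24) (.kA false (nat_lit 0x300400600c002011001000002)) (.cD (nat_lit 32) (.kc (nat_lit 36) (nat_lit 0x5001001)) (.cD (nat_lit 48) (.kc (nat_lit 48) (nat_lit 0x3001001)) .nil)))))))) .nil)))))))) (.cD (nat_lit 48) (.kF (nat_lit 4) (nat_lit 0x1002001002012004002002000003)) .nil))))))))))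
theorem c193 : (chk [] [] p193).n x106 s193 = true := by decide +kernel
noncomputable def p194 : Pf := (.anc (nat_lit 68) (nat_lit 0x10002002002000002) (nat_lit 0x1009020010004) (.czp (nat_lit 64) (nat_lit 0) (nat_lit 0x1040020010008004) z6 (.dfs (nat_lit 4) (nat_lit 4097) (nat_lit 4097) (nat_lit 1) (nat_lit 1) (nat_lit 0) (nat_lit 0) (nat_lit 3) (nat_lit 0) (nat_lit 0) (nat_lit 0) (nat_lit 1) (nat_lit 0) (nat_lit 0x1008004) (nat_lit 32772) (nat_lit 0x1001004000008001014000018) (nat_lit 0x1000101110110) (.cD (nat_lit 4) (.dfs (nat_lit 16) (nat_lit 4098) (nat_lit 4098) (nat_lit 4097) (nat_lit 4097) (nat_lit 0) (nat_lit 0) (nat_lit 3) (nat_lit 0) (nat_lit 0) (nat_lit 0) (nat_lit 1) (nat_lit 0) (nat_lit 1) (nat_lit 0) (nat_lit 1) (nat_lit 0x11001100110010) (.cD (nat_lit 4) (.kc (nat_lit 20) (nat_lit 0x3001001)) (.cD (nat_lit 16) (.dfs (nat_lit 32) (nat_lit 4100) (nat_lit 4100) (nat_lit 0x1002001) (nat_lit 0x1002001) (nat_lit 0) (nat_lit 0) (nat_lit 3) (nat_lit 0) (nat_lit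 0) (nat_lit 0) (nat_lit 1) (nat_lit 0) (nat_lit 1) (nat_lit 0) (nat_lit 1) (nat_lit 0x11001100110010) (.cD (nat_lit 4) (.kc (nat_lit 36) (nat_lit 0x5001001)) (.cD (nat_lit 16) (.kc (nat_lit 48) (nat_lit 0x3001001)) (.cD (nat_lit 20) (.kc (nat_lit 52) (nat_lit 0x7001001)) (.cD (nat_lit 32) (.dfs (nat_lit 9) (nat_lit 0x1004001003008) (nat_lit 0x1005001003008) (nat_lit 4098) (nat_lit 4098) (nat_lit 3) (nat_lit 0) (nat_lit 2) (nat_lit 1) (nat_lit 0) (nat_lit 8) (nat_lit 1) (nat_lit 0) (nat_lit 1) (nat_lit 0) (nat_lit 1) (nat_lit 0) .nil) (.cD (nat_lit 36) (.kA true (nat_lit 0x1100100000400100300d001011001000003)) (.cD (nat_lit 48) (.kA true (nat_lit 0x600800401000400400100300d001011001000003)) (.cD (nat_lit 52) (.kA true (nat_lit 0x5004003008001008004002005007011001000003)) .nil)))))))) (.cD (nat_lit 20) (.dfs (nat_lit 32) (nat_lit 4100) (nat_lit 4100) (nat_lit 0x1002001) (nat_lit 0x1002001) (nat_lit 0) (nat_lit 0) (nat_lit 3) (nat_lit 0) (nat_lit 0) (nat_lit 0) (nat_lit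 1) (nat_lit 0) (nat_lit 1) (nat_lit 0) (nat_lit 1) (nat_lit 0x11001100110010) (.cD (nat_lit 4) (.kc (nat_lit 36) (nat_lit 0x5001001)) (.cD (nat_lit 16) (.kc (nat_lit 52) (nat_lit 0x7001001)) (.cD (nat_lit 20) (.kc (nat_lit 48) (nat_lit 0x3001001)) (.cD (nat_lit 32) (.kA true (nat_lit 0x5004003008001008004002005007011001000003)) (.cD (nat_lit 36) (.dfs (nat_lit 9) (nat_lit 4102) (nat_lit 4103) (nat_lit 1) (nat_lit 1) (nat_lit 3) (nat_lit 0) (nat_lit 1) (nat_lit 4112) (nat_lit 0x40020010008004002011) (nat_lit 0) (nat_lit 1) (nat_lit 0) (nat_lit 1) (nat_lit 0) (nat_lit 1) (nat_lit 0) .nil) (.cD (nat_lit 48) (.kA true (nat_lit 0x400300500800100400100300c001002)) (.cD (nat_lit 52) (.kA true (nat_lit 0x400700100800100400100300c001002)) .nil)))))))) (.cD (nat_lit 32) (.kF (nat_lit 16) (nat_lit 0x100400100c012004002002000003)) (.cD (nat_lit 36) (.kF (nat_lit 16) (nat_lit 0x100400100c012004002002000003)) (.cD (nat_lit 48) (.dfs (nat_lit 32) (nat_lit 4100) (nat_lit 4100)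 (nat_lit 0x1002001) (nat_lit 0x1002001) (nat_lit 0) (nat_lit 0) (nat_lit 3) (nat_lit 0) (nat_lit 0) (nat_lit 0) (nat_lit 1) (nat_lit 0) (nat_lit 1) (nat_lit 0) (nat_lit 1) (nat_lit 0x11001100110010) (.cD (nat_lit 4) (.kc (nat_lit 36) (nat_lit 0x5001001)) (.cD (nat_lit 16) (.kA true (nat_lit 0x400200100800100400100300c001002)) (.cD (nat_lit 20) (.kA true (nat_lit 0x400600500800100400100300c001002)) (.cD (nat_lit 32) (.kA true (nat_lit 0x5004003008001008004002005007011001000003)) (.cD (nat_lit 36) (.kA true (nat_lit 0x400500600800100400100300c001002)) (.cD (nat_lit 48) (.kc (nat_lit 48) (nat_lit 0x3001001)) (.cD (nat_lit 52) (.kc (nat_lit 52) (nat_lit 0x7001001)) .nil)))))))) (.cD (nat_lit 52) (.dfs (nat_lit 32) (nat_lit 4100) (nat_lit 4100) (nat_lit 0x1002001) (nat_lit 0x1002001) (nat_lit 0) (nat_lit 0) (nat_lit 3) (nat_lit 0) (nat_lit 0) (nat_lit 0) (nat_lit 1) (nat_lit 0) (nat_lit 1) (nat_lit 0) (nat_lit 1) (nat_lit 0x11001100110010) (.cD (nat_lit 4) (.kc (nat_lit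 36) (nat_lit 0x5001001)) (.cD (nat_lit 16) (.kA true (nat_lit 0x400200500800100400100300c001002)) (.cD (nat_lit 20) (.kA true (nat_lit 0x400600100800100400100300c001002)) (.cD (nat_lit 32) (.kA true (nat_lit 0x5004003008001008004002005007011001000003)) (.cD (nat_lit 36) (.kA true (nat_lit 0x400500200800100400100300c001002)) (.cD (nat_lit 48) (.kc (nat_lit 52) (nat_lit 0x7001001)) (.cD (nat_lit 52) (.kc (nat_lit 48) (nat_lit 0x3001001)) .nil)))))))) .nil)))))))) (.cD (nat_lit 8) (.dfs (nat_lit 16) (nat_lit 4098) (nat_lit 4098) (nat_lit 4097) (nat_lit 4097) (nat_lit 0) (nat_lit 0) (nat_lit 3) (nat_lit 0) (nat_lit 0) (nat_lit 0) (nat_lit 1) (nat_lit 0) (nat_lit 1) (nat_lit 0) (nat_lit 1) (nat_lit 0x101010101010100) (.cD (nat_lit 8) (.kc (nat_lit 20) (nat_lit 0x3001001)) (.cD (nat_lit 16) (.dfs (nat_lit 32) (nat_lit 4100) (nat_lit 4100) (nat_lit 0x1002001) (nat_lit 0x1002001) (nat_lit 0) (nat_lit 0) (nat_lit 3) (nat_lit 0) (nat_lit 0) (nat_lit 0) (nat_lit 1) (nat_lit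 0) (nat_lit 1) (nat_lit 0) (nat_lit 1) (nat_lit 0x101010101010100) (.cD (nat_lit 8) (.kc (nat_lit 36) (nat_lit 0x5001001)) (.cD (nat_lit 16) (.kc (nat_lit 48) (nat_lit 0x3001001)) (.cD (nat_lit 24) (.kc (nat_lit 52) (nat_lit 0x7001001)) (.cD (nat_lit 32) (.kA false (nat_lit 0x100400200c002006004008014005011001000003)) (.cD (nat_lit 40) (.kA false (nat_lit 0x1100100000100500200d002011001000003)) (.cD (nat_lit 48) (.kA false (nat_lit 0xe00800c01000400700300200b002011001000003)) (.cD (nat_lit 56) (.kA false (nat_lit 0x700400200c002006004008014005011001000003)) .nil)))))))) (.cD (nat_lit 24) (.dfs (nat_lit 32) (nat_lit 4100) (nat_lit 4100) (nat_lit 0x1002001) (nat_lit 0x1002001) (nat_lit 0) (nat_lit 0) (nat_lit 3) (nat_lit 0) (nat_lit 0) (nat_lit 0) (nat_lit 1) (nat_lit 0) (nat_lit 1) (nat_lit 0) (nat_lit 1) (nat_lit 0x101010101010100) (.cD (nat_lit 8) (.kc (nat_lit 36) (nat_lit 0x5001001)) (.cD (nat_lit 16) (.kc (nat_lit 52) (nat_lit 0x7001001)) (.cD (nat_lit 24) (.kc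 (nat_lit 48) (nat_lit 0x3001001)) (.cD (nat_lit 32) (.kA false (nat_lit 0x100400600c002006004008014005011001000003)) (.cD (nat_lit 40) (.kA false (nat_lit 0x1100100000100500600d002011001000003)) (.cD (nat_lit 48) (.kA false (nat_lit 0x700400600c002006004008014005011001000003)) (.cD (nat_lit 56) (.kA false (nat_lit 0xe00800a01000400700300600b002011001000003)) .nil)))))))) (.cD (nat_lit 32) (.kF (nat_lit 16) (nat_lit 0x100400100c012004002002000003)) (.cD (nat_lit 40) (.kF (nat_lit 16) (nat_lit 0x100400100c012004002002000003)) (.cD (nat_lit 48) (.dfs (nat_lit 32) (nat_lit 4100) (nat_lit 4100) (nat_lit 0x1002001) (nat_lit 0x1002001) (nat_lit 0) (nat_lit 0) (nat_lit 3) (nat_lit 0) (nat_lit 0) (nat_lit 0) (nat_lit 1) (nat_lit 0) (nat_lit 1) (nat_lit 0) (nat_lit 1) (nat_lit 0x101010101010100) (.cD (nat_lit 8) (.kc (nat_lit 36) (nat_lit 0x5001001)) (.cD (nat_lit 16) (.kA false (nat_lit 0xe00800401000400700300100b002011001000003)) (.cD (nat_lit 24) (.kA false (nat_lit 0x700400500c002006004008014005011001000003))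 (.cD (nat_lit 32) (.kA false (nat_lit 0x100400300c002006004008014005011001000003)) (.cD (nat_lit 40) (.kA false (nat_lit 0x1100100000100500700d002011001000003)) (.cD (nat_lit 48) (.kc (nat_lit 48) (nat_lit 0x3001001)) (.cD (nat_lit 56) (.kc (nat_lit 52) (nat_lit 0x7001001)) .nil)))))))) (.cD (nat_lit 56) (.dfs (nat_lit 32) (nat_lit 4100) (nat_lit 4100) (nat_lit 0x1002001) (nat_lit 0x1002001) (nat_lit 0) (nat_lit 0) (nat_lit 3) (nat_lit 0) (nat_lit 0) (nat_lit 0) (nat_lit 1) (nat_lit 0) (nat_lit 1) (nat_lit 0) (nat_lit 1) (nat_lit 0x101010101010100) (.cD (nat_lit 8) (.kc (nat_lit 36) (nat_lit 0x5001001)) (.cD (nat_lit 16) (.kA false (nat_lit 0x700400100c002006004008014005011001000003)) (.cD (nat_lit 24) (.kA false (nat_lit 0xe00800201000400700300500b002011001000003)) (.cD (nat_lit 32) (.kA false (nat_lit 0x100400700c002006004008014005011001000003)) (.cD (nat_lit 40) (.kA false (nat_lit 0x1100100000100500300d002011001000003)) (.cD (nat_lit 48) (.kc (nat_lit 52) (nat_lit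 0x7001001)) (.cD (nat_lit 56) (.kc (nat_lit 48) (nat_lit 0x3001001)) .nil)))))))) .nil)))))))) (.cD (nat_lit 16) (.kF (nat_lit 4) (nat_lit 0x2002000001003001002)) (.cD (nat_lit 20) (.kF (nat_lit 4) (nat_lit 0xe01e003001003001002)) (.cD (nat_lit 24) (.kF (nat_lit 4) (nat_lit 0x1002001002012004002002000003)) (.cD (nat_lit 32) (.dfs (nat_lit 16) (nat_lit 4098) (nat_lit 4098) (nat_lit 4097) (nat_lit 4097) (nat_lit 0) (nat_lit 0) (nat_lit 3) (nat_lit 0) (nat_lit 0) (nat_lit 0) (nat_lit 1) (nat_lit 0) (nat_lit 0x1008004) (nat_lit 32772) (nat_lit 0x1001004000008001014000018) (nat_lit 0x1000101110110) (.cD (nat_lit 4) (.kF (nat_lit 16) (nat_lit 0x11001000001006001002)) (.cD (nat_lit 8) (.kF (nat_lit 16) (nat_lit 0x11001000001006001002)) (.cD (nat_lit 16) (.dfs (nat_lit 32) (nat_lit 4100) (nat_lit 4100) (nat_lit 0x1002001) (nat_lit 0x1002001) (nat_lit 0) (nat_lit 0) (nat_lit 3) (nat_lit 0) (nat_lit 0) (nat_lit 0) (nat_lit 1) (nat_lit 0) (nat_lit 0x1008004) (nat_lit 32772)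 (nat_lit 0x1001004000008001014000018) (nat_lit 0x1000101110110) (.cD (nat_lit 4) (.kA true (nat_lit 0x100400600c002011001000002)) (.cD (nat_lit 8) (.kA false (nat_lit 0x500400200c002011001000002)) (.cD (nat_lit 16) (.kc (nat_lit 48) (nat_lit 0x3001001)) (.cD (nat_lit 20) (.kA true (nat_lit 0x300400600c002011001000002)) (.cD (nat_lit 24) (.kA false (nat_lit 0x700400200c002011001000002)) (.cD (nat_lit 32) (.kc (nat_lit 36) (nat_lit 0x5001001)) (.cD (nat_lit 48) (.kc (nat_lit 52) (nat_lit 0x7001001)) .nil)))))))) (.cD (nat_lit 20) (.dfs (nat_lit 32) (nat_lit 4100) (nat_lit 4100) (nat_lit 0x1002001) (nat_lit 0x1002001) (nat_lit 0) (nat_lit 0) (nat_lit 3) (nat_lit 0) (nat_lit 0) (nat_lit 0) (nat_lit 1) (nat_lit 0) (nat_lit 1) (nat_lit 0) (nat_lit 1) (nat_lit 0x11001100110010) (.cD (nat_lit 4) (.kA true (nat_lit 0x100400700c002011001000002)) (.cD (nat_lit 16) (.kA true (nat_lit 0x300400500c002011001000002)) (.cD (nat_lit 20) (.kc (nat_lit 48) (nat_lit 0x3001001)) (.cD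 (nat_lit 32) (.kc (nat_lit 36) (nat_lit 0x5001001)) (.cD (nat_lit 36) (.dfs (nat_lit 9) (nat_lit 4100) (nat_lit 4101) (nat_lit 1) (nat_lit 1) (nat_lit 3) (nat_lit 0) (nat_lit 1) (nat_lit 4128) (nat_lit 0x40020010008004002011) (nat_lit 0) (nat_lit 1) (nat_lit 0) (nat_lit 1) (nat_lit 0) (nat_lit 1) (nat_lit 0) .nil) (.cD (nat_lit 48) (.kA true (nat_lit 0x700400100c002011001000002)) (.cD (nat_lit 52) (.kc (nat_lit 52) (nat_lit 0x7001001)) .nil)))))))) (.cD (nat_lit 24) (.dfs (nat_lit 32) (nat_lit 4100) (nat_lit 4100) (nat_lit 0x1002001) (nat_lit 0x1002001) (nat_lit 0) (nat_lit 0) (nat_lit 3) (nat_lit 0) (nat_lit 0) (nat_lit 0) (nat_lit 1) (nat_lit 0) (nat_lit 1) (nat_lit 0) (nat_lit 1) (nat_lit 0x101010101010100) (.cD (nat_lit 8) (.kA false (nat_lit 0x500400300c002011001000002)) (.cD (nat_lit 16) (.kA false (nat_lit 0x700400100c002011001000002)) (.cD (nat_lit 24) (.kc (nat_lit 48) (nat_lit 0x3001001)) (.cD (nat_lit 32) (.kc (nat_lit 36) (nat_lit 0x5001001)) (.cD (nat_lit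 40) (.kA false (nat_lit 0x100400700c002011001000002)) (.cD (nat_lit 48) (.kA false (nat_lit 0x300400500c002011001000002)) (.cD (nat_lit 56) (.kc (nat_lit 52) (nat_lit 0x7001001)) .nil)))))))) (.cD (nat_lit 32) (.kc (nat_lit 20) (nat_lit 0x3001001)) (.cD (nat_lit 48) (.dfs (nat_lit 32) (nat_lit 4100) (nat_lit 4100) (nat_lit 0x1002001) (nat_lit 0x1002001) (nat_lit 0) (nat_lit 0) (nat_lit 3) (nat_lit 0) (nat_lit 0) (nat_lit 0) (nat_lit 1) (nat_lit 0) (nat_lit 0x1008004) (nat_lit 32772) (nat_lit 0x1001004000008001014000018) (nat_lit 0x1000101110110) (.cD (nat_lit 4) (.kA true (nat_lit 0x100400200c002011001000002)) (.cD (nat_lit 8) (.kA false (nat_lit 0x500400600c002011001000002)) (.cD (nat_lit 16) (.kc (nat_lit 52) (nat_lit 0x7001001)) (.cD (nat_lit 20) (.kA true (nat_lit 0x700400200c002011001000002)) (.cD (nat_lit 24) (.kA false (nat_lit 0x300400600c002011001000002)) (.cD (nat_lit 32) (.kc (nat_lit 36) (nat_lit 0x5001001)) (.cD (nat_lit 48) (.kc (nat_lit 48) (nat_lit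 0x3001001)) .nil)))))))) .nil)))))))) (.cD (nat_lit 48) (.kF (nat_lit 4) (nat_lit 0x1002001002012004002002000003)) .nil))))))))))
theorem c194 : (chk [] [] p194).n x107 s194 = true := by decide +kernel
noncomputable def p195 : Pf := (.ext (nat_lit 1) (nat_lit 0x4006008010002001) (nat_lit 0x104003002000400b) (nat_lit 0x1e00800400200d00200200200001000800200400d00102100100001000800600400d002005) (nat_lit 0x400600801e) (nat_lit 0x1002001) (nat_lit 0x1006005) (nat_lit 0x1c008004006001014008004002005) (.dfs (nat_lit 1) (nat_lit 0x1002004008010) (nat_lit 0x1002004008014) (nat_lit 4097) (nat_lit 4101) (nat_lit 4) (nat_lit 0) (nat_lit 2) (nat_lit 1) (nat_lit 0x2004008010001001) (nat_lit 5) (nat_lit 1) (nat_lit 0) (nat_lit 1) (nat_lit 0) (nat_lit 1) (nat_lit 0x1020102010201020) (.cD (nat_lit 5) (.kS (nat_lit 1) (nat_lit 0xc008010020001008008000002) (nat_lit 0x1025032) (nat_lit 0x800400200501000800400e009) (nat_lit 0x400400000400801002000100b00100800800000c00801002000900b002004))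 (.cD (nat_lit 12) (.dfs (nat_lit 2) (nat_lit 0x1004008010020) (nat_lit 0x100c008010038) (nat_lit 0x1002001) (nat_lit 0x1002001) (nat_lit 0) (nat_lit 0) (nat_lit 2) (nat_lit 1) (nat_lit 0x4008010020001001) (nat_lit 6) (nat_lit 1) (nat_lit 0) (nat_lit 4105) (nat_lit 9) (nat_lit 0x100000f00001f) (nat_lit 0x80008000) (.cD (nat_lit 15) (.kS (nat_lit 0) (nat_lit 0x2501003004d002004004000002) (nat_lit 0x101d01e038) (nat_lit 0xc004002005010008004006001030010008004002011) (nat_lit 0x2801003007200f01c00500101701003004000200100800100400400002501003004d02d03e037001004)) (.cD (nat_lit 31) (.kS (nat_lit 0) (nat_lit 0x2002000017010030040001002) (nat_lit 0x102c03f009) (nat_lit 0xc004002005010008004006001030010008004002011) (nat_lit 0x801003004200f00c01500200501003007d01d02e007002017010030040002001008002002002000004)) .nil))) (.cD (nat_lit 21) (.kS (nat_lit 1) (nat_lit 0xc008010020001008008000002) (nat_lit 0x1035022) (nat_lit 0x800400200501000800400e009) (nat_lit 0x400400000400801002000100b00100800800000c00801002000900b002004))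 (.cD (nat_lit 28) (.dfs (nat_lit 2) (nat_lit 0x1004008010020) (nat_lit 0x100c008010038) (nat_lit 0x1002001) (nat_lit 0x1002001) (nat_lit 0) (nat_lit 0) (nat_lit 2) (nat_lit 1) (nat_lit 0x4008010020001001) (nat_lit 6) (nat_lit 1) (nat_lit 0) (nat_lit 4105) (nat_lit 9) (nat_lit 0x100000f00001f) (nat_lit 0x80008000) (.cD (nat_lit 15) (.kA false (nat_lit 0x1501003004d001018010030042001017010030070001002002000004)) (.cD (nat_lit 31) (.kA false (nat_lit 0x2501003007d001028010030072001017010030040001003)) .nil))) (.cD (nat_lit 37) (.kS (nat_lit 1) (nat_lit 0xc008010020001008008000002) (nat_lit 0x1005012) (nat_lit 0x800400200501000800400e009) (nat_lit 0x400400000400801002000100b00100800800000c00801002000900b002004)) (.cD (nat_lit 44) (.dfs (nat_lit 2) (nat_lit 0x1004008010020) (nat_lit 0x100c008010038) (nat_lit 0x1002001) (nat_lit 0x1002001) (nat_lit 0) (nat_lit 0) (nat_lit 2) (nat_lit 1) (nat_lit 0x4008010020001001) (nat_lit 6) (nat_lit 1) (nat_lit 0) (nat_lit 4105) (nat_lit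 9) (nat_lit 0x100000f00001f) (nat_lit 0x80008000) (.cD (nat_lit 15) (.kS (nat_lit 0) (nat_lit 0x21001000017010030040001002) (nat_lit 0x100c02f) (nat_lit 0xc004002005010008004006001) (nat_lit 0x3801003006201f01c00203501003004d02d03e002017010030040002001002001021000004)) (.cD (nat_lit 31) (.kS (nat_lit 0) (nat_lit 0x8010030072001017010030040001002) (nat_lit 0x100d00e) (nat_lit 0xc004002005010008004006001) (nat_lit 0x200200000501003007d01d03e00201701003004000200100200801003007201f02c002004)) .nil))) (.cD (nat_lit 53) (.kS (nat_lit 1) (nat_lit 0xc008010020001008008000002) (nat_lit 0x1015002) (nat_lit 0x800400200501000800400e009) (nat_lit 0x400400000400801002000100b00100800800000c00801002000900b002004)) (.cD (nat_lit 60) (.dfs (nat_lit 2) (nat_lit 0x1004008010020) (nat_lit 0x100c008010038) (nat_lit 0x1002001) (nat_lit 0x1002001) (nat_lit 0) (nat_lit 0) (nat_lit 2) (nat_lit 1) (nat_lit 0x4008010020001001) (nat_lit 6) (nat_lit 1) (nat_lit 0) (nat_lit 4105) (nat_lit 9)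 (nat_lit 0x100000f00001f) (nat_lit 0x80008000) (.cD (nat_lit 15) (.kA false (nat_lit 0x501003004d001002002000008010030072001017010030040001004)) (.cD (nat_lit 31) (.kA false (nat_lit 0x2501003007d001028010030062001007010030050001021001000004)) .nil))) .nil))))))))))
theorem c195 : (chk [] [] p195).n x108 s195 = true := by decide +kernel
noncomputable def p196 : Pf := (.ext (nat_lit 1) (nat_lit 0xf01002004a001001) (nat_lit 0x1080060040008) (nat_lit 0x4702003a010002010008006004004002) (nat_lit 0x300100400f) (nat_lit 4098) (nat_lit 4109) (nat_lit 0xa004002001) (.dfs (nat_lit 2) (nat_lit 0x1001002004008) (nat_lit 0x100100200400a) (nat_lit 1) (nat_lit 1) (nat_lit 2) (nat_lit 0) (nat_lit 2) (nat_lit 1) (nat_lit 0x1002004008001001) (nat_lit 13) (nat_lit 1) (nat_lit 0) (nat_lit 1) (nat_lit 0) (nat_lit 1) (nat_lit 0) .nil))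
theorem c196 : (chk [] [] p196).n x109 s196 = true := by decide +kernel
noncomputable def p197 : Pf := (.ext (nat_lit 0) (nat_lit 0x2f010030068002001) (nat_lit 0x1080020040010) (nat_lit 0x6803002f03f002010008004002003002) (nat_lit 0x2003004008) (nat_lit 0x1009004) (nat_lit 0x1002016) (nat_lit 0xb00400200100c004002001) (.dfs (nat_lit 4) (nat_lit 0x1001002004008) (nat_lit 0x100100200400c) (nat_lit 1) (nat_lit 1) (nat_lit 0) (nat_lit 0) (nat_lit 2) (nat_lit 0) (nat_lit 0x1002004008001001) (nat_lit 22) (nat_lit 1) (nat_lit 0) (nat_lit 4226) (nat_lit 130) (nat_lit 0x100001600001e00005600005e) (nat_lit 0x404000000000000040400000) (.cD (nat_lit 22) (.dfs (nat_lit 9) (nat_lit 0x1002004008010) (nat_lit 0x1002004008016) (nat_lit 4097) (nat_lit 4103) (nat_lit 6) (nat_lit 0) (nat_lit 2) (nat_lit 0) (nat_lit 0x2004008010001001) (nat_lit 2) (nat_lit 1) (nat_lit 0) (nat_lit 1) (nat_lit 0) (nat_lit 1) (nat_lit 0) .nil) (.cD (nat_lit 30) (.kS (nat_lit 0) (nat_lit 0x2004008010005001)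 (nat_lit 4116) (nat_lit 0x8004002003) (nat_lit 0x3f02f030068016003002004008010001001002004008010001006003)) (.cD (nat_lit 86) (.kS (nat_lit 0) (nat_lit 0x2004008010005001) (nat_lit 4116) (nat_lit 0x8004002003) (nat_lit 0x3f02f030068009003002004008010001001002004008010001006003)) (.cD (nat_lit 94) (.kS (nat_lit 0) (nat_lit 0x2004008010005001) (nat_lit 4116) (nat_lit 0x8004002003) (nat_lit 0x3f02f030068006003002004008010001001002004008010001006003)) .nil))))))
theorem c197 : (chk [] [] p197).n x110 s197 = true := by decide +kernel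
noncomputable def p198 : Pf := (.ext (nat_lit 0) (nat_lit 0x2f010030068002001) (nat_lit 0x1080020040010) (nat_lit 0x6803002f03f002010008004002003002) (nat_lit 0x2003004008) (nat_lit 0x1009004) (nat_lit 0x1002016) (nat_lit 0xb00400200100c004002001) (.dfs (nat_lit 4) (nat_lit 0x1001002004008) (nat_lit 0x100100200400c) (nat_lit 1) (nat_lit 1) (nat_lit 0) (nat_lit 0) (nat_lit 2) (nat_lit 0) (nat_lit 0x1002004008001001) (nat_lit 22) (nat_lit 1) (nat_lit 0) (nat_lit 4226) (nat_lit 130) (nat_lit 0x100001600001e00005600005e) (nat_lit 0x404000000000000040400000) (.cD (nat_lit 22) (.dfs (nat_lit 9) (nat_lit 0x1002004008010) (nat_lit 0x1002004008016) (nat_lit 4097) (nat_lit 4103) (nat_lit 14) (nat_lit 0) (nat_lit 2) (nat_lit 0) (nat_lit 0x2004008010001001) (nat_lit 2) (nat_lit 1) (nat_lit 0) (nat_lit 1) (nat_lit 0) (nat_lit 1) (nat_lit 0) .nil) (.cD (nat_lit 30) (.kS (nat_lit 0) (nat_lit 0x2004008010005001) (nat_lit 4116) (nat_lit 0x8004002003) (nat_lit 0x3f02f030068016003002004008010001001002004008010001006003))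 (.cD (nat_lit 86) (.kS (nat_lit 0) (nat_lit 0x2004008010005001) (nat_lit 4116) (nat_lit 0x8004002003) (nat_lit 0x3f02f030068009003002004008010001001002004008010001006003)) (.cD (nat_lit 94) (.kS (nat_lit 0) (nat_lit 0x2004008010005001) (nat_lit 4116) (nat_lit 0x8004002003) (nat_lit 0x3f02f030068006003002004008010001001002004008010001006003)) .nil))))))
theorem c198 : (chk [] [] p198).n x111 s198 = true := by decide +kernel
noncomputable def p199 : Pf := (.ext (nat_lit 0) (nat_lit 0x2f010030068002001) (nat_lit 0x1080020040010) (nat_lit 0x6803002f03f002010008004002003002) (nat_lit 0x2003004008) (nat_lit 0x1009004) (nat_lit 0x1002016) (nat_lit 0xb00400200100c004002001) (.dfs (nat_lit 4) (nat_lit 0x1001002004008) (nat_lit 0x100100200400c) (nat_lit 1) (nat_lit 1) (nat_lit 0) (nat_lit 0) (nat_lit 2) (nat_lit 0) (nat_lit 0x1002004008001001) (nat_lit 22) (nat_lit 1) (nat_lit 0) (nat_lit 4226) (nat_lit 130) (nat_lit 0x100001600001e00005600005e) (nat_lit 0x404000000000000040400000)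 (.cD (nat_lit 22) (.dfs (nat_lit 9) (nat_lit 0x1002004008010) (nat_lit 0x1002004008016) (nat_lit 4097) (nat_lit 4103) (nat_lit 14) (nat_lit 0) (nat_lit 2) (nat_lit 0) (nat_lit 0x2004008010001001) (nat_lit 2) (nat_lit 1) (nat_lit 0) (nat_lit 1) (nat_lit 0) (nat_lit 1) (nat_lit 0) .nil) (.cD (nat_lit 30) (.kS (nat_lit 0) (nat_lit 0x2004008010005001) (nat_lit 4116) (nat_lit 0x8004002003) (nat_lit 0x3f02f030068016003002004008010001001002004008010001006003)) (.cD (nat_lit 86) (.kS (nat_lit 0) (nat_lit 0x2004008010005001) (nat_lit 4116) (nat_lit 0x8004002003) (nat_lit 0x3f02f030068009003002004008010001001002004008010001006003)) (.cD (nat_lit 94) (.kS (nat_lit 0) (nat_lit 0x2004008010005001) (nat_lit 4116) (nat_lit 0x8004002003) (nat_lit 0x3f02f030068006003002004008010001001002004008010001006003)) .nil))))))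
theorem c199 : (chk [] [] p199).n x112 s199 = true := by decide +kernel
noncomputable def p200 : Pf := (.ext (nat_lit 0) (nat_lit 0x2f010030068002001) (nat_lit 0x1080020040010) (nat_lit 0x6803002f03f002010008004002003002) (nat_lit 0x2003004008) (nat_lit 0x1009004) (nat_lit 0x1002016) (nat_lit 0xb00400200100c004002001) (.dfs (nat_lit 4) (nat_lit 0x1001002004008) (nat_lit 0x100100200400c) (nat_lit 1) (nat_lit 1) (nat_lit 0) (nat_lit 0) (nat_lit 2) (nat_lit 0) (nat_lit 0x1002004008001001) (nat_lit 22) (nat_lit 1) (nat_lit 0) (nat_lit 4226) (nat_lit 130) (nat_lit 0x100001600001e00005600005e) (nat_lit 0x404000000000000040400000) (.cD (nat_lit 22) (.dfs (nat_lit 9) (nat_lit 0x1002004008010) (nat_lit 0x1002004008016) (nat_lit 4097) (nat_lit 4103) (nat_lit 2) (nat_lit 0) (nat_lit 2) (nat_lit 0) (nat_lit 0x2004008010001001) (nat_lit 2) (nat_lit 1) (nat_lit 0) (nat_lit 1) (nat_lit 0) (nat_lit 1) (nat_lit 0) .nil) (.cD (nat_lit 30) (.kS (nat_lit 0) (nat_lit 0x2004008010005001)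 (nat_lit 4116) (nat_lit 0x8004002003) (nat_lit 0x3f02f030068016003002004008010001001002004008010001006003)) (.cD (nat_lit 86) (.kS (nat_lit 0) (nat_lit 0x2004008010005001) (nat_lit 4116) (nat_lit 0x8004002003) (nat_lit 0x3f02f030068009003002004008010001001002004008010001006003)) (.cD (nat_lit 94) (.kS (nat_lit 0) (nat_lit 0x2004008010005001) (nat_lit 4116) (nat_lit 0x8004002003) (nat_lit 0x3f02f030068006003002004008010001001002004008010001006003)) .nil))))))
theorem c200 : (chk [] [] p200).n x113 s200 = true := by decide +kernel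
noncomputable def p201 : Pf := (.ext (nat_lit 0) (nat_lit 0x2f010030068002001) (nat_lit 0x1080020040010) (nat_lit 0x6803002f03f002010008004002003002) (nat_lit 0x2003004008) (nat_lit 0x1009004) (nat_lit 0x1002016) (nat_lit 0xb00400200100c004002001) (.dfs (nat_lit 4) (nat_lit 0x1001002004008) (nat_lit 0x100100200400c) (nat_lit 1) (nat_lit 1) (nat_lit 0) (nat_lit 0) (nat_lit 2) (nat_lit 0) (nat_lit 0x1002004008001001) (nat_lit 22) (nat_lit 1) (nat_lit 0) (nat_lit 4226) (nat_lit 130) (nat_lit 0x100001600001e00005600005e) (nat_lit 0x404000000000000040400000) (.cD (nat_lit 22) (.dfs (nat_lit 9) (nat_lit 0x1002004008010) (nat_lit 0x1002004008016) (nat_lit 4097) (nat_lit 4103) (nat_lit 2) (nat_lit 0) (nat_lit 2) (nat_lit 0) (nat_lit 0x2004008010001001) (nat_lit 2) (nat_lit 1) (nat_lit 0) (nat_lit 1) (nat_lit 0) (nat_lit 1) (nat_lit 0) .nil) (.cD (nat_lit 30) (.kS (nat_lit 0) (nat_lit 0x2004008010005001) (nat_lit 4116) (nat_lit 0x8004002003) (nat_lit 0x3f02f030068016003002004008010001001002004008010001006003))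 (.cD (nat_lit 86) (.kS (nat_lit 0) (nat_lit 0x2004008010005001) (nat_lit 4116) (nat_lit 0x8004002003) (nat_lit 0x3f02f030068009003002004008010001001002004008010001006003)) (.cD (nat_lit 94) (.kS (nat_lit 0) (nat_lit 0x2004008010005001) (nat_lit 4116) (nat_lit 0x8004002003) (nat_lit 0x3f02f030068006003002004008010001001002004008010001006003)) .nil))))))
theorem c201 : (chk [] [] p201).n x114 s201 = true := by decide +kernel
noncomputable def p202 : Pf := (.ext (nat_lit 0) (nat_lit 0x2f010030068002001) (nat_lit 0x1080020040010) (nat_lit 0x6803002f03f002010008004002003002) (nat_lit 0x2003004008) (nat_lit 0x1009004) (nat_lit 0x1002016) (nat_lit 0xb00400200100c004002001) (.dfs (nat_lit 4) (nat_lit 0x1001002004008) (nat_lit 0x100100200400c) (nat_lit 1) (nat_lit 1) (nat_lit 0) (nat_lit 0) (nat_lit 2) (nat_lit 0) (nat_lit 0x1002004008001001) (nat_lit 22) (nat_lit 1) (nat_lit 0) (nat_lit 4226) (nat_lit 130) (nat_lit 0x100001600001e00005600005e) (nat_lit 0x404000000000000040400000)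 (.cD (nat_lit 22) (.dfs (nat_lit 9) (nat_lit 0x1002004008010) (nat_lit 0x1002004008016) (nat_lit 4097) (nat_lit 4103) (nat_lit 10) (nat_lit 0) (nat_lit 2) (nat_lit 0) (nat_lit 0x2004008010001001) (nat_lit 2) (nat_lit 1) (nat_lit 0) (nat_lit 1) (nat_lit 0) (nat_lit 1) (nat_lit 0) .nil) (.cD (nat_lit 30) (.kS (nat_lit 0) (nat_lit 0x2004008010005001) (nat_lit 4116) (nat_lit 0x8004002003) (nat_lit 0x3f02f030068016003002004008010001001002004008010001006003)) (.cD (nat_lit 86) (.kS (nat_lit 0) (nat_lit 0x2004008010005001) (nat_lit 4116) (nat_lit 0x8004002003) (nat_lit 0x3f02f030068009003002004008010001001002004008010001006003)) (.cD (nat_lit 94) (.kS (nat_lit 0) (nat_lit 0x2004008010005001) (nat_lit 4116) (nat_lit 0x8004002003) (nat_lit 0x3f02f030068006003002004008010001001002004008010001006003)) .nil))))))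
theorem c202 : (chk [] [] p202).n x115 s202 = true := by decide +kernel
noncomputable def p203 : Pf := (.ext (nat_lit 0) (nat_lit 0x2f010030068002001) (nat_lit 0x1080020040010) (nat_lit 0x6803002f03f002010008004002003002) (nat_lit 0x2003004008) (nat_lit 0x1009004) (nat_lit 0x1002016) (nat_lit 0xb00400200100c004002001) (.dfs (nat_lit 4) (nat_lit 0x1001002004008) (nat_lit 0x100100200400c) (nat_lit 1) (nat_lit 1) (nat_lit 0) (nat_lit 0) (nat_lit 2) (nat_lit 0) (nat_lit 0x1002004008001001) (nat_lit 22) (nat_lit 1) (nat_lit 0) (nat_lit 4226) (nat_lit 130) (nat_lit 0x100001600001e00005600005e) (nat_lit 0x404000000000000040400000) (.cD (nat_lit 22) (.dfs (nat_lit 9) (nat_lit 0x1002004008010) (nat_lit 0x1002004008016) (nat_lit 4097) (nat_lit 4103) (nat_lit 10) (nat_lit 0) (nat_lit 2) (nat_lit 0) (nat_lit 0x2004008010001001) (nat_lit 2) (nat_lit 1) (nat_lit 0) (nat_lit 1) (nat_lit 0) (nat_lit 1) (nat_lit 0) .nil) (.cD (nat_lit 30) (.kS (nat_lit 0) (nat_lit 0x2004008010005001)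 (nat_lit 4116) (nat_lit 0x8004002003) (nat_lit 0x3f02f030068016003002004008010001001002004008010001006003)) (.cD (nat_lit 86) (.kS (nat_lit 0) (nat_lit 0x2004008010005001) (nat_lit 4116) (nat_lit 0x8004002003) (nat_lit 0x3f02f030068009003002004008010001001002004008010001006003)) (.cD (nat_lit 94) (.kS (nat_lit 0) (nat_lit 0x2004008010005001) (nat_lit 4116) (nat_lit 0x8004002003) (nat_lit 0x3f02f030068006003002004008010001001002004008010001006003)) .nil))))))
theorem c203 : (chk [] [] p203).n x116 s203 = true := by decide +kernel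
noncomputable def p204 : Pf := (.lft (nat_lit 0x40010020008001004002003001) (nat_lit 5) (nat_lit 0x1070060050040) (nat_lit 0x40020010008004002021) (.extn a20 (nat_lit 0x40020010008004002001) (nat_lit 0x1008020010040) (nat_lit 2) (nat_lit 0) (nat_lit 0) (nat_lit 5) (nat_lit 0x20002000200020) (.cE (nat_lit 5) b56 (nat_lit 0) (.cut (nat_lit 0)) (.cut (nat_lit 1)) (.cE (nat_lit 21) b57 (nat_lit 0) (.cut (nat_lit 2)) (.cut (nat_lit 3)) (.cE (nat_lit 37) b58 (nat_lit 0) (.cut (nat_lit 4)) (.cut (nat_lit 5)) (.cE (nat_lit 53) b59 (nat_lit 0) (.cut (nat_lit 6)) (.cut (nat_lit 7)) .nil))))))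
theorem c204 : (chk [(x109, s196), (x110, s197), (x111, s198), (x112, s199), (x113, s200), (x114, s201), (x115, s202), (x116, s203)] [] p204).n x108 s204 = true := by decide +kernel
noncomputable def p205 : Pf := (.ext (nat_lit 1) (nat_lit 0x1801003006300100f01002004a003002) (nat_lit 0x1080060040008) (nat_lit 0x6b03000801000107702000a010004010008006004006003) (nat_lit 0x300100400a) (nat_lit 4098) (nat_lit 4105) (nat_lit 0xa004002001) (.dfs (nat_lit 2) (nat_lit 0x1001002004008) (nat_lit 0x100100200400a) (nat_lit 1) (nat_lit 1) (nat_lit 2) (nat_lit 0) (nat_lit 2) (nat_lit 1) (nat_lit 0x1002004008001001) (nat_lit 9) (nat_lit 1) (nat_lit 0) (nat_lit 4227) (nat_lit 131) (nat_lit 0x1000009000019000029000039) (nat_lit 0x200020002000200) (.cD (nat_lit 9) (.kA false (nat_lit 0x1000f02004a00600600400c01300100400400000f01003007700604b001000005)) (.cD (nat_lit 25) (.kA false (nat_lit 0x1000f02004a00600600400c01100101f010030058006004004000004)) (.cD (nat_lit 41) (.kA false (nat_lit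 0x1f00f02004a00600200400c01900100f010030078006042002000004)) (.cD (nat_lit 57) (.kA false (nat_lit 0x1f00f02004a00600200400c01b00100f01003007700604b001000004)) .nil))))))
theorem c205 : (chk [] [] p205).n x109 s205 = true := by decide +kernel
noncomputable def p206 : Pf := (.ext (nat_lit 0) (nat_lit 0) (nat_lit 0x1080020040010014) (nat_lit 0x10008004002003005001) (nat_lit 0x4006008010) (nat_lit 0x1009003) (nat_lit 0x100a009) (nat_lit 0x16008004002007012008004002003) (.dfs (nat_lit 3) (nat_lit 0x1004006008010) (nat_lit 0x1004006008012) (nat_lit 0x1002001) (nat_lit 0x1002003) (nat_lit 2) (nat_lit 0) (nat_lit 2) (nat_lit 0) (nat_lit 0) (nat_lit 9) (nat_lit 1) (nat_lit 0) (nat_lit 1) (nat_lit 0) (nat_lit 1) (nat_lit 0x2000200020002000200020002000200) (.cD (nat_lit 9) (.kS (nat_lit 0) (nat_lit 0x400c01002800204b001000002) (nat_lit 0x1043054) (nat_lit 0x8004002009010008004006011) (nat_lit 0x4200200000400801002000100600100104b00000400c01002800900a001004)) (.cD (nat_lit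 25) (.dfs (nat_lit 9) (nat_lit 0x100800c010020) (nat_lit 0x100800c01002c) (nat_lit 0x1004002001) (nat_lit 0x100400e001) (nat_lit 12) (nat_lit 0) (nat_lit 2) (nat_lit 0) (nat_lit 0) (nat_lit 10) (nat_lit 1) (nat_lit 0) (nat_lit 1) (nat_lit 0) (nat_lit 1) (nat_lit 0x4000400040004000400040004000400) (.cD (nat_lit 10) (.kS (nat_lit 0) (nat_lit 0x10018020040002001) (nat_lit 0x101a044) (nat_lit 0x8004002009010008004006011) (nat_lit 0x1800802004000900400100801002004000200c00101001802004001301c001003)) (.cD (nat_lit 26) (.kS (nat_lit 0) (nat_lit 0x801802005000204b001000002) (nat_lit 0x100305404a) (nat_lit 0x8004002009010008004006011020010008034002031) (nat_lit 0x4200200000801002004000200c00100100104b00000801802005000201400b001004)) (.cD (nat_lit 42) (.kS (nat_lit 0) (nat_lit 0x10018020040002001) (nat_lit 0x103a044) (nat_lit 0x8004002009010008004006011) (nat_lit 0x1800802004000900400100801002004000200c00101001802004003301c001003)) (.cD (nat_lit 58) (.kS (nat_lit 0) (nat_lit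 0x801802005000204b001000002) (nat_lit 0x100305406a) (nat_lit 0x8004002009010008004006011020010008034002031) (nat_lit 0x4200200000801002004000200c00100100104b00000801802005000201402b001004)) (.cD (nat_lit 74) (.kS (nat_lit 0) (nat_lit 0x801802005000204b001000002) (nat_lit 0x100305405a) (nat_lit 0x8004002009010008004006011020010008034002031) (nat_lit 0x4200200000801002004000200c00100100104b000008018020050002014003001004)) (.cD (nat_lit 90) (.cut (nat_lit 0)) (.cD (nat_lit 106) (.kS (nat_lit 0) (nat_lit 0x801802005000204b001000002) (nat_lit 0x100305407a) (nat_lit 0x8004002009010008004006011020010008034002031) (nat_lit 0x4200200000801002004000200c00100100104b000008018020050002014023001004)) (.cD (nat_lit 122) (.iso x109 s205 (nat_lit 0) (nat_lit 0x1080040020010008004002021) (nat_lit 0x80040020010008004002021) [(nat_lit 0x40020010008004022021001001), (nat_lit 0x40020010008004002001003001), (nat_lit 0x10008004002001005001)] (.cut (nat_lit 0))) .nil))))))))) (.cD (nat_lit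 41) (.kS (nat_lit 0) (nat_lit 0x400c01002800204b001000002) (nat_lit 0x1063054) (nat_lit 0x8004002009010008004006011) (nat_lit 0x4200200000400801002000100600100104b00000400c01002801900a001004)) (.cD (nat_lit 57) (.dfs (nat_lit 9) (nat_lit 0x100800c010020) (nat_lit 0x100800c01002c) (nat_lit 0x1004002001) (nat_lit 0x100400e001) (nat_lit 12) (nat_lit 0) (nat_lit 2) (nat_lit 0) (nat_lit 0) (nat_lit 10) (nat_lit 1) (nat_lit 0) (nat_lit 1) (nat_lit 0) (nat_lit 1) (nat_lit 0x4000400040004000400040004000400) (.cD (nat_lit 10) (.kS (nat_lit 0) (nat_lit 0x801802005000204b001000002) (nat_lit 0x102305402a) (nat_lit 0x8004002009010008004006011020010008034002031) (nat_lit 0x4200200000801002004000200c00100100104b00000801802005002201403b001004)) (.cD (nat_lit 26) (.kS (nat_lit 0) (nat_lit 0x801802005000204b001000002) (nat_lit 0x102305406a) (nat_lit 0x8004002009010008004006011020010008034002031) (nat_lit 0x4200200000801002004000200c00100100104b00000801802005002201402b001004)) (.cD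 (nat_lit 42) (.kS (nat_lit 0) (nat_lit 0x801802005000204b001000002) (nat_lit 0x102305400a) (nat_lit 0x8004002009010008004006011020010008034002031) (nat_lit 0x4200200000801002004000200c00100100104b00000801802005002201401b001004)) (.cD (nat_lit 58) (.kS (nat_lit 0) (nat_lit 0x801802005000204b001000002) (nat_lit 0x102305404a) (nat_lit 0x8004002009010008004006011020010008034002031) (nat_lit 0x4200200000801002004000200c00100100104b00000801802005002201400b001004)) (.cD (nat_lit 74) (.kS (nat_lit 0) (nat_lit 0x801802005000204b001000002) (nat_lit 0x102305407a) (nat_lit 0x8004002009010008004006011020010008034002031) (nat_lit 0x4200200000801002004000200c00100100104b000008018020050022014023001004)) (.cD (nat_lit 90) (.kS (nat_lit 0) (nat_lit 0x801802005000204b001000002) (nat_lit 0x102305403a) (nat_lit 0x8004002009010008004006011020010008034002031) (nat_lit 0x4200200000801002004000200c00100100104b000008018020050022014033001004)) (.cD (nat_lit 106) (.kS (nat_lit 0) (nat_lit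 0x801802005000204b001000002) (nat_lit 0x102305405a) (nat_lit 0x8004002009010008004006011020010008034002031) (nat_lit 0x4200200000801002004000200c00100100104b000008018020050022014003001004)) (.cD (nat_lit 122) (.kS (nat_lit 0) (nat_lit 0x801802005000204b001000002) (nat_lit 0x102305401a) (nat_lit 0x8004002009010008004006011020010008034002031) (nat_lit 0x4200200000801002004000200c00100100104b000008018020050022014013001004)) .nil))))))))) (.cD (nat_lit 73) (.dfs (nat_lit 9) (nat_lit 0x100800c010020) (nat_lit 0x100800c01002c) (nat_lit 0x1004002001) (nat_lit 0x100400e001) (nat_lit 12) (nat_lit 0) (nat_lit 2) (nat_lit 0) (nat_lit 0) (nat_lit 10) (nat_lit 1) (nat_lit 0) (nat_lit 1) (nat_lit 0) (nat_lit 1) (nat_lit 0x4000400040004000400040004000400) (.cD (nat_lit 10) (.kS (nat_lit 0) (nat_lit 0x801802005000204b001000002) (nat_lit 0x101305401a) (nat_lit 0x8004002009010008004006011020010008034002031) (nat_lit 0x4200200000801002004000200c00100100104b00000801802005000a014013001004))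 (.cD (nat_lit 26) (.kS (nat_lit 0) (nat_lit 0x10018020040002001) (nat_lit 0x104a044) (nat_lit 0x8004002009010008004006011) (nat_lit 0x1800802004001100400100801002004000200c00101001802004000b01c001003)) (.cD (nat_lit 42) (.kS (nat_lit 0) (nat_lit 0x801802005000204b001000002) (nat_lit 0x101305403a) (nat_lit 0x8004002009010008004006011020010008034002031) (nat_lit 0x4200200000801002004000200c00100100104b00000801802005000a014033001004)) (.cD (nat_lit 58) (.kS (nat_lit 0) (nat_lit 0x10018020040002001) (nat_lit 0x106a044) (nat_lit 0x8004002009010008004006011) (nat_lit 0x1800802004001100400100801002004000200c00101001802004002b01c001003)) (.cD (nat_lit 74) (.iso x109 s205 (nat_lit 0) (nat_lit 0x1080040020010008004002041) (nat_lit 0x80040020010008004002041) [(nat_lit 0x40020010008004012011001001), (nat_lit 0x40020010008004002001003001), (nat_lit 0x10008004002001005001)] (.cut (nat_lit 0))) (.cD (nat_lit 90) (.kS (nat_lit 0) (nat_lit 0x801802005000204b001000002) (nat_lit 0x101305400a)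 (nat_lit 0x8004002009010008004006011020010008034002031) (nat_lit 0x4200200000801002004000200c00100100104b00000801802005000a01401b001004)) (.cD (nat_lit 106) (.iso x109 s205 (nat_lit 0) (nat_lit 0x1080040020010008004002061) (nat_lit 0x80040020010008004002061) [(nat_lit 0x40020010008004032031001001), (nat_lit 0x40020010008004002001003001), (nat_lit 0x10008004002001005001)] (.cut (nat_lit 0))) (.cD (nat_lit 122) (.kS (nat_lit 0) (nat_lit 0x801802005000204b001000002) (nat_lit 0x101305402a) (nat_lit 0x8004002009010008004006011020010008034002031) (nat_lit 0x4200200000801002004000200c00100100104b00000801802005000a01403b001004)) .nil))))))))) (.cD (nat_lit 89) (.kS (nat_lit 0) (nat_lit 0x400c01002800204b001000002) (nat_lit 0x1053054) (nat_lit 0x8004002009010008004006011) (nat_lit 0x4200200000400801002000100600100104b00000400c01002800d00a001004)) (.cD (nat_lit 105) (.dfs (nat_lit 9) (nat_lit 0x100800c010020) (nat_lit 0x100800c01002c) (nat_lit 0x1004002001) (nat_lit 0x100400e001)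 (nat_lit 12) (nat_lit 0) (nat_lit 2) (nat_lit 0) (nat_lit 0) (nat_lit 10) (nat_lit 1) (nat_lit 0) (nat_lit 1) (nat_lit 0) (nat_lit 1) (nat_lit 0x4000400040004000400040004000400) (.cD (nat_lit 10) (.kS (nat_lit 0) (nat_lit 0x801802005000204b001000002) (nat_lit 0x103305403a) (nat_lit 0x8004002009010008004006011020010008034002031) (nat_lit 0x4200200000801002004000200c00100100104b00000801802005002a014033001004)) (.cD (nat_lit 26) (.kS (nat_lit 0) (nat_lit 0x801802005000204b001000002) (nat_lit 0x103305407a) (nat_lit 0x8004002009010008004006011020010008034002031) (nat_lit 0x4200200000801002004000200c00100100104b00000801802005002a014023001004)) (.cD (nat_lit 42) (.kS (nat_lit 0) (nat_lit 0x801802005000204b001000002) (nat_lit 0x103305401a) (nat_lit 0x8004002009010008004006011020010008034002031) (nat_lit 0x4200200000801002004000200c00100100104b00000801802005002a014013001004)) (.cD (nat_lit 58) (.kS (nat_lit 0) (nat_lit 0x801802005000204b001000002) (nat_lit 0x103305405a)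 (nat_lit 0x8004002009010008004006011020010008034002031) (nat_lit 0x4200200000801002004000200c00100100104b00000801802005002a014003001004)) (.cD (nat_lit 74) (.kS (nat_lit 0) (nat_lit 0x801802005000204b001000002) (nat_lit 0x103305406a) (nat_lit 0x8004002009010008004006011020010008034002031) (nat_lit 0x4200200000801002004000200c00100100104b00000801802005002a01402b001004)) (.cD (nat_lit 90) (.kS (nat_lit 0) (nat_lit 0x801802005000204b001000002) (nat_lit 0x103305402a) (nat_lit 0x8004002009010008004006011020010008034002031) (nat_lit 0x4200200000801002004000200c00100100104b00000801802005002a01403b001004)) (.cD (nat_lit 106) (.kS (nat_lit 0) (nat_lit 0x801802005000204b001000002) (nat_lit 0x103305404a) (nat_lit 0x8004002009010008004006011020010008034002031) (nat_lit 0x4200200000801002004000200c00100100104b00000801802005002a01400b001004)) (.cD (nat_lit 122) (.kS (nat_lit 0) (nat_lit 0x801802005000204b001000002) (nat_lit 0x103305400a) (nat_lit 0x8004002009010008004006011020010008034002031)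 (nat_lit 0x4200200000801002004000200c00100100104b00000801802005002a01401b001004)) .nil))))))))) (.cD (nat_lit 121) (.kS (nat_lit 0) (nat_lit 0x400c01002800204b001000002) (nat_lit 0x1073054) (nat_lit 0x8004002009010008004006011) (nat_lit 0x4200200000400801002000100600100104b00000400c01002801d00a001004)) .nil))))))))))
theorem c206 : (chk [(x109, s205)] [g56] p206).n x109 s206 = true := by decide +kernel
noncomputable def p207 : Pf := (.ext (nat_lit 0) (nat_lit 0x1f010030068002001) (nat_lit 0x1080020040010) (nat_lit 0x6803001f00f002010008004002003002) (nat_lit 0x2003004008) (nat_lit 0x1009004) (nat_lit 0x1002016) (nat_lit 0xb00400200100c004002001) (.dfs (nat_lit 4) (nat_lit 0x1001002004008) (nat_lit 0x100100200400c) (nat_lit 1) (nat_lit 1) (nat_lit 0) (nat_lit 0) (nat_lit 2) (nat_lit 0) (nat_lit 0x1002004008001001) (nat_lit 22) (nat_lit 1) (nat_lit 0) (nat_lit 4226) (nat_lit 130) (nat_lit 0x100001600001e00005600005e) (nat_lit 0x404000000000000040400000) (.cD (nat_lit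 22) (.dfs (nat_lit 9) (nat_lit 0x1002004008010) (nat_lit 0x1002004008016) (nat_lit 4097) (nat_lit 4103) (nat_lit 6) (nat_lit 0) (nat_lit 2) (nat_lit 0) (nat_lit 0x2004008010001001) (nat_lit 2) (nat_lit 1) (nat_lit 0) (nat_lit 1) (nat_lit 0) (nat_lit 1) (nat_lit 0) .nil) (.cD (nat_lit 30) (.kS (nat_lit 0) (nat_lit 0x2004008010005001) (nat_lit 4116) (nat_lit 0x8004002003) (nat_lit 0xf01f030068016003002004008010001001002004008010001006003)) (.cD (nat_lit 86) (.kS (nat_lit 0) (nat_lit 0x2004008010005001) (nat_lit 4116) (nat_lit 0x8004002003) (nat_lit 0xf01f030068009003002004008010001001002004008010001006003)) (.cD (nat_lit 94) (.kS (nat_lit 0) (nat_lit 0x2004008010005001) (nat_lit 4116) (nat_lit 0x8004002003) (nat_lit 0xf01f030068006003002004008010001001002004008010001006003)) .nil))))))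
theorem c207 : (chk [] [] p207).n x110 s207 = true := by decide +kernel
noncomputable def p208 : Pf := (.ext (nat_lit 0) (nat_lit 0x1f010030068002001) (nat_lit 0x1080020040010) (nat_lit 0x6803001f00f002010008004002003002) (nat_lit 0x2003004008) (nat_lit 0x1009004) (nat_lit 0x1002016) (nat_lit 0xb00400200100c004002001) (.dfs (nat_lit 4) (nat_lit 0x1001002004008) (nat_lit 0x100100200400c) (nat_lit 1) (nat_lit 1) (nat_lit 0) (nat_lit 0) (nat_lit 2) (nat_lit 0) (nat_lit 0x1002004008001001) (nat_lit 22) (nat_lit 1) (nat_lit 0) (nat_lit 4226) (nat_lit 130) (nat_lit 0x100001600001e00005600005e) (nat_lit 0x404000000000000040400000) (.cD (nat_lit 22) (.dfs (nat_lit 9) (nat_lit 0x1002004008010) (nat_lit 0x1002004008016) (nat_lit 4097) (nat_lit 4103) (nat_lit 14) (nat_lit 0) (nat_lit 2) (nat_lit 0) (nat_lit 0x2004008010001001) (nat_lit 2) (nat_lit 1) (nat_lit 0) (nat_lit 1) (nat_lit 0) (nat_lit 1) (nat_lit 0) .nil) (.cD (nat_lit 30) (.kS (nat_lit 0) (nat_lit 0x2004008010005001)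 (nat_lit 4116) (nat_lit 0x8004002003) (nat_lit 0xf01f030068016003002004008010001001002004008010001006003)) (.cD (nat_lit 86) (.kS (nat_lit 0) (nat_lit 0x2004008010005001) (nat_lit 4116) (nat_lit 0x8004002003) (nat_lit 0xf01f030068009003002004008010001001002004008010001006003)) (.cD (nat_lit 94) (.kS (nat_lit 0) (nat_lit 0x2004008010005001) (nat_lit 4116) (nat_lit 0x8004002003) (nat_lit 0xf01f030068006003002004008010001001002004008010001006003)) .nil))))))
theorem c208 : (chk [] [] p208).n x111 s208 = true := by decide +kernel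

end Cfsg.Lib.D8.T0O
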