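import Cfsg.Agent.Lib.D8.T.T0OG0

/-! Certificates (generated, helper29). -/

set_option maxRecDepth 100000
set_option Elab.async false

namespace Cfsg.Lib.D8.T0O

universe u

noncomputable def p209 : Pf := (.ext (nat_lit 0) (nat_lit 0x1f010030068002001) (nat_lit 0x1080020040010) (nat_lit 0x6803001f00f002010008004002003002) (nat_lit 0x2003004008) (nat_lit 0x1009004) (nat_lit 0x1002016) (nat_lit 0xb00400200100c004002001) (.dfs (nat_lit 4) (nat_lit 0x1001002004008) (nat_lit 0x100100200400c) (nat_lit 1) (nat_lit 1) (nat_lit 0) (nat_lit 0) (nat_lit 2) (nat_lit 0) (nat_lit 0x1002004008001001) (nat_lit 22) (nat_lit 1) (nat_lit 0) (nat_lit 4226) (nat_lit 130) (nat_lit 0x100001600001e00005600005e) (nat_lit 0x404000000000000040400000) (.cD (nat_lit 22) (.dfs (nat_lit 9) (nat_lit 0x1002004008010) (nat_lit 0x1002004008016) (nat_lit 4097) (nat_lit 4103) (nat_lit 14) (nat_lit 0) (nat_lit 2) (nat_lit 0) (nat_lit 0x2004008010001001) (nat_lit 2) (nat_lit 1) (nat_lit 0) (nat_lit 1)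 (nat_lit 0) (nat_lit 1) (nat_lit 0) .nil) (.cD (nat_lit 30) (.kS (nat_lit 0) (nat_lit 0x2004008010005001) (nat_lit 4116) (nat_lit 0x8004002003) (nat_lit 0xf01f030068016003002004008010001001002004008010001006003)) (.cD (nat_lit 86) (.kS (nat_lit 0) (nat_lit 0x2004008010005001) (nat_lit 4116) (nat_lit 0x8004002003) (nat_lit 0xf01f030068009003002004008010001001002004008010001006003)) (.cD (nat_lit 94) (.kS (nat_lit 0) (nat_lit 0x2004008010005001) (nat_lit 4116) (nat_lit 0x8004002003) (nat_lit 0xf01f030068006003002004008010001001002004008010001006003)) .nil))))))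
theorem c209 : (chk [] [] p209).n x112 s209 = true := by decide +kernel
noncomputable def p210 : Pf := (.ext (nat_lit 0) (nat_lit 0x1f010030068002001) (nat_lit 0x1080020040010) (nat_lit 0x6803001f00f002010008004002003002) (nat_lit 0x2003004008) (nat_lit 0x1009004) (nat_lit 0x1002016) (nat_lit 0xb00400200100c004002001) (.dfs (nat_lit 4) (nat_lit 0x1001002004008) (nat_lit 0x100100200400c) (nat_lit 1) (nat_lit 1) (nat_lit 0) (nat_lit 0) (nat_lit 2) (nat_lit 0) (nat_lit 0x1002004008001001) (nat_lit 22) (nat_lit 1) (nat_lit 0) (nat_lit 4226) (nat_lit 130) (nat_lit 0x100001600001e00005600005e) (nat_lit 0x404000000000000040400000) (.cD (nat_lit 22) (.dfs (nat_lit 9) (nat_lit 0x1002004008010) (nat_lit 0x1002004008016) (nat_lit 4097) (nat_lit 4103) (nat_lit 2) (nat_lit 0) (nat_lit 2) (nat_lit 0) (nat_lit 0x2004008010001001) (nat_lit 2) (nat_lit 1) (nat_lit 0) (nat_lit 1) (nat_lit 0) (nat_lit 1) (nat_lit 0) .nil) (.cD (nat_lit 30) (.kS (nat_lit 0) (nat_lit 0x2004008010005001)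 (nat_lit 4116) (nat_lit 0x8004002003) (nat_lit 0xf01f030068016003002004008010001001002004008010001006003)) (.cD (nat_lit 86) (.kS (nat_lit 0) (nat_lit 0x2004008010005001) (nat_lit 4116) (nat_lit 0x8004002003) (nat_lit 0xf01f030068009003002004008010001001002004008010001006003)) (.cD (nat_lit 94) (.kS (nat_lit 0) (nat_lit 0x2004008010005001) (nat_lit 4116) (nat_lit 0x8004002003) (nat_lit 0xf01f030068006003002004008010001001002004008010001006003)) .nil))))))
theorem c210 : (chk [] [] p210).n x113 s210 = true := by decide +kernel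
noncomputable def p211 : Pf := (.ext (nat_lit 0) (nat_lit 0x1f010030068002001) (nat_lit 0x1080020040010) (nat_lit 0x6803001f00f002010008004002003002) (nat_lit 0x2003004008) (nat_lit 0x1009004) (nat_lit 0x1002016) (nat_lit 0xb00400200100c004002001) (.dfs (nat_lit 4) (nat_lit 0x1001002004008) (nat_lit 0x100100200400c) (nat_lit 1) (nat_lit 1) (nat_lit 0) (nat_lit 0) (nat_lit 2) (nat_lit 0) (nat_lit 0x1002004008001001) (nat_lit 22) (nat_lit 1) (nat_lit 0) (nat_lit 4226) (nat_lit 130) (nat_lit 0x100001600001e00005600005e) (nat_lit 0x404000000000000040400000) (.cD (nat_lit 22) (.dfs (nat_lit 9) (nat_lit 0x1002004008010) (nat_lit 0x1002004008016) (nat_lit 4097) (nat_lit 4103) (nat_lit 2) (nat_lit 0) (nat_lit 2) (nat_lit 0) (nat_lit 0x2004008010001001) (nat_lit 2) (nat_lit 1) (nat_lit 0) (nat_lit 1) (nat_lit 0) (nat_lit 1) (nat_lit 0) .nil) (.cD (nat_lit 30) (.kS (nat_lit 0) (nat_lit 0x2004008010005001) (nat_lit 4116) (nat_lit 0x8004002003) (nat_lit 0xf01f030068016003002004008010001001002004008010001006003))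 (.cD (nat_lit 86) (.kS (nat_lit 0) (nat_lit 0x2004008010005001) (nat_lit 4116) (nat_lit 0x8004002003) (nat_lit 0xf01f030068009003002004008010001001002004008010001006003)) (.cD (nat_lit 94) (.kS (nat_lit 0) (nat_lit 0x2004008010005001) (nat_lit 4116) (nat_lit 0x8004002003) (nat_lit 0xf01f030068006003002004008010001001002004008010001006003)) .nil))))))
theorem c211 : (chk [] [] p211).n x114 s211 = true := by decide +kernel
noncomputable def p212 : Pf := (.ext (nat_lit 0) (nat_lit 0x1f010030068002001) (nat_lit 0x1080020040010) (nat_lit 0x6803001f00f002010008004002003002) (nat_lit 0x2003004008) (nat_lit 0x1009004) (nat_lit 0x1002016) (nat_lit 0xb00400200100c004002001) (.dfs (nat_lit 4) (nat_lit 0x1001002004008) (nat_lit 0x100100200400c) (nat_lit 1) (nat_lit 1) (nat_lit 0) (nat_lit 0) (nat_lit 2) (nat_lit 0) (nat_lit 0x1002004008001001) (nat_lit 22) (nat_lit 1) (nat_lit 0) (nat_lit 4226) (nat_lit 130) (nat_lit 0x100001600001e00005600005e) (nat_lit 0x404000000000000040400000)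 (.cD (nat_lit 22) (.dfs (nat_lit 9) (nat_lit 0x1002004008010) (nat_lit 0x1002004008016) (nat_lit 4097) (nat_lit 4103) (nat_lit 10) (nat_lit 0) (nat_lit 2) (nat_lit 0) (nat_lit 0x2004008010001001) (nat_lit 2) (nat_lit 1) (nat_lit 0) (nat_lit 1) (nat_lit 0) (nat_lit 1) (nat_lit 0) .nil) (.cD (nat_lit 30) (.kS (nat_lit 0) (nat_lit 0x2004008010005001) (nat_lit 4116) (nat_lit 0x8004002003) (nat_lit 0xf01f030068016003002004008010001001002004008010001006003)) (.cD (nat_lit 86) (.kS (nat_lit 0) (nat_lit 0x2004008010005001) (nat_lit 4116) (nat_lit 0x8004002003) (nat_lit 0xf01f030068009003002004008010001001002004008010001006003)) (.cD (nat_lit 94) (.kS (nat_lit 0) (nat_lit 0x2004008010005001) (nat_lit 4116) (nat_lit 0x8004002003) (nat_lit 0xf01f030068006003002004008010001001002004008010001006003)) .nil))))))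
theorem c212 : (chk [] [] p212).n x115 s212 = true := by decide +kernel
noncomputable def p213 : Pf := (.ext (nat_lit 0) (nat_lit 0x1f010030068002001) (nat_lit 0x1080020040010) (nat_lit 0x6803001f00f002010008004002003002) (nat_lit 0x2003004008) (nat_lit 0x1009004) (nat_lit 0x1002016) (nat_lit 0xb00400200100c004002001) (.dfs (nat_lit 4) (nat_lit 0x1001002004008) (nat_lit 0x100100200400c) (nat_lit 1) (nat_lit 1) (nat_lit 0) (nat_lit 0) (nat_lit 2) (nat_lit 0) (nat_lit 0x1002004008001001) (nat_lit 22) (nat_lit 1) (nat_lit 0) (nat_lit 4226) (nat_lit 130) (nat_lit 0x100001600001e00005600005e) (nat_lit 0x404000000000000040400000) (.cD (nat_lit 22) (.dfs (nat_lit 9) (nat_lit 0x1002004008010) (nat_lit 0x1002004008016) (nat_lit 4097) (nat_lit 4103) (nat_lit 10) (nat_lit 0) (nat_lit 2) (nat_lit 0) (nat_lit 0x2004008010001001) (nat_lit 2) (nat_lit 1) (nat_lit 0) (nat_lit 1) (nat_lit 0) (nat_lit 1) (nat_lit 0) .nil) (.cD (nat_lit 30) (.kS (nat_lit 0) (nat_lit 0x2004008010005001)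 (nat_lit 4116) (nat_lit 0x8004002003) (nat_lit 0xf01f030068016003002004008010001001002004008010001006003)) (.cD (nat_lit 86) (.kS (nat_lit 0) (nat_lit 0x2004008010005001) (nat_lit 4116) (nat_lit 0x8004002003) (nat_lit 0xf01f030068009003002004008010001001002004008010001006003)) (.cD (nat_lit 94) (.kS (nat_lit 0) (nat_lit 0x2004008010005001) (nat_lit 4116) (nat_lit 0x8004002003) (nat_lit 0xf01f030068006003002004008010001001002004008010001006003)) .nil))))))
theorem c213 : (chk [] [] p213).n x116 s213 = true := by decide +kernel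
noncomputable def p214 : Pf := (.lft (nat_lit 0x40010020008001004002003001) (nat_lit 5) (nat_lit 0x1070060050040) (nat_lit 0x40020010008004002021) (.extn a20 (nat_lit 0x40020010008004002001) (nat_lit 0x1008020010040) (nat_lit 2) (nat_lit 0) (nat_lit 0) (nat_lit 5) (nat_lit 0x20002000200020) (.cE (nat_lit 5) b56 (nat_lit 0) (.cut (nat_lit 0)) (.cut (nat_lit 1)) (.cE (nat_lit 21) b57 (nat_lit 0) (.cut (nat_lit 2)) (.cut (nat_lit 3)) (.cE (nat_lit 37) b58 (nat_lit 0) (.cut (nat_lit 4)) (.cut (nat_lit 5)) (.cE (nat_lit 53) b59 (nat_lit 0) (.cut (nat_lit 6)) (.cut (nat_lit 7)) .nil))))))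
theorem c214 : (chk [(x109, s206), (x110, s207), (x111, s208), (x112, s209), (x113, s210), (x114, s211), (x115, s212), (x116, s213)] [] p214).n x108 s214 = true := by decide +kernel
noncomputable def p215 : Pf := (.ext (nat_lit 1) (nat_lit 0) (nat_lit 0x104803002002902e) (nat_lit 0x1c00800600400500300200200001000800600400100404003001000100e002004) (nat_lit 0x200400801a) (nat_lit 0x1002001) (nat_lit 0x100a009) (nat_lit 0x1c008004002005010008004006005) (.dfs (nat_lit 1) (nat_lit 0x100200400801a) (nat_lit 0x100600400801e) (nat_lit 0x1010001) (nat_lit 0x1010005) (nat_lit 4) (nat_lit 0) (nat_lit 2) (nat_lit 1) (nat_lit 0) (nat_lit 9) (nat_lit 1) (nat_lit 0) (nat_lit 4100) (nat_lit 4) (nat_lit 0x100000d00001d) (nat_lit 0x20002000) (.cD (nat_lit 13) (.dfs (nat_lit 2) (nat_lit 0x1004008010034) (nat_lit 0x100400801002c) (nat_lit 0x1020002001) (nat_lit 0x103800a001) (nat_lit 0) (nat_lit 0) (nat_lit 2) (nat_lit 1) (nat_lit 0) (nat_lit 10) (nat_lit 1) (nat_lit 0) (nat_lit 1)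 (nat_lit 0) (nat_lit 1) (nat_lit 0x4000400040004000) (.cD (nat_lit 14) (.cut (nat_lit 1)) (.cD (nat_lit 30) (.kA false (nat_lit 0x1f01003006800101801003006d00101a01003005a001021001000004)) (.cD (nat_lit 46) (.kS (nat_lit 0) (nat_lit 0xf010030058002002002000002) (nat_lit 0x100c00f) (nat_lit 0xc004002005010008004006001) (nat_lit 0x801003007d01700400100a01003004a00200100100200200000f010030058015016001004)) (.cD (nat_lit 62) (.kA false (nat_lit 0xf01003006800100801003007d00100a01003004a001003)) .nil))))) (.cD (nat_lit 29) (.dfs (nat_lit 2) (nat_lit 0x1004008010034) (nat_lit 0x100400801002c) (nat_lit 0x1020002001) (nat_lit 0x103800a001) (nat_lit 0) (nat_lit 0) (nat_lit 2) (nat_lit 1) (nat_lit 0) (nat_lit 10) (nat_lit 1) (nat_lit 0) (nat_lit 1) (nat_lit 0) (nat_lit 1) (nat_lit 0x4000400040004000) (.cD (nat_lit 14) (.cut (nat_lit 0)) (.cD (nat_lit 30) (.kA false (nat_lit 0x3f01003006800103801003006d00100200200000a01003004a001004)) (.cD (nat_lit 46) (.kS (nat_lit 0) (nat_lit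 0x3f010030068002001) (nat_lit 0x100c01f) (nat_lit 0xc004002005010008004006001) (nat_lit 0x3801003004d02700400100a01003004a00200100103f010030068015026001003)) (.cD (nat_lit 62) (.kA false (nat_lit 0x3f01003006800103801003007d00100a01003007a001002002000004)) .nil))))) .nil))))
theorem c215 : (chk [(x108, s204), (x108, s214)] [] p215).n x108 s215 = true := by decide +kernel
noncomputable def p216 : Pf := (.ext (nat_lit 0) (nat_lit 0) (nat_lit 0x1040010020008002) (nat_lit 0x14008006002007003021001000010008004002001003003) (nat_lit 0x6004008016) (nat_lit 0x1004001) (nat_lit 0x1001004) (nat_lit 0x10008004006005014008004006001) (.dfs (nat_lit 1) (nat_lit 0x1006004008016) (nat_lit 0x1002004008016) (nat_lit 0x1010002001) (nat_lit 0x1014006001) (nat_lit 4) (nat_lit 0) (nat_lit 2) (nat_lit 0) (nat_lit 0) (nat_lit 4) (nat_lit 1) (nat_lit 0) (nat_lit 4104) (nat_lit 8) (nat_lit 0x100000c00001c) (nat_lit 0x10001000) (.cD (nat_lit 12) (.dfs (nat_lit 4) (nat_lit 0x100c00801002c) (nat_lit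 0x1004008010024) (nat_lit 0x1020004002001) (nat_lit 0x102000c00a001) (nat_lit 0) (nat_lit 0) (nat_lit 2) (nat_lit 0) (nat_lit 0) (nat_lit 1) (nat_lit 1) (nat_lit 0) (nat_lit 1) (nat_lit 0) (nat_lit 1) (nat_lit 0x200020002000200) (.cD (nat_lit 9) (.kS (nat_lit 1) (nat_lit 0xa01a03007200200200400801c003002002000001010030040001004) (nat_lit 4135) (nat_lit 0x8004002003) (nat_lit 0x200200000200600801600300400a01003004801700100200200000200400801c00500400a01a030072007001006)) (.cD (nat_lit 25) (.kA true (nat_lit 0xe004008010003001010030040001002)) (.cD (nat_lit 41) (.cut (nat_lit 0)) (.cD (nat_lit 57) (.kA true (nat_lit 0xa004008010003001010030040001002)) .nil))))) (.cD (nat_lit 28) (.kA true (nat_lit 0xa00400801000301d008018024002021001000003)) .nil))))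
theorem c216 : (chk [(x108, s215)] [] p216).n x108 s216 = true := by decide +kernel
noncomputable def p217 : Pf := (.ext (nat_lit 1) (nat_lit 0) (nat_lit 0x1048030020009) (nat_lit 0x10008004002003010006002009001002) (nat_lit 0x2003004008) (nat_lit 4103) (nat_lit 4107) (nat_lit 0xc004002001) (.dfs (nat_lit 7) (nat_lit 0x1002003004008) (nat_lit 0x100200300400c) (nat_lit 4097) (nat_lit 4097) (nat_lit 0) (nat_lit 0) (nat_lit 2) (nat_lit 1) (nat_lit 0) (nat_lit 11) (nat_lit 1) (nat_lit 0) (nat_lit 4160) (nat_lit 64) (nat_lit 0x100000b00000f00001b00001f) (nat_lit 0x88008800) (.cD (nat_lit 11) (.cut (nat_lit 1)) (.cD (nat_lit 15) (.kS (nat_lit 1) (nat_lit 0x2004008010005001) (nat_lit 4155) (nat_lit 0x8004002003) (nat_lit 0x8008000004002008010001001021001000004006008010001002002004008010007006005)) (.cD (nat_lit 27) (.kS (nat_lit 1) (nat_lit 0x2004008010005001) (nat_lit 4111) (nat_lit 0x8004002003) (nat_lit 0x800800000400200801000100102100100000400600801000100200200400801000d006005))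 (.cD (nat_lit 31) (.cut (nat_lit 0)) .nil))))))
theorem c217 : (chk [(x108, s195), (x108, s216)] [] p217).n x108 s217 = true := by decide +kernel
noncomputable def p218 : Pf := (.anc (nat_lit 72) (nat_lit 0x21001000014006002) (nat_lit 0x1001020010008) (.czp (nat_lit 64) (nat_lit 0) (nat_lit 0x1040020010008004) z6 (.dfs (nat_lit 8) (nat_lit 4097) (nat_lit 4097) (nat_lit 1) (nat_lit 1) (nat_lit 0) (nat_lit 0) (nat_lit 3) (nat_lit 0) (nat_lit 0) (nat_lit 0) (nat_lit 1) (nat_lit 0) (nat_lit 0x1008004) (nat_lit 32772) (nat_lit 0x1001004000008001014000018) (nat_lit 0x1000101110110) (.cD (nat_lit 4) (.dfs (nat_lit 16) (nat_lit 4098) (nat_lit 4098) (nat_lit 4097) (nat_lit 4097) (nat_lit 0) (nat_lit 0) (nat_lit 3) (nat_lit 0) (nat_lit 0) (nat_lit 0) (nat_lit 1) (nat_lit 0) (nat_lit 1) (nat_lit 0) (nat_lit 1) (nat_lit 0x11001100110010) (.cD (nat_lit 4) (.kc (nat_lit 24) (nat_lit 0x3001001)) (.cD (nat_lit 16) (.dfs (nat_lit 32) (nat_lit 4100) (nat_lit 4100) (nat_lit 0x1002001)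 (nat_lit 0x1002001) (nat_lit 0) (nat_lit 0) (nat_lit 3) (nat_lit 0) (nat_lit 0) (nat_lit 0) (nat_lit 1) (nat_lit 0) (nat_lit 1) (nat_lit 0) (nat_lit 1) (nat_lit 0x11001100110010) (.cD (nat_lit 4) (.kc (nat_lit 40) (nat_lit 0x5001001)) (.cD (nat_lit 16) (.kc (nat_lit 48) (nat_lit 0x3001001)) (.cD (nat_lit 20) (.kc (nat_lit 56) (nat_lit 0x7001001)) (.cD (nat_lit 32) (.kA false (nat_lit 0x1004002008001006004008014007021001000003)) (.cD (nat_lit 36) (.kA false (nat_lit 0x2100100000500100200d001021001000003)) (.cD (nat_lit 48) (.kA false (nat_lit 0xe00800c01000600500100200d001021001000003)) (.cD (nat_lit 52) (.kA false (nat_lit 0x1004002008001006004008014007021001000003)) .nil)))))))) (.cD (nat_lit 20) (.dfs (nat_lit 32) (nat_lit 4100) (nat_lit 4100) (nat_lit 0x1002001) (nat_lit 0x1002001) (nat_lit 0) (nat_lit 0) (nat_lit 3) (nat_lit 0) (nat_lit 0) (nat_lit 0) (nat_lit 1) (nat_lit 0) (nat_lit 1) (nat_lit 0) (nat_lit 1) (nat_lit 0x11001100110010) (.cD (nat_lit 4) (.kc (nat_lit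 40) (nat_lit 0x5001001)) (.cD (nat_lit 16) (.kc (nat_lit 56) (nat_lit 0x7001001)) (.cD (nat_lit 20) (.kc (nat_lit 48) (nat_lit 0x3001001)) (.cD (nat_lit 32) (.kA false (nat_lit 0x1004002008001006004008014007021001000003)) (.cD (nat_lit 36) (.kA false (nat_lit 0x2100100000500100200d001021001000003)) (.cD (nat_lit 48) (.kA false (nat_lit 0xe00800a01000600500100200d001021001000003)) (.cD (nat_lit 52) (.kA false (nat_lit 0x1004002008001006004008014007021001000003)) .nil)))))))) (.cD (nat_lit 32) (.kF (nat_lit 16) (nat_lit 0x4010006002002000001006001003)) (.cD (nat_lit 36) (.kF (nat_lit 16) (nat_lit 0x21001000001007001002002000003)) (.cD (nat_lit 48) (.dfs (nat_lit 32) (nat_lit 4100) (nat_lit 4100) (nat_lit 0x1002001) (nat_lit 0x1002001) (nat_lit 0) (nat_lit 0) (nat_lit 3) (nat_lit 0) (nat_lit 0) (nat_lit 0) (nat_lit 1) (nat_lit 0) (nat_lit 1) (nat_lit 0) (nat_lit 1) (nat_lit 0x11001100110010) (.cD (nat_lit 4) (.kc (nat_lit 40) (nat_lit 0x5001001)) (.cD (nat_lit 16) (.kA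 false (nat_lit 0xe00c00801e00500500100200d001021001000003)) (.cD (nat_lit 20) (.kA false (nat_lit 0x200200000500100200d001021001000003)) (.cD (nat_lit 32) (.kA false (nat_lit 0x1004002008001006004008014007021001000003)) (.cD (nat_lit 36) (.kA false (nat_lit 0x2100100000500100200d001021001000003)) (.cD (nat_lit 48) (.kc (nat_lit 48) (nat_lit 0x3001001)) (.cD (nat_lit 52) (.kc (nat_lit 56) (nat_lit 0x7001001)) .nil)))))))) (.cD (nat_lit 52) (.dfs (nat_lit 32) (nat_lit 4100) (nat_lit 4100) (nat_lit 0x1002001) (nat_lit 0x1002001) (nat_lit 0) (nat_lit 0) (nat_lit 3) (nat_lit 0) (nat_lit 0) (nat_lit 0) (nat_lit 1) (nat_lit 0) (nat_lit 1) (nat_lit 0) (nat_lit 1) (nat_lit 0x11001100110010) (.cD (nat_lit 4) (.kc (nat_lit 40) (nat_lit 0x5001001)) (.cD (nat_lit 16) (.kA false (nat_lit 0xe00c00a01e00500500100200d001021001000003)) (.cD (nat_lit 20) (.kA false (nat_lit 0x200200000500100200d001021001000003)) (.cD (nat_lit 32) (.kA false (nat_lit 0x1004002008001006004008014007021001000003))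 (.cD (nat_lit 36) (.kA false (nat_lit 0x2100100000500100200d001021001000003)) (.cD (nat_lit 48) (.kc (nat_lit 56) (nat_lit 0x7001001)) (.cD (nat_lit 52) (.kc (nat_lit 48) (nat_lit 0x3001001)) .nil)))))))) .nil)))))))) (.cD (nat_lit 8) (.dfs (nat_lit 16) (nat_lit 4098) (nat_lit 4098) (nat_lit 4097) (nat_lit 4097) (nat_lit 0) (nat_lit 0) (nat_lit 3) (nat_lit 0) (nat_lit 0) (nat_lit 0) (nat_lit 1) (nat_lit 0) (nat_lit 1) (nat_lit 0) (nat_lit 1) (nat_lit 0x101010101010100) (.cD (nat_lit 8) (.kc (nat_lit 24) (nat_lit 0x3001001)) (.cD (nat_lit 16) (.dfs (nat_lit 32) (nat_lit 4100) (nat_lit 4100) (nat_lit 0x1002001) (nat_lit 0x1002001) (nat_lit 0) (nat_lit 0) (nat_lit 3) (nat_lit 0) (nat_lit 0) (nat_lit 0) (nat_lit 1) (nat_lit 0) (nat_lit 1) (nat_lit 0) (nat_lit 1) (nat_lit 0x101010101010100) (.cD (nat_lit 8) (.kc (nat_lit 40) (nat_lit 0x5001001)) (.cD (nat_lit 16) (.kc (nat_lit 48) (nat_lit 0x3001001)) (.cD (nat_lit 24) (.kc (nat_lit 56) (nat_lit 0x7001001)) (.cD (nat_lit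 32) (.dfs (nat_lit 1) (nat_lit 0x1004001002008) (nat_lit 0x1005001002008) (nat_lit 1) (nat_lit 1) (nat_lit 1) (nat_lit 0) (nat_lit 2) (nat_lit 0) (nat_lit 0) (nat_lit 4) (nat_lit 1) (nat_lit 0) (nat_lit 4104) (nat_lit 8) (nat_lit 0x100000c00001c) (nat_lit 0x10001000) (.cD (nat_lit 12) (.iso x108 s217 (nat_lit 0) (nat_lit 0x1040020010008004002001) (nat_lit 0x40020010008004002001) [(nat_lit 0x10008004002001001001), (nat_lit 0x10008004002001003001), (nat_lit 0x10008004002001007001)] (.cut (nat_lit 0))) (.cD (nat_lit 28) (.iso x108 s217 (nat_lit 0) (nat_lit 0x1040020010008004012011) (nat_lit 0x40020010008004012011) [(nat_lit 0x10008004002005001001), (nat_lit 0x10008004002001003001), (nat_lit 0x10008004002009007001)] (.cut (nat_lit 0))) .nil))) (.cD (nat_lit 40) (.dfs (nat_lit 1) (nat_lit 4101) (nat_lit 4100) (nat_lit 1) (nat_lit 1) (nat_lit 1) (nat_lit 0) (nat_lit 1) (nat_lit 4128) (nat_lit 0x40020010008004002021) (nat_lit 0) (nat_lit 1) (nat_lit 0) (nat_lit 1) (nat_lit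 0) (nat_lit 1) (nat_lit 0) .nil) (.cD (nat_lit 48) (.kA false (nat_lit 0x1004002008001006004008014007021001000003)) (.cD (nat_lit 56) (.kA false (nat_lit 0x1004002008001006004008014007021001000003)) .nil)))))))) (.cD (nat_lit 24) (.dfs (nat_lit 32) (nat_lit 4100) (nat_lit 4100) (nat_lit 0x1002001) (nat_lit 0x1002001) (nat_lit 0) (nat_lit 0) (nat_lit 3) (nat_lit 0) (nat_lit 0) (nat_lit 0) (nat_lit 1) (nat_lit 0) (nat_lit 1) (nat_lit 0) (nat_lit 1) (nat_lit 0x101010101010100) (.cD (nat_lit 8) (.kc (nat_lit 40) (nat_lit 0x5001001)) (.cD (nat_lit 16) (.kc (nat_lit 56) (nat_lit 0x7001001)) (.cD (nat_lit 24) (.kc (nat_lit 48) (nat_lit 0x3001001)) (.cD (nat_lit 32) (.kA false (nat_lit 0x1004002008001006004008014007021001000003)) (.cD (nat_lit 40) (.kA false (nat_lit 0x2100100000500100200d001021001000003)) (.cD (nat_lit 48) (.kA false (nat_lit 0x1004002008001006004008014007021001000003)) (.cD (nat_lit 56) (.kA false (nat_lit 0x1004002008001006004008014007021001000003)) .nil))))))))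 (.cD (nat_lit 32) (.kF (nat_lit 8) (nat_lit 0x3006002021001000002006001003)) (.cD (nat_lit 40) (.kF (nat_lit 16) (nat_lit 0x21001000001007001002002000003)) (.cD (nat_lit 48) (.dfs (nat_lit 32) (nat_lit 4100) (nat_lit 4100) (nat_lit 0x1002001) (nat_lit 0x1002001) (nat_lit 0) (nat_lit 0) (nat_lit 3) (nat_lit 0) (nat_lit 0) (nat_lit 0) (nat_lit 1) (nat_lit 0) (nat_lit 1) (nat_lit 0) (nat_lit 1) (nat_lit 0x101010101010100) (.cD (nat_lit 8) (.kc (nat_lit 40) (nat_lit 0x5001001)) (.cD (nat_lit 16) (.kA false (nat_lit 0x400200300800100400100200c001002)) (.cD (nat_lit 24) (.kA false (nat_lit 0x400600300800100400100200c001002)) (.cD (nat_lit 32) (.kA false (nat_lit 0x1004002008001006004008014007021001000003)) (.cD (nat_lit 40) (.kA false (nat_lit 0x400500300800100400100200c001002)) (.cD (nat_lit 48) (.kc (nat_lit 48) (nat_lit 0x3001001)) (.cD (nat_lit 56) (.kc (nat_lit 56) (nat_lit 0x7001001)) .nil)))))))) (.cD (nat_lit 56) (.dfs (nat_lit 32) (nat_lit 4100) (nat_lit 4100)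 (nat_lit 0x1002001) (nat_lit 0x1002001) (nat_lit 0) (nat_lit 0) (nat_lit 3) (nat_lit 0) (nat_lit 0) (nat_lit 0) (nat_lit 1) (nat_lit 0) (nat_lit 1) (nat_lit 0) (nat_lit 1) (nat_lit 0x101010101010100) (.cD (nat_lit 8) (.kc (nat_lit 40) (nat_lit 0x5001001)) (.cD (nat_lit 16) (.kA false (nat_lit 0x400200700800100400100200c001002)) (.cD (nat_lit 24) (.kA false (nat_lit 0x400600700800100400100200c001002)) (.cD (nat_lit 32) (.kA false (nat_lit 0x1004002008001006004008014007021001000003)) (.cD (nat_lit 40) (.kA false (nat_lit 0x400500700800100400100200c001002)) (.cD (nat_lit 48) (.kc (nat_lit 56) (nat_lit 0x7001001)) (.cD (nat_lit 56) (.kc (nat_lit 48) (nat_lit 0x3001001)) .nil)))))))) .nil)))))))) (.cD (nat_lit 16) (.kF (nat_lit 8) (nat_lit 0x2002000001003001002)) (.cD (nat_lit 20) (.kF (nat_lit 8) (nat_lit 0xe01e005001003001002)) (.cD (nat_lit 24) (.kF (nat_lit 8) (nat_lit 0x2100100000c014008002002000001003001004)) (.cD (nat_lit 32) (.dfs (nat_lit 16) (nat_lit 4098) (nat_lit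 4098) (nat_lit 4097) (nat_lit 4097) (nat_lit 0) (nat_lit 0) (nat_lit 3) (nat_lit 0) (nat_lit 0) (nat_lit 0) (nat_lit 1) (nat_lit 0) (nat_lit 0x1008004) (nat_lit 32772) (nat_lit 0x1001004000008001014000018) (nat_lit 0x1000101110110) (.cD (nat_lit 4) (.kF (nat_lit 16) (nat_lit 0x21001000001006001002)) (.cD (nat_lit 8) (.kF (nat_lit 16) (nat_lit 0x21001000001006001002)) (.cD (nat_lit 16) (.dfs (nat_lit 32) (nat_lit 4100) (nat_lit 4100) (nat_lit 0x1002001) (nat_lit 0x1002001) (nat_lit 0) (nat_lit 0) (nat_lit 3) (nat_lit 0) (nat_lit 0) (nat_lit 0) (nat_lit 1) (nat_lit 0) (nat_lit 0x1008004) (nat_lit 32772) (nat_lit 0x1001004000008001014000018) (nat_lit 0x1000101110110) (.cD (nat_lit 4) (.kA false (nat_lit 0x2100100000400100200c001002)) (.cD (nat_lit 8) (.dfs (nat_lit 1) (nat_lit 4100) (nat_lit 4101) (nat_lit 1) (nat_lit 1) (nat_lit 1) (nat_lit 0) (nat_lit 1) (nat_lit 4128) (nat_lit 0x40020010008004002021) (nat_lit 0) (nat_lit 1) (nat_lit 0) (nat_lit 1) (nat_lit 0) (nat_lit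 1) (nat_lit 0) .nil) (.cD (nat_lit 16) (.kc (nat_lit 48) (nat_lit 0x3001001)) (.cD (nat_lit 20) (.kA false (nat_lit 0x2100100000400100200c001002)) (.cD (nat_lit 24) (.kA false (nat_lit 0x700400200c002021001000002)) (.cD (nat_lit 32) (.kc (nat_lit 40) (nat_lit 0x5001001)) (.cD (nat_lit 48) (.kc (nat_lit 56) (nat_lit 0x7001001)) .nil)))))))) (.cD (nat_lit 20) (.dfs (nat_lit 32) (nat_lit 4100) (nat_lit 4100) (nat_lit 0x1002001) (nat_lit 0x1002001) (nat_lit 0) (nat_lit 0) (nat_lit 3) (nat_lit 0) (nat_lit 0) (nat_lit 0) (nat_lit 1) (nat_lit 0) (nat_lit 1) (nat_lit 0) (nat_lit 1) (nat_lit 0x11001100110010) (.cD (nat_lit 4) (.kA false (nat_lit 0x2100100000400100200c001002)) (.cD (nat_lit 16) (.kA false (nat_lit 0x2100100000400100200c001002)) (.cD (nat_lit 20) (.kc (nat_lit 48) (nat_lit 0x3001001)) (.cD (nat_lit 32) (.kc (nat_lit 40) (nat_lit 0x5001001)) (.cD (nat_lit 36) (.kA false (nat_lit 0x2100100000400100200c001002)) (.cD (nat_lit 48) (.kA false (nat_lit 0x2100100000400100200c001002))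 (.cD (nat_lit 52) (.kc (nat_lit 56) (nat_lit 0x7001001)) .nil)))))))) (.cD (nat_lit 24) (.dfs (nat_lit 32) (nat_lit 4100) (nat_lit 4100) (nat_lit 0x1002001) (nat_lit 0x1002001) (nat_lit 0) (nat_lit 0) (nat_lit 3) (nat_lit 0) (nat_lit 0) (nat_lit 0) (nat_lit 1) (nat_lit 0) (nat_lit 1) (nat_lit 0) (nat_lit 1) (nat_lit 0x101010101010100) (.cD (nat_lit 8) (.kA false (nat_lit 0x500400300c002021001000002)) (.cD (nat_lit 16) (.kA false (nat_lit 0x700400100c002021001000002)) (.cD (nat_lit 24) (.kc (nat_lit 48) (nat_lit 0x3001001)) (.cD (nat_lit 32) (.kc (nat_lit 40) (nat_lit 0x5001001)) (.cD (nat_lit 40) (.kA false (nat_lit 0x100400700c002021001000002)) (.cD (nat_lit 48) (.kA false (nat_lit 0x300400500c002021001000002)) (.cD (nat_lit 56) (.kc (nat_lit 56) (nat_lit 0x7001001)) .nil)))))))) (.cD (nat_lit 32) (.kc (nat_lit 24) (nat_lit 0x3001001)) (.cD (nat_lit 48) (.dfs (nat_lit 32) (nat_lit 4100) (nat_lit 4100) (nat_lit 0x1002001) (nat_lit 0x1002001) (nat_lit 0) (nat_lit 0)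 (nat_lit 3) (nat_lit 0) (nat_lit 0) (nat_lit 0) (nat_lit 1) (nat_lit 0) (nat_lit 0x1008004) (nat_lit 32772) (nat_lit 0x1001004000008001014000018) (nat_lit 0x1000101110110) (.cD (nat_lit 4) (.kA false (nat_lit 0x2100100000400100200c001002)) (.cD (nat_lit 8) (.kA false (nat_lit 0x500400600c002021001000002)) (.cD (nat_lit 16) (.kc (nat_lit 56) (nat_lit 0x7001001)) (.cD (nat_lit 20) (.kA false (nat_lit 0x2100100000400100200c001002)) (.cD (nat_lit 24) (.kA false (nat_lit 0x300400600c002021001000002)) (.cD (nat_lit 32) (.kc (nat_lit 40) (nat_lit 0x5001001)) (.cD (nat_lit 48) (.kc (nat_lit 48) (nat_lit 0x3001001)) .nil)))))))) .nil)))))))) (.cD (nat_lit 48) (.kF (nat_lit 8) (nat_lit 0x23003000001003001002)) .nil))))))))))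
theorem c218 : (chk [(x108, s217)] [g55] p218).n x108 s218 = true := by decide +kernel
noncomputable def p219 : Pf := (.ext (nat_lit 1) (nat_lit 0) (nat_lit 0x1040030020004) (nat_lit 0x1002004008005001) (nat_lit 0x2003004008) (nat_lit 4107) (nat_lit 4107) (nat_lit 0xc004002001) (.dfs (nat_lit 11) (nat_lit 0x1002003004008) (nat_lit 0x100200300400c) (nat_lit 4097) (nat_lit 4097) (nat_lit 0) (nat_lit 0) (nat_lit 2) (nat_lit 1) (nat_lit 0) (nat_lit 11) (nat_lit 1) (nat_lit 0) (nat_lit 4160) (nat_lit 64) (nat_lit 0x100000b00000f00001b00001f) (nat_lit 0x88008800) (.cD (nat_lit 11) (.kS (nat_lit 1) (nat_lit 0x2006008010002008008000002) (nat_lit 4111) (nat_lit 0x8004002003) (nat_lit 0x8008000002004008010001001008008000002006008010007001004)) (.cD (nat_lit 15) (.kS (nat_lit 1) (nat_lit 0x2006008010002008008000002) (nat_lit 4139) (nat_lit 0x8004002003) (nat_lit 0x8008000002004008010001001008008000002006008010005001004)) (.cD (nat_lit 27) (.cut (nat_lit 0)) (.cD (nat_lit 31)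 (.iso x108 s218 (nat_lit 0) (nat_lit 0x1040020010008004012001) (nat_lit 0x40020010008004012001) [(nat_lit 0x1000800400200d001001), (nat_lit 0x1000800400200d003001), (nat_lit 0x10008004002009005001)] (.cut (nat_lit 0))) .nil))))))
theorem c219 : (chk [(x108, s218)] [g55] p219).n x108 s219 = true := by decide +kernel
noncomputable def p220 : Pf := (.anc (nat_lit 68) (nat_lit 0x10002002002000002) (nat_lit 0x1009020010004) (.czp (nat_lit 64) (nat_lit 0) (nat_lit 0x1040020010008004) z6 (.dfs (nat_lit 4) (nat_lit 4097) (nat_lit 4097) (nat_lit 1) (nat_lit 1) (nat_lit 0) (nat_lit 0) (nat_lit 3) (nat_lit 0) (nat_lit 0) (nat_lit 0) (nat_lit 1) (nat_lit 0) (nat_lit 0x1008004) (nat_lit 32772) (nat_lit 0x1001004000008001014000018) (nat_lit 0x1000101110110) (.cD (nat_lit 4) (.dfs (nat_lit 16) (nat_lit 4098) (nat_lit 4098) (nat_lit 4097) (nat_lit 4097) (nat_lit 0) (nat_lit 0) (nat_lit 3) (nat_lit 0) (nat_lit 0) (nat_lit 0) (nat_lit 1) (nat_lit 0) (nat_lit 1) (nat_lit 0) (nat_lit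 1) (nat_lit 0x11001100110010) (.cD (nat_lit 4) (.kc (nat_lit 20) (nat_lit 0x3001001)) (.cD (nat_lit 16) (.dfs (nat_lit 32) (nat_lit 4100) (nat_lit 4100) (nat_lit 0x1002001) (nat_lit 0x1002001) (nat_lit 0) (nat_lit 0) (nat_lit 3) (nat_lit 0) (nat_lit 0) (nat_lit 0) (nat_lit 1) (nat_lit 0) (nat_lit 1) (nat_lit 0) (nat_lit 1) (nat_lit 0x11001100110010) (.cD (nat_lit 4) (.kc (nat_lit 36) (nat_lit 0x5001001)) (.cD (nat_lit 16) (.kc (nat_lit 48) (nat_lit 0x3001001)) (.cD (nat_lit 20) (.kc (nat_lit 52) (nat_lit 0x7001001)) (.cD (nat_lit 32) (.dfs (nat_lit 9) (nat_lit 0x1004001003008) (nat_lit 0x1005001003008) (nat_lit 4098) (nat_lit 4098) (nat_lit 0) (nat_lit 0) (nat_lit 2) (nat_lit 1) (nat_lit 0) (nat_lit 8) (nat_lit 1) (nat_lit 0) (nat_lit 4100) (nat_lit 4) (nat_lit 0x1000048000058) (nat_lit 0x10001000000000000000000) (.cD (nat_lit 72) (.kb (nat_lit 9) (nat_lit 0x1021000014006001001003) (nat_lit 0x102001004800c002005)) (.cD (nat_lit 88) (.kb (nat_lit 25) (nat_lit 0x1021000014006005001003)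 (nat_lit 0x102001004800c002005)) .nil))) (.cD (nat_lit 36) (.kA true (nat_lit 0x2100100000400100300d001021001000003)) (.cD (nat_lit 48) (.kA true (nat_lit 0x600800401000400400100300d001021001000003)) (.cD (nat_lit 52) (.kA true (nat_lit 0x5004003008001008004002005007021001000003)) .nil)))))))) (.cD (nat_lit 20) (.dfs (nat_lit 32) (nat_lit 4100) (nat_lit 4100) (nat_lit 0x1002001) (nat_lit 0x1002001) (nat_lit 0) (nat_lit 0) (nat_lit 3) (nat_lit 0) (nat_lit 0) (nat_lit 0) (nat_lit 1) (nat_lit 0) (nat_lit 1) (nat_lit 0) (nat_lit 1) (nat_lit 0x11001100110010) (.cD (nat_lit 4) (.kc (nat_lit 36) (nat_lit 0x5001001)) (.cD (nat_lit 16) (.kc (nat_lit 52) (nat_lit 0x7001001)) (.cD (nat_lit 20) (.kc (nat_lit 48) (nat_lit 0x3001001)) (.cD (nat_lit 32) (.kA true (nat_lit 0x5004003008001008004002005007021001000003)) (.cD (nat_lit 36) (.dfs (nat_lit 9) (nat_lit 4102) (nat_lit 4103) (nat_lit 1) (nat_lit 1) (nat_lit 0) (nat_lit 0) (nat_lit 1) (nat_lit 4112) (nat_lit 0x40020010008004002021)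 (nat_lit 0) (nat_lit 1) (nat_lit 0) (nat_lit 1) (nat_lit 0) (nat_lit 1) (nat_lit 0) .nil) (.cD (nat_lit 48) (.kA true (nat_lit 0x400300500800100400100300c001002)) (.cD (nat_lit 52) (.kA true (nat_lit 0x400700100800100400100300c001002)) .nil)))))))) (.cD (nat_lit 32) (.kF (nat_lit 16) (nat_lit 0x100400100c012004002002000003)) (.cD (nat_lit 36) (.kF (nat_lit 16) (nat_lit 0x100400100c012004002002000003)) (.cD (nat_lit 48) (.dfs (nat_lit 32) (nat_lit 4100) (nat_lit 4100) (nat_lit 0x1002001) (nat_lit 0x1002001) (nat_lit 0) (nat_lit 0) (nat_lit 3) (nat_lit 0) (nat_lit 0) (nat_lit 0) (nat_lit 1) (nat_lit 0) (nat_lit 1) (nat_lit 0) (nat_lit 1) (nat_lit 0x11001100110010) (.cD (nat_lit 4) (.kc (nat_lit 36) (nat_lit 0x5001001)) (.cD (nat_lit 16) (.kA true (nat_lit 0x400200100800100400100300c001002)) (.cD (nat_lit 20) (.kA true (nat_lit 0x400600500800100400100300c001002)) (.cD (nat_lit 32) (.kA true (nat_lit 0x5004003008001008004002005007021001000003)) (.cD (nat_lit 36) (.kA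 true (nat_lit 0x400500600800100400100300c001002)) (.cD (nat_lit 48) (.kc (nat_lit 48) (nat_lit 0x3001001)) (.cD (nat_lit 52) (.kc (nat_lit 52) (nat_lit 0x7001001)) .nil)))))))) (.cD (nat_lit 52) (.dfs (nat_lit 32) (nat_lit 4100) (nat_lit 4100) (nat_lit 0x1002001) (nat_lit 0x1002001) (nat_lit 0) (nat_lit 0) (nat_lit 3) (nat_lit 0) (nat_lit 0) (nat_lit 0) (nat_lit 1) (nat_lit 0) (nat_lit 1) (nat_lit 0) (nat_lit 1) (nat_lit 0x11001100110010) (.cD (nat_lit 4) (.kc (nat_lit 36) (nat_lit 0x5001001)) (.cD (nat_lit 16) (.kA true (nat_lit 0x400200500800100400100300c001002)) (.cD (nat_lit 20) (.kA true (nat_lit 0x400600100800100400100300c001002)) (.cD (nat_lit 32) (.kA true (nat_lit 0x5004003008001008004002005007021001000003)) (.cD (nat_lit 36) (.kA true (nat_lit 0x400500200800100400100300c001002)) (.cD (nat_lit 48) (.kc (nat_lit 52) (nat_lit 0x7001001)) (.cD (nat_lit 52) (.kc (nat_lit 48) (nat_lit 0x3001001)) .nil)))))))) .nil)))))))) (.cD (nat_lit 8) (.dfs (nat_lit 16) (nat_lit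 4098) (nat_lit 4098) (nat_lit 4097) (nat_lit 4097) (nat_lit 0) (nat_lit 0) (nat_lit 3) (nat_lit 0) (nat_lit 0) (nat_lit 0) (nat_lit 1) (nat_lit 0) (nat_lit 1) (nat_lit 0) (nat_lit 1) (nat_lit 0x101010101010100) (.cD (nat_lit 8) (.kc (nat_lit 20) (nat_lit 0x3001001)) (.cD (nat_lit 16) (.dfs (nat_lit 32) (nat_lit 4100) (nat_lit 4100) (nat_lit 0x1002001) (nat_lit 0x1002001) (nat_lit 0) (nat_lit 0) (nat_lit 3) (nat_lit 0) (nat_lit 0) (nat_lit 0) (nat_lit 1) (nat_lit 0) (nat_lit 1) (nat_lit 0) (nat_lit 1) (nat_lit 0x101010101010100) (.cD (nat_lit 8) (.kc (nat_lit 36) (nat_lit 0x5001001)) (.cD (nat_lit 16) (.kc (nat_lit 48) (nat_lit 0x3001001)) (.cD (nat_lit 24) (.kc (nat_lit 52) (nat_lit 0x7001001)) (.cD (nat_lit 32) (.kA false (nat_lit 0x100400200c002006004008014005021001000003)) (.cD (nat_lit 40) (.kA false (nat_lit 0x2100100000100500200d002021001000003)) (.cD (nat_lit 48) (.kA false (nat_lit 0xe00800c01000400700300200b002021001000003)) (.cD (nat_lit 56) (.kA false (nat_lit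 0x700400200c002006004008014005021001000003)) .nil)))))))) (.cD (nat_lit 24) (.dfs (nat_lit 32) (nat_lit 4100) (nat_lit 4100) (nat_lit 0x1002001) (nat_lit 0x1002001) (nat_lit 0) (nat_lit 0) (nat_lit 3) (nat_lit 0) (nat_lit 0) (nat_lit 0) (nat_lit 1) (nat_lit 0) (nat_lit 1) (nat_lit 0) (nat_lit 1) (nat_lit 0x101010101010100) (.cD (nat_lit 8) (.kc (nat_lit 36) (nat_lit 0x5001001)) (.cD (nat_lit 16) (.kc (nat_lit 52) (nat_lit 0x7001001)) (.cD (nat_lit 24) (.kc (nat_lit 48) (nat_lit 0x3001001)) (.cD (nat_lit 32) (.kA false (nat_lit 0x100400600c002006004008014005021001000003)) (.cD (nat_lit 40) (.kA false (nat_lit 0x2100100000100500600d002021001000003)) (.cD (nat_lit 48) (.kA false (nat_lit 0x700400600c002006004008014005021001000003)) (.cD (nat_lit 56) (.kA false (nat_lit 0xe00800a01000400700300600b002021001000003)) .nil)))))))) (.cD (nat_lit 32) (.kF (nat_lit 16) (nat_lit 0x100400100c012004002002000003)) (.cD (nat_lit 40) (.kF (nat_lit 16) (nat_lit 0x100400100c012004002002000003))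 (.cD (nat_lit 48) (.dfs (nat_lit 32) (nat_lit 4100) (nat_lit 4100) (nat_lit 0x1002001) (nat_lit 0x1002001) (nat_lit 0) (nat_lit 0) (nat_lit 3) (nat_lit 0) (nat_lit 0) (nat_lit 0) (nat_lit 1) (nat_lit 0) (nat_lit 1) (nat_lit 0) (nat_lit 1) (nat_lit 0x101010101010100) (.cD (nat_lit 8) (.kc (nat_lit 36) (nat_lit 0x5001001)) (.cD (nat_lit 16) (.kA false (nat_lit 0xe00800401000400700300100b002021001000003)) (.cD (nat_lit 24) (.kA false (nat_lit 0x700400500c002006004008014005021001000003)) (.cD (nat_lit 32) (.kA false (nat_lit 0x100400300c002006004008014005021001000003)) (.cD (nat_lit 40) (.kA false (nat_lit 0x2100100000100500700d002021001000003)) (.cD (nat_lit 48) (.kc (nat_lit 48) (nat_lit 0x3001001)) (.cD (nat_lit 56) (.kc (nat_lit 52) (nat_lit 0x7001001)) .nil)))))))) (.cD (nat_lit 56) (.dfs (nat_lit 32) (nat_lit 4100) (nat_lit 4100) (nat_lit 0x1002001) (nat_lit 0x1002001) (nat_lit 0) (nat_lit 0) (nat_lit 3) (nat_lit 0) (nat_lit 0) (nat_lit 0) (nat_lit 1) (nat_lit 0)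 (nat_lit 1) (nat_lit 0) (nat_lit 1) (nat_lit 0x101010101010100) (.cD (nat_lit 8) (.kc (nat_lit 36) (nat_lit 0x5001001)) (.cD (nat_lit 16) (.kA false (nat_lit 0x700400100c002006004008014005021001000003)) (.cD (nat_lit 24) (.kA false (nat_lit 0xe00800201000400700300500b002021001000003)) (.cD (nat_lit 32) (.kA false (nat_lit 0x100400700c002006004008014005021001000003)) (.cD (nat_lit 40) (.kA false (nat_lit 0x2100100000100500300d002021001000003)) (.cD (nat_lit 48) (.kc (nat_lit 52) (nat_lit 0x7001001)) (.cD (nat_lit 56) (.kc (nat_lit 48) (nat_lit 0x3001001)) .nil)))))))) .nil)))))))) (.cD (nat_lit 16) (.kF (nat_lit 4) (nat_lit 0x2002000001003001002)) (.cD (nat_lit 20) (.kF (nat_lit 4) (nat_lit 0xe01e003001003001002)) (.cD (nat_lit 24) (.kF (nat_lit 4) (nat_lit 0x1002001002012004002002000003)) (.cD (nat_lit 32) (.dfs (nat_lit 16) (nat_lit 4098) (nat_lit 4098) (nat_lit 4097) (nat_lit 4097) (nat_lit 0) (nat_lit 0) (nat_lit 3) (nat_lit 0) (nat_lit 0) (nat_lit 0) (nat_lit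 1) (nat_lit 0) (nat_lit 0x1008004) (nat_lit 32772) (nat_lit 0x1001004000008001014000018) (nat_lit 0x1000101110110) (.cD (nat_lit 4) (.kF (nat_lit 16) (nat_lit 0x21001000001006001002)) (.cD (nat_lit 8) (.kF (nat_lit 16) (nat_lit 0x21001000001006001002)) (.cD (nat_lit 16) (.dfs (nat_lit 32) (nat_lit 4100) (nat_lit 4100) (nat_lit 0x1002001) (nat_lit 0x1002001) (nat_lit 0) (nat_lit 0) (nat_lit 3) (nat_lit 0) (nat_lit 0) (nat_lit 0) (nat_lit 1) (nat_lit 0) (nat_lit 0x1008004) (nat_lit 32772) (nat_lit 0x1001004000008001014000018) (nat_lit 0x1000101110110) (.cD (nat_lit 4) (.kA true (nat_lit 0x100400600c002021001000002)) (.cD (nat_lit 8) (.kA false (nat_lit 0x500400200c002021001000002)) (.cD (nat_lit 16) (.kc (nat_lit 48) (nat_lit 0x3001001)) (.cD (nat_lit 20) (.kA true (nat_lit 0x300400600c002021001000002)) (.cD (nat_lit 24) (.kA false (nat_lit 0x700400200c002021001000002)) (.cD (nat_lit 32) (.kc (nat_lit 36) (nat_lit 0x5001001)) (.cD (nat_lit 48) (.kc (nat_lit 52) (nat_lit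 0x7001001)) .nil)))))))) (.cD (nat_lit 20) (.dfs (nat_lit 32) (nat_lit 4100) (nat_lit 4100) (nat_lit 0x1002001) (nat_lit 0x1002001) (nat_lit 0) (nat_lit 0) (nat_lit 3) (nat_lit 0) (nat_lit 0) (nat_lit 0) (nat_lit 1) (nat_lit 0) (nat_lit 1) (nat_lit 0) (nat_lit 1) (nat_lit 0x11001100110010) (.cD (nat_lit 4) (.kA true (nat_lit 0x100400700c002021001000002)) (.cD (nat_lit 16) (.kA true (nat_lit 0x300400500c002021001000002)) (.cD (nat_lit 20) (.kc (nat_lit 48) (nat_lit 0x3001001)) (.cD (nat_lit 32) (.kc (nat_lit 36) (nat_lit 0x5001001)) (.cD (nat_lit 36) (.dfs (nat_lit 9) (nat_lit 4100) (nat_lit 4101) (nat_lit 1) (nat_lit 1) (nat_lit 0) (nat_lit 0) (nat_lit 1) (nat_lit 4128) (nat_lit 0x40020010008004002021) (nat_lit 0) (nat_lit 1) (nat_lit 0) (nat_lit 1) (nat_lit 0) (nat_lit 1) (nat_lit 0) .nil) (.cD (nat_lit 48) (.kA true (nat_lit 0x700400100c002021001000002)) (.cD (nat_lit 52) (.kc (nat_lit 52) (nat_lit 0x7001001)) .nil)))))))) (.cD (nat_lit 24) (.dfs (nat_lit 32) (nat_lit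 4100) (nat_lit 4100) (nat_lit 0x1002001) (nat_lit 0x1002001) (nat_lit 0) (nat_lit 0) (nat_lit 3) (nat_lit 0) (nat_lit 0) (nat_lit 0) (nat_lit 1) (nat_lit 0) (nat_lit 1) (nat_lit 0) (nat_lit 1) (nat_lit 0x101010101010100) (.cD (nat_lit 8) (.kA false (nat_lit 0x500400300c002021001000002)) (.cD (nat_lit 16) (.kA false (nat_lit 0x700400100c002021001000002)) (.cD (nat_lit 24) (.kc (nat_lit 48) (nat_lit 0x3001001)) (.cD (nat_lit 32) (.kc (nat_lit 36) (nat_lit 0x5001001)) (.cD (nat_lit 40) (.kA false (nat_lit 0x100400700c002021001000002)) (.cD (nat_lit 48) (.kA false (nat_lit 0x300400500c002021001000002)) (.cD (nat_lit 56) (.kc (nat_lit 52) (nat_lit 0x7001001)) .nil)))))))) (.cD (nat_lit 32) (.kc (nat_lit 20) (nat_lit 0x3001001)) (.cD (nat_lit 48) (.dfs (nat_lit 32) (nat_lit 4100) (nat_lit 4100) (nat_lit 0x1002001) (nat_lit 0x1002001) (nat_lit 0) (nat_lit 0) (nat_lit 3) (nat_lit 0) (nat_lit 0) (nat_lit 0) (nat_lit 1) (nat_lit 0) (nat_lit 0x1008004) (nat_lit 32772) (nat_lit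 0x1001004000008001014000018) (nat_lit 0x1000101110110) (.cD (nat_lit 4) (.kA true (nat_lit 0x100400200c002021001000002)) (.cD (nat_lit 8) (.kA false (nat_lit 0x500400600c002021001000002)) (.cD (nat_lit 16) (.kc (nat_lit 52) (nat_lit 0x7001001)) (.cD (nat_lit 20) (.kA true (nat_lit 0x700400200c002021001000002)) (.cD (nat_lit 24) (.kA false (nat_lit 0x300400600c002021001000002)) (.cD (nat_lit 32) (.kc (nat_lit 36) (nat_lit 0x5001001)) (.cD (nat_lit 48) (.kc (nat_lit 48) (nat_lit 0x3001001)) .nil)))))))) .nil)))))))) (.cD (nat_lit 48) (.kF (nat_lit 4) (nat_lit 0x1002001002012004002002000003)) .nil))))))))))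
theorem c220 : (chk [] [] p220).n x117 s220 = true := by decide +kernel
noncomputable def p221 : Pf := (.anc (nat_lit 68) (nat_lit 0x10002002002000002) (nat_lit 0x1009020010004) (.czp (nat_lit 64) (nat_lit 0) (nat_lit 0x1040020010008004) z6 (.dfs (nat_lit 4) (nat_lit 4097) (nat_lit 4097) (nat_lit 1) (nat_lit 1) (nat_lit 0) (nat_lit 0) (nat_lit 3) (nat_lit 0) (nat_lit 0) (nat_lit 0) (nat_lit 1) (nat_lit 0) (nat_lit 0x1008004) (nat_lit 32772) (nat_lit 0x1001004000008001014000018) (nat_lit 0x1000101110110) (.cD (nat_lit 4) (.dfs (nat_lit 16) (nat_lit 4098) (nat_lit 4098) (nat_lit 4097) (nat_lit 4097) (nat_lit 0) (nat_lit 0) (nat_lit 3) (nat_lit 0) (nat_lit 0) (nat_lit 0) (nat_lit 1) (nat_lit 0) (nat_lit 1) (nat_lit 0) (nat_lit 1) (nat_lit 0x11001100110010) (.cD (nat_lit 4) (.kc (nat_lit 20) (nat_lit 0x3001001)) (.cD (nat_lit 16) (.dfs (nat_lit 32) (nat_lit 4100) (nat_lit 4100) (nat_lit 0x1002001) (nat_lit 0x1002001) (nat_lit 0) (nat_lit 0) (nat_lit 3) (nat_lit 0) (nat_lit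 0) (nat_lit 0) (nat_lit 1) (nat_lit 0) (nat_lit 1) (nat_lit 0) (nat_lit 1) (nat_lit 0x11001100110010) (.cD (nat_lit 4) (.kc (nat_lit 36) (nat_lit 0x5001001)) (.cD (nat_lit 16) (.kc (nat_lit 48) (nat_lit 0x3001001)) (.cD (nat_lit 20) (.kc (nat_lit 52) (nat_lit 0x7001001)) (.cD (nat_lit 32) (.dfs (nat_lit 9) (nat_lit 0x1004001003008) (nat_lit 0x1005001003008) (nat_lit 4098) (nat_lit 4098) (nat_lit 2) (nat_lit 0) (nat_lit 2) (nat_lit 1) (nat_lit 0) (nat_lit 8) (nat_lit 1) (nat_lit 0) (nat_lit 1) (nat_lit 0) (nat_lit 1) (nat_lit 0) .nil) (.cD (nat_lit 36) (.kA true (nat_lit 0x3100100000400100300d001031001000003)) (.cD (nat_lit 48) (.kA true (nat_lit 0x600800401000400400100300d001031001000003)) (.cD (nat_lit 52) (.kA true (nat_lit 0x5004003008001008004002005007031001000003)) .nil)))))))) (.cD (nat_lit 20) (.dfs (nat_lit 32) (nat_lit 4100) (nat_lit 4100) (nat_lit 0x1002001) (nat_lit 0x1002001) (nat_lit 0) (nat_lit 0) (nat_lit 3) (nat_lit 0) (nat_lit 0) (nat_lit 0) (nat_lit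 1) (nat_lit 0) (nat_lit 1) (nat_lit 0) (nat_lit 1) (nat_lit 0x11001100110010) (.cD (nat_lit 4) (.kc (nat_lit 36) (nat_lit 0x5001001)) (.cD (nat_lit 16) (.kc (nat_lit 52) (nat_lit 0x7001001)) (.cD (nat_lit 20) (.kc (nat_lit 48) (nat_lit 0x3001001)) (.cD (nat_lit 32) (.kA true (nat_lit 0x5004003008001008004002005007031001000003)) (.cD (nat_lit 36) (.dfs (nat_lit 9) (nat_lit 4102) (nat_lit 4103) (nat_lit 1) (nat_lit 1) (nat_lit 2) (nat_lit 0) (nat_lit 1) (nat_lit 4112) (nat_lit 0x40020010008004002031) (nat_lit 0) (nat_lit 1) (nat_lit 0) (nat_lit 1) (nat_lit 0) (nat_lit 1) (nat_lit 0) .nil) (.cD (nat_lit 48) (.kA true (nat_lit 0x400300500800100400100300c001002)) (.cD (nat_lit 52) (.kA true (nat_lit 0x400700100800100400100300c001002)) .nil)))))))) (.cD (nat_lit 32) (.kF (nat_lit 16) (nat_lit 0x100400100c012004002002000003)) (.cD (nat_lit 36) (.kF (nat_lit 16) (nat_lit 0x100400100c012004002002000003)) (.cD (nat_lit 48) (.dfs (nat_lit 32) (nat_lit 4100) (nat_lit 4100) (nat_lit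 0x1002001) (nat_lit 0x1002001) (nat_lit 0) (nat_lit 0) (nat_lit 3) (nat_lit 0) (nat_lit 0) (nat_lit 0) (nat_lit 1) (nat_lit 0) (nat_lit 1) (nat_lit 0) (nat_lit 1) (nat_lit 0x11001100110010) (.cD (nat_lit 4) (.kc (nat_lit 36) (nat_lit 0x5001001)) (.cD (nat_lit 16) (.kA true (nat_lit 0x400200100800100400100300c001002)) (.cD (nat_lit 20) (.kA true (nat_lit 0x400600500800100400100300c001002)) (.cD (nat_lit 32) (.kA true (nat_lit 0x5004003008001008004002005007031001000003)) (.cD (nat_lit 36) (.kA true (nat_lit 0x400500600800100400100300c001002)) (.cD (nat_lit 48) (.kc (nat_lit 48) (nat_lit 0x3001001)) (.cD (nat_lit 52) (.kc (nat_lit 52) (nat_lit 0x7001001)) .nil)))))))) (.cD (nat_lit 52) (.dfs (nat_lit 32) (nat_lit 4100) (nat_lit 4100) (nat_lit 0x1002001) (nat_lit 0x1002001) (nat_lit 0) (nat_lit 0) (nat_lit 3) (nat_lit 0) (nat_lit 0) (nat_lit 0) (nat_lit 1) (nat_lit 0) (nat_lit 1) (nat_lit 0) (nat_lit 1) (nat_lit 0x11001100110010) (.cD (nat_lit 4) (.kc (nat_lit 36) (nat_lit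 0x5001001)) (.cD (nat_lit 16) (.kA true (nat_lit 0x400200500800100400100300c001002)) (.cD (nat_lit 20) (.kA true (nat_lit 0x400600100800100400100300c001002)) (.cD (nat_lit 32) (.kA true (nat_lit 0x5004003008001008004002005007031001000003)) (.cD (nat_lit 36) (.kA true (nat_lit 0x400500200800100400100300c001002)) (.cD (nat_lit 48) (.kc (nat_lit 52) (nat_lit 0x7001001)) (.cD (nat_lit 52) (.kc (nat_lit 48) (nat_lit 0x3001001)) .nil)))))))) .nil)))))))) (.cD (nat_lit 8) (.dfs (nat_lit 16) (nat_lit 4098) (nat_lit 4098) (nat_lit 4097) (nat_lit 4097) (nat_lit 0) (nat_lit 0) (nat_lit 3) (nat_lit 0) (nat_lit 0) (nat_lit 0) (nat_lit 1) (nat_lit 0) (nat_lit 1) (nat_lit 0) (nat_lit 1) (nat_lit 0x101010101010100) (.cD (nat_lit 8) (.kc (nat_lit 20) (nat_lit 0x3001001)) (.cD (nat_lit 16) (.dfs (nat_lit 32) (nat_lit 4100) (nat_lit 4100) (nat_lit 0x1002001) (nat_lit 0x1002001) (nat_lit 0) (nat_lit 0) (nat_lit 3) (nat_lit 0) (nat_lit 0) (nat_lit 0) (nat_lit 1) (nat_lit 0) (nat_lit 1)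 (nat_lit 0) (nat_lit 1) (nat_lit 0x101010101010100) (.cD (nat_lit 8) (.kc (nat_lit 36) (nat_lit 0x5001001)) (.cD (nat_lit 16) (.kc (nat_lit 48) (nat_lit 0x3001001)) (.cD (nat_lit 24) (.kc (nat_lit 52) (nat_lit 0x7001001)) (.cD (nat_lit 32) (.kA false (nat_lit 0x100400200c002006004008014005031001000003)) (.cD (nat_lit 40) (.kA false (nat_lit 0x3100100000100500200d002031001000003)) (.cD (nat_lit 48) (.kA false (nat_lit 0xe00800c01000400700300200b002031001000003)) (.cD (nat_lit 56) (.kA false (nat_lit 0x700400200c002006004008014005031001000003)) .nil)))))))) (.cD (nat_lit 24) (.dfs (nat_lit 32) (nat_lit 4100) (nat_lit 4100) (nat_lit 0x1002001) (nat_lit 0x1002001) (nat_lit 0) (nat_lit 0) (nat_lit 3) (nat_lit 0) (nat_lit 0) (nat_lit 0) (nat_lit 1) (nat_lit 0) (nat_lit 1) (nat_lit 0) (nat_lit 1) (nat_lit 0x101010101010100) (.cD (nat_lit 8) (.kc (nat_lit 36) (nat_lit 0x5001001)) (.cD (nat_lit 16) (.kc (nat_lit 52) (nat_lit 0x7001001)) (.cD (nat_lit 24) (.kc (nat_lit 48)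 (nat_lit 0x3001001)) (.cD (nat_lit 32) (.kA false (nat_lit 0x100400600c002006004008014005031001000003)) (.cD (nat_lit 40) (.kA false (nat_lit 0x3100100000100500600d002031001000003)) (.cD (nat_lit 48) (.kA false (nat_lit 0x700400600c002006004008014005031001000003)) (.cD (nat_lit 56) (.kA false (nat_lit 0xe00800a01000400700300600b002031001000003)) .nil)))))))) (.cD (nat_lit 32) (.kF (nat_lit 16) (nat_lit 0x100400100c012004002002000003)) (.cD (nat_lit 40) (.kF (nat_lit 16) (nat_lit 0x100400100c012004002002000003)) (.cD (nat_lit 48) (.dfs (nat_lit 32) (nat_lit 4100) (nat_lit 4100) (nat_lit 0x1002001) (nat_lit 0x1002001) (nat_lit 0) (nat_lit 0) (nat_lit 3) (nat_lit 0) (nat_lit 0) (nat_lit 0) (nat_lit 1) (nat_lit 0) (nat_lit 1) (nat_lit 0) (nat_lit 1) (nat_lit 0x101010101010100) (.cD (nat_lit 8) (.kc (nat_lit 36) (nat_lit 0x5001001)) (.cD (nat_lit 16) (.kA false (nat_lit 0xe00800401000400700300100b002031001000003)) (.cD (nat_lit 24) (.kA false (nat_lit 0x700400500c002006004008014005031001000003))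 (.cD (nat_lit 32) (.kA false (nat_lit 0x100400300c002006004008014005031001000003)) (.cD (nat_lit 40) (.kA false (nat_lit 0x3100100000100500700d002031001000003)) (.cD (nat_lit 48) (.kc (nat_lit 48) (nat_lit 0x3001001)) (.cD (nat_lit 56) (.kc (nat_lit 52) (nat_lit 0x7001001)) .nil)))))))) (.cD (nat_lit 56) (.dfs (nat_lit 32) (nat_lit 4100) (nat_lit 4100) (nat_lit 0x1002001) (nat_lit 0x1002001) (nat_lit 0) (nat_lit 0) (nat_lit 3) (nat_lit 0) (nat_lit 0) (nat_lit 0) (nat_lit 1) (nat_lit 0) (nat_lit 1) (nat_lit 0) (nat_lit 1) (nat_lit 0x101010101010100) (.cD (nat_lit 8) (.kc (nat_lit 36) (nat_lit 0x5001001)) (.cD (nat_lit 16) (.kA false (nat_lit 0x700400100c002006004008014005031001000003)) (.cD (nat_lit 24) (.kA false (nat_lit 0xe00800201000400700300500b002031001000003)) (.cD (nat_lit 32) (.kA false (nat_lit 0x100400700c002006004008014005031001000003)) (.cD (nat_lit 40) (.kA false (nat_lit 0x3100100000100500300d002031001000003)) (.cD (nat_lit 48) (.kc (nat_lit 52) (nat_lit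 0x7001001)) (.cD (nat_lit 56) (.kc (nat_lit 48) (nat_lit 0x3001001)) .nil)))))))) .nil)))))))) (.cD (nat_lit 16) (.kF (nat_lit 4) (nat_lit 0x2002000001003001002)) (.cD (nat_lit 20) (.kF (nat_lit 4) (nat_lit 0xe01e003001003001002)) (.cD (nat_lit 24) (.kF (nat_lit 4) (nat_lit 0x1002001002012004002002000003)) (.cD (nat_lit 32) (.dfs (nat_lit 16) (nat_lit 4098) (nat_lit 4098) (nat_lit 4097) (nat_lit 4097) (nat_lit 0) (nat_lit 0) (nat_lit 3) (nat_lit 0) (nat_lit 0) (nat_lit 0) (nat_lit 1) (nat_lit 0) (nat_lit 0x1008004) (nat_lit 32772) (nat_lit 0x1001004000008001014000018) (nat_lit 0x1000101110110) (.cD (nat_lit 4) (.kF (nat_lit 16) (nat_lit 0x31001000001006001002)) (.cD (nat_lit 8) (.kF (nat_lit 16) (nat_lit 0x31001000001006001002)) (.cD (nat_lit 16) (.dfs (nat_lit 32) (nat_lit 4100) (nat_lit 4100) (nat_lit 0x1002001) (nat_lit 0x1002001) (nat_lit 0) (nat_lit 0) (nat_lit 3) (nat_lit 0) (nat_lit 0) (nat_lit 0) (nat_lit 1) (nat_lit 0) (nat_lit 0x1008004) (nat_lit 32772)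 (nat_lit 0x1001004000008001014000018) (nat_lit 0x1000101110110) (.cD (nat_lit 4) (.kA true (nat_lit 0x100400600c002031001000002)) (.cD (nat_lit 8) (.kA false (nat_lit 0x500400200c002031001000002)) (.cD (nat_lit 16) (.kc (nat_lit 48) (nat_lit 0x3001001)) (.cD (nat_lit 20) (.kA true (nat_lit 0x300400600c002031001000002)) (.cD (nat_lit 24) (.kA false (nat_lit 0x700400200c002031001000002)) (.cD (nat_lit 32) (.kc (nat_lit 36) (nat_lit 0x5001001)) (.cD (nat_lit 48) (.kc (nat_lit 52) (nat_lit 0x7001001)) .nil)))))))) (.cD (nat_lit 20) (.dfs (nat_lit 32) (nat_lit 4100) (nat_lit 4100) (nat_lit 0x1002001) (nat_lit 0x1002001) (nat_lit 0) (nat_lit 0) (nat_lit 3) (nat_lit 0) (nat_lit 0) (nat_lit 0) (nat_lit 1) (nat_lit 0) (nat_lit 1) (nat_lit 0) (nat_lit 1) (nat_lit 0x11001100110010) (.cD (nat_lit 4) (.kA true (nat_lit 0x100400700c002031001000002)) (.cD (nat_lit 16) (.kA true (nat_lit 0x300400500c002031001000002)) (.cD (nat_lit 20) (.kc (nat_lit 48) (nat_lit 0x3001001)) (.cD (nat_lit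 32) (.kc (nat_lit 36) (nat_lit 0x5001001)) (.cD (nat_lit 36) (.dfs (nat_lit 9) (nat_lit 4100) (nat_lit 4101) (nat_lit 1) (nat_lit 1) (nat_lit 2) (nat_lit 0) (nat_lit 1) (nat_lit 4128) (nat_lit 0x40020010008004002031) (nat_lit 0) (nat_lit 1) (nat_lit 0) (nat_lit 1) (nat_lit 0) (nat_lit 1) (nat_lit 0) .nil) (.cD (nat_lit 48) (.kA true (nat_lit 0x700400100c002031001000002)) (.cD (nat_lit 52) (.kc (nat_lit 52) (nat_lit 0x7001001)) .nil)))))))) (.cD (nat_lit 24) (.dfs (nat_lit 32) (nat_lit 4100) (nat_lit 4100) (nat_lit 0x1002001) (nat_lit 0x1002001) (nat_lit 0) (nat_lit 0) (nat_lit 3) (nat_lit 0) (nat_lit 0) (nat_lit 0) (nat_lit 1) (nat_lit 0) (nat_lit 1) (nat_lit 0) (nat_lit 1) (nat_lit 0x101010101010100) (.cD (nat_lit 8) (.kA false (nat_lit 0x500400300c002031001000002)) (.cD (nat_lit 16) (.kA false (nat_lit 0x700400100c002031001000002)) (.cD (nat_lit 24) (.kc (nat_lit 48) (nat_lit 0x3001001)) (.cD (nat_lit 32) (.kc (nat_lit 36) (nat_lit 0x5001001)) (.cD (nat_lit 40)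 (.kA false (nat_lit 0x100400700c002031001000002)) (.cD (nat_lit 48) (.kA false (nat_lit 0x300400500c002031001000002)) (.cD (nat_lit 56) (.kc (nat_lit 52) (nat_lit 0x7001001)) .nil)))))))) (.cD (nat_lit 32) (.kc (nat_lit 20) (nat_lit 0x3001001)) (.cD (nat_lit 48) (.dfs (nat_lit 32) (nat_lit 4100) (nat_lit 4100) (nat_lit 0x1002001) (nat_lit 0x1002001) (nat_lit 0) (nat_lit 0) (nat_lit 3) (nat_lit 0) (nat_lit 0) (nat_lit 0) (nat_lit 1) (nat_lit 0) (nat_lit 0x1008004) (nat_lit 32772) (nat_lit 0x1001004000008001014000018) (nat_lit 0x1000101110110) (.cD (nat_lit 4) (.kA true (nat_lit 0x100400200c002031001000002)) (.cD (nat_lit 8) (.kA false (nat_lit 0x500400600c002031001000002)) (.cD (nat_lit 16) (.kc (nat_lit 52) (nat_lit 0x7001001)) (.cD (nat_lit 20) (.kA true (nat_lit 0x700400200c002031001000002)) (.cD (nat_lit 24) (.kA false (nat_lit 0x300400600c002031001000002)) (.cD (nat_lit 32) (.kc (nat_lit 36) (nat_lit 0x5001001)) (.cD (nat_lit 48) (.kc (nat_lit 48) (nat_lit 0x3001001))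 .nil)))))))) .nil)))))))) (.cD (nat_lit 48) (.kF (nat_lit 4) (nat_lit 0x1002001002012004002002000003)) .nil))))))))))
theorem c221 : (chk [] [] p221).n x118 s221 = true := by decide +kernel
noncomputable def p222 : Pf := (.anc (nat_lit 68) (nat_lit 0x10002002002000002) (nat_lit 0x1009020010004) (.czp (nat_lit 64) (nat_lit 0) (nat_lit 0x1040020010008004) z6 (.dfs (nat_lit 4) (nat_lit 4097) (nat_lit 4097) (nat_lit 1) (nat_lit 1) (nat_lit 0) (nat_lit 0) (nat_lit 3) (nat_lit 0) (nat_lit 0) (nat_lit 0) (nat_lit 1) (nat_lit 0) (nat_lit 0x1008004) (nat_lit 32772) (nat_lit 0x1001004000008001014000018) (nat_lit 0x1000101110110) (.cD (nat_lit 4) (.dfs (nat_lit 16) (nat_lit 4098) (nat_lit 4098) (nat_lit 4097) (nat_lit 4097) (nat_lit 0) (nat_lit 0) (nat_lit 3) (nat_lit 0) (nat_lit 0) (nat_lit 0) (nat_lit 1) (nat_lit 0) (nat_lit 1) (nat_lit 0) (nat_lit 1) (nat_lit 0x11001100110010) (.cD (nat_lit 4) (.kc (nat_lit 20) (nat_lit 0x3001001)) (.cD (nat_lit 16) (.dfs (nat_lit 32) (nat_lit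 4100) (nat_lit 4100) (nat_lit 0x1002001) (nat_lit 0x1002001) (nat_lit 0) (nat_lit 0) (nat_lit 3) (nat_lit 0) (nat_lit 0) (nat_lit 0) (nat_lit 1) (nat_lit 0) (nat_lit 1) (nat_lit 0) (nat_lit 1) (nat_lit 0x11001100110010) (.cD (nat_lit 4) (.kc (nat_lit 36) (nat_lit 0x5001001)) (.cD (nat_lit 16) (.kc (nat_lit 48) (nat_lit 0x3001001)) (.cD (nat_lit 20) (.kc (nat_lit 52) (nat_lit 0x7001001)) (.cD (nat_lit 32) (.dfs (nat_lit 9) (nat_lit 0x1004001003008) (nat_lit 0x1005001003008) (nat_lit 4098) (nat_lit 4098) (nat_lit 2) (nat_lit 0) (nat_lit 2) (nat_lit 1) (nat_lit 0) (nat_lit 8) (nat_lit 1) (nat_lit 0) (nat_lit 1) (nat_lit 0) (nat_lit 1) (nat_lit 0) .nil) (.cD (nat_lit 36) (.kA true (nat_lit 0x3100100000400100300d001031001000003)) (.cD (nat_lit 48) (.kA true (nat_lit 0x600800401000400400100300d001031001000003)) (.cD (nat_lit 52) (.kA true (nat_lit 0x5004003008001008004002005007031001000003)) .nil)))))))) (.cD (nat_lit 20) (.dfs (nat_lit 32) (nat_lit 4100) (nat_lit 4100)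 (nat_lit 0x1002001) (nat_lit 0x1002001) (nat_lit 0) (nat_lit 0) (nat_lit 3) (nat_lit 0) (nat_lit 0) (nat_lit 0) (nat_lit 1) (nat_lit 0) (nat_lit 1) (nat_lit 0) (nat_lit 1) (nat_lit 0x11001100110010) (.cD (nat_lit 4) (.kc (nat_lit 36) (nat_lit 0x5001001)) (.cD (nat_lit 16) (.kc (nat_lit 52) (nat_lit 0x7001001)) (.cD (nat_lit 20) (.kc (nat_lit 48) (nat_lit 0x3001001)) (.cD (nat_lit 32) (.kA true (nat_lit 0x5004003008001008004002005007031001000003)) (.cD (nat_lit 36) (.dfs (nat_lit 9) (nat_lit 4102) (nat_lit 4103) (nat_lit 1) (nat_lit 1) (nat_lit 2) (nat_lit 0) (nat_lit 1) (nat_lit 4112) (nat_lit 0x40020010008004002031) (nat_lit 0) (nat_lit 1) (nat_lit 0) (nat_lit 1) (nat_lit 0) (nat_lit 1) (nat_lit 0) .nil) (.cD (nat_lit 48) (.kA true (nat_lit 0x400300500800100400100300c001002)) (.cD (nat_lit 52) (.kA true (nat_lit 0x400700100800100400100300c001002)) .nil)))))))) (.cD (nat_lit 32) (.kF (nat_lit 16) (nat_lit 0x100400100c012004002002000003)) (.cD (nat_lit 36) (.kF (nat_lit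 16) (nat_lit 0x100400100c012004002002000003)) (.cD (nat_lit 48) (.dfs (nat_lit 32) (nat_lit 4100) (nat_lit 4100) (nat_lit 0x1002001) (nat_lit 0x1002001) (nat_lit 0) (nat_lit 0) (nat_lit 3) (nat_lit 0) (nat_lit 0) (nat_lit 0) (nat_lit 1) (nat_lit 0) (nat_lit 1) (nat_lit 0) (nat_lit 1) (nat_lit 0x11001100110010) (.cD (nat_lit 4) (.kc (nat_lit 36) (nat_lit 0x5001001)) (.cD (nat_lit 16) (.kA true (nat_lit 0x400200100800100400100300c001002)) (.cD (nat_lit 20) (.kA true (nat_lit 0x400600500800100400100300c001002)) (.cD (nat_lit 32) (.kA true (nat_lit 0x5004003008001008004002005007031001000003)) (.cD (nat_lit 36) (.kA true (nat_lit 0x400500600800100400100300c001002)) (.cD (nat_lit 48) (.kc (nat_lit 48) (nat_lit 0x3001001)) (.cD (nat_lit 52) (.kc (nat_lit 52) (nat_lit 0x7001001)) .nil)))))))) (.cD (nat_lit 52) (.dfs (nat_lit 32) (nat_lit 4100) (nat_lit 4100) (nat_lit 0x1002001) (nat_lit 0x1002001) (nat_lit 0) (nat_lit 0) (nat_lit 3) (nat_lit 0) (nat_lit 0) (nat_lit 0) (nat_lit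 1) (nat_lit 0) (nat_lit 1) (nat_lit 0) (nat_lit 1) (nat_lit 0x11001100110010) (.cD (nat_lit 4) (.kc (nat_lit 36) (nat_lit 0x5001001)) (.cD (nat_lit 16) (.kA true (nat_lit 0x400200500800100400100300c001002)) (.cD (nat_lit 20) (.kA true (nat_lit 0x400600100800100400100300c001002)) (.cD (nat_lit 32) (.kA true (nat_lit 0x5004003008001008004002005007031001000003)) (.cD (nat_lit 36) (.kA true (nat_lit 0x400500200800100400100300c001002)) (.cD (nat_lit 48) (.kc (nat_lit 52) (nat_lit 0x7001001)) (.cD (nat_lit 52) (.kc (nat_lit 48) (nat_lit 0x3001001)) .nil)))))))) .nil)))))))) (.cD (nat_lit 8) (.dfs (nat_lit 16) (nat_lit 4098) (nat_lit 4098) (nat_lit 4097) (nat_lit 4097) (nat_lit 0) (nat_lit 0) (nat_lit 3) (nat_lit 0) (nat_lit 0) (nat_lit 0) (nat_lit 1) (nat_lit 0) (nat_lit 1) (nat_lit 0) (nat_lit 1) (nat_lit 0x101010101010100) (.cD (nat_lit 8) (.kc (nat_lit 20) (nat_lit 0x3001001)) (.cD (nat_lit 16) (.dfs (nat_lit 32) (nat_lit 4100) (nat_lit 4100) (nat_lit 0x1002001) (nat_lit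 0x1002001) (nat_lit 0) (nat_lit 0) (nat_lit 3) (nat_lit 0) (nat_lit 0) (nat_lit 0) (nat_lit 1) (nat_lit 0) (nat_lit 1) (nat_lit 0) (nat_lit 1) (nat_lit 0x101010101010100) (.cD (nat_lit 8) (.kc (nat_lit 36) (nat_lit 0x5001001)) (.cD (nat_lit 16) (.kc (nat_lit 48) (nat_lit 0x3001001)) (.cD (nat_lit 24) (.kc (nat_lit 52) (nat_lit 0x7001001)) (.cD (nat_lit 32) (.kA false (nat_lit 0x100400200c002006004008014005031001000003)) (.cD (nat_lit 40) (.kA false (nat_lit 0x3100100000100500200d002031001000003)) (.cD (nat_lit 48) (.kA false (nat_lit 0xe00800c01000400700300200b002031001000003)) (.cD (nat_lit 56) (.kA false (nat_lit 0x700400200c002006004008014005031001000003)) .nil)))))))) (.cD (nat_lit 24) (.dfs (nat_lit 32) (nat_lit 4100) (nat_lit 4100) (nat_lit 0x1002001) (nat_lit 0x1002001) (nat_lit 0) (nat_lit 0) (nat_lit 3) (nat_lit 0) (nat_lit 0) (nat_lit 0) (nat_lit 1) (nat_lit 0) (nat_lit 1) (nat_lit 0) (nat_lit 1) (nat_lit 0x101010101010100) (.cD (nat_lit 8) (.kc (nat_lit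 36) (nat_lit 0x5001001)) (.cD (nat_lit 16) (.kc (nat_lit 52) (nat_lit 0x7001001)) (.cD (nat_lit 24) (.kc (nat_lit 48) (nat_lit 0x3001001)) (.cD (nat_lit 32) (.kA false (nat_lit 0x100400600c002006004008014005031001000003)) (.cD (nat_lit 40) (.kA false (nat_lit 0x3100100000100500600d002031001000003)) (.cD (nat_lit 48) (.kA false (nat_lit 0x700400600c002006004008014005031001000003)) (.cD (nat_lit 56) (.kA false (nat_lit 0xe00800a01000400700300600b002031001000003)) .nil)))))))) (.cD (nat_lit 32) (.kF (nat_lit 16) (nat_lit 0x100400100c012004002002000003)) (.cD (nat_lit 40) (.kF (nat_lit 16) (nat_lit 0x100400100c012004002002000003)) (.cD (nat_lit 48) (.dfs (nat_lit 32) (nat_lit 4100) (nat_lit 4100) (nat_lit 0x1002001) (nat_lit 0x1002001) (nat_lit 0) (nat_lit 0) (nat_lit 3) (nat_lit 0) (nat_lit 0) (nat_lit 0) (nat_lit 1) (nat_lit 0) (nat_lit 1) (nat_lit 0) (nat_lit 1) (nat_lit 0x101010101010100) (.cD (nat_lit 8) (.kc (nat_lit 36) (nat_lit 0x5001001)) (.cD (nat_lit 16) (.kA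 false (nat_lit 0xe00800401000400700300100b002031001000003)) (.cD (nat_lit 24) (.kA false (nat_lit 0x700400500c002006004008014005031001000003)) (.cD (nat_lit 32) (.kA false (nat_lit 0x100400300c002006004008014005031001000003)) (.cD (nat_lit 40) (.kA false (nat_lit 0x3100100000100500700d002031001000003)) (.cD (nat_lit 48) (.kc (nat_lit 48) (nat_lit 0x3001001)) (.cD (nat_lit 56) (.kc (nat_lit 52) (nat_lit 0x7001001)) .nil)))))))) (.cD (nat_lit 56) (.dfs (nat_lit 32) (nat_lit 4100) (nat_lit 4100) (nat_lit 0x1002001) (nat_lit 0x1002001) (nat_lit 0) (nat_lit 0) (nat_lit 3) (nat_lit 0) (nat_lit 0) (nat_lit 0) (nat_lit 1) (nat_lit 0) (nat_lit 1) (nat_lit 0) (nat_lit 1) (nat_lit 0x101010101010100) (.cD (nat_lit 8) (.kc (nat_lit 36) (nat_lit 0x5001001)) (.cD (nat_lit 16) (.kA false (nat_lit 0x700400100c002006004008014005031001000003)) (.cD (nat_lit 24) (.kA false (nat_lit 0xe00800201000400700300500b002031001000003)) (.cD (nat_lit 32) (.kA false (nat_lit 0x100400700c002006004008014005031001000003))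 (.cD (nat_lit 40) (.kA false (nat_lit 0x3100100000100500300d002031001000003)) (.cD (nat_lit 48) (.kc (nat_lit 52) (nat_lit 0x7001001)) (.cD (nat_lit 56) (.kc (nat_lit 48) (nat_lit 0x3001001)) .nil)))))))) .nil)))))))) (.cD (nat_lit 16) (.kF (nat_lit 4) (nat_lit 0x2002000001003001002)) (.cD (nat_lit 20) (.kF (nat_lit 4) (nat_lit 0xe01e003001003001002)) (.cD (nat_lit 24) (.kF (nat_lit 4) (nat_lit 0x1002001002012004002002000003)) (.cD (nat_lit 32) (.dfs (nat_lit 16) (nat_lit 4098) (nat_lit 4098) (nat_lit 4097) (nat_lit 4097) (nat_lit 0) (nat_lit 0) (nat_lit 3) (nat_lit 0) (nat_lit 0) (nat_lit 0) (nat_lit 1) (nat_lit 0) (nat_lit 0x1008004) (nat_lit 32772) (nat_lit 0x1001004000008001014000018) (nat_lit 0x1000101110110) (.cD (nat_lit 4) (.kF (nat_lit 16) (nat_lit 0x31001000001006001002)) (.cD (nat_lit 8) (.kF (nat_lit 16) (nat_lit 0x31001000001006001002)) (.cD (nat_lit 16) (.dfs (nat_lit 32) (nat_lit 4100) (nat_lit 4100) (nat_lit 0x1002001) (nat_lit 0x1002001) (nat_lit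 0) (nat_lit 0) (nat_lit 3) (nat_lit 0) (nat_lit 0) (nat_lit 0) (nat_lit 1) (nat_lit 0) (nat_lit 0x1008004) (nat_lit 32772) (nat_lit 0x1001004000008001014000018) (nat_lit 0x1000101110110) (.cD (nat_lit 4) (.kA true (nat_lit 0x100400600c002031001000002)) (.cD (nat_lit 8) (.kA false (nat_lit 0x500400200c002031001000002)) (.cD (nat_lit 16) (.kc (nat_lit 48) (nat_lit 0x3001001)) (.cD (nat_lit 20) (.kA true (nat_lit 0x300400600c002031001000002)) (.cD (nat_lit 24) (.kA false (nat_lit 0x700400200c002031001000002)) (.cD (nat_lit 32) (.kc (nat_lit 36) (nat_lit 0x5001001)) (.cD (nat_lit 48) (.kc (nat_lit 52) (nat_lit 0x7001001)) .nil)))))))) (.cD (nat_lit 20) (.dfs (nat_lit 32) (nat_lit 4100) (nat_lit 4100) (nat_lit 0x1002001) (nat_lit 0x1002001) (nat_lit 0) (nat_lit 0) (nat_lit 3) (nat_lit 0) (nat_lit 0) (nat_lit 0) (nat_lit 1) (nat_lit 0) (nat_lit 1) (nat_lit 0) (nat_lit 1) (nat_lit 0x11001100110010) (.cD (nat_lit 4) (.kA true (nat_lit 0x100400700c002031001000002)) (.cD (nat_lit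 16) (.kA true (nat_lit 0x300400500c002031001000002)) (.cD (nat_lit 20) (.kc (nat_lit 48) (nat_lit 0x3001001)) (.cD (nat_lit 32) (.kc (nat_lit 36) (nat_lit 0x5001001)) (.cD (nat_lit 36) (.dfs (nat_lit 9) (nat_lit 4100) (nat_lit 4101) (nat_lit 1) (nat_lit 1) (nat_lit 2) (nat_lit 0) (nat_lit 1) (nat_lit 4128) (nat_lit 0x40020010008004002031) (nat_lit 0) (nat_lit 1) (nat_lit 0) (nat_lit 1) (nat_lit 0) (nat_lit 1) (nat_lit 0) .nil) (.cD (nat_lit 48) (.kA true (nat_lit 0x700400100c002031001000002)) (.cD (nat_lit 52) (.kc (nat_lit 52) (nat_lit 0x7001001)) .nil)))))))) (.cD (nat_lit 24) (.dfs (nat_lit 32) (nat_lit 4100) (nat_lit 4100) (nat_lit 0x1002001) (nat_lit 0x1002001) (nat_lit 0) (nat_lit 0) (nat_lit 3) (nat_lit 0) (nat_lit 0) (nat_lit 0) (nat_lit 1) (nat_lit 0) (nat_lit 1) (nat_lit 0) (nat_lit 1) (nat_lit 0x101010101010100) (.cD (nat_lit 8) (.kA false (nat_lit 0x500400300c002031001000002)) (.cD (nat_lit 16) (.kA false (nat_lit 0x700400100c002031001000002)) (.cD (nat_lit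 24) (.kc (nat_lit 48) (nat_lit 0x3001001)) (.cD (nat_lit 32) (.kc (nat_lit 36) (nat_lit 0x5001001)) (.cD (nat_lit 40) (.kA false (nat_lit 0x100400700c002031001000002)) (.cD (nat_lit 48) (.kA false (nat_lit 0x300400500c002031001000002)) (.cD (nat_lit 56) (.kc (nat_lit 52) (nat_lit 0x7001001)) .nil)))))))) (.cD (nat_lit 32) (.kc (nat_lit 20) (nat_lit 0x3001001)) (.cD (nat_lit 48) (.dfs (nat_lit 32) (nat_lit 4100) (nat_lit 4100) (nat_lit 0x1002001) (nat_lit 0x1002001) (nat_lit 0) (nat_lit 0) (nat_lit 3) (nat_lit 0) (nat_lit 0) (nat_lit 0) (nat_lit 1) (nat_lit 0) (nat_lit 0x1008004) (nat_lit 32772) (nat_lit 0x1001004000008001014000018) (nat_lit 0x1000101110110) (.cD (nat_lit 4) (.kA true (nat_lit 0x100400200c002031001000002)) (.cD (nat_lit 8) (.kA false (nat_lit 0x500400600c002031001000002)) (.cD (nat_lit 16) (.kc (nat_lit 52) (nat_lit 0x7001001)) (.cD (nat_lit 20) (.kA true (nat_lit 0x700400200c002031001000002)) (.cD (nat_lit 24) (.kA false (nat_lit 0x300400600c002031001000002))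 (.cD (nat_lit 32) (.kc (nat_lit 36) (nat_lit 0x5001001)) (.cD (nat_lit 48) (.kc (nat_lit 48) (nat_lit 0x3001001)) .nil)))))))) .nil)))))))) (.cD (nat_lit 48) (.kF (nat_lit 4) (nat_lit 0x1002001002012004002002000003)) .nil))))))))))
theorem c222 : (chk [] [] p222).n x119 s222 = true := by decide +kernel
noncomputable def p223 : Pf := (.lft (nat_lit 0x20008018001004002003001) (nat_lit 0) (nat_lit 0x1028020) (nat_lit 0x20010008004002001) (.extn a19 (nat_lit 0x20010008004002001) (nat_lit 0x1004010008020) (nat_lit 2) (nat_lit 0) (nat_lit 0) (nat_lit 0) (nat_lit 0x1010101) (.cE (nat_lit 0) b53 (nat_lit 0) (.iso x104 s191 (nat_lit 0) (nat_lit 0x1040020010008004002001) (nat_lit 0x40020010008004002001) [(nat_lit 0x8004002001009001)] (.cut (nat_lit 0))) (.cut (nat_lit 1)) (.cE (nat_lit 8) b54 (nat_lit 0) (.cut (nat_lit 2)) (.cut (nat_lit 3)) (.cE (nat_lit 16) b55 t55 (.cut (nat_lit 4)) (.cut (nat_lit 5)) (.cE (nat_lit 24) b60 (nat_lit 0) (.cut (nat_lit 6)) (.cut (nat_lit 7))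 .nil))))))
theorem c223 : (chk [(x104, s191), (x105, s192), (x106, s193), (x107, s194), (x108, s219), (x117, s220), (x118, s221), (x119, s222)] [g53] p223).n x87 s223 = true := by decide +kernel
noncomputable def p224 : Pf := (.anc (nat_lit 68) (nat_lit 0x10002002002000002) (nat_lit 0x1009020010004) (.czp (nat_lit 64) (nat_lit 0) (nat_lit 0x1040020010008004) z6 (.dfs (nat_lit 4) (nat_lit 4097) (nat_lit 4097) (nat_lit 1) (nat_lit 1) (nat_lit 0) (nat_lit 0) (nat_lit 3) (nat_lit 0) (nat_lit 0) (nat_lit 0) (nat_lit 1) (nat_lit 0) (nat_lit 0x1008004) (nat_lit 32772) (nat_lit 0x1001004000008001014000018) (nat_lit 0x1000101110110) (.cD (nat_lit 4) (.dfs (nat_lit 16) (nat_lit 4098) (nat_lit 4098) (nat_lit 4097) (nat_lit 4097) (nat_lit 0) (nat_lit 0) (nat_lit 3) (nat_lit 0) (nat_lit 0) (nat_lit 0) (nat_lit 1) (nat_lit 0) (nat_lit 1) (nat_lit 0) (nat_lit 1) (nat_lit 0x11001100110010) (.cD (nat_lit 4) (.kc (nat_lit 20) (nat_lit 0x3001001)) (.cD (nat_lit 16) (.dfs (nat_lit 32)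 (nat_lit 4100) (nat_lit 4100) (nat_lit 0x1002001) (nat_lit 0x1002001) (nat_lit 0) (nat_lit 0) (nat_lit 3) (nat_lit 0) (nat_lit 0) (nat_lit 0) (nat_lit 1) (nat_lit 0) (nat_lit 1) (nat_lit 0) (nat_lit 1) (nat_lit 0x11001100110010) (.cD (nat_lit 4) (.kc (nat_lit 36) (nat_lit 0x5001001)) (.cD (nat_lit 16) (.kc (nat_lit 48) (nat_lit 0x3001001)) (.cD (nat_lit 20) (.kc (nat_lit 52) (nat_lit 0x7001001)) (.cD (nat_lit 32) (.dfs (nat_lit 9) (nat_lit 0x1004001003008) (nat_lit 0x1005001003008) (nat_lit 4098) (nat_lit 4098) (nat_lit 1) (nat_lit 0) (nat_lit 2) (nat_lit 1) (nat_lit 0) (nat_lit 8) (nat_lit 1) (nat_lit 0) (nat_lit 4100) (nat_lit 4) (nat_lit 0x100004c00005c) (nat_lit 0x100010000000000000000000) (.cD (nat_lit 76) (.kb (nat_lit 13) (nat_lit 0x100100001400600b001003) (nat_lit 0x1020010008044006003)) (.cD (nat_lit 92) (.kb (nat_lit 29) (nat_lit 0x100100001400600f001003) (nat_lit 0x1020010008044006003)) .nil))) (.cD (nat_lit 36) (.kA true (nat_lit 0x100100000400100300d001001001000003))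 (.cD (nat_lit 48) (.kA true (nat_lit 0x600800401000400400100300d001001001000003)) (.cD (nat_lit 52) (.kA true (nat_lit 0x5004003008001008004002005007001001000003)) .nil)))))))) (.cD (nat_lit 20) (.dfs (nat_lit 32) (nat_lit 4100) (nat_lit 4100) (nat_lit 0x1002001) (nat_lit 0x1002001) (nat_lit 0) (nat_lit 0) (nat_lit 3) (nat_lit 0) (nat_lit 0) (nat_lit 0) (nat_lit 1) (nat_lit 0) (nat_lit 1) (nat_lit 0) (nat_lit 1) (nat_lit 0x11001100110010) (.cD (nat_lit 4) (.kc (nat_lit 36) (nat_lit 0x5001001)) (.cD (nat_lit 16) (.kc (nat_lit 52) (nat_lit 0x7001001)) (.cD (nat_lit 20) (.kc (nat_lit 48) (nat_lit 0x3001001)) (.cD (nat_lit 32) (.kA true (nat_lit 0x5004003008001008004002005007001001000003)) (.cD (nat_lit 36) (.dfs (nat_lit 9) (nat_lit 4102) (nat_lit 4103) (nat_lit 1) (nat_lit 1) (nat_lit 1) (nat_lit 0) (nat_lit 1) (nat_lit 4112) (nat_lit 0x40020010008004002001) (nat_lit 0) (nat_lit 1) (nat_lit 0) (nat_lit 1) (nat_lit 0) (nat_lit 1) (nat_lit 0) .nil) (.cD (nat_lit 48) (.kA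 true (nat_lit 0x400300500800100400100300c001002)) (.cD (nat_lit 52) (.kA true (nat_lit 0x400700100800100400100300c001002)) .nil)))))))) (.cD (nat_lit 32) (.kF (nat_lit 16) (nat_lit 0x100400100c012004002002000003)) (.cD (nat_lit 36) (.kF (nat_lit 16) (nat_lit 0x100400100c012004002002000003)) (.cD (nat_lit 48) (.dfs (nat_lit 32) (nat_lit 4100) (nat_lit 4100) (nat_lit 0x1002001) (nat_lit 0x1002001) (nat_lit 0) (nat_lit 0) (nat_lit 3) (nat_lit 0) (nat_lit 0) (nat_lit 0) (nat_lit 1) (nat_lit 0) (nat_lit 1) (nat_lit 0) (nat_lit 1) (nat_lit 0x11001100110010) (.cD (nat_lit 4) (.kc (nat_lit 36) (nat_lit 0x5001001)) (.cD (nat_lit 16) (.kA true (nat_lit 0x400200100800100400100300c001002)) (.cD (nat_lit 20) (.kA true (nat_lit 0x400600500800100400100300c001002)) (.cD (nat_lit 32) (.kA true (nat_lit 0x5004003008001008004002005007001001000003)) (.cD (nat_lit 36) (.kA true (nat_lit 0x400500600800100400100300c001002)) (.cD (nat_lit 48) (.kc (nat_lit 48) (nat_lit 0x3001001)) (.cD (nat_lit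 52) (.kc (nat_lit 52) (nat_lit 0x7001001)) .nil)))))))) (.cD (nat_lit 52) (.dfs (nat_lit 32) (nat_lit 4100) (nat_lit 4100) (nat_lit 0x1002001) (nat_lit 0x1002001) (nat_lit 0) (nat_lit 0) (nat_lit 3) (nat_lit 0) (nat_lit 0) (nat_lit 0) (nat_lit 1) (nat_lit 0) (nat_lit 1) (nat_lit 0) (nat_lit 1) (nat_lit 0x11001100110010) (.cD (nat_lit 4) (.kc (nat_lit 36) (nat_lit 0x5001001)) (.cD (nat_lit 16) (.kA true (nat_lit 0x400200500800100400100300c001002)) (.cD (nat_lit 20) (.kA true (nat_lit 0x400600100800100400100300c001002)) (.cD (nat_lit 32) (.kA true (nat_lit 0x5004003008001008004002005007001001000003)) (.cD (nat_lit 36) (.kA true (nat_lit 0x400500200800100400100300c001002)) (.cD (nat_lit 48) (.kc (nat_lit 52) (nat_lit 0x7001001)) (.cD (nat_lit 52) (.kc (nat_lit 48) (nat_lit 0x3001001)) .nil)))))))) .nil)))))))) (.cD (nat_lit 8) (.dfs (nat_lit 16) (nat_lit 4098) (nat_lit 4098) (nat_lit 4097) (nat_lit 4097) (nat_lit 0) (nat_lit 0) (nat_lit 3) (nat_lit 0) (nat_lit 0) (nat_lit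 0) (nat_lit 1) (nat_lit 0) (nat_lit 1) (nat_lit 0) (nat_lit 1) (nat_lit 0x101010101010100) (.cD (nat_lit 8) (.kc (nat_lit 20) (nat_lit 0x3001001)) (.cD (nat_lit 16) (.dfs (nat_lit 32) (nat_lit 4100) (nat_lit 4100) (nat_lit 0x1002001) (nat_lit 0x1002001) (nat_lit 0) (nat_lit 0) (nat_lit 3) (nat_lit 0) (nat_lit 0) (nat_lit 0) (nat_lit 1) (nat_lit 0) (nat_lit 1) (nat_lit 0) (nat_lit 1) (nat_lit 0x101010101010100) (.cD (nat_lit 8) (.kc (nat_lit 36) (nat_lit 0x5001001)) (.cD (nat_lit 16) (.kc (nat_lit 48) (nat_lit 0x3001001)) (.cD (nat_lit 24) (.kc (nat_lit 52) (nat_lit 0x7001001)) (.cD (nat_lit 32) (.kA false (nat_lit 0x100400200c002006004008014005001001000003)) (.cD (nat_lit 40) (.kA false (nat_lit 0x100100000100500200d002001001000003)) (.cD (nat_lit 48) (.kA false (nat_lit 0xe00800c01000400700300200b002001001000003)) (.cD (nat_lit 56) (.kA false (nat_lit 0x700400200c002006004008014005001001000003)) .nil)))))))) (.cD (nat_lit 24) (.dfs (nat_lit 32) (nat_lit 4100) (nat_lit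 4100) (nat_lit 0x1002001) (nat_lit 0x1002001) (nat_lit 0) (nat_lit 0) (nat_lit 3) (nat_lit 0) (nat_lit 0) (nat_lit 0) (nat_lit 1) (nat_lit 0) (nat_lit 1) (nat_lit 0) (nat_lit 1) (nat_lit 0x101010101010100) (.cD (nat_lit 8) (.kc (nat_lit 36) (nat_lit 0x5001001)) (.cD (nat_lit 16) (.kc (nat_lit 52) (nat_lit 0x7001001)) (.cD (nat_lit 24) (.kc (nat_lit 48) (nat_lit 0x3001001)) (.cD (nat_lit 32) (.kA false (nat_lit 0x100400600c002006004008014005001001000003)) (.cD (nat_lit 40) (.kA false (nat_lit 0x100100000100500600d002001001000003)) (.cD (nat_lit 48) (.kA false (nat_lit 0x700400600c002006004008014005001001000003)) (.cD (nat_lit 56) (.kA false (nat_lit 0xe00800a01000400700300600b002001001000003)) .nil)))))))) (.cD (nat_lit 32) (.kF (nat_lit 16) (nat_lit 0x100400100c012004002002000003)) (.cD (nat_lit 40) (.kF (nat_lit 16) (nat_lit 0x100400100c012004002002000003)) (.cD (nat_lit 48) (.dfs (nat_lit 32) (nat_lit 4100) (nat_lit 4100) (nat_lit 0x1002001) (nat_lit 0x1002001)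 (nat_lit 0) (nat_lit 0) (nat_lit 3) (nat_lit 0) (nat_lit 0) (nat_lit 0) (nat_lit 1) (nat_lit 0) (nat_lit 1) (nat_lit 0) (nat_lit 1) (nat_lit 0x101010101010100) (.cD (nat_lit 8) (.kc (nat_lit 36) (nat_lit 0x5001001)) (.cD (nat_lit 16) (.kA false (nat_lit 0xe00800401000400700300100b002001001000003)) (.cD (nat_lit 24) (.kA false (nat_lit 0x700400500c002006004008014005001001000003)) (.cD (nat_lit 32) (.kA false (nat_lit 0x100400300c002006004008014005001001000003)) (.cD (nat_lit 40) (.kA false (nat_lit 0x100100000100500700d002001001000003)) (.cD (nat_lit 48) (.kc (nat_lit 48) (nat_lit 0x3001001)) (.cD (nat_lit 56) (.kc (nat_lit 52) (nat_lit 0x7001001)) .nil)))))))) (.cD (nat_lit 56) (.dfs (nat_lit 32) (nat_lit 4100) (nat_lit 4100) (nat_lit 0x1002001) (nat_lit 0x1002001) (nat_lit 0) (nat_lit 0) (nat_lit 3) (nat_lit 0) (nat_lit 0) (nat_lit 0) (nat_lit 1) (nat_lit 0) (nat_lit 1) (nat_lit 0) (nat_lit 1) (nat_lit 0x101010101010100) (.cD (nat_lit 8) (.kc (nat_lit 36) (nat_lit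 0x5001001)) (.cD (nat_lit 16) (.kA false (nat_lit 0x700400100c002006004008014005001001000003)) (.cD (nat_lit 24) (.kA false (nat_lit 0xe00800201000400700300500b002001001000003)) (.cD (nat_lit 32) (.kA false (nat_lit 0x100400700c002006004008014005001001000003)) (.cD (nat_lit 40) (.kA false (nat_lit 0x100100000100500300d002001001000003)) (.cD (nat_lit 48) (.kc (nat_lit 52) (nat_lit 0x7001001)) (.cD (nat_lit 56) (.kc (nat_lit 48) (nat_lit 0x3001001)) .nil)))))))) .nil)))))))) (.cD (nat_lit 16) (.kF (nat_lit 4) (nat_lit 0x2002000001003001002)) (.cD (nat_lit 20) (.kF (nat_lit 4) (nat_lit 0xe01e003001003001002)) (.cD (nat_lit 24) (.kF (nat_lit 4) (nat_lit 0x1002001002012004002002000003)) (.cD (nat_lit 32) (.dfs (nat_lit 16) (nat_lit 4098) (nat_lit 4098) (nat_lit 4097) (nat_lit 4097) (nat_lit 0) (nat_lit 0) (nat_lit 3) (nat_lit 0) (nat_lit 0) (nat_lit 0) (nat_lit 1) (nat_lit 0) (nat_lit 0x1008004) (nat_lit 32772) (nat_lit 0x1001004000008001014000018) (nat_lit 0x1000101110110)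 (.cD (nat_lit 4) (.kF (nat_lit 16) (nat_lit 0x1001000001006001002)) (.cD (nat_lit 8) (.kF (nat_lit 16) (nat_lit 0x1001000001006001002)) (.cD (nat_lit 16) (.dfs (nat_lit 32) (nat_lit 4100) (nat_lit 4100) (nat_lit 0x1002001) (nat_lit 0x1002001) (nat_lit 0) (nat_lit 0) (nat_lit 3) (nat_lit 0) (nat_lit 0) (nat_lit 0) (nat_lit 1) (nat_lit 0) (nat_lit 0x1008004) (nat_lit 32772) (nat_lit 0x1001004000008001014000018) (nat_lit 0x1000101110110) (.cD (nat_lit 4) (.kA true (nat_lit 0x100400600c002001001000002)) (.cD (nat_lit 8) (.kA false (nat_lit 0x500400200c002001001000002)) (.cD (nat_lit 16) (.kc (nat_lit 48) (nat_lit 0x3001001)) (.cD (nat_lit 20) (.kA true (nat_lit 0x300400600c002001001000002)) (.cD (nat_lit 24) (.kA false (nat_lit 0x700400200c002001001000002)) (.cD (nat_lit 32) (.kc (nat_lit 36) (nat_lit 0x5001001)) (.cD (nat_lit 48) (.kc (nat_lit 52) (nat_lit 0x7001001)) .nil)))))))) (.cD (nat_lit 20) (.dfs (nat_lit 32) (nat_lit 4100) (nat_lit 4100) (nat_lit 0x1002001)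 (nat_lit 0x1002001) (nat_lit 0) (nat_lit 0) (nat_lit 3) (nat_lit 0) (nat_lit 0) (nat_lit 0) (nat_lit 1) (nat_lit 0) (nat_lit 1) (nat_lit 0) (nat_lit 1) (nat_lit 0x11001100110010) (.cD (nat_lit 4) (.kA true (nat_lit 0x100400700c002001001000002)) (.cD (nat_lit 16) (.kA true (nat_lit 0x300400500c002001001000002)) (.cD (nat_lit 20) (.kc (nat_lit 48) (nat_lit 0x3001001)) (.cD (nat_lit 32) (.kc (nat_lit 36) (nat_lit 0x5001001)) (.cD (nat_lit 36) (.dfs (nat_lit 9) (nat_lit 4100) (nat_lit 4101) (nat_lit 1) (nat_lit 1) (nat_lit 1) (nat_lit 0) (nat_lit 1) (nat_lit 4128) (nat_lit 0x40020010008004002001) (nat_lit 0) (nat_lit 1) (nat_lit 0) (nat_lit 1) (nat_lit 0) (nat_lit 1) (nat_lit 0) .nil) (.cD (nat_lit 48) (.kA true (nat_lit 0x700400100c002001001000002)) (.cD (nat_lit 52) (.kc (nat_lit 52) (nat_lit 0x7001001)) .nil)))))))) (.cD (nat_lit 24) (.dfs (nat_lit 32) (nat_lit 4100) (nat_lit 4100) (nat_lit 0x1002001) (nat_lit 0x1002001) (nat_lit 0) (nat_lit 0) (nat_lit 3) (nat_lit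 0) (nat_lit 0) (nat_lit 0) (nat_lit 1) (nat_lit 0) (nat_lit 1) (nat_lit 0) (nat_lit 1) (nat_lit 0x101010101010100) (.cD (nat_lit 8) (.kA false (nat_lit 0x500400300c002001001000002)) (.cD (nat_lit 16) (.kA false (nat_lit 0x700400100c002001001000002)) (.cD (nat_lit 24) (.kc (nat_lit 48) (nat_lit 0x3001001)) (.cD (nat_lit 32) (.kc (nat_lit 36) (nat_lit 0x5001001)) (.cD (nat_lit 40) (.kA false (nat_lit 0x100400700c002001001000002)) (.cD (nat_lit 48) (.kA false (nat_lit 0x300400500c002001001000002)) (.cD (nat_lit 56) (.kc (nat_lit 52) (nat_lit 0x7001001)) .nil)))))))) (.cD (nat_lit 32) (.kc (nat_lit 20) (nat_lit 0x3001001)) (.cD (nat_lit 48) (.dfs (nat_lit 32) (nat_lit 4100) (nat_lit 4100) (nat_lit 0x1002001) (nat_lit 0x1002001) (nat_lit 0) (nat_lit 0) (nat_lit 3) (nat_lit 0) (nat_lit 0) (nat_lit 0) (nat_lit 1) (nat_lit 0) (nat_lit 0x1008004) (nat_lit 32772) (nat_lit 0x1001004000008001014000018) (nat_lit 0x1000101110110) (.cD (nat_lit 4) (.kA true (nat_lit 0x100400200c002001001000002))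 (.cD (nat_lit 8) (.kA false (nat_lit 0x500400600c002001001000002)) (.cD (nat_lit 16) (.kc (nat_lit 52) (nat_lit 0x7001001)) (.cD (nat_lit 20) (.kA true (nat_lit 0x700400200c002001001000002)) (.cD (nat_lit 24) (.kA false (nat_lit 0x300400600c002001001000002)) (.cD (nat_lit 32) (.kc (nat_lit 36) (nat_lit 0x5001001)) (.cD (nat_lit 48) (.kc (nat_lit 48) (nat_lit 0x3001001)) .nil)))))))) .nil)))))))) (.cD (nat_lit 48) (.kF (nat_lit 4) (nat_lit 0x1002001002012004002002000003)) .nil))))))))))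
theorem c224 : (chk [] [] p224).n x105 s224 = true := by decide +kernel
noncomputable def p225 : Pf := (.anc (nat_lit 68) (nat_lit 0x10002002002000002) (nat_lit 0x1009020010004) (.czp (nat_lit 64) (nat_lit 0) (nat_lit 0x1040020010008004) z6 (.dfs (nat_lit 4) (nat_lit 4097) (nat_lit 4097) (nat_lit 1) (nat_lit 1) (nat_lit 0) (nat_lit 0) (nat_lit 3) (nat_lit 0) (nat_lit 0) (nat_lit 0) (nat_lit 1) (nat_lit 0) (nat_lit 0x1008004) (nat_lit 32772) (nat_lit 0x1001004000008001014000018) (nat_lit 0x1000101110110) (.cD (nat_lit 4) (.dfs (nat_lit 16) (nat_lit 4098) (nat_lit 4098) (nat_lit 4097) (nat_lit 4097) (nat_lit 0) (nat_lit 0) (nat_lit 3) (nat_lit 0) (nat_lit 0) (nat_lit 0) (nat_lit 1) (nat_lit 0) (nat_lit 1) (nat_lit 0) (nat_lit 1) (nat_lit 0x11001100110010) (.cD (nat_lit 4) (.kc (nat_lit 20) (nat_lit 0x3001001)) (.cD (nat_lit 16) (.dfs (nat_lit 32) (nat_lit 4100) (nat_lit 4100) (nat_lit 0x1002001) (nat_lit 0x1002001) (nat_lit 0) (nat_lit 0) (nat_lit 3) (nat_lit 0) (nat_lit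 0) (nat_lit 0) (nat_lit 1) (nat_lit 0) (nat_lit 1) (nat_lit 0) (nat_lit 1) (nat_lit 0x11001100110010) (.cD (nat_lit 4) (.kc (nat_lit 36) (nat_lit 0x5001001)) (.cD (nat_lit 16) (.kc (nat_lit 48) (nat_lit 0x3001001)) (.cD (nat_lit 20) (.kc (nat_lit 52) (nat_lit 0x7001001)) (.cD (nat_lit 32) (.dfs (nat_lit 9) (nat_lit 0x1004001003008) (nat_lit 0x1005001003008) (nat_lit 4098) (nat_lit 4098) (nat_lit 3) (nat_lit 0) (nat_lit 2) (nat_lit 1) (nat_lit 0) (nat_lit 8) (nat_lit 1) (nat_lit 0) (nat_lit 1) (nat_lit 0) (nat_lit 1) (nat_lit 0) .nil) (.cD (nat_lit 36) (.kA true (nat_lit 0x1100100000400100300d001011001000003)) (.cD (nat_lit 48) (.kA true (nat_lit 0x600800401000400400100300d001011001000003)) (.cD (nat_lit 52) (.kA true (nat_lit 0x5004003008001008004002005007011001000003)) .nil)))))))) (.cD (nat_lit 20) (.dfs (nat_lit 32) (nat_lit 4100) (nat_lit 4100) (nat_lit 0x1002001) (nat_lit 0x1002001) (nat_lit 0) (nat_lit 0) (nat_lit 3) (nat_lit 0) (nat_lit 0) (nat_lit 0) (nat_lit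 1) (nat_lit 0) (nat_lit 1) (nat_lit 0) (nat_lit 1) (nat_lit 0x11001100110010) (.cD (nat_lit 4) (.kc (nat_lit 36) (nat_lit 0x5001001)) (.cD (nat_lit 16) (.kc (nat_lit 52) (nat_lit 0x7001001)) (.cD (nat_lit 20) (.kc (nat_lit 48) (nat_lit 0x3001001)) (.cD (nat_lit 32) (.kA true (nat_lit 0x5004003008001008004002005007011001000003)) (.cD (nat_lit 36) (.dfs (nat_lit 9) (nat_lit 4102) (nat_lit 4103) (nat_lit 1) (nat_lit 1) (nat_lit 3) (nat_lit 0) (nat_lit 1) (nat_lit 4112) (nat_lit 0x40020010008004002011) (nat_lit 0) (nat_lit 1) (nat_lit 0) (nat_lit 1) (nat_lit 0) (nat_lit 1) (nat_lit 0) .nil) (.cD (nat_lit 48) (.kA true (nat_lit 0x400300500800100400100300c001002)) (.cD (nat_lit 52) (.kA true (nat_lit 0x400700100800100400100300c001002)) .nil)))))))) (.cD (nat_lit 32) (.kF (nat_lit 16) (nat_lit 0x100400100c012004002002000003)) (.cD (nat_lit 36) (.kF (nat_lit 16) (nat_lit 0x100400100c012004002002000003)) (.cD (nat_lit 48) (.dfs (nat_lit 32) (nat_lit 4100) (nat_lit 4100) (nat_lit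 0x1002001) (nat_lit 0x1002001) (nat_lit 0) (nat_lit 0) (nat_lit 3) (nat_lit 0) (nat_lit 0) (nat_lit 0) (nat_lit 1) (nat_lit 0) (nat_lit 1) (nat_lit 0) (nat_lit 1) (nat_lit 0x11001100110010) (.cD (nat_lit 4) (.kc (nat_lit 36) (nat_lit 0x5001001)) (.cD (nat_lit 16) (.kA true (nat_lit 0x400200100800100400100300c001002)) (.cD (nat_lit 20) (.kA true (nat_lit 0x400600500800100400100300c001002)) (.cD (nat_lit 32) (.kA true (nat_lit 0x5004003008001008004002005007011001000003)) (.cD (nat_lit 36) (.kA true (nat_lit 0x400500600800100400100300c001002)) (.cD (nat_lit 48) (.kc (nat_lit 48) (nat_lit 0x3001001)) (.cD (nat_lit 52) (.kc (nat_lit 52) (nat_lit 0x7001001)) .nil)))))))) (.cD (nat_lit 52) (.dfs (nat_lit 32) (nat_lit 4100) (nat_lit 4100) (nat_lit 0x1002001) (nat_lit 0x1002001) (nat_lit 0) (nat_lit 0) (nat_lit 3) (nat_lit 0) (nat_lit 0) (nat_lit 0) (nat_lit 1) (nat_lit 0) (nat_lit 1) (nat_lit 0) (nat_lit 1) (nat_lit 0x11001100110010) (.cD (nat_lit 4) (.kc (nat_lit 36) (nat_lit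 0x5001001)) (.cD (nat_lit 16) (.kA true (nat_lit 0x400200500800100400100300c001002)) (.cD (nat_lit 20) (.kA true (nat_lit 0x400600100800100400100300c001002)) (.cD (nat_lit 32) (.kA true (nat_lit 0x5004003008001008004002005007011001000003)) (.cD (nat_lit 36) (.kA true (nat_lit 0x400500200800100400100300c001002)) (.cD (nat_lit 48) (.kc (nat_lit 52) (nat_lit 0x7001001)) (.cD (nat_lit 52) (.kc (nat_lit 48) (nat_lit 0x3001001)) .nil)))))))) .nil)))))))) (.cD (nat_lit 8) (.dfs (nat_lit 16) (nat_lit 4098) (nat_lit 4098) (nat_lit 4097) (nat_lit 4097) (nat_lit 0) (nat_lit 0) (nat_lit 3) (nat_lit 0) (nat_lit 0) (nat_lit 0) (nat_lit 1) (nat_lit 0) (nat_lit 1) (nat_lit 0) (nat_lit 1) (nat_lit 0x101010101010100) (.cD (nat_lit 8) (.kc (nat_lit 20) (nat_lit 0x3001001)) (.cD (nat_lit 16) (.dfs (nat_lit 32) (nat_lit 4100) (nat_lit 4100) (nat_lit 0x1002001) (nat_lit 0x1002001) (nat_lit 0) (nat_lit 0) (nat_lit 3) (nat_lit 0) (nat_lit 0) (nat_lit 0) (nat_lit 1) (nat_lit 0) (nat_lit 1)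 (nat_lit 0) (nat_lit 1) (nat_lit 0x101010101010100) (.cD (nat_lit 8) (.kc (nat_lit 36) (nat_lit 0x5001001)) (.cD (nat_lit 16) (.kc (nat_lit 48) (nat_lit 0x3001001)) (.cD (nat_lit 24) (.kc (nat_lit 52) (nat_lit 0x7001001)) (.cD (nat_lit 32) (.kA false (nat_lit 0x100400200c002006004008014005011001000003)) (.cD (nat_lit 40) (.kA false (nat_lit 0x1100100000100500200d002011001000003)) (.cD (nat_lit 48) (.kA false (nat_lit 0xe00800c01000400700300200b002011001000003)) (.cD (nat_lit 56) (.kA false (nat_lit 0x700400200c002006004008014005011001000003)) .nil)))))))) (.cD (nat_lit 24) (.dfs (nat_lit 32) (nat_lit 4100) (nat_lit 4100) (nat_lit 0x1002001) (nat_lit 0x1002001) (nat_lit 0) (nat_lit 0) (nat_lit 3) (nat_lit 0) (nat_lit 0) (nat_lit 0) (nat_lit 1) (nat_lit 0) (nat_lit 1) (nat_lit 0) (nat_lit 1) (nat_lit 0x101010101010100) (.cD (nat_lit 8) (.kc (nat_lit 36) (nat_lit 0x5001001)) (.cD (nat_lit 16) (.kc (nat_lit 52) (nat_lit 0x7001001)) (.cD (nat_lit 24) (.kc (nat_lit 48)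 (nat_lit 0x3001001)) (.cD (nat_lit 32) (.kA false (nat_lit 0x100400600c002006004008014005011001000003)) (.cD (nat_lit 40) (.kA false (nat_lit 0x1100100000100500600d002011001000003)) (.cD (nat_lit 48) (.kA false (nat_lit 0x700400600c002006004008014005011001000003)) (.cD (nat_lit 56) (.kA false (nat_lit 0xe00800a01000400700300600b002011001000003)) .nil)))))))) (.cD (nat_lit 32) (.kF (nat_lit 16) (nat_lit 0x100400100c012004002002000003)) (.cD (nat_lit 40) (.kF (nat_lit 16) (nat_lit 0x100400100c012004002002000003)) (.cD (nat_lit 48) (.dfs (nat_lit 32) (nat_lit 4100) (nat_lit 4100) (nat_lit 0x1002001) (nat_lit 0x1002001) (nat_lit 0) (nat_lit 0) (nat_lit 3) (nat_lit 0) (nat_lit 0) (nat_lit 0) (nat_lit 1) (nat_lit 0) (nat_lit 1) (nat_lit 0) (nat_lit 1) (nat_lit 0x101010101010100) (.cD (nat_lit 8) (.kc (nat_lit 36) (nat_lit 0x5001001)) (.cD (nat_lit 16) (.kA false (nat_lit 0xe00800401000400700300100b002011001000003)) (.cD (nat_lit 24) (.kA false (nat_lit 0x700400500c002006004008014005011001000003))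 (.cD (nat_lit 32) (.kA false (nat_lit 0x100400300c002006004008014005011001000003)) (.cD (nat_lit 40) (.kA false (nat_lit 0x1100100000100500700d002011001000003)) (.cD (nat_lit 48) (.kc (nat_lit 48) (nat_lit 0x3001001)) (.cD (nat_lit 56) (.kc (nat_lit 52) (nat_lit 0x7001001)) .nil)))))))) (.cD (nat_lit 56) (.dfs (nat_lit 32) (nat_lit 4100) (nat_lit 4100) (nat_lit 0x1002001) (nat_lit 0x1002001) (nat_lit 0) (nat_lit 0) (nat_lit 3) (nat_lit 0) (nat_lit 0) (nat_lit 0) (nat_lit 1) (nat_lit 0) (nat_lit 1) (nat_lit 0) (nat_lit 1) (nat_lit 0x101010101010100) (.cD (nat_lit 8) (.kc (nat_lit 36) (nat_lit 0x5001001)) (.cD (nat_lit 16) (.kA false (nat_lit 0x700400100c002006004008014005011001000003)) (.cD (nat_lit 24) (.kA false (nat_lit 0xe00800201000400700300500b002011001000003)) (.cD (nat_lit 32) (.kA false (nat_lit 0x100400700c002006004008014005011001000003)) (.cD (nat_lit 40) (.kA false (nat_lit 0x1100100000100500300d002011001000003)) (.cD (nat_lit 48) (.kc (nat_lit 52) (nat_lit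 0x7001001)) (.cD (nat_lit 56) (.kc (nat_lit 48) (nat_lit 0x3001001)) .nil)))))))) .nil)))))))) (.cD (nat_lit 16) (.kF (nat_lit 4) (nat_lit 0x2002000001003001002)) (.cD (nat_lit 20) (.kF (nat_lit 4) (nat_lit 0xe01e003001003001002)) (.cD (nat_lit 24) (.kF (nat_lit 4) (nat_lit 0x1002001002012004002002000003)) (.cD (nat_lit 32) (.dfs (nat_lit 16) (nat_lit 4098) (nat_lit 4098) (nat_lit 4097) (nat_lit 4097) (nat_lit 0) (nat_lit 0) (nat_lit 3) (nat_lit 0) (nat_lit 0) (nat_lit 0) (nat_lit 1) (nat_lit 0) (nat_lit 0x1008004) (nat_lit 32772) (nat_lit 0x1001004000008001014000018) (nat_lit 0x1000101110110) (.cD (nat_lit 4) (.kF (nat_lit 16) (nat_lit 0x11001000001006001002)) (.cD (nat_lit 8) (.kF (nat_lit 16) (nat_lit 0x11001000001006001002)) (.cD (nat_lit 16) (.dfs (nat_lit 32) (nat_lit 4100) (nat_lit 4100) (nat_lit 0x1002001) (nat_lit 0x1002001) (nat_lit 0) (nat_lit 0) (nat_lit 3) (nat_lit 0) (nat_lit 0) (nat_lit 0) (nat_lit 1) (nat_lit 0) (nat_lit 0x1008004) (nat_lit 32772)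 (nat_lit 0x1001004000008001014000018) (nat_lit 0x1000101110110) (.cD (nat_lit 4) (.kA true (nat_lit 0x100400600c002011001000002)) (.cD (nat_lit 8) (.kA false (nat_lit 0x500400200c002011001000002)) (.cD (nat_lit 16) (.kc (nat_lit 48) (nat_lit 0x3001001)) (.cD (nat_lit 20) (.kA true (nat_lit 0x300400600c002011001000002)) (.cD (nat_lit 24) (.kA false (nat_lit 0x700400200c002011001000002)) (.cD (nat_lit 32) (.kc (nat_lit 36) (nat_lit 0x5001001)) (.cD (nat_lit 48) (.kc (nat_lit 52) (nat_lit 0x7001001)) .nil)))))))) (.cD (nat_lit 20) (.dfs (nat_lit 32) (nat_lit 4100) (nat_lit 4100) (nat_lit 0x1002001) (nat_lit 0x1002001) (nat_lit 0) (nat_lit 0) (nat_lit 3) (nat_lit 0) (nat_lit 0) (nat_lit 0) (nat_lit 1) (nat_lit 0) (nat_lit 1) (nat_lit 0) (nat_lit 1) (nat_lit 0x11001100110010) (.cD (nat_lit 4) (.kA true (nat_lit 0x100400700c002011001000002)) (.cD (nat_lit 16) (.kA true (nat_lit 0x300400500c002011001000002)) (.cD (nat_lit 20) (.kc (nat_lit 48) (nat_lit 0x3001001)) (.cD (nat_lit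 32) (.kc (nat_lit 36) (nat_lit 0x5001001)) (.cD (nat_lit 36) (.dfs (nat_lit 9) (nat_lit 4100) (nat_lit 4101) (nat_lit 1) (nat_lit 1) (nat_lit 3) (nat_lit 0) (nat_lit 1) (nat_lit 4128) (nat_lit 0x40020010008004002011) (nat_lit 0) (nat_lit 1) (nat_lit 0) (nat_lit 1) (nat_lit 0) (nat_lit 1) (nat_lit 0) .nil) (.cD (nat_lit 48) (.kA true (nat_lit 0x700400100c002011001000002)) (.cD (nat_lit 52) (.kc (nat_lit 52) (nat_lit 0x7001001)) .nil)))))))) (.cD (nat_lit 24) (.dfs (nat_lit 32) (nat_lit 4100) (nat_lit 4100) (nat_lit 0x1002001) (nat_lit 0x1002001) (nat_lit 0) (nat_lit 0) (nat_lit 3) (nat_lit 0) (nat_lit 0) (nat_lit 0) (nat_lit 1) (nat_lit 0) (nat_lit 1) (nat_lit 0) (nat_lit 1) (nat_lit 0x101010101010100) (.cD (nat_lit 8) (.kA false (nat_lit 0x500400300c002011001000002)) (.cD (nat_lit 16) (.kA false (nat_lit 0x700400100c002011001000002)) (.cD (nat_lit 24) (.kc (nat_lit 48) (nat_lit 0x3001001)) (.cD (nat_lit 32) (.kc (nat_lit 36) (nat_lit 0x5001001)) (.cD (nat_lit 40)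 (.kA false (nat_lit 0x100400700c002011001000002)) (.cD (nat_lit 48) (.kA false (nat_lit 0x300400500c002011001000002)) (.cD (nat_lit 56) (.kc (nat_lit 52) (nat_lit 0x7001001)) .nil)))))))) (.cD (nat_lit 32) (.kc (nat_lit 20) (nat_lit 0x3001001)) (.cD (nat_lit 48) (.dfs (nat_lit 32) (nat_lit 4100) (nat_lit 4100) (nat_lit 0x1002001) (nat_lit 0x1002001) (nat_lit 0) (nat_lit 0) (nat_lit 3) (nat_lit 0) (nat_lit 0) (nat_lit 0) (nat_lit 1) (nat_lit 0) (nat_lit 0x1008004) (nat_lit 32772) (nat_lit 0x1001004000008001014000018) (nat_lit 0x1000101110110) (.cD (nat_lit 4) (.kA true (nat_lit 0x100400200c002011001000002)) (.cD (nat_lit 8) (.kA false (nat_lit 0x500400600c002011001000002)) (.cD (nat_lit 16) (.kc (nat_lit 52) (nat_lit 0x7001001)) (.cD (nat_lit 20) (.kA true (nat_lit 0x700400200c002011001000002)) (.cD (nat_lit 24) (.kA false (nat_lit 0x300400600c002011001000002)) (.cD (nat_lit 32) (.kc (nat_lit 36) (nat_lit 0x5001001)) (.cD (nat_lit 48) (.kc (nat_lit 48) (nat_lit 0x3001001))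 .nil)))))))) .nil)))))))) (.cD (nat_lit 48) (.kF (nat_lit 4) (nat_lit 0x1002001002012004002002000003)) .nil))))))))))
theorem c225 : (chk [] [] p225).n x106 s225 = true := by decide +kernel
noncomputable def p226 : Pf := (.anc (nat_lit 68) (nat_lit 0x10002002002000002) (nat_lit 0x1009020010004) (.czp (nat_lit 64) (nat_lit 0) (nat_lit 0x1040020010008004) z6 (.dfs (nat_lit 4) (nat_lit 4097) (nat_lit 4097) (nat_lit 1) (nat_lit 1) (nat_lit 0) (nat_lit 0) (nat_lit 3) (nat_lit 0) (nat_lit 0) (nat_lit 0) (nat_lit 1) (nat_lit 0) (nat_lit 0x1008004) (nat_lit 32772) (nat_lit 0x1001004000008001014000018) (nat_lit 0x1000101110110) (.cD (nat_lit 4) (.dfs (nat_lit 16) (nat_lit 4098) (nat_lit 4098) (nat_lit 4097) (nat_lit 4097) (nat_lit 0) (nat_lit 0) (nat_lit 3) (nat_lit 0) (nat_lit 0) (nat_lit 0) (nat_lit 1) (nat_lit 0) (nat_lit 1) (nat_lit 0) (nat_lit 1) (nat_lit 0x11001100110010) (.cD (nat_lit 4) (.kc (nat_lit 20) (nat_lit 0x3001001)) (.cD (nat_lit 16) (.dfs (nat_lit 32) (nat_lit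 4100) (nat_lit 4100) (nat_lit 0x1002001) (nat_lit 0x1002001) (nat_lit 0) (nat_lit 0) (nat_lit 3) (nat_lit 0) (nat_lit 0) (nat_lit 0) (nat_lit 1) (nat_lit 0) (nat_lit 1) (nat_lit 0) (nat_lit 1) (nat_lit 0x11001100110010) (.cD (nat_lit 4) (.kc (nat_lit 36) (nat_lit 0x5001001)) (.cD (nat_lit 16) (.kc (nat_lit 48) (nat_lit 0x3001001)) (.cD (nat_lit 20) (.kc (nat_lit 52) (nat_lit 0x7001001)) (.cD (nat_lit 32) (.dfs (nat_lit 9) (nat_lit 0x1004001003008) (nat_lit 0x1005001003008) (nat_lit 4098) (nat_lit 4098) (nat_lit 3) (nat_lit 0) (nat_lit 2) (nat_lit 1) (nat_lit 0) (nat_lit 8) (nat_lit 1) (nat_lit 0) (nat_lit 1) (nat_lit 0) (nat_lit 1) (nat_lit 0) .nil) (.cD (nat_lit 36) (.kA true (nat_lit 0x1100100000400100300d001011001000003)) (.cD (nat_lit 48) (.kA true (nat_lit 0x600800401000400400100300d001011001000003)) (.cD (nat_lit 52) (.kA true (nat_lit 0x5004003008001008004002005007011001000003)) .nil)))))))) (.cD (nat_lit 20) (.dfs (nat_lit 32) (nat_lit 4100) (nat_lit 4100)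 (nat_lit 0x1002001) (nat_lit 0x1002001) (nat_lit 0) (nat_lit 0) (nat_lit 3) (nat_lit 0) (nat_lit 0) (nat_lit 0) (nat_lit 1) (nat_lit 0) (nat_lit 1) (nat_lit 0) (nat_lit 1) (nat_lit 0x11001100110010) (.cD (nat_lit 4) (.kc (nat_lit 36) (nat_lit 0x5001001)) (.cD (nat_lit 16) (.kc (nat_lit 52) (nat_lit 0x7001001)) (.cD (nat_lit 20) (.kc (nat_lit 48) (nat_lit 0x3001001)) (.cD (nat_lit 32) (.kA true (nat_lit 0x5004003008001008004002005007011001000003)) (.cD (nat_lit 36) (.dfs (nat_lit 9) (nat_lit 4102) (nat_lit 4103) (nat_lit 1) (nat_lit 1) (nat_lit 3) (nat_lit 0) (nat_lit 1) (nat_lit 4112) (nat_lit 0x40020010008004002011) (nat_lit 0) (nat_lit 1) (nat_lit 0) (nat_lit 1) (nat_lit 0) (nat_lit 1) (nat_lit 0) .nil) (.cD (nat_lit 48) (.kA true (nat_lit 0x400300500800100400100300c001002)) (.cD (nat_lit 52) (.kA true (nat_lit 0x400700100800100400100300c001002)) .nil)))))))) (.cD (nat_lit 32) (.kF (nat_lit 16) (nat_lit 0x100400100c012004002002000003)) (.cD (nat_lit 36) (.kF (nat_lit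 16) (nat_lit 0x100400100c012004002002000003)) (.cD (nat_lit 48) (.dfs (nat_lit 32) (nat_lit 4100) (nat_lit 4100) (nat_lit 0x1002001) (nat_lit 0x1002001) (nat_lit 0) (nat_lit 0) (nat_lit 3) (nat_lit 0) (nat_lit 0) (nat_lit 0) (nat_lit 1) (nat_lit 0) (nat_lit 1) (nat_lit 0) (nat_lit 1) (nat_lit 0x11001100110010) (.cD (nat_lit 4) (.kc (nat_lit 36) (nat_lit 0x5001001)) (.cD (nat_lit 16) (.kA true (nat_lit 0x400200100800100400100300c001002)) (.cD (nat_lit 20) (.kA true (nat_lit 0x400600500800100400100300c001002)) (.cD (nat_lit 32) (.kA true (nat_lit 0x5004003008001008004002005007011001000003)) (.cD (nat_lit 36) (.kA true (nat_lit 0x400500600800100400100300c001002)) (.cD (nat_lit 48) (.kc (nat_lit 48) (nat_lit 0x3001001)) (.cD (nat_lit 52) (.kc (nat_lit 52) (nat_lit 0x7001001)) .nil)))))))) (.cD (nat_lit 52) (.dfs (nat_lit 32) (nat_lit 4100) (nat_lit 4100) (nat_lit 0x1002001) (nat_lit 0x1002001) (nat_lit 0) (nat_lit 0) (nat_lit 3) (nat_lit 0) (nat_lit 0) (nat_lit 0) (nat_lit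 1) (nat_lit 0) (nat_lit 1) (nat_lit 0) (nat_lit 1) (nat_lit 0x11001100110010) (.cD (nat_lit 4) (.kc (nat_lit 36) (nat_lit 0x5001001)) (.cD (nat_lit 16) (.kA true (nat_lit 0x400200500800100400100300c001002)) (.cD (nat_lit 20) (.kA true (nat_lit 0x400600100800100400100300c001002)) (.cD (nat_lit 32) (.kA true (nat_lit 0x5004003008001008004002005007011001000003)) (.cD (nat_lit 36) (.kA true (nat_lit 0x400500200800100400100300c001002)) (.cD (nat_lit 48) (.kc (nat_lit 52) (nat_lit 0x7001001)) (.cD (nat_lit 52) (.kc (nat_lit 48) (nat_lit 0x3001001)) .nil)))))))) .nil)))))))) (.cD (nat_lit 8) (.dfs (nat_lit 16) (nat_lit 4098) (nat_lit 4098) (nat_lit 4097) (nat_lit 4097) (nat_lit 0) (nat_lit 0) (nat_lit 3) (nat_lit 0) (nat_lit 0) (nat_lit 0) (nat_lit 1) (nat_lit 0) (nat_lit 1) (nat_lit 0) (nat_lit 1) (nat_lit 0x101010101010100) (.cD (nat_lit 8) (.kc (nat_lit 20) (nat_lit 0x3001001)) (.cD (nat_lit 16) (.dfs (nat_lit 32) (nat_lit 4100) (nat_lit 4100) (nat_lit 0x1002001) (nat_lit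 0x1002001) (nat_lit 0) (nat_lit 0) (nat_lit 3) (nat_lit 0) (nat_lit 0) (nat_lit 0) (nat_lit 1) (nat_lit 0) (nat_lit 1) (nat_lit 0) (nat_lit 1) (nat_lit 0x101010101010100) (.cD (nat_lit 8) (.kc (nat_lit 36) (nat_lit 0x5001001)) (.cD (nat_lit 16) (.kc (nat_lit 48) (nat_lit 0x3001001)) (.cD (nat_lit 24) (.kc (nat_lit 52) (nat_lit 0x7001001)) (.cD (nat_lit 32) (.kA false (nat_lit 0x100400200c002006004008014005011001000003)) (.cD (nat_lit 40) (.kA false (nat_lit 0x1100100000100500200d002011001000003)) (.cD (nat_lit 48) (.kA false (nat_lit 0xe00800c01000400700300200b002011001000003)) (.cD (nat_lit 56) (.kA false (nat_lit 0x700400200c002006004008014005011001000003)) .nil)))))))) (.cD (nat_lit 24) (.dfs (nat_lit 32) (nat_lit 4100) (nat_lit 4100) (nat_lit 0x1002001) (nat_lit 0x1002001) (nat_lit 0) (nat_lit 0) (nat_lit 3) (nat_lit 0) (nat_lit 0) (nat_lit 0) (nat_lit 1) (nat_lit 0) (nat_lit 1) (nat_lit 0) (nat_lit 1) (nat_lit 0x101010101010100) (.cD (nat_lit 8) (.kc (nat_lit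 36) (nat_lit 0x5001001)) (.cD (nat_lit 16) (.kc (nat_lit 52) (nat_lit 0x7001001)) (.cD (nat_lit 24) (.kc (nat_lit 48) (nat_lit 0x3001001)) (.cD (nat_lit 32) (.kA false (nat_lit 0x100400600c002006004008014005011001000003)) (.cD (nat_lit 40) (.kA false (nat_lit 0x1100100000100500600d002011001000003)) (.cD (nat_lit 48) (.kA false (nat_lit 0x700400600c002006004008014005011001000003)) (.cD (nat_lit 56) (.kA false (nat_lit 0xe00800a01000400700300600b002011001000003)) .nil)))))))) (.cD (nat_lit 32) (.kF (nat_lit 16) (nat_lit 0x100400100c012004002002000003)) (.cD (nat_lit 40) (.kF (nat_lit 16) (nat_lit 0x100400100c012004002002000003)) (.cD (nat_lit 48) (.dfs (nat_lit 32) (nat_lit 4100) (nat_lit 4100) (nat_lit 0x1002001) (nat_lit 0x1002001) (nat_lit 0) (nat_lit 0) (nat_lit 3) (nat_lit 0) (nat_lit 0) (nat_lit 0) (nat_lit 1) (nat_lit 0) (nat_lit 1) (nat_lit 0) (nat_lit 1) (nat_lit 0x101010101010100) (.cD (nat_lit 8) (.kc (nat_lit 36) (nat_lit 0x5001001)) (.cD (nat_lit 16) (.kA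 false (nat_lit 0xe00800401000400700300100b002011001000003)) (.cD (nat_lit 24) (.kA false (nat_lit 0x700400500c002006004008014005011001000003)) (.cD (nat_lit 32) (.kA false (nat_lit 0x100400300c002006004008014005011001000003)) (.cD (nat_lit 40) (.kA false (nat_lit 0x1100100000100500700d002011001000003)) (.cD (nat_lit 48) (.kc (nat_lit 48) (nat_lit 0x3001001)) (.cD (nat_lit 56) (.kc (nat_lit 52) (nat_lit 0x7001001)) .nil)))))))) (.cD (nat_lit 56) (.dfs (nat_lit 32) (nat_lit 4100) (nat_lit 4100) (nat_lit 0x1002001) (nat_lit 0x1002001) (nat_lit 0) (nat_lit 0) (nat_lit 3) (nat_lit 0) (nat_lit 0) (nat_lit 0) (nat_lit 1) (nat_lit 0) (nat_lit 1) (nat_lit 0) (nat_lit 1) (nat_lit 0x101010101010100) (.cD (nat_lit 8) (.kc (nat_lit 36) (nat_lit 0x5001001)) (.cD (nat_lit 16) (.kA false (nat_lit 0x700400100c002006004008014005011001000003)) (.cD (nat_lit 24) (.kA false (nat_lit 0xe00800201000400700300500b002011001000003)) (.cD (nat_lit 32) (.kA false (nat_lit 0x100400700c002006004008014005011001000003))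 (.cD (nat_lit 40) (.kA false (nat_lit 0x1100100000100500300d002011001000003)) (.cD (nat_lit 48) (.kc (nat_lit 52) (nat_lit 0x7001001)) (.cD (nat_lit 56) (.kc (nat_lit 48) (nat_lit 0x3001001)) .nil)))))))) .nil)))))))) (.cD (nat_lit 16) (.kF (nat_lit 4) (nat_lit 0x2002000001003001002)) (.cD (nat_lit 20) (.kF (nat_lit 4) (nat_lit 0xe01e003001003001002)) (.cD (nat_lit 24) (.kF (nat_lit 4) (nat_lit 0x1002001002012004002002000003)) (.cD (nat_lit 32) (.dfs (nat_lit 16) (nat_lit 4098) (nat_lit 4098) (nat_lit 4097) (nat_lit 4097) (nat_lit 0) (nat_lit 0) (nat_lit 3) (nat_lit 0) (nat_lit 0) (nat_lit 0) (nat_lit 1) (nat_lit 0) (nat_lit 0x1008004) (nat_lit 32772) (nat_lit 0x1001004000008001014000018) (nat_lit 0x1000101110110) (.cD (nat_lit 4) (.kF (nat_lit 16) (nat_lit 0x11001000001006001002)) (.cD (nat_lit 8) (.kF (nat_lit 16) (nat_lit 0x11001000001006001002)) (.cD (nat_lit 16) (.dfs (nat_lit 32) (nat_lit 4100) (nat_lit 4100) (nat_lit 0x1002001) (nat_lit 0x1002001) (nat_lit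 0) (nat_lit 0) (nat_lit 3) (nat_lit 0) (nat_lit 0) (nat_lit 0) (nat_lit 1) (nat_lit 0) (nat_lit 0x1008004) (nat_lit 32772) (nat_lit 0x1001004000008001014000018) (nat_lit 0x1000101110110) (.cD (nat_lit 4) (.kA true (nat_lit 0x100400600c002011001000002)) (.cD (nat_lit 8) (.kA false (nat_lit 0x500400200c002011001000002)) (.cD (nat_lit 16) (.kc (nat_lit 48) (nat_lit 0x3001001)) (.cD (nat_lit 20) (.kA true (nat_lit 0x300400600c002011001000002)) (.cD (nat_lit 24) (.kA false (nat_lit 0x700400200c002011001000002)) (.cD (nat_lit 32) (.kc (nat_lit 36) (nat_lit 0x5001001)) (.cD (nat_lit 48) (.kc (nat_lit 52) (nat_lit 0x7001001)) .nil)))))))) (.cD (nat_lit 20) (.dfs (nat_lit 32) (nat_lit 4100) (nat_lit 4100) (nat_lit 0x1002001) (nat_lit 0x1002001) (nat_lit 0) (nat_lit 0) (nat_lit 3) (nat_lit 0) (nat_lit 0) (nat_lit 0) (nat_lit 1) (nat_lit 0) (nat_lit 1) (nat_lit 0) (nat_lit 1) (nat_lit 0x11001100110010) (.cD (nat_lit 4) (.kA true (nat_lit 0x100400700c002011001000002)) (.cD (nat_lit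 16) (.kA true (nat_lit 0x300400500c002011001000002)) (.cD (nat_lit 20) (.kc (nat_lit 48) (nat_lit 0x3001001)) (.cD (nat_lit 32) (.kc (nat_lit 36) (nat_lit 0x5001001)) (.cD (nat_lit 36) (.dfs (nat_lit 9) (nat_lit 4100) (nat_lit 4101) (nat_lit 1) (nat_lit 1) (nat_lit 3) (nat_lit 0) (nat_lit 1) (nat_lit 4128) (nat_lit 0x40020010008004002011) (nat_lit 0) (nat_lit 1) (nat_lit 0) (nat_lit 1) (nat_lit 0) (nat_lit 1) (nat_lit 0) .nil) (.cD (nat_lit 48) (.kA true (nat_lit 0x700400100c002011001000002)) (.cD (nat_lit 52) (.kc (nat_lit 52) (nat_lit 0x7001001)) .nil)))))))) (.cD (nat_lit 24) (.dfs (nat_lit 32) (nat_lit 4100) (nat_lit 4100) (nat_lit 0x1002001) (nat_lit 0x1002001) (nat_lit 0) (nat_lit 0) (nat_lit 3) (nat_lit 0) (nat_lit 0) (nat_lit 0) (nat_lit 1) (nat_lit 0) (nat_lit 1) (nat_lit 0) (nat_lit 1) (nat_lit 0x101010101010100) (.cD (nat_lit 8) (.kA false (nat_lit 0x500400300c002011001000002)) (.cD (nat_lit 16) (.kA false (nat_lit 0x700400100c002011001000002)) (.cD (nat_lit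 24) (.kc (nat_lit 48) (nat_lit 0x3001001)) (.cD (nat_lit 32) (.kc (nat_lit 36) (nat_lit 0x5001001)) (.cD (nat_lit 40) (.kA false (nat_lit 0x100400700c002011001000002)) (.cD (nat_lit 48) (.kA false (nat_lit 0x300400500c002011001000002)) (.cD (nat_lit 56) (.kc (nat_lit 52) (nat_lit 0x7001001)) .nil)))))))) (.cD (nat_lit 32) (.kc (nat_lit 20) (nat_lit 0x3001001)) (.cD (nat_lit 48) (.dfs (nat_lit 32) (nat_lit 4100) (nat_lit 4100) (nat_lit 0x1002001) (nat_lit 0x1002001) (nat_lit 0) (nat_lit 0) (nat_lit 3) (nat_lit 0) (nat_lit 0) (nat_lit 0) (nat_lit 1) (nat_lit 0) (nat_lit 0x1008004) (nat_lit 32772) (nat_lit 0x1001004000008001014000018) (nat_lit 0x1000101110110) (.cD (nat_lit 4) (.kA true (nat_lit 0x100400200c002011001000002)) (.cD (nat_lit 8) (.kA false (nat_lit 0x500400600c002011001000002)) (.cD (nat_lit 16) (.kc (nat_lit 52) (nat_lit 0x7001001)) (.cD (nat_lit 20) (.kA true (nat_lit 0x700400200c002011001000002)) (.cD (nat_lit 24) (.kA false (nat_lit 0x300400600c002011001000002))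 (.cD (nat_lit 32) (.kc (nat_lit 36) (nat_lit 0x5001001)) (.cD (nat_lit 48) (.kc (nat_lit 48) (nat_lit 0x3001001)) .nil)))))))) .nil)))))))) (.cD (nat_lit 48) (.kF (nat_lit 4) (nat_lit 0x1002001002012004002002000003)) .nil))))))))))
theorem c226 : (chk [] [] p226).n x107 s226 = true := by decide +kernel
noncomputable def p227 : Pf := (.anc (nat_lit 72) (nat_lit 0x21001000014006002) (nat_lit 0x1001020010008) (.czp (nat_lit 64) (nat_lit 0) (nat_lit 0x1040020010008004) z6 (.dfs (nat_lit 8) (nat_lit 4097) (nat_lit 4097) (nat_lit 1) (nat_lit 1) (nat_lit 0) (nat_lit 0) (nat_lit 3) (nat_lit 0) (nat_lit 0) (nat_lit 0) (nat_lit 1) (nat_lit 0) (nat_lit 0x1008004) (nat_lit 32772) (nat_lit 0x1001004000008001014000018) (nat_lit 0x1000101110110) (.cD (nat_lit 4) (.dfs (nat_lit 16) (nat_lit 4098) (nat_lit 4098) (nat_lit 4097) (nat_lit 4097) (nat_lit 0) (nat_lit 0) (nat_lit 3) (nat_lit 0) (nat_lit 0) (nat_lit 0) (nat_lit 1) (nat_lit 0) (nat_lit 1) (nat_lit 0) (nat_lit 1) (nat_lit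 0x11001100110010) (.cD (nat_lit 4) (.kc (nat_lit 24) (nat_lit 0x3001001)) (.cD (nat_lit 16) (.dfs (nat_lit 32) (nat_lit 4100) (nat_lit 4100) (nat_lit 0x1002001) (nat_lit 0x1002001) (nat_lit 0) (nat_lit 0) (nat_lit 3) (nat_lit 0) (nat_lit 0) (nat_lit 0) (nat_lit 1) (nat_lit 0) (nat_lit 1) (nat_lit 0) (nat_lit 1) (nat_lit 0x11001100110010) (.cD (nat_lit 4) (.kc (nat_lit 40) (nat_lit 0x5001001)) (.cD (nat_lit 16) (.kc (nat_lit 48) (nat_lit 0x3001001)) (.cD (nat_lit 20) (.kc (nat_lit 56) (nat_lit 0x7001001)) (.cD (nat_lit 32) (.kA false (nat_lit 0x1004002008001006004008014007021001000003)) (.cD (nat_lit 36) (.kA false (nat_lit 0x2100100000500100200d001021001000003)) (.cD (nat_lit 48) (.kA false (nat_lit 0xe00800c01000600500100200d001021001000003)) (.cD (nat_lit 52) (.kA false (nat_lit 0x1004002008001006004008014007021001000003)) .nil)))))))) (.cD (nat_lit 20) (.dfs (nat_lit 32) (nat_lit 4100) (nat_lit 4100) (nat_lit 0x1002001) (nat_lit 0x1002001) (nat_lit 0) (nat_lit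 0) (nat_lit 3) (nat_lit 0) (nat_lit 0) (nat_lit 0) (nat_lit 1) (nat_lit 0) (nat_lit 1) (nat_lit 0) (nat_lit 1) (nat_lit 0x11001100110010) (.cD (nat_lit 4) (.kc (nat_lit 40) (nat_lit 0x5001001)) (.cD (nat_lit 16) (.kc (nat_lit 56) (nat_lit 0x7001001)) (.cD (nat_lit 20) (.kc (nat_lit 48) (nat_lit 0x3001001)) (.cD (nat_lit 32) (.kA false (nat_lit 0x1004002008001006004008014007021001000003)) (.cD (nat_lit 36) (.kA false (nat_lit 0x2100100000500100200d001021001000003)) (.cD (nat_lit 48) (.kA false (nat_lit 0xe00800a01000600500100200d001021001000003)) (.cD (nat_lit 52) (.kA false (nat_lit 0x1004002008001006004008014007021001000003)) .nil)))))))) (.cD (nat_lit 32) (.kF (nat_lit 16) (nat_lit 0x4010006002002000001006001003)) (.cD (nat_lit 36) (.kF (nat_lit 16) (nat_lit 0x21001000001007001002002000003)) (.cD (nat_lit 48) (.dfs (nat_lit 32) (nat_lit 4100) (nat_lit 4100) (nat_lit 0x1002001) (nat_lit 0x1002001) (nat_lit 0) (nat_lit 0) (nat_lit 3) (nat_lit 0) (nat_lit 0) (nat_lit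 0) (nat_lit 1) (nat_lit 0) (nat_lit 1) (nat_lit 0) (nat_lit 1) (nat_lit 0x11001100110010) (.cD (nat_lit 4) (.kc (nat_lit 40) (nat_lit 0x5001001)) (.cD (nat_lit 16) (.kA false (nat_lit 0xe00c00801e00500500100200d001021001000003)) (.cD (nat_lit 20) (.kA false (nat_lit 0x200200000500100200d001021001000003)) (.cD (nat_lit 32) (.kA false (nat_lit 0x1004002008001006004008014007021001000003)) (.cD (nat_lit 36) (.kA false (nat_lit 0x2100100000500100200d001021001000003)) (.cD (nat_lit 48) (.kc (nat_lit 48) (nat_lit 0x3001001)) (.cD (nat_lit 52) (.kc (nat_lit 56) (nat_lit 0x7001001)) .nil)))))))) (.cD (nat_lit 52) (.dfs (nat_lit 32) (nat_lit 4100) (nat_lit 4100) (nat_lit 0x1002001) (nat_lit 0x1002001) (nat_lit 0) (nat_lit 0) (nat_lit 3) (nat_lit 0) (nat_lit 0) (nat_lit 0) (nat_lit 1) (nat_lit 0) (nat_lit 1) (nat_lit 0) (nat_lit 1) (nat_lit 0x11001100110010) (.cD (nat_lit 4) (.kc (nat_lit 40) (nat_lit 0x5001001)) (.cD (nat_lit 16) (.kA false (nat_lit 0xe00c00a01e00500500100200d001021001000003))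 (.cD (nat_lit 20) (.kA false (nat_lit 0x200200000500100200d001021001000003)) (.cD (nat_lit 32) (.kA false (nat_lit 0x1004002008001006004008014007021001000003)) (.cD (nat_lit 36) (.kA false (nat_lit 0x2100100000500100200d001021001000003)) (.cD (nat_lit 48) (.kc (nat_lit 56) (nat_lit 0x7001001)) (.cD (nat_lit 52) (.kc (nat_lit 48) (nat_lit 0x3001001)) .nil)))))))) .nil)))))))) (.cD (nat_lit 8) (.dfs (nat_lit 16) (nat_lit 4098) (nat_lit 4098) (nat_lit 4097) (nat_lit 4097) (nat_lit 0) (nat_lit 0) (nat_lit 3) (nat_lit 0) (nat_lit 0) (nat_lit 0) (nat_lit 1) (nat_lit 0) (nat_lit 1) (nat_lit 0) (nat_lit 1) (nat_lit 0x101010101010100) (.cD (nat_lit 8) (.kc (nat_lit 24) (nat_lit 0x3001001)) (.cD (nat_lit 16) (.dfs (nat_lit 32) (nat_lit 4100) (nat_lit 4100) (nat_lit 0x1002001) (nat_lit 0x1002001) (nat_lit 0) (nat_lit 0) (nat_lit 3) (nat_lit 0) (nat_lit 0) (nat_lit 0) (nat_lit 1) (nat_lit 0) (nat_lit 1) (nat_lit 0) (nat_lit 1) (nat_lit 0x101010101010100) (.cD (nat_lit 8) (.kc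 (nat_lit 40) (nat_lit 0x5001001)) (.cD (nat_lit 16) (.kc (nat_lit 48) (nat_lit 0x3001001)) (.cD (nat_lit 24) (.kc (nat_lit 56) (nat_lit 0x7001001)) (.cD (nat_lit 32) (.dfs (nat_lit 1) (nat_lit 0x1004001002008) (nat_lit 0x1005001002008) (nat_lit 1) (nat_lit 1) (nat_lit 1) (nat_lit 0) (nat_lit 2) (nat_lit 0) (nat_lit 0) (nat_lit 4) (nat_lit 1) (nat_lit 0) (nat_lit 4104) (nat_lit 8) (nat_lit 0x100000c00001c) (nat_lit 0x10001000) (.cD (nat_lit 12) (.cut (nat_lit 0)) (.cD (nat_lit 28) (.iso x108 s217 (nat_lit 0) (nat_lit 0x1040020010008004012011) (nat_lit 0x40020010008004012011) [(nat_lit 0x10008004002005001001), (nat_lit 0x10008004002001003001), (nat_lit 0x10008004002009007001)] (.cut (nat_lit 0))) .nil))) (.cD (nat_lit 40) (.dfs (nat_lit 1) (nat_lit 4101) (nat_lit 4100) (nat_lit 1) (nat_lit 1) (nat_lit 1) (nat_lit 0) (nat_lit 1) (nat_lit 4128) (nat_lit 0x40020010008004002021) (nat_lit 0) (nat_lit 1) (nat_lit 0) (nat_lit 1) (nat_lit 0) (nat_lit 1) (nat_lit 0) .nil) (.cD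 (nat_lit 48) (.kA false (nat_lit 0x1004002008001006004008014007021001000003)) (.cD (nat_lit 56) (.kA false (nat_lit 0x1004002008001006004008014007021001000003)) .nil)))))))) (.cD (nat_lit 24) (.dfs (nat_lit 32) (nat_lit 4100) (nat_lit 4100) (nat_lit 0x1002001) (nat_lit 0x1002001) (nat_lit 0) (nat_lit 0) (nat_lit 3) (nat_lit 0) (nat_lit 0) (nat_lit 0) (nat_lit 1) (nat_lit 0) (nat_lit 1) (nat_lit 0) (nat_lit 1) (nat_lit 0x101010101010100) (.cD (nat_lit 8) (.kc (nat_lit 40) (nat_lit 0x5001001)) (.cD (nat_lit 16) (.kc (nat_lit 56) (nat_lit 0x7001001)) (.cD (nat_lit 24) (.kc (nat_lit 48) (nat_lit 0x3001001)) (.cD (nat_lit 32) (.kA false (nat_lit 0x1004002008001006004008014007021001000003)) (.cD (nat_lit 40) (.kA false (nat_lit 0x2100100000500100200d001021001000003)) (.cD (nat_lit 48) (.kA false (nat_lit 0x1004002008001006004008014007021001000003)) (.cD (nat_lit 56) (.kA false (nat_lit 0x1004002008001006004008014007021001000003)) .nil)))))))) (.cD (nat_lit 32) (.kF (nat_lit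 8) (nat_lit 0x3006002021001000002006001003)) (.cD (nat_lit 40) (.kF (nat_lit 16) (nat_lit 0x21001000001007001002002000003)) (.cD (nat_lit 48) (.dfs (nat_lit 32) (nat_lit 4100) (nat_lit 4100) (nat_lit 0x1002001) (nat_lit 0x1002001) (nat_lit 0) (nat_lit 0) (nat_lit 3) (nat_lit 0) (nat_lit 0) (nat_lit 0) (nat_lit 1) (nat_lit 0) (nat_lit 1) (nat_lit 0) (nat_lit 1) (nat_lit 0x101010101010100) (.cD (nat_lit 8) (.kc (nat_lit 40) (nat_lit 0x5001001)) (.cD (nat_lit 16) (.kA false (nat_lit 0x400200300800100400100200c001002)) (.cD (nat_lit 24) (.kA false (nat_lit 0x400600300800100400100200c001002)) (.cD (nat_lit 32) (.kA false (nat_lit 0x1004002008001006004008014007021001000003)) (.cD (nat_lit 40) (.kA false (nat_lit 0x400500300800100400100200c001002)) (.cD (nat_lit 48) (.kc (nat_lit 48) (nat_lit 0x3001001)) (.cD (nat_lit 56) (.kc (nat_lit 56) (nat_lit 0x7001001)) .nil)))))))) (.cD (nat_lit 56) (.dfs (nat_lit 32) (nat_lit 4100) (nat_lit 4100) (nat_lit 0x1002001) (nat_lit 0x1002001)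 (nat_lit 0) (nat_lit 0) (nat_lit 3) (nat_lit 0) (nat_lit 0) (nat_lit 0) (nat_lit 1) (nat_lit 0) (nat_lit 1) (nat_lit 0) (nat_lit 1) (nat_lit 0x101010101010100) (.cD (nat_lit 8) (.kc (nat_lit 40) (nat_lit 0x5001001)) (.cD (nat_lit 16) (.kA false (nat_lit 0x400200700800100400100200c001002)) (.cD (nat_lit 24) (.kA false (nat_lit 0x400600700800100400100200c001002)) (.cD (nat_lit 32) (.kA false (nat_lit 0x1004002008001006004008014007021001000003)) (.cD (nat_lit 40) (.kA false (nat_lit 0x400500700800100400100200c001002)) (.cD (nat_lit 48) (.kc (nat_lit 56) (nat_lit 0x7001001)) (.cD (nat_lit 56) (.kc (nat_lit 48) (nat_lit 0x3001001)) .nil)))))))) .nil)))))))) (.cD (nat_lit 16) (.kF (nat_lit 8) (nat_lit 0x2002000001003001002)) (.cD (nat_lit 20) (.kF (nat_lit 8) (nat_lit 0xe01e005001003001002)) (.cD (nat_lit 24) (.kF (nat_lit 8) (nat_lit 0x2100100000c014008002002000001003001004)) (.cD (nat_lit 32) (.dfs (nat_lit 16) (nat_lit 4098) (nat_lit 4098) (nat_lit 4097) (nat_lit 4097)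 (nat_lit 0) (nat_lit 0) (nat_lit 3) (nat_lit 0) (nat_lit 0) (nat_lit 0) (nat_lit 1) (nat_lit 0) (nat_lit 0x1008004) (nat_lit 32772) (nat_lit 0x1001004000008001014000018) (nat_lit 0x1000101110110) (.cD (nat_lit 4) (.kF (nat_lit 16) (nat_lit 0x21001000001006001002)) (.cD (nat_lit 8) (.kF (nat_lit 16) (nat_lit 0x21001000001006001002)) (.cD (nat_lit 16) (.dfs (nat_lit 32) (nat_lit 4100) (nat_lit 4100) (nat_lit 0x1002001) (nat_lit 0x1002001) (nat_lit 0) (nat_lit 0) (nat_lit 3) (nat_lit 0) (nat_lit 0) (nat_lit 0) (nat_lit 1) (nat_lit 0) (nat_lit 0x1008004) (nat_lit 32772) (nat_lit 0x1001004000008001014000018) (nat_lit 0x1000101110110) (.cD (nat_lit 4) (.kA false (nat_lit 0x2100100000400100200c001002)) (.cD (nat_lit 8) (.dfs (nat_lit 1) (nat_lit 4100) (nat_lit 4101) (nat_lit 1) (nat_lit 1) (nat_lit 1) (nat_lit 0) (nat_lit 1) (nat_lit 4128) (nat_lit 0x40020010008004002021) (nat_lit 0) (nat_lit 1) (nat_lit 0) (nat_lit 1) (nat_lit 0) (nat_lit 1) (nat_lit 0) .nil) (.cD (nat_lit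 16) (.kc (nat_lit 48) (nat_lit 0x3001001)) (.cD (nat_lit 20) (.kA false (nat_lit 0x2100100000400100200c001002)) (.cD (nat_lit 24) (.kA false (nat_lit 0x700400200c002021001000002)) (.cD (nat_lit 32) (.kc (nat_lit 40) (nat_lit 0x5001001)) (.cD (nat_lit 48) (.kc (nat_lit 56) (nat_lit 0x7001001)) .nil)))))))) (.cD (nat_lit 20) (.dfs (nat_lit 32) (nat_lit 4100) (nat_lit 4100) (nat_lit 0x1002001) (nat_lit 0x1002001) (nat_lit 0) (nat_lit 0) (nat_lit 3) (nat_lit 0) (nat_lit 0) (nat_lit 0) (nat_lit 1) (nat_lit 0) (nat_lit 1) (nat_lit 0) (nat_lit 1) (nat_lit 0x11001100110010) (.cD (nat_lit 4) (.kA false (nat_lit 0x2100100000400100200c001002)) (.cD (nat_lit 16) (.kA false (nat_lit 0x2100100000400100200c001002)) (.cD (nat_lit 20) (.kc (nat_lit 48) (nat_lit 0x3001001)) (.cD (nat_lit 32) (.kc (nat_lit 40) (nat_lit 0x5001001)) (.cD (nat_lit 36) (.kA false (nat_lit 0x2100100000400100200c001002)) (.cD (nat_lit 48) (.kA false (nat_lit 0x2100100000400100200c001002)) (.cD (nat_lit 52)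 (.kc (nat_lit 56) (nat_lit 0x7001001)) .nil)))))))) (.cD (nat_lit 24) (.dfs (nat_lit 32) (nat_lit 4100) (nat_lit 4100) (nat_lit 0x1002001) (nat_lit 0x1002001) (nat_lit 0) (nat_lit 0) (nat_lit 3) (nat_lit 0) (nat_lit 0) (nat_lit 0) (nat_lit 1) (nat_lit 0) (nat_lit 1) (nat_lit 0) (nat_lit 1) (nat_lit 0x101010101010100) (.cD (nat_lit 8) (.kA false (nat_lit 0x500400300c002021001000002)) (.cD (nat_lit 16) (.kA false (nat_lit 0x700400100c002021001000002)) (.cD (nat_lit 24) (.kc (nat_lit 48) (nat_lit 0x3001001)) (.cD (nat_lit 32) (.kc (nat_lit 40) (nat_lit 0x5001001)) (.cD (nat_lit 40) (.kA false (nat_lit 0x100400700c002021001000002)) (.cD (nat_lit 48) (.kA false (nat_lit 0x300400500c002021001000002)) (.cD (nat_lit 56) (.kc (nat_lit 56) (nat_lit 0x7001001)) .nil)))))))) (.cD (nat_lit 32) (.kc (nat_lit 24) (nat_lit 0x3001001)) (.cD (nat_lit 48) (.dfs (nat_lit 32) (nat_lit 4100) (nat_lit 4100) (nat_lit 0x1002001) (nat_lit 0x1002001) (nat_lit 0) (nat_lit 0) (nat_lit 3) (nat_lit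 0) (nat_lit 0) (nat_lit 0) (nat_lit 1) (nat_lit 0) (nat_lit 0x1008004) (nat_lit 32772) (nat_lit 0x1001004000008001014000018) (nat_lit 0x1000101110110) (.cD (nat_lit 4) (.kA false (nat_lit 0x2100100000400100200c001002)) (.cD (nat_lit 8) (.kA false (nat_lit 0x500400600c002021001000002)) (.cD (nat_lit 16) (.kc (nat_lit 56) (nat_lit 0x7001001)) (.cD (nat_lit 20) (.kA false (nat_lit 0x2100100000400100200c001002)) (.cD (nat_lit 24) (.kA false (nat_lit 0x300400600c002021001000002)) (.cD (nat_lit 32) (.kc (nat_lit 40) (nat_lit 0x5001001)) (.cD (nat_lit 48) (.kc (nat_lit 48) (nat_lit 0x3001001)) .nil)))))))) .nil)))))))) (.cD (nat_lit 48) (.kF (nat_lit 8) (nat_lit 0x23003000001003001002)) .nil))))))))))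
theorem c227 : (chk [(x108, s217)] [g55] p227).n x108 s227 = true := by decide +kernel
noncomputable def p228 : Pf := (.ext (nat_lit 1) (nat_lit 0) (nat_lit 0x1040030020004) (nat_lit 0x1002004008005001) (nat_lit 0x2003004008) (nat_lit 4107) (nat_lit 4107) (nat_lit 0xc004002001) (.dfs (nat_lit 11) (nat_lit 0x1002003004008) (nat_lit 0x100200300400c) (nat_lit 4097) (nat_lit 4097) (nat_lit 0) (nat_lit 0) (nat_lit 2) (nat_lit 1) (nat_lit 0) (nat_lit 11) (nat_lit 1) (nat_lit 0) (nat_lit 4160) (nat_lit 64) (nat_lit 0x100000b00000f00001b00001f) (nat_lit 0x88008800) (.cD (nat_lit 11) (.kS (nat_lit 1) (nat_lit 0x2006008010002008008000002) (nat_lit 4111) (nat_lit 0x8004002003) (nat_lit 0x8008000002004008010001001008008000002006008010007001004)) (.cD (nat_lit 15) (.kS (nat_lit 1) (nat_lit 0x2006008010002008008000002) (nat_lit 4139) (nat_lit 0x8004002003) (nat_lit 0x8008000002004008010001001008008000002006008010005001004)) (.cD (nat_lit 27) (.cut (nat_lit 0)) (.cD (nat_lit 31)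 (.iso x108 s227 (nat_lit 0) (nat_lit 0x1040020010008004012001) (nat_lit 0x40020010008004012001) [(nat_lit 0x1000800400200d001001), (nat_lit 0x1000800400200d003001), (nat_lit 0x10008004002009005001)] (.cut (nat_lit 0))) .nil))))))
theorem c228 : (chk [(x108, s227)] [g55] p228).n x108 s228 = true := by decide +kernel
noncomputable def p229 : Pf := (.anc (nat_lit 68) (nat_lit 0x10002002002000002) (nat_lit 0x1009020010004) (.czp (nat_lit 64) (nat_lit 0) (nat_lit 0x1040020010008004) z6 (.dfs (nat_lit 4) (nat_lit 4097) (nat_lit 4097) (nat_lit 1) (nat_lit 1) (nat_lit 0) (nat_lit 0) (nat_lit 3) (nat_lit 0) (nat_lit 0) (nat_lit 0) (nat_lit 1) (nat_lit 0) (nat_lit 0x1008004) (nat_lit 32772) (nat_lit 0x1001004000008001014000018) (nat_lit 0x1000101110110) (.cD (nat_lit 4) (.dfs (nat_lit 16) (nat_lit 4098) (nat_lit 4098) (nat_lit 4097) (nat_lit 4097) (nat_lit 0) (nat_lit 0) (nat_lit 3) (nat_lit 0) (nat_lit 0) (nat_lit 0) (nat_lit 1) (nat_lit 0) (nat_lit 1) (nat_lit 0) (nat_lit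 1) (nat_lit 0x11001100110010) (.cD (nat_lit 4) (.kc (nat_lit 20) (nat_lit 0x3001001)) (.cD (nat_lit 16) (.dfs (nat_lit 32) (nat_lit 4100) (nat_lit 4100) (nat_lit 0x1002001) (nat_lit 0x1002001) (nat_lit 0) (nat_lit 0) (nat_lit 3) (nat_lit 0) (nat_lit 0) (nat_lit 0) (nat_lit 1) (nat_lit 0) (nat_lit 1) (nat_lit 0) (nat_lit 1) (nat_lit 0x11001100110010) (.cD (nat_lit 4) (.kc (nat_lit 36) (nat_lit 0x5001001)) (.cD (nat_lit 16) (.kc (nat_lit 48) (nat_lit 0x3001001)) (.cD (nat_lit 20) (.kc (nat_lit 52) (nat_lit 0x7001001)) (.cD (nat_lit 32) (.dfs (nat_lit 9) (nat_lit 0x1004001003008) (nat_lit 0x1005001003008) (nat_lit 4098) (nat_lit 4098) (nat_lit 0) (nat_lit 0) (nat_lit 2) (nat_lit 1) (nat_lit 0) (nat_lit 8) (nat_lit 1) (nat_lit 0) (nat_lit 4100) (nat_lit 4) (nat_lit 0x1000048000058) (nat_lit 0x10001000000000000000000) (.cD (nat_lit 72) (.kb (nat_lit 9) (nat_lit 0x1021000014006001001003) (nat_lit 0x102001004800c002005)) (.cD (nat_lit 88) (.kb (nat_lit 25) (nat_lit 0x1021000014006005001003)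 (nat_lit 0x102001004800c002005)) .nil))) (.cD (nat_lit 36) (.kA true (nat_lit 0x2100100000400100300d001021001000003)) (.cD (nat_lit 48) (.kA true (nat_lit 0x600800401000400400100300d001021001000003)) (.cD (nat_lit 52) (.kA true (nat_lit 0x5004003008001008004002005007021001000003)) .nil)))))))) (.cD (nat_lit 20) (.dfs (nat_lit 32) (nat_lit 4100) (nat_lit 4100) (nat_lit 0x1002001) (nat_lit 0x1002001) (nat_lit 0) (nat_lit 0) (nat_lit 3) (nat_lit 0) (nat_lit 0) (nat_lit 0) (nat_lit 1) (nat_lit 0) (nat_lit 1) (nat_lit 0) (nat_lit 1) (nat_lit 0x11001100110010) (.cD (nat_lit 4) (.kc (nat_lit 36) (nat_lit 0x5001001)) (.cD (nat_lit 16) (.kc (nat_lit 52) (nat_lit 0x7001001)) (.cD (nat_lit 20) (.kc (nat_lit 48) (nat_lit 0x3001001)) (.cD (nat_lit 32) (.kA true (nat_lit 0x5004003008001008004002005007021001000003)) (.cD (nat_lit 36) (.dfs (nat_lit 9) (nat_lit 4102) (nat_lit 4103) (nat_lit 1) (nat_lit 1) (nat_lit 0) (nat_lit 0) (nat_lit 1) (nat_lit 4112) (nat_lit 0x40020010008004002021)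 (nat_lit 0) (nat_lit 1) (nat_lit 0) (nat_lit 1) (nat_lit 0) (nat_lit 1) (nat_lit 0) .nil) (.cD (nat_lit 48) (.kA true (nat_lit 0x400300500800100400100300c001002)) (.cD (nat_lit 52) (.kA true (nat_lit 0x400700100800100400100300c001002)) .nil)))))))) (.cD (nat_lit 32) (.kF (nat_lit 16) (nat_lit 0x100400100c012004002002000003)) (.cD (nat_lit 36) (.kF (nat_lit 16) (nat_lit 0x100400100c012004002002000003)) (.cD (nat_lit 48) (.dfs (nat_lit 32) (nat_lit 4100) (nat_lit 4100) (nat_lit 0x1002001) (nat_lit 0x1002001) (nat_lit 0) (nat_lit 0) (nat_lit 3) (nat_lit 0) (nat_lit 0) (nat_lit 0) (nat_lit 1) (nat_lit 0) (nat_lit 1) (nat_lit 0) (nat_lit 1) (nat_lit 0x11001100110010) (.cD (nat_lit 4) (.kc (nat_lit 36) (nat_lit 0x5001001)) (.cD (nat_lit 16) (.kA true (nat_lit 0x400200100800100400100300c001002)) (.cD (nat_lit 20) (.kA true (nat_lit 0x400600500800100400100300c001002)) (.cD (nat_lit 32) (.kA true (nat_lit 0x5004003008001008004002005007021001000003)) (.cD (nat_lit 36) (.kA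 true (nat_lit 0x400500600800100400100300c001002)) (.cD (nat_lit 48) (.kc (nat_lit 48) (nat_lit 0x3001001)) (.cD (nat_lit 52) (.kc (nat_lit 52) (nat_lit 0x7001001)) .nil)))))))) (.cD (nat_lit 52) (.dfs (nat_lit 32) (nat_lit 4100) (nat_lit 4100) (nat_lit 0x1002001) (nat_lit 0x1002001) (nat_lit 0) (nat_lit 0) (nat_lit 3) (nat_lit 0) (nat_lit 0) (nat_lit 0) (nat_lit 1) (nat_lit 0) (nat_lit 1) (nat_lit 0) (nat_lit 1) (nat_lit 0x11001100110010) (.cD (nat_lit 4) (.kc (nat_lit 36) (nat_lit 0x5001001)) (.cD (nat_lit 16) (.kA true (nat_lit 0x400200500800100400100300c001002)) (.cD (nat_lit 20) (.kA true (nat_lit 0x400600100800100400100300c001002)) (.cD (nat_lit 32) (.kA true (nat_lit 0x5004003008001008004002005007021001000003)) (.cD (nat_lit 36) (.kA true (nat_lit 0x400500200800100400100300c001002)) (.cD (nat_lit 48) (.kc (nat_lit 52) (nat_lit 0x7001001)) (.cD (nat_lit 52) (.kc (nat_lit 48) (nat_lit 0x3001001)) .nil)))))))) .nil)))))))) (.cD (nat_lit 8) (.dfs (nat_lit 16) (nat_lit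 4098) (nat_lit 4098) (nat_lit 4097) (nat_lit 4097) (nat_lit 0) (nat_lit 0) (nat_lit 3) (nat_lit 0) (nat_lit 0) (nat_lit 0) (nat_lit 1) (nat_lit 0) (nat_lit 1) (nat_lit 0) (nat_lit 1) (nat_lit 0x101010101010100) (.cD (nat_lit 8) (.kc (nat_lit 20) (nat_lit 0x3001001)) (.cD (nat_lit 16) (.dfs (nat_lit 32) (nat_lit 4100) (nat_lit 4100) (nat_lit 0x1002001) (nat_lit 0x1002001) (nat_lit 0) (nat_lit 0) (nat_lit 3) (nat_lit 0) (nat_lit 0) (nat_lit 0) (nat_lit 1) (nat_lit 0) (nat_lit 1) (nat_lit 0) (nat_lit 1) (nat_lit 0x101010101010100) (.cD (nat_lit 8) (.kc (nat_lit 36) (nat_lit 0x5001001)) (.cD (nat_lit 16) (.kc (nat_lit 48) (nat_lit 0x3001001)) (.cD (nat_lit 24) (.kc (nat_lit 52) (nat_lit 0x7001001)) (.cD (nat_lit 32) (.kA false (nat_lit 0x100400200c002006004008014005021001000003)) (.cD (nat_lit 40) (.kA false (nat_lit 0x2100100000100500200d002021001000003)) (.cD (nat_lit 48) (.kA false (nat_lit 0xe00800c01000400700300200b002021001000003)) (.cD (nat_lit 56) (.kA false (nat_lit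 0x700400200c002006004008014005021001000003)) .nil)))))))) (.cD (nat_lit 24) (.dfs (nat_lit 32) (nat_lit 4100) (nat_lit 4100) (nat_lit 0x1002001) (nat_lit 0x1002001) (nat_lit 0) (nat_lit 0) (nat_lit 3) (nat_lit 0) (nat_lit 0) (nat_lit 0) (nat_lit 1) (nat_lit 0) (nat_lit 1) (nat_lit 0) (nat_lit 1) (nat_lit 0x101010101010100) (.cD (nat_lit 8) (.kc (nat_lit 36) (nat_lit 0x5001001)) (.cD (nat_lit 16) (.kc (nat_lit 52) (nat_lit 0x7001001)) (.cD (nat_lit 24) (.kc (nat_lit 48) (nat_lit 0x3001001)) (.cD (nat_lit 32) (.kA false (nat_lit 0x100400600c002006004008014005021001000003)) (.cD (nat_lit 40) (.kA false (nat_lit 0x2100100000100500600d002021001000003)) (.cD (nat_lit 48) (.kA false (nat_lit 0x700400600c002006004008014005021001000003)) (.cD (nat_lit 56) (.kA false (nat_lit 0xe00800a01000400700300600b002021001000003)) .nil)))))))) (.cD (nat_lit 32) (.kF (nat_lit 16) (nat_lit 0x100400100c012004002002000003)) (.cD (nat_lit 40) (.kF (nat_lit 16) (nat_lit 0x100400100c012004002002000003))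 (.cD (nat_lit 48) (.dfs (nat_lit 32) (nat_lit 4100) (nat_lit 4100) (nat_lit 0x1002001) (nat_lit 0x1002001) (nat_lit 0) (nat_lit 0) (nat_lit 3) (nat_lit 0) (nat_lit 0) (nat_lit 0) (nat_lit 1) (nat_lit 0) (nat_lit 1) (nat_lit 0) (nat_lit 1) (nat_lit 0x101010101010100) (.cD (nat_lit 8) (.kc (nat_lit 36) (nat_lit 0x5001001)) (.cD (nat_lit 16) (.kA false (nat_lit 0xe00800401000400700300100b002021001000003)) (.cD (nat_lit 24) (.kA false (nat_lit 0x700400500c002006004008014005021001000003)) (.cD (nat_lit 32) (.kA false (nat_lit 0x100400300c002006004008014005021001000003)) (.cD (nat_lit 40) (.kA false (nat_lit 0x2100100000100500700d002021001000003)) (.cD (nat_lit 48) (.kc (nat_lit 48) (nat_lit 0x3001001)) (.cD (nat_lit 56) (.kc (nat_lit 52) (nat_lit 0x7001001)) .nil)))))))) (.cD (nat_lit 56) (.dfs (nat_lit 32) (nat_lit 4100) (nat_lit 4100) (nat_lit 0x1002001) (nat_lit 0x1002001) (nat_lit 0) (nat_lit 0) (nat_lit 3) (nat_lit 0) (nat_lit 0) (nat_lit 0) (nat_lit 1) (nat_lit 0)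 (nat_lit 1) (nat_lit 0) (nat_lit 1) (nat_lit 0x101010101010100) (.cD (nat_lit 8) (.kc (nat_lit 36) (nat_lit 0x5001001)) (.cD (nat_lit 16) (.kA false (nat_lit 0x700400100c002006004008014005021001000003)) (.cD (nat_lit 24) (.kA false (nat_lit 0xe00800201000400700300500b002021001000003)) (.cD (nat_lit 32) (.kA false (nat_lit 0x100400700c002006004008014005021001000003)) (.cD (nat_lit 40) (.kA false (nat_lit 0x2100100000100500300d002021001000003)) (.cD (nat_lit 48) (.kc (nat_lit 52) (nat_lit 0x7001001)) (.cD (nat_lit 56) (.kc (nat_lit 48) (nat_lit 0x3001001)) .nil)))))))) .nil)))))))) (.cD (nat_lit 16) (.kF (nat_lit 4) (nat_lit 0x2002000001003001002)) (.cD (nat_lit 20) (.kF (nat_lit 4) (nat_lit 0xe01e003001003001002)) (.cD (nat_lit 24) (.kF (nat_lit 4) (nat_lit 0x1002001002012004002002000003)) (.cD (nat_lit 32) (.dfs (nat_lit 16) (nat_lit 4098) (nat_lit 4098) (nat_lit 4097) (nat_lit 4097) (nat_lit 0) (nat_lit 0) (nat_lit 3) (nat_lit 0) (nat_lit 0) (nat_lit 0) (nat_lit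 1) (nat_lit 0) (nat_lit 0x1008004) (nat_lit 32772) (nat_lit 0x1001004000008001014000018) (nat_lit 0x1000101110110) (.cD (nat_lit 4) (.kF (nat_lit 16) (nat_lit 0x21001000001006001002)) (.cD (nat_lit 8) (.kF (nat_lit 16) (nat_lit 0x21001000001006001002)) (.cD (nat_lit 16) (.dfs (nat_lit 32) (nat_lit 4100) (nat_lit 4100) (nat_lit 0x1002001) (nat_lit 0x1002001) (nat_lit 0) (nat_lit 0) (nat_lit 3) (nat_lit 0) (nat_lit 0) (nat_lit 0) (nat_lit 1) (nat_lit 0) (nat_lit 0x1008004) (nat_lit 32772) (nat_lit 0x1001004000008001014000018) (nat_lit 0x1000101110110) (.cD (nat_lit 4) (.kA true (nat_lit 0x100400600c002021001000002)) (.cD (nat_lit 8) (.kA false (nat_lit 0x500400200c002021001000002)) (.cD (nat_lit 16) (.kc (nat_lit 48) (nat_lit 0x3001001)) (.cD (nat_lit 20) (.kA true (nat_lit 0x300400600c002021001000002)) (.cD (nat_lit 24) (.kA false (nat_lit 0x700400200c002021001000002)) (.cD (nat_lit 32) (.kc (nat_lit 36) (nat_lit 0x5001001)) (.cD (nat_lit 48) (.kc (nat_lit 52) (nat_lit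 0x7001001)) .nil)))))))) (.cD (nat_lit 20) (.dfs (nat_lit 32) (nat_lit 4100) (nat_lit 4100) (nat_lit 0x1002001) (nat_lit 0x1002001) (nat_lit 0) (nat_lit 0) (nat_lit 3) (nat_lit 0) (nat_lit 0) (nat_lit 0) (nat_lit 1) (nat_lit 0) (nat_lit 1) (nat_lit 0) (nat_lit 1) (nat_lit 0x11001100110010) (.cD (nat_lit 4) (.kA true (nat_lit 0x100400700c002021001000002)) (.cD (nat_lit 16) (.kA true (nat_lit 0x300400500c002021001000002)) (.cD (nat_lit 20) (.kc (nat_lit 48) (nat_lit 0x3001001)) (.cD (nat_lit 32) (.kc (nat_lit 36) (nat_lit 0x5001001)) (.cD (nat_lit 36) (.dfs (nat_lit 9) (nat_lit 4100) (nat_lit 4101) (nat_lit 1) (nat_lit 1) (nat_lit 0) (nat_lit 0) (nat_lit 1) (nat_lit 4128) (nat_lit 0x40020010008004002021) (nat_lit 0) (nat_lit 1) (nat_lit 0) (nat_lit 1) (nat_lit 0) (nat_lit 1) (nat_lit 0) .nil) (.cD (nat_lit 48) (.kA true (nat_lit 0x700400100c002021001000002)) (.cD (nat_lit 52) (.kc (nat_lit 52) (nat_lit 0x7001001)) .nil)))))))) (.cD (nat_lit 24) (.dfs (nat_lit 32) (nat_lit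 4100) (nat_lit 4100) (nat_lit 0x1002001) (nat_lit 0x1002001) (nat_lit 0) (nat_lit 0) (nat_lit 3) (nat_lit 0) (nat_lit 0) (nat_lit 0) (nat_lit 1) (nat_lit 0) (nat_lit 1) (nat_lit 0) (nat_lit 1) (nat_lit 0x101010101010100) (.cD (nat_lit 8) (.kA false (nat_lit 0x500400300c002021001000002)) (.cD (nat_lit 16) (.kA false (nat_lit 0x700400100c002021001000002)) (.cD (nat_lit 24) (.kc (nat_lit 48) (nat_lit 0x3001001)) (.cD (nat_lit 32) (.kc (nat_lit 36) (nat_lit 0x5001001)) (.cD (nat_lit 40) (.kA false (nat_lit 0x100400700c002021001000002)) (.cD (nat_lit 48) (.kA false (nat_lit 0x300400500c002021001000002)) (.cD (nat_lit 56) (.kc (nat_lit 52) (nat_lit 0x7001001)) .nil)))))))) (.cD (nat_lit 32) (.kc (nat_lit 20) (nat_lit 0x3001001)) (.cD (nat_lit 48) (.dfs (nat_lit 32) (nat_lit 4100) (nat_lit 4100) (nat_lit 0x1002001) (nat_lit 0x1002001) (nat_lit 0) (nat_lit 0) (nat_lit 3) (nat_lit 0) (nat_lit 0) (nat_lit 0) (nat_lit 1) (nat_lit 0) (nat_lit 0x1008004) (nat_lit 32772) (nat_lit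 0x1001004000008001014000018) (nat_lit 0x1000101110110) (.cD (nat_lit 4) (.kA true (nat_lit 0x100400200c002021001000002)) (.cD (nat_lit 8) (.kA false (nat_lit 0x500400600c002021001000002)) (.cD (nat_lit 16) (.kc (nat_lit 52) (nat_lit 0x7001001)) (.cD (nat_lit 20) (.kA true (nat_lit 0x700400200c002021001000002)) (.cD (nat_lit 24) (.kA false (nat_lit 0x300400600c002021001000002)) (.cD (nat_lit 32) (.kc (nat_lit 36) (nat_lit 0x5001001)) (.cD (nat_lit 48) (.kc (nat_lit 48) (nat_lit 0x3001001)) .nil)))))))) .nil)))))))) (.cD (nat_lit 48) (.kF (nat_lit 4) (nat_lit 0x1002001002012004002002000003)) .nil))))))))))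
theorem c229 : (chk [] [] p229).n x117 s229 = true := by decide +kernel
noncomputable def p230 : Pf := (.anc (nat_lit 68) (nat_lit 0x10002002002000002) (nat_lit 0x1009020010004) (.czp (nat_lit 64) (nat_lit 0) (nat_lit 0x1040020010008004) z6 (.dfs (nat_lit 4) (nat_lit 4097) (nat_lit 4097) (nat_lit 1) (nat_lit 1) (nat_lit 0) (nat_lit 0) (nat_lit 3) (nat_lit 0) (nat_lit 0) (nat_lit 0) (nat_lit 1) (nat_lit 0) (nat_lit 0x1008004) (nat_lit 32772) (nat_lit 0x1001004000008001014000018) (nat_lit 0x1000101110110) (.cD (nat_lit 4) (.dfs (nat_lit 16) (nat_lit 4098) (nat_lit 4098) (nat_lit 4097) (nat_lit 4097) (nat_lit 0) (nat_lit 0) (nat_lit 3) (nat_lit 0) (nat_lit 0) (nat_lit 0) (nat_lit 1) (nat_lit 0) (nat_lit 1) (nat_lit 0) (nat_lit 1) (nat_lit 0x11001100110010) (.cD (nat_lit 4) (.kc (nat_lit 20) (nat_lit 0x3001001)) (.cD (nat_lit 16) (.dfs (nat_lit 32) (nat_lit 4100) (nat_lit 4100) (nat_lit 0x1002001) (nat_lit 0x1002001) (nat_lit 0) (nat_lit 0) (nat_lit 3) (nat_lit 0) (nat_lit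 0) (nat_lit 0) (nat_lit 1) (nat_lit 0) (nat_lit 1) (nat_lit 0) (nat_lit 1) (nat_lit 0x11001100110010) (.cD (nat_lit 4) (.kc (nat_lit 36) (nat_lit 0x5001001)) (.cD (nat_lit 16) (.kc (nat_lit 48) (nat_lit 0x3001001)) (.cD (nat_lit 20) (.kc (nat_lit 52) (nat_lit 0x7001001)) (.cD (nat_lit 32) (.dfs (nat_lit 9) (nat_lit 0x1004001003008) (nat_lit 0x1005001003008) (nat_lit 4098) (nat_lit 4098) (nat_lit 2) (nat_lit 0) (nat_lit 2) (nat_lit 1) (nat_lit 0) (nat_lit 8) (nat_lit 1) (nat_lit 0) (nat_lit 1) (nat_lit 0) (nat_lit 1) (nat_lit 0) .nil) (.cD (nat_lit 36) (.kA true (nat_lit 0x3100100000400100300d001031001000003)) (.cD (nat_lit 48) (.kA true (nat_lit 0x600800401000400400100300d001031001000003)) (.cD (nat_lit 52) (.kA true (nat_lit 0x5004003008001008004002005007031001000003)) .nil)))))))) (.cD (nat_lit 20) (.dfs (nat_lit 32) (nat_lit 4100) (nat_lit 4100) (nat_lit 0x1002001) (nat_lit 0x1002001) (nat_lit 0) (nat_lit 0) (nat_lit 3) (nat_lit 0) (nat_lit 0) (nat_lit 0) (nat_lit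 1) (nat_lit 0) (nat_lit 1) (nat_lit 0) (nat_lit 1) (nat_lit 0x11001100110010) (.cD (nat_lit 4) (.kc (nat_lit 36) (nat_lit 0x5001001)) (.cD (nat_lit 16) (.kc (nat_lit 52) (nat_lit 0x7001001)) (.cD (nat_lit 20) (.kc (nat_lit 48) (nat_lit 0x3001001)) (.cD (nat_lit 32) (.kA true (nat_lit 0x5004003008001008004002005007031001000003)) (.cD (nat_lit 36) (.dfs (nat_lit 9) (nat_lit 4102) (nat_lit 4103) (nat_lit 1) (nat_lit 1) (nat_lit 2) (nat_lit 0) (nat_lit 1) (nat_lit 4112) (nat_lit 0x40020010008004002031) (nat_lit 0) (nat_lit 1) (nat_lit 0) (nat_lit 1) (nat_lit 0) (nat_lit 1) (nat_lit 0) .nil) (.cD (nat_lit 48) (.kA true (nat_lit 0x400300500800100400100300c001002)) (.cD (nat_lit 52) (.kA true (nat_lit 0x400700100800100400100300c001002)) .nil)))))))) (.cD (nat_lit 32) (.kF (nat_lit 16) (nat_lit 0x100400100c012004002002000003)) (.cD (nat_lit 36) (.kF (nat_lit 16) (nat_lit 0x100400100c012004002002000003)) (.cD (nat_lit 48) (.dfs (nat_lit 32) (nat_lit 4100) (nat_lit 4100) (nat_lit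 0x1002001) (nat_lit 0x1002001) (nat_lit 0) (nat_lit 0) (nat_lit 3) (nat_lit 0) (nat_lit 0) (nat_lit 0) (nat_lit 1) (nat_lit 0) (nat_lit 1) (nat_lit 0) (nat_lit 1) (nat_lit 0x11001100110010) (.cD (nat_lit 4) (.kc (nat_lit 36) (nat_lit 0x5001001)) (.cD (nat_lit 16) (.kA true (nat_lit 0x400200100800100400100300c001002)) (.cD (nat_lit 20) (.kA true (nat_lit 0x400600500800100400100300c001002)) (.cD (nat_lit 32) (.kA true (nat_lit 0x5004003008001008004002005007031001000003)) (.cD (nat_lit 36) (.kA true (nat_lit 0x400500600800100400100300c001002)) (.cD (nat_lit 48) (.kc (nat_lit 48) (nat_lit 0x3001001)) (.cD (nat_lit 52) (.kc (nat_lit 52) (nat_lit 0x7001001)) .nil)))))))) (.cD (nat_lit 52) (.dfs (nat_lit 32) (nat_lit 4100) (nat_lit 4100) (nat_lit 0x1002001) (nat_lit 0x1002001) (nat_lit 0) (nat_lit 0) (nat_lit 3) (nat_lit 0) (nat_lit 0) (nat_lit 0) (nat_lit 1) (nat_lit 0) (nat_lit 1) (nat_lit 0) (nat_lit 1) (nat_lit 0x11001100110010) (.cD (nat_lit 4) (.kc (nat_lit 36) (nat_lit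 0x5001001)) (.cD (nat_lit 16) (.kA true (nat_lit 0x400200500800100400100300c001002)) (.cD (nat_lit 20) (.kA true (nat_lit 0x400600100800100400100300c001002)) (.cD (nat_lit 32) (.kA true (nat_lit 0x5004003008001008004002005007031001000003)) (.cD (nat_lit 36) (.kA true (nat_lit 0x400500200800100400100300c001002)) (.cD (nat_lit 48) (.kc (nat_lit 52) (nat_lit 0x7001001)) (.cD (nat_lit 52) (.kc (nat_lit 48) (nat_lit 0x3001001)) .nil)))))))) .nil)))))))) (.cD (nat_lit 8) (.dfs (nat_lit 16) (nat_lit 4098) (nat_lit 4098) (nat_lit 4097) (nat_lit 4097) (nat_lit 0) (nat_lit 0) (nat_lit 3) (nat_lit 0) (nat_lit 0) (nat_lit 0) (nat_lit 1) (nat_lit 0) (nat_lit 1) (nat_lit 0) (nat_lit 1) (nat_lit 0x101010101010100) (.cD (nat_lit 8) (.kc (nat_lit 20) (nat_lit 0x3001001)) (.cD (nat_lit 16) (.dfs (nat_lit 32) (nat_lit 4100) (nat_lit 4100) (nat_lit 0x1002001) (nat_lit 0x1002001) (nat_lit 0) (nat_lit 0) (nat_lit 3) (nat_lit 0) (nat_lit 0) (nat_lit 0) (nat_lit 1) (nat_lit 0) (nat_lit 1)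 (nat_lit 0) (nat_lit 1) (nat_lit 0x101010101010100) (.cD (nat_lit 8) (.kc (nat_lit 36) (nat_lit 0x5001001)) (.cD (nat_lit 16) (.kc (nat_lit 48) (nat_lit 0x3001001)) (.cD (nat_lit 24) (.kc (nat_lit 52) (nat_lit 0x7001001)) (.cD (nat_lit 32) (.kA false (nat_lit 0x100400200c002006004008014005031001000003)) (.cD (nat_lit 40) (.kA false (nat_lit 0x3100100000100500200d002031001000003)) (.cD (nat_lit 48) (.kA false (nat_lit 0xe00800c01000400700300200b002031001000003)) (.cD (nat_lit 56) (.kA false (nat_lit 0x700400200c002006004008014005031001000003)) .nil)))))))) (.cD (nat_lit 24) (.dfs (nat_lit 32) (nat_lit 4100) (nat_lit 4100) (nat_lit 0x1002001) (nat_lit 0x1002001) (nat_lit 0) (nat_lit 0) (nat_lit 3) (nat_lit 0) (nat_lit 0) (nat_lit 0) (nat_lit 1) (nat_lit 0) (nat_lit 1) (nat_lit 0) (nat_lit 1) (nat_lit 0x101010101010100) (.cD (nat_lit 8) (.kc (nat_lit 36) (nat_lit 0x5001001)) (.cD (nat_lit 16) (.kc (nat_lit 52) (nat_lit 0x7001001)) (.cD (nat_lit 24) (.kc (nat_lit 48)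 (nat_lit 0x3001001)) (.cD (nat_lit 32) (.kA false (nat_lit 0x100400600c002006004008014005031001000003)) (.cD (nat_lit 40) (.kA false (nat_lit 0x3100100000100500600d002031001000003)) (.cD (nat_lit 48) (.kA false (nat_lit 0x700400600c002006004008014005031001000003)) (.cD (nat_lit 56) (.kA false (nat_lit 0xe00800a01000400700300600b002031001000003)) .nil)))))))) (.cD (nat_lit 32) (.kF (nat_lit 16) (nat_lit 0x100400100c012004002002000003)) (.cD (nat_lit 40) (.kF (nat_lit 16) (nat_lit 0x100400100c012004002002000003)) (.cD (nat_lit 48) (.dfs (nat_lit 32) (nat_lit 4100) (nat_lit 4100) (nat_lit 0x1002001) (nat_lit 0x1002001) (nat_lit 0) (nat_lit 0) (nat_lit 3) (nat_lit 0) (nat_lit 0) (nat_lit 0) (nat_lit 1) (nat_lit 0) (nat_lit 1) (nat_lit 0) (nat_lit 1) (nat_lit 0x101010101010100) (.cD (nat_lit 8) (.kc (nat_lit 36) (nat_lit 0x5001001)) (.cD (nat_lit 16) (.kA false (nat_lit 0xe00800401000400700300100b002031001000003)) (.cD (nat_lit 24) (.kA false (nat_lit 0x700400500c002006004008014005031001000003))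 (.cD (nat_lit 32) (.kA false (nat_lit 0x100400300c002006004008014005031001000003)) (.cD (nat_lit 40) (.kA false (nat_lit 0x3100100000100500700d002031001000003)) (.cD (nat_lit 48) (.kc (nat_lit 48) (nat_lit 0x3001001)) (.cD (nat_lit 56) (.kc (nat_lit 52) (nat_lit 0x7001001)) .nil)))))))) (.cD (nat_lit 56) (.dfs (nat_lit 32) (nat_lit 4100) (nat_lit 4100) (nat_lit 0x1002001) (nat_lit 0x1002001) (nat_lit 0) (nat_lit 0) (nat_lit 3) (nat_lit 0) (nat_lit 0) (nat_lit 0) (nat_lit 1) (nat_lit 0) (nat_lit 1) (nat_lit 0) (nat_lit 1) (nat_lit 0x101010101010100) (.cD (nat_lit 8) (.kc (nat_lit 36) (nat_lit 0x5001001)) (.cD (nat_lit 16) (.kA false (nat_lit 0x700400100c002006004008014005031001000003)) (.cD (nat_lit 24) (.kA false (nat_lit 0xe00800201000400700300500b002031001000003)) (.cD (nat_lit 32) (.kA false (nat_lit 0x100400700c002006004008014005031001000003)) (.cD (nat_lit 40) (.kA false (nat_lit 0x3100100000100500300d002031001000003)) (.cD (nat_lit 48) (.kc (nat_lit 52) (nat_lit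 0x7001001)) (.cD (nat_lit 56) (.kc (nat_lit 48) (nat_lit 0x3001001)) .nil)))))))) .nil)))))))) (.cD (nat_lit 16) (.kF (nat_lit 4) (nat_lit 0x2002000001003001002)) (.cD (nat_lit 20) (.kF (nat_lit 4) (nat_lit 0xe01e003001003001002)) (.cD (nat_lit 24) (.kF (nat_lit 4) (nat_lit 0x1002001002012004002002000003)) (.cD (nat_lit 32) (.dfs (nat_lit 16) (nat_lit 4098) (nat_lit 4098) (nat_lit 4097) (nat_lit 4097) (nat_lit 0) (nat_lit 0) (nat_lit 3) (nat_lit 0) (nat_lit 0) (nat_lit 0) (nat_lit 1) (nat_lit 0) (nat_lit 0x1008004) (nat_lit 32772) (nat_lit 0x1001004000008001014000018) (nat_lit 0x1000101110110) (.cD (nat_lit 4) (.kF (nat_lit 16) (nat_lit 0x31001000001006001002)) (.cD (nat_lit 8) (.kF (nat_lit 16) (nat_lit 0x31001000001006001002)) (.cD (nat_lit 16) (.dfs (nat_lit 32) (nat_lit 4100) (nat_lit 4100) (nat_lit 0x1002001) (nat_lit 0x1002001) (nat_lit 0) (nat_lit 0) (nat_lit 3) (nat_lit 0) (nat_lit 0) (nat_lit 0) (nat_lit 1) (nat_lit 0) (nat_lit 0x1008004) (nat_lit 32772)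 (nat_lit 0x1001004000008001014000018) (nat_lit 0x1000101110110) (.cD (nat_lit 4) (.kA true (nat_lit 0x100400600c002031001000002)) (.cD (nat_lit 8) (.kA false (nat_lit 0x500400200c002031001000002)) (.cD (nat_lit 16) (.kc (nat_lit 48) (nat_lit 0x3001001)) (.cD (nat_lit 20) (.kA true (nat_lit 0x300400600c002031001000002)) (.cD (nat_lit 24) (.kA false (nat_lit 0x700400200c002031001000002)) (.cD (nat_lit 32) (.kc (nat_lit 36) (nat_lit 0x5001001)) (.cD (nat_lit 48) (.kc (nat_lit 52) (nat_lit 0x7001001)) .nil)))))))) (.cD (nat_lit 20) (.dfs (nat_lit 32) (nat_lit 4100) (nat_lit 4100) (nat_lit 0x1002001) (nat_lit 0x1002001) (nat_lit 0) (nat_lit 0) (nat_lit 3) (nat_lit 0) (nat_lit 0) (nat_lit 0) (nat_lit 1) (nat_lit 0) (nat_lit 1) (nat_lit 0) (nat_lit 1) (nat_lit 0x11001100110010) (.cD (nat_lit 4) (.kA true (nat_lit 0x100400700c002031001000002)) (.cD (nat_lit 16) (.kA true (nat_lit 0x300400500c002031001000002)) (.cD (nat_lit 20) (.kc (nat_lit 48) (nat_lit 0x3001001)) (.cD (nat_lit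 32) (.kc (nat_lit 36) (nat_lit 0x5001001)) (.cD (nat_lit 36) (.dfs (nat_lit 9) (nat_lit 4100) (nat_lit 4101) (nat_lit 1) (nat_lit 1) (nat_lit 2) (nat_lit 0) (nat_lit 1) (nat_lit 4128) (nat_lit 0x40020010008004002031) (nat_lit 0) (nat_lit 1) (nat_lit 0) (nat_lit 1) (nat_lit 0) (nat_lit 1) (nat_lit 0) .nil) (.cD (nat_lit 48) (.kA true (nat_lit 0x700400100c002031001000002)) (.cD (nat_lit 52) (.kc (nat_lit 52) (nat_lit 0x7001001)) .nil)))))))) (.cD (nat_lit 24) (.dfs (nat_lit 32) (nat_lit 4100) (nat_lit 4100) (nat_lit 0x1002001) (nat_lit 0x1002001) (nat_lit 0) (nat_lit 0) (nat_lit 3) (nat_lit 0) (nat_lit 0) (nat_lit 0) (nat_lit 1) (nat_lit 0) (nat_lit 1) (nat_lit 0) (nat_lit 1) (nat_lit 0x101010101010100) (.cD (nat_lit 8) (.kA false (nat_lit 0x500400300c002031001000002)) (.cD (nat_lit 16) (.kA false (nat_lit 0x700400100c002031001000002)) (.cD (nat_lit 24) (.kc (nat_lit 48) (nat_lit 0x3001001)) (.cD (nat_lit 32) (.kc (nat_lit 36) (nat_lit 0x5001001)) (.cD (nat_lit 40)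 (.kA false (nat_lit 0x100400700c002031001000002)) (.cD (nat_lit 48) (.kA false (nat_lit 0x300400500c002031001000002)) (.cD (nat_lit 56) (.kc (nat_lit 52) (nat_lit 0x7001001)) .nil)))))))) (.cD (nat_lit 32) (.kc (nat_lit 20) (nat_lit 0x3001001)) (.cD (nat_lit 48) (.dfs (nat_lit 32) (nat_lit 4100) (nat_lit 4100) (nat_lit 0x1002001) (nat_lit 0x1002001) (nat_lit 0) (nat_lit 0) (nat_lit 3) (nat_lit 0) (nat_lit 0) (nat_lit 0) (nat_lit 1) (nat_lit 0) (nat_lit 0x1008004) (nat_lit 32772) (nat_lit 0x1001004000008001014000018) (nat_lit 0x1000101110110) (.cD (nat_lit 4) (.kA true (nat_lit 0x100400200c002031001000002)) (.cD (nat_lit 8) (.kA false (nat_lit 0x500400600c002031001000002)) (.cD (nat_lit 16) (.kc (nat_lit 52) (nat_lit 0x7001001)) (.cD (nat_lit 20) (.kA true (nat_lit 0x700400200c002031001000002)) (.cD (nat_lit 24) (.kA false (nat_lit 0x300400600c002031001000002)) (.cD (nat_lit 32) (.kc (nat_lit 36) (nat_lit 0x5001001)) (.cD (nat_lit 48) (.kc (nat_lit 48) (nat_lit 0x3001001))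 .nil)))))))) .nil)))))))) (.cD (nat_lit 48) (.kF (nat_lit 4) (nat_lit 0x1002001002012004002002000003)) .nil))))))))))
theorem c230 : (chk [] [] p230).n x118 s230 = true := by decide +kernel
noncomputable def p231 : Pf := (.anc (nat_lit 68) (nat_lit 0x10002002002000002) (nat_lit 0x1009020010004) (.czp (nat_lit 64) (nat_lit 0) (nat_lit 0x1040020010008004) z6 (.dfs (nat_lit 4) (nat_lit 4097) (nat_lit 4097) (nat_lit 1) (nat_lit 1) (nat_lit 0) (nat_lit 0) (nat_lit 3) (nat_lit 0) (nat_lit 0) (nat_lit 0) (nat_lit 1) (nat_lit 0) (nat_lit 0x1008004) (nat_lit 32772) (nat_lit 0x1001004000008001014000018) (nat_lit 0x1000101110110) (.cD (nat_lit 4) (.dfs (nat_lit 16) (nat_lit 4098) (nat_lit 4098) (nat_lit 4097) (nat_lit 4097) (nat_lit 0) (nat_lit 0) (nat_lit 3) (nat_lit 0) (nat_lit 0) (nat_lit 0) (nat_lit 1) (nat_lit 0) (nat_lit 1) (nat_lit 0) (nat_lit 1) (nat_lit 0x11001100110010) (.cD (nat_lit 4) (.kc (nat_lit 20) (nat_lit 0x3001001)) (.cD (nat_lit 16) (.dfs (nat_lit 32) (nat_lit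 4100) (nat_lit 4100) (nat_lit 0x1002001) (nat_lit 0x1002001) (nat_lit 0) (nat_lit 0) (nat_lit 3) (nat_lit 0) (nat_lit 0) (nat_lit 0) (nat_lit 1) (nat_lit 0) (nat_lit 1) (nat_lit 0) (nat_lit 1) (nat_lit 0x11001100110010) (.cD (nat_lit 4) (.kc (nat_lit 36) (nat_lit 0x5001001)) (.cD (nat_lit 16) (.kc (nat_lit 48) (nat_lit 0x3001001)) (.cD (nat_lit 20) (.kc (nat_lit 52) (nat_lit 0x7001001)) (.cD (nat_lit 32) (.dfs (nat_lit 9) (nat_lit 0x1004001003008) (nat_lit 0x1005001003008) (nat_lit 4098) (nat_lit 4098) (nat_lit 2) (nat_lit 0) (nat_lit 2) (nat_lit 1) (nat_lit 0) (nat_lit 8) (nat_lit 1) (nat_lit 0) (nat_lit 1) (nat_lit 0) (nat_lit 1) (nat_lit 0) .nil) (.cD (nat_lit 36) (.kA true (nat_lit 0x3100100000400100300d001031001000003)) (.cD (nat_lit 48) (.kA true (nat_lit 0x600800401000400400100300d001031001000003)) (.cD (nat_lit 52) (.kA true (nat_lit 0x5004003008001008004002005007031001000003)) .nil)))))))) (.cD (nat_lit 20) (.dfs (nat_lit 32) (nat_lit 4100) (nat_lit 4100)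 (nat_lit 0x1002001) (nat_lit 0x1002001) (nat_lit 0) (nat_lit 0) (nat_lit 3) (nat_lit 0) (nat_lit 0) (nat_lit 0) (nat_lit 1) (nat_lit 0) (nat_lit 1) (nat_lit 0) (nat_lit 1) (nat_lit 0x11001100110010) (.cD (nat_lit 4) (.kc (nat_lit 36) (nat_lit 0x5001001)) (.cD (nat_lit 16) (.kc (nat_lit 52) (nat_lit 0x7001001)) (.cD (nat_lit 20) (.kc (nat_lit 48) (nat_lit 0x3001001)) (.cD (nat_lit 32) (.kA true (nat_lit 0x5004003008001008004002005007031001000003)) (.cD (nat_lit 36) (.dfs (nat_lit 9) (nat_lit 4102) (nat_lit 4103) (nat_lit 1) (nat_lit 1) (nat_lit 2) (nat_lit 0) (nat_lit 1) (nat_lit 4112) (nat_lit 0x40020010008004002031) (nat_lit 0) (nat_lit 1) (nat_lit 0) (nat_lit 1) (nat_lit 0) (nat_lit 1) (nat_lit 0) .nil) (.cD (nat_lit 48) (.kA true (nat_lit 0x400300500800100400100300c001002)) (.cD (nat_lit 52) (.kA true (nat_lit 0x400700100800100400100300c001002)) .nil)))))))) (.cD (nat_lit 32) (.kF (nat_lit 16) (nat_lit 0x100400100c012004002002000003)) (.cD (nat_lit 36) (.kF (nat_lit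 16) (nat_lit 0x100400100c012004002002000003)) (.cD (nat_lit 48) (.dfs (nat_lit 32) (nat_lit 4100) (nat_lit 4100) (nat_lit 0x1002001) (nat_lit 0x1002001) (nat_lit 0) (nat_lit 0) (nat_lit 3) (nat_lit 0) (nat_lit 0) (nat_lit 0) (nat_lit 1) (nat_lit 0) (nat_lit 1) (nat_lit 0) (nat_lit 1) (nat_lit 0x11001100110010) (.cD (nat_lit 4) (.kc (nat_lit 36) (nat_lit 0x5001001)) (.cD (nat_lit 16) (.kA true (nat_lit 0x400200100800100400100300c001002)) (.cD (nat_lit 20) (.kA true (nat_lit 0x400600500800100400100300c001002)) (.cD (nat_lit 32) (.kA true (nat_lit 0x5004003008001008004002005007031001000003)) (.cD (nat_lit 36) (.kA true (nat_lit 0x400500600800100400100300c001002)) (.cD (nat_lit 48) (.kc (nat_lit 48) (nat_lit 0x3001001)) (.cD (nat_lit 52) (.kc (nat_lit 52) (nat_lit 0x7001001)) .nil)))))))) (.cD (nat_lit 52) (.dfs (nat_lit 32) (nat_lit 4100) (nat_lit 4100) (nat_lit 0x1002001) (nat_lit 0x1002001) (nat_lit 0) (nat_lit 0) (nat_lit 3) (nat_lit 0) (nat_lit 0) (nat_lit 0) (nat_lit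 1) (nat_lit 0) (nat_lit 1) (nat_lit 0) (nat_lit 1) (nat_lit 0x11001100110010) (.cD (nat_lit 4) (.kc (nat_lit 36) (nat_lit 0x5001001)) (.cD (nat_lit 16) (.kA true (nat_lit 0x400200500800100400100300c001002)) (.cD (nat_lit 20) (.kA true (nat_lit 0x400600100800100400100300c001002)) (.cD (nat_lit 32) (.kA true (nat_lit 0x5004003008001008004002005007031001000003)) (.cD (nat_lit 36) (.kA true (nat_lit 0x400500200800100400100300c001002)) (.cD (nat_lit 48) (.kc (nat_lit 52) (nat_lit 0x7001001)) (.cD (nat_lit 52) (.kc (nat_lit 48) (nat_lit 0x3001001)) .nil)))))))) .nil)))))))) (.cD (nat_lit 8) (.dfs (nat_lit 16) (nat_lit 4098) (nat_lit 4098) (nat_lit 4097) (nat_lit 4097) (nat_lit 0) (nat_lit 0) (nat_lit 3) (nat_lit 0) (nat_lit 0) (nat_lit 0) (nat_lit 1) (nat_lit 0) (nat_lit 1) (nat_lit 0) (nat_lit 1) (nat_lit 0x101010101010100) (.cD (nat_lit 8) (.kc (nat_lit 20) (nat_lit 0x3001001)) (.cD (nat_lit 16) (.dfs (nat_lit 32) (nat_lit 4100) (nat_lit 4100) (nat_lit 0x1002001) (nat_lit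 0x1002001) (nat_lit 0) (nat_lit 0) (nat_lit 3) (nat_lit 0) (nat_lit 0) (nat_lit 0) (nat_lit 1) (nat_lit 0) (nat_lit 1) (nat_lit 0) (nat_lit 1) (nat_lit 0x101010101010100) (.cD (nat_lit 8) (.kc (nat_lit 36) (nat_lit 0x5001001)) (.cD (nat_lit 16) (.kc (nat_lit 48) (nat_lit 0x3001001)) (.cD (nat_lit 24) (.kc (nat_lit 52) (nat_lit 0x7001001)) (.cD (nat_lit 32) (.kA false (nat_lit 0x100400200c002006004008014005031001000003)) (.cD (nat_lit 40) (.kA false (nat_lit 0x3100100000100500200d002031001000003)) (.cD (nat_lit 48) (.kA false (nat_lit 0xe00800c01000400700300200b002031001000003)) (.cD (nat_lit 56) (.kA false (nat_lit 0x700400200c002006004008014005031001000003)) .nil)))))))) (.cD (nat_lit 24) (.dfs (nat_lit 32) (nat_lit 4100) (nat_lit 4100) (nat_lit 0x1002001) (nat_lit 0x1002001) (nat_lit 0) (nat_lit 0) (nat_lit 3) (nat_lit 0) (nat_lit 0) (nat_lit 0) (nat_lit 1) (nat_lit 0) (nat_lit 1) (nat_lit 0) (nat_lit 1) (nat_lit 0x101010101010100) (.cD (nat_lit 8) (.kc (nat_lit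 36) (nat_lit 0x5001001)) (.cD (nat_lit 16) (.kc (nat_lit 52) (nat_lit 0x7001001)) (.cD (nat_lit 24) (.kc (nat_lit 48) (nat_lit 0x3001001)) (.cD (nat_lit 32) (.kA false (nat_lit 0x100400600c002006004008014005031001000003)) (.cD (nat_lit 40) (.kA false (nat_lit 0x3100100000100500600d002031001000003)) (.cD (nat_lit 48) (.kA false (nat_lit 0x700400600c002006004008014005031001000003)) (.cD (nat_lit 56) (.kA false (nat_lit 0xe00800a01000400700300600b002031001000003)) .nil)))))))) (.cD (nat_lit 32) (.kF (nat_lit 16) (nat_lit 0x100400100c012004002002000003)) (.cD (nat_lit 40) (.kF (nat_lit 16) (nat_lit 0x100400100c012004002002000003)) (.cD (nat_lit 48) (.dfs (nat_lit 32) (nat_lit 4100) (nat_lit 4100) (nat_lit 0x1002001) (nat_lit 0x1002001) (nat_lit 0) (nat_lit 0) (nat_lit 3) (nat_lit 0) (nat_lit 0) (nat_lit 0) (nat_lit 1) (nat_lit 0) (nat_lit 1) (nat_lit 0) (nat_lit 1) (nat_lit 0x101010101010100) (.cD (nat_lit 8) (.kc (nat_lit 36) (nat_lit 0x5001001)) (.cD (nat_lit 16) (.kA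 false (nat_lit 0xe00800401000400700300100b002031001000003)) (.cD (nat_lit 24) (.kA false (nat_lit 0x700400500c002006004008014005031001000003)) (.cD (nat_lit 32) (.kA false (nat_lit 0x100400300c002006004008014005031001000003)) (.cD (nat_lit 40) (.kA false (nat_lit 0x3100100000100500700d002031001000003)) (.cD (nat_lit 48) (.kc (nat_lit 48) (nat_lit 0x3001001)) (.cD (nat_lit 56) (.kc (nat_lit 52) (nat_lit 0x7001001)) .nil)))))))) (.cD (nat_lit 56) (.dfs (nat_lit 32) (nat_lit 4100) (nat_lit 4100) (nat_lit 0x1002001) (nat_lit 0x1002001) (nat_lit 0) (nat_lit 0) (nat_lit 3) (nat_lit 0) (nat_lit 0) (nat_lit 0) (nat_lit 1) (nat_lit 0) (nat_lit 1) (nat_lit 0) (nat_lit 1) (nat_lit 0x101010101010100) (.cD (nat_lit 8) (.kc (nat_lit 36) (nat_lit 0x5001001)) (.cD (nat_lit 16) (.kA false (nat_lit 0x700400100c002006004008014005031001000003)) (.cD (nat_lit 24) (.kA false (nat_lit 0xe00800201000400700300500b002031001000003)) (.cD (nat_lit 32) (.kA false (nat_lit 0x100400700c002006004008014005031001000003))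 (.cD (nat_lit 40) (.kA false (nat_lit 0x3100100000100500300d002031001000003)) (.cD (nat_lit 48) (.kc (nat_lit 52) (nat_lit 0x7001001)) (.cD (nat_lit 56) (.kc (nat_lit 48) (nat_lit 0x3001001)) .nil)))))))) .nil)))))))) (.cD (nat_lit 16) (.kF (nat_lit 4) (nat_lit 0x2002000001003001002)) (.cD (nat_lit 20) (.kF (nat_lit 4) (nat_lit 0xe01e003001003001002)) (.cD (nat_lit 24) (.kF (nat_lit 4) (nat_lit 0x1002001002012004002002000003)) (.cD (nat_lit 32) (.dfs (nat_lit 16) (nat_lit 4098) (nat_lit 4098) (nat_lit 4097) (nat_lit 4097) (nat_lit 0) (nat_lit 0) (nat_lit 3) (nat_lit 0) (nat_lit 0) (nat_lit 0) (nat_lit 1) (nat_lit 0) (nat_lit 0x1008004) (nat_lit 32772) (nat_lit 0x1001004000008001014000018) (nat_lit 0x1000101110110) (.cD (nat_lit 4) (.kF (nat_lit 16) (nat_lit 0x31001000001006001002)) (.cD (nat_lit 8) (.kF (nat_lit 16) (nat_lit 0x31001000001006001002)) (.cD (nat_lit 16) (.dfs (nat_lit 32) (nat_lit 4100) (nat_lit 4100) (nat_lit 0x1002001) (nat_lit 0x1002001) (nat_lit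 0) (nat_lit 0) (nat_lit 3) (nat_lit 0) (nat_lit 0) (nat_lit 0) (nat_lit 1) (nat_lit 0) (nat_lit 0x1008004) (nat_lit 32772) (nat_lit 0x1001004000008001014000018) (nat_lit 0x1000101110110) (.cD (nat_lit 4) (.kA true (nat_lit 0x100400600c002031001000002)) (.cD (nat_lit 8) (.kA false (nat_lit 0x500400200c002031001000002)) (.cD (nat_lit 16) (.kc (nat_lit 48) (nat_lit 0x3001001)) (.cD (nat_lit 20) (.kA true (nat_lit 0x300400600c002031001000002)) (.cD (nat_lit 24) (.kA false (nat_lit 0x700400200c002031001000002)) (.cD (nat_lit 32) (.kc (nat_lit 36) (nat_lit 0x5001001)) (.cD (nat_lit 48) (.kc (nat_lit 52) (nat_lit 0x7001001)) .nil)))))))) (.cD (nat_lit 20) (.dfs (nat_lit 32) (nat_lit 4100) (nat_lit 4100) (nat_lit 0x1002001) (nat_lit 0x1002001) (nat_lit 0) (nat_lit 0) (nat_lit 3) (nat_lit 0) (nat_lit 0) (nat_lit 0) (nat_lit 1) (nat_lit 0) (nat_lit 1) (nat_lit 0) (nat_lit 1) (nat_lit 0x11001100110010) (.cD (nat_lit 4) (.kA true (nat_lit 0x100400700c002031001000002)) (.cD (nat_lit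 16) (.kA true (nat_lit 0x300400500c002031001000002)) (.cD (nat_lit 20) (.kc (nat_lit 48) (nat_lit 0x3001001)) (.cD (nat_lit 32) (.kc (nat_lit 36) (nat_lit 0x5001001)) (.cD (nat_lit 36) (.dfs (nat_lit 9) (nat_lit 4100) (nat_lit 4101) (nat_lit 1) (nat_lit 1) (nat_lit 2) (nat_lit 0) (nat_lit 1) (nat_lit 4128) (nat_lit 0x40020010008004002031) (nat_lit 0) (nat_lit 1) (nat_lit 0) (nat_lit 1) (nat_lit 0) (nat_lit 1) (nat_lit 0) .nil) (.cD (nat_lit 48) (.kA true (nat_lit 0x700400100c002031001000002)) (.cD (nat_lit 52) (.kc (nat_lit 52) (nat_lit 0x7001001)) .nil)))))))) (.cD (nat_lit 24) (.dfs (nat_lit 32) (nat_lit 4100) (nat_lit 4100) (nat_lit 0x1002001) (nat_lit 0x1002001) (nat_lit 0) (nat_lit 0) (nat_lit 3) (nat_lit 0) (nat_lit 0) (nat_lit 0) (nat_lit 1) (nat_lit 0) (nat_lit 1) (nat_lit 0) (nat_lit 1) (nat_lit 0x101010101010100) (.cD (nat_lit 8) (.kA false (nat_lit 0x500400300c002031001000002)) (.cD (nat_lit 16) (.kA false (nat_lit 0x700400100c002031001000002)) (.cD (nat_lit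 24) (.kc (nat_lit 48) (nat_lit 0x3001001)) (.cD (nat_lit 32) (.kc (nat_lit 36) (nat_lit 0x5001001)) (.cD (nat_lit 40) (.kA false (nat_lit 0x100400700c002031001000002)) (.cD (nat_lit 48) (.kA false (nat_lit 0x300400500c002031001000002)) (.cD (nat_lit 56) (.kc (nat_lit 52) (nat_lit 0x7001001)) .nil)))))))) (.cD (nat_lit 32) (.kc (nat_lit 20) (nat_lit 0x3001001)) (.cD (nat_lit 48) (.dfs (nat_lit 32) (nat_lit 4100) (nat_lit 4100) (nat_lit 0x1002001) (nat_lit 0x1002001) (nat_lit 0) (nat_lit 0) (nat_lit 3) (nat_lit 0) (nat_lit 0) (nat_lit 0) (nat_lit 1) (nat_lit 0) (nat_lit 0x1008004) (nat_lit 32772) (nat_lit 0x1001004000008001014000018) (nat_lit 0x1000101110110) (.cD (nat_lit 4) (.kA true (nat_lit 0x100400200c002031001000002)) (.cD (nat_lit 8) (.kA false (nat_lit 0x500400600c002031001000002)) (.cD (nat_lit 16) (.kc (nat_lit 52) (nat_lit 0x7001001)) (.cD (nat_lit 20) (.kA true (nat_lit 0x700400200c002031001000002)) (.cD (nat_lit 24) (.kA false (nat_lit 0x300400600c002031001000002))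 (.cD (nat_lit 32) (.kc (nat_lit 36) (nat_lit 0x5001001)) (.cD (nat_lit 48) (.kc (nat_lit 48) (nat_lit 0x3001001)) .nil)))))))) .nil)))))))) (.cD (nat_lit 48) (.kF (nat_lit 4) (nat_lit 0x1002001002012004002002000003)) .nil))))))))))
theorem c231 : (chk [] [] p231).n x119 s231 = true := by decide +kernel
noncomputable def p232 : Pf := (.lft (nat_lit 0x20008018001004002003001) (nat_lit 0) (nat_lit 0x1028020) (nat_lit 0x20010008004002001) (.extn a19 (nat_lit 0x20010008004002001) (nat_lit 0x1004010008020) (nat_lit 2) (nat_lit 0) (nat_lit 0) (nat_lit 0) (nat_lit 0x1010101) (.cE (nat_lit 0) b53 (nat_lit 0) (.cut (nat_lit 0)) (.cut (nat_lit 1)) (.cE (nat_lit 8) b54 (nat_lit 0) (.cut (nat_lit 2)) (.cut (nat_lit 3)) (.cE (nat_lit 16) b55 t55 (.cut (nat_lit 4)) (.cut (nat_lit 5)) (.cE (nat_lit 24) b60 (nat_lit 0) (.cut (nat_lit 6)) (.cut (nat_lit 7)) .nil))))))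
theorem c232 : (chk [(x104, s191), (x105, s224), (x106, s225), (x107, s226), (x108, s228), (x117, s229), (x118, s230), (x119, s231)] [] p232).n x87 s232 = true := by decide +kernel
noncomputable def p233 : Pf := (.ext (nat_lit 1) (nat_lit 0) (nat_lit 0x1020018010002) (nat_lit 0x700200c008005001001000001002004008005003) (nat_lit 0x300200400f) (nat_lit 4101) (nat_lit 4101) (nat_lit 0xe004002001) (.dfs (nat_lit 5) (nat_lit 0x100300200400f) (nat_lit 0x1003002004009) (nat_lit 0x1008001) (nat_lit 0x100e001) (nat_lit 0) (nat_lit 0) (nat_lit 2) (nat_lit 1) (nat_lit 0) (nat_lit 5) (nat_lit 1) (nat_lit 0) (nat_lit 4128) (nat_lit 32) (nat_lit 0x1000005000007000015000017) (nat_lit 0xa000a0) (.cD (nat_lit 5) (.kS (nat_lit 1) (nat_lit 0x4008010020003001) (nat_lit 4117) (nat_lit 0x8004002007) (nat_lit 0x600400801a001001002004008010001001004008010020003004003)) (.cD (nat_lit 7) (.cut (nat_lit 1)) (.cD (nat_lit 21) (.kS (nat_lit 1) (nat_lit 0x4008010020003001) (nat_lit 4117) (nat_lit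 0x8004002007) (nat_lit 0x600400801a005001002004008010001001004008010020003004003)) (.cD (nat_lit 23) (.cut (nat_lit 0)) .nil))))))
theorem c233 : (chk [(x87, s223), (x87, s232)] [] p233).n x87 s233 = true := by decide +kernel
noncomputable def p234 : Pf := (.ext (nat_lit 0) (nat_lit 0) (nat_lit 0x1080020040010) (nat_lit 0x10008004002003040020010008001002) (nat_lit 0x2003004008) (nat_lit 4097) (nat_lit 4098) (nat_lit 0xb004002001) (.dfs (nat_lit 1) (nat_lit 0x1002003004008) (nat_lit 0x100200300400b) (nat_lit 4097) (nat_lit 4097) (nat_lit 1) (nat_lit 0) (nat_lit 2) (nat_lit 0) (nat_lit 0) (nat_lit 2) (nat_lit 1) (nat_lit 0) (nat_lit 1) (nat_lit 0) (nat_lit 1) (nat_lit 0) .nil))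
theorem c234 : (chk [] [] p234).n x121 s234 = true := by decide +kernel
noncomputable def p235 : Pf := (.ext (nat_lit 0) (nat_lit 0) (nat_lit 0x1080020040010) (nat_lit 0x10008004002003040020010008001002) (nat_lit 0x2003004008) (nat_lit 4097) (nat_lit 4098) (nat_lit 0xb004002001) (.dfs (nat_lit 1) (nat_lit 0x1002003004008) (nat_lit 0x100200300400b) (nat_lit 4097) (nat_lit 4097) (nat_lit 1) (nat_lit 0) (nat_lit 2) (nat_lit 0) (nat_lit 0) (nat_lit 2) (nat_lit 1) (nat_lit 0) (nat_lit 1) (nat_lit 0) (nat_lit 1) (nat_lit 0) .nil))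
theorem c235 : (chk [] [] p235).n x122 s235 = true := by decide +kernel
noncomputable def p236 : Pf := (.ext (nat_lit 0) (nat_lit 0) (nat_lit 0x1080020040010) (nat_lit 0x10008004002003040020010008001002) (nat_lit 0x2003004008) (nat_lit 4097) (nat_lit 4098) (nat_lit 0xb004002001) (.dfs (nat_lit 1) (nat_lit 0x1002003004008) (nat_lit 0x100200300400b) (nat_lit 4097) (nat_lit 4097) (nat_lit 5) (nat_lit 0) (nat_lit 2) (nat_lit 0) (nat_lit 0) (nat_lit 2) (nat_lit 1) (nat_lit 0) (nat_lit 1) (nat_lit 0) (nat_lit 1) (nat_lit 0) .nil))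
theorem c236 : (chk [] [] p236).n x123 s236 = true := by decide +kernel
noncomputable def p237 : Pf := (.ext (nat_lit 0) (nat_lit 0) (nat_lit 0x1080020040010) (nat_lit 0x10008004002003040020010008001002) (nat_lit 0x2003004008) (nat_lit 4097) (nat_lit 4098) (nat_lit 0xb004002001) (.dfs (nat_lit 1) (nat_lit 0x1002003004008) (nat_lit 0x100200300400b) (nat_lit 4097) (nat_lit 4097) (nat_lit 5) (nat_lit 0) (nat_lit 2) (nat_lit 0) (nat_lit 0) (nat_lit 2) (nat_lit 1) (nat_lit 0) (nat_lit 1) (nat_lit 0) (nat_lit 1) (nat_lit 0) .nil))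
theorem c237 : (chk [] [] p237).n x124 s237 = true := by decide +kernel
noncomputable def p238 : Pf := (.ext (nat_lit 0) (nat_lit 0) (nat_lit 0x1080020040010) (nat_lit 0x10008004002003040020010008001002) (nat_lit 0x2003004008) (nat_lit 4097) (nat_lit 4098) (nat_lit 0xb004002001) (.dfs (nat_lit 1) (nat_lit 0x1002003004008) (nat_lit 0x100200300400b) (nat_lit 4097) (nat_lit 4097) (nat_lit 3) (nat_lit 0) (nat_lit 2) (nat_lit 0) (nat_lit 0) (nat_lit 2) (nat_lit 1) (nat_lit 0) (nat_lit 1) (nat_lit 0) (nat_lit 1) (nat_lit 0) .nil))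
theorem c238 : (chk [] [] p238).n x125 s238 = true := by decide +kernel
noncomputable def p239 : Pf := (.ext (nat_lit 0) (nat_lit 0) (nat_lit 0x1080020040010) (nat_lit 0x10008004002003040020010008001002) (nat_lit 0x2003004008) (nat_lit 4097) (nat_lit 4098) (nat_lit 0xb004002001) (.dfs (nat_lit 1) (nat_lit 0x1002003004008) (nat_lit 0x100200300400b) (nat_lit 4097) (nat_lit 4097) (nat_lit 3) (nat_lit 0) (nat_lit 2) (nat_lit 0) (nat_lit 0) (nat_lit 2) (nat_lit 1) (nat_lit 0) (nat_lit 4224) (nat_lit 128) (nat_lit 0x10000820000920000a20000b2) (nat_lit 0x400040004000400000000000000000000000000000000) (.cD (nat_lit 130) (.kS (nat_lit 0) (nat_lit 0x2004008018001004004000002) (nat_lit 4226) (nat_lit 0x800400200d) (nat_lit 0x4004000002004008010001001004004000002004008018001002004)) (.cD (nat_lit 146) (.kS (nat_lit 0) (nat_lit 0x2004008018001004004000002) (nat_lit 4242) (nat_lit 0x800400200d) (nat_lit 0x4004000002004008010001001004004000002004008018001002004)) (.cD (nat_lit 162)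 (.kS (nat_lit 0) (nat_lit 0x2004008018001004004000002) (nat_lit 4258) (nat_lit 0x800400200d) (nat_lit 0x4004000002004008010001001004004000002004008018001002004)) (.cD (nat_lit 178) (.kS (nat_lit 0) (nat_lit 0x2004008018001004004000002) (nat_lit 4274) (nat_lit 0x800400200d) (nat_lit 0x4004000002004008010001001004004000002004008018001002004)) .nil))))))
theorem c239 : (chk [] [] p239).n x126 s239 = true := by decide +kernel
noncomputable def p240 : Pf := (.ext (nat_lit 0) (nat_lit 0) (nat_lit 0x1080020040010) (nat_lit 0x10008004002003040020010008001002) (nat_lit 0x2003004008) (nat_lit 4097) (nat_lit 4098) (nat_lit 0xb004002001) (.dfs (nat_lit 1) (nat_lit 0x1002003004008) (nat_lit 0x100200300400b) (nat_lit 4097) (nat_lit 4097) (nat_lit 7) (nat_lit 0) (nat_lit 2) (nat_lit 0) (nat_lit 0) (nat_lit 2) (nat_lit 1) (nat_lit 0) (nat_lit 1) (nat_lit 0) (nat_lit 1) (nat_lit 0) .nil))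
theorem c240 : (chk [] [] p240).n x127 s240 = true := by decide +kernel
noncomputable def p241 : Pf := (.ext (nat_lit 0) (nat_lit 0) (nat_lit 0x1080020040010) (nat_lit 0x10008004002003040020010008001002) (nat_lit 0x2003004008) (nat_lit 4097) (nat_lit 4098) (nat_lit 0xb004002001) (.dfs (nat_lit 1) (nat_lit 0x1002003004008) (nat_lit 0x100200300400b) (nat_lit 4097) (nat_lit 4097) (nat_lit 7) (nat_lit 0) (nat_lit 2) (nat_lit 0) (nat_lit 0) (nat_lit 2) (nat_lit 1) (nat_lit 0) (nat_lit 1) (nat_lit 0) (nat_lit 1) (nat_lit 0) .nil))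
theorem c241 : (chk [] [] p241).n x128 s241 = true := by decide +kernel
noncomputable def p242 : Pf := (.lft (nat_lit 0x40010020008001004002005001) (nat_lit 8) (nat_lit 0x1070060050040) (nat_lit 0x40020010008004002001) (.extn a17 (nat_lit 0x40020010008004002001) (nat_lit 0x1008020010040) (nat_lit 2) (nat_lit 0) (nat_lit 0) (nat_lit 0) (nat_lit 0x100010001000100) (.cE (nat_lit 8) b42 (nat_lit 0) (.cut (nat_lit 0)) (.cut (nat_lit 1)) (.cE (nat_lit 24) b43 (nat_lit 0) (.cut (nat_lit 2)) (.cut (nat_lit 3)) (.cE (nat_lit 40) b44 (nat_lit 0) (.cut (nat_lit 4)) (.cut (nat_lit 5)) (.cE (nat_lit 56) b45 (nat_lit 0) (.cut (nat_lit 6)) (.cut (nat_lit 7)) .nil))))))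
theorem c242 : (chk [(x121, s234), (x122, s235), (x123, s236), (x124, s237), (x125, s238), (x126, s239), (x127, s240), (x128, s241)] [] p242).n x120 s242 = true := by decide +kernel
noncomputable def p243 : Pf := (.ext (nat_lit 0) (nat_lit 0x4006008010002001) (nat_lit 0x1040010020008002) (nat_lit 0x10008004002001002004004000010008002004001001004004000010008006004005002005) (nat_lit 0x4006008010) (nat_lit 0x1004001) (nat_lit 0x1004001) (nat_lit 0x10008004006005014008004002001) (.dfs (nat_lit 1) (nat_lit 0x1002004008010) (nat_lit 0x1002004008014) (nat_lit 4097) (nat_lit 4097) (nat_lit 0) (nat_lit 0) (nat_lit 2) (nat_lit 0) (nat_lit 0x2004008010001001) (nat_lit 1) (nat_lit 1) (nat_lit 0) (nat_lit 1) (nat_lit 0) (nat_lit 1) (nat_lit 0x102010201020102) (.cD (nat_lit 1) (.dfs (nat_lit 4) (nat_lit 0x1004008010020) (nat_lit 0x100c008010020) (nat_lit 0x1002001) (nat_lit 0x100a001) (nat_lit 0) (nat_lit 0) (nat_lit 2) (nat_lit 0) (nat_lit 0x4008010020001001) (nat_lit 4) (nat_lit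 1) (nat_lit 0) (nat_lit 4105) (nat_lit 9) (nat_lit 0x1000004000014) (nat_lit 0x100010) (.cD (nat_lit 4) (.cut (nat_lit 0)) (.cD (nat_lit 20) (.kA true (nat_lit 0xc002006010005001010030040001002)) .nil))) (.cD (nat_lit 8) (.kS (nat_lit 0) (nat_lit 0xc008010020001004004000002) (nat_lit 0x1008023) (nat_lit 0x8004002005010008004006001) (nat_lit 0x400400000400801002000100200100400400000c00801002000100a002004)) (.cD (nat_lit 17) (.dfs (nat_lit 4) (nat_lit 0x1004008010020) (nat_lit 0x100c008010020) (nat_lit 0x1002001) (nat_lit 0x100a001) (nat_lit 0) (nat_lit 0) (nat_lit 2) (nat_lit 0) (nat_lit 0x4008010020001001) (nat_lit 4) (nat_lit 1) (nat_lit 0) (nat_lit 4105) (nat_lit 9) (nat_lit 0x1000004000014) (nat_lit 0x100010) (.cD (nat_lit 4) (.kA false (nat_lit 0xa010020041001008010020040001002)) (.cD (nat_lit 20) (.kA false (nat_lit 0xa010020061001008010020060001002002000003)) .nil))) (.cD (nat_lit 24) (.kS (nat_lit 0) (nat_lit 0xc008010020001004004000002) (nat_lit 0x1018023)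 (nat_lit 0x8004002005010008004006001) (nat_lit 0x400400000400801002000100200100400400000c00801002000100a002004)) (.cD (nat_lit 33) (.dfs (nat_lit 4) (nat_lit 0x1004008010020) (nat_lit 0x100c008010020) (nat_lit 0x1002001) (nat_lit 0x100a001) (nat_lit 0) (nat_lit 0) (nat_lit 2) (nat_lit 0) (nat_lit 0x4008010020001001) (nat_lit 4) (nat_lit 1) (nat_lit 0) (nat_lit 4105) (nat_lit 9) (nat_lit 0x1000004000014) (nat_lit 0x100010) (.cD (nat_lit 4) (.kS (nat_lit 1) (nat_lit 0x2004008010009001001000001010030040007003) (nat_lit 4127) (nat_lit 0x8004002003) (nat_lit 0x1100103004103f00100200400801400100900100100000200400801000100a004)) (.cD (nat_lit 20) (.kA true (nat_lit 0xc002006010005001010030040001002)) .nil))) (.cD (nat_lit 40) (.kS (nat_lit 0) (nat_lit 0xc008010020001004004000002) (nat_lit 0x1028023) (nat_lit 0x8004002005010008004006001) (nat_lit 0x400400000400801002000100200100400400000c00801002000100a002004)) (.cD (nat_lit 49) (.dfs (nat_lit 4) (nat_lit 0x1004008010020)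 (nat_lit 0x100c008010020) (nat_lit 0x1002001) (nat_lit 0x100a001) (nat_lit 0) (nat_lit 0) (nat_lit 2) (nat_lit 0) (nat_lit 0x4008010020001001) (nat_lit 4) (nat_lit 1) (nat_lit 0) (nat_lit 4105) (nat_lit 9) (nat_lit 0x1000004000014) (nat_lit 0x100010) (.cD (nat_lit 4) (.kA false (nat_lit 0xa010020041001008010020040001002)) (.cD (nat_lit 20) (.kA false (nat_lit 0xa010020061001008010020060001002002000003)) .nil))) (.cD (nat_lit 56) (.kS (nat_lit 0) (nat_lit 0xc008010020001004004000002) (nat_lit 0x1038023) (nat_lit 0x8004002005010008004006001) (nat_lit 0x400400000400801002000100200100400400000c00801002000100a002004)) .nil))))))))))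
theorem c243 : (chk [(x120, s242)] [] p243).n x120 s243 = true := by decide +kernel
noncomputable def p244 : Pf := (.ext (nat_lit 1) (nat_lit 0) (nat_lit 0x1080060040008) (nat_lit 0x14008004002003040030010001001002) (nat_lit 0x200300400a) (nat_lit 0x1002001) (nat_lit 0x1001003) (nat_lit 0xa004002001009004002001) (.dfs (nat_lit 1) (nat_lit 0x100200300400a) (nat_lit 0x100200300400b) (nat_lit 0x1008001) (nat_lit 0x1009001) (nat_lit 1) (nat_lit 0) (nat_lit 2) (nat_lit 1) (nat_lit 0) (nat_lit 3) (nat_lit 1) (nat_lit 0) (nat_lit 4224) (nat_lit 128) (nat_lit 0x100000300000b00002300002b) (nat_lit 0x80800000808) (.cD (nat_lit 3) (.dfs (nat_lit 2) (nat_lit 0x1004006008014) (nat_lit 0x1004006008010) (nat_lit 0x1010002001) (nat_lit 0x1014002005) (nat_lit 0) (nat_lit 0) (nat_lit 2) (nat_lit 1) (nat_lit 0) (nat_lit 1) (nat_lit 1) (nat_lit 0) (nat_lit 1) (nat_lit 0) (nat_lit 1) (nat_lit 0) .nil) (.cD (nat_lit 11) (.dfs (nat_lit 2) (nat_lit 0x1004006008014) (nat_lit 0x1004006008010)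 (nat_lit 0x1010002001) (nat_lit 0x1014002005) (nat_lit 0) (nat_lit 0) (nat_lit 2) (nat_lit 1) (nat_lit 0) (nat_lit 1) (nat_lit 1) (nat_lit 0) (nat_lit 1) (nat_lit 0) (nat_lit 1) (nat_lit 0) .nil) (.cD (nat_lit 35) (.dfs (nat_lit 2) (nat_lit 0x1004006008014) (nat_lit 0x1004006008010) (nat_lit 0x1010002001) (nat_lit 0x1014002005) (nat_lit 0) (nat_lit 0) (nat_lit 2) (nat_lit 1) (nat_lit 0) (nat_lit 1) (nat_lit 1) (nat_lit 0) (nat_lit 1) (nat_lit 0) (nat_lit 1) (nat_lit 0) .nil) (.cD (nat_lit 43) (.dfs (nat_lit 2) (nat_lit 0x1004006008014) (nat_lit 0x1004006008010) (nat_lit 0x1010002001) (nat_lit 0x1014002005) (nat_lit 0) (nat_lit 0) (nat_lit 2) (nat_lit 1) (nat_lit 0) (nat_lit 1) (nat_lit 1) (nat_lit 0) (nat_lit 1) (nat_lit 0) (nat_lit 1) (nat_lit 0) .nil) .nil))))))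
theorem c244 : (chk [] [] p244).n x129 s244 = true := by decide +kernel
noncomputable def p245 : Pf := (.ext (nat_lit 1) (nat_lit 0x1010030040001001) (nat_lit 0x1080060040008) (nat_lit 0x10008006004004001) (nat_lit 0x3001004009) (nat_lit 4097) (nat_lit 4098) (nat_lit 0x9004002001) (.dfs (nat_lit 1) (nat_lit 0x1001002004008) (nat_lit 0x1001002004009) (nat_lit 1) (nat_lit 1) (nat_lit 1) (nat_lit 0) (nat_lit 2) (nat_lit 1) (nat_lit 0x1002004008001001) (nat_lit 2) (nat_lit 1) (nat_lit 0) (nat_lit 4282) (nat_lit 186) (nat_lit 0x10000920000980000b20000b8) (nat_lit 0x10400000104000000000000000000000000000000000000) (.cD (nat_lit 146) (.kS (nat_lit 1) (nat_lit 0x200400801c001014014000002) (nat_lit 4312) (nat_lit 0x8004002009) (nat_lit 0x4f00500000200400801000100101401400000200400801c005002004)) (.cD (nat_lit 152) (.kS (nat_lit 1) (nat_lit 0x200400801c001014014000002) (nat_lit 4306) (nat_lit 0x8004002009) (nat_lit 0x4f00500000200400801000100101401400000200400801c005002004))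 (.cD (nat_lit 178) (.kS (nat_lit 1) (nat_lit 0x200400801c001014014000002) (nat_lit 4344) (nat_lit 0x8004002009) (nat_lit 0x4f00500000200400801000100101401400000200400801c005002004)) (.cD (nat_lit 184) (.kS (nat_lit 1) (nat_lit 0x200400801c001014014000002) (nat_lit 4338) (nat_lit 0x8004002009) (nat_lit 0x4f00500000200400801000100101401400000200400801c005002004)) .nil))))))
theorem c245 : (chk [] [] p245).n x130 s245 = true := by decide +kernel
noncomputable def p246 : Pf := (.ext (nat_lit 1) (nat_lit 0) (nat_lit 0x1080060040008) (nat_lit 0x14008004002003040030010001001002) (nat_lit 0x200300400a) (nat_lit 4097) (nat_lit 4099) (nat_lit 0x9004002001) (.dfs (nat_lit 1) (nat_lit 0x100200300400a) (nat_lit 0x100200300400b) (nat_lit 0x1008001) (nat_lit 0x1009001) (nat_lit 7) (nat_lit 0) (nat_lit 2) (nat_lit 1) (nat_lit 0) (nat_lit 3) (nat_lit 1) (nat_lit 0) (nat_lit 1) (nat_lit 0) (nat_lit 1) (nat_lit 0) .nil))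
theorem c246 : (chk [] [] p246).n x131 s246 = true := by decide +kernel
noncomputable def p247 : Pf := (.ext (nat_lit 1) (nat_lit 0) (nat_lit 0x1080060040008) (nat_lit 0x14008004002003040030010001001002) (nat_lit 0x200300400a) (nat_lit 4097) (nat_lit 4099) (nat_lit 0x9004002001) (.dfs (nat_lit 1) (nat_lit 0x100200300400a) (nat_lit 0x100200300400b) (nat_lit 0x1008001) (nat_lit 0x1009001) (nat_lit 7) (nat_lit 0) (nat_lit 2) (nat_lit 1) (nat_lit 0) (nat_lit 3) (nat_lit 1) (nat_lit 0) (nat_lit 1) (nat_lit 0) (nat_lit 1) (nat_lit 0) .nil))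
theorem c247 : (chk [] [] p247).n x132 s247 = true := by decide +kernel
noncomputable def p248 : Pf := (.ext (nat_lit 1) (nat_lit 0) (nat_lit 0x1080060040008) (nat_lit 0x14008004002003040030010001001002) (nat_lit 0x200300400a) (nat_lit 4097) (nat_lit 4099) (nat_lit 0x9004002001) (.dfs (nat_lit 1) (nat_lit 0x100200300400a) (nat_lit 0x100200300400b) (nat_lit 0x1008001) (nat_lit 0x1009001) (nat_lit 3) (nat_lit 0) (nat_lit 2) (nat_lit 1) (nat_lit 0) (nat_lit 3) (nat_lit 1) (nat_lit 0) (nat_lit 1) (nat_lit 0) (nat_lit 1) (nat_lit 0) .nil))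
theorem c248 : (chk [] [] p248).n x133 s248 = true := by decide +kernel
noncomputable def p249 : Pf := (.ext (nat_lit 1) (nat_lit 0) (nat_lit 0x1080060040008) (nat_lit 0x14008004002003040030010001001002) (nat_lit 0x200300400a) (nat_lit 4097) (nat_lit 4099) (nat_lit 0x9004002001) (.dfs (nat_lit 1) (nat_lit 0x100200300400a) (nat_lit 0x100200300400b) (nat_lit 0x1008001) (nat_lit 0x1009001) (nat_lit 3) (nat_lit 0) (nat_lit 2) (nat_lit 1) (nat_lit 0) (nat_lit 3) (nat_lit 1) (nat_lit 0) (nat_lit 1) (nat_lit 0) (nat_lit 1) (nat_lit 0) .nil))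
theorem c249 : (chk [] [] p249).n x134 s249 = true := by decide +kernel
noncomputable def p250 : Pf := (.ext (nat_lit 1) (nat_lit 0) (nat_lit 0x1080060040008) (nat_lit 0x14008004002003040030010001001002) (nat_lit 0x200300400a) (nat_lit 0x1002001) (nat_lit 0x1001003) (nat_lit 0xa004002001009004002001) (.dfs (nat_lit 1) (nat_lit 0x100200300400a) (nat_lit 0x100200300400b) (nat_lit 0x1008001) (nat_lit 0x1009001) (nat_lit 5) (nat_lit 0) (nat_lit 2) (nat_lit 1) (nat_lit 0) (nat_lit 3) (nat_lit 1) (nat_lit 0) (nat_lit 4224) (nat_lit 128) (nat_lit 0x100000300000b00002300002b) (nat_lit 0x80800000808) (.cD (nat_lit 3) (.dfs (nat_lit 2) (nat_lit 0x1004006008014) (nat_lit 0x1004006008010) (nat_lit 0x1010002001) (nat_lit 0x1014002005) (nat_lit 0) (nat_lit 0) (nat_lit 2) (nat_lit 1) (nat_lit 0) (nat_lit 1) (nat_lit 1) (nat_lit 0) (nat_lit 1) (nat_lit 0) (nat_lit 1) (nat_lit 0) .nil) (.cD (nat_lit 11) (.dfs (nat_lit 2) (nat_lit 0x1004006008014) (nat_lit 0x1004006008010) (nat_lit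 0x1010002001) (nat_lit 0x1014002005) (nat_lit 0) (nat_lit 0) (nat_lit 2) (nat_lit 1) (nat_lit 0) (nat_lit 1) (nat_lit 1) (nat_lit 0) (nat_lit 1) (nat_lit 0) (nat_lit 1) (nat_lit 0) .nil) (.cD (nat_lit 35) (.dfs (nat_lit 2) (nat_lit 0x1004006008014) (nat_lit 0x1004006008010) (nat_lit 0x1010002001) (nat_lit 0x1014002005) (nat_lit 0) (nat_lit 0) (nat_lit 2) (nat_lit 1) (nat_lit 0) (nat_lit 1) (nat_lit 1) (nat_lit 0) (nat_lit 1) (nat_lit 0) (nat_lit 1) (nat_lit 0) .nil) (.cD (nat_lit 43) (.dfs (nat_lit 2) (nat_lit 0x1004006008014) (nat_lit 0x1004006008010) (nat_lit 0x1010002001) (nat_lit 0x1014002005) (nat_lit 0) (nat_lit 0) (nat_lit 2) (nat_lit 1) (nat_lit 0) (nat_lit 1) (nat_lit 1) (nat_lit 0) (nat_lit 1) (nat_lit 0) (nat_lit 1) (nat_lit 0) .nil) .nil))))))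
theorem c250 : (chk [] [] p250).n x135 s250 = true := by decide +kernel
noncomputable def p251 : Pf := (.ext (nat_lit 1) (nat_lit 0) (nat_lit 0x1080060040008) (nat_lit 0x14008004002003040030010001001002) (nat_lit 0x200300400a) (nat_lit 0x1002001) (nat_lit 0x1001003) (nat_lit 0xa004002001009004002001) (.dfs (nat_lit 1) (nat_lit 0x100200300400a) (nat_lit 0x100200300400b) (nat_lit 0x1008001) (nat_lit 0x1009001) (nat_lit 5) (nat_lit 0) (nat_lit 2) (nat_lit 1) (nat_lit 0) (nat_lit 3) (nat_lit 1) (nat_lit 0) (nat_lit 4224) (nat_lit 128) (nat_lit 0x100000300000b00002300002b) (nat_lit 0x80800000808) (.cD (nat_lit 3) (.dfs (nat_lit 2) (nat_lit 0x1004006008014) (nat_lit 0x1004006008010) (nat_lit 0x1010002001) (nat_lit 0x1014002005) (nat_lit 0) (nat_lit 0) (nat_lit 2) (nat_lit 1) (nat_lit 0) (nat_lit 1) (nat_lit 1) (nat_lit 0) (nat_lit 1) (nat_lit 0) (nat_lit 1) (nat_lit 0) .nil) (.cD (nat_lit 11) (.dfs (nat_lit 2) (nat_lit 0x1004006008014) (nat_lit 0x1004006008010) (nat_lit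 0x1010002001) (nat_lit 0x1014002005) (nat_lit 0) (nat_lit 0) (nat_lit 2) (nat_lit 1) (nat_lit 0) (nat_lit 1) (nat_lit 1) (nat_lit 0) (nat_lit 1) (nat_lit 0) (nat_lit 1) (nat_lit 0) .nil) (.cD (nat_lit 35) (.dfs (nat_lit 2) (nat_lit 0x1004006008014) (nat_lit 0x1004006008010) (nat_lit 0x1010002001) (nat_lit 0x1014002005) (nat_lit 0) (nat_lit 0) (nat_lit 2) (nat_lit 1) (nat_lit 0) (nat_lit 1) (nat_lit 1) (nat_lit 0) (nat_lit 1) (nat_lit 0) (nat_lit 1) (nat_lit 0) .nil) (.cD (nat_lit 43) (.dfs (nat_lit 2) (nat_lit 0x1004006008014) (nat_lit 0x1004006008010) (nat_lit 0x1010002001) (nat_lit 0x1014002005) (nat_lit 0) (nat_lit 0) (nat_lit 2) (nat_lit 1) (nat_lit 0) (nat_lit 1) (nat_lit 1) (nat_lit 0) (nat_lit 1) (nat_lit 0) (nat_lit 1) (nat_lit 0) .nil) .nil))))))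
theorem c251 : (chk [] [] p251).n x136 s251 = true := by decide +kernel
noncomputable def p252 : Pf := (.lft (nat_lit 0x40010020008001004002001001) (nat_lit 4) (nat_lit 0x1070060050040) (nat_lit 0x40020010008004002001) (.extn a18 (nat_lit 0x40020010008004002001) (nat_lit 0x1008020010040) (nat_lit 2) (nat_lit 0) (nat_lit 0) (nat_lit 4) (nat_lit 0x10001000100010) (.cE (nat_lit 4) b49 (nat_lit 0) (.cut (nat_lit 0)) (.cut (nat_lit 1)) (.cE (nat_lit 20) b50 (nat_lit 0) (.cut (nat_lit 2)) (.cut (nat_lit 3)) (.cE (nat_lit 36) b51 (nat_lit 0) (.cut (nat_lit 4)) (.cut (nat_lit 5)) (.cE (nat_lit 52) b52 (nat_lit 0) (.cut (nat_lit 6)) (.cut (nat_lit 7)) .nil))))))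
theorem c252 : (chk [(x129, s244), (x130, s245), (x131, s246), (x132, s247), (x133, s248), (x134, s249), (x135, s250), (x136, s251)] [] p252).n x120 s252 = true := by decide +kernel
noncomputable def p253 : Pf := (.ext (nat_lit 0) (nat_lit 0x4006008010002001) (nat_lit 0x1040010020008002) (nat_lit 0x10008004002005002004004000010008002004005001004004000010008006004001002005) (nat_lit 0x4006008010) (nat_lit 0x1004001) (nat_lit 0x1004001) (nat_lit 0x10008004006005014008004002001) (.dfs (nat_lit 1) (nat_lit 0x1002004008010) (nat_lit 0x1002004008014) (nat_lit 4097) (nat_lit 4097) (nat_lit 0) (nat_lit 0) (nat_lit 2) (nat_lit 0) (nat_lit 0x2004008010001001) (nat_lit 1) (nat_lit 1) (nat_lit 0) (nat_lit 1) (nat_lit 0) (nat_lit 1) (nat_lit 0x102010201020102) (.cD (nat_lit 1) (.dfs (nat_lit 4) (nat_lit 0x1004008010020) (nat_lit 0x100c008010020) (nat_lit 0x1002001) (nat_lit 0x100a001) (nat_lit 0) (nat_lit 0) (nat_lit 2) (nat_lit 0) (nat_lit 0x4008010020001001) (nat_lit 4) (nat_lit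 1) (nat_lit 0) (nat_lit 4105) (nat_lit 9) (nat_lit 0x1000004000014) (nat_lit 0x100010) (.cD (nat_lit 4) (.kS (nat_lit 1) (nat_lit 0x2004008012009003010030058001001010030040007003) (nat_lit 4155) (nat_lit 0x8004002003) (nat_lit 0x100100000200400801400100900301003005800e00200200400801200500a004)) (.cD (nat_lit 20) (.kA true (nat_lit 0xc002006010005001010030040001002)) .nil))) (.cD (nat_lit 8) (.kS (nat_lit 0) (nat_lit 0xc008010020001004004000002) (nat_lit 0x1008003) (nat_lit 0x8004002005010008004006001) (nat_lit 0x400400000400801002000100200100400400000c00801002000100a002004)) (.cD (nat_lit 17) (.dfs (nat_lit 4) (nat_lit 0x1004008010020) (nat_lit 0x100c008010020) (nat_lit 0x1002001) (nat_lit 0x100a001) (nat_lit 0) (nat_lit 0) (nat_lit 2) (nat_lit 0) (nat_lit 0x4008010020001001) (nat_lit 4) (nat_lit 1) (nat_lit 0) (nat_lit 4105) (nat_lit 9) (nat_lit 0x1000004000014) (nat_lit 0x100010) (.cD (nat_lit 4) (.kA false (nat_lit 0xa010020041001008010020040001002)) (.cD (nat_lit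 20) (.kA false (nat_lit 0xa010020061001008010020060001002002000003)) .nil))) (.cD (nat_lit 24) (.kS (nat_lit 0) (nat_lit 0xc008010020001004004000002) (nat_lit 0x1018003) (nat_lit 0x8004002005010008004006001) (nat_lit 0x400400000400801002000100200100400400000c00801002000100a002004)) (.cD (nat_lit 33) (.dfs (nat_lit 4) (nat_lit 0x1004008010020) (nat_lit 0x100c008010020) (nat_lit 0x1002001) (nat_lit 0x100a001) (nat_lit 0) (nat_lit 0) (nat_lit 2) (nat_lit 0) (nat_lit 0x4008010020001001) (nat_lit 4) (nat_lit 1) (nat_lit 0) (nat_lit 4105) (nat_lit 9) (nat_lit 0x1000004000014) (nat_lit 0x100010) (.cD (nat_lit 4) (.cut (nat_lit 0)) (.cD (nat_lit 20) (.kA true (nat_lit 0xc002006010005001010030040001002)) .nil))) (.cD (nat_lit 40) (.kS (nat_lit 0) (nat_lit 0xc008010020001004004000002) (nat_lit 0x1028003) (nat_lit 0x8004002005010008004006001) (nat_lit 0x400400000400801002000100200100400400000c00801002000100a002004)) (.cD (nat_lit 49) (.dfs (nat_lit 4) (nat_lit 0x1004008010020)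 (nat_lit 0x100c008010020) (nat_lit 0x1002001) (nat_lit 0x100a001) (nat_lit 0) (nat_lit 0) (nat_lit 2) (nat_lit 0) (nat_lit 0x4008010020001001) (nat_lit 4) (nat_lit 1) (nat_lit 0) (nat_lit 4105) (nat_lit 9) (nat_lit 0x1000004000014) (nat_lit 0x100010) (.cD (nat_lit 4) (.kA false (nat_lit 0xa010020041001008010020040001002)) (.cD (nat_lit 20) (.kA false (nat_lit 0xa010020061001008010020060001002002000003)) .nil))) (.cD (nat_lit 56) (.kS (nat_lit 0) (nat_lit 0xc008010020001004004000002) (nat_lit 0x1038003) (nat_lit 0x8004002005010008004006001) (nat_lit 0x400400000400801002000100200100400400000c00801002000100a002004)) .nil))))))))))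
theorem c253 : (chk [(x120, s252)] [] p253).n x120 s253 = true := by decide +kernel
noncomputable def p254 : Pf := (.ext (nat_lit 0) (nat_lit 0) (nat_lit 0x1044010020009) (nat_lit 0x10008004002007010004002001001002) (nat_lit 0x2003004008) (nat_lit 4099) (nat_lit 4098) (nat_lit 0xc004002001) (.dfs (nat_lit 3) (nat_lit 0x1002003004008) (nat_lit 0x100200300400c) (nat_lit 4097) (nat_lit 4097) (nat_lit 0) (nat_lit 0) (nat_lit 2) (nat_lit 0) (nat_lit 0) (nat_lit 2) (nat_lit 1) (nat_lit 0) (nat_lit 4160) (nat_lit 64) (nat_lit 0x100000200000a00002200002a) (nat_lit 0x40400000404) (.cD (nat_lit 2) (.cut (nat_lit 1)) (.cD (nat_lit 10) (.iso x120 s243 (nat_lit 0) (nat_lit 0x1040020010008004002001) (nat_lit 0x40020010008004002001) [(nat_lit 0x10008004002001001001), (nat_lit 0x10008004002001003001), (nat_lit 0x40020010008004002001005001), (nat_lit 0x10008004002001007001)] (.cut (nat_lit 0))) (.cD (nat_lit 34) (.kS (nat_lit 0) (nat_lit 0x2004008010009001) (nat_lit 4098) (nat_lit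 0x8004002003) (nat_lit 0x400400000400200801000500100400400000400600801000100200200400801000500a005)) (.cD (nat_lit 42) (.kS (nat_lit 0) (nat_lit 0x2004008010009001) (nat_lit 4138) (nat_lit 0x8004002003) (nat_lit 0x400400000400200801000500100400400000400600801000100200200400801000700a005)) .nil))))))
theorem c254 : (chk [(x120, s243), (x120, s253)] [g7] p254).n x120 s254 = true := by decide +kernel
noncomputable def p255 : Pf := (.lft (nat_lit 0x4101002002a001006012003040010020008001004002001002) (nat_lit 10) (nat_lit 0x1070060050040) (nat_lit 0x40020010008004002001) (.extn (nat_lit 0x6306204004106606704504407a07b05905807f07e05c05d07307205005107607705505406a06b04904806f06e04c04d04304206006104604706506405a05b07907805f05e07c07d05305207007105605707507404a04b06906804f04e06c06d02e02f00d00c02b02a00800901701603403501201303103003e03f01d01c03b03a01801900700602402500200302102000e00f02d02c00b00a02802903703601401503203301101001e01f03d03c01b01a038039027026004005022023001000) (nat_lit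 0x40020010008004002001) (nat_lit 0x1008020010040) (nat_lit 2) (nat_lit 0) (nat_lit 0) (nat_lit 2) (nat_lit 0) .nil))
theorem c255 : (chk [] [] p255).n x120 s255 = true := by decide +kernel
noncomputable def p256 : Pf := (.ext (nat_lit 0) (nat_lit 0x4006008010002001) (nat_lit 0x1040010020008002) (nat_lit 0x10008004002001002004004000010008002004001001004004000010008006004005002005) (nat_lit 0x4006008010) (nat_lit 0x1004001) (nat_lit 0x1004001) (nat_lit 0x10008004006005014008004002001) (.dfs (nat_lit 1) (nat_lit 0x1002004008010) (nat_lit 0x1002004008014) (nat_lit 4097) (nat_lit 4097) (nat_lit 0) (nat_lit 0) (nat_lit 2) (nat_lit 0) (nat_lit 0x2004008010001001) (nat_lit 1) (nat_lit 1) (nat_lit 0) (nat_lit 1) (nat_lit 0) (nat_lit 1) (nat_lit 0x102010201020102) (.cD (nat_lit 1) (.dfs (nat_lit 4) (nat_lit 0x1004008010020) (nat_lit 0x100c008010020) (nat_lit 0x1002001) (nat_lit 0x100a001) (nat_lit 0) (nat_lit 0) (nat_lit 2) (nat_lit 0) (nat_lit 0x4008010020001001) (nat_lit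 4) (nat_lit 1) (nat_lit 0) (nat_lit 4105) (nat_lit 9) (nat_lit 0x1000004000014) (nat_lit 0x100010) (.cD (nat_lit 4) (.kS (nat_lit 1) (nat_lit 0x2004008010009001001000001010030040007003) (nat_lit 4127) (nat_lit 0x8004002003) (nat_lit 0x1100103004103f00100200400801400100900100100000200400801000100a004)) (.cD (nat_lit 20) (.kA true (nat_lit 0xc002006010005001010030040001002)) .nil))) (.cD (nat_lit 8) (.kS (nat_lit 0) (nat_lit 0xc008010020001004004000002) (nat_lit 0x1008023) (nat_lit 0x8004002005010008004006001) (nat_lit 0x400400000400801002000100200100400400000c00801002000100a002004)) (.cD (nat_lit 17) (.dfs (nat_lit 4) (nat_lit 0x1004008010020) (nat_lit 0x100c008010020) (nat_lit 0x1002001) (nat_lit 0x100a001) (nat_lit 0) (nat_lit 0) (nat_lit 2) (nat_lit 0) (nat_lit 0x4008010020001001) (nat_lit 4) (nat_lit 1) (nat_lit 0) (nat_lit 4105) (nat_lit 9) (nat_lit 0x1000004000014) (nat_lit 0x100010) (.cD (nat_lit 4) (.kA false (nat_lit 0x2a010020041001008010020040001002)) (.cD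 (nat_lit 20) (.kA false (nat_lit 0x2a010020061001008010020060001002002000003)) .nil))) (.cD (nat_lit 24) (.kS (nat_lit 0) (nat_lit 0xc008010020001004004000002) (nat_lit 0x1018023) (nat_lit 0x8004002005010008004006001) (nat_lit 0x400400000400801002000100200100400400000c00801002000100a002004)) (.cD (nat_lit 33) (.dfs (nat_lit 4) (nat_lit 0x1004008010020) (nat_lit 0x100c008010020) (nat_lit 0x1002001) (nat_lit 0x100a001) (nat_lit 0) (nat_lit 0) (nat_lit 2) (nat_lit 0) (nat_lit 0x4008010020001001) (nat_lit 4) (nat_lit 1) (nat_lit 0) (nat_lit 4105) (nat_lit 9) (nat_lit 0x1000004000014) (nat_lit 0x100010) (.cD (nat_lit 4) (.cut (nat_lit 0)) (.cD (nat_lit 20) (.kA true (nat_lit 0xc002006010005001010030040001002)) .nil))) (.cD (nat_lit 40) (.kS (nat_lit 0) (nat_lit 0xc008010020001004004000002) (nat_lit 0x1028023) (nat_lit 0x8004002005010008004006001) (nat_lit 0x400400000400801002000100200100400400000c00801002000100a002004)) (.cD (nat_lit 49) (.dfs (nat_lit 4) (nat_lit 0x1004008010020)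 (nat_lit 0x100c008010020) (nat_lit 0x1002001) (nat_lit 0x100a001) (nat_lit 0) (nat_lit 0) (nat_lit 2) (nat_lit 0) (nat_lit 0x4008010020001001) (nat_lit 4) (nat_lit 1) (nat_lit 0) (nat_lit 4105) (nat_lit 9) (nat_lit 0x1000004000014) (nat_lit 0x100010) (.cD (nat_lit 4) (.kA false (nat_lit 0x2a010020041001008010020040001002)) (.cD (nat_lit 20) (.kA false (nat_lit 0x2a010020061001008010020060001002002000003)) .nil))) (.cD (nat_lit 56) (.kS (nat_lit 0) (nat_lit 0xc008010020001004004000002) (nat_lit 0x1038023) (nat_lit 0x8004002005010008004006001) (nat_lit 0x400400000400801002000100200100400400000c00801002000100a002004)) .nil))))))))))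
theorem c256 : (chk [(x120, s255)] [] p256).n x120 s256 = true := by decide +kernel
noncomputable def p257 : Pf := (.lft (nat_lit 0x4101002002a001016002003040010020008001004002001002) (nat_lit 7) (nat_lit 0x1070060050040) (nat_lit 0x40020010008004002001) (.extn (nat_lit 0x6304206004106604706504407a05b07905807f05e07c05d07305207005107605707505406a04b06904806f04e06c04d04306204006104606704506405a07b05907805f07e05c07d05307205007105607705507404a06b04906804f06e04c06d02e00f02d00c02b00a02800901703601403501203301103003e01f03d01c03b01a03801900702600402500202300102000e02f00d02c00b02a00802903701603401503201303101001e03f01d03c01b03a018039027006024005022003021000) (nat_lit 0x40020010008004002001) (nat_lit 0x1008020010040) (nat_lit 2) (nat_lit 0) (nat_lit 0) (nat_lit 7) (nat_lit 0) .nil))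
theorem c257 : (chk [] [] p257).n x120 s257 = true := by decide +kernel
noncomputable def p258 : Pf := (.ext (nat_lit 0) (nat_lit 0x4006008010002001) (nat_lit 0x1040010020008002) (nat_lit 0x10008004002005002004004000010008002004005001004004000010008006004001002005) (nat_lit 0x4006008010) (nat_lit 0x1004001) (nat_lit 0x1004001) (nat_lit 0x10008004006005014008004002001) (.dfs (nat_lit 1) (nat_lit 0x1002004008010) (nat_lit 0x1002004008014) (nat_lit 4097) (nat_lit 4097) (nat_lit 0) (nat_lit 0) (nat_lit 2) (nat_lit 0) (nat_lit 0x2004008010001001) (nat_lit 1) (nat_lit 1) (nat_lit 0) (nat_lit 1) (nat_lit 0) (nat_lit 1) (nat_lit 0x102010201020102) (.cD (nat_lit 1) (.dfs (nat_lit 4) (nat_lit 0x1004008010020) (nat_lit 0x100c008010020) (nat_lit 0x1002001) (nat_lit 0x100a001) (nat_lit 0) (nat_lit 0) (nat_lit 2) (nat_lit 0) (nat_lit 0x4008010020001001) (nat_lit 4) (nat_lit 1) (nat_lit 0) (nat_lit 4105) (nat_lit 9) (nat_lit 0x1000004000014) (nat_lit 0x100010) (.cD (nat_lit 4) (.cut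 (nat_lit 0)) (.cD (nat_lit 20) (.kA true (nat_lit 0xc002006010005001010030040001002)) .nil))) (.cD (nat_lit 8) (.kS (nat_lit 0) (nat_lit 0xc008010020001004004000002) (nat_lit 0x1008003) (nat_lit 0x8004002005010008004006001) (nat_lit 0x400400000400801002000100200100400400000c00801002000100a002004)) (.cD (nat_lit 17) (.dfs (nat_lit 4) (nat_lit 0x1004008010020) (nat_lit 0x100c008010020) (nat_lit 0x1002001) (nat_lit 0x100a001) (nat_lit 0) (nat_lit 0) (nat_lit 2) (nat_lit 0) (nat_lit 0x4008010020001001) (nat_lit 4) (nat_lit 1) (nat_lit 0) (nat_lit 4105) (nat_lit 9) (nat_lit 0x1000004000014) (nat_lit 0x100010) (.cD (nat_lit 4) (.kA false (nat_lit 0x2a010020041001008010020040001002)) (.cD (nat_lit 20) (.kA false (nat_lit 0x2a010020061001008010020060001002002000003)) .nil))) (.cD (nat_lit 24) (.kS (nat_lit 0) (nat_lit 0xc008010020001004004000002) (nat_lit 0x1018003) (nat_lit 0x8004002005010008004006001) (nat_lit 0x400400000400801002000100200100400400000c00801002000100a002004))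 (.cD (nat_lit 33) (.dfs (nat_lit 4) (nat_lit 0x1004008010020) (nat_lit 0x100c008010020) (nat_lit 0x1002001) (nat_lit 0x100a001) (nat_lit 0) (nat_lit 0) (nat_lit 2) (nat_lit 0) (nat_lit 0x4008010020001001) (nat_lit 4) (nat_lit 1) (nat_lit 0) (nat_lit 4105) (nat_lit 9) (nat_lit 0x1000004000014) (nat_lit 0x100010) (.cD (nat_lit 4) (.kS (nat_lit 1) (nat_lit 0x2004008010009001001000001010030040007003) (nat_lit 4127) (nat_lit 0x8004002003) (nat_lit 0x1100103004103f00100200400801400100900100100000200400801000100a004)) (.cD (nat_lit 20) (.kA true (nat_lit 0xc002006010005001010030040001002)) .nil))) (.cD (nat_lit 40) (.kS (nat_lit 0) (nat_lit 0xc008010020001004004000002) (nat_lit 0x1028003) (nat_lit 0x8004002005010008004006001) (nat_lit 0x400400000400801002000100200100400400000c00801002000100a002004)) (.cD (nat_lit 49) (.dfs (nat_lit 4) (nat_lit 0x1004008010020) (nat_lit 0x100c008010020) (nat_lit 0x1002001) (nat_lit 0x100a001) (nat_lit 0) (nat_lit 0) (nat_lit 2) (nat_lit 0)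 (nat_lit 0x4008010020001001) (nat_lit 4) (nat_lit 1) (nat_lit 0) (nat_lit 4105) (nat_lit 9) (nat_lit 0x1000004000014) (nat_lit 0x100010) (.cD (nat_lit 4) (.kA false (nat_lit 0x2a010020041001008010020040001002)) (.cD (nat_lit 20) (.kA false (nat_lit 0x2a010020061001008010020060001002002000003)) .nil))) (.cD (nat_lit 56) (.kS (nat_lit 0) (nat_lit 0xc008010020001004004000002) (nat_lit 0x1038003) (nat_lit 0x8004002005010008004006001) (nat_lit 0x400400000400801002000100200100400400000c00801002000100a002004)) .nil))))))))))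
theorem c258 : (chk [(x120, s257)] [] p258).n x120 s258 = true := by decide +kernel
noncomputable def p259 : Pf := (.ext (nat_lit 0) (nat_lit 0) (nat_lit 0x1044010020019) (nat_lit 0x10008004002007010004002005001002) (nat_lit 0x2003004008) (nat_lit 4099) (nat_lit 4098) (nat_lit 0xc004002001) (.dfs (nat_lit 3) (nat_lit 0x1002003004008) (nat_lit 0x100200300400c) (nat_lit 4097) (nat_lit 4097) (nat_lit 0) (nat_lit 0) (nat_lit 2) (nat_lit 0) (nat_lit 0) (nat_lit 2) (nat_lit 1) (nat_lit 0) (nat_lit 4160) (nat_lit 64) (nat_lit 0x100000200000a00002200002a) (nat_lit 0x40400000404) (.cD (nat_lit 2) (.cut (nat_lit 1)) (.cD (nat_lit 10) (.iso x120 s256 (nat_lit 0) (nat_lit 0x1040020010008004002001) (nat_lit 0x40020010008004002001) [(nat_lit 0x10008004002001001001), (nat_lit 0x10008004002001003001), (nat_lit 0x40020010008004002001005001), (nat_lit 0x10008004002001007001)] (.cut (nat_lit 0))) (.cD (nat_lit 34) (.kS (nat_lit 0) (nat_lit 0x2004008010009001) (nat_lit 4098) (nat_lit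 0x8004002003) (nat_lit 0x400400000400200801000500100400400000400600801000100200200400801000500a005)) (.cD (nat_lit 42) (.kS (nat_lit 0) (nat_lit 0x2004008010009001) (nat_lit 4138) (nat_lit 0x8004002003) (nat_lit 0x400400000400200801000500100400400000400600801000100200200400801000700a005)) .nil))))))
theorem c259 : (chk [(x120, s256), (x120, s258)] [g7] p259).n x120 s259 = true := by decide +kernel
noncomputable def p260 : Pf := (.anc (nat_lit 68) (nat_lit 0x10006002002000002) (nat_lit 0x1009020010004) (.dfs (nat_lit 4) (nat_lit 4097) (nat_lit 4097) (nat_lit 1) (nat_lit 1) (nat_lit 0) (nat_lit 0) (nat_lit 3) (nat_lit 0) (nat_lit 0) (nat_lit 0) (nat_lit 1) (nat_lit 0) (nat_lit 0x1008004) (nat_lit 32772) (nat_lit 0x1001004000008001014000018) (nat_lit 0x1000101110110) (.cD (nat_lit 4) (.dfs (nat_lit 16) (nat_lit 4098) (nat_lit 4098) (nat_lit 4097) (nat_lit 4097) (nat_lit 0) (nat_lit 0) (nat_lit 3) (nat_lit 0) (nat_lit 0) (nat_lit 0) (nat_lit 1) (nat_lit 0) (nat_lit 1)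 (nat_lit 0) (nat_lit 1) (nat_lit 0x11001100110010) (.cD (nat_lit 4) (.kc (nat_lit 20) (nat_lit 0x3001001)) (.cD (nat_lit 16) (.dfs (nat_lit 32) (nat_lit 4100) (nat_lit 4100) (nat_lit 0x1002001) (nat_lit 0x1002001) (nat_lit 0) (nat_lit 0) (nat_lit 3) (nat_lit 0) (nat_lit 0) (nat_lit 0) (nat_lit 1) (nat_lit 0) (nat_lit 1) (nat_lit 0) (nat_lit 1) (nat_lit 0x11001100110010) (.cD (nat_lit 4) (.kc (nat_lit 36) (nat_lit 0x5001001)) (.cD (nat_lit 16) (.kc (nat_lit 48) (nat_lit 0x3001001)) (.cD (nat_lit 20) (.kc (nat_lit 52) (nat_lit 0x7001001)) (.cD (nat_lit 32) (.dfs (nat_lit 9) (nat_lit 0x1004001003008) (nat_lit 0x1005001003008) (nat_lit 4098) (nat_lit 4098) (nat_lit 0) (nat_lit 0) (nat_lit 2) (nat_lit 1) (nat_lit 0) (nat_lit 8) (nat_lit 1) (nat_lit 0) (nat_lit 4100) (nat_lit 4) (nat_lit 0x1000008000018) (nat_lit 0x1000100) (.cD (nat_lit 8) (.iso x120 s259 (nat_lit 0) (nat_lit 0x1040020010008004012011) (nat_lit 0x40020010008004012011) [(nat_lit 0x10008004002005001001),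 (nat_lit 0x40020010008024022001003001), (nat_lit 0x10008004002001005001), (nat_lit 0x10008004002009009001)] (.cut (nat_lit 1))) (.cD (nat_lit 24) (.iso x120 s254 (nat_lit 0) (nat_lit 0x1040020010008004012011) (nat_lit 0x40020010008004012011) [(nat_lit 0x10008004002005001001), (nat_lit 0x40020010008024022001003001), (nat_lit 0x10008004002001005001), (nat_lit 0x10008004002009009001)] (.cut (nat_lit 0))) .nil))) (.cD (nat_lit 36) (.kA true (nat_lit 0x100100000400100300d001001001000003)) (.cD (nat_lit 48) (.kA true (nat_lit 0x600800401000800400100300d001001001000003)) (.cD (nat_lit 52) (.kA true (nat_lit 0x800a00601e00700500100300e001002002000003)) .nil)))))))) (.cD (nat_lit 20) (.dfs (nat_lit 32) (nat_lit 4100) (nat_lit 4100) (nat_lit 0x1002001) (nat_lit 0x1002001) (nat_lit 0) (nat_lit 0) (nat_lit 3) (nat_lit 0) (nat_lit 0) (nat_lit 0) (nat_lit 1) (nat_lit 0) (nat_lit 1) (nat_lit 0) (nat_lit 1) (nat_lit 0x11001100110010) (.cD (nat_lit 4) (.kc (nat_lit 36) (nat_lit 0x5001001))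 (.cD (nat_lit 16) (.kc (nat_lit 52) (nat_lit 0x7001001)) (.cD (nat_lit 20) (.kc (nat_lit 48) (nat_lit 0x3001001)) (.cD (nat_lit 32) (.kA true (nat_lit 0x200200000500100300e001002002000003)) (.cD (nat_lit 36) (.dfs (nat_lit 9) (nat_lit 4102) (nat_lit 4103) (nat_lit 1) (nat_lit 1) (nat_lit 0) (nat_lit 0) (nat_lit 1) (nat_lit 4112) (nat_lit 0x40020010008004002001) (nat_lit 0) (nat_lit 1) (nat_lit 0) (nat_lit 1) (nat_lit 0) (nat_lit 1) (nat_lit 0) .nil) (.cD (nat_lit 48) (.kA true (nat_lit 0x400300500800100400100300c001002)) (.cD (nat_lit 52) (.kA true (nat_lit 0x400700100800100400100300c001002)) .nil)))))))) (.cD (nat_lit 32) (.kF (nat_lit 16) (nat_lit 0x100400100c012008002002000003)) (.cD (nat_lit 36) (.kF (nat_lit 16) (nat_lit 0x100400100c012008002002000003)) (.cD (nat_lit 48) (.dfs (nat_lit 32) (nat_lit 4100) (nat_lit 4100) (nat_lit 0x1002001) (nat_lit 0x1002001) (nat_lit 0) (nat_lit 0) (nat_lit 3) (nat_lit 0) (nat_lit 0) (nat_lit 0) (nat_lit 1) (nat_lit 0) (nat_lit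 1) (nat_lit 0) (nat_lit 1) (nat_lit 0x11001100110010) (.cD (nat_lit 4) (.kc (nat_lit 36) (nat_lit 0x5001001)) (.cD (nat_lit 16) (.kA true (nat_lit 0x400200100800100400100300c001002)) (.cD (nat_lit 20) (.kA true (nat_lit 0x400600500800100400100300c001002)) (.cD (nat_lit 32) (.kA true (nat_lit 0x200400c01000800500100300e001002002000003)) (.cD (nat_lit 36) (.kA true (nat_lit 0x400500600800100400100300c001002)) (.cD (nat_lit 48) (.kc (nat_lit 48) (nat_lit 0x3001001)) (.cD (nat_lit 52) (.kc (nat_lit 52) (nat_lit 0x7001001)) .nil)))))))) (.cD (nat_lit 52) (.dfs (nat_lit 32) (nat_lit 4100) (nat_lit 4100) (nat_lit 0x1002001) (nat_lit 0x1002001) (nat_lit 0) (nat_lit 0) (nat_lit 3) (nat_lit 0) (nat_lit 0) (nat_lit 0) (nat_lit 1) (nat_lit 0) (nat_lit 1) (nat_lit 0) (nat_lit 1) (nat_lit 0x11001100110010) (.cD (nat_lit 4) (.kc (nat_lit 36) (nat_lit 0x5001001)) (.cD (nat_lit 16) (.kA true (nat_lit 0x400200500800100400100300c001002)) (.cD (nat_lit 20) (.kA true (nat_lit 0x400600100800100400100300c001002))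 (.cD (nat_lit 32) (.kA true (nat_lit 0x4001003008001002004008012008002002000003)) (.cD (nat_lit 36) (.kA true (nat_lit 0x400500200800100400100300c001002)) (.cD (nat_lit 48) (.kc (nat_lit 52) (nat_lit 0x7001001)) (.cD (nat_lit 52) (.kc (nat_lit 48) (nat_lit 0x3001001)) .nil)))))))) .nil)))))))) (.cD (nat_lit 8) (.dfs (nat_lit 16) (nat_lit 4098) (nat_lit 4098) (nat_lit 4097) (nat_lit 4097) (nat_lit 0) (nat_lit 0) (nat_lit 3) (nat_lit 0) (nat_lit 0) (nat_lit 0) (nat_lit 1) (nat_lit 0) (nat_lit 1) (nat_lit 0) (nat_lit 1) (nat_lit 0x101010101010100) (.cD (nat_lit 8) (.kc (nat_lit 20) (nat_lit 0x3001001)) (.cD (nat_lit 16) (.dfs (nat_lit 32) (nat_lit 4100) (nat_lit 4100) (nat_lit 0x1002001) (nat_lit 0x1002001) (nat_lit 0) (nat_lit 0) (nat_lit 3) (nat_lit 0) (nat_lit 0) (nat_lit 0) (nat_lit 1) (nat_lit 0) (nat_lit 1) (nat_lit 0) (nat_lit 1) (nat_lit 0x101010101010100) (.cD (nat_lit 8) (.kc (nat_lit 36) (nat_lit 0x5001001)) (.cD (nat_lit 16) (.kc (nat_lit 48) (nat_lit 0x3001001))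 (.cD (nat_lit 24) (.kc (nat_lit 52) (nat_lit 0x7001001)) (.cD (nat_lit 32) (.kA false (nat_lit 0x400100200c002008010020050003001001000003)) (.cD (nat_lit 40) (.kA false (nat_lit 0x100100000400500200d002001001000003)) (.cD (nat_lit 48) (.kA false (nat_lit 0x600800c01000800400300200b002001001000003)) (.cD (nat_lit 56) (.kA false (nat_lit 0x400700200c002008010020050003001001000003)) .nil)))))))) (.cD (nat_lit 24) (.dfs (nat_lit 32) (nat_lit 4100) (nat_lit 4100) (nat_lit 0x1002001) (nat_lit 0x1002001) (nat_lit 0) (nat_lit 0) (nat_lit 3) (nat_lit 0) (nat_lit 0) (nat_lit 0) (nat_lit 1) (nat_lit 0) (nat_lit 1) (nat_lit 0) (nat_lit 1) (nat_lit 0x101010101010100) (.cD (nat_lit 8) (.kc (nat_lit 36) (nat_lit 0x5001001)) (.cD (nat_lit 16) (.kc (nat_lit 52) (nat_lit 0x7001001)) (.cD (nat_lit 24) (.kc (nat_lit 48) (nat_lit 0x3001001)) (.cD (nat_lit 32) (.kA false (nat_lit 0x400100600c002008010020050003001001000003)) (.cD (nat_lit 40) (.kA false (nat_lit 0x100100000400500600d002001001000003))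 (.cD (nat_lit 48) (.kA false (nat_lit 0x400700600c002008010020050003001001000003)) (.cD (nat_lit 56) (.kA false (nat_lit 0x600800a01000800400300600b002001001000003)) .nil)))))))) (.cD (nat_lit 32) (.kF (nat_lit 16) (nat_lit 0x100400100c012008002002000003)) (.cD (nat_lit 40) (.kF (nat_lit 16) (nat_lit 0x100400100c012008002002000003)) (.cD (nat_lit 48) (.dfs (nat_lit 32) (nat_lit 4100) (nat_lit 4100) (nat_lit 0x1002001) (nat_lit 0x1002001) (nat_lit 0) (nat_lit 0) (nat_lit 3) (nat_lit 0) (nat_lit 0) (nat_lit 0) (nat_lit 1) (nat_lit 0) (nat_lit 1) (nat_lit 0) (nat_lit 1) (nat_lit 0x101010101010100) (.cD (nat_lit 8) (.kc (nat_lit 36) (nat_lit 0x5001001)) (.cD (nat_lit 16) (.kA false (nat_lit 0x600800401000800400300100b002001001000003)) (.cD (nat_lit 24) (.kA false (nat_lit 0x400700500c002008010020050003001001000003)) (.cD (nat_lit 32) (.kA false (nat_lit 0x400100300c002008010020050003001001000003)) (.cD (nat_lit 40) (.kA false (nat_lit 0x100100000400500700d002001001000003))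 (.cD (nat_lit 48) (.kc (nat_lit 48) (nat_lit 0x3001001)) (.cD (nat_lit 56) (.kc (nat_lit 52) (nat_lit 0x7001001)) .nil)))))))) (.cD (nat_lit 56) (.dfs (nat_lit 32) (nat_lit 4100) (nat_lit 4100) (nat_lit 0x1002001) (nat_lit 0x1002001) (nat_lit 0) (nat_lit 0) (nat_lit 3) (nat_lit 0) (nat_lit 0) (nat_lit 0) (nat_lit 1) (nat_lit 0) (nat_lit 1) (nat_lit 0) (nat_lit 1) (nat_lit 0x101010101010100) (.cD (nat_lit 8) (.kc (nat_lit 36) (nat_lit 0x5001001)) (.cD (nat_lit 16) (.kA false (nat_lit 0x400700100c002008010020050003001001000003)) (.cD (nat_lit 24) (.kA false (nat_lit 0x600800201000800400300500b002001001000003)) (.cD (nat_lit 32) (.kA false (nat_lit 0x400100700c002008010020050003001001000003)) (.cD (nat_lit 40) (.kA false (nat_lit 0x100100000400500300d002001001000003)) (.cD (nat_lit 48) (.kc (nat_lit 52) (nat_lit 0x7001001)) (.cD (nat_lit 56) (.kc (nat_lit 48) (nat_lit 0x3001001)) .nil)))))))) .nil)))))))) (.cD (nat_lit 16) (.kF (nat_lit 4) (nat_lit 0x2002000001003001002))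 (.cD (nat_lit 20) (.kF (nat_lit 4) (nat_lit 0xe01e007001003001002)) (.cD (nat_lit 24) (.kF (nat_lit 4) (nat_lit 0x1002001002012008002002000003)) (.cD (nat_lit 32) (.dfs (nat_lit 16) (nat_lit 4098) (nat_lit 4098) (nat_lit 4097) (nat_lit 4097) (nat_lit 0) (nat_lit 0) (nat_lit 3) (nat_lit 0) (nat_lit 0) (nat_lit 0) (nat_lit 1) (nat_lit 0) (nat_lit 0x1008004) (nat_lit 32772) (nat_lit 0x1001004000008001014000018) (nat_lit 0x1000101110110) (.cD (nat_lit 4) (.kF (nat_lit 16) (nat_lit 0x1001000001006001002)) (.cD (nat_lit 8) (.kF (nat_lit 16) (nat_lit 0x1001000001006001002)) (.cD (nat_lit 16) (.dfs (nat_lit 32) (nat_lit 4100) (nat_lit 4100) (nat_lit 0x1002001) (nat_lit 0x1002001) (nat_lit 0) (nat_lit 0) (nat_lit 3) (nat_lit 0) (nat_lit 0) (nat_lit 0) (nat_lit 1) (nat_lit 0) (nat_lit 0x1008004) (nat_lit 32772) (nat_lit 0x1001004000008001014000018) (nat_lit 0x1000101110110) (.cD (nat_lit 4) (.kA true (nat_lit 0x100400600c002001001000002)) (.cD (nat_lit 8) (.kA false (nat_lit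 0x100400200c002001001000002)) (.cD (nat_lit 16) (.kc (nat_lit 48) (nat_lit 0x3001001)) (.cD (nat_lit 20) (.kA true (nat_lit 0x300400600c002001001000002)) (.cD (nat_lit 24) (.kA false (nat_lit 0x300400200c002001001000002)) (.cD (nat_lit 32) (.kc (nat_lit 36) (nat_lit 0x5001001)) (.cD (nat_lit 48) (.kc (nat_lit 52) (nat_lit 0x7001001)) .nil)))))))) (.cD (nat_lit 20) (.dfs (nat_lit 32) (nat_lit 4100) (nat_lit 4100) (nat_lit 0x1002001) (nat_lit 0x1002001) (nat_lit 0) (nat_lit 0) (nat_lit 3) (nat_lit 0) (nat_lit 0) (nat_lit 0) (nat_lit 1) (nat_lit 0) (nat_lit 1) (nat_lit 0) (nat_lit 1) (nat_lit 0x11001100110010) (.cD (nat_lit 4) (.kA true (nat_lit 0x100400700c002001001000002)) (.cD (nat_lit 16) (.kA true (nat_lit 0x300400500c002001001000002)) (.cD (nat_lit 20) (.kc (nat_lit 48) (nat_lit 0x3001001)) (.cD (nat_lit 32) (.kc (nat_lit 36) (nat_lit 0x5001001)) (.cD (nat_lit 36) (.dfs (nat_lit 9) (nat_lit 4100) (nat_lit 4101) (nat_lit 1) (nat_lit 1) (nat_lit 0) (nat_lit 0) (nat_lit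 1) (nat_lit 4128) (nat_lit 0x40020010008004002001) (nat_lit 0) (nat_lit 1) (nat_lit 0) (nat_lit 1) (nat_lit 0) (nat_lit 1) (nat_lit 0) .nil) (.cD (nat_lit 48) (.kA true (nat_lit 0x700400100c002001001000002)) (.cD (nat_lit 52) (.kc (nat_lit 52) (nat_lit 0x7001001)) .nil)))))))) (.cD (nat_lit 24) (.dfs (nat_lit 32) (nat_lit 4100) (nat_lit 4100) (nat_lit 0x1002001) (nat_lit 0x1002001) (nat_lit 0) (nat_lit 0) (nat_lit 3) (nat_lit 0) (nat_lit 0) (nat_lit 0) (nat_lit 1) (nat_lit 0) (nat_lit 1) (nat_lit 0) (nat_lit 1) (nat_lit 0x101010101010100) (.cD (nat_lit 8) (.kA false (nat_lit 0x100400300c002001001000002)) (.cD (nat_lit 16) (.kA false (nat_lit 0x300400100c002001001000002)) (.cD (nat_lit 24) (.kc (nat_lit 48) (nat_lit 0x3001001)) (.cD (nat_lit 32) (.kc (nat_lit 36) (nat_lit 0x5001001)) (.cD (nat_lit 40) (.kA false (nat_lit 0x500400700c002001001000002)) (.cD (nat_lit 48) (.kA false (nat_lit 0x700400500c002001001000002)) (.cD (nat_lit 56) (.kc (nat_lit 52) (nat_lit 0x7001001))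 .nil)))))))) (.cD (nat_lit 32) (.kc (nat_lit 20) (nat_lit 0x3001001)) (.cD (nat_lit 48) (.dfs (nat_lit 32) (nat_lit 4100) (nat_lit 4100) (nat_lit 0x1002001) (nat_lit 0x1002001) (nat_lit 0) (nat_lit 0) (nat_lit 3) (nat_lit 0) (nat_lit 0) (nat_lit 0) (nat_lit 1) (nat_lit 0) (nat_lit 0x1008004) (nat_lit 32772) (nat_lit 0x1001004000008001014000018) (nat_lit 0x1000101110110) (.cD (nat_lit 4) (.kA true (nat_lit 0x100400200c002001001000002)) (.cD (nat_lit 8) (.kA false (nat_lit 0x100400600c002001001000002)) (.cD (nat_lit 16) (.kc (nat_lit 52) (nat_lit 0x7001001)) (.cD (nat_lit 20) (.kA true (nat_lit 0x700400200c002001001000002)) (.cD (nat_lit 24) (.kA false (nat_lit 0x700400600c002001001000002)) (.cD (nat_lit 32) (.kc (nat_lit 36) (nat_lit 0x5001001)) (.cD (nat_lit 48) (.kc (nat_lit 48) (nat_lit 0x3001001)) .nil)))))))) .nil)))))))) (.cD (nat_lit 48) (.kF (nat_lit 4) (nat_lit 0x1002001002012008002002000003)) .nil)))))))))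
theorem c260 : (chk [(x120, s254), (x120, s259)] [g7] p260).n x120 s260 = true := by decide +kernel
noncomputable def p261 : Pf := (.ext (nat_lit 0) (nat_lit 0) (nat_lit 0x1040010020008002) (nat_lit 0x16008004002001006001001000010008004002001005003) (nat_lit 0x2004008016) (nat_lit 0x1004001) (nat_lit 0x1005001) (nat_lit 0x10008004006005014008004002001) (.dfs (nat_lit 1) (nat_lit 0x1002004008016) (nat_lit 0x1002004008012) (nat_lit 0x1010001) (nat_lit 0x1014001) (nat_lit 0) (nat_lit 0) (nat_lit 2) (nat_lit 0) (nat_lit 0) (nat_lit 1) (nat_lit 1) (nat_lit 0) (nat_lit 1) (nat_lit 0) (nat_lit 1) (nat_lit 0x202020202020202) (.cD (nat_lit 1) (.dfs (nat_lit 4) (nat_lit 0x100400801002c) (nat_lit 0x100c008010024) (nat_lit 0x1020002001) (nat_lit 0x102000a001) (nat_lit 0) (nat_lit 0) (nat_lit 2) (nat_lit 0) (nat_lit 0) (nat_lit 5) (nat_lit 1) (nat_lit 0) (nat_lit 4104) (nat_lit 8) (nat_lit 0x1000005000015) (nat_lit 0x200020) (.cD (nat_lit 5) (.kA true (nat_lit 0xe004008010003001010030050001001001000003))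 (.cD (nat_lit 21) (.kS (nat_lit 1) (nat_lit 0x10001030070001006004008018003002002000001010030040001004) (nat_lit 4110) (nat_lit 0x8004002003) (nat_lit 0x200200000400600801000d00402301003005800e00100200200000600400801800100401000103007003f002006)) .nil))) (.cD (nat_lit 9) (.kS (nat_lit 0) (nat_lit 0x4004000004008010020001002) (nat_lit 0x1029022) (nat_lit 0x8004002005010008004006001) (nat_lit 0xc00801002800100a001005005000004008010020001002002004004000004)) (.cD (nat_lit 17) (.dfs (nat_lit 4) (nat_lit 0x100400801002c) (nat_lit 0x100c008010024) (nat_lit 0x1020002001) (nat_lit 0x102000a001) (nat_lit 0) (nat_lit 0) (nat_lit 2) (nat_lit 0) (nat_lit 0) (nat_lit 5) (nat_lit 1) (nat_lit 0) (nat_lit 4104) (nat_lit 8) (nat_lit 0x1000005000015) (nat_lit 0x200020) (.cD (nat_lit 5) (.kA true (nat_lit 0x3010030058001001010030040001002)) (.cD (nat_lit 21) (.kA true (nat_lit 0x23010030058001001010030040001002)) .nil))) (.cD (nat_lit 25) (.kS (nat_lit 0) (nat_lit 0x4004000004008010020001002)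 (nat_lit 0x1039022) (nat_lit 0x8004002005010008004006001) (nat_lit 0xc00801002800100a001005005000004008010020001002002004004000004)) (.cD (nat_lit 33) (.dfs (nat_lit 4) (nat_lit 0x100400801002c) (nat_lit 0x100c008010024) (nat_lit 0x1020002001) (nat_lit 0x102000a001) (nat_lit 0) (nat_lit 0) (nat_lit 2) (nat_lit 0) (nat_lit 0) (nat_lit 5) (nat_lit 1) (nat_lit 0) (nat_lit 4104) (nat_lit 8) (nat_lit 0x1000005000015) (nat_lit 0x200020) (.cD (nat_lit 5) (.kA true (nat_lit 0xe004008010003001010030050001001001000003)) (.cD (nat_lit 21) (.cut (nat_lit 0)) .nil))) (.cD (nat_lit 41) (.kS (nat_lit 0) (nat_lit 0x4004000004008010020001002) (nat_lit 0x1009022) (nat_lit 0x8004002005010008004006001) (nat_lit 0xc00801002800100a001005005000004008010020001002002004004000004)) (.cD (nat_lit 49) (.dfs (nat_lit 4) (nat_lit 0x100400801002c) (nat_lit 0x100c008010024) (nat_lit 0x1020002001) (nat_lit 0x102000a001) (nat_lit 0) (nat_lit 0) (nat_lit 2) (nat_lit 0) (nat_lit 0) (nat_lit 5) (nat_lit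 1) (nat_lit 0) (nat_lit 4104) (nat_lit 8) (nat_lit 0x1000005000015) (nat_lit 0x200020) (.cD (nat_lit 5) (.kA true (nat_lit 0x3010030058001001010030040001002)) (.cD (nat_lit 21) (.kA true (nat_lit 0x23010030058001001010030040001002)) .nil))) (.cD (nat_lit 57) (.kS (nat_lit 0) (nat_lit 0x4004000004008010020001002) (nat_lit 0x1019022) (nat_lit 0x8004002005010008004006001) (nat_lit 0xc00801002800100a001005005000004008010020001002002004004000004)) .nil))))))))))
theorem c261 : (chk [(x120, s260)] [] p261).n x120 s261 = true := by decide +kernel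
noncomputable def p262 : Pf := (.ext (nat_lit 0) (nat_lit 0x4006008010002001) (nat_lit 0x1040010020008002) (nat_lit 0x10008004002005002004004000010008002004005001004004000010008006004001002005) (nat_lit 0x4006008010) (nat_lit 0x1004001) (nat_lit 0x1004001) (nat_lit 0x10008004006005014008004002001) (.dfs (nat_lit 1) (nat_lit 0x1002004008010) (nat_lit 0x1002004008014) (nat_lit 4097) (nat_lit 4097) (nat_lit 0) (nat_lit 0) (nat_lit 2) (nat_lit 0) (nat_lit 0x2004008010001001) (nat_lit 1) (nat_lit 1) (nat_lit 0) (nat_lit 1) (nat_lit 0) (nat_lit 1) (nat_lit 0x102010201020102) (.cD (nat_lit 1) (.dfs (nat_lit 4) (nat_lit 0x1004008010020) (nat_lit 0x100c008010020) (nat_lit 0x1002001) (nat_lit 0x100a001) (nat_lit 0) (nat_lit 0) (nat_lit 2) (nat_lit 0) (nat_lit 0x4008010020001001) (nat_lit 4) (nat_lit 1) (nat_lit 0) (nat_lit 4105) (nat_lit 9) (nat_lit 0x1000004000014) (nat_lit 0x100010) (.cD (nat_lit 4) (.kS (nat_lit 1) (nat_lit 0x2004008012009003010030058001001010030040007003)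 (nat_lit 4155) (nat_lit 0x8004002003) (nat_lit 0x100100000200400801400100900301003005800e00200200400801200500a004)) (.cD (nat_lit 20) (.kA true (nat_lit 0xc002006010005001010030040001002)) .nil))) (.cD (nat_lit 8) (.kS (nat_lit 0) (nat_lit 0xc008010020001004004000002) (nat_lit 0x1008003) (nat_lit 0x8004002005010008004006001) (nat_lit 0x400400000400801002000100200100400400000c00801002000100a002004)) (.cD (nat_lit 17) (.dfs (nat_lit 4) (nat_lit 0x1004008010020) (nat_lit 0x100c008010020) (nat_lit 0x1002001) (nat_lit 0x100a001) (nat_lit 0) (nat_lit 0) (nat_lit 2) (nat_lit 0) (nat_lit 0x4008010020001001) (nat_lit 4) (nat_lit 1) (nat_lit 0) (nat_lit 4105) (nat_lit 9) (nat_lit 0x1000004000014) (nat_lit 0x100010) (.cD (nat_lit 4) (.kA false (nat_lit 0xa010020041001008010020040001002)) (.cD (nat_lit 20) (.kA false (nat_lit 0xa010020061001008010020060001002002000003)) .nil))) (.cD (nat_lit 24) (.kS (nat_lit 0) (nat_lit 0xc008010020001004004000002) (nat_lit 0x1018003) (nat_lit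 0x8004002005010008004006001) (nat_lit 0x400400000400801002000100200100400400000c00801002000100a002004)) (.cD (nat_lit 33) (.dfs (nat_lit 4) (nat_lit 0x1004008010020) (nat_lit 0x100c008010020) (nat_lit 0x1002001) (nat_lit 0x100a001) (nat_lit 0) (nat_lit 0) (nat_lit 2) (nat_lit 0) (nat_lit 0x4008010020001001) (nat_lit 4) (nat_lit 1) (nat_lit 0) (nat_lit 4105) (nat_lit 9) (nat_lit 0x1000004000014) (nat_lit 0x100010) (.cD (nat_lit 4) (.kS (nat_lit 1) (nat_lit 0x600400801e00c001) (nat_lit 4106) (nat_lit 0x8004002007) (nat_lit 0x1101003006000c00100200200000600400801e00100b003)) (.cD (nat_lit 20) (.kA true (nat_lit 0xc002006010005001010030040001002)) .nil))) (.cD (nat_lit 40) (.kS (nat_lit 0) (nat_lit 0xc008010020001004004000002) (nat_lit 0x1028003) (nat_lit 0x8004002005010008004006001) (nat_lit 0x400400000400801002000100200100400400000c00801002000100a002004)) (.cD (nat_lit 49) (.dfs (nat_lit 4) (nat_lit 0x1004008010020) (nat_lit 0x100c008010020) (nat_lit 0x1002001) (nat_lit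 0x100a001) (nat_lit 0) (nat_lit 0) (nat_lit 2) (nat_lit 0) (nat_lit 0x4008010020001001) (nat_lit 4) (nat_lit 1) (nat_lit 0) (nat_lit 4105) (nat_lit 9) (nat_lit 0x1000004000014) (nat_lit 0x100010) (.cD (nat_lit 4) (.kA false (nat_lit 0xa010020041001008010020040001002)) (.cD (nat_lit 20) (.kA false (nat_lit 0xa010020061001008010020060001002002000003)) .nil))) (.cD (nat_lit 56) (.kS (nat_lit 0) (nat_lit 0xc008010020001004004000002) (nat_lit 0x1038003) (nat_lit 0x8004002005010008004006001) (nat_lit 0x400400000400801002000100200100400400000c00801002000100a002004)) .nil))))))))))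
theorem c262 : (chk [] [] p262).n x120 s262 = true := by decide +kernel
noncomputable def p263 : Pf := (.ext (nat_lit 0) (nat_lit 0) (nat_lit 0x1044010020009) (nat_lit 0x10008004002009010004002001001002) (nat_lit 0x2003004008) (nat_lit 4099) (nat_lit 4098) (nat_lit 0xc004002001) (.dfs (nat_lit 3) (nat_lit 0x1002003004008) (nat_lit 0x100200300400c) (nat_lit 4097) (nat_lit 4097) (nat_lit 0) (nat_lit 0) (nat_lit 2) (nat_lit 0) (nat_lit 0) (nat_lit 2) (nat_lit 1) (nat_lit 0) (nat_lit 4160) (nat_lit 64) (nat_lit 0x100000200000a00002200002a) (nat_lit 0x40400000404) (.cD (nat_lit 2) (.cut (nat_lit 1)) (.cD (nat_lit 10) (.cut (nat_lit 0)) (.cD (nat_lit 34) (.kS (nat_lit 0) (nat_lit 0x200400801000b001) (nat_lit 4098) (nat_lit 0x8004002003) (nat_lit 0x400400000400200801000500100400400000400600801000100200200400801000500c005)) (.cD (nat_lit 42) (.kS (nat_lit 0) (nat_lit 0x200400801000b001) (nat_lit 4138) (nat_lit 0x8004002003) (nat_lit 0x400400000400200801000500100400400000400600801000100200200400801000700c005))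 .nil))))))
theorem c263 : (chk [(x120, s243), (x120, s262)] [] p263).n x120 s263 = true := by decide +kernel
noncomputable def p264 : Pf := (.ext (nat_lit 0) (nat_lit 0x4006008010002001) (nat_lit 0x1040010020008002) (nat_lit 0x10008004002005002004004000010008002004005001004004000010008006004001002005) (nat_lit 0x4006008010) (nat_lit 0x1004001) (nat_lit 0x1004001) (nat_lit 0x10008004006005014008004002001) (.dfs (nat_lit 1) (nat_lit 0x1002004008010) (nat_lit 0x1002004008014) (nat_lit 4097) (nat_lit 4097) (nat_lit 0) (nat_lit 0) (nat_lit 2) (nat_lit 0) (nat_lit 0x2004008010001001) (nat_lit 1) (nat_lit 1) (nat_lit 0) (nat_lit 1) (nat_lit 0) (nat_lit 1) (nat_lit 0x102010201020102) (.cD (nat_lit 1) (.dfs (nat_lit 4) (nat_lit 0x1004008010020) (nat_lit 0x100c008010020) (nat_lit 0x1002001) (nat_lit 0x100a001) (nat_lit 0) (nat_lit 0) (nat_lit 2) (nat_lit 0) (nat_lit 0x4008010020001001) (nat_lit 4) (nat_lit 1) (nat_lit 0) (nat_lit 4105) (nat_lit 9) (nat_lit 0x1000004000014)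 (nat_lit 0x100010) (.cD (nat_lit 4) (.kS (nat_lit 1) (nat_lit 0x600400801e00c001) (nat_lit 4106) (nat_lit 0x8004002007) (nat_lit 0x1101003006000c00100200200000600400801e00100b003)) (.cD (nat_lit 20) (.kA true (nat_lit 0xc002006010005001010030040001002)) .nil))) (.cD (nat_lit 8) (.kS (nat_lit 0) (nat_lit 0xc008010020001004004000002) (nat_lit 0x1008003) (nat_lit 0x8004002005010008004006001) (nat_lit 0x400400000400801002000100200100400400000c00801002000100a002004)) (.cD (nat_lit 17) (.dfs (nat_lit 4) (nat_lit 0x1004008010020) (nat_lit 0x100c008010020) (nat_lit 0x1002001) (nat_lit 0x100a001) (nat_lit 0) (nat_lit 0) (nat_lit 2) (nat_lit 0) (nat_lit 0x4008010020001001) (nat_lit 4) (nat_lit 1) (nat_lit 0) (nat_lit 4105) (nat_lit 9) (nat_lit 0x1000004000014) (nat_lit 0x100010) (.cD (nat_lit 4) (.kA false (nat_lit 0x2a010020041001008010020040001002)) (.cD (nat_lit 20) (.kA false (nat_lit 0x2a010020061001008010020060001002002000003)) .nil))) (.cD (nat_lit 24) (.kS (nat_lit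 0) (nat_lit 0xc008010020001004004000002) (nat_lit 0x1018003) (nat_lit 0x8004002005010008004006001) (nat_lit 0x400400000400801002000100200100400400000c00801002000100a002004)) (.cD (nat_lit 33) (.dfs (nat_lit 4) (nat_lit 0x1004008010020) (nat_lit 0x100c008010020) (nat_lit 0x1002001) (nat_lit 0x100a001) (nat_lit 0) (nat_lit 0) (nat_lit 2) (nat_lit 0) (nat_lit 0x4008010020001001) (nat_lit 4) (nat_lit 1) (nat_lit 0) (nat_lit 4105) (nat_lit 9) (nat_lit 0x1000004000014) (nat_lit 0x100010) (.cD (nat_lit 4) (.kS (nat_lit 1) (nat_lit 0x2004008010009001001000001010030040007003) (nat_lit 4127) (nat_lit 0x8004002003) (nat_lit 0x1100103004103f00100200400801400100900100100000200400801000100a004)) (.cD (nat_lit 20) (.kA true (nat_lit 0xc002006010005001010030040001002)) .nil))) (.cD (nat_lit 40) (.kS (nat_lit 0) (nat_lit 0xc008010020001004004000002) (nat_lit 0x1028003) (nat_lit 0x8004002005010008004006001) (nat_lit 0x400400000400801002000100200100400400000c00801002000100a002004))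 (.cD (nat_lit 49) (.dfs (nat_lit 4) (nat_lit 0x1004008010020) (nat_lit 0x100c008010020) (nat_lit 0x1002001) (nat_lit 0x100a001) (nat_lit 0) (nat_lit 0) (nat_lit 2) (nat_lit 0) (nat_lit 0x4008010020001001) (nat_lit 4) (nat_lit 1) (nat_lit 0) (nat_lit 4105) (nat_lit 9) (nat_lit 0x1000004000014) (nat_lit 0x100010) (.cD (nat_lit 4) (.kA false (nat_lit 0x2a010020041001008010020040001002)) (.cD (nat_lit 20) (.kA false (nat_lit 0x2a010020061001008010020060001002002000003)) .nil))) (.cD (nat_lit 56) (.kS (nat_lit 0) (nat_lit 0xc008010020001004004000002) (nat_lit 0x1038003) (nat_lit 0x8004002005010008004006001) (nat_lit 0x400400000400801002000100200100400400000c00801002000100a002004)) .nil))))))))))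
theorem c264 : (chk [] [] p264).n x120 s264 = true := by decide +kernel
noncomputable def p265 : Pf := (.ext (nat_lit 0) (nat_lit 0) (nat_lit 0x1044010020019) (nat_lit 0x10008004002009010004002005001002) (nat_lit 0x2003004008) (nat_lit 4099) (nat_lit 4098) (nat_lit 0xc004002001) (.dfs (nat_lit 3) (nat_lit 0x1002003004008) (nat_lit 0x100200300400c) (nat_lit 4097) (nat_lit 4097) (nat_lit 0) (nat_lit 0) (nat_lit 2) (nat_lit 0) (nat_lit 0) (nat_lit 2) (nat_lit 1) (nat_lit 0) (nat_lit 4160) (nat_lit 64) (nat_lit 0x100000200000a00002200002a) (nat_lit 0x40400000404) (.cD (nat_lit 2) (.cut (nat_lit 1)) (.cD (nat_lit 10) (.cut (nat_lit 0)) (.cD (nat_lit 34) (.kS (nat_lit 0) (nat_lit 0x200400801000b001) (nat_lit 4098) (nat_lit 0x8004002003) (nat_lit 0x400400000400200801000500100400400000400600801000100200200400801000500c005)) (.cD (nat_lit 42) (.kS (nat_lit 0) (nat_lit 0x200400801000b001) (nat_lit 4138) (nat_lit 0x8004002003) (nat_lit 0x400400000400200801000500100400400000400600801000100200200400801000700c005))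 .nil))))))
theorem c265 : (chk [(x120, s256), (x120, s264)] [] p265).n x120 s265 = true := by decide +kernel
noncomputable def p266 : Pf := (.anc (nat_lit 68) (nat_lit 0x10006002002000002) (nat_lit 0x1009020010004) (.dfs (nat_lit 4) (nat_lit 4097) (nat_lit 4097) (nat_lit 1) (nat_lit 1) (nat_lit 0) (nat_lit 0) (nat_lit 3) (nat_lit 0) (nat_lit 0) (nat_lit 0) (nat_lit 1) (nat_lit 0) (nat_lit 0x1008004) (nat_lit 32772) (nat_lit 0x1001004000008001014000018) (nat_lit 0x1000101110110) (.cD (nat_lit 4) (.dfs (nat_lit 16) (nat_lit 4098) (nat_lit 4098) (nat_lit 4097) (nat_lit 4097) (nat_lit 0) (nat_lit 0) (nat_lit 3) (nat_lit 0) (nat_lit 0) (nat_lit 0) (nat_lit 1) (nat_lit 0) (nat_lit 1) (nat_lit 0) (nat_lit 1) (nat_lit 0x11001100110010) (.cD (nat_lit 4) (.kc (nat_lit 20) (nat_lit 0x3001001)) (.cD (nat_lit 16) (.dfs (nat_lit 32) (nat_lit 4100) (nat_lit 4100) (nat_lit 0x1002001) (nat_lit 0x1002001) (nat_lit 0) (nat_lit 0) (nat_lit 3) (nat_lit 0) (nat_lit 0) (nat_lit 0) (nat_lit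 1) (nat_lit 0) (nat_lit 1) (nat_lit 0) (nat_lit 1) (nat_lit 0x11001100110010) (.cD (nat_lit 4) (.kc (nat_lit 36) (nat_lit 0x5001001)) (.cD (nat_lit 16) (.kc (nat_lit 48) (nat_lit 0x3001001)) (.cD (nat_lit 20) (.kc (nat_lit 52) (nat_lit 0x7001001)) (.cD (nat_lit 32) (.dfs (nat_lit 9) (nat_lit 0x1004001003008) (nat_lit 0x1005001003008) (nat_lit 4098) (nat_lit 4098) (nat_lit 0) (nat_lit 0) (nat_lit 2) (nat_lit 1) (nat_lit 0) (nat_lit 8) (nat_lit 1) (nat_lit 0) (nat_lit 4100) (nat_lit 4) (nat_lit 0x1000008000018) (nat_lit 0x1000100) (.cD (nat_lit 8) (.iso x120 s265 (nat_lit 0) (nat_lit 0x1040020010008004012011) (nat_lit 0x40020010008004012011) [(nat_lit 0x10008004002005001001), (nat_lit 0x40020010008024022001003001), (nat_lit 0x10008004002001005001), (nat_lit 0x1000800400200d007001), (nat_lit 0x10008004002009009001)] (.cut (nat_lit 1))) (.cD (nat_lit 24) (.iso x120 s263 (nat_lit 0) (nat_lit 0x1040020010008004012011) (nat_lit 0x40020010008004012011) [(nat_lit 0x10008004002005001001),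 (nat_lit 0x40020010008024022001003001), (nat_lit 0x10008004002001005001), (nat_lit 0x1000800400200d007001), (nat_lit 0x10008004002009009001)] (.cut (nat_lit 0))) .nil))) (.cD (nat_lit 36) (.kA true (nat_lit 0x100100000400100300d001001001000003)) (.cD (nat_lit 48) (.kA true (nat_lit 0x600800401000800400100300d001001001000003)) (.cD (nat_lit 52) (.kA true (nat_lit 0x800a00601e00700500100300e001002002000003)) .nil)))))))) (.cD (nat_lit 20) (.dfs (nat_lit 32) (nat_lit 4100) (nat_lit 4100) (nat_lit 0x1002001) (nat_lit 0x1002001) (nat_lit 0) (nat_lit 0) (nat_lit 3) (nat_lit 0) (nat_lit 0) (nat_lit 0) (nat_lit 1) (nat_lit 0) (nat_lit 1) (nat_lit 0) (nat_lit 1) (nat_lit 0x11001100110010) (.cD (nat_lit 4) (.kc (nat_lit 36) (nat_lit 0x5001001)) (.cD (nat_lit 16) (.kc (nat_lit 52) (nat_lit 0x7001001)) (.cD (nat_lit 20) (.kc (nat_lit 48) (nat_lit 0x3001001)) (.cD (nat_lit 32) (.kA true (nat_lit 0x200200000500100300e001002002000003)) (.cD (nat_lit 36) (.dfs (nat_lit 9) (nat_lit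 4102) (nat_lit 4103) (nat_lit 1) (nat_lit 1) (nat_lit 0) (nat_lit 0) (nat_lit 1) (nat_lit 4112) (nat_lit 0x40020010008004002001) (nat_lit 0) (nat_lit 1) (nat_lit 0) (nat_lit 1) (nat_lit 0) (nat_lit 1) (nat_lit 0) .nil) (.cD (nat_lit 48) (.kA true (nat_lit 0x400300500800100400100300c001002)) (.cD (nat_lit 52) (.kA true (nat_lit 0x400700100800100400100300c001002)) .nil)))))))) (.cD (nat_lit 32) (.kF (nat_lit 16) (nat_lit 0x100400100c012008002002000003)) (.cD (nat_lit 36) (.kF (nat_lit 16) (nat_lit 0x100400100c012008002002000003)) (.cD (nat_lit 48) (.dfs (nat_lit 32) (nat_lit 4100) (nat_lit 4100) (nat_lit 0x1002001) (nat_lit 0x1002001) (nat_lit 0) (nat_lit 0) (nat_lit 3) (nat_lit 0) (nat_lit 0) (nat_lit 0) (nat_lit 1) (nat_lit 0) (nat_lit 1) (nat_lit 0) (nat_lit 1) (nat_lit 0x11001100110010) (.cD (nat_lit 4) (.kc (nat_lit 36) (nat_lit 0x5001001)) (.cD (nat_lit 16) (.kA true (nat_lit 0x400200100800100400100300c001002)) (.cD (nat_lit 20) (.kA true (nat_lit 0x400600500800100400100300c001002))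 (.cD (nat_lit 32) (.kA true (nat_lit 0x200400c01000800500100300e001002002000003)) (.cD (nat_lit 36) (.kA true (nat_lit 0x400500600800100400100300c001002)) (.cD (nat_lit 48) (.kc (nat_lit 48) (nat_lit 0x3001001)) (.cD (nat_lit 52) (.kc (nat_lit 52) (nat_lit 0x7001001)) .nil)))))))) (.cD (nat_lit 52) (.dfs (nat_lit 32) (nat_lit 4100) (nat_lit 4100) (nat_lit 0x1002001) (nat_lit 0x1002001) (nat_lit 0) (nat_lit 0) (nat_lit 3) (nat_lit 0) (nat_lit 0) (nat_lit 0) (nat_lit 1) (nat_lit 0) (nat_lit 1) (nat_lit 0) (nat_lit 1) (nat_lit 0x11001100110010) (.cD (nat_lit 4) (.kc (nat_lit 36) (nat_lit 0x5001001)) (.cD (nat_lit 16) (.kA true (nat_lit 0x400200500800100400100300c001002)) (.cD (nat_lit 20) (.kA true (nat_lit 0x400600100800100400100300c001002)) (.cD (nat_lit 32) (.kA true (nat_lit 0x4001003008001002004008012008002002000003)) (.cD (nat_lit 36) (.kA true (nat_lit 0x400500200800100400100300c001002)) (.cD (nat_lit 48) (.kc (nat_lit 52) (nat_lit 0x7001001)) (.cD (nat_lit 52)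 (.kc (nat_lit 48) (nat_lit 0x3001001)) .nil)))))))) .nil)))))))) (.cD (nat_lit 8) (.dfs (nat_lit 16) (nat_lit 4098) (nat_lit 4098) (nat_lit 4097) (nat_lit 4097) (nat_lit 0) (nat_lit 0) (nat_lit 3) (nat_lit 0) (nat_lit 0) (nat_lit 0) (nat_lit 1) (nat_lit 0) (nat_lit 1) (nat_lit 0) (nat_lit 1) (nat_lit 0x101010101010100) (.cD (nat_lit 8) (.kc (nat_lit 20) (nat_lit 0x3001001)) (.cD (nat_lit 16) (.dfs (nat_lit 32) (nat_lit 4100) (nat_lit 4100) (nat_lit 0x1002001) (nat_lit 0x1002001) (nat_lit 0) (nat_lit 0) (nat_lit 3) (nat_lit 0) (nat_lit 0) (nat_lit 0) (nat_lit 1) (nat_lit 0) (nat_lit 1) (nat_lit 0) (nat_lit 1) (nat_lit 0x101010101010100) (.cD (nat_lit 8) (.kc (nat_lit 36) (nat_lit 0x5001001)) (.cD (nat_lit 16) (.kc (nat_lit 48) (nat_lit 0x3001001)) (.cD (nat_lit 24) (.kc (nat_lit 52) (nat_lit 0x7001001)) (.cD (nat_lit 32) (.kA false (nat_lit 0x400100200c002008010020050003001001000003)) (.cD (nat_lit 40) (.kA false (nat_lit 0x100100000400500200d002001001000003)) (.cD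 (nat_lit 48) (.kA false (nat_lit 0x600800c01000800400300200b002001001000003)) (.cD (nat_lit 56) (.kA false (nat_lit 0x400700200c002008010020050003001001000003)) .nil)))))))) (.cD (nat_lit 24) (.dfs (nat_lit 32) (nat_lit 4100) (nat_lit 4100) (nat_lit 0x1002001) (nat_lit 0x1002001) (nat_lit 0) (nat_lit 0) (nat_lit 3) (nat_lit 0) (nat_lit 0) (nat_lit 0) (nat_lit 1) (nat_lit 0) (nat_lit 1) (nat_lit 0) (nat_lit 1) (nat_lit 0x101010101010100) (.cD (nat_lit 8) (.kc (nat_lit 36) (nat_lit 0x5001001)) (.cD (nat_lit 16) (.kc (nat_lit 52) (nat_lit 0x7001001)) (.cD (nat_lit 24) (.kc (nat_lit 48) (nat_lit 0x3001001)) (.cD (nat_lit 32) (.kA false (nat_lit 0x400100600c002008010020050003001001000003)) (.cD (nat_lit 40) (.kA false (nat_lit 0x100100000400500600d002001001000003)) (.cD (nat_lit 48) (.kA false (nat_lit 0x400700600c002008010020050003001001000003)) (.cD (nat_lit 56) (.kA false (nat_lit 0x600800a01000800400300600b002001001000003)) .nil)))))))) (.cD (nat_lit 32) (.kF (nat_lit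 16) (nat_lit 0x100400100c012008002002000003)) (.cD (nat_lit 40) (.kF (nat_lit 16) (nat_lit 0x100400100c012008002002000003)) (.cD (nat_lit 48) (.dfs (nat_lit 32) (nat_lit 4100) (nat_lit 4100) (nat_lit 0x1002001) (nat_lit 0x1002001) (nat_lit 0) (nat_lit 0) (nat_lit 3) (nat_lit 0) (nat_lit 0) (nat_lit 0) (nat_lit 1) (nat_lit 0) (nat_lit 1) (nat_lit 0) (nat_lit 1) (nat_lit 0x101010101010100) (.cD (nat_lit 8) (.kc (nat_lit 36) (nat_lit 0x5001001)) (.cD (nat_lit 16) (.kA false (nat_lit 0x600800401000800400300100b002001001000003)) (.cD (nat_lit 24) (.kA false (nat_lit 0x400700500c002008010020050003001001000003)) (.cD (nat_lit 32) (.kA false (nat_lit 0x400100300c002008010020050003001001000003)) (.cD (nat_lit 40) (.kA false (nat_lit 0x100100000400500700d002001001000003)) (.cD (nat_lit 48) (.kc (nat_lit 48) (nat_lit 0x3001001)) (.cD (nat_lit 56) (.kc (nat_lit 52) (nat_lit 0x7001001)) .nil)))))))) (.cD (nat_lit 56) (.dfs (nat_lit 32) (nat_lit 4100) (nat_lit 4100) (nat_lit 0x1002001)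 (nat_lit 0x1002001) (nat_lit 0) (nat_lit 0) (nat_lit 3) (nat_lit 0) (nat_lit 0) (nat_lit 0) (nat_lit 1) (nat_lit 0) (nat_lit 1) (nat_lit 0) (nat_lit 1) (nat_lit 0x101010101010100) (.cD (nat_lit 8) (.kc (nat_lit 36) (nat_lit 0x5001001)) (.cD (nat_lit 16) (.kA false (nat_lit 0x400700100c002008010020050003001001000003)) (.cD (nat_lit 24) (.kA false (nat_lit 0x600800201000800400300500b002001001000003)) (.cD (nat_lit 32) (.kA false (nat_lit 0x400100700c002008010020050003001001000003)) (.cD (nat_lit 40) (.kA false (nat_lit 0x100100000400500300d002001001000003)) (.cD (nat_lit 48) (.kc (nat_lit 52) (nat_lit 0x7001001)) (.cD (nat_lit 56) (.kc (nat_lit 48) (nat_lit 0x3001001)) .nil)))))))) .nil)))))))) (.cD (nat_lit 16) (.kF (nat_lit 4) (nat_lit 0x2002000001003001002)) (.cD (nat_lit 20) (.kF (nat_lit 4) (nat_lit 0xe01e007001003001002)) (.cD (nat_lit 24) (.kF (nat_lit 4) (nat_lit 0x1002001002012008002002000003)) (.cD (nat_lit 32) (.dfs (nat_lit 16) (nat_lit 4098) (nat_lit 4098)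 (nat_lit 4097) (nat_lit 4097) (nat_lit 0) (nat_lit 0) (nat_lit 3) (nat_lit 0) (nat_lit 0) (nat_lit 0) (nat_lit 1) (nat_lit 0) (nat_lit 0x1008004) (nat_lit 32772) (nat_lit 0x1001004000008001014000018) (nat_lit 0x1000101110110) (.cD (nat_lit 4) (.kF (nat_lit 16) (nat_lit 0x1001000001006001002)) (.cD (nat_lit 8) (.kF (nat_lit 16) (nat_lit 0x1001000001006001002)) (.cD (nat_lit 16) (.dfs (nat_lit 32) (nat_lit 4100) (nat_lit 4100) (nat_lit 0x1002001) (nat_lit 0x1002001) (nat_lit 0) (nat_lit 0) (nat_lit 3) (nat_lit 0) (nat_lit 0) (nat_lit 0) (nat_lit 1) (nat_lit 0) (nat_lit 0x1008004) (nat_lit 32772) (nat_lit 0x1001004000008001014000018) (nat_lit 0x1000101110110) (.cD (nat_lit 4) (.kA true (nat_lit 0x100400600c002001001000002)) (.cD (nat_lit 8) (.kA false (nat_lit 0x100400200c002001001000002)) (.cD (nat_lit 16) (.kc (nat_lit 48) (nat_lit 0x3001001)) (.cD (nat_lit 20) (.kA true (nat_lit 0x300400600c002001001000002)) (.cD (nat_lit 24) (.kA false (nat_lit 0x300400200c002001001000002))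 (.cD (nat_lit 32) (.kc (nat_lit 36) (nat_lit 0x5001001)) (.cD (nat_lit 48) (.kc (nat_lit 52) (nat_lit 0x7001001)) .nil)))))))) (.cD (nat_lit 20) (.dfs (nat_lit 32) (nat_lit 4100) (nat_lit 4100) (nat_lit 0x1002001) (nat_lit 0x1002001) (nat_lit 0) (nat_lit 0) (nat_lit 3) (nat_lit 0) (nat_lit 0) (nat_lit 0) (nat_lit 1) (nat_lit 0) (nat_lit 1) (nat_lit 0) (nat_lit 1) (nat_lit 0x11001100110010) (.cD (nat_lit 4) (.kA true (nat_lit 0x100400700c002001001000002)) (.cD (nat_lit 16) (.kA true (nat_lit 0x300400500c002001001000002)) (.cD (nat_lit 20) (.kc (nat_lit 48) (nat_lit 0x3001001)) (.cD (nat_lit 32) (.kc (nat_lit 36) (nat_lit 0x5001001)) (.cD (nat_lit 36) (.dfs (nat_lit 9) (nat_lit 4100) (nat_lit 4101) (nat_lit 1) (nat_lit 1) (nat_lit 0) (nat_lit 0) (nat_lit 1) (nat_lit 4128) (nat_lit 0x40020010008004002001) (nat_lit 0) (nat_lit 1) (nat_lit 0) (nat_lit 1) (nat_lit 0) (nat_lit 1) (nat_lit 0) .nil) (.cD (nat_lit 48) (.kA true (nat_lit 0x700400100c002001001000002)) (.cD (nat_lit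 52) (.kc (nat_lit 52) (nat_lit 0x7001001)) .nil)))))))) (.cD (nat_lit 24) (.dfs (nat_lit 32) (nat_lit 4100) (nat_lit 4100) (nat_lit 0x1002001) (nat_lit 0x1002001) (nat_lit 0) (nat_lit 0) (nat_lit 3) (nat_lit 0) (nat_lit 0) (nat_lit 0) (nat_lit 1) (nat_lit 0) (nat_lit 1) (nat_lit 0) (nat_lit 1) (nat_lit 0x101010101010100) (.cD (nat_lit 8) (.kA false (nat_lit 0x100400300c002001001000002)) (.cD (nat_lit 16) (.kA false (nat_lit 0x300400100c002001001000002)) (.cD (nat_lit 24) (.kc (nat_lit 48) (nat_lit 0x3001001)) (.cD (nat_lit 32) (.kc (nat_lit 36) (nat_lit 0x5001001)) (.cD (nat_lit 40) (.kA false (nat_lit 0x500400700c002001001000002)) (.cD (nat_lit 48) (.kA false (nat_lit 0x700400500c002001001000002)) (.cD (nat_lit 56) (.kc (nat_lit 52) (nat_lit 0x7001001)) .nil)))))))) (.cD (nat_lit 32) (.kc (nat_lit 20) (nat_lit 0x3001001)) (.cD (nat_lit 48) (.dfs (nat_lit 32) (nat_lit 4100) (nat_lit 4100) (nat_lit 0x1002001) (nat_lit 0x1002001) (nat_lit 0) (nat_lit 0) (nat_lit 3)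 (nat_lit 0) (nat_lit 0) (nat_lit 0) (nat_lit 1) (nat_lit 0) (nat_lit 0x1008004) (nat_lit 32772) (nat_lit 0x1001004000008001014000018) (nat_lit 0x1000101110110) (.cD (nat_lit 4) (.kA true (nat_lit 0x100400200c002001001000002)) (.cD (nat_lit 8) (.kA false (nat_lit 0x100400600c002001001000002)) (.cD (nat_lit 16) (.kc (nat_lit 52) (nat_lit 0x7001001)) (.cD (nat_lit 20) (.kA true (nat_lit 0x700400200c002001001000002)) (.cD (nat_lit 24) (.kA false (nat_lit 0x700400600c002001001000002)) (.cD (nat_lit 32) (.kc (nat_lit 36) (nat_lit 0x5001001)) (.cD (nat_lit 48) (.kc (nat_lit 48) (nat_lit 0x3001001)) .nil)))))))) .nil)))))))) (.cD (nat_lit 48) (.kF (nat_lit 4) (nat_lit 0x1002001002012008002002000003)) .nil)))))))))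
theorem c266 : (chk [(x120, s263), (x120, s265)] [g7] p266).n x120 s266 = true := by decide +kernel
noncomputable def p267 : Pf := (.ext (nat_lit 0) (nat_lit 0) (nat_lit 0x1040010020008002) (nat_lit 0x16008004002001006001001000010008004002001005003) (nat_lit 0x2004008016) (nat_lit 0x1004001) (nat_lit 0x1005001) (nat_lit 0x10008004006005014008004002001) (.dfs (nat_lit 1) (nat_lit 0x1002004008016) (nat_lit 0x1002004008012) (nat_lit 0x1010001) (nat_lit 0x1014001) (nat_lit 0) (nat_lit 0) (nat_lit 2) (nat_lit 0) (nat_lit 0) (nat_lit 1) (nat_lit 1) (nat_lit 0) (nat_lit 1) (nat_lit 0) (nat_lit 1) (nat_lit 0x202020202020202) (.cD (nat_lit 1) (.dfs (nat_lit 4) (nat_lit 0x100400801002c) (nat_lit 0x100c008010024) (nat_lit 0x1020002001) (nat_lit 0x102000a001) (nat_lit 0) (nat_lit 0) (nat_lit 2) (nat_lit 0) (nat_lit 0) (nat_lit 5) (nat_lit 1) (nat_lit 0) (nat_lit 4104) (nat_lit 8) (nat_lit 0x1000005000015) (nat_lit 0x200020) (.cD (nat_lit 5) (.kA true (nat_lit 0xe004008010003001010030050001001001000003))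 (.cD (nat_lit 21) (.kS (nat_lit 1) (nat_lit 0x10001030070001006004008018003002002000001010030040001004) (nat_lit 4110) (nat_lit 0x8004002003) (nat_lit 0x200200000400600801000d00402301003005800e00100200200000600400801800100401000103007003f002006)) .nil))) (.cD (nat_lit 9) (.kS (nat_lit 0) (nat_lit 0x4004000004008010020001002) (nat_lit 0x1029022) (nat_lit 0x8004002005010008004006001) (nat_lit 0xc00801002800100a001005005000004008010020001002002004004000004)) (.cD (nat_lit 17) (.dfs (nat_lit 4) (nat_lit 0x100400801002c) (nat_lit 0x100c008010024) (nat_lit 0x1020002001) (nat_lit 0x102000a001) (nat_lit 0) (nat_lit 0) (nat_lit 2) (nat_lit 0) (nat_lit 0) (nat_lit 5) (nat_lit 1) (nat_lit 0) (nat_lit 4104) (nat_lit 8) (nat_lit 0x1000005000015) (nat_lit 0x200020) (.cD (nat_lit 5) (.kA true (nat_lit 0x3010030058001001010030040001002)) (.cD (nat_lit 21) (.kA true (nat_lit 0x23010030058001001010030040001002)) .nil))) (.cD (nat_lit 25) (.kS (nat_lit 0) (nat_lit 0x4004000004008010020001002)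 (nat_lit 0x1039022) (nat_lit 0x8004002005010008004006001) (nat_lit 0xc00801002800100a001005005000004008010020001002002004004000004)) (.cD (nat_lit 33) (.dfs (nat_lit 4) (nat_lit 0x100400801002c) (nat_lit 0x100c008010024) (nat_lit 0x1020002001) (nat_lit 0x102000a001) (nat_lit 0) (nat_lit 0) (nat_lit 2) (nat_lit 0) (nat_lit 0) (nat_lit 5) (nat_lit 1) (nat_lit 0) (nat_lit 4104) (nat_lit 8) (nat_lit 0x1000005000015) (nat_lit 0x200020) (.cD (nat_lit 5) (.kA true (nat_lit 0xe004008010003001010030050001001001000003)) (.cD (nat_lit 21) (.cut (nat_lit 0)) .nil))) (.cD (nat_lit 41) (.kS (nat_lit 0) (nat_lit 0x4004000004008010020001002) (nat_lit 0x1009022) (nat_lit 0x8004002005010008004006001) (nat_lit 0xc00801002800100a001005005000004008010020001002002004004000004)) (.cD (nat_lit 49) (.dfs (nat_lit 4) (nat_lit 0x100400801002c) (nat_lit 0x100c008010024) (nat_lit 0x1020002001) (nat_lit 0x102000a001) (nat_lit 0) (nat_lit 0) (nat_lit 2) (nat_lit 0) (nat_lit 0) (nat_lit 5) (nat_lit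 1) (nat_lit 0) (nat_lit 4104) (nat_lit 8) (nat_lit 0x1000005000015) (nat_lit 0x200020) (.cD (nat_lit 5) (.kA true (nat_lit 0x3010030058001001010030040001002)) (.cD (nat_lit 21) (.kA true (nat_lit 0x23010030058001001010030040001002)) .nil))) (.cD (nat_lit 57) (.kS (nat_lit 0) (nat_lit 0x4004000004008010020001002) (nat_lit 0x1019022) (nat_lit 0x8004002005010008004006001) (nat_lit 0xc00801002800100a001005005000004008010020001002002004004000004)) .nil))))))))))
theorem c267 : (chk [(x120, s266)] [] p267).n x120 s267 = true := by decide +kernel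
noncomputable def p268 : Pf := (.cl2 (nat_lit 0x1080040020010008004002001) (nat_lit 0x1080040020010008004002001) (nat_lit 1) (nat_lit 2))
theorem c268 : (chk [] [] p268).n x139 s268 = true := by decide +kernel
noncomputable def p269 : Pf := (.clm (.cut (nat_lit 0)) (.dfs (nat_lit 256) (nat_lit 1) (nat_lit 1) (nat_lit 1) (nat_lit 1) (nat_lit 0) (nat_lit 0) (nat_lit 0) (nat_lit 0) (nat_lit 0) (nat_lit 0) (nat_lit 1) (nat_lit 0) (nat_lit 0x1008004002001) (nat_lit 0x8004002001) (nat_lit 0x10001000011000021000031000011a00021a00031a00001100021100031100031800011400031340031200011e0) (nat_lit 0x10000000000000000000000000000000000000000000000000000000000000000) (.cD (nat_lit 256) (.kin (nat_lit 1) (nat_lit 0)) .nil)))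
theorem c269 : (chk [(x139, s268)] [] p269).n x139 s269 = true := by decide +kernel
noncomputable def p270 : Pf := (.ext (nat_lit 0) (nat_lit 0) (nat_lit 0x1100040080020) (nat_lit 0x10008004002001002002000002) (nat_lit 0x2003004008) (nat_lit 0x1008004001) (nat_lit 0x1008005004) (nat_lit 0xc00400200100a00400200100b004002001) (.dfs (nat_lit 1) (nat_lit 0x1002003004008) (nat_lit 0x100200300400b) (nat_lit 4097) (nat_lit 4097) (nat_lit 0) (nat_lit 0) (nat_lit 2) (nat_lit 0) (nat_lit 0) (nat_lit 4) (nat_lit 1) (nat_lit 0) (nat_lit 4480) (nat_lit 384) (nat_lit 0x1000004000024000044000064) (nat_lit 0x10000000100000001000000010) (.cD (nat_lit 4) (.dfs (nat_lit 4) (nat_lit 0x1004006008010) (nat_lit 0x1004006008014) (nat_lit 0x1002001) (nat_lit 0x1002001) (nat_lit 0) (nat_lit 0) (nat_lit 2) (nat_lit 0) (nat_lit 0) (nat_lit 5) (nat_lit 1) (nat_lit 0) (nat_lit 1) (nat_lit 0) (nat_lit 1) (nat_lit 0x2000000020000000200000002000000020000000200000002000000020) (.cD (nat_lit 5) (.dfs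 (nat_lit 8) (nat_lit 0x100800c010020) (nat_lit 0x100800c010030) (nat_lit 0x1004002001) (nat_lit 0x1004002001) (nat_lit 0) (nat_lit 0) (nat_lit 2) (nat_lit 0) (nat_lit 0) (nat_lit 8) (nat_lit 1) (nat_lit 0) (nat_lit 1) (nat_lit 0) (nat_lit 1) (nat_lit 0x10000000100000001000000010000000100000001000000010000000100) (.cD (nat_lit 8) (.kS (nat_lit 0) (nat_lit 0x8018020040002010010000002) (nat_lit 0x10040010a8) (nat_lit 0x800400200d01000800400a00102001000800c002001) (nat_lit 0x10010000008010020040004002001001010010000008018020040002004019001004)) (.cD (nat_lit 40) (.cut (nat_lit 0)) (.cD (nat_lit 72) (.kS (nat_lit 0) (nat_lit 0x8018020040002010010000002) (nat_lit 0x10040010e8) (nat_lit 0x800400200d01000800400a00102001000800c002001) (nat_lit 0x10010000008010020040004002001001010010000008018020040002004039001004)) (.cD (nat_lit 104) (.kS (nat_lit 0) (nat_lit 0x10018020040002001) (nat_lit 0x10050010c8) (nat_lit 0x800400200d01000800400a00102001000800c002001) (nat_lit 0x18008020040002006029001008010020040004002001001010018020040006004031001003))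 (.cD (nat_lit 136) (.kS (nat_lit 0) (nat_lit 0x2004008010003002002000002) (nat_lit 4136) (nat_lit 0x8004002003) (nat_lit 0x8010020040001001002002000002004008010001004003)) (.cD (nat_lit 168) (.kS (nat_lit 0) (nat_lit 0x8018020040002010010000002) (nat_lit 0x1004001088) (nat_lit 0x800400200d01000800400a00102001000800c002001) (nat_lit 0x10010000008010020040004002001001010010000008018020040002004011001004)) (.cD (nat_lit 200) (.kS (nat_lit 0) (nat_lit 0x10018020040002001) (nat_lit 0x10050010e8) (nat_lit 0x800400200d01000800400a00102001000800c002001) (nat_lit 0x18008020040002006031001008010020040004002001001010018020040006004039001003)) (.cD (nat_lit 232) (.kS (nat_lit 0) (nat_lit 0x8018020040002010010000002) (nat_lit 0x10040010c8) (nat_lit 0x800400200d01000800400a00102001000800c002001) (nat_lit 0x10010000008010020040004002001001010010000008018020040002004031001004)) .nil))))))))) (.cD (nat_lit 37) (.kS (nat_lit 0) (nat_lit 0x800c010020002001) (nat_lit 4229) (nat_lit 0x800400200d)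 (nat_lit 0xc00401002000100100400801002000200100800c01002000b001003)) (.cD (nat_lit 69) (.kS (nat_lit 0) (nat_lit 0x400c010020002010010000002) (nat_lit 4164) (nat_lit 0x800400200d) (nat_lit 0x1001000000400801002000200101001000000400c010020011001004)) (.cD (nat_lit 101) (.kS (nat_lit 0) (nat_lit 0x400c010020002010010000002) (nat_lit 4292) (nat_lit 0x800400200d) (nat_lit 0x1001000000400801002000200101001000000400c010020019001004)) (.cD (nat_lit 133) (.kS (nat_lit 0) (nat_lit 0x400c010020002010010000002) (nat_lit 4260) (nat_lit 0x800400200d) (nat_lit 0x1001000000400801002000200101001000000400c01002000d001004)) (.cD (nat_lit 165) (.kS (nat_lit 0) (nat_lit 0x400c010020002010010000002) (nat_lit 4132) (nat_lit 0x800400200d) (nat_lit 0x1001000000400801002000200101001000000400c010020005001004)) (.cD (nat_lit 197) (.kS (nat_lit 0) (nat_lit 0x400c010020002010010000002) (nat_lit 4324) (nat_lit 0x800400200d) (nat_lit 0x1001000000400801002000200101001000000400c01002001d001004))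 (.cD (nat_lit 229) (.kS (nat_lit 0) (nat_lit 0x400c010020002010010000002) (nat_lit 4196) (nat_lit 0x800400200d) (nat_lit 0x1001000000400801002000200101001000000400c010020015001004)) .nil))))))))) (.cD (nat_lit 36) (.dfs (nat_lit 4) (nat_lit 0x1004006008010) (nat_lit 0x1004006008014) (nat_lit 0x1002001) (nat_lit 0x1002001) (nat_lit 0) (nat_lit 0) (nat_lit 2) (nat_lit 0) (nat_lit 0) (nat_lit 5) (nat_lit 1) (nat_lit 0) (nat_lit 1) (nat_lit 0) (nat_lit 1) (nat_lit 0x2000000020000000200000002000000020000000200000002000000020) (.cD (nat_lit 5) (.kS (nat_lit 0) (nat_lit 0x400c010020002010010000002) (nat_lit 4100) (nat_lit 0x800400200d) (nat_lit 0x1001000000400801002000200101001000000400c010020001001004)) (.cD (nat_lit 37) (.kS (nat_lit 0) (nat_lit 0x400c010020002010010000002) (nat_lit 4228) (nat_lit 0x800400200d) (nat_lit 0x1001000000400801002000200101001000000400c010020009001004)) (.cD (nat_lit 69) (.kS (nat_lit 0) (nat_lit 0x400c010020002010010000002) (nat_lit 4164) (nat_lit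 0x800400200d) (nat_lit 0x1001000000400801002000200101001000000400c010020011001004)) (.cD (nat_lit 101) (.kS (nat_lit 0) (nat_lit 0x400c010020002010010000002) (nat_lit 4292) (nat_lit 0x800400200d) (nat_lit 0x1001000000400801002000200101001000000400c010020019001004)) (.cD (nat_lit 133) (.dfs (nat_lit 8) (nat_lit 0x100800c010020) (nat_lit 0x100800c010030) (nat_lit 0x1004002001) (nat_lit 0x1004002001) (nat_lit 0) (nat_lit 0) (nat_lit 2) (nat_lit 0) (nat_lit 0) (nat_lit 8) (nat_lit 1) (nat_lit 0) (nat_lit 1) (nat_lit 0) (nat_lit 1) (nat_lit 0x10000000100000001000000010000000100000001000000010000000100) (.cD (nat_lit 8) (.kS (nat_lit 0) (nat_lit 0x8018020040002010010000002) (nat_lit 0x10a40810a8) (nat_lit 0x800400200d01000800400a00102001000800c002001) (nat_lit 0x1001000000801002004000400200100101001000000801802004001a014019001004)) (.cD (nat_lit 40) (.cut (nat_lit 0)) (.cD (nat_lit 72) (.kS (nat_lit 0) (nat_lit 0x8018020040002010010000002) (nat_lit 0x10a40810e8) (nat_lit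 0x800400200d01000800400a00102001000800c002001) (nat_lit 0x1001000000801002004000400200100101001000000801802004001a014039001004)) (.cD (nat_lit 104) (.kS (nat_lit 0) (nat_lit 0x10018020040002001) (nat_lit 0x10250810c8) (nat_lit 0x800400200d01000800400a00102001000800c002001) (nat_lit 0x1800802004000a01602900100801002004000400200100101001802004000e014031001003)) (.cD (nat_lit 136) (.kS (nat_lit 0) (nat_lit 0x2004008010003002002000002) (nat_lit 4136) (nat_lit 0x8004002003) (nat_lit 0x8010020040001001002002000002004008010001004003)) (.cD (nat_lit 168) (.kS (nat_lit 0) (nat_lit 0x8018020040002010010000002) (nat_lit 0x10a4081088) (nat_lit 0x800400200d01000800400a00102001000800c002001) (nat_lit 0x1001000000801002004000400200100101001000000801802004001a014011001004)) (.cD (nat_lit 200) (.kS (nat_lit 0) (nat_lit 0x10018020040002001) (nat_lit 0x10250810e8) (nat_lit 0x800400200d01000800400a00102001000800c002001) (nat_lit 0x1800802004000a01603100100801002004000400200100101001802004000e014039001003))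 (.cD (nat_lit 232) (.kS (nat_lit 0) (nat_lit 0x8018020040002010010000002) (nat_lit 0x10a40810c8) (nat_lit 0x800400200d01000800400a00102001000800c002001) (nat_lit 0x1001000000801002004000400200100101001000000801802004001a014031001004)) .nil))))))))) (.cD (nat_lit 165) (.kS (nat_lit 0) (nat_lit 0x800c010020002001) (nat_lit 4261) (nat_lit 0x800400200d) (nat_lit 0xc00401002000500100400801002000200100800c01002000f001003)) (.cD (nat_lit 197) (.kS (nat_lit 0) (nat_lit 0x400c010020002010010000002) (nat_lit 4324) (nat_lit 0x800400200d) (nat_lit 0x1001000000400801002000200101001000000400c01002001d001004)) (.cD (nat_lit 229) (.kS (nat_lit 0) (nat_lit 0x400c010020002010010000002) (nat_lit 4196) (nat_lit 0x800400200d) (nat_lit 0x1001000000400801002000200101001000000400c010020015001004)) .nil))))))))) (.cD (nat_lit 68) (.dfs (nat_lit 4) (nat_lit 0x1004006008010) (nat_lit 0x1004006008014) (nat_lit 0x1002001) (nat_lit 0x1002001) (nat_lit 0) (nat_lit 0) (nat_lit 2) (nat_lit 0) (nat_lit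 0) (nat_lit 5) (nat_lit 1) (nat_lit 0) (nat_lit 1) (nat_lit 0) (nat_lit 1) (nat_lit 0x2000000020000000200000002000000020000000200000002000000020) (.cD (nat_lit 5) (.kS (nat_lit 0) (nat_lit 0x400c010020002010010000002) (nat_lit 4100) (nat_lit 0x800400200d) (nat_lit 0x1001000000400801002000200101001000000400c010020001001004)) (.cD (nat_lit 37) (.kS (nat_lit 0) (nat_lit 0x400c010020002010010000002) (nat_lit 4228) (nat_lit 0x800400200d) (nat_lit 0x1001000000400801002000200101001000000400c010020009001004)) (.cD (nat_lit 69) (.dfs (nat_lit 8) (nat_lit 0x100800c010020) (nat_lit 0x100800c010030) (nat_lit 0x1004002001) (nat_lit 0x1004002001) (nat_lit 0) (nat_lit 0) (nat_lit 2) (nat_lit 0) (nat_lit 0) (nat_lit 8) (nat_lit 1) (nat_lit 0) (nat_lit 1) (nat_lit 0) (nat_lit 1) (nat_lit 0x10000000100000001000000010000000100000001000000010000000100) (.cD (nat_lit 8) (.kS (nat_lit 0) (nat_lit 0x8018020040002010010000002) (nat_lit 0x10440410a8) (nat_lit 0x800400200d01000800400a00102001000800c002001)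 (nat_lit 0x10010000008010020040004002001001010010000008018020040022024019001004)) (.cD (nat_lit 40) (.cut (nat_lit 0)) (.cD (nat_lit 72) (.kS (nat_lit 0) (nat_lit 0x8018020040002010010000002) (nat_lit 0x10440410e8) (nat_lit 0x800400200d01000800400a00102001000800c002001) (nat_lit 0x10010000008010020040004002001001010010000008018020040022024039001004)) (.cD (nat_lit 104) (.kS (nat_lit 0) (nat_lit 0x10018020040002001) (nat_lit 0x10050410c8) (nat_lit 0x800400200d01000800400a00102001000800c002001) (nat_lit 0x18008020040022026029001008010020040004002001001010018020040006024031001003)) (.cD (nat_lit 136) (.kS (nat_lit 0) (nat_lit 0x2004008010003002002000002) (nat_lit 4136) (nat_lit 0x8004002003) (nat_lit 0x8010020040001001002002000002004008010001004003)) (.cD (nat_lit 168) (.kS (nat_lit 0) (nat_lit 0x8018020040002010010000002) (nat_lit 0x1044041088) (nat_lit 0x800400200d01000800400a00102001000800c002001) (nat_lit 0x10010000008010020040004002001001010010000008018020040022024011001004))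 (.cD (nat_lit 200) (.kS (nat_lit 0) (nat_lit 0x10018020040002001) (nat_lit 0x10050410e8) (nat_lit 0x800400200d01000800400a00102001000800c002001) (nat_lit 0x18008020040022026031001008010020040004002001001010018020040006024039001003)) (.cD (nat_lit 232) (.kS (nat_lit 0) (nat_lit 0x8018020040002010010000002) (nat_lit 0x10440410c8) (nat_lit 0x800400200d01000800400a00102001000800c002001) (nat_lit 0x10010000008010020040004002001001010010000008018020040022024031001004)) .nil))))))))) (.cD (nat_lit 101) (.kS (nat_lit 0) (nat_lit 0x800c010020002001) (nat_lit 4229) (nat_lit 0x800400200d) (nat_lit 0xc00401002001100100400801002000200100800c01002000b001003)) (.cD (nat_lit 133) (.kS (nat_lit 0) (nat_lit 0x400c010020002010010000002) (nat_lit 4260) (nat_lit 0x800400200d) (nat_lit 0x1001000000400801002000200101001000000400c01002000d001004)) (.cD (nat_lit 165) (.kS (nat_lit 0) (nat_lit 0x400c010020002010010000002) (nat_lit 4132) (nat_lit 0x800400200d) (nat_lit 0x1001000000400801002000200101001000000400c010020005001004))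 (.cD (nat_lit 197) (.kS (nat_lit 0) (nat_lit 0x400c010020002010010000002) (nat_lit 4324) (nat_lit 0x800400200d) (nat_lit 0x1001000000400801002000200101001000000400c01002001d001004)) (.cD (nat_lit 229) (.kS (nat_lit 0) (nat_lit 0x400c010020002010010000002) (nat_lit 4196) (nat_lit 0x800400200d) (nat_lit 0x1001000000400801002000200101001000000400c010020015001004)) .nil))))))))) (.cD (nat_lit 100) (.dfs (nat_lit 4) (nat_lit 0x1004006008010) (nat_lit 0x1004006008014) (nat_lit 0x1002001) (nat_lit 0x1002001) (nat_lit 0) (nat_lit 0) (nat_lit 2) (nat_lit 0) (nat_lit 0) (nat_lit 5) (nat_lit 1) (nat_lit 0) (nat_lit 1) (nat_lit 0) (nat_lit 1) (nat_lit 0x2000000020000000200000002000000020000000200000002000000020) (.cD (nat_lit 5) (.kS (nat_lit 0) (nat_lit 0x400c010020002010010000002) (nat_lit 4100) (nat_lit 0x800400200d) (nat_lit 0x1001000000400801002000200101001000000400c010020001001004)) (.cD (nat_lit 37) (.kS (nat_lit 0) (nat_lit 0x400c010020002010010000002) (nat_lit 4228)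 (nat_lit 0x800400200d) (nat_lit 0x1001000000400801002000200101001000000400c010020009001004)) (.cD (nat_lit 69) (.kS (nat_lit 0) (nat_lit 0x400c010020002010010000002) (nat_lit 4164) (nat_lit 0x800400200d) (nat_lit 0x1001000000400801002000200101001000000400c010020011001004)) (.cD (nat_lit 101) (.kS (nat_lit 0) (nat_lit 0x400c010020002010010000002) (nat_lit 4292) (nat_lit 0x800400200d) (nat_lit 0x1001000000400801002000200101001000000400c010020019001004)) (.cD (nat_lit 133) (.kS (nat_lit 0) (nat_lit 0x400c010020002010010000002) (nat_lit 4260) (nat_lit 0x800400200d) (nat_lit 0x1001000000400801002000200101001000000400c01002000d001004)) (.cD (nat_lit 165) (.kS (nat_lit 0) (nat_lit 0x400c010020002010010000002) (nat_lit 4132) (nat_lit 0x800400200d) (nat_lit 0x1001000000400801002000200101001000000400c010020005001004)) (.cD (nat_lit 197) (.dfs (nat_lit 8) (nat_lit 0x100800c010020) (nat_lit 0x100800c010030) (nat_lit 0x1004002001) (nat_lit 0x1004002001) (nat_lit 0) (nat_lit 0)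 (nat_lit 2) (nat_lit 0) (nat_lit 0) (nat_lit 8) (nat_lit 1) (nat_lit 0) (nat_lit 1) (nat_lit 0) (nat_lit 1) (nat_lit 0x10000000100000001000000010000000100000001000000010000000100) (.cD (nat_lit 8) (.kS (nat_lit 0) (nat_lit 0x8018020040002010010000002) (nat_lit 0x10e40c10a8) (nat_lit 0x800400200d01000800400a00102001000800c002001) (nat_lit 0x1001000000801002004000400200100101001000000801802004003a034019001004)) (.cD (nat_lit 40) (.cut (nat_lit 0)) (.cD (nat_lit 72) (.kS (nat_lit 0) (nat_lit 0x8018020040002010010000002) (nat_lit 0x10e40c10e8) (nat_lit 0x800400200d01000800400a00102001000800c002001) (nat_lit 0x1001000000801002004000400200100101001000000801802004003a034039001004)) (.cD (nat_lit 104) (.kS (nat_lit 0) (nat_lit 0x10018020040002001) (nat_lit 0x10250c10c8) (nat_lit 0x800400200d01000800400a00102001000800c002001) (nat_lit 0x1800802004002a03602900100801002004000400200100101001802004000e034031001003)) (.cD (nat_lit 136) (.kS (nat_lit 0) (nat_lit 0x2004008010003002002000002)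 (nat_lit 4136) (nat_lit 0x8004002003) (nat_lit 0x8010020040001001002002000002004008010001004003)) (.cD (nat_lit 168) (.kS (nat_lit 0) (nat_lit 0x8018020040002010010000002) (nat_lit 0x10e40c1088) (nat_lit 0x800400200d01000800400a00102001000800c002001) (nat_lit 0x1001000000801002004000400200100101001000000801802004003a034011001004)) (.cD (nat_lit 200) (.kS (nat_lit 0) (nat_lit 0x10018020040002001) (nat_lit 0x10250c10e8) (nat_lit 0x800400200d01000800400a00102001000800c002001) (nat_lit 0x1800802004002a03603100100801002004000400200100101001802004000e034039001003)) (.cD (nat_lit 232) (.kS (nat_lit 0) (nat_lit 0x8018020040002010010000002) (nat_lit 0x10e40c10c8) (nat_lit 0x800400200d01000800400a00102001000800c002001) (nat_lit 0x1001000000801002004000400200100101001000000801802004003a034031001004)) .nil))))))))) (.cD (nat_lit 229) (.kS (nat_lit 0) (nat_lit 0x800c010020002001) (nat_lit 4261) (nat_lit 0x800400200d) (nat_lit 0xc00401002001500100400801002000200100800c01002000f001003))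 .nil))))))))) .nil))))))
theorem c270 : (chk [(x139, s269)] [] p270).n x139 s270 = true := by decide +kernel
noncomputable def p271 : Pf := (.ext (nat_lit 0) (nat_lit 0) (nat_lit 0x1100040080020) (nat_lit 0x10008004002001002002000002) (nat_lit 0x2003004008) (nat_lit 4097) (nat_lit 4100) (nat_lit 0xb004002001) (.dfs (nat_lit 1) (nat_lit 0x1002003004008) (nat_lit 0x100200300400b) (nat_lit 4097) (nat_lit 4097) (nat_lit 0) (nat_lit 0) (nat_lit 2) (nat_lit 0) (nat_lit 0) (nat_lit 4) (nat_lit 1) (nat_lit 0) (nat_lit 1) (nat_lit 0) (nat_lit 1) (nat_lit 0) .nil))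
theorem c271 : (chk [] [] p271).n x140 s271 = true := by decide +kernel
noncomputable def p272 : Pf := (.ext (nat_lit 0) (nat_lit 0) (nat_lit 0x1100040080020) (nat_lit 0x10008004002001002002000002) (nat_lit 0x2003004008) (nat_lit 4097) (nat_lit 4100) (nat_lit 0xb004002001) (.dfs (nat_lit 1) (nat_lit 0x1002003004008) (nat_lit 0x100200300400b) (nat_lit 4097) (nat_lit 4097) (nat_lit 4) (nat_lit 0) (nat_lit 2) (nat_lit 0) (nat_lit 0) (nat_lit 4) (nat_lit 1) (nat_lit 0) (nat_lit 1) (nat_lit 0) (nat_lit 1) (nat_lit 0) .nil))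
theorem c272 : (chk [] [] p272).n x141 s272 = true := by decide +kernel
noncomputable def p273 : Pf := (.ext (nat_lit 0) (nat_lit 0) (nat_lit 0x1100040080020) (nat_lit 0x10008004002001002002000002) (nat_lit 0x2003004008) (nat_lit 4097) (nat_lit 4100) (nat_lit 0xb004002001) (.dfs (nat_lit 1) (nat_lit 0x1002003004008) (nat_lit 0x100200300400b) (nat_lit 4097) (nat_lit 4097) (nat_lit 4) (nat_lit 0) (nat_lit 2) (nat_lit 0) (nat_lit 0) (nat_lit 4) (nat_lit 1) (nat_lit 0) (nat_lit 1) (nat_lit 0) (nat_lit 1) (nat_lit 0) .nil))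
theorem c273 : (chk [] [] p273).n x142 s273 = true := by decide +kernel
noncomputable def p274 : Pf := (.ext (nat_lit 0) (nat_lit 0) (nat_lit 0x1100040080020) (nat_lit 0x10008004002001002002000002) (nat_lit 0x2003004008) (nat_lit 4097) (nat_lit 4100) (nat_lit 0xb004002001) (.dfs (nat_lit 1) (nat_lit 0x1002003004008) (nat_lit 0x100200300400b) (nat_lit 4097) (nat_lit 4097) (nat_lit 2) (nat_lit 0) (nat_lit 2) (nat_lit 0) (nat_lit 0) (nat_lit 4) (nat_lit 1) (nat_lit 0) (nat_lit 1) (nat_lit 0) (nat_lit 1) (nat_lit 0) .nil))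
theorem c274 : (chk [] [] p274).n x143 s274 = true := by decide +kernel
noncomputable def p275 : Pf := (.ext (nat_lit 0) (nat_lit 0) (nat_lit 0x1100040080020) (nat_lit 0x10008004002001002002000002) (nat_lit 0x2003004008) (nat_lit 4097) (nat_lit 4100) (nat_lit 0xb004002001) (.dfs (nat_lit 1) (nat_lit 0x1002003004008) (nat_lit 0x100200300400b) (nat_lit 4097) (nat_lit 4097) (nat_lit 2) (nat_lit 0) (nat_lit 2) (nat_lit 0) (nat_lit 0) (nat_lit 4) (nat_lit 1) (nat_lit 0) (nat_lit 1) (nat_lit 0) (nat_lit 1) (nat_lit 0) .nil))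
theorem c275 : (chk [] [] p275).n x144 s275 = true := by decide +kernel
noncomputable def p276 : Pf := (.ext (nat_lit 0) (nat_lit 0) (nat_lit 0x1100040080020) (nat_lit 0x10008004002001002002000002) (nat_lit 0x2003004008) (nat_lit 4097) (nat_lit 4100) (nat_lit 0xb004002001) (.dfs (nat_lit 1) (nat_lit 0x1002003004008) (nat_lit 0x100200300400b) (nat_lit 4097) (nat_lit 4097) (nat_lit 6) (nat_lit 0) (nat_lit 2) (nat_lit 0) (nat_lit 0) (nat_lit 4) (nat_lit 1) (nat_lit 0) (nat_lit 1) (nat_lit 0) (nat_lit 1) (nat_lit 0) .nil))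
theorem c276 : (chk [] [] p276).n x145 s276 = true := by decide +kernel
noncomputable def p277 : Pf := (.ext (nat_lit 0) (nat_lit 0) (nat_lit 0x1100040080020) (nat_lit 0x10008004002001002002000002) (nat_lit 0x2003004008) (nat_lit 4097) (nat_lit 4100) (nat_lit 0xb004002001) (.dfs (nat_lit 1) (nat_lit 0x1002003004008) (nat_lit 0x100200300400b) (nat_lit 4097) (nat_lit 4097) (nat_lit 6) (nat_lit 0) (nat_lit 2) (nat_lit 0) (nat_lit 0) (nat_lit 4) (nat_lit 1) (nat_lit 0) (nat_lit 1) (nat_lit 0) (nat_lit 1) (nat_lit 0) .nil))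
theorem c277 : (chk [] [] p277).n x146 s277 = true := by decide +kernel
noncomputable def p278 : Pf := (.lft (nat_lit 0x80020040010002004008001001001) (nat_lit 0) (nat_lit 0x10e80e00c80c00a80a0088080) (nat_lit 0x80040020010008004002001) (.extn a9 (nat_lit 0x80040020010008004002001) (nat_lit 0x1010040020080) (nat_lit 2) (nat_lit 0) (nat_lit 0) (nat_lit 0) (nat_lit 0x1000000010000000100000001) (.cE (nat_lit 0) b13 (nat_lit 0) (.cut (nat_lit 0)) (.cut (nat_lit 1)) (.cE (nat_lit 32) b14 (nat_lit 0) (.cut (nat_lit 2)) (.cut (nat_lit 3)) (.cE (nat_lit 64) b15 (nat_lit 0) (.cut (nat_lit 4)) (.cut (nat_lit 5)) (.cE (nat_lit 96) b16 (nat_lit 0) (.cut (nat_lit 6)) (.cut (nat_lit 7)) .nil))))))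
theorem c278 : (chk [(x139, s270), (x140, s271), (x141, s272), (x142, s273), (x143, s274), (x144, s275), (x145, s276), (x146, s277)] [] p278).n x138 s278 = true := by decide +kernel
noncomputable def p279 : Pf := (.cl2 (nat_lit 0x1080040020010008004002001) (nat_lit 0x1080040020010008004002001) (nat_lit 1) (nat_lit 2))
theorem c279 : (chk [] [] p279).n x147 s279 = true := by decide +kernel
noncomputable def p280 : Pf := (.clm (.cut (nat_lit 0)) (.dfs (nat_lit 256) (nat_lit 1) (nat_lit 1) (nat_lit 1) (nat_lit 1) (nat_lit 0) (nat_lit 0) (nat_lit 0) (nat_lit 0) (nat_lit 0) (nat_lit 0) (nat_lit 1) (nat_lit 0) (nat_lit 0x1008004002001) (nat_lit 0x8004002001) (nat_lit 0x10001000011000021000031000011a00021a00031a00001100021100031100031800011400031340031200011e0) (nat_lit 0x10000000000000000000000000000000000000000000000000000000000000000) (.cD (nat_lit 256) (.kin (nat_lit 1) (nat_lit 0)) .nil)))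
theorem c280 : (chk [(x147, s279)] [] p280).n x147 s280 = true := by decide +kernel
noncomputable def p281 : Pf := (.ext (nat_lit 0) (nat_lit 0) (nat_lit 0x1100040080020) (nat_lit 0x10008004002001002002000002) (nat_lit 0x2003004008) (nat_lit 0x1008004001) (nat_lit 0x1008005004) (nat_lit 0xc00400200100a00400200100b004002001) (.dfs (nat_lit 1) (nat_lit 0x1002003004008) (nat_lit 0x100200300400b) (nat_lit 4097) (nat_lit 4097) (nat_lit 0) (nat_lit 0) (nat_lit 2) (nat_lit 0) (nat_lit 0) (nat_lit 4) (nat_lit 1) (nat_lit 0) (nat_lit 4480) (nat_lit 384) (nat_lit 0x1000004000024000044000064) (nat_lit 0x10000000100000001000000010) (.cD (nat_lit 4) (.dfs (nat_lit 4) (nat_lit 0x1004006008010) (nat_lit 0x1004006008014) (nat_lit 0x1002001) (nat_lit 0x1002001) (nat_lit 0) (nat_lit 0) (nat_lit 2) (nat_lit 0) (nat_lit 0) (nat_lit 5) (nat_lit 1) (nat_lit 0) (nat_lit 1) (nat_lit 0) (nat_lit 1) (nat_lit 0x2000000020000000200000002000000020000000200000002000000020) (.cD (nat_lit 5) (.dfs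 (nat_lit 8) (nat_lit 0x100800c010020) (nat_lit 0x100800c010030) (nat_lit 0x1004002001) (nat_lit 0x1004002001) (nat_lit 0) (nat_lit 0) (nat_lit 2) (nat_lit 0) (nat_lit 0) (nat_lit 8) (nat_lit 1) (nat_lit 0) (nat_lit 1) (nat_lit 0) (nat_lit 1) (nat_lit 0x10000000100000001000000010000000100000001000000010000000100) (.cD (nat_lit 8) (.kS (nat_lit 0) (nat_lit 0x8018020040002010010000002) (nat_lit 0x10040010a8) (nat_lit 0x800400200d01000800400a00102001000800c002001) (nat_lit 0x10010000008010020040004002001001010010000008018020040002004019001004)) (.cD (nat_lit 40) (.cut (nat_lit 0)) (.cD (nat_lit 72) (.kS (nat_lit 0) (nat_lit 0x8018020040002010010000002) (nat_lit 0x10040010e8) (nat_lit 0x800400200d01000800400a00102001000800c002001) (nat_lit 0x10010000008010020040004002001001010010000008018020040002004039001004)) (.cD (nat_lit 104) (.kS (nat_lit 0) (nat_lit 0x10018020040002001) (nat_lit 0x10050010c8) (nat_lit 0x800400200d01000800400a00102001000800c002001) (nat_lit 0x18008020040002006029001008010020040004002001001010018020040006004031001003))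 (.cD (nat_lit 136) (.kS (nat_lit 0) (nat_lit 0x2004008010003002002000002) (nat_lit 4136) (nat_lit 0x8004002003) (nat_lit 0x8010020040001001002002000002004008010001004003)) (.cD (nat_lit 168) (.kS (nat_lit 0) (nat_lit 0x8018020040002010010000002) (nat_lit 0x1004001088) (nat_lit 0x800400200d01000800400a00102001000800c002001) (nat_lit 0x10010000008010020040004002001001010010000008018020040002004011001004)) (.cD (nat_lit 200) (.kS (nat_lit 0) (nat_lit 0x10018020040002001) (nat_lit 0x10050010e8) (nat_lit 0x800400200d01000800400a00102001000800c002001) (nat_lit 0x18008020040002006031001008010020040004002001001010018020040006004039001003)) (.cD (nat_lit 232) (.kS (nat_lit 0) (nat_lit 0x8018020040002010010000002) (nat_lit 0x10040010c8) (nat_lit 0x800400200d01000800400a00102001000800c002001) (nat_lit 0x10010000008010020040004002001001010010000008018020040002004031001004)) .nil))))))))) (.cD (nat_lit 37) (.kS (nat_lit 0) (nat_lit 0x800c010020002001) (nat_lit 4229) (nat_lit 0x800400200d)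 (nat_lit 0xc00401002000100100400801002000200100800c01002000b001003)) (.cD (nat_lit 69) (.kS (nat_lit 0) (nat_lit 0x400c010020002010010000002) (nat_lit 4164) (nat_lit 0x800400200d) (nat_lit 0x1001000000400801002000200101001000000400c010020011001004)) (.cD (nat_lit 101) (.kS (nat_lit 0) (nat_lit 0x400c010020002010010000002) (nat_lit 4292) (nat_lit 0x800400200d) (nat_lit 0x1001000000400801002000200101001000000400c010020019001004)) (.cD (nat_lit 133) (.kS (nat_lit 0) (nat_lit 0x400c010020002010010000002) (nat_lit 4260) (nat_lit 0x800400200d) (nat_lit 0x1001000000400801002000200101001000000400c01002000d001004)) (.cD (nat_lit 165) (.kS (nat_lit 0) (nat_lit 0x400c010020002010010000002) (nat_lit 4132) (nat_lit 0x800400200d) (nat_lit 0x1001000000400801002000200101001000000400c010020005001004)) (.cD (nat_lit 197) (.kS (nat_lit 0) (nat_lit 0x400c010020002010010000002) (nat_lit 4324) (nat_lit 0x800400200d) (nat_lit 0x1001000000400801002000200101001000000400c01002001d001004))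 (.cD (nat_lit 229) (.kS (nat_lit 0) (nat_lit 0x400c010020002010010000002) (nat_lit 4196) (nat_lit 0x800400200d) (nat_lit 0x1001000000400801002000200101001000000400c010020015001004)) .nil))))))))) (.cD (nat_lit 36) (.dfs (nat_lit 4) (nat_lit 0x1004006008010) (nat_lit 0x1004006008014) (nat_lit 0x1002001) (nat_lit 0x1002001) (nat_lit 0) (nat_lit 0) (nat_lit 2) (nat_lit 0) (nat_lit 0) (nat_lit 5) (nat_lit 1) (nat_lit 0) (nat_lit 1) (nat_lit 0) (nat_lit 1) (nat_lit 0x2000000020000000200000002000000020000000200000002000000020) (.cD (nat_lit 5) (.kS (nat_lit 0) (nat_lit 0x400c010020002010010000002) (nat_lit 4100) (nat_lit 0x800400200d) (nat_lit 0x1001000000400801002000200101001000000400c010020001001004)) (.cD (nat_lit 37) (.kS (nat_lit 0) (nat_lit 0x400c010020002010010000002) (nat_lit 4228) (nat_lit 0x800400200d) (nat_lit 0x1001000000400801002000200101001000000400c010020009001004)) (.cD (nat_lit 69) (.kS (nat_lit 0) (nat_lit 0x400c010020002010010000002) (nat_lit 4164) (nat_lit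 0x800400200d) (nat_lit 0x1001000000400801002000200101001000000400c010020011001004)) (.cD (nat_lit 101) (.kS (nat_lit 0) (nat_lit 0x400c010020002010010000002) (nat_lit 4292) (nat_lit 0x800400200d) (nat_lit 0x1001000000400801002000200101001000000400c010020019001004)) (.cD (nat_lit 133) (.dfs (nat_lit 8) (nat_lit 0x100800c010020) (nat_lit 0x100800c010030) (nat_lit 0x1004002001) (nat_lit 0x1004002001) (nat_lit 0) (nat_lit 0) (nat_lit 2) (nat_lit 0) (nat_lit 0) (nat_lit 8) (nat_lit 1) (nat_lit 0) (nat_lit 1) (nat_lit 0) (nat_lit 1) (nat_lit 0x10000000100000001000000010000000100000001000000010000000100) (.cD (nat_lit 8) (.kS (nat_lit 0) (nat_lit 0x8018020040002010010000002) (nat_lit 0x10a40810a8) (nat_lit 0x800400200d01000800400a00102001000800c002001) (nat_lit 0x1001000000801002004000400200100101001000000801802004001a014019001004)) (.cD (nat_lit 40) (.cut (nat_lit 0)) (.cD (nat_lit 72) (.kS (nat_lit 0) (nat_lit 0x8018020040002010010000002) (nat_lit 0x10a40810e8) (nat_lit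 0x800400200d01000800400a00102001000800c002001) (nat_lit 0x1001000000801002004000400200100101001000000801802004001a014039001004)) (.cD (nat_lit 104) (.kS (nat_lit 0) (nat_lit 0x10018020040002001) (nat_lit 0x10250810c8) (nat_lit 0x800400200d01000800400a00102001000800c002001) (nat_lit 0x1800802004000a01602900100801002004000400200100101001802004000e014031001003)) (.cD (nat_lit 136) (.kS (nat_lit 0) (nat_lit 0x2004008010003002002000002) (nat_lit 4136) (nat_lit 0x8004002003) (nat_lit 0x8010020040001001002002000002004008010001004003)) (.cD (nat_lit 168) (.kS (nat_lit 0) (nat_lit 0x8018020040002010010000002) (nat_lit 0x10a4081088) (nat_lit 0x800400200d01000800400a00102001000800c002001) (nat_lit 0x1001000000801002004000400200100101001000000801802004001a014011001004)) (.cD (nat_lit 200) (.kS (nat_lit 0) (nat_lit 0x10018020040002001) (nat_lit 0x10250810e8) (nat_lit 0x800400200d01000800400a00102001000800c002001) (nat_lit 0x1800802004000a01603100100801002004000400200100101001802004000e014039001003))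 (.cD (nat_lit 232) (.kS (nat_lit 0) (nat_lit 0x8018020040002010010000002) (nat_lit 0x10a40810c8) (nat_lit 0x800400200d01000800400a00102001000800c002001) (nat_lit 0x1001000000801002004000400200100101001000000801802004001a014031001004)) .nil))))))))) (.cD (nat_lit 165) (.kS (nat_lit 0) (nat_lit 0x800c010020002001) (nat_lit 4261) (nat_lit 0x800400200d) (nat_lit 0xc00401002000500100400801002000200100800c01002000f001003)) (.cD (nat_lit 197) (.kS (nat_lit 0) (nat_lit 0x400c010020002010010000002) (nat_lit 4324) (nat_lit 0x800400200d) (nat_lit 0x1001000000400801002000200101001000000400c01002001d001004)) (.cD (nat_lit 229) (.kS (nat_lit 0) (nat_lit 0x400c010020002010010000002) (nat_lit 4196) (nat_lit 0x800400200d) (nat_lit 0x1001000000400801002000200101001000000400c010020015001004)) .nil))))))))) (.cD (nat_lit 68) (.dfs (nat_lit 4) (nat_lit 0x1004006008010) (nat_lit 0x1004006008014) (nat_lit 0x1002001) (nat_lit 0x1002001) (nat_lit 0) (nat_lit 0) (nat_lit 2) (nat_lit 0) (nat_lit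 0) (nat_lit 5) (nat_lit 1) (nat_lit 0) (nat_lit 1) (nat_lit 0) (nat_lit 1) (nat_lit 0x2000000020000000200000002000000020000000200000002000000020) (.cD (nat_lit 5) (.kS (nat_lit 0) (nat_lit 0x400c010020002010010000002) (nat_lit 4100) (nat_lit 0x800400200d) (nat_lit 0x1001000000400801002000200101001000000400c010020001001004)) (.cD (nat_lit 37) (.kS (nat_lit 0) (nat_lit 0x400c010020002010010000002) (nat_lit 4228) (nat_lit 0x800400200d) (nat_lit 0x1001000000400801002000200101001000000400c010020009001004)) (.cD (nat_lit 69) (.dfs (nat_lit 8) (nat_lit 0x100800c010020) (nat_lit 0x100800c010030) (nat_lit 0x1004002001) (nat_lit 0x1004002001) (nat_lit 0) (nat_lit 0) (nat_lit 2) (nat_lit 0) (nat_lit 0) (nat_lit 8) (nat_lit 1) (nat_lit 0) (nat_lit 1) (nat_lit 0) (nat_lit 1) (nat_lit 0x10000000100000001000000010000000100000001000000010000000100) (.cD (nat_lit 8) (.kS (nat_lit 0) (nat_lit 0x8018020040002010010000002) (nat_lit 0x10440410a8) (nat_lit 0x800400200d01000800400a00102001000800c002001)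 (nat_lit 0x10010000008010020040004002001001010010000008018020040022024019001004)) (.cD (nat_lit 40) (.cut (nat_lit 0)) (.cD (nat_lit 72) (.kS (nat_lit 0) (nat_lit 0x8018020040002010010000002) (nat_lit 0x10440410e8) (nat_lit 0x800400200d01000800400a00102001000800c002001) (nat_lit 0x10010000008010020040004002001001010010000008018020040022024039001004)) (.cD (nat_lit 104) (.kS (nat_lit 0) (nat_lit 0x10018020040002001) (nat_lit 0x10050410c8) (nat_lit 0x800400200d01000800400a00102001000800c002001) (nat_lit 0x18008020040022026029001008010020040004002001001010018020040006024031001003)) (.cD (nat_lit 136) (.kS (nat_lit 0) (nat_lit 0x2004008010003002002000002) (nat_lit 4136) (nat_lit 0x8004002003) (nat_lit 0x8010020040001001002002000002004008010001004003)) (.cD (nat_lit 168) (.kS (nat_lit 0) (nat_lit 0x8018020040002010010000002) (nat_lit 0x1044041088) (nat_lit 0x800400200d01000800400a00102001000800c002001) (nat_lit 0x10010000008010020040004002001001010010000008018020040022024011001004))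 (.cD (nat_lit 200) (.kS (nat_lit 0) (nat_lit 0x10018020040002001) (nat_lit 0x10050410e8) (nat_lit 0x800400200d01000800400a00102001000800c002001) (nat_lit 0x18008020040022026031001008010020040004002001001010018020040006024039001003)) (.cD (nat_lit 232) (.kS (nat_lit 0) (nat_lit 0x8018020040002010010000002) (nat_lit 0x10440410c8) (nat_lit 0x800400200d01000800400a00102001000800c002001) (nat_lit 0x10010000008010020040004002001001010010000008018020040022024031001004)) .nil))))))))) (.cD (nat_lit 101) (.kS (nat_lit 0) (nat_lit 0x800c010020002001) (nat_lit 4229) (nat_lit 0x800400200d) (nat_lit 0xc00401002001100100400801002000200100800c01002000b001003)) (.cD (nat_lit 133) (.kS (nat_lit 0) (nat_lit 0x400c010020002010010000002) (nat_lit 4260) (nat_lit 0x800400200d) (nat_lit 0x1001000000400801002000200101001000000400c01002000d001004)) (.cD (nat_lit 165) (.kS (nat_lit 0) (nat_lit 0x400c010020002010010000002) (nat_lit 4132) (nat_lit 0x800400200d) (nat_lit 0x1001000000400801002000200101001000000400c010020005001004))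 (.cD (nat_lit 197) (.kS (nat_lit 0) (nat_lit 0x400c010020002010010000002) (nat_lit 4324) (nat_lit 0x800400200d) (nat_lit 0x1001000000400801002000200101001000000400c01002001d001004)) (.cD (nat_lit 229) (.kS (nat_lit 0) (nat_lit 0x400c010020002010010000002) (nat_lit 4196) (nat_lit 0x800400200d) (nat_lit 0x1001000000400801002000200101001000000400c010020015001004)) .nil))))))))) (.cD (nat_lit 100) (.dfs (nat_lit 4) (nat_lit 0x1004006008010) (nat_lit 0x1004006008014) (nat_lit 0x1002001) (nat_lit 0x1002001) (nat_lit 0) (nat_lit 0) (nat_lit 2) (nat_lit 0) (nat_lit 0) (nat_lit 5) (nat_lit 1) (nat_lit 0) (nat_lit 1) (nat_lit 0) (nat_lit 1) (nat_lit 0x2000000020000000200000002000000020000000200000002000000020) (.cD (nat_lit 5) (.kS (nat_lit 0) (nat_lit 0x400c010020002010010000002) (nat_lit 4100) (nat_lit 0x800400200d) (nat_lit 0x1001000000400801002000200101001000000400c010020001001004)) (.cD (nat_lit 37) (.kS (nat_lit 0) (nat_lit 0x400c010020002010010000002) (nat_lit 4228)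 (nat_lit 0x800400200d) (nat_lit 0x1001000000400801002000200101001000000400c010020009001004)) (.cD (nat_lit 69) (.kS (nat_lit 0) (nat_lit 0x400c010020002010010000002) (nat_lit 4164) (nat_lit 0x800400200d) (nat_lit 0x1001000000400801002000200101001000000400c010020011001004)) (.cD (nat_lit 101) (.kS (nat_lit 0) (nat_lit 0x400c010020002010010000002) (nat_lit 4292) (nat_lit 0x800400200d) (nat_lit 0x1001000000400801002000200101001000000400c010020019001004)) (.cD (nat_lit 133) (.kS (nat_lit 0) (nat_lit 0x400c010020002010010000002) (nat_lit 4260) (nat_lit 0x800400200d) (nat_lit 0x1001000000400801002000200101001000000400c01002000d001004)) (.cD (nat_lit 165) (.kS (nat_lit 0) (nat_lit 0x400c010020002010010000002) (nat_lit 4132) (nat_lit 0x800400200d) (nat_lit 0x1001000000400801002000200101001000000400c010020005001004)) (.cD (nat_lit 197) (.dfs (nat_lit 8) (nat_lit 0x100800c010020) (nat_lit 0x100800c010030) (nat_lit 0x1004002001) (nat_lit 0x1004002001) (nat_lit 0) (nat_lit 0)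 (nat_lit 2) (nat_lit 0) (nat_lit 0) (nat_lit 8) (nat_lit 1) (nat_lit 0) (nat_lit 1) (nat_lit 0) (nat_lit 1) (nat_lit 0x10000000100000001000000010000000100000001000000010000000100) (.cD (nat_lit 8) (.kS (nat_lit 0) (nat_lit 0x8018020040002010010000002) (nat_lit 0x10e40c10a8) (nat_lit 0x800400200d01000800400a00102001000800c002001) (nat_lit 0x1001000000801002004000400200100101001000000801802004003a034019001004)) (.cD (nat_lit 40) (.cut (nat_lit 0)) (.cD (nat_lit 72) (.kS (nat_lit 0) (nat_lit 0x8018020040002010010000002) (nat_lit 0x10e40c10e8) (nat_lit 0x800400200d01000800400a00102001000800c002001) (nat_lit 0x1001000000801002004000400200100101001000000801802004003a034039001004)) (.cD (nat_lit 104) (.kS (nat_lit 0) (nat_lit 0x10018020040002001) (nat_lit 0x10250c10c8) (nat_lit 0x800400200d01000800400a00102001000800c002001) (nat_lit 0x1800802004002a03602900100801002004000400200100101001802004000e034031001003)) (.cD (nat_lit 136) (.kS (nat_lit 0) (nat_lit 0x2004008010003002002000002)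 (nat_lit 4136) (nat_lit 0x8004002003) (nat_lit 0x8010020040001001002002000002004008010001004003)) (.cD (nat_lit 168) (.kS (nat_lit 0) (nat_lit 0x8018020040002010010000002) (nat_lit 0x10e40c1088) (nat_lit 0x800400200d01000800400a00102001000800c002001) (nat_lit 0x1001000000801002004000400200100101001000000801802004003a034011001004)) (.cD (nat_lit 200) (.kS (nat_lit 0) (nat_lit 0x10018020040002001) (nat_lit 0x10250c10e8) (nat_lit 0x800400200d01000800400a00102001000800c002001) (nat_lit 0x1800802004002a03603100100801002004000400200100101001802004000e034039001003)) (.cD (nat_lit 232) (.kS (nat_lit 0) (nat_lit 0x8018020040002010010000002) (nat_lit 0x10e40c10c8) (nat_lit 0x800400200d01000800400a00102001000800c002001) (nat_lit 0x1001000000801002004000400200100101001000000801802004003a034031001004)) .nil))))))))) (.cD (nat_lit 229) (.kS (nat_lit 0) (nat_lit 0x800c010020002001) (nat_lit 4261) (nat_lit 0x800400200d) (nat_lit 0xc00401002001500100400801002000200100800c01002000f001003))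 .nil))))))))) .nil))))))
theorem c281 : (chk [(x147, s280)] [] p281).n x147 s281 = true := by decide +kernel
noncomputable def p282 : Pf := (.ext (nat_lit 0) (nat_lit 0) (nat_lit 0x1100040080020) (nat_lit 0x10008004002001002002000002) (nat_lit 0x2003004008) (nat_lit 4097) (nat_lit 4100) (nat_lit 0xb004002001) (.dfs (nat_lit 1) (nat_lit 0x1002003004008) (nat_lit 0x100200300400b) (nat_lit 4097) (nat_lit 4097) (nat_lit 0) (nat_lit 0) (nat_lit 2) (nat_lit 0) (nat_lit 0) (nat_lit 4) (nat_lit 1) (nat_lit 0) (nat_lit 1) (nat_lit 0) (nat_lit 1) (nat_lit 0) .nil))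
theorem c282 : (chk [] [] p282).n x148 s282 = true := by decide +kernel
noncomputable def p283 : Pf := (.ext (nat_lit 0) (nat_lit 0) (nat_lit 0x1100040080020) (nat_lit 0x10008004002001002002000002) (nat_lit 0x2003004008) (nat_lit 4097) (nat_lit 4100) (nat_lit 0xb004002001) (.dfs (nat_lit 1) (nat_lit 0x1002003004008) (nat_lit 0x100200300400b) (nat_lit 4097) (nat_lit 4097) (nat_lit 4) (nat_lit 0) (nat_lit 2) (nat_lit 0) (nat_lit 0) (nat_lit 4) (nat_lit 1) (nat_lit 0) (nat_lit 1) (nat_lit 0) (nat_lit 1) (nat_lit 0) .nil))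
theorem c283 : (chk [] [] p283).n x149 s283 = true := by decide +kernel
noncomputable def p284 : Pf := (.ext (nat_lit 0) (nat_lit 0) (nat_lit 0x1100040080020) (nat_lit 0x10008004002001002002000002) (nat_lit 0x2003004008) (nat_lit 4097) (nat_lit 4100) (nat_lit 0xb004002001) (.dfs (nat_lit 1) (nat_lit 0x1002003004008) (nat_lit 0x100200300400b) (nat_lit 4097) (nat_lit 4097) (nat_lit 4) (nat_lit 0) (nat_lit 2) (nat_lit 0) (nat_lit 0) (nat_lit 4) (nat_lit 1) (nat_lit 0) (nat_lit 1) (nat_lit 0) (nat_lit 1) (nat_lit 0) .nil))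
theorem c284 : (chk [] [] p284).n x150 s284 = true := by decide +kernel
noncomputable def p285 : Pf := (.ext (nat_lit 0) (nat_lit 0) (nat_lit 0x1100040080020) (nat_lit 0x10008004002001002002000002) (nat_lit 0x2003004008) (nat_lit 4097) (nat_lit 4100) (nat_lit 0xb004002001) (.dfs (nat_lit 1) (nat_lit 0x1002003004008) (nat_lit 0x100200300400b) (nat_lit 4097) (nat_lit 4097) (nat_lit 2) (nat_lit 0) (nat_lit 2) (nat_lit 0) (nat_lit 0) (nat_lit 4) (nat_lit 1) (nat_lit 0) (nat_lit 1) (nat_lit 0) (nat_lit 1) (nat_lit 0) .nil))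
theorem c285 : (chk [] [] p285).n x151 s285 = true := by decide +kernel
noncomputable def p286 : Pf := (.ext (nat_lit 0) (nat_lit 0) (nat_lit 0x1100040080020) (nat_lit 0x10008004002001002002000002) (nat_lit 0x2003004008) (nat_lit 4097) (nat_lit 4100) (nat_lit 0xb004002001) (.dfs (nat_lit 1) (nat_lit 0x1002003004008) (nat_lit 0x100200300400b) (nat_lit 4097) (nat_lit 4097) (nat_lit 2) (nat_lit 0) (nat_lit 2) (nat_lit 0) (nat_lit 0) (nat_lit 4) (nat_lit 1) (nat_lit 0) (nat_lit 1) (nat_lit 0) (nat_lit 1) (nat_lit 0) .nil))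
theorem c286 : (chk [] [] p286).n x152 s286 = true := by decide +kernel
noncomputable def p287 : Pf := (.ext (nat_lit 0) (nat_lit 0) (nat_lit 0x1100040080020) (nat_lit 0x10008004002001002002000002) (nat_lit 0x2003004008) (nat_lit 4097) (nat_lit 4100) (nat_lit 0xb004002001) (.dfs (nat_lit 1) (nat_lit 0x1002003004008) (nat_lit 0x100200300400b) (nat_lit 4097) (nat_lit 4097) (nat_lit 6) (nat_lit 0) (nat_lit 2) (nat_lit 0) (nat_lit 0) (nat_lit 4) (nat_lit 1) (nat_lit 0) (nat_lit 1) (nat_lit 0) (nat_lit 1) (nat_lit 0) .nil))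
theorem c287 : (chk [] [] p287).n x153 s287 = true := by decide +kernel
noncomputable def p288 : Pf := (.ext (nat_lit 0) (nat_lit 0) (nat_lit 0x1100040080020) (nat_lit 0x10008004002001002002000002) (nat_lit 0x2003004008) (nat_lit 4097) (nat_lit 4100) (nat_lit 0xb004002001) (.dfs (nat_lit 1) (nat_lit 0x1002003004008) (nat_lit 0x100200300400b) (nat_lit 4097) (nat_lit 4097) (nat_lit 6) (nat_lit 0) (nat_lit 2) (nat_lit 0) (nat_lit 0) (nat_lit 4) (nat_lit 1) (nat_lit 0) (nat_lit 1) (nat_lit 0) (nat_lit 1) (nat_lit 0) .nil))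
theorem c288 : (chk [] [] p288).n x154 s288 = true := by decide +kernel
noncomputable def p289 : Pf := (.lft (nat_lit 0x80020040010002004008001001001) (nat_lit 0) (nat_lit 0x10e80e00c80c00a80a0088080) (nat_lit 0x80040020010008004002001) (.extn a10 (nat_lit 0x80040020010008004002001) (nat_lit 0x1010040020080) (nat_lit 2) (nat_lit 0) (nat_lit 0) (nat_lit 0) (nat_lit 0x1000000010000000100000001) (.cE (nat_lit 0) b17 (nat_lit 0) (.cut (nat_lit 0)) (.cut (nat_lit 1)) (.cE (nat_lit 32) b18 (nat_lit 0) (.cut (nat_lit 2)) (.cut (nat_lit 3)) (.cE (nat_lit 64) b19 (nat_lit 0) (.cut (nat_lit 4)) (.cut (nat_lit 5)) (.cE (nat_lit 96) b20 (nat_lit 0) (.cut (nat_lit 6)) (.cut (nat_lit 7)) .nil))))))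
theorem c289 : (chk [(x147, s281), (x148, s282), (x149, s283), (x150, s284), (x151, s285), (x152, s286), (x153, s287), (x154, s288)] [] p289).n x138 s289 = true := by decide +kernel
noncomputable def p290 : Pf := (.ext (nat_lit 0) (nat_lit 0) (nat_lit 0x1100040080020) (nat_lit 0x10008004002001002002000002) (nat_lit 0x2003004008) (nat_lit 4097) (nat_lit 4100) (nat_lit 0xb004002001) (.dfs (nat_lit 1) (nat_lit 0x1002003004008) (nat_lit 0x100200300400b) (nat_lit 4097) (nat_lit 4097) (nat_lit 0) (nat_lit 0) (nat_lit 2) (nat_lit 0) (nat_lit 0) (nat_lit 4) (nat_lit 1) (nat_lit 0) (nat_lit 1) (nat_lit 0) (nat_lit 1) (nat_lit 0) .nil))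
theorem c290 : (chk [] [] p290).n x155 s290 = true := by decide +kernel
noncomputable def p291 : Pf := (.ext (nat_lit 1) (nat_lit 0) (nat_lit 0x11000c0080010) (nat_lit 0x14008004002001002002000002) (nat_lit 0x200300400a) (nat_lit 4097) (nat_lit 4101) (nat_lit 0x9004002001) (.dfs (nat_lit 1) (nat_lit 0x100200300400a) (nat_lit 0x100200300400b) (nat_lit 0x1008001) (nat_lit 0x1009001) (nat_lit 6) (nat_lit 0) (nat_lit 2) (nat_lit 1) (nat_lit 0) (nat_lit 5) (nat_lit 1) (nat_lit 0) (nat_lit 1) (nat_lit 0) (nat_lit 1) (nat_lit 0) .nil))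
theorem c291 : (chk [] [] p291).n x156 s291 = true := by decide +kernel
noncomputable def p292 : Pf := (.ext (nat_lit 1) (nat_lit 0) (nat_lit 0x11000c0080010) (nat_lit 0x14008004002001002002000002) (nat_lit 0x200300400a) (nat_lit 4097) (nat_lit 4101) (nat_lit 0x9004002001) (.dfs (nat_lit 1) (nat_lit 0x100200300400a) (nat_lit 0x100200300400b) (nat_lit 0x1008001) (nat_lit 0x1009001) (nat_lit 6) (nat_lit 0) (nat_lit 2) (nat_lit 1) (nat_lit 0) (nat_lit 5) (nat_lit 1) (nat_lit 0) (nat_lit 1) (nat_lit 0) (nat_lit 1) (nat_lit 0) .nil))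
theorem c292 : (chk [] [] p292).n x157 s292 = true := by decide +kernel
noncomputable def p293 : Pf := (.ext (nat_lit 1) (nat_lit 0) (nat_lit 0x11000c0080010) (nat_lit 0x14008004002001002002000002) (nat_lit 0x200300400a) (nat_lit 4097) (nat_lit 4101) (nat_lit 0x9004002001) (.dfs (nat_lit 1) (nat_lit 0x100200300400a) (nat_lit 0x100200300400b) (nat_lit 0x1008001) (nat_lit 0x1009001) (nat_lit 2) (nat_lit 0) (nat_lit 2) (nat_lit 1) (nat_lit 0) (nat_lit 5) (nat_lit 1) (nat_lit 0) (nat_lit 1) (nat_lit 0) (nat_lit 1) (nat_lit 0) .nil))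
theorem c293 : (chk [] [] p293).n x158 s293 = true := by decide +kernel
noncomputable def p294 : Pf := (.ext (nat_lit 1) (nat_lit 0) (nat_lit 0x11000c0080010) (nat_lit 0x14008004002001002002000002) (nat_lit 0x200300400a) (nat_lit 4097) (nat_lit 4101) (nat_lit 0x9004002001) (.dfs (nat_lit 1) (nat_lit 0x100200300400a) (nat_lit 0x100200300400b) (nat_lit 0x1008001) (nat_lit 0x1009001) (nat_lit 2) (nat_lit 0) (nat_lit 2) (nat_lit 1) (nat_lit 0) (nat_lit 5) (nat_lit 1) (nat_lit 0) (nat_lit 1) (nat_lit 0) (nat_lit 1) (nat_lit 0) .nil))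
theorem c294 : (chk [] [] p294).n x159 s294 = true := by decide +kernel
noncomputable def p295 : Pf := (.ext (nat_lit 1) (nat_lit 0) (nat_lit 0x11000c0080010) (nat_lit 0x14008004002001002002000002) (nat_lit 0x200300400a) (nat_lit 0x1004001) (nat_lit 0x1001005) (nat_lit 0xa004002001009004002001) (.dfs (nat_lit 1) (nat_lit 0x100200300400a) (nat_lit 0x100200300400b) (nat_lit 0x1008001) (nat_lit 0x1009001) (nat_lit 4) (nat_lit 0) (nat_lit 2) (nat_lit 1) (nat_lit 0) (nat_lit 5) (nat_lit 1) (nat_lit 0) (nat_lit 4480) (nat_lit 384) (nat_lit 0x1000005000015000045000055) (nat_lit 0x2000200000000000200020) (.cD (nat_lit 5) (.dfs (nat_lit 4) (nat_lit 0x1004006008014) (nat_lit 0x1004006008010) (nat_lit 0x1010002001) (nat_lit 0x1014002001) (nat_lit 0) (nat_lit 0) (nat_lit 2) (nat_lit 1) (nat_lit 0) (nat_lit 1) (nat_lit 1) (nat_lit 0) (nat_lit 1) (nat_lit 0) (nat_lit 1) (nat_lit 0) .nil) (.cD (nat_lit 21) (.dfs (nat_lit 4) (nat_lit 0x1004006008014) (nat_lit 0x1004006008010) (nat_lit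 0x1010002001) (nat_lit 0x1014002001) (nat_lit 0) (nat_lit 0) (nat_lit 2) (nat_lit 1) (nat_lit 0) (nat_lit 1) (nat_lit 1) (nat_lit 0) (nat_lit 1) (nat_lit 0) (nat_lit 1) (nat_lit 0) .nil) (.cD (nat_lit 69) (.dfs (nat_lit 4) (nat_lit 0x1004006008014) (nat_lit 0x1004006008010) (nat_lit 0x1010002001) (nat_lit 0x1014002001) (nat_lit 0) (nat_lit 0) (nat_lit 2) (nat_lit 1) (nat_lit 0) (nat_lit 1) (nat_lit 1) (nat_lit 0) (nat_lit 1) (nat_lit 0) (nat_lit 1) (nat_lit 0) .nil) (.cD (nat_lit 85) (.dfs (nat_lit 4) (nat_lit 0x1004006008014) (nat_lit 0x1004006008010) (nat_lit 0x1010002001) (nat_lit 0x1014002001) (nat_lit 0) (nat_lit 0) (nat_lit 2) (nat_lit 1) (nat_lit 0) (nat_lit 1) (nat_lit 1) (nat_lit 0) (nat_lit 1) (nat_lit 0) (nat_lit 1) (nat_lit 0) .nil) .nil))))))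
theorem c295 : (chk [] [] p295).n x160 s295 = true := by decide +kernel
noncomputable def p296 : Pf := (.ext (nat_lit 1) (nat_lit 0) (nat_lit 0x11000c0080010) (nat_lit 0x14008004002001002002000002) (nat_lit 0x200300400a) (nat_lit 0x1004001) (nat_lit 0x1001005) (nat_lit 0xa004002001009004002001) (.dfs (nat_lit 1) (nat_lit 0x100200300400a) (nat_lit 0x100200300400b) (nat_lit 0x1008001) (nat_lit 0x1009001) (nat_lit 4) (nat_lit 0) (nat_lit 2) (nat_lit 1) (nat_lit 0) (nat_lit 5) (nat_lit 1) (nat_lit 0) (nat_lit 4480) (nat_lit 384) (nat_lit 0x1000005000015000045000055) (nat_lit 0x2000200000000000200020) (.cD (nat_lit 5) (.dfs (nat_lit 4) (nat_lit 0x1004006008014) (nat_lit 0x1004006008010) (nat_lit 0x1010002001) (nat_lit 0x1014002001) (nat_lit 0) (nat_lit 0) (nat_lit 2) (nat_lit 1) (nat_lit 0) (nat_lit 1) (nat_lit 1) (nat_lit 0) (nat_lit 1) (nat_lit 0) (nat_lit 1) (nat_lit 0) .nil) (.cD (nat_lit 21) (.dfs (nat_lit 4) (nat_lit 0x1004006008014) (nat_lit 0x1004006008010) (nat_lit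 0x1010002001) (nat_lit 0x1014002001) (nat_lit 0) (nat_lit 0) (nat_lit 2) (nat_lit 1) (nat_lit 0) (nat_lit 1) (nat_lit 1) (nat_lit 0) (nat_lit 1) (nat_lit 0) (nat_lit 1) (nat_lit 0) .nil) (.cD (nat_lit 69) (.dfs (nat_lit 4) (nat_lit 0x1004006008014) (nat_lit 0x1004006008010) (nat_lit 0x1010002001) (nat_lit 0x1014002001) (nat_lit 0) (nat_lit 0) (nat_lit 2) (nat_lit 1) (nat_lit 0) (nat_lit 1) (nat_lit 1) (nat_lit 0) (nat_lit 1) (nat_lit 0) (nat_lit 1) (nat_lit 0) .nil) (.cD (nat_lit 85) (.dfs (nat_lit 4) (nat_lit 0x1004006008014) (nat_lit 0x1004006008010) (nat_lit 0x1010002001) (nat_lit 0x1014002001) (nat_lit 0) (nat_lit 0) (nat_lit 2) (nat_lit 1) (nat_lit 0) (nat_lit 1) (nat_lit 1) (nat_lit 0) (nat_lit 1) (nat_lit 0) (nat_lit 1) (nat_lit 0) .nil) .nil))))))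
theorem c296 : (chk [] [] p296).n x161 s296 = true := by decide +kernel
noncomputable def p297 : Pf := (.lft (nat_lit 0x80020060002010004008001001001) (nat_lit 0) (nat_lit 0x10f00e00d00c00b00a0090080) (nat_lit 0x80040020010008004002001) (.extn a13 (nat_lit 0x80040020010008004002001) (nat_lit 0x1010040020080) (nat_lit 2) (nat_lit 0) (nat_lit 0) (nat_lit 0) (nat_lit 0x1000000010000000100000001) (.cE (nat_lit 0) (nat_lit 0x950b60970b40930b00910b209d0be09f0bc09b0b80990ba0c70e40c50e60c10e20c30e00cf0ec0cd0ee0c90ea0cb0e80b50960b70940b30900b10920bd09e0bf09c0bb0980b909a0e70c40e50c60e10c20e30c00ef0cc0ed0ce0e90ca0eb0c80d50f60d70f40d30f00d10f20dd0fe0df0fc0db0f80d90fa0870a40850a60810a20830a008f0ac08d0ae0890aa08b0a80f50d60f70d40f30d00f10d20fd0de0ff0dc0fb0d80f90da0a70840a50860a10820a30800af08c0ad08e0a908a0ab08805d07e05f07c05b07805907a05507605707405307005107204f06c04d06e04906a04b06804706404506604106204306007d05e07f05c07b05807905a07505607705407305007105206f04c06d04e06904a06b04806704406504606104206304001d03e01f03c01b03801903a01503601703401303001103200f02c00d02e00902a00b02800702400502600102200302003d01e03f01c03b01803901a03501603701403301003101202f00c02d00e02900a02b008027004025006021002023000)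 (nat_lit 0) (.iso x139 s269 (nat_lit 0) (nat_lit 0x1100080040020010008004001002) (nat_lit 0x100080040020010008004001002) [] (.cut (nat_lit 0))) (.iso x155 s290 (nat_lit 1) (nat_lit 0x11000800c001002003c004006005) (nat_lit 0x1000800c001002003c004006005) [(nat_lit 0x10008004002007005001)] (.cut (nat_lit 1))) (.cE (nat_lit 32) b23 (nat_lit 0) (.cut (nat_lit 2)) (.cut (nat_lit 3)) (.cE (nat_lit 64) b24 (nat_lit 0) (.cut (nat_lit 4)) (.cut (nat_lit 5)) (.cE (nat_lit 96) b25 (nat_lit 0) (.cut (nat_lit 6)) (.cut (nat_lit 7)) .nil))))))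
theorem c297 : (chk [(x139, s269), (x155, s290), (x156, s291), (x157, s292), (x158, s293), (x159, s294), (x160, s295), (x161, s296)] [g13, g21] p297).n x137 s297 = true := by decide +kernel
noncomputable def p298 : Pf := (.ext (nat_lit 0) (nat_lit 0) (nat_lit 0x1080020040010) (nat_lit 0x10008004002003080060020002001002) (nat_lit 0x2003004008) (nat_lit 0x1004002001) (nat_lit 0x1004003002) (nat_lit 0xc00400200100a00400200100b004002001) (.dfs (nat_lit 1) (nat_lit 0x1002003004008) (nat_lit 0x100200300400b) (nat_lit 4097) (nat_lit 4097) (nat_lit 0) (nat_lit 0) (nat_lit 2) (nat_lit 0) (nat_lit 0) (nat_lit 2) (nat_lit 1) (nat_lit 0) (nat_lit 4224) (nat_lit 128) (nat_lit 0x1000002000012000022000032) (nat_lit 0x4000400040004) (.cD (nat_lit 2) (.dfs (nat_lit 2) (nat_lit 0x1004006008010) (nat_lit 0x1004006008014) (nat_lit 0x1002001) (nat_lit 0x1002001) (nat_lit 0) (nat_lit 0) (nat_lit 2) (nat_lit 0) (nat_lit 0) (nat_lit 3) (nat_lit 1) (nat_lit 0) (nat_lit 1) (nat_lit 0) (nat_lit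 1) (nat_lit 0x80008000800080008000800080008) (.cD (nat_lit 3) (.dfs (nat_lit 4) (nat_lit 0x100800c010020) (nat_lit 0x100800c010030) (nat_lit 0x1004002001) (nat_lit 0x1004002001) (nat_lit 0) (nat_lit 0) (nat_lit 2) (nat_lit 0) (nat_lit 0) (nat_lit 4) (nat_lit 1) (nat_lit 0) (nat_lit 1) (nat_lit 0) (nat_lit 1) (nat_lit 0x100010001000100010001000100010) (.cD (nat_lit 4) (.kS (nat_lit 0) (nat_lit 0x8018020040002008008000002) (nat_lit 0x1002001054) (nat_lit 0x800400200d01000800400a00102001000800c002001) (nat_lit 0x8008000008010020040004002001001008008000008018020040002004019001004)) (.cD (nat_lit 20) (.cut (nat_lit 0)) (.cD (nat_lit 36) (.kS (nat_lit 0) (nat_lit 0x8018020040002008008000002) (nat_lit 0x1002001074) (nat_lit 0x800400200d01000800400a00102001000800c002001) (nat_lit 0x8008000008010020040004002001001008008000008018020040002004039001004)) (.cD (nat_lit 52) (.kS (nat_lit 0) (nat_lit 0x10018020040002001) (nat_lit 0x1003001064) (nat_lit 0x800400200d01000800400a00102001000800c002001)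 (nat_lit 0x18008020040002006029001008010020040004002001001010018020040006004031001003)) (.cD (nat_lit 68) (.kS (nat_lit 0) (nat_lit 0x2004008010005002020060080003002) (nat_lit 4116) (nat_lit 0x8004002003) (nat_lit 0x801002004000100100a02006009000c003002004008010001006003)) (.cD (nat_lit 84) (.kS (nat_lit 0) (nat_lit 0x8018020040002008008000002) (nat_lit 0x1002001044) (nat_lit 0x800400200d01000800400a00102001000800c002001) (nat_lit 0x8008000008010020040004002001001008008000008018020040002004011001004)) (.cD (nat_lit 100) (.kS (nat_lit 0) (nat_lit 0x10018020040002001) (nat_lit 0x1003001074) (nat_lit 0x800400200d01000800400a00102001000800c002001) (nat_lit 0x18008020040002006031001008010020040004002001001010018020040006004039001003)) (.cD (nat_lit 116) (.kS (nat_lit 0) (nat_lit 0x8018020040002008008000002) (nat_lit 0x1002001064) (nat_lit 0x800400200d01000800400a00102001000800c002001) (nat_lit 0x8008000008010020040004002001001008008000008018020040002004031001004)) .nil)))))))))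 (.cD (nat_lit 19) (.kS (nat_lit 0) (nat_lit 0x800c010020002001) (nat_lit 4163) (nat_lit 0x800400200d) (nat_lit 0xc00401002000100100400801002000200100800c01002000b001003)) (.cD (nat_lit 35) (.kS (nat_lit 0) (nat_lit 0x400c010020002008008000002) (nat_lit 4130) (nat_lit 0x800400200d) (nat_lit 0x800800000400801002000200100800800000400c010020011001004)) (.cD (nat_lit 51) (.kS (nat_lit 0) (nat_lit 0x400c010020002008008000002) (nat_lit 4194) (nat_lit 0x800400200d) (nat_lit 0x800800000400801002000200100800800000400c010020019001004)) (.cD (nat_lit 67) (.kS (nat_lit 0) (nat_lit 0x400c010020002008008000002) (nat_lit 4178) (nat_lit 0x800400200d) (nat_lit 0x800800000400801002000200100800800000400c01002000d001004)) (.cD (nat_lit 83) (.kS (nat_lit 0) (nat_lit 0x400c010020002008008000002) (nat_lit 4114) (nat_lit 0x800400200d) (nat_lit 0x800800000400801002000200100800800000400c010020005001004)) (.cD (nat_lit 99) (.kS (nat_lit 0) (nat_lit 0x400c010020002008008000002) (nat_lit 4210)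 (nat_lit 0x800400200d) (nat_lit 0x800800000400801002000200100800800000400c01002001d001004)) (.cD (nat_lit 115) (.kS (nat_lit 0) (nat_lit 0x400c010020002008008000002) (nat_lit 4146) (nat_lit 0x800400200d) (nat_lit 0x800800000400801002000200100800800000400c010020015001004)) .nil))))))))) (.cD (nat_lit 18) (.dfs (nat_lit 2) (nat_lit 0x1004006008010) (nat_lit 0x1004006008014) (nat_lit 0x1002001) (nat_lit 0x1002001) (nat_lit 0) (nat_lit 0) (nat_lit 2) (nat_lit 0) (nat_lit 0) (nat_lit 3) (nat_lit 1) (nat_lit 0) (nat_lit 1) (nat_lit 0) (nat_lit 1) (nat_lit 0x80008000800080008000800080008) (.cD (nat_lit 3) (.kS (nat_lit 0) (nat_lit 0x400c010020002008008000002) (nat_lit 4098) (nat_lit 0x800400200d) (nat_lit 0x800800000400801002000200100800800000400c010020001001004)) (.cD (nat_lit 19) (.kS (nat_lit 0) (nat_lit 0x400c010020002008008000002) (nat_lit 4162) (nat_lit 0x800400200d) (nat_lit 0x800800000400801002000200100800800000400c010020009001004)) (.cD (nat_lit 35) (.kS (nat_lit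 0) (nat_lit 0x400c010020002008008000002) (nat_lit 4130) (nat_lit 0x800400200d) (nat_lit 0x800800000400801002000200100800800000400c010020011001004)) (.cD (nat_lit 51) (.kS (nat_lit 0) (nat_lit 0x400c010020002008008000002) (nat_lit 4194) (nat_lit 0x800400200d) (nat_lit 0x800800000400801002000200100800800000400c010020019001004)) (.cD (nat_lit 67) (.dfs (nat_lit 4) (nat_lit 0x100800c010020) (nat_lit 0x100800c010030) (nat_lit 0x1004002001) (nat_lit 0x1004002001) (nat_lit 0) (nat_lit 0) (nat_lit 2) (nat_lit 0) (nat_lit 0) (nat_lit 4) (nat_lit 1) (nat_lit 0) (nat_lit 1) (nat_lit 0) (nat_lit 1) (nat_lit 0x100010001000100010001000100010) (.cD (nat_lit 4) (.kS (nat_lit 0) (nat_lit 0x8018020040002008008000002) (nat_lit 0x1052041054) (nat_lit 0x800400200d01000800400a00102001000800c002001) (nat_lit 0x800800000801002004000400200100100800800000801802004001a014019001004)) (.cD (nat_lit 20) (.cut (nat_lit 0)) (.cD (nat_lit 36) (.kS (nat_lit 0) (nat_lit 0x8018020040002008008000002)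 (nat_lit 0x1052041074) (nat_lit 0x800400200d01000800400a00102001000800c002001) (nat_lit 0x800800000801002004000400200100100800800000801802004001a014039001004)) (.cD (nat_lit 52) (.kS (nat_lit 0) (nat_lit 0x10018020040002001) (nat_lit 0x1013041064) (nat_lit 0x800400200d01000800400a00102001000800c002001) (nat_lit 0x1800802004000a01602900100801002004000400200100101001802004000e014031001003)) (.cD (nat_lit 68) (.kS (nat_lit 0) (nat_lit 0x2004008010005002020060080003002) (nat_lit 4116) (nat_lit 0x8004002003) (nat_lit 0x801002004000100100a02006009000c003002004008010001006003)) (.cD (nat_lit 84) (.kS (nat_lit 0) (nat_lit 0x8018020040002008008000002) (nat_lit 0x1052041044) (nat_lit 0x800400200d01000800400a00102001000800c002001) (nat_lit 0x800800000801002004000400200100100800800000801802004001a014011001004)) (.cD (nat_lit 100) (.kS (nat_lit 0) (nat_lit 0x10018020040002001) (nat_lit 0x1013041074) (nat_lit 0x800400200d01000800400a00102001000800c002001) (nat_lit 0x1800802004000a01603100100801002004000400200100101001802004000e014039001003))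 (.cD (nat_lit 116) (.kS (nat_lit 0) (nat_lit 0x8018020040002008008000002) (nat_lit 0x1052041064) (nat_lit 0x800400200d01000800400a00102001000800c002001) (nat_lit 0x800800000801002004000400200100100800800000801802004001a014031001004)) .nil))))))))) (.cD (nat_lit 83) (.kS (nat_lit 0) (nat_lit 0x800c010020002001) (nat_lit 4179) (nat_lit 0x800400200d) (nat_lit 0xc00401002000500100400801002000200100800c01002000f001003)) (.cD (nat_lit 99) (.kS (nat_lit 0) (nat_lit 0x400c010020002008008000002) (nat_lit 4210) (nat_lit 0x800400200d) (nat_lit 0x800800000400801002000200100800800000400c01002001d001004)) (.cD (nat_lit 115) (.kS (nat_lit 0) (nat_lit 0x400c010020002008008000002) (nat_lit 4146) (nat_lit 0x800400200d) (nat_lit 0x800800000400801002000200100800800000400c010020015001004)) .nil))))))))) (.cD (nat_lit 34) (.dfs (nat_lit 2) (nat_lit 0x1004006008010) (nat_lit 0x1004006008014) (nat_lit 0x1002001) (nat_lit 0x1002001) (nat_lit 0) (nat_lit 0) (nat_lit 2) (nat_lit 0) (nat_lit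 0) (nat_lit 3) (nat_lit 1) (nat_lit 0) (nat_lit 1) (nat_lit 0) (nat_lit 1) (nat_lit 0x80008000800080008000800080008) (.cD (nat_lit 3) (.kS (nat_lit 0) (nat_lit 0x400c010020002008008000002) (nat_lit 4098) (nat_lit 0x800400200d) (nat_lit 0x800800000400801002000200100800800000400c010020001001004)) (.cD (nat_lit 19) (.kS (nat_lit 0) (nat_lit 0x400c010020002008008000002) (nat_lit 4162) (nat_lit 0x800400200d) (nat_lit 0x800800000400801002000200100800800000400c010020009001004)) (.cD (nat_lit 35) (.dfs (nat_lit 4) (nat_lit 0x100800c010020) (nat_lit 0x100800c010030) (nat_lit 0x1004002001) (nat_lit 0x1004002001) (nat_lit 0) (nat_lit 0) (nat_lit 2) (nat_lit 0) (nat_lit 0) (nat_lit 4) (nat_lit 1) (nat_lit 0) (nat_lit 1) (nat_lit 0) (nat_lit 1) (nat_lit 0x100010001000100010001000100010) (.cD (nat_lit 4) (.kS (nat_lit 0) (nat_lit 0x8018020040002008008000002) (nat_lit 0x1022021054) (nat_lit 0x800400200d01000800400a00102001000800c002001) (nat_lit 0x8008000008010020040004002001001008008000008018020040022024019001004))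 (.cD (nat_lit 20) (.cut (nat_lit 0)) (.cD (nat_lit 36) (.kS (nat_lit 0) (nat_lit 0x8018020040002008008000002) (nat_lit 0x1022021074) (nat_lit 0x800400200d01000800400a00102001000800c002001) (nat_lit 0x8008000008010020040004002001001008008000008018020040022024039001004)) (.cD (nat_lit 52) (.kS (nat_lit 0) (nat_lit 0x10018020040002001) (nat_lit 0x1003021064) (nat_lit 0x800400200d01000800400a00102001000800c002001) (nat_lit 0x18008020040022026029001008010020040004002001001010018020040006024031001003)) (.cD (nat_lit 68) (.kS (nat_lit 0) (nat_lit 0x2004008010005002020060080003002) (nat_lit 4116) (nat_lit 0x8004002003) (nat_lit 0x801002004000100100a02006009000c003002004008010001006003)) (.cD (nat_lit 84) (.kS (nat_lit 0) (nat_lit 0x8018020040002008008000002) (nat_lit 0x1022021044) (nat_lit 0x800400200d01000800400a00102001000800c002001) (nat_lit 0x8008000008010020040004002001001008008000008018020040022024011001004)) (.cD (nat_lit 100) (.kS (nat_lit 0) (nat_lit 0x10018020040002001)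 (nat_lit 0x1003021074) (nat_lit 0x800400200d01000800400a00102001000800c002001) (nat_lit 0x18008020040022026031001008010020040004002001001010018020040006024039001003)) (.cD (nat_lit 116) (.kS (nat_lit 0) (nat_lit 0x8018020040002008008000002) (nat_lit 0x1022021064) (nat_lit 0x800400200d01000800400a00102001000800c002001) (nat_lit 0x8008000008010020040004002001001008008000008018020040022024031001004)) .nil))))))))) (.cD (nat_lit 51) (.kS (nat_lit 0) (nat_lit 0x800c010020002001) (nat_lit 4163) (nat_lit 0x800400200d) (nat_lit 0xc00401002001100100400801002000200100800c01002000b001003)) (.cD (nat_lit 67) (.kS (nat_lit 0) (nat_lit 0x400c010020002008008000002) (nat_lit 4178) (nat_lit 0x800400200d) (nat_lit 0x800800000400801002000200100800800000400c01002000d001004)) (.cD (nat_lit 83) (.kS (nat_lit 0) (nat_lit 0x400c010020002008008000002) (nat_lit 4114) (nat_lit 0x800400200d) (nat_lit 0x800800000400801002000200100800800000400c010020005001004)) (.cD (nat_lit 99) (.kS (nat_lit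 0) (nat_lit 0x400c010020002008008000002) (nat_lit 4210) (nat_lit 0x800400200d) (nat_lit 0x800800000400801002000200100800800000400c01002001d001004)) (.cD (nat_lit 115) (.kS (nat_lit 0) (nat_lit 0x400c010020002008008000002) (nat_lit 4146) (nat_lit 0x800400200d) (nat_lit 0x800800000400801002000200100800800000400c010020015001004)) .nil))))))))) (.cD (nat_lit 50) (.dfs (nat_lit 2) (nat_lit 0x1004006008010) (nat_lit 0x1004006008014) (nat_lit 0x1002001) (nat_lit 0x1002001) (nat_lit 0) (nat_lit 0) (nat_lit 2) (nat_lit 0) (nat_lit 0) (nat_lit 3) (nat_lit 1) (nat_lit 0) (nat_lit 1) (nat_lit 0) (nat_lit 1) (nat_lit 0x80008000800080008000800080008) (.cD (nat_lit 3) (.kS (nat_lit 0) (nat_lit 0x400c010020002008008000002) (nat_lit 4098) (nat_lit 0x800400200d) (nat_lit 0x800800000400801002000200100800800000400c010020001001004)) (.cD (nat_lit 19) (.kS (nat_lit 0) (nat_lit 0x400c010020002008008000002) (nat_lit 4162) (nat_lit 0x800400200d) (nat_lit 0x800800000400801002000200100800800000400c010020009001004))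 (.cD (nat_lit 35) (.kS (nat_lit 0) (nat_lit 0x400c010020002008008000002) (nat_lit 4130) (nat_lit 0x800400200d) (nat_lit 0x800800000400801002000200100800800000400c010020011001004)) (.cD (nat_lit 51) (.kS (nat_lit 0) (nat_lit 0x400c010020002008008000002) (nat_lit 4194) (nat_lit 0x800400200d) (nat_lit 0x800800000400801002000200100800800000400c010020019001004)) (.cD (nat_lit 67) (.kS (nat_lit 0) (nat_lit 0x400c010020002008008000002) (nat_lit 4178) (nat_lit 0x800400200d) (nat_lit 0x800800000400801002000200100800800000400c01002000d001004)) (.cD (nat_lit 83) (.kS (nat_lit 0) (nat_lit 0x400c010020002008008000002) (nat_lit 4114) (nat_lit 0x800400200d) (nat_lit 0x800800000400801002000200100800800000400c010020005001004)) (.cD (nat_lit 99) (.dfs (nat_lit 4) (nat_lit 0x100800c010020) (nat_lit 0x100800c010030) (nat_lit 0x1004002001) (nat_lit 0x1004002001) (nat_lit 0) (nat_lit 0) (nat_lit 2) (nat_lit 0) (nat_lit 0) (nat_lit 4) (nat_lit 1) (nat_lit 0) (nat_lit 1) (nat_lit 0) (nat_lit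 1) (nat_lit 0x100010001000100010001000100010) (.cD (nat_lit 4) (.kS (nat_lit 0) (nat_lit 0x8018020040002008008000002) (nat_lit 0x1072061054) (nat_lit 0x800400200d01000800400a00102001000800c002001) (nat_lit 0x800800000801002004000400200100100800800000801802004003a034019001004)) (.cD (nat_lit 20) (.cut (nat_lit 0)) (.cD (nat_lit 36) (.kS (nat_lit 0) (nat_lit 0x8018020040002008008000002) (nat_lit 0x1072061074) (nat_lit 0x800400200d01000800400a00102001000800c002001) (nat_lit 0x800800000801002004000400200100100800800000801802004003a034039001004)) (.cD (nat_lit 52) (.kS (nat_lit 0) (nat_lit 0x10018020040002001) (nat_lit 0x1013061064) (nat_lit 0x800400200d01000800400a00102001000800c002001) (nat_lit 0x1800802004002a03602900100801002004000400200100101001802004000e034031001003)) (.cD (nat_lit 68) (.kS (nat_lit 0) (nat_lit 0x2004008010005002020060080003002) (nat_lit 4116) (nat_lit 0x8004002003) (nat_lit 0x801002004000100100a02006009000c003002004008010001006003)) (.cD (nat_lit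 84) (.kS (nat_lit 0) (nat_lit 0x8018020040002008008000002) (nat_lit 0x1072061044) (nat_lit 0x800400200d01000800400a00102001000800c002001) (nat_lit 0x800800000801002004000400200100100800800000801802004003a034011001004)) (.cD (nat_lit 100) (.kS (nat_lit 0) (nat_lit 0x10018020040002001) (nat_lit 0x1013061074) (nat_lit 0x800400200d01000800400a00102001000800c002001) (nat_lit 0x1800802004002a03603100100801002004000400200100101001802004000e034039001003)) (.cD (nat_lit 116) (.kS (nat_lit 0) (nat_lit 0x8018020040002008008000002) (nat_lit 0x1072061064) (nat_lit 0x800400200d01000800400a00102001000800c002001) (nat_lit 0x800800000801002004000400200100100800800000801802004003a034031001004)) .nil))))))))) (.cD (nat_lit 115) (.kS (nat_lit 0) (nat_lit 0x800c010020002001) (nat_lit 4179) (nat_lit 0x800400200d) (nat_lit 0xc00401002001500100400801002000200100800c01002000f001003)) .nil))))))))) .nil))))))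
theorem c298 : (chk [(x137, s297)] [] p298).n x137 s298 = true := by decide +kernel
noncomputable def p299 : Pf := (.cl2 (nat_lit 0x1080040020010008004002001) (nat_lit 0x1080040020010008004002001) (nat_lit 1) (nat_lit 2))
theorem c299 : (chk [] [] p299).n x162 s299 = true := by decide +kernel
noncomputable def p300 : Pf := (.clm (.cut (nat_lit 0)) (.dfs (nat_lit 256) (nat_lit 1) (nat_lit 1) (nat_lit 1) (nat_lit 1) (nat_lit 0) (nat_lit 0) (nat_lit 0) (nat_lit 0) (nat_lit 0) (nat_lit 0) (nat_lit 1) (nat_lit 0) (nat_lit 0x1008004002001) (nat_lit 0x8004002001) (nat_lit 0x10001000011000021000031000011a00021a00031a00001100021100031100031800011400031340031200011e0) (nat_lit 0x10000000000000000000000000000000000000000000000000000000000000000) (.cD (nat_lit 256) (.kin (nat_lit 1) (nat_lit 0)) .nil)))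
theorem c300 : (chk [(x162, s299)] [] p300).n x162 s300 = true := by decide +kernel
noncomputable def p301 : Pf := (.ext (nat_lit 0) (nat_lit 0) (nat_lit 0x1100040080020) (nat_lit 0x10008004002001002002000002) (nat_lit 0x2003004008) (nat_lit 0x1008004001) (nat_lit 0x1008005004) (nat_lit 0xc00400200100a00400200100b004002001) (.dfs (nat_lit 1) (nat_lit 0x1002003004008) (nat_lit 0x100200300400b) (nat_lit 4097) (nat_lit 4097) (nat_lit 0) (nat_lit 0) (nat_lit 2) (nat_lit 0) (nat_lit 0) (nat_lit 4) (nat_lit 1) (nat_lit 0) (nat_lit 4480) (nat_lit 384) (nat_lit 0x1000004000024000044000064) (nat_lit 0x10000000100000001000000010) (.cD (nat_lit 4) (.dfs (nat_lit 4) (nat_lit 0x1004006008010) (nat_lit 0x1004006008014) (nat_lit 0x1002001) (nat_lit 0x1002001) (nat_lit 0) (nat_lit 0) (nat_lit 2) (nat_lit 0) (nat_lit 0) (nat_lit 5) (nat_lit 1) (nat_lit 0) (nat_lit 1) (nat_lit 0) (nat_lit 1) (nat_lit 0x2000000020000000200000002000000020000000200000002000000020) (.cD (nat_lit 5) (.dfs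 (nat_lit 8) (nat_lit 0x100800c010020) (nat_lit 0x100800c010030) (nat_lit 0x1004002001) (nat_lit 0x1004002001) (nat_lit 0) (nat_lit 0) (nat_lit 2) (nat_lit 0) (nat_lit 0) (nat_lit 8) (nat_lit 1) (nat_lit 0) (nat_lit 1) (nat_lit 0) (nat_lit 1) (nat_lit 0x10000000100000001000000010000000100000001000000010000000100) (.cD (nat_lit 8) (.kS (nat_lit 0) (nat_lit 0x8018020040002010010000002) (nat_lit 0x10040010a8) (nat_lit 0x800400200d01000800400a00102001000800c002001) (nat_lit 0x10010000008010020040004002001001010010000008018020040002004019001004)) (.cD (nat_lit 40) (.cut (nat_lit 0)) (.cD (nat_lit 72) (.kS (nat_lit 0) (nat_lit 0x8018020040002010010000002) (nat_lit 0x10040010e8) (nat_lit 0x800400200d01000800400a00102001000800c002001) (nat_lit 0x10010000008010020040004002001001010010000008018020040002004039001004)) (.cD (nat_lit 104) (.kS (nat_lit 0) (nat_lit 0x10018020040002001) (nat_lit 0x10050010c8) (nat_lit 0x800400200d01000800400a00102001000800c002001) (nat_lit 0x18008020040002006029001008010020040004002001001010018020040006004031001003))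 (.cD (nat_lit 136) (.kS (nat_lit 0) (nat_lit 0x2004008010003002002000002) (nat_lit 4136) (nat_lit 0x8004002003) (nat_lit 0x8010020040001001002002000002004008010001004003)) (.cD (nat_lit 168) (.kS (nat_lit 0) (nat_lit 0x8018020040002010010000002) (nat_lit 0x1004001088) (nat_lit 0x800400200d01000800400a00102001000800c002001) (nat_lit 0x10010000008010020040004002001001010010000008018020040002004011001004)) (.cD (nat_lit 200) (.kS (nat_lit 0) (nat_lit 0x10018020040002001) (nat_lit 0x10050010e8) (nat_lit 0x800400200d01000800400a00102001000800c002001) (nat_lit 0x18008020040002006031001008010020040004002001001010018020040006004039001003)) (.cD (nat_lit 232) (.kS (nat_lit 0) (nat_lit 0x8018020040002010010000002) (nat_lit 0x10040010c8) (nat_lit 0x800400200d01000800400a00102001000800c002001) (nat_lit 0x10010000008010020040004002001001010010000008018020040002004031001004)) .nil))))))))) (.cD (nat_lit 37) (.kS (nat_lit 0) (nat_lit 0x800c010020002001) (nat_lit 4229) (nat_lit 0x800400200d)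 (nat_lit 0xc00401002000100100400801002000200100800c01002000b001003)) (.cD (nat_lit 69) (.kS (nat_lit 0) (nat_lit 0x400c010020002010010000002) (nat_lit 4164) (nat_lit 0x800400200d) (nat_lit 0x1001000000400801002000200101001000000400c010020011001004)) (.cD (nat_lit 101) (.kS (nat_lit 0) (nat_lit 0x400c010020002010010000002) (nat_lit 4292) (nat_lit 0x800400200d) (nat_lit 0x1001000000400801002000200101001000000400c010020019001004)) (.cD (nat_lit 133) (.kS (nat_lit 0) (nat_lit 0x400c010020002010010000002) (nat_lit 4260) (nat_lit 0x800400200d) (nat_lit 0x1001000000400801002000200101001000000400c01002000d001004)) (.cD (nat_lit 165) (.kS (nat_lit 0) (nat_lit 0x400c010020002010010000002) (nat_lit 4132) (nat_lit 0x800400200d) (nat_lit 0x1001000000400801002000200101001000000400c010020005001004)) (.cD (nat_lit 197) (.kS (nat_lit 0) (nat_lit 0x400c010020002010010000002) (nat_lit 4324) (nat_lit 0x800400200d) (nat_lit 0x1001000000400801002000200101001000000400c01002001d001004))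 (.cD (nat_lit 229) (.kS (nat_lit 0) (nat_lit 0x400c010020002010010000002) (nat_lit 4196) (nat_lit 0x800400200d) (nat_lit 0x1001000000400801002000200101001000000400c010020015001004)) .nil))))))))) (.cD (nat_lit 36) (.dfs (nat_lit 4) (nat_lit 0x1004006008010) (nat_lit 0x1004006008014) (nat_lit 0x1002001) (nat_lit 0x1002001) (nat_lit 0) (nat_lit 0) (nat_lit 2) (nat_lit 0) (nat_lit 0) (nat_lit 5) (nat_lit 1) (nat_lit 0) (nat_lit 1) (nat_lit 0) (nat_lit 1) (nat_lit 0x2000000020000000200000002000000020000000200000002000000020) (.cD (nat_lit 5) (.kS (nat_lit 0) (nat_lit 0x400c010020002010010000002) (nat_lit 4100) (nat_lit 0x800400200d) (nat_lit 0x1001000000400801002000200101001000000400c010020001001004)) (.cD (nat_lit 37) (.kS (nat_lit 0) (nat_lit 0x400c010020002010010000002) (nat_lit 4228) (nat_lit 0x800400200d) (nat_lit 0x1001000000400801002000200101001000000400c010020009001004)) (.cD (nat_lit 69) (.kS (nat_lit 0) (nat_lit 0x400c010020002010010000002) (nat_lit 4164) (nat_lit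 0x800400200d) (nat_lit 0x1001000000400801002000200101001000000400c010020011001004)) (.cD (nat_lit 101) (.kS (nat_lit 0) (nat_lit 0x400c010020002010010000002) (nat_lit 4292) (nat_lit 0x800400200d) (nat_lit 0x1001000000400801002000200101001000000400c010020019001004)) (.cD (nat_lit 133) (.dfs (nat_lit 8) (nat_lit 0x100800c010020) (nat_lit 0x100800c010030) (nat_lit 0x1004002001) (nat_lit 0x1004002001) (nat_lit 0) (nat_lit 0) (nat_lit 2) (nat_lit 0) (nat_lit 0) (nat_lit 8) (nat_lit 1) (nat_lit 0) (nat_lit 1) (nat_lit 0) (nat_lit 1) (nat_lit 0x10000000100000001000000010000000100000001000000010000000100) (.cD (nat_lit 8) (.kS (nat_lit 0) (nat_lit 0x8018020040002010010000002) (nat_lit 0x10a40810a8) (nat_lit 0x800400200d01000800400a00102001000800c002001) (nat_lit 0x1001000000801002004000400200100101001000000801802004001a014019001004)) (.cD (nat_lit 40) (.cut (nat_lit 0)) (.cD (nat_lit 72) (.kS (nat_lit 0) (nat_lit 0x8018020040002010010000002) (nat_lit 0x10a40810e8) (nat_lit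 0x800400200d01000800400a00102001000800c002001) (nat_lit 0x1001000000801002004000400200100101001000000801802004001a014039001004)) (.cD (nat_lit 104) (.kS (nat_lit 0) (nat_lit 0x10018020040002001) (nat_lit 0x10250810c8) (nat_lit 0x800400200d01000800400a00102001000800c002001) (nat_lit 0x1800802004000a01602900100801002004000400200100101001802004000e014031001003)) (.cD (nat_lit 136) (.kS (nat_lit 0) (nat_lit 0x2004008010003002002000002) (nat_lit 4136) (nat_lit 0x8004002003) (nat_lit 0x8010020040001001002002000002004008010001004003)) (.cD (nat_lit 168) (.kS (nat_lit 0) (nat_lit 0x8018020040002010010000002) (nat_lit 0x10a4081088) (nat_lit 0x800400200d01000800400a00102001000800c002001) (nat_lit 0x1001000000801002004000400200100101001000000801802004001a014011001004)) (.cD (nat_lit 200) (.kS (nat_lit 0) (nat_lit 0x10018020040002001) (nat_lit 0x10250810e8) (nat_lit 0x800400200d01000800400a00102001000800c002001) (nat_lit 0x1800802004000a01603100100801002004000400200100101001802004000e014039001003))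 (.cD (nat_lit 232) (.kS (nat_lit 0) (nat_lit 0x8018020040002010010000002) (nat_lit 0x10a40810c8) (nat_lit 0x800400200d01000800400a00102001000800c002001) (nat_lit 0x1001000000801002004000400200100101001000000801802004001a014031001004)) .nil))))))))) (.cD (nat_lit 165) (.kS (nat_lit 0) (nat_lit 0x800c010020002001) (nat_lit 4261) (nat_lit 0x800400200d) (nat_lit 0xc00401002000500100400801002000200100800c01002000f001003)) (.cD (nat_lit 197) (.kS (nat_lit 0) (nat_lit 0x400c010020002010010000002) (nat_lit 4324) (nat_lit 0x800400200d) (nat_lit 0x1001000000400801002000200101001000000400c01002001d001004)) (.cD (nat_lit 229) (.kS (nat_lit 0) (nat_lit 0x400c010020002010010000002) (nat_lit 4196) (nat_lit 0x800400200d) (nat_lit 0x1001000000400801002000200101001000000400c010020015001004)) .nil))))))))) (.cD (nat_lit 68) (.dfs (nat_lit 4) (nat_lit 0x1004006008010) (nat_lit 0x1004006008014) (nat_lit 0x1002001) (nat_lit 0x1002001) (nat_lit 0) (nat_lit 0) (nat_lit 2) (nat_lit 0) (nat_lit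 0) (nat_lit 5) (nat_lit 1) (nat_lit 0) (nat_lit 1) (nat_lit 0) (nat_lit 1) (nat_lit 0x2000000020000000200000002000000020000000200000002000000020) (.cD (nat_lit 5) (.kS (nat_lit 0) (nat_lit 0x400c010020002010010000002) (nat_lit 4100) (nat_lit 0x800400200d) (nat_lit 0x1001000000400801002000200101001000000400c010020001001004)) (.cD (nat_lit 37) (.kS (nat_lit 0) (nat_lit 0x400c010020002010010000002) (nat_lit 4228) (nat_lit 0x800400200d) (nat_lit 0x1001000000400801002000200101001000000400c010020009001004)) (.cD (nat_lit 69) (.dfs (nat_lit 8) (nat_lit 0x100800c010020) (nat_lit 0x100800c010030) (nat_lit 0x1004002001) (nat_lit 0x1004002001) (nat_lit 0) (nat_lit 0) (nat_lit 2) (nat_lit 0) (nat_lit 0) (nat_lit 8) (nat_lit 1) (nat_lit 0) (nat_lit 1) (nat_lit 0) (nat_lit 1) (nat_lit 0x10000000100000001000000010000000100000001000000010000000100) (.cD (nat_lit 8) (.kS (nat_lit 0) (nat_lit 0x8018020040002010010000002) (nat_lit 0x10440410a8) (nat_lit 0x800400200d01000800400a00102001000800c002001)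 (nat_lit 0x10010000008010020040004002001001010010000008018020040022024019001004)) (.cD (nat_lit 40) (.cut (nat_lit 0)) (.cD (nat_lit 72) (.kS (nat_lit 0) (nat_lit 0x8018020040002010010000002) (nat_lit 0x10440410e8) (nat_lit 0x800400200d01000800400a00102001000800c002001) (nat_lit 0x10010000008010020040004002001001010010000008018020040022024039001004)) (.cD (nat_lit 104) (.kS (nat_lit 0) (nat_lit 0x10018020040002001) (nat_lit 0x10050410c8) (nat_lit 0x800400200d01000800400a00102001000800c002001) (nat_lit 0x18008020040022026029001008010020040004002001001010018020040006024031001003)) (.cD (nat_lit 136) (.kS (nat_lit 0) (nat_lit 0x2004008010003002002000002) (nat_lit 4136) (nat_lit 0x8004002003) (nat_lit 0x8010020040001001002002000002004008010001004003)) (.cD (nat_lit 168) (.kS (nat_lit 0) (nat_lit 0x8018020040002010010000002) (nat_lit 0x1044041088) (nat_lit 0x800400200d01000800400a00102001000800c002001) (nat_lit 0x10010000008010020040004002001001010010000008018020040022024011001004))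 (.cD (nat_lit 200) (.kS (nat_lit 0) (nat_lit 0x10018020040002001) (nat_lit 0x10050410e8) (nat_lit 0x800400200d01000800400a00102001000800c002001) (nat_lit 0x18008020040022026031001008010020040004002001001010018020040006024039001003)) (.cD (nat_lit 232) (.kS (nat_lit 0) (nat_lit 0x8018020040002010010000002) (nat_lit 0x10440410c8) (nat_lit 0x800400200d01000800400a00102001000800c002001) (nat_lit 0x10010000008010020040004002001001010010000008018020040022024031001004)) .nil))))))))) (.cD (nat_lit 101) (.kS (nat_lit 0) (nat_lit 0x800c010020002001) (nat_lit 4229) (nat_lit 0x800400200d) (nat_lit 0xc00401002001100100400801002000200100800c01002000b001003)) (.cD (nat_lit 133) (.kS (nat_lit 0) (nat_lit 0x400c010020002010010000002) (nat_lit 4260) (nat_lit 0x800400200d) (nat_lit 0x1001000000400801002000200101001000000400c01002000d001004)) (.cD (nat_lit 165) (.kS (nat_lit 0) (nat_lit 0x400c010020002010010000002) (nat_lit 4132) (nat_lit 0x800400200d) (nat_lit 0x1001000000400801002000200101001000000400c010020005001004))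 (.cD (nat_lit 197) (.kS (nat_lit 0) (nat_lit 0x400c010020002010010000002) (nat_lit 4324) (nat_lit 0x800400200d) (nat_lit 0x1001000000400801002000200101001000000400c01002001d001004)) (.cD (nat_lit 229) (.kS (nat_lit 0) (nat_lit 0x400c010020002010010000002) (nat_lit 4196) (nat_lit 0x800400200d) (nat_lit 0x1001000000400801002000200101001000000400c010020015001004)) .nil))))))))) (.cD (nat_lit 100) (.dfs (nat_lit 4) (nat_lit 0x1004006008010) (nat_lit 0x1004006008014) (nat_lit 0x1002001) (nat_lit 0x1002001) (nat_lit 0) (nat_lit 0) (nat_lit 2) (nat_lit 0) (nat_lit 0) (nat_lit 5) (nat_lit 1) (nat_lit 0) (nat_lit 1) (nat_lit 0) (nat_lit 1) (nat_lit 0x2000000020000000200000002000000020000000200000002000000020) (.cD (nat_lit 5) (.kS (nat_lit 0) (nat_lit 0x400c010020002010010000002) (nat_lit 4100) (nat_lit 0x800400200d) (nat_lit 0x1001000000400801002000200101001000000400c010020001001004)) (.cD (nat_lit 37) (.kS (nat_lit 0) (nat_lit 0x400c010020002010010000002) (nat_lit 4228)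 (nat_lit 0x800400200d) (nat_lit 0x1001000000400801002000200101001000000400c010020009001004)) (.cD (nat_lit 69) (.kS (nat_lit 0) (nat_lit 0x400c010020002010010000002) (nat_lit 4164) (nat_lit 0x800400200d) (nat_lit 0x1001000000400801002000200101001000000400c010020011001004)) (.cD (nat_lit 101) (.kS (nat_lit 0) (nat_lit 0x400c010020002010010000002) (nat_lit 4292) (nat_lit 0x800400200d) (nat_lit 0x1001000000400801002000200101001000000400c010020019001004)) (.cD (nat_lit 133) (.kS (nat_lit 0) (nat_lit 0x400c010020002010010000002) (nat_lit 4260) (nat_lit 0x800400200d) (nat_lit 0x1001000000400801002000200101001000000400c01002000d001004)) (.cD (nat_lit 165) (.kS (nat_lit 0) (nat_lit 0x400c010020002010010000002) (nat_lit 4132) (nat_lit 0x800400200d) (nat_lit 0x1001000000400801002000200101001000000400c010020005001004)) (.cD (nat_lit 197) (.dfs (nat_lit 8) (nat_lit 0x100800c010020) (nat_lit 0x100800c010030) (nat_lit 0x1004002001) (nat_lit 0x1004002001) (nat_lit 0) (nat_lit 0)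 (nat_lit 2) (nat_lit 0) (nat_lit 0) (nat_lit 8) (nat_lit 1) (nat_lit 0) (nat_lit 1) (nat_lit 0) (nat_lit 1) (nat_lit 0x10000000100000001000000010000000100000001000000010000000100) (.cD (nat_lit 8) (.kS (nat_lit 0) (nat_lit 0x8018020040002010010000002) (nat_lit 0x10e40c10a8) (nat_lit 0x800400200d01000800400a00102001000800c002001) (nat_lit 0x1001000000801002004000400200100101001000000801802004003a034019001004)) (.cD (nat_lit 40) (.cut (nat_lit 0)) (.cD (nat_lit 72) (.kS (nat_lit 0) (nat_lit 0x8018020040002010010000002) (nat_lit 0x10e40c10e8) (nat_lit 0x800400200d01000800400a00102001000800c002001) (nat_lit 0x1001000000801002004000400200100101001000000801802004003a034039001004)) (.cD (nat_lit 104) (.kS (nat_lit 0) (nat_lit 0x10018020040002001) (nat_lit 0x10250c10c8) (nat_lit 0x800400200d01000800400a00102001000800c002001) (nat_lit 0x1800802004002a03602900100801002004000400200100101001802004000e034031001003)) (.cD (nat_lit 136) (.kS (nat_lit 0) (nat_lit 0x2004008010003002002000002)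 (nat_lit 4136) (nat_lit 0x8004002003) (nat_lit 0x8010020040001001002002000002004008010001004003)) (.cD (nat_lit 168) (.kS (nat_lit 0) (nat_lit 0x8018020040002010010000002) (nat_lit 0x10e40c1088) (nat_lit 0x800400200d01000800400a00102001000800c002001) (nat_lit 0x1001000000801002004000400200100101001000000801802004003a034011001004)) (.cD (nat_lit 200) (.kS (nat_lit 0) (nat_lit 0x10018020040002001) (nat_lit 0x10250c10e8) (nat_lit 0x800400200d01000800400a00102001000800c002001) (nat_lit 0x1800802004002a03603100100801002004000400200100101001802004000e034039001003)) (.cD (nat_lit 232) (.kS (nat_lit 0) (nat_lit 0x8018020040002010010000002) (nat_lit 0x10e40c10c8) (nat_lit 0x800400200d01000800400a00102001000800c002001) (nat_lit 0x1001000000801002004000400200100101001000000801802004003a034031001004)) .nil))))))))) (.cD (nat_lit 229) (.kS (nat_lit 0) (nat_lit 0x800c010020002001) (nat_lit 4261) (nat_lit 0x800400200d) (nat_lit 0xc00401002001500100400801002000200100800c01002000f001003))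 .nil))))))))) .nil))))))
theorem c301 : (chk [(x162, s300)] [] p301).n x162 s301 = true := by decide +kernel
noncomputable def p302 : Pf := (.ext (nat_lit 0) (nat_lit 0) (nat_lit 0x1100040080020) (nat_lit 0x10008004002001002002000002) (nat_lit 0x2003004008) (nat_lit 4097) (nat_lit 4100) (nat_lit 0xb004002001) (.dfs (nat_lit 1) (nat_lit 0x1002003004008) (nat_lit 0x100200300400b) (nat_lit 4097) (nat_lit 4097) (nat_lit 0) (nat_lit 0) (nat_lit 2) (nat_lit 0) (nat_lit 0) (nat_lit 4) (nat_lit 1) (nat_lit 0) (nat_lit 1) (nat_lit 0) (nat_lit 1) (nat_lit 0) .nil))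
theorem c302 : (chk [] [] p302).n x163 s302 = true := by decide +kernel
noncomputable def p303 : Pf := (.ext (nat_lit 0) (nat_lit 0) (nat_lit 0x1100040080020) (nat_lit 0x10008004002001002002000002) (nat_lit 0x2003004008) (nat_lit 4097) (nat_lit 4100) (nat_lit 0xb004002001) (.dfs (nat_lit 1) (nat_lit 0x1002003004008) (nat_lit 0x100200300400b) (nat_lit 4097) (nat_lit 4097) (nat_lit 4) (nat_lit 0) (nat_lit 2) (nat_lit 0) (nat_lit 0) (nat_lit 4) (nat_lit 1) (nat_lit 0) (nat_lit 1) (nat_lit 0) (nat_lit 1) (nat_lit 0) .nil))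
theorem c303 : (chk [] [] p303).n x164 s303 = true := by decide +kernel
noncomputable def p304 : Pf := (.ext (nat_lit 0) (nat_lit 0) (nat_lit 0x1100040080020) (nat_lit 0x10008004002001002002000002) (nat_lit 0x2003004008) (nat_lit 4097) (nat_lit 4100) (nat_lit 0xb004002001) (.dfs (nat_lit 1) (nat_lit 0x1002003004008) (nat_lit 0x100200300400b) (nat_lit 4097) (nat_lit 4097) (nat_lit 4) (nat_lit 0) (nat_lit 2) (nat_lit 0) (nat_lit 0) (nat_lit 4) (nat_lit 1) (nat_lit 0) (nat_lit 1) (nat_lit 0) (nat_lit 1) (nat_lit 0) .nil))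
theorem c304 : (chk [] [] p304).n x165 s304 = true := by decide +kernel
noncomputable def p305 : Pf := (.ext (nat_lit 0) (nat_lit 0) (nat_lit 0x1100040080020) (nat_lit 0x10008004002001002002000002) (nat_lit 0x2003004008) (nat_lit 4097) (nat_lit 4100) (nat_lit 0xb004002001) (.dfs (nat_lit 1) (nat_lit 0x1002003004008) (nat_lit 0x100200300400b) (nat_lit 4097) (nat_lit 4097) (nat_lit 2) (nat_lit 0) (nat_lit 2) (nat_lit 0) (nat_lit 0) (nat_lit 4) (nat_lit 1) (nat_lit 0) (nat_lit 1) (nat_lit 0) (nat_lit 1) (nat_lit 0) .nil))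
theorem c305 : (chk [] [] p305).n x166 s305 = true := by decide +kernel
noncomputable def p306 : Pf := (.ext (nat_lit 0) (nat_lit 0) (nat_lit 0x1100040080020) (nat_lit 0x10008004002001002002000002) (nat_lit 0x2003004008) (nat_lit 4097) (nat_lit 4100) (nat_lit 0xb004002001) (.dfs (nat_lit 1) (nat_lit 0x1002003004008) (nat_lit 0x100200300400b) (nat_lit 4097) (nat_lit 4097) (nat_lit 2) (nat_lit 0) (nat_lit 2) (nat_lit 0) (nat_lit 0) (nat_lit 4) (nat_lit 1) (nat_lit 0) (nat_lit 1) (nat_lit 0) (nat_lit 1) (nat_lit 0) .nil))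
theorem c306 : (chk [] [] p306).n x167 s306 = true := by decide +kernel
noncomputable def p307 : Pf := (.ext (nat_lit 0) (nat_lit 0) (nat_lit 0x1100040080020) (nat_lit 0x10008004002001002002000002) (nat_lit 0x2003004008) (nat_lit 4097) (nat_lit 4100) (nat_lit 0xb004002001) (.dfs (nat_lit 1) (nat_lit 0x1002003004008) (nat_lit 0x100200300400b) (nat_lit 4097) (nat_lit 4097) (nat_lit 6) (nat_lit 0) (nat_lit 2) (nat_lit 0) (nat_lit 0) (nat_lit 4) (nat_lit 1) (nat_lit 0) (nat_lit 1) (nat_lit 0) (nat_lit 1) (nat_lit 0) .nil))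
theorem c307 : (chk [] [] p307).n x168 s307 = true := by decide +kernel
noncomputable def p308 : Pf := (.ext (nat_lit 0) (nat_lit 0) (nat_lit 0x1100040080020) (nat_lit 0x10008004002001002002000002) (nat_lit 0x2003004008) (nat_lit 4097) (nat_lit 4100) (nat_lit 0xb004002001) (.dfs (nat_lit 1) (nat_lit 0x1002003004008) (nat_lit 0x100200300400b) (nat_lit 4097) (nat_lit 4097) (nat_lit 6) (nat_lit 0) (nat_lit 2) (nat_lit 0) (nat_lit 0) (nat_lit 4) (nat_lit 1) (nat_lit 0) (nat_lit 1) (nat_lit 0) (nat_lit 1) (nat_lit 0) .nil))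
theorem c308 : (chk [] [] p308).n x169 s308 = true := by decide +kernel
noncomputable def p309 : Pf := (.lft (nat_lit 0x80020040010002004008001001001) (nat_lit 0) (nat_lit 0x10e80e00c80c00a80a0088080) (nat_lit 0x80040020010008004002001) (.extn a8 (nat_lit 0x80040020010008004002001) (nat_lit 0x1010040020080) (nat_lit 2) (nat_lit 0) (nat_lit 0) (nat_lit 0) (nat_lit 0x1000000010000000100000001) (.cE (nat_lit 0) b9 (nat_lit 0) (.cut (nat_lit 0)) (.cut (nat_lit 1)) (.cE (nat_lit 32) b10 (nat_lit 0) (.cut (nat_lit 2)) (.cut (nat_lit 3)) (.cE (nat_lit 64) b11 (nat_lit 0) (.cut (nat_lit 4)) (.cut (nat_lit 5)) (.cE (nat_lit 96) b12 (nat_lit 0) (.cut (nat_lit 6)) (.cut (nat_lit 7)) .nil))))))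
theorem c309 : (chk [(x162, s301), (x163, s302), (x164, s303), (x165, s304), (x166, s305), (x167, s306), (x168, s307), (x169, s308)] [] p309).n x138 s309 = true := by decide +kernel
noncomputable def p310 : Pf := (.ext (nat_lit 0) (nat_lit 0) (nat_lit 0x1080060040008002004010) (nat_lit 0x40030010001002004008001001) (nat_lit 0x5010030048) (nat_lit 4097) (nat_lit 4099) (nat_lit 0x5102001000c004002001) (.dfs (nat_lit 1) (nat_lit 0x1005010030048) (nat_lit 0x100501003004d) (nat_lit 0x1040020008004002001) (nat_lit 0x105102000c004002001) (nat_lit 0) (nat_lit 0) (nat_lit 2) (nat_lit 0) (nat_lit 0) (nat_lit 3) (nat_lit 1) (nat_lit 0) (nat_lit 1) (nat_lit 0) (nat_lit 1) (nat_lit 0x8000000080000000800000008) (.cD (nat_lit 3) (.iso x138 s309 (nat_lit 0) (nat_lit 0x108004006000801001e002003) (nat_lit 0x8004006000801001e002003) [(nat_lit 0xa004002001000803e002009001002002000002), (nat_lit 0x10008004002007007001)] (.cut (nat_lit 3))) (.cD (nat_lit 35) (.cut (nat_lit 2)) (.cD (nat_lit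 67) (.iso x138 s289 (nat_lit 0) (nat_lit 0x108004006000801001e002003) (nat_lit 0x8004006000801001e002003) [(nat_lit 0xa004002001000803e002009001002002000002), (nat_lit 0x10008004002007007001)] (.cut (nat_lit 1))) (.cD (nat_lit 99) (.iso x138 s278 (nat_lit 0) (nat_lit 0x108004006000801001e002003) (nat_lit 0x8004006000801001e002003) [(nat_lit 0xa004002001000803e002009001002002000002), (nat_lit 0x10008004002007007001)] (.cut (nat_lit 0))) .nil))))))
theorem c310 : (chk [(x138, s278), (x138, s289), (x137, s298), (x138, s309)] [g8] p310).n x137 s310 = true := by decide +kernel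
noncomputable def p311 : Pf := (.ext (nat_lit 0) (nat_lit 0) (nat_lit 0x1080020040010) (nat_lit 0x10008004002003040020010008001002) (nat_lit 0x2003004008) (nat_lit 4097) (nat_lit 4098) (nat_lit 0xb004002001) (.dfs (nat_lit 1) (nat_lit 0x1002003004008) (nat_lit 0x100200300400b) (nat_lit 4097) (nat_lit 4097) (nat_lit 0) (nat_lit 0) (nat_lit 2) (nat_lit 0) (nat_lit 0) (nat_lit 2) (nat_lit 1) (nat_lit 0) (nat_lit 1) (nat_lit 0) (nat_lit 1) (nat_lit 0) .nil))
theorem c311 : (chk [] [] p311).n x170 s311 = true := by decide +kernel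
noncomputable def p312 : Pf := (.ext (nat_lit 0) (nat_lit 0) (nat_lit 0x1080020040010) (nat_lit 0x10008004002003040020010008001002) (nat_lit 0x2003004008) (nat_lit 4097) (nat_lit 4098) (nat_lit 0xb004002001) (.dfs (nat_lit 1) (nat_lit 0x1002003004008) (nat_lit 0x100200300400b) (nat_lit 4097) (nat_lit 4097) (nat_lit 4) (nat_lit 0) (nat_lit 2) (nat_lit 0) (nat_lit 0) (nat_lit 2) (nat_lit 1) (nat_lit 0) (nat_lit 1) (nat_lit 0) (nat_lit 1) (nat_lit 0) .nil))
theorem c312 : (chk [] [] p312).n x171 s312 = true := by decide +kernel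
noncomputable def p313 : Pf := (.ext (nat_lit 0) (nat_lit 0) (nat_lit 0x1080020040010) (nat_lit 0x10008004002003040020010008001002) (nat_lit 0x2003004008) (nat_lit 4097) (nat_lit 4098) (nat_lit 0xb004002001) (.dfs (nat_lit 1) (nat_lit 0x1002003004008) (nat_lit 0x100200300400b) (nat_lit 4097) (nat_lit 4097) (nat_lit 4) (nat_lit 0) (nat_lit 2) (nat_lit 0) (nat_lit 0) (nat_lit 2) (nat_lit 1) (nat_lit 0) (nat_lit 1) (nat_lit 0) (nat_lit 1) (nat_lit 0) .nil))
theorem c313 : (chk [] [] p313).n x172 s313 = true := by decide +kernel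
noncomputable def p314 : Pf := (.ext (nat_lit 0) (nat_lit 0) (nat_lit 0x1080020040010) (nat_lit 0x10008004002003040020010008001002) (nat_lit 0x2003004008) (nat_lit 4097) (nat_lit 4098) (nat_lit 0xb004002001) (.dfs (nat_lit 1) (nat_lit 0x1002003004008) (nat_lit 0x100200300400b) (nat_lit 4097) (nat_lit 4097) (nat_lit 2) (nat_lit 0) (nat_lit 2) (nat_lit 0) (nat_lit 0) (nat_lit 2) (nat_lit 1) (nat_lit 0) (nat_lit 1) (nat_lit 0) (nat_lit 1) (nat_lit 0) .nil))
theorem c314 : (chk [] [] p314).n x173 s314 = true := by decide +kernel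
noncomputable def p315 : Pf := (.ext (nat_lit 0) (nat_lit 0) (nat_lit 0x1080020040010) (nat_lit 0x10008004002003040020010008001002) (nat_lit 0x2003004008) (nat_lit 4097) (nat_lit 4098) (nat_lit 0xb004002001) (.dfs (nat_lit 1) (nat_lit 0x1002003004008) (nat_lit 0x100200300400b) (nat_lit 4097) (nat_lit 4097) (nat_lit 2) (nat_lit 0) (nat_lit 2) (nat_lit 0) (nat_lit 0) (nat_lit 2) (nat_lit 1) (nat_lit 0) (nat_lit 1) (nat_lit 0) (nat_lit 1) (nat_lit 0) .nil))
theorem c315 : (chk [] [] p315).n x174 s315 = true := by decide +kernel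
noncomputable def p316 : Pf := (.ext (nat_lit 0) (nat_lit 0) (nat_lit 0x1080020040010) (nat_lit 0x10008004002003040020010008001002) (nat_lit 0x2003004008) (nat_lit 4097) (nat_lit 4098) (nat_lit 0xb004002001) (.dfs (nat_lit 1) (nat_lit 0x1002003004008) (nat_lit 0x100200300400b) (nat_lit 4097) (nat_lit 4097) (nat_lit 6) (nat_lit 0) (nat_lit 2) (nat_lit 0) (nat_lit 0) (nat_lit 2) (nat_lit 1) (nat_lit 0) (nat_lit 1) (nat_lit 0) (nat_lit 1) (nat_lit 0) .nil))
theorem c316 : (chk [] [] p316).n x175 s316 = true := by decide +kernel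
noncomputable def p317 : Pf := (.ext (nat_lit 0) (nat_lit 0) (nat_lit 0x1080020040010) (nat_lit 0x10008004002003040020010008001002) (nat_lit 0x2003004008) (nat_lit 4097) (nat_lit 4098) (nat_lit 0xb004002001) (.dfs (nat_lit 1) (nat_lit 0x1002003004008) (nat_lit 0x100200300400b) (nat_lit 4097) (nat_lit 4097) (nat_lit 6) (nat_lit 0) (nat_lit 2) (nat_lit 0) (nat_lit 0) (nat_lit 2) (nat_lit 1) (nat_lit 0) (nat_lit 1) (nat_lit 0) (nat_lit 1) (nat_lit 0) .nil))
theorem c317 : (chk [] [] p317).n x176 s317 = true := by decide +kernel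
noncomputable def p318 : Pf := (.lft (nat_lit 0x40010020008001004002005001) (nat_lit 0) (nat_lit 0x1070060050040) (nat_lit 0x40020010008004002001) (.extn a12 (nat_lit 0x40020010008004002001) (nat_lit 0x1008020010040) (nat_lit 2) (nat_lit 0) (nat_lit 0) (nat_lit 0) (nat_lit 0x1000100010001) (.cE (nat_lit 0) b22 (nat_lit 0) (.cut (nat_lit 0)) (.cut (nat_lit 1)) (.cE (nat_lit 16) b27 (nat_lit 0) (.cut (nat_lit 2)) (.cut (nat_lit 3)) (.cE (nat_lit 32) b28 (nat_lit 0) (.cut (nat_lit 4)) (.cut (nat_lit 5)) (.cE (nat_lit 48) b29 (nat_lit 0) (.cut (nat_lit 6)) (.cut (nat_lit 7)) .nil))))))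
theorem c318 : (chk [(x137, s310), (x170, s311), (x171, s312), (x172, s313), (x173, s314), (x174, s315), (x175, s316), (x176, s317)] [] p318).n x120 s318 = true := by decide +kernel
noncomputable def p319 : Pf := (.ext (nat_lit 0) (nat_lit 0x4006008010002001) (nat_lit 0x1040010020008002) (nat_lit 0x10008004002001002004004000010008002004001001004004000010008006004005002005) (nat_lit 0x4006008010) (nat_lit 0x1004001) (nat_lit 0x1004001) (nat_lit 0x10008004006005014008004002001) (.dfs (nat_lit 1) (nat_lit 0x1002004008010) (nat_lit 0x1002004008014) (nat_lit 4097) (nat_lit 4097) (nat_lit 0) (nat_lit 0) (nat_lit 2) (nat_lit 0) (nat_lit 0x2004008010001001) (nat_lit 1) (nat_lit 1) (nat_lit 0) (nat_lit 1) (nat_lit 0) (nat_lit 1) (nat_lit 0x102010201020102) (.cD (nat_lit 1) (.dfs (nat_lit 4) (nat_lit 0x1004008010020) (nat_lit 0x100c008010020) (nat_lit 0x1002001) (nat_lit 0x100a001) (nat_lit 0) (nat_lit 0) (nat_lit 2) (nat_lit 0) (nat_lit 0x4008010020001001) (nat_lit 4) (nat_lit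 1) (nat_lit 0) (nat_lit 4105) (nat_lit 9) (nat_lit 0x1000004000014) (nat_lit 0x100010) (.cD (nat_lit 4) (.cut (nat_lit 0)) (.cD (nat_lit 20) (.kA true (nat_lit 0xc002006010005001010030040001002)) .nil))) (.cD (nat_lit 8) (.kS (nat_lit 0) (nat_lit 0xc008010020001004004000002) (nat_lit 0x1008023) (nat_lit 0x8004002005010008004006001) (nat_lit 0x400400000400801002000100200100400400000c00801002000100a002004)) (.cD (nat_lit 17) (.dfs (nat_lit 4) (nat_lit 0x1004008010020) (nat_lit 0x100c008010020) (nat_lit 0x1002001) (nat_lit 0x100a001) (nat_lit 0) (nat_lit 0) (nat_lit 2) (nat_lit 0) (nat_lit 0x4008010020001001) (nat_lit 4) (nat_lit 1) (nat_lit 0) (nat_lit 4105) (nat_lit 9) (nat_lit 0x1000004000014) (nat_lit 0x100010) (.cD (nat_lit 4) (.kA false (nat_lit 0xa010020041001008010020040001002)) (.cD (nat_lit 20) (.kA false (nat_lit 0xa010020061001008010020060001002002000003)) .nil))) (.cD (nat_lit 24) (.kS (nat_lit 0) (nat_lit 0xc008010020001004004000002) (nat_lit 0x1018023)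 (nat_lit 0x8004002005010008004006001) (nat_lit 0x400400000400801002000100200100400400000c00801002000100a002004)) (.cD (nat_lit 33) (.dfs (nat_lit 4) (nat_lit 0x1004008010020) (nat_lit 0x100c008010020) (nat_lit 0x1002001) (nat_lit 0x100a001) (nat_lit 0) (nat_lit 0) (nat_lit 2) (nat_lit 0) (nat_lit 0x4008010020001001) (nat_lit 4) (nat_lit 1) (nat_lit 0) (nat_lit 4105) (nat_lit 9) (nat_lit 0x1000004000014) (nat_lit 0x100010) (.cD (nat_lit 4) (.kS (nat_lit 1) (nat_lit 0x2004008010009001001000001010030040007003) (nat_lit 4107) (nat_lit 0x8004002003) (nat_lit 0x1100103004100e00100200400801400100900100100000200400801000100a004)) (.cD (nat_lit 20) (.kA true (nat_lit 0xc002006010005001010030040001002)) .nil))) (.cD (nat_lit 40) (.kS (nat_lit 0) (nat_lit 0xc008010020001004004000002) (nat_lit 0x1028023) (nat_lit 0x8004002005010008004006001) (nat_lit 0x400400000400801002000100200100400400000c00801002000100a002004)) (.cD (nat_lit 49) (.dfs (nat_lit 4) (nat_lit 0x1004008010020)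 (nat_lit 0x100c008010020) (nat_lit 0x1002001) (nat_lit 0x100a001) (nat_lit 0) (nat_lit 0) (nat_lit 2) (nat_lit 0) (nat_lit 0x4008010020001001) (nat_lit 4) (nat_lit 1) (nat_lit 0) (nat_lit 4105) (nat_lit 9) (nat_lit 0x1000004000014) (nat_lit 0x100010) (.cD (nat_lit 4) (.kA false (nat_lit 0xa010020041001008010020040001002)) (.cD (nat_lit 20) (.kA false (nat_lit 0xa010020061001008010020060001002002000003)) .nil))) (.cD (nat_lit 56) (.kS (nat_lit 0) (nat_lit 0xc008010020001004004000002) (nat_lit 0x1038023) (nat_lit 0x8004002005010008004006001) (nat_lit 0x400400000400801002000100200100400400000c00801002000100a002004)) .nil))))))))))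
theorem c319 : (chk [(x120, s318)] [] p319).n x120 s319 = true := by decide +kernel
noncomputable def p320 : Pf := (.ext (nat_lit 0) (nat_lit 0x4006008010002001) (nat_lit 0x1040010020008002) (nat_lit 0x10008004002005002004004000010008002004005001004004000010008006004001002005) (nat_lit 0x4006008010) (nat_lit 0x1004001) (nat_lit 0x1004001) (nat_lit 0x10008004006005014008004002001) (.dfs (nat_lit 1) (nat_lit 0x1002004008010) (nat_lit 0x1002004008014) (nat_lit 4097) (nat_lit 4097) (nat_lit 0) (nat_lit 0) (nat_lit 2) (nat_lit 0) (nat_lit 0x2004008010001001) (nat_lit 1) (nat_lit 1) (nat_lit 0) (nat_lit 1) (nat_lit 0) (nat_lit 1) (nat_lit 0x102010201020102) (.cD (nat_lit 1) (.dfs (nat_lit 4) (nat_lit 0x1004008010020) (nat_lit 0x100c008010020) (nat_lit 0x1002001) (nat_lit 0x100a001) (nat_lit 0) (nat_lit 0) (nat_lit 2) (nat_lit 0) (nat_lit 0x4008010020001001) (nat_lit 4) (nat_lit 1) (nat_lit 0) (nat_lit 4105) (nat_lit 9) (nat_lit 0x1000004000014) (nat_lit 0x100010) (.cD (nat_lit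 4) (.kS (nat_lit 1) (nat_lit 0x2004008012009003010030058001001010030040007003) (nat_lit 4143) (nat_lit 0x8004002003) (nat_lit 0x100100000200400801400100900301003005800e00200200400801200500a004)) (.cD (nat_lit 20) (.kA true (nat_lit 0xc002006010005001010030040001002)) .nil))) (.cD (nat_lit 8) (.kS (nat_lit 0) (nat_lit 0xc008010020001004004000002) (nat_lit 0x1008003) (nat_lit 0x8004002005010008004006001) (nat_lit 0x400400000400801002000100200100400400000c00801002000100a002004)) (.cD (nat_lit 17) (.dfs (nat_lit 4) (nat_lit 0x1004008010020) (nat_lit 0x100c008010020) (nat_lit 0x1002001) (nat_lit 0x100a001) (nat_lit 0) (nat_lit 0) (nat_lit 2) (nat_lit 0) (nat_lit 0x4008010020001001) (nat_lit 4) (nat_lit 1) (nat_lit 0) (nat_lit 4105) (nat_lit 9) (nat_lit 0x1000004000014) (nat_lit 0x100010) (.cD (nat_lit 4) (.kA false (nat_lit 0xa010020041001008010020040001002)) (.cD (nat_lit 20) (.kA false (nat_lit 0xa010020061001008010020060001002002000003)) .nil))) (.cD (nat_lit 24) (.kS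 (nat_lit 0) (nat_lit 0xc008010020001004004000002) (nat_lit 0x1018003) (nat_lit 0x8004002005010008004006001) (nat_lit 0x400400000400801002000100200100400400000c00801002000100a002004)) (.cD (nat_lit 33) (.dfs (nat_lit 4) (nat_lit 0x1004008010020) (nat_lit 0x100c008010020) (nat_lit 0x1002001) (nat_lit 0x100a001) (nat_lit 0) (nat_lit 0) (nat_lit 2) (nat_lit 0) (nat_lit 0x4008010020001001) (nat_lit 4) (nat_lit 1) (nat_lit 0) (nat_lit 4105) (nat_lit 9) (nat_lit 0x1000004000014) (nat_lit 0x100010) (.cD (nat_lit 4) (.kS (nat_lit 1) (nat_lit 0x600400801e00c001) (nat_lit 4106) (nat_lit 0x8004002007) (nat_lit 0x1101003006000c00100200200000600400801e00100b003)) (.cD (nat_lit 20) (.kA true (nat_lit 0xc002006010005001010030040001002)) .nil))) (.cD (nat_lit 40) (.kS (nat_lit 0) (nat_lit 0xc008010020001004004000002) (nat_lit 0x1028003) (nat_lit 0x8004002005010008004006001) (nat_lit 0x400400000400801002000100200100400400000c00801002000100a002004)) (.cD (nat_lit 49) (.dfs (nat_lit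 4) (nat_lit 0x1004008010020) (nat_lit 0x100c008010020) (nat_lit 0x1002001) (nat_lit 0x100a001) (nat_lit 0) (nat_lit 0) (nat_lit 2) (nat_lit 0) (nat_lit 0x4008010020001001) (nat_lit 4) (nat_lit 1) (nat_lit 0) (nat_lit 4105) (nat_lit 9) (nat_lit 0x1000004000014) (nat_lit 0x100010) (.cD (nat_lit 4) (.kA false (nat_lit 0xa010020041001008010020040001002)) (.cD (nat_lit 20) (.kA false (nat_lit 0xa010020061001008010020060001002002000003)) .nil))) (.cD (nat_lit 56) (.kS (nat_lit 0) (nat_lit 0xc008010020001004004000002) (nat_lit 0x1038003) (nat_lit 0x8004002005010008004006001) (nat_lit 0x400400000400801002000100200100400400000c00801002000100a002004)) .nil))))))))))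
theorem c320 : (chk [] [] p320).n x120 s320 = true := by decide +kernel
noncomputable def p321 : Pf := (.ext (nat_lit 0) (nat_lit 0) (nat_lit 0x1044010020009) (nat_lit 0x10008004002009010004002001001002) (nat_lit 0x2003004008) (nat_lit 4099) (nat_lit 4098) (nat_lit 0xc004002001) (.dfs (nat_lit 3) (nat_lit 0x1002003004008) (nat_lit 0x100200300400c) (nat_lit 4097) (nat_lit 4097) (nat_lit 0) (nat_lit 0) (nat_lit 2) (nat_lit 0) (nat_lit 0) (nat_lit 2) (nat_lit 1) (nat_lit 0) (nat_lit 4160) (nat_lit 64) (nat_lit 0x100000200000a00002200002a) (nat_lit 0x40400000404) (.cD (nat_lit 2) (.cut (nat_lit 1)) (.cD (nat_lit 10) (.cut (nat_lit 0)) (.cD (nat_lit 34) (.kS (nat_lit 0) (nat_lit 0x200400801000b001) (nat_lit 4098) (nat_lit 0x8004002003) (nat_lit 0x400400000400200801000500100400400000400600801000100200200400801000500c005)) (.cD (nat_lit 42) (.kS (nat_lit 0) (nat_lit 0x200400801000b001) (nat_lit 4138) (nat_lit 0x8004002003) (nat_lit 0x400400000400200801000500100400400000400600801000100200200400801000700c005))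 .nil))))))
theorem c321 : (chk [(x120, s319), (x120, s320)] [] p321).n x120 s321 = true := by decide +kernel
noncomputable def p322 : Pf := (.ext (nat_lit 1) (nat_lit 0) (nat_lit 0x1080060040008) (nat_lit 0x14008004002003040030010001001002) (nat_lit 0x200300400a) (nat_lit 0x1002001) (nat_lit 0x1001003) (nat_lit 0xa004002001009004002001) (.dfs (nat_lit 1) (nat_lit 0x100200300400a) (nat_lit 0x100200300400b) (nat_lit 0x1008001) (nat_lit 0x1009001) (nat_lit 1) (nat_lit 0) (nat_lit 2) (nat_lit 1) (nat_lit 0) (nat_lit 3) (nat_lit 1) (nat_lit 0) (nat_lit 4224) (nat_lit 128) (nat_lit 0x100000300000b00002300002b) (nat_lit 0x80800000808) (.cD (nat_lit 3) (.dfs (nat_lit 2) (nat_lit 0x1004006008014) (nat_lit 0x1004006008010) (nat_lit 0x1010002001) (nat_lit 0x1014002005) (nat_lit 0) (nat_lit 0) (nat_lit 2) (nat_lit 1) (nat_lit 0) (nat_lit 1) (nat_lit 1) (nat_lit 0) (nat_lit 1) (nat_lit 0) (nat_lit 1) (nat_lit 0) .nil) (.cD (nat_lit 11) (.dfs (nat_lit 2) (nat_lit 0x1004006008014)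 (nat_lit 0x1004006008010) (nat_lit 0x1010002001) (nat_lit 0x1014002005) (nat_lit 0) (nat_lit 0) (nat_lit 2) (nat_lit 1) (nat_lit 0) (nat_lit 1) (nat_lit 1) (nat_lit 0) (nat_lit 1) (nat_lit 0) (nat_lit 1) (nat_lit 0) .nil) (.cD (nat_lit 35) (.dfs (nat_lit 2) (nat_lit 0x1004006008014) (nat_lit 0x1004006008010) (nat_lit 0x1010002001) (nat_lit 0x1014002005) (nat_lit 0) (nat_lit 0) (nat_lit 2) (nat_lit 1) (nat_lit 0) (nat_lit 1) (nat_lit 1) (nat_lit 0) (nat_lit 1) (nat_lit 0) (nat_lit 1) (nat_lit 0) .nil) (.cD (nat_lit 43) (.dfs (nat_lit 2) (nat_lit 0x1004006008014) (nat_lit 0x1004006008010) (nat_lit 0x1010002001) (nat_lit 0x1014002005) (nat_lit 0) (nat_lit 0) (nat_lit 2) (nat_lit 1) (nat_lit 0) (nat_lit 1) (nat_lit 1) (nat_lit 0) (nat_lit 1) (nat_lit 0) (nat_lit 1) (nat_lit 0) .nil) .nil))))))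
theorem c322 : (chk [] [] p322).n x177 s322 = true := by decide +kernel
noncomputable def p323 : Pf := (.cl2 (nat_lit 0x1080040020010008004102001) (nat_lit 0x1080040020010008004102001) (nat_lit 1) (nat_lit 258))
theorem c323 : (chk [] [] p323).n x179 s323 = true := by decide +kernel
noncomputable def p324 : Pf := (.clm (.cut (nat_lit 0)) (.dfs (nat_lit 256) (nat_lit 1) (nat_lit 1) (nat_lit 1) (nat_lit 1) (nat_lit 0) (nat_lit 0) (nat_lit 0) (nat_lit 0) (nat_lit 0) (nat_lit 0) (nat_lit 1) (nat_lit 0) (nat_lit 0x1008004002001) (nat_lit 0x8004012001) (nat_lit 0x10001000011000021000031000011a00021a00031a00001100021100031100031800011400021740031200011e0) (nat_lit 0x10000000000000000000000000000000000000000000000000000000000000000) (.cD (nat_lit 256) (.kin (nat_lit 1) (nat_lit 0)) .nil)))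
theorem c324 : (chk [(x179, s323)] [] p324).n x179 s324 = true := by decide +kernel
noncomputable def p325 : Pf := (.ext (nat_lit 0) (nat_lit 0) (nat_lit 0x1100040080020) (nat_lit 0x10008004002001012002000002) (nat_lit 0x2003004008) (nat_lit 4097) (nat_lit 4100) (nat_lit 0xb004002001) (.dfs (nat_lit 1) (nat_lit 0x1002003004008) (nat_lit 0x100200300400b) (nat_lit 4097) (nat_lit 4097) (nat_lit 0) (nat_lit 0) (nat_lit 2) (nat_lit 0) (nat_lit 0) (nat_lit 4) (nat_lit 1) (nat_lit 0) (nat_lit 1) (nat_lit 0) (nat_lit 1) (nat_lit 0) .nil))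
theorem c325 : (chk [] [] p325).n x180 s325 = true := by decide +kernel
noncomputable def p326 : Pf := (.ext (nat_lit 0) (nat_lit 0) (nat_lit 0x1100040080020) (nat_lit 0x10008004002001012002000002) (nat_lit 0x2003004008) (nat_lit 4097) (nat_lit 4100) (nat_lit 0xb004002001) (.dfs (nat_lit 1) (nat_lit 0x1002003004008) (nat_lit 0x100200300400b) (nat_lit 4097) (nat_lit 4097) (nat_lit 4) (nat_lit 0) (nat_lit 2) (nat_lit 0) (nat_lit 0) (nat_lit 4) (nat_lit 1) (nat_lit 0) (nat_lit 1) (nat_lit 0) (nat_lit 1) (nat_lit 0) .nil))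
theorem c326 : (chk [] [] p326).n x181 s326 = true := by decide +kernel
noncomputable def p327 : Pf := (.ext (nat_lit 0) (nat_lit 0) (nat_lit 0x1100040080020) (nat_lit 0x10008004002001012002000002) (nat_lit 0x2003004008) (nat_lit 4097) (nat_lit 4100) (nat_lit 0xb004002001) (.dfs (nat_lit 1) (nat_lit 0x1002003004008) (nat_lit 0x100200300400b) (nat_lit 4097) (nat_lit 4097) (nat_lit 4) (nat_lit 0) (nat_lit 2) (nat_lit 0) (nat_lit 0) (nat_lit 4) (nat_lit 1) (nat_lit 0) (nat_lit 1) (nat_lit 0) (nat_lit 1) (nat_lit 0) .nil))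
theorem c327 : (chk [] [] p327).n x182 s327 = true := by decide +kernel
noncomputable def p328 : Pf := (.ext (nat_lit 0) (nat_lit 0) (nat_lit 0x1100040080020) (nat_lit 0x10008004002001012002000002) (nat_lit 0x2003004008) (nat_lit 4097) (nat_lit 4100) (nat_lit 0xb004002001) (.dfs (nat_lit 1) (nat_lit 0x1002003004008) (nat_lit 0x100200300400b) (nat_lit 4097) (nat_lit 4097) (nat_lit 2) (nat_lit 0) (nat_lit 2) (nat_lit 0) (nat_lit 0) (nat_lit 4) (nat_lit 1) (nat_lit 0) (nat_lit 1) (nat_lit 0) (nat_lit 1) (nat_lit 0) .nil))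
theorem c328 : (chk [] [] p328).n x183 s328 = true := by decide +kernel
noncomputable def p329 : Pf := (.ext (nat_lit 0) (nat_lit 0) (nat_lit 0x1100040080020) (nat_lit 0x10008004002001012002000002) (nat_lit 0x2003004008) (nat_lit 4097) (nat_lit 4100) (nat_lit 0xb004002001) (.dfs (nat_lit 1) (nat_lit 0x1002003004008) (nat_lit 0x100200300400b) (nat_lit 4097) (nat_lit 4097) (nat_lit 2) (nat_lit 0) (nat_lit 2) (nat_lit 0) (nat_lit 0) (nat_lit 4) (nat_lit 1) (nat_lit 0) (nat_lit 1) (nat_lit 0) (nat_lit 1) (nat_lit 0) .nil))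
theorem c329 : (chk [] [] p329).n x184 s329 = true := by decide +kernel
noncomputable def p330 : Pf := (.ext (nat_lit 0) (nat_lit 0) (nat_lit 0x1100040080020) (nat_lit 0x10008004002001012002000002) (nat_lit 0x2003004008) (nat_lit 4097) (nat_lit 4100) (nat_lit 0xb004002001) (.dfs (nat_lit 1) (nat_lit 0x1002003004008) (nat_lit 0x100200300400b) (nat_lit 4097) (nat_lit 4097) (nat_lit 6) (nat_lit 0) (nat_lit 2) (nat_lit 0) (nat_lit 0) (nat_lit 4) (nat_lit 1) (nat_lit 0) (nat_lit 1) (nat_lit 0) (nat_lit 1) (nat_lit 0) .nil))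
theorem c330 : (chk [] [] p330).n x185 s330 = true := by decide +kernel
noncomputable def p331 : Pf := (.ext (nat_lit 0) (nat_lit 0) (nat_lit 0x1100040080020) (nat_lit 0x10008004002001012002000002) (nat_lit 0x2003004008) (nat_lit 4097) (nat_lit 4100) (nat_lit 0xb004002001) (.dfs (nat_lit 1) (nat_lit 0x1002003004008) (nat_lit 0x100200300400b) (nat_lit 4097) (nat_lit 4097) (nat_lit 6) (nat_lit 0) (nat_lit 2) (nat_lit 0) (nat_lit 0) (nat_lit 4) (nat_lit 1) (nat_lit 0) (nat_lit 1) (nat_lit 0) (nat_lit 1) (nat_lit 0) .nil))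
theorem c331 : (chk [] [] p331).n x186 s331 = true := by decide +kernel
noncomputable def p332 : Pf := (.lft (nat_lit 0x80020040010002004008001001001) (nat_lit 0) (nat_lit 0x10e80e00c80c00a80a0088080) (nat_lit 0x80040020010008004002009) (.extn a16 (nat_lit 0x80040020010008004002001) (nat_lit 0x1010040020080) (nat_lit 2) (nat_lit 0) (nat_lit 0) (nat_lit 0) (nat_lit 0x1000000010000000100000001) (.cE (nat_lit 0) b35 (nat_lit 0) (.iso x179 s324 (nat_lit 0) (nat_lit 0x1100080040020010088004002001) (nat_lit 0x100080040020010088004002001) [] (.cut (nat_lit 0))) (.cut (nat_lit 1)) (.cE (nat_lit 32) b36 (nat_lit 0) (.cut (nat_lit 2)) (.cut (nat_lit 3)) (.cE (nat_lit 64) b37 (nat_lit 0) (.cut (nat_lit 4)) (.cut (nat_lit 5)) (.cE (nat_lit 96) b38 (nat_lit 0) (.cut (nat_lit 6)) (.cut (nat_lit 7)) .nil))))))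
theorem c332 : (chk [(x179, s324), (x180, s325), (x181, s326), (x182, s327), (x183, s328), (x184, s329), (x185, s330), (x186, s331)] [g31] p332).n x178 s332 = true := by decide +kernel
noncomputable def p333 : Pf := (.ext (nat_lit 1) (nat_lit 0x2020060080001001) (nat_lit 0x10d006004000a) (nat_lit 0x10008006004006080060020002002002) (nat_lit 0x3001004009) (nat_lit 0x1011005002) (nat_lit 0x1013002007) (nat_lit 0xf00400200100900400200100a004002001) (.dfs (nat_lit 2) (nat_lit 0x1003001004009) (nat_lit 0x100300100400b) (nat_lit 0x1008002) (nat_lit 0x100a002) (nat_lit 0) (nat_lit 0) (nat_lit 2) (nat_lit 1) (nat_lit 0x2020060080003001) (nat_lit 7) (nat_lit 1) (nat_lit 0) (nat_lit 4282) (nat_lit 186) (nat_lit 0x100009700009d0000b70000bd) (nat_lit 0x208000002080000000000000000000000000000000000000) (.cD (nat_lit 151) (.dfs (nat_lit 5) (nat_lit 0x1006002008012) (nat_lit 0x1006002008010) (nat_lit 0x1010004001) (nat_lit 0x1012004005) (nat_lit 2) (nat_lit 0) (nat_lit 2) (nat_lit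 1) (nat_lit 0x2020060080003001) (nat_lit 2) (nat_lit 1) (nat_lit 0) (nat_lit 1) (nat_lit 0) (nat_lit 1) (nat_lit 0x104000001040000010400000104000000000000000000000000000000000000) (.cD (nat_lit 146) (.kS (nat_lit 1) (nat_lit 0x8004010030002004004000002020060080003003) (nat_lit 4309) (nat_lit 0x8004002005) (nat_lit 0x4004000004008010020002001004004000008004010030021001004)) (.cD (nat_lit 152) (.kS (nat_lit 1) (nat_lit 0x8004010030002004004000002020060080003003) (nat_lit 4255) (nat_lit 0x8004002005) (nat_lit 0x400400000400801002000200100400400000800401003002d001004)) (.cD (nat_lit 178) (.kS (nat_lit 1) (nat_lit 0xc004010024002002020060080003002) (nat_lit 4287) (nat_lit 0x8004002005) (nat_lit 0x800c01002802b00100400801002000200100c004010024035001003)) (.cD (nat_lit 184) (.kS (nat_lit 1) (nat_lit 0x8004010030002004004000002020060080003003) (nat_lit 4341) (nat_lit 0x8004002005) (nat_lit 0x4004000004008010020002001004004000008004010030039001004)) (.cD (nat_lit 210) (.kS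 (nat_lit 1) (nat_lit 0x8004010030002004004000002020060080003003) (nat_lit 4319) (nat_lit 0x8004002005) (nat_lit 0x4004000004008010020002001004004000008004010030025001004)) (.cD (nat_lit 216) (.kS (nat_lit 1) (nat_lit 0x8004010030002004004000002020060080003003) (nat_lit 4245) (nat_lit 0x8004002005) (nat_lit 0x4004000004008010020002001004004000008004010030029001004)) (.cD (nat_lit 242) (.dfs (nat_lit 17) (nat_lit 0x100c004010024) (nat_lit 0x100c004010038) (nat_lit 0x1020008002001) (nat_lit 0x103c00800a019) (nat_lit 28) (nat_lit 0) (nat_lit 2) (nat_lit 1) (nat_lit 0x2020060080003001) (nat_lit 19) (nat_lit 1) (nat_lit 0) (nat_lit 1) (nat_lit 0) (nat_lit 1) (nat_lit 0x2080000020800000208000002080000) (.cD (nat_lit 19) (.kS (nat_lit 1) (nat_lit 0x18008020048002002020060080003002) (nat_lit 0x10b502d0ce) (nat_lit 0x800400200501000800401200902001000803c012019) (nat_lit 0x1001802005005607400500100801002004000400200100101800802004806203e063001003)) (.cD (nat_lit 25) (.kS (nat_lit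 1) (nat_lit 0x10008020060002004004000002020060080003003) (nat_lit 0x10b50d2051) (nat_lit 0x800400200501000800401200902001000803c012019) (nat_lit 0x4004000008010020040004002001001004004000010008020060062044011001004)) (.cD (nat_lit 51) (.kS (nat_lit 1) (nat_lit 0x10008020060002004004000002020060080003003) (nat_lit 0x10b50d203b) (nat_lit 0x800400200501000800401200902001000803c012019) (nat_lit 0x4004000008010020040004002001001004004000010008020060062044029001004)) (.cD (nat_lit 57) (.cut (nat_lit 0)) (.cD (nat_lit 83) (.kS (nat_lit 1) (nat_lit 0x10008020060002004004000002020060080003003) (nat_lit 0x10b50d205b) (nat_lit 0x800400200501000800401200902001000803c012019) (nat_lit 0x4004000008010020040004002001001004004000010008020060062044009001004)) (.cD (nat_lit 89) (.kS (nat_lit 1) (nat_lit 0x18008020048002002020060080003002) (nat_lit 0x10b502d0c4) (nat_lit 0x800400200501000800401200902001000803c012019) (nat_lit 0x1001802005005607400d00100801002004000400200100101800802004806203e07b001003))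 (.cD (nat_lit 115) (.kS (nat_lit 1) (nat_lit 0xa0200600b0003002020060080003002) (nat_lit 4118) (nat_lit 0x8004002003) (nat_lit 0x400600801000300700801002004003f00100a0200600b001c004003)) (.cD (nat_lit 121) (.kS (nat_lit 1) (nat_lit 0x10008020060002004004000002020060080003003) (nat_lit 0x10b50d2031) (nat_lit 0x800400200501000800401200902001000803c012019) (nat_lit 0x4004000008010020040004002001001004004000010008020060062044031001004)) .nil))))))))) (.cD (nat_lit 248) (.kS (nat_lit 1) (nat_lit 0x8004010030002004004000002020060080003003) (nat_lit 4351) (nat_lit 0x8004002005) (nat_lit 0x400400000400801002000200100400400000800401003003d001004)) .nil))))))))) (.cD (nat_lit 157) (.dfs (nat_lit 5) (nat_lit 0x1006002008012) (nat_lit 0x1006002008010) (nat_lit 0x1010004001) (nat_lit 0x1012004005) (nat_lit 2) (nat_lit 0) (nat_lit 2) (nat_lit 1) (nat_lit 0x2020060080003001) (nat_lit 2) (nat_lit 1) (nat_lit 0) (nat_lit 1) (nat_lit 0) (nat_lit 1) (nat_lit 0x104000001040000010400000104000000000000000000000000000000000000)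 (.cD (nat_lit 146) (.kS (nat_lit 1) (nat_lit 0x8004010030002004004000002020060080003003) (nat_lit 4309) (nat_lit 0x8004002005) (nat_lit 0x4004000004008010020002001004004000008004010030021001004)) (.cD (nat_lit 152) (.kS (nat_lit 1) (nat_lit 0x8004010030002004004000002020060080003003) (nat_lit 4255) (nat_lit 0x8004002005) (nat_lit 0x400400000400801002000200100400400000800401003002d001004)) (.cD (nat_lit 178) (.kS (nat_lit 1) (nat_lit 0x8004010030002004004000002020060080003003) (nat_lit 4287) (nat_lit 0x8004002005) (nat_lit 0x4004000004008010020002001004004000008004010030035001004)) (.cD (nat_lit 184) (.kS (nat_lit 1) (nat_lit 0xc004010024002002020060080003002) (nat_lit 4341) (nat_lit 0x8004002005) (nat_lit 0x800c01002802f00100400801002000200100c004010024039001003)) (.cD (nat_lit 210) (.kS (nat_lit 1) (nat_lit 0x8004010030002004004000002020060080003003) (nat_lit 4319) (nat_lit 0x8004002005) (nat_lit 0x4004000004008010020002001004004000008004010030025001004)) (.cD (nat_lit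 216) (.kS (nat_lit 1) (nat_lit 0x8004010030002004004000002020060080003003) (nat_lit 4245) (nat_lit 0x8004002005) (nat_lit 0x4004000004008010020002001004004000008004010030029001004)) (.cD (nat_lit 242) (.kS (nat_lit 1) (nat_lit 0x8004010030002004004000002020060080003003) (nat_lit 4277) (nat_lit 0x8004002005) (nat_lit 0x4004000004008010020002001004004000008004010030031001004)) (.cD (nat_lit 248) (.dfs (nat_lit 17) (nat_lit 0x100c004010024) (nat_lit 0x100c004010038) (nat_lit 0x1020008002001) (nat_lit 0x103c00800a019) (nat_lit 28) (nat_lit 0) (nat_lit 2) (nat_lit 1) (nat_lit 0x2020060080003001) (nat_lit 19) (nat_lit 1) (nat_lit 0) (nat_lit 1) (nat_lit 0) (nat_lit 1) (nat_lit 0x2080000020800000208000002080000) (.cD (nat_lit 19) (.kS (nat_lit 1) (nat_lit 0xa0200600b0003002020060080003002) (nat_lit 4118) (nat_lit 0x8004002003) (nat_lit 0x400600801000b00700801002004003f00100a0200600b001c004003)) (.cD (nat_lit 25) (.kS (nat_lit 1) (nat_lit 0x10008020060002004004000002020060080003003)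 (nat_lit 0x10ff098051) (nat_lit 0x800400200501000800401200902001000803c012019) (nat_lit 0x400400000801002004000400200100100400400001000802006007a05c011001004)) (.cD (nat_lit 51) (.kS (nat_lit 1) (nat_lit 0x10008020060002004004000002020060080003003) (nat_lit 0x10ff09803b) (nat_lit 0x800400200501000800401200902001000803c012019) (nat_lit 0x400400000801002004000400200100100400400001000802006007a05c029001004)) (.cD (nat_lit 57) (.kS (nat_lit 1) (nat_lit 0x18008020048002002020060080003002) (nat_lit 0x10ff02d0ae) (nat_lit 0x800400200501000800401200902001000803c012019) (nat_lit 0x1001802005005e07c02d00100801002004000400200100101800802004807a03e043001003)) (.cD (nat_lit 83) (.kS (nat_lit 1) (nat_lit 0x10008020060002004004000002020060080003003) (nat_lit 0x10ff09805b) (nat_lit 0x800400200501000800401200902001000803c012019) (nat_lit 0x400400000801002004000400200100100400400001000802006007a05c009001004)) (.cD (nat_lit 89) (.cut (nat_lit 0)) (.cD (nat_lit 115) (.kS (nat_lit 1)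 (nat_lit 0x18008020048002002020060080003002) (nat_lit 0x10ff02d0a4) (nat_lit 0x800400200501000800401200902001000803c012019) (nat_lit 0x1001802005005e07c02500100801002004000400200100101800802004807a03e05b001003)) (.cD (nat_lit 121) (.kS (nat_lit 1) (nat_lit 0x10008020060002004004000002020060080003003) (nat_lit 0x10ff098031) (nat_lit 0x800400200501000800401200902001000803c012019) (nat_lit 0x400400000801002004000400200100100400400001000802006007a05c031001004)) .nil))))))))) .nil))))))))) (.cD (nat_lit 183) (.dfs (nat_lit 5) (nat_lit 0x1006002008012) (nat_lit 0x1006002008010) (nat_lit 0x1010004001) (nat_lit 0x1012004005) (nat_lit 2) (nat_lit 0) (nat_lit 2) (nat_lit 1) (nat_lit 0x2020060080003001) (nat_lit 2) (nat_lit 1) (nat_lit 0) (nat_lit 1) (nat_lit 0) (nat_lit 1) (nat_lit 0x104000001040000010400000104000000000000000000000000000000000000) (.cD (nat_lit 146) (.kS (nat_lit 1) (nat_lit 0x8004010030002004004000002020060080003003) (nat_lit 4309) (nat_lit 0x8004002005) (nat_lit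 0x4004000004008010020002001004004000008004010030021001004)) (.cD (nat_lit 152) (.kS (nat_lit 1) (nat_lit 0xc004010024002002020060080003002) (nat_lit 4255) (nat_lit 0x8004002005) (nat_lit 0x800c01002803300100400801002000200100c00401002402d001003)) (.cD (nat_lit 178) (.kS (nat_lit 1) (nat_lit 0x8004010030002004004000002020060080003003) (nat_lit 4287) (nat_lit 0x8004002005) (nat_lit 0x4004000004008010020002001004004000008004010030035001004)) (.cD (nat_lit 184) (.kS (nat_lit 1) (nat_lit 0x8004010030002004004000002020060080003003) (nat_lit 4341) (nat_lit 0x8004002005) (nat_lit 0x4004000004008010020002001004004000008004010030039001004)) (.cD (nat_lit 210) (.kS (nat_lit 1) (nat_lit 0x8004010030002004004000002020060080003003) (nat_lit 4319) (nat_lit 0x8004002005) (nat_lit 0x4004000004008010020002001004004000008004010030025001004)) (.cD (nat_lit 216) (.dfs (nat_lit 17) (nat_lit 0x100c004010024) (nat_lit 0x100c004010038) (nat_lit 0x1020008002001) (nat_lit 0x103c00800a019) (nat_lit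 28) (nat_lit 0) (nat_lit 2) (nat_lit 1) (nat_lit 0x2020060080003001) (nat_lit 19) (nat_lit 1) (nat_lit 0) (nat_lit 1) (nat_lit 0) (nat_lit 1) (nat_lit 0x2080000020800000208000002080000) (.cD (nat_lit 19) (.kS (nat_lit 1) (nat_lit 0x18008020048002002020060080003002) (nat_lit 0x10950670ee) (nat_lit 0x800400200501000800401200902001000803c012019) (nat_lit 0x1001802005006604c005001008010020040004002001001018008020048052026053001003)) (.cD (nat_lit 25) (.kS (nat_lit 1) (nat_lit 0x10008020060002004004000002020060080003003) (nat_lit 0x10950b8051) (nat_lit 0x800400200501000800401200902001000803c012019) (nat_lit 0x400400000801002004000400200100100400400001000802006005206c011001004)) (.cD (nat_lit 51) (.kS (nat_lit 1) (nat_lit 0x10008020060002004004000002020060080003003) (nat_lit 0x10950b803b) (nat_lit 0x800400200501000800401200902001000803c012019) (nat_lit 0x400400000801002004000400200100100400400001000802006005206c029001004)) (.cD (nat_lit 57) (.kS (nat_lit 1) (nat_lit 0xa0200600b0003002020060080003002)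 (nat_lit 4118) (nat_lit 0x8004002003) (nat_lit 0x400600801000300700801002004003f00100a0200600b001c004003)) (.cD (nat_lit 83) (.kS (nat_lit 1) (nat_lit 0x10008020060002004004000002020060080003003) (nat_lit 0x10950b805b) (nat_lit 0x800400200501000800401200902001000803c012019) (nat_lit 0x400400000801002004000400200100100400400001000802006005206c009001004)) (.cD (nat_lit 89) (.kS (nat_lit 1) (nat_lit 0x18008020048002002020060080003002) (nat_lit 0x10950670e4) (nat_lit 0x800400200501000800401200902001000803c012019) (nat_lit 0x1001802005006604c00d00100801002004000400200100101800802004805202604b001003)) (.cD (nat_lit 115) (.cut (nat_lit 0)) (.cD (nat_lit 121) (.kS (nat_lit 1) (nat_lit 0x10008020060002004004000002020060080003003) (nat_lit 0x10950b8031) (nat_lit 0x800400200501000800401200902001000803c012019) (nat_lit 0x400400000801002004000400200100100400400001000802006005206c031001004)) .nil))))))))) (.cD (nat_lit 242) (.kS (nat_lit 1) (nat_lit 0x8004010030002004004000002020060080003003)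 (nat_lit 4277) (nat_lit 0x8004002005) (nat_lit 0x4004000004008010020002001004004000008004010030031001004)) (.cD (nat_lit 248) (.kS (nat_lit 1) (nat_lit 0x8004010030002004004000002020060080003003) (nat_lit 4351) (nat_lit 0x8004002005) (nat_lit 0x400400000400801002000200100400400000800401003003d001004)) .nil))))))))) (.cD (nat_lit 189) (.dfs (nat_lit 5) (nat_lit 0x1006002008012) (nat_lit 0x1006002008010) (nat_lit 0x1010004001) (nat_lit 0x1012004005) (nat_lit 2) (nat_lit 0) (nat_lit 2) (nat_lit 1) (nat_lit 0x2020060080003001) (nat_lit 2) (nat_lit 1) (nat_lit 0) (nat_lit 1) (nat_lit 0) (nat_lit 1) (nat_lit 0x104000001040000010400000104000000000000000000000000000000000000) (.cD (nat_lit 146) (.kS (nat_lit 1) (nat_lit 0xc004010024002002020060080003002) (nat_lit 4309) (nat_lit 0x8004002005) (nat_lit 0x800c01002803700100400801002000200100c004010024021001003)) (.cD (nat_lit 152) (.kS (nat_lit 1) (nat_lit 0x8004010030002004004000002020060080003003) (nat_lit 4255) (nat_lit 0x8004002005)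 (nat_lit 0x400400000400801002000200100400400000800401003002d001004)) (.cD (nat_lit 178) (.kS (nat_lit 1) (nat_lit 0x8004010030002004004000002020060080003003) (nat_lit 4287) (nat_lit 0x8004002005) (nat_lit 0x4004000004008010020002001004004000008004010030035001004)) (.cD (nat_lit 184) (.kS (nat_lit 1) (nat_lit 0x8004010030002004004000002020060080003003) (nat_lit 4341) (nat_lit 0x8004002005) (nat_lit 0x4004000004008010020002001004004000008004010030039001004)) (.cD (nat_lit 210) (.dfs (nat_lit 17) (nat_lit 0x100c004010024) (nat_lit 0x100c004010038) (nat_lit 0x1020008002001) (nat_lit 0x103c00800a019) (nat_lit 28) (nat_lit 0) (nat_lit 2) (nat_lit 1) (nat_lit 0x2020060080003001) (nat_lit 19) (nat_lit 1) (nat_lit 0) (nat_lit 1) (nat_lit 0) (nat_lit 1) (nat_lit 0x2080000020800000208000002080000) (.cD (nat_lit 19) (.cut (nat_lit 0)) (.cD (nat_lit 25) (.kS (nat_lit 1) (nat_lit 0x10008020060002004004000002020060080003003) (nat_lit 0x10df0f2051) (nat_lit 0x800400200501000800401200902001000803c012019)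 (nat_lit 0x400400000801002004000400200100100400400001000802006004a074011001004)) (.cD (nat_lit 51) (.kS (nat_lit 1) (nat_lit 0x10008020060002004004000002020060080003003) (nat_lit 0x10df0f203b) (nat_lit 0x800400200501000800401200902001000803c012019) (nat_lit 0x400400000801002004000400200100100400400001000802006004a074029001004)) (.cD (nat_lit 57) (.kS (nat_lit 1) (nat_lit 0x18008020048002002020060080003002) (nat_lit 0x10df06708e) (nat_lit 0x800400200501000800401200902001000803c012019) (nat_lit 0x1001802005006e04402d00100801002004000400200100101800802004804a026073001003)) (.cD (nat_lit 83) (.kS (nat_lit 1) (nat_lit 0x10008020060002004004000002020060080003003) (nat_lit 0x10df0f205b) (nat_lit 0x800400200501000800401200902001000803c012019) (nat_lit 0x400400000801002004000400200100100400400001000802006004a074009001004)) (.cD (nat_lit 89) (.kS (nat_lit 1) (nat_lit 0xa0200600b0003002020060080003002) (nat_lit 4118) (nat_lit 0x8004002003) (nat_lit 0x400600801000b00700801002004003f00100a0200600b001c004003))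 (.cD (nat_lit 115) (.kS (nat_lit 1) (nat_lit 0x18008020048002002020060080003002) (nat_lit 0x10df067084) (nat_lit 0x800400200501000800401200902001000803c012019) (nat_lit 0x1001802005006e04402500100801002004000400200100101800802004804a02606b001003)) (.cD (nat_lit 121) (.kS (nat_lit 1) (nat_lit 0x10008020060002004004000002020060080003003) (nat_lit 0x10df0f2031) (nat_lit 0x800400200501000800401200902001000803c012019) (nat_lit 0x400400000801002004000400200100100400400001000802006004a074031001004)) .nil))))))))) (.cD (nat_lit 216) (.kS (nat_lit 1) (nat_lit 0x8004010030002004004000002020060080003003) (nat_lit 4245) (nat_lit 0x8004002005) (nat_lit 0x4004000004008010020002001004004000008004010030029001004)) (.cD (nat_lit 242) (.kS (nat_lit 1) (nat_lit 0x8004010030002004004000002020060080003003) (nat_lit 4277) (nat_lit 0x8004002005) (nat_lit 0x4004000004008010020002001004004000008004010030031001004)) (.cD (nat_lit 248) (.kS (nat_lit 1) (nat_lit 0x8004010030002004004000002020060080003003)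 (nat_lit 4351) (nat_lit 0x8004002005) (nat_lit 0x400400000400801002000200100400400000800401003003d001004)) .nil))))))))) .nil))))))
theorem c333 : (chk [(x178, s332)] [] p333).n x178 s333 = true := by decide +kernel
noncomputable def p334 : Pf := (.ext (nat_lit 0) (nat_lit 0) (nat_lit 0x1100040080020) (nat_lit 0x10008004002001012002000002) (nat_lit 0x2003004008) (nat_lit 0x1008004001) (nat_lit 0x1008005004) (nat_lit 0xc00400200100a00400200100b004002001) (.dfs (nat_lit 1) (nat_lit 0x1002003004008) (nat_lit 0x100200300400b) (nat_lit 4097) (nat_lit 4097) (nat_lit 0) (nat_lit 0) (nat_lit 2) (nat_lit 0) (nat_lit 0) (nat_lit 4) (nat_lit 1) (nat_lit 0) (nat_lit 4480) (nat_lit 384) (nat_lit 0x1000004000024000044000064) (nat_lit 0x10000000100000001000000010) (.cD (nat_lit 4) (.dfs (nat_lit 4) (nat_lit 0x1004006008010) (nat_lit 0x1004006008014) (nat_lit 0x1002001) (nat_lit 0x1002001) (nat_lit 0) (nat_lit 0) (nat_lit 2) (nat_lit 0) (nat_lit 0) (nat_lit 5) (nat_lit 1) (nat_lit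 0) (nat_lit 1) (nat_lit 0) (nat_lit 1) (nat_lit 0x2000000020000000200000002000000020000000200000002000000020) (.cD (nat_lit 5) (.dfs (nat_lit 8) (nat_lit 0x100800c010020) (nat_lit 0x100800c010030) (nat_lit 0x1004002001) (nat_lit 0x1004002001) (nat_lit 0) (nat_lit 0) (nat_lit 2) (nat_lit 0) (nat_lit 0) (nat_lit 8) (nat_lit 1) (nat_lit 0) (nat_lit 1) (nat_lit 0) (nat_lit 1) (nat_lit 0x10000000100000001000000010000000100000001000000010000000100) (.cD (nat_lit 8) (.kS (nat_lit 0) (nat_lit 0x8018020040002010010000002) (nat_lit 0x10040010a8) (nat_lit 0x800400200d01000800400a00102001000800c002001) (nat_lit 0x10010000008010020040004002001001010010000008018020040002004019001004)) (.cD (nat_lit 40) (.cut (nat_lit 0)) (.cD (nat_lit 72) (.kS (nat_lit 0) (nat_lit 0x8018020040002010010000002) (nat_lit 0x10040010e8) (nat_lit 0x800400200d01000800400a00102001000800c002001) (nat_lit 0x10010000008010020040004002001001010010000008018020040002004039001004)) (.cD (nat_lit 104) (.kS (nat_lit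 0) (nat_lit 0x10018020040002001) (nat_lit 0x10050010c8) (nat_lit 0x800400200d01000800400a00102001000800c002001) (nat_lit 0x18008020040002006029001008010020040004002001001010018020040006004031001003)) (.cD (nat_lit 136) (.kS (nat_lit 0) (nat_lit 0x18010020040001010010000002) (nat_lit 4264) (nat_lit 0x8004002003) (nat_lit 0x6004008010005003012002000018010020040011002003)) (.cD (nat_lit 168) (.kS (nat_lit 0) (nat_lit 0x8018020040002010010000002) (nat_lit 0x1004001088) (nat_lit 0x800400200d01000800400a00102001000800c002001) (nat_lit 0x10010000008010020040004002001001010010000008018020040002004011001004)) (.cD (nat_lit 200) (.kS (nat_lit 0) (nat_lit 0x10018020040002001) (nat_lit 0x10050010e8) (nat_lit 0x800400200d01000800400a00102001000800c002001) (nat_lit 0x18008020040002006031001008010020040004002001001010018020040006004039001003)) (.cD (nat_lit 232) (.kS (nat_lit 0) (nat_lit 0x8018020040002010010000002) (nat_lit 0x10040010c8) (nat_lit 0x800400200d01000800400a00102001000800c002001)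 (nat_lit 0x10010000008010020040004002001001010010000008018020040002004031001004)) .nil))))))))) (.cD (nat_lit 37) (.kS (nat_lit 0) (nat_lit 0x800c010020002001) (nat_lit 4229) (nat_lit 0x800400200d) (nat_lit 0xc00401002000100100400801002000200100800c01002000b001003)) (.cD (nat_lit 69) (.kS (nat_lit 0) (nat_lit 0x400c010020002010010000002) (nat_lit 4164) (nat_lit 0x800400200d) (nat_lit 0x1001000000400801002000200101001000000400c010020011001004)) (.cD (nat_lit 101) (.kS (nat_lit 0) (nat_lit 0x400c010020002010010000002) (nat_lit 4292) (nat_lit 0x800400200d) (nat_lit 0x1001000000400801002000200101001000000400c010020019001004)) (.cD (nat_lit 133) (.kS (nat_lit 0) (nat_lit 0x400c010020002010010000002) (nat_lit 4260) (nat_lit 0x800400200d) (nat_lit 0x1001000000400801002000200101001000000400c01002000d001004)) (.cD (nat_lit 165) (.kS (nat_lit 0) (nat_lit 0x400c010020002010010000002) (nat_lit 4132) (nat_lit 0x800400200d) (nat_lit 0x1001000000400801002000200101001000000400c010020005001004))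 (.cD (nat_lit 197) (.kS (nat_lit 0) (nat_lit 0x400c010020002010010000002) (nat_lit 4324) (nat_lit 0x800400200d) (nat_lit 0x1001000000400801002000200101001000000400c01002001d001004)) (.cD (nat_lit 229) (.kS (nat_lit 0) (nat_lit 0x400c010020002010010000002) (nat_lit 4196) (nat_lit 0x800400200d) (nat_lit 0x1001000000400801002000200101001000000400c010020015001004)) .nil))))))))) (.cD (nat_lit 36) (.dfs (nat_lit 4) (nat_lit 0x1004006008010) (nat_lit 0x1004006008014) (nat_lit 0x1002001) (nat_lit 0x1002001) (nat_lit 0) (nat_lit 0) (nat_lit 2) (nat_lit 0) (nat_lit 0) (nat_lit 5) (nat_lit 1) (nat_lit 0) (nat_lit 1) (nat_lit 0) (nat_lit 1) (nat_lit 0x2000000020000000200000002000000020000000200000002000000020) (.cD (nat_lit 5) (.kS (nat_lit 0) (nat_lit 0x400c010020002010010000002) (nat_lit 4100) (nat_lit 0x800400200d) (nat_lit 0x1001000000400801002000200101001000000400c010020001001004)) (.cD (nat_lit 37) (.kS (nat_lit 0) (nat_lit 0x400c010020002010010000002) (nat_lit 4228) (nat_lit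 0x800400200d) (nat_lit 0x1001000000400801002000200101001000000400c010020009001004)) (.cD (nat_lit 69) (.kS (nat_lit 0) (nat_lit 0x400c010020002010010000002) (nat_lit 4164) (nat_lit 0x800400200d) (nat_lit 0x1001000000400801002000200101001000000400c010020011001004)) (.cD (nat_lit 101) (.kS (nat_lit 0) (nat_lit 0x400c010020002010010000002) (nat_lit 4292) (nat_lit 0x800400200d) (nat_lit 0x1001000000400801002000200101001000000400c010020019001004)) (.cD (nat_lit 133) (.dfs (nat_lit 8) (nat_lit 0x100800c010020) (nat_lit 0x100800c010030) (nat_lit 0x1004002001) (nat_lit 0x1004002001) (nat_lit 0) (nat_lit 0) (nat_lit 2) (nat_lit 0) (nat_lit 0) (nat_lit 8) (nat_lit 1) (nat_lit 0) (nat_lit 1) (nat_lit 0) (nat_lit 1) (nat_lit 0x10000000100000001000000010000000100000001000000010000000100) (.cD (nat_lit 8) (.kS (nat_lit 0) (nat_lit 0x8018020040002010010000002) (nat_lit 0x10a40810a8) (nat_lit 0x800400200d01000800400a00102001000800c002001) (nat_lit 0x1001000000801002004000400200100101001000000801802004001a014019001004))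 (.cD (nat_lit 40) (.cut (nat_lit 0)) (.cD (nat_lit 72) (.kS (nat_lit 0) (nat_lit 0x8018020040002010010000002) (nat_lit 0x10a40810e8) (nat_lit 0x800400200d01000800400a00102001000800c002001) (nat_lit 0x1001000000801002004000400200100101001000000801802004001a014039001004)) (.cD (nat_lit 104) (.kS (nat_lit 0) (nat_lit 0x10018020040002001) (nat_lit 0x10250810c8) (nat_lit 0x800400200d01000800400a00102001000800c002001) (nat_lit 0x1800802004000a01602900100801002004000400200100101001802004000e014031001003)) (.cD (nat_lit 136) (.kS (nat_lit 0) (nat_lit 0x18010020040001010010000002) (nat_lit 4264) (nat_lit 0x8004002003) (nat_lit 0x6004008010005003012002000018010020040011002003)) (.cD (nat_lit 168) (.kS (nat_lit 0) (nat_lit 0x8018020040002010010000002) (nat_lit 0x10a4081088) (nat_lit 0x800400200d01000800400a00102001000800c002001) (nat_lit 0x1001000000801002004000400200100101001000000801802004001a014011001004)) (.cD (nat_lit 200) (.kS (nat_lit 0) (nat_lit 0x10018020040002001)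 (nat_lit 0x10250810e8) (nat_lit 0x800400200d01000800400a00102001000800c002001) (nat_lit 0x1800802004000a01603100100801002004000400200100101001802004000e014039001003)) (.cD (nat_lit 232) (.kS (nat_lit 0) (nat_lit 0x8018020040002010010000002) (nat_lit 0x10a40810c8) (nat_lit 0x800400200d01000800400a00102001000800c002001) (nat_lit 0x1001000000801002004000400200100101001000000801802004001a014031001004)) .nil))))))))) (.cD (nat_lit 165) (.kS (nat_lit 0) (nat_lit 0x800c010020002001) (nat_lit 4261) (nat_lit 0x800400200d) (nat_lit 0xc00401002000500100400801002000200100800c01002000f001003)) (.cD (nat_lit 197) (.kS (nat_lit 0) (nat_lit 0x400c010020002010010000002) (nat_lit 4324) (nat_lit 0x800400200d) (nat_lit 0x1001000000400801002000200101001000000400c01002001d001004)) (.cD (nat_lit 229) (.kS (nat_lit 0) (nat_lit 0x400c010020002010010000002) (nat_lit 4196) (nat_lit 0x800400200d) (nat_lit 0x1001000000400801002000200101001000000400c010020015001004)) .nil))))))))) (.cD (nat_lit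 68) (.dfs (nat_lit 4) (nat_lit 0x1004006008010) (nat_lit 0x1004006008014) (nat_lit 0x1002001) (nat_lit 0x1002001) (nat_lit 0) (nat_lit 0) (nat_lit 2) (nat_lit 0) (nat_lit 0) (nat_lit 5) (nat_lit 1) (nat_lit 0) (nat_lit 1) (nat_lit 0) (nat_lit 1) (nat_lit 0x2000000020000000200000002000000020000000200000002000000020) (.cD (nat_lit 5) (.kS (nat_lit 0) (nat_lit 0x400c010020002010010000002) (nat_lit 4100) (nat_lit 0x800400200d) (nat_lit 0x1001000000400801002000200101001000000400c010020001001004)) (.cD (nat_lit 37) (.kS (nat_lit 0) (nat_lit 0x400c010020002010010000002) (nat_lit 4228) (nat_lit 0x800400200d) (nat_lit 0x1001000000400801002000200101001000000400c010020009001004)) (.cD (nat_lit 69) (.dfs (nat_lit 8) (nat_lit 0x100800c010020) (nat_lit 0x100800c010030) (nat_lit 0x1004002001) (nat_lit 0x1004002001) (nat_lit 0) (nat_lit 0) (nat_lit 2) (nat_lit 0) (nat_lit 0) (nat_lit 8) (nat_lit 1) (nat_lit 0) (nat_lit 1) (nat_lit 0) (nat_lit 1) (nat_lit 0x10000000100000001000000010000000100000001000000010000000100)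 (.cD (nat_lit 8) (.kS (nat_lit 0) (nat_lit 0x8018020040002010010000002) (nat_lit 0x10440410a8) (nat_lit 0x800400200d01000800400a00102001000800c002001) (nat_lit 0x10010000008010020040004002001001010010000008018020040022024019001004)) (.cD (nat_lit 40) (.cut (nat_lit 0)) (.cD (nat_lit 72) (.kS (nat_lit 0) (nat_lit 0x8018020040002010010000002) (nat_lit 0x10440410e8) (nat_lit 0x800400200d01000800400a00102001000800c002001) (nat_lit 0x10010000008010020040004002001001010010000008018020040022024039001004)) (.cD (nat_lit 104) (.kS (nat_lit 0) (nat_lit 0x10018020040002001) (nat_lit 0x10050410c8) (nat_lit 0x800400200d01000800400a00102001000800c002001) (nat_lit 0x18008020040022026029001008010020040004002001001010018020040006024031001003)) (.cD (nat_lit 136) (.kS (nat_lit 0) (nat_lit 0x18010020040001010010000002) (nat_lit 4264) (nat_lit 0x8004002003) (nat_lit 0x6004008010005003012002000018010020040011002003)) (.cD (nat_lit 168) (.kS (nat_lit 0) (nat_lit 0x8018020040002010010000002)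 (nat_lit 0x1044041088) (nat_lit 0x800400200d01000800400a00102001000800c002001) (nat_lit 0x10010000008010020040004002001001010010000008018020040022024011001004)) (.cD (nat_lit 200) (.kS (nat_lit 0) (nat_lit 0x10018020040002001) (nat_lit 0x10050410e8) (nat_lit 0x800400200d01000800400a00102001000800c002001) (nat_lit 0x18008020040022026031001008010020040004002001001010018020040006024039001003)) (.cD (nat_lit 232) (.kS (nat_lit 0) (nat_lit 0x8018020040002010010000002) (nat_lit 0x10440410c8) (nat_lit 0x800400200d01000800400a00102001000800c002001) (nat_lit 0x10010000008010020040004002001001010010000008018020040022024031001004)) .nil))))))))) (.cD (nat_lit 101) (.kS (nat_lit 0) (nat_lit 0x800c010020002001) (nat_lit 4229) (nat_lit 0x800400200d) (nat_lit 0xc00401002001100100400801002000200100800c01002000b001003)) (.cD (nat_lit 133) (.kS (nat_lit 0) (nat_lit 0x400c010020002010010000002) (nat_lit 4260) (nat_lit 0x800400200d) (nat_lit 0x1001000000400801002000200101001000000400c01002000d001004))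 (.cD (nat_lit 165) (.kS (nat_lit 0) (nat_lit 0x400c010020002010010000002) (nat_lit 4132) (nat_lit 0x800400200d) (nat_lit 0x1001000000400801002000200101001000000400c010020005001004)) (.cD (nat_lit 197) (.kS (nat_lit 0) (nat_lit 0x400c010020002010010000002) (nat_lit 4324) (nat_lit 0x800400200d) (nat_lit 0x1001000000400801002000200101001000000400c01002001d001004)) (.cD (nat_lit 229) (.kS (nat_lit 0) (nat_lit 0x400c010020002010010000002) (nat_lit 4196) (nat_lit 0x800400200d) (nat_lit 0x1001000000400801002000200101001000000400c010020015001004)) .nil))))))))) (.cD (nat_lit 100) (.dfs (nat_lit 4) (nat_lit 0x1004006008010) (nat_lit 0x1004006008014) (nat_lit 0x1002001) (nat_lit 0x1002001) (nat_lit 0) (nat_lit 0) (nat_lit 2) (nat_lit 0) (nat_lit 0) (nat_lit 5) (nat_lit 1) (nat_lit 0) (nat_lit 1) (nat_lit 0) (nat_lit 1) (nat_lit 0x2000000020000000200000002000000020000000200000002000000020) (.cD (nat_lit 5) (.kS (nat_lit 0) (nat_lit 0x400c010020002010010000002) (nat_lit 4100)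 (nat_lit 0x800400200d) (nat_lit 0x1001000000400801002000200101001000000400c010020001001004)) (.cD (nat_lit 37) (.kS (nat_lit 0) (nat_lit 0x400c010020002010010000002) (nat_lit 4228) (nat_lit 0x800400200d) (nat_lit 0x1001000000400801002000200101001000000400c010020009001004)) (.cD (nat_lit 69) (.kS (nat_lit 0) (nat_lit 0x400c010020002010010000002) (nat_lit 4164) (nat_lit 0x800400200d) (nat_lit 0x1001000000400801002000200101001000000400c010020011001004)) (.cD (nat_lit 101) (.kS (nat_lit 0) (nat_lit 0x400c010020002010010000002) (nat_lit 4292) (nat_lit 0x800400200d) (nat_lit 0x1001000000400801002000200101001000000400c010020019001004)) (.cD (nat_lit 133) (.kS (nat_lit 0) (nat_lit 0x400c010020002010010000002) (nat_lit 4260) (nat_lit 0x800400200d) (nat_lit 0x1001000000400801002000200101001000000400c01002000d001004)) (.cD (nat_lit 165) (.kS (nat_lit 0) (nat_lit 0x400c010020002010010000002) (nat_lit 4132) (nat_lit 0x800400200d) (nat_lit 0x1001000000400801002000200101001000000400c010020005001004))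 (.cD (nat_lit 197) (.dfs (nat_lit 8) (nat_lit 0x100800c010020) (nat_lit 0x100800c010030) (nat_lit 0x1004002001) (nat_lit 0x1004002001) (nat_lit 0) (nat_lit 0) (nat_lit 2) (nat_lit 0) (nat_lit 0) (nat_lit 8) (nat_lit 1) (nat_lit 0) (nat_lit 1) (nat_lit 0) (nat_lit 1) (nat_lit 0x10000000100000001000000010000000100000001000000010000000100) (.cD (nat_lit 8) (.kS (nat_lit 0) (nat_lit 0x8018020040002010010000002) (nat_lit 0x10e40c10a8) (nat_lit 0x800400200d01000800400a00102001000800c002001) (nat_lit 0x1001000000801002004000400200100101001000000801802004003a034019001004)) (.cD (nat_lit 40) (.cut (nat_lit 0)) (.cD (nat_lit 72) (.kS (nat_lit 0) (nat_lit 0x8018020040002010010000002) (nat_lit 0x10e40c10e8) (nat_lit 0x800400200d01000800400a00102001000800c002001) (nat_lit 0x1001000000801002004000400200100101001000000801802004003a034039001004)) (.cD (nat_lit 104) (.kS (nat_lit 0) (nat_lit 0x10018020040002001) (nat_lit 0x10250c10c8) (nat_lit 0x800400200d01000800400a00102001000800c002001)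 (nat_lit 0x1800802004002a03602900100801002004000400200100101001802004000e034031001003)) (.cD (nat_lit 136) (.kS (nat_lit 0) (nat_lit 0x18010020040001010010000002) (nat_lit 4264) (nat_lit 0x8004002003) (nat_lit 0x6004008010005003012002000018010020040011002003)) (.cD (nat_lit 168) (.kS (nat_lit 0) (nat_lit 0x8018020040002010010000002) (nat_lit 0x10e40c1088) (nat_lit 0x800400200d01000800400a00102001000800c002001) (nat_lit 0x1001000000801002004000400200100101001000000801802004003a034011001004)) (.cD (nat_lit 200) (.kS (nat_lit 0) (nat_lit 0x10018020040002001) (nat_lit 0x10250c10e8) (nat_lit 0x800400200d01000800400a00102001000800c002001) (nat_lit 0x1800802004002a03603100100801002004000400200100101001802004000e034039001003)) (.cD (nat_lit 232) (.kS (nat_lit 0) (nat_lit 0x8018020040002010010000002) (nat_lit 0x10e40c10c8) (nat_lit 0x800400200d01000800400a00102001000800c002001) (nat_lit 0x1001000000801002004000400200100101001000000801802004003a034031001004)) .nil)))))))))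 (.cD (nat_lit 229) (.kS (nat_lit 0) (nat_lit 0x800c010020002001) (nat_lit 4261) (nat_lit 0x800400200d) (nat_lit 0xc00401002001500100400801002000200100800c01002000f001003)) .nil))))))))) .nil))))))
theorem c334 : (chk [(x179, s324)] [] p334).n x179 s334 = true := by decide +kernel
noncomputable def p335 : Pf := (.ext (nat_lit 0) (nat_lit 0) (nat_lit 0x1100040080020) (nat_lit 0x10008004002001012002000002) (nat_lit 0x2003004008) (nat_lit 4097) (nat_lit 4100) (nat_lit 0xb004002001) (.dfs (nat_lit 1) (nat_lit 0x1002003004008) (nat_lit 0x100200300400b) (nat_lit 4097) (nat_lit 4097) (nat_lit 0) (nat_lit 0) (nat_lit 2) (nat_lit 0) (nat_lit 0) (nat_lit 4) (nat_lit 1) (nat_lit 0) (nat_lit 1) (nat_lit 0) (nat_lit 1) (nat_lit 0) .nil))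
theorem c335 : (chk [] [] p335).n x187 s335 = true := by decide +kernel
noncomputable def p336 : Pf := (.ext (nat_lit 0) (nat_lit 0) (nat_lit 0x1100040080020) (nat_lit 0x10008004002001012002000002) (nat_lit 0x2003004008) (nat_lit 4097) (nat_lit 4100) (nat_lit 0xb004002001) (.dfs (nat_lit 1) (nat_lit 0x1002003004008) (nat_lit 0x100200300400b) (nat_lit 4097) (nat_lit 4097) (nat_lit 4) (nat_lit 0) (nat_lit 2) (nat_lit 0) (nat_lit 0) (nat_lit 4) (nat_lit 1) (nat_lit 0) (nat_lit 1) (nat_lit 0) (nat_lit 1) (nat_lit 0) .nil))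
theorem c336 : (chk [] [] p336).n x188 s336 = true := by decide +kernel
noncomputable def p337 : Pf := (.ext (nat_lit 0) (nat_lit 0) (nat_lit 0x1100040080020) (nat_lit 0x10008004002001012002000002) (nat_lit 0x2003004008) (nat_lit 4097) (nat_lit 4100) (nat_lit 0xb004002001) (.dfs (nat_lit 1) (nat_lit 0x1002003004008) (nat_lit 0x100200300400b) (nat_lit 4097) (nat_lit 4097) (nat_lit 4) (nat_lit 0) (nat_lit 2) (nat_lit 0) (nat_lit 0) (nat_lit 4) (nat_lit 1) (nat_lit 0) (nat_lit 1) (nat_lit 0) (nat_lit 1) (nat_lit 0) .nil))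
theorem c337 : (chk [] [] p337).n x189 s337 = true := by decide +kernel
noncomputable def p338 : Pf := (.ext (nat_lit 0) (nat_lit 0) (nat_lit 0x1100040080020) (nat_lit 0x10008004002001012002000002) (nat_lit 0x2003004008) (nat_lit 4097) (nat_lit 4100) (nat_lit 0xb004002001) (.dfs (nat_lit 1) (nat_lit 0x1002003004008) (nat_lit 0x100200300400b) (nat_lit 4097) (nat_lit 4097) (nat_lit 2) (nat_lit 0) (nat_lit 2) (nat_lit 0) (nat_lit 0) (nat_lit 4) (nat_lit 1) (nat_lit 0) (nat_lit 1) (nat_lit 0) (nat_lit 1) (nat_lit 0) .nil))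
theorem c338 : (chk [] [] p338).n x190 s338 = true := by decide +kernel
noncomputable def p339 : Pf := (.ext (nat_lit 0) (nat_lit 0) (nat_lit 0x1100040080020) (nat_lit 0x10008004002001012002000002) (nat_lit 0x2003004008) (nat_lit 4097) (nat_lit 4100) (nat_lit 0xb004002001) (.dfs (nat_lit 1) (nat_lit 0x1002003004008) (nat_lit 0x100200300400b) (nat_lit 4097) (nat_lit 4097) (nat_lit 2) (nat_lit 0) (nat_lit 2) (nat_lit 0) (nat_lit 0) (nat_lit 4) (nat_lit 1) (nat_lit 0) (nat_lit 1) (nat_lit 0) (nat_lit 1) (nat_lit 0) .nil))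
theorem c339 : (chk [] [] p339).n x191 s339 = true := by decide +kernel
noncomputable def p340 : Pf := (.ext (nat_lit 0) (nat_lit 0) (nat_lit 0x1100040080020) (nat_lit 0x10008004002001012002000002) (nat_lit 0x2003004008) (nat_lit 4097) (nat_lit 4100) (nat_lit 0xb004002001) (.dfs (nat_lit 1) (nat_lit 0x1002003004008) (nat_lit 0x100200300400b) (nat_lit 4097) (nat_lit 4097) (nat_lit 6) (nat_lit 0) (nat_lit 2) (nat_lit 0) (nat_lit 0) (nat_lit 4) (nat_lit 1) (nat_lit 0) (nat_lit 1) (nat_lit 0) (nat_lit 1) (nat_lit 0) .nil))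
theorem c340 : (chk [] [] p340).n x192 s340 = true := by decide +kernel
noncomputable def p341 : Pf := (.ext (nat_lit 0) (nat_lit 0) (nat_lit 0x1100040080020) (nat_lit 0x10008004002001012002000002) (nat_lit 0x2003004008) (nat_lit 4097) (nat_lit 4100) (nat_lit 0xb004002001) (.dfs (nat_lit 1) (nat_lit 0x1002003004008) (nat_lit 0x100200300400b) (nat_lit 4097) (nat_lit 4097) (nat_lit 6) (nat_lit 0) (nat_lit 2) (nat_lit 0) (nat_lit 0) (nat_lit 4) (nat_lit 1) (nat_lit 0) (nat_lit 1) (nat_lit 0) (nat_lit 1) (nat_lit 0) .nil))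
theorem c341 : (chk [] [] p341).n x193 s341 = true := by decide +kernel
noncomputable def p342 : Pf := (.lft (nat_lit 0x80020040010002004008001001001) (nat_lit 0) (nat_lit 0x10e80e00c80c00a80a0088080) (nat_lit 0x80040020010008004002009) (.extn a15 (nat_lit 0x80040020010008004002001) (nat_lit 0x1010040020080) (nat_lit 2) (nat_lit 0) (nat_lit 0) (nat_lit 0) (nat_lit 0x1000000010000000100000001) (.cE (nat_lit 0) b31 (nat_lit 0) (.cut (nat_lit 0)) (.cut (nat_lit 1)) (.cE (nat_lit 32) b32 (nat_lit 0) (.cut (nat_lit 2)) (.cut (nat_lit 3)) (.cE (nat_lit 64) b33 (nat_lit 0) (.cut (nat_lit 4)) (.cut (nat_lit 5)) (.cE (nat_lit 96) b34 (nat_lit 0) (.cut (nat_lit 6)) (.cut (nat_lit 7)) .nil))))))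
theorem c342 : (chk [(x179, s334), (x187, s335), (x188, s336), (x189, s337), (x190, s338), (x191, s339), (x192, s340), (x193, s341)] [] p342).n x178 s342 = true := by decide +kernel
noncomputable def p343 : Pf := (.ext (nat_lit 1) (nat_lit 0x2020060080001001) (nat_lit 0x10d006004000a) (nat_lit 0x10008006004006080060020002002002) (nat_lit 0x3001004009) (nat_lit 0x1011005002) (nat_lit 0x1013002007) (nat_lit 0xf00400200100900400200100a004002001) (.dfs (nat_lit 2) (nat_lit 0x1003001004009) (nat_lit 0x100300100400b) (nat_lit 0x1008002) (nat_lit 0x100a002) (nat_lit 0) (nat_lit 0) (nat_lit 2) (nat_lit 1) (nat_lit 0x2020060080003001) (nat_lit 7) (nat_lit 1) (nat_lit 0) (nat_lit 4282) (nat_lit 186) (nat_lit 0x100009700009d0000b70000bd) (nat_lit 0x208000002080000000000000000000000000000000000000) (.cD (nat_lit 151) (.dfs (nat_lit 5) (nat_lit 0x1006002008012) (nat_lit 0x1006002008010) (nat_lit 0x1010004001) (nat_lit 0x1012004005) (nat_lit 2) (nat_lit 0) (nat_lit 2) (nat_lit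 1) (nat_lit 0x2020060080003001) (nat_lit 2) (nat_lit 1) (nat_lit 0) (nat_lit 1) (nat_lit 0) (nat_lit 1) (nat_lit 0x104000001040000010400000104000000000000000000000000000000000000) (.cD (nat_lit 146) (.kS (nat_lit 1) (nat_lit 0x8004010030002004004000002020060080003003) (nat_lit 4309) (nat_lit 0x8004002005) (nat_lit 0x4004000004008010020002001004004000008004010030021001004)) (.cD (nat_lit 152) (.kS (nat_lit 1) (nat_lit 0x8004010030002004004000002020060080003003) (nat_lit 4255) (nat_lit 0x8004002005) (nat_lit 0x400400000400801002000200100400400000800401003002d001004)) (.cD (nat_lit 178) (.kS (nat_lit 1) (nat_lit 0xc004010024002002020060080003002) (nat_lit 4287) (nat_lit 0x8004002005) (nat_lit 0x800c01002802b00100400801002000200100c004010024035001003)) (.cD (nat_lit 184) (.kS (nat_lit 1) (nat_lit 0x8004010030002004004000002020060080003003) (nat_lit 4341) (nat_lit 0x8004002005) (nat_lit 0x4004000004008010020002001004004000008004010030039001004)) (.cD (nat_lit 210) (.kS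 (nat_lit 1) (nat_lit 0x8004010030002004004000002020060080003003) (nat_lit 4319) (nat_lit 0x8004002005) (nat_lit 0x4004000004008010020002001004004000008004010030025001004)) (.cD (nat_lit 216) (.kS (nat_lit 1) (nat_lit 0x8004010030002004004000002020060080003003) (nat_lit 4245) (nat_lit 0x8004002005) (nat_lit 0x4004000004008010020002001004004000008004010030029001004)) (.cD (nat_lit 242) (.dfs (nat_lit 17) (nat_lit 0x100c004010024) (nat_lit 0x100c004010038) (nat_lit 0x1020008002001) (nat_lit 0x103c00800a019) (nat_lit 28) (nat_lit 0) (nat_lit 2) (nat_lit 1) (nat_lit 0x2020060080003001) (nat_lit 19) (nat_lit 1) (nat_lit 0) (nat_lit 1) (nat_lit 0) (nat_lit 1) (nat_lit 0x2080000020800000208000002080000) (.cD (nat_lit 19) (.kS (nat_lit 1) (nat_lit 0x18008020048002002020060080003002) (nat_lit 0x10b502d0ce) (nat_lit 0x800400200501000800401200902001000803c012019) (nat_lit 0x1001802005005607400500100801002004000400200100101800802004806203e063001003)) (.cD (nat_lit 25) (.kS (nat_lit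 1) (nat_lit 0x10008020060002004004000002020060080003003) (nat_lit 0x10b50d2051) (nat_lit 0x800400200501000800401200902001000803c012019) (nat_lit 0x4004000008010020040004002001001004004000010008020060062044011001004)) (.cD (nat_lit 51) (.kS (nat_lit 1) (nat_lit 0x10008020060002004004000002020060080003003) (nat_lit 0x10b50d203b) (nat_lit 0x800400200501000800401200902001000803c012019) (nat_lit 0x4004000008010020040004002001001004004000010008020060062044029001004)) (.cD (nat_lit 57) (.cut (nat_lit 0)) (.cD (nat_lit 83) (.kS (nat_lit 1) (nat_lit 0x10008020060002004004000002020060080003003) (nat_lit 0x10b50d205b) (nat_lit 0x800400200501000800401200902001000803c012019) (nat_lit 0x4004000008010020040004002001001004004000010008020060062044009001004)) (.cD (nat_lit 89) (.kS (nat_lit 1) (nat_lit 0x18008020048002002020060080003002) (nat_lit 0x10b502d0c4) (nat_lit 0x800400200501000800401200902001000803c012019) (nat_lit 0x1001802005005607400d00100801002004000400200100101800802004806203e07b001003))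 (.cD (nat_lit 115) (.kS (nat_lit 1) (nat_lit 0xa0200600b0003002020060080003002) (nat_lit 4118) (nat_lit 0x8004002003) (nat_lit 0x400600801000300700801002004003f00100a0200600b001c004003)) (.cD (nat_lit 121) (.kS (nat_lit 1) (nat_lit 0x10008020060002004004000002020060080003003) (nat_lit 0x10b50d2031) (nat_lit 0x800400200501000800401200902001000803c012019) (nat_lit 0x4004000008010020040004002001001004004000010008020060062044031001004)) .nil))))))))) (.cD (nat_lit 248) (.kS (nat_lit 1) (nat_lit 0x8004010030002004004000002020060080003003) (nat_lit 4351) (nat_lit 0x8004002005) (nat_lit 0x400400000400801002000200100400400000800401003003d001004)) .nil))))))))) (.cD (nat_lit 157) (.dfs (nat_lit 5) (nat_lit 0x1006002008012) (nat_lit 0x1006002008010) (nat_lit 0x1010004001) (nat_lit 0x1012004005) (nat_lit 2) (nat_lit 0) (nat_lit 2) (nat_lit 1) (nat_lit 0x2020060080003001) (nat_lit 2) (nat_lit 1) (nat_lit 0) (nat_lit 1) (nat_lit 0) (nat_lit 1) (nat_lit 0x104000001040000010400000104000000000000000000000000000000000000)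 (.cD (nat_lit 146) (.kS (nat_lit 1) (nat_lit 0x8004010030002004004000002020060080003003) (nat_lit 4309) (nat_lit 0x8004002005) (nat_lit 0x4004000004008010020002001004004000008004010030021001004)) (.cD (nat_lit 152) (.kS (nat_lit 1) (nat_lit 0x8004010030002004004000002020060080003003) (nat_lit 4255) (nat_lit 0x8004002005) (nat_lit 0x400400000400801002000200100400400000800401003002d001004)) (.cD (nat_lit 178) (.kS (nat_lit 1) (nat_lit 0x8004010030002004004000002020060080003003) (nat_lit 4287) (nat_lit 0x8004002005) (nat_lit 0x4004000004008010020002001004004000008004010030035001004)) (.cD (nat_lit 184) (.kS (nat_lit 1) (nat_lit 0xc004010024002002020060080003002) (nat_lit 4341) (nat_lit 0x8004002005) (nat_lit 0x800c01002802f00100400801002000200100c004010024039001003)) (.cD (nat_lit 210) (.kS (nat_lit 1) (nat_lit 0x8004010030002004004000002020060080003003) (nat_lit 4319) (nat_lit 0x8004002005) (nat_lit 0x4004000004008010020002001004004000008004010030025001004)) (.cD (nat_lit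 216) (.kS (nat_lit 1) (nat_lit 0x8004010030002004004000002020060080003003) (nat_lit 4245) (nat_lit 0x8004002005) (nat_lit 0x4004000004008010020002001004004000008004010030029001004)) (.cD (nat_lit 242) (.kS (nat_lit 1) (nat_lit 0x8004010030002004004000002020060080003003) (nat_lit 4277) (nat_lit 0x8004002005) (nat_lit 0x4004000004008010020002001004004000008004010030031001004)) (.cD (nat_lit 248) (.dfs (nat_lit 17) (nat_lit 0x100c004010024) (nat_lit 0x100c004010038) (nat_lit 0x1020008002001) (nat_lit 0x103c00800a019) (nat_lit 28) (nat_lit 0) (nat_lit 2) (nat_lit 1) (nat_lit 0x2020060080003001) (nat_lit 19) (nat_lit 1) (nat_lit 0) (nat_lit 1) (nat_lit 0) (nat_lit 1) (nat_lit 0x2080000020800000208000002080000) (.cD (nat_lit 19) (.kS (nat_lit 1) (nat_lit 0xa0200600b0003002020060080003002) (nat_lit 4118) (nat_lit 0x8004002003) (nat_lit 0x400600801000b00700801002004003f00100a0200600b001c004003)) (.cD (nat_lit 25) (.kS (nat_lit 1) (nat_lit 0x10008020060002004004000002020060080003003)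 (nat_lit 0x10ff098051) (nat_lit 0x800400200501000800401200902001000803c012019) (nat_lit 0x400400000801002004000400200100100400400001000802006007a05c011001004)) (.cD (nat_lit 51) (.kS (nat_lit 1) (nat_lit 0x10008020060002004004000002020060080003003) (nat_lit 0x10ff09803b) (nat_lit 0x800400200501000800401200902001000803c012019) (nat_lit 0x400400000801002004000400200100100400400001000802006007a05c029001004)) (.cD (nat_lit 57) (.kS (nat_lit 1) (nat_lit 0x18008020048002002020060080003002) (nat_lit 0x10ff02d0ae) (nat_lit 0x800400200501000800401200902001000803c012019) (nat_lit 0x1001802005005e07c02d00100801002004000400200100101800802004807a03e043001003)) (.cD (nat_lit 83) (.kS (nat_lit 1) (nat_lit 0x10008020060002004004000002020060080003003) (nat_lit 0x10ff09805b) (nat_lit 0x800400200501000800401200902001000803c012019) (nat_lit 0x400400000801002004000400200100100400400001000802006007a05c009001004)) (.cD (nat_lit 89) (.cut (nat_lit 0)) (.cD (nat_lit 115) (.kS (nat_lit 1)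 (nat_lit 0x18008020048002002020060080003002) (nat_lit 0x10ff02d0a4) (nat_lit 0x800400200501000800401200902001000803c012019) (nat_lit 0x1001802005005e07c02500100801002004000400200100101800802004807a03e05b001003)) (.cD (nat_lit 121) (.kS (nat_lit 1) (nat_lit 0x10008020060002004004000002020060080003003) (nat_lit 0x10ff098031) (nat_lit 0x800400200501000800401200902001000803c012019) (nat_lit 0x400400000801002004000400200100100400400001000802006007a05c031001004)) .nil))))))))) .nil))))))))) (.cD (nat_lit 183) (.dfs (nat_lit 5) (nat_lit 0x1006002008012) (nat_lit 0x1006002008010) (nat_lit 0x1010004001) (nat_lit 0x1012004005) (nat_lit 2) (nat_lit 0) (nat_lit 2) (nat_lit 1) (nat_lit 0x2020060080003001) (nat_lit 2) (nat_lit 1) (nat_lit 0) (nat_lit 1) (nat_lit 0) (nat_lit 1) (nat_lit 0x104000001040000010400000104000000000000000000000000000000000000) (.cD (nat_lit 146) (.kS (nat_lit 1) (nat_lit 0x8004010030002004004000002020060080003003) (nat_lit 4309) (nat_lit 0x8004002005) (nat_lit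 0x4004000004008010020002001004004000008004010030021001004)) (.cD (nat_lit 152) (.kS (nat_lit 1) (nat_lit 0xc004010024002002020060080003002) (nat_lit 4255) (nat_lit 0x8004002005) (nat_lit 0x800c01002803300100400801002000200100c00401002402d001003)) (.cD (nat_lit 178) (.kS (nat_lit 1) (nat_lit 0x8004010030002004004000002020060080003003) (nat_lit 4287) (nat_lit 0x8004002005) (nat_lit 0x4004000004008010020002001004004000008004010030035001004)) (.cD (nat_lit 184) (.kS (nat_lit 1) (nat_lit 0x8004010030002004004000002020060080003003) (nat_lit 4341) (nat_lit 0x8004002005) (nat_lit 0x4004000004008010020002001004004000008004010030039001004)) (.cD (nat_lit 210) (.kS (nat_lit 1) (nat_lit 0x8004010030002004004000002020060080003003) (nat_lit 4319) (nat_lit 0x8004002005) (nat_lit 0x4004000004008010020002001004004000008004010030025001004)) (.cD (nat_lit 216) (.dfs (nat_lit 17) (nat_lit 0x100c004010024) (nat_lit 0x100c004010038) (nat_lit 0x1020008002001) (nat_lit 0x103c00800a019) (nat_lit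 28) (nat_lit 0) (nat_lit 2) (nat_lit 1) (nat_lit 0x2020060080003001) (nat_lit 19) (nat_lit 1) (nat_lit 0) (nat_lit 1) (nat_lit 0) (nat_lit 1) (nat_lit 0x2080000020800000208000002080000) (.cD (nat_lit 19) (.kS (nat_lit 1) (nat_lit 0x18008020048002002020060080003002) (nat_lit 0x10950670ee) (nat_lit 0x800400200501000800401200902001000803c012019) (nat_lit 0x1001802005006604c005001008010020040004002001001018008020048052026053001003)) (.cD (nat_lit 25) (.kS (nat_lit 1) (nat_lit 0x10008020060002004004000002020060080003003) (nat_lit 0x10950b8051) (nat_lit 0x800400200501000800401200902001000803c012019) (nat_lit 0x400400000801002004000400200100100400400001000802006005206c011001004)) (.cD (nat_lit 51) (.kS (nat_lit 1) (nat_lit 0x10008020060002004004000002020060080003003) (nat_lit 0x10950b803b) (nat_lit 0x800400200501000800401200902001000803c012019) (nat_lit 0x400400000801002004000400200100100400400001000802006005206c029001004)) (.cD (nat_lit 57) (.kS (nat_lit 1) (nat_lit 0xa0200600b0003002020060080003002)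 (nat_lit 4118) (nat_lit 0x8004002003) (nat_lit 0x400600801000300700801002004003f00100a0200600b001c004003)) (.cD (nat_lit 83) (.kS (nat_lit 1) (nat_lit 0x10008020060002004004000002020060080003003) (nat_lit 0x10950b805b) (nat_lit 0x800400200501000800401200902001000803c012019) (nat_lit 0x400400000801002004000400200100100400400001000802006005206c009001004)) (.cD (nat_lit 89) (.kS (nat_lit 1) (nat_lit 0x18008020048002002020060080003002) (nat_lit 0x10950670e4) (nat_lit 0x800400200501000800401200902001000803c012019) (nat_lit 0x1001802005006604c00d00100801002004000400200100101800802004805202604b001003)) (.cD (nat_lit 115) (.cut (nat_lit 0)) (.cD (nat_lit 121) (.kS (nat_lit 1) (nat_lit 0x10008020060002004004000002020060080003003) (nat_lit 0x10950b8031) (nat_lit 0x800400200501000800401200902001000803c012019) (nat_lit 0x400400000801002004000400200100100400400001000802006005206c031001004)) .nil))))))))) (.cD (nat_lit 242) (.kS (nat_lit 1) (nat_lit 0x8004010030002004004000002020060080003003)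 (nat_lit 4277) (nat_lit 0x8004002005) (nat_lit 0x4004000004008010020002001004004000008004010030031001004)) (.cD (nat_lit 248) (.kS (nat_lit 1) (nat_lit 0x8004010030002004004000002020060080003003) (nat_lit 4351) (nat_lit 0x8004002005) (nat_lit 0x400400000400801002000200100400400000800401003003d001004)) .nil))))))))) (.cD (nat_lit 189) (.dfs (nat_lit 5) (nat_lit 0x1006002008012) (nat_lit 0x1006002008010) (nat_lit 0x1010004001) (nat_lit 0x1012004005) (nat_lit 2) (nat_lit 0) (nat_lit 2) (nat_lit 1) (nat_lit 0x2020060080003001) (nat_lit 2) (nat_lit 1) (nat_lit 0) (nat_lit 1) (nat_lit 0) (nat_lit 1) (nat_lit 0x104000001040000010400000104000000000000000000000000000000000000) (.cD (nat_lit 146) (.kS (nat_lit 1) (nat_lit 0xc004010024002002020060080003002) (nat_lit 4309) (nat_lit 0x8004002005) (nat_lit 0x800c01002803700100400801002000200100c004010024021001003)) (.cD (nat_lit 152) (.kS (nat_lit 1) (nat_lit 0x8004010030002004004000002020060080003003) (nat_lit 4255) (nat_lit 0x8004002005)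 (nat_lit 0x400400000400801002000200100400400000800401003002d001004)) (.cD (nat_lit 178) (.kS (nat_lit 1) (nat_lit 0x8004010030002004004000002020060080003003) (nat_lit 4287) (nat_lit 0x8004002005) (nat_lit 0x4004000004008010020002001004004000008004010030035001004)) (.cD (nat_lit 184) (.kS (nat_lit 1) (nat_lit 0x8004010030002004004000002020060080003003) (nat_lit 4341) (nat_lit 0x8004002005) (nat_lit 0x4004000004008010020002001004004000008004010030039001004)) (.cD (nat_lit 210) (.dfs (nat_lit 17) (nat_lit 0x100c004010024) (nat_lit 0x100c004010038) (nat_lit 0x1020008002001) (nat_lit 0x103c00800a019) (nat_lit 28) (nat_lit 0) (nat_lit 2) (nat_lit 1) (nat_lit 0x2020060080003001) (nat_lit 19) (nat_lit 1) (nat_lit 0) (nat_lit 1) (nat_lit 0) (nat_lit 1) (nat_lit 0x2080000020800000208000002080000) (.cD (nat_lit 19) (.cut (nat_lit 0)) (.cD (nat_lit 25) (.kS (nat_lit 1) (nat_lit 0x10008020060002004004000002020060080003003) (nat_lit 0x10df0f2051) (nat_lit 0x800400200501000800401200902001000803c012019)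 (nat_lit 0x400400000801002004000400200100100400400001000802006004a074011001004)) (.cD (nat_lit 51) (.kS (nat_lit 1) (nat_lit 0x10008020060002004004000002020060080003003) (nat_lit 0x10df0f203b) (nat_lit 0x800400200501000800401200902001000803c012019) (nat_lit 0x400400000801002004000400200100100400400001000802006004a074029001004)) (.cD (nat_lit 57) (.kS (nat_lit 1) (nat_lit 0x18008020048002002020060080003002) (nat_lit 0x10df06708e) (nat_lit 0x800400200501000800401200902001000803c012019) (nat_lit 0x1001802005006e04402d00100801002004000400200100101800802004804a026073001003)) (.cD (nat_lit 83) (.kS (nat_lit 1) (nat_lit 0x10008020060002004004000002020060080003003) (nat_lit 0x10df0f205b) (nat_lit 0x800400200501000800401200902001000803c012019) (nat_lit 0x400400000801002004000400200100100400400001000802006004a074009001004)) (.cD (nat_lit 89) (.kS (nat_lit 1) (nat_lit 0xa0200600b0003002020060080003002) (nat_lit 4118) (nat_lit 0x8004002003) (nat_lit 0x400600801000b00700801002004003f00100a0200600b001c004003))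 (.cD (nat_lit 115) (.kS (nat_lit 1) (nat_lit 0x18008020048002002020060080003002) (nat_lit 0x10df067084) (nat_lit 0x800400200501000800401200902001000803c012019) (nat_lit 0x1001802005006e04402500100801002004000400200100101800802004804a02606b001003)) (.cD (nat_lit 121) (.kS (nat_lit 1) (nat_lit 0x10008020060002004004000002020060080003003) (nat_lit 0x10df0f2031) (nat_lit 0x800400200501000800401200902001000803c012019) (nat_lit 0x400400000801002004000400200100100400400001000802006004a074031001004)) .nil))))))))) (.cD (nat_lit 216) (.kS (nat_lit 1) (nat_lit 0x8004010030002004004000002020060080003003) (nat_lit 4245) (nat_lit 0x8004002005) (nat_lit 0x4004000004008010020002001004004000008004010030029001004)) (.cD (nat_lit 242) (.kS (nat_lit 1) (nat_lit 0x8004010030002004004000002020060080003003) (nat_lit 4277) (nat_lit 0x8004002005) (nat_lit 0x4004000004008010020002001004004000008004010030031001004)) (.cD (nat_lit 248) (.kS (nat_lit 1) (nat_lit 0x8004010030002004004000002020060080003003)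 (nat_lit 4351) (nat_lit 0x8004002005) (nat_lit 0x400400000400801002000200100400400000800401003003d001004)) .nil))))))))) .nil))))))
theorem c343 : (chk [(x178, s342)] [] p343).n x178 s343 = true := by decide +kernel
noncomputable def p344 : Pf := (.ext (nat_lit 0) (nat_lit 0) (nat_lit 0x1080020040010002004008) (nat_lit 0x40020010008002004001003001) (nat_lit 0x8010020058) (nat_lit 4097) (nat_lit 4101) (nat_lit 0x4102001002c014006001) (.dfs (nat_lit 1) (nat_lit 0x1008010020058) (nat_lit 0x102c01002006d) (nat_lit 0x1040004002001) (nat_lit 0x1041014006001) (nat_lit 1) (nat_lit 0) (nat_lit 2) (nat_lit 0) (nat_lit 0) (nat_lit 5) (nat_lit 1) (nat_lit 0) (nat_lit 1) (nat_lit 0) (nat_lit 1) (nat_lit 0x20000000200000002000000020) (.cD (nat_lit 5) (.cut (nat_lit 3)) (.cD (nat_lit 37) (.iso x178 s342 (nat_lit 0) (nat_lit 0x1080040020010008024002001) (nat_lit 0x80040020010008024002001) [(nat_lit 0x80040020010008044002001001001), (nat_lit 0x10008004002009003001)] (.cut (nat_lit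 2))) (.cD (nat_lit 69) (.cut (nat_lit 1)) (.cD (nat_lit 101) (.iso x178 s332 (nat_lit 0) (nat_lit 0x1080040020010008024002001) (nat_lit 0x80040020010008024002001) [(nat_lit 0x80040020010008044002001001001), (nat_lit 0x10008004002009003001)] (.cut (nat_lit 0))) .nil))))))
theorem c344 : (chk [(x178, s332), (x178, s333), (x178, s342), (x178, s343)] [g30] p344).n x178 s344 = true := by decide +kernel
noncomputable def p345 : Pf := (.ext (nat_lit 1) (nat_lit 0) (nat_lit 0x1080060040008) (nat_lit 0x14008004002003040030010001001002) (nat_lit 0x200300400a) (nat_lit 4097) (nat_lit 4099) (nat_lit 0x9004002001) (.dfs (nat_lit 1) (nat_lit 0x100200300400a) (nat_lit 0x100200300400b) (nat_lit 0x1008001) (nat_lit 0x1009001) (nat_lit 7) (nat_lit 0) (nat_lit 2) (nat_lit 1) (nat_lit 0) (nat_lit 3) (nat_lit 1) (nat_lit 0) (nat_lit 1) (nat_lit 0) (nat_lit 1) (nat_lit 0) .nil))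
theorem c345 : (chk [] [] p345).n x194 s345 = true := by decide +kernel
noncomputable def p346 : Pf := (.ext (nat_lit 1) (nat_lit 0) (nat_lit 0x1080060040008) (nat_lit 0x14008004002003040030010001001002) (nat_lit 0x200300400a) (nat_lit 4097) (nat_lit 4099) (nat_lit 0x9004002001) (.dfs (nat_lit 1) (nat_lit 0x100200300400a) (nat_lit 0x100200300400b) (nat_lit 0x1008001) (nat_lit 0x1009001) (nat_lit 7) (nat_lit 0) (nat_lit 2) (nat_lit 1) (nat_lit 0) (nat_lit 3) (nat_lit 1) (nat_lit 0) (nat_lit 1) (nat_lit 0) (nat_lit 1) (nat_lit 0) .nil))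
theorem c346 : (chk [] [] p346).n x195 s346 = true := by decide +kernel
noncomputable def p347 : Pf := (.ext (nat_lit 1) (nat_lit 0) (nat_lit 0x1080060040008) (nat_lit 0x14008004002003040030010001001002) (nat_lit 0x200300400a) (nat_lit 4097) (nat_lit 4099) (nat_lit 0x9004002001) (.dfs (nat_lit 1) (nat_lit 0x100200300400a) (nat_lit 0x100200300400b) (nat_lit 0x1008001) (nat_lit 0x1009001) (nat_lit 3) (nat_lit 0) (nat_lit 2) (nat_lit 1) (nat_lit 0) (nat_lit 3) (nat_lit 1) (nat_lit 0) (nat_lit 1) (nat_lit 0) (nat_lit 1) (nat_lit 0) .nil))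
theorem c347 : (chk [] [] p347).n x196 s347 = true := by decide +kernel
noncomputable def p348 : Pf := (.ext (nat_lit 1) (nat_lit 0) (nat_lit 0x1080060040008) (nat_lit 0x14008004002003040030010001001002) (nat_lit 0x200300400a) (nat_lit 4097) (nat_lit 4099) (nat_lit 0x9004002001) (.dfs (nat_lit 1) (nat_lit 0x100200300400a) (nat_lit 0x100200300400b) (nat_lit 0x1008001) (nat_lit 0x1009001) (nat_lit 3) (nat_lit 0) (nat_lit 2) (nat_lit 1) (nat_lit 0) (nat_lit 3) (nat_lit 1) (nat_lit 0) (nat_lit 1) (nat_lit 0) (nat_lit 1) (nat_lit 0) .nil))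
theorem c348 : (chk [] [] p348).n x197 s348 = true := by decide +kernel
noncomputable def p349 : Pf := (.ext (nat_lit 1) (nat_lit 0) (nat_lit 0x1080060040008) (nat_lit 0x14008004002003040030010001001002) (nat_lit 0x200300400a) (nat_lit 0x1002001) (nat_lit 0x1001003) (nat_lit 0xa004002001009004002001) (.dfs (nat_lit 1) (nat_lit 0x100200300400a) (nat_lit 0x100200300400b) (nat_lit 0x1008001) (nat_lit 0x1009001) (nat_lit 5) (nat_lit 0) (nat_lit 2) (nat_lit 1) (nat_lit 0) (nat_lit 3) (nat_lit 1) (nat_lit 0) (nat_lit 4224) (nat_lit 128) (nat_lit 0x100000300000b00002300002b) (nat_lit 0x80800000808) (.cD (nat_lit 3) (.dfs (nat_lit 2) (nat_lit 0x1004006008014) (nat_lit 0x1004006008010) (nat_lit 0x1010002001) (nat_lit 0x1014002005) (nat_lit 0) (nat_lit 0) (nat_lit 2) (nat_lit 1) (nat_lit 0) (nat_lit 1) (nat_lit 1) (nat_lit 0) (nat_lit 1) (nat_lit 0) (nat_lit 1) (nat_lit 0) .nil) (.cD (nat_lit 11) (.dfs (nat_lit 2) (nat_lit 0x1004006008014) (nat_lit 0x1004006008010) (nat_lit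 0x1010002001) (nat_lit 0x1014002005) (nat_lit 0) (nat_lit 0) (nat_lit 2) (nat_lit 1) (nat_lit 0) (nat_lit 1) (nat_lit 1) (nat_lit 0) (nat_lit 1) (nat_lit 0) (nat_lit 1) (nat_lit 0) .nil) (.cD (nat_lit 35) (.dfs (nat_lit 2) (nat_lit 0x1004006008014) (nat_lit 0x1004006008010) (nat_lit 0x1010002001) (nat_lit 0x1014002005) (nat_lit 0) (nat_lit 0) (nat_lit 2) (nat_lit 1) (nat_lit 0) (nat_lit 1) (nat_lit 1) (nat_lit 0) (nat_lit 1) (nat_lit 0) (nat_lit 1) (nat_lit 0) .nil) (.cD (nat_lit 43) (.dfs (nat_lit 2) (nat_lit 0x1004006008014) (nat_lit 0x1004006008010) (nat_lit 0x1010002001) (nat_lit 0x1014002005) (nat_lit 0) (nat_lit 0) (nat_lit 2) (nat_lit 1) (nat_lit 0) (nat_lit 1) (nat_lit 1) (nat_lit 0) (nat_lit 1) (nat_lit 0) (nat_lit 1) (nat_lit 0) .nil) .nil))))))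
theorem c349 : (chk [] [] p349).n x198 s349 = true := by decide +kernel
noncomputable def p350 : Pf := (.ext (nat_lit 1) (nat_lit 0) (nat_lit 0x1080060040008) (nat_lit 0x14008004002003040030010001001002) (nat_lit 0x200300400a) (nat_lit 0x1002001) (nat_lit 0x1001003) (nat_lit 0xa004002001009004002001) (.dfs (nat_lit 1) (nat_lit 0x100200300400a) (nat_lit 0x100200300400b) (nat_lit 0x1008001) (nat_lit 0x1009001) (nat_lit 5) (nat_lit 0) (nat_lit 2) (nat_lit 1) (nat_lit 0) (nat_lit 3) (nat_lit 1) (nat_lit 0) (nat_lit 4224) (nat_lit 128) (nat_lit 0x100000300000b00002300002b) (nat_lit 0x80800000808) (.cD (nat_lit 3) (.dfs (nat_lit 2) (nat_lit 0x1004006008014) (nat_lit 0x1004006008010) (nat_lit 0x1010002001) (nat_lit 0x1014002005) (nat_lit 0) (nat_lit 0) (nat_lit 2) (nat_lit 1) (nat_lit 0) (nat_lit 1) (nat_lit 1) (nat_lit 0) (nat_lit 1) (nat_lit 0) (nat_lit 1) (nat_lit 0) .nil) (.cD (nat_lit 11) (.dfs (nat_lit 2) (nat_lit 0x1004006008014) (nat_lit 0x1004006008010) (nat_lit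 0x1010002001) (nat_lit 0x1014002005) (nat_lit 0) (nat_lit 0) (nat_lit 2) (nat_lit 1) (nat_lit 0) (nat_lit 1) (nat_lit 1) (nat_lit 0) (nat_lit 1) (nat_lit 0) (nat_lit 1) (nat_lit 0) .nil) (.cD (nat_lit 35) (.dfs (nat_lit 2) (nat_lit 0x1004006008014) (nat_lit 0x1004006008010) (nat_lit 0x1010002001) (nat_lit 0x1014002005) (nat_lit 0) (nat_lit 0) (nat_lit 2) (nat_lit 1) (nat_lit 0) (nat_lit 1) (nat_lit 1) (nat_lit 0) (nat_lit 1) (nat_lit 0) (nat_lit 1) (nat_lit 0) .nil) (.cD (nat_lit 43) (.dfs (nat_lit 2) (nat_lit 0x1004006008014) (nat_lit 0x1004006008010) (nat_lit 0x1010002001) (nat_lit 0x1014002005) (nat_lit 0) (nat_lit 0) (nat_lit 2) (nat_lit 1) (nat_lit 0) (nat_lit 1) (nat_lit 1) (nat_lit 0) (nat_lit 1) (nat_lit 0) (nat_lit 1) (nat_lit 0) .nil) .nil))))))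
theorem c350 : (chk [] [] p350).n x199 s350 = true := by decide +kernel
noncomputable def p351 : Pf := (.lft (nat_lit 0x40010020008001004002001001) (nat_lit 4) (nat_lit 0x1070060050040) (nat_lit 0x40020010008004002001) (.extn a14 (nat_lit 0x40020010008004002001) (nat_lit 0x1008020010040) (nat_lit 2) (nat_lit 0) (nat_lit 0) (nat_lit 4) (nat_lit 0x10001000100010) (.cE (nat_lit 4) b30 (nat_lit 0) (.cut (nat_lit 0)) (.cut (nat_lit 1)) (.cE (nat_lit 20) b39 (nat_lit 0) (.cut (nat_lit 2)) (.cut (nat_lit 3)) (.cE (nat_lit 36) b40 (nat_lit 0) (.cut (nat_lit 4)) (.cut (nat_lit 5)) (.cE (nat_lit 52) b41 (nat_lit 0) (.cut (nat_lit 6)) (.cut (nat_lit 7)) .nil))))))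
theorem c351 : (chk [(x177, s322), (x178, s344), (x194, s345), (x195, s346), (x196, s347), (x197, s348), (x198, s349), (x199, s350)] [] p351).n x120 s351 = true := by decide +kernel
noncomputable def p352 : Pf := (.ext (nat_lit 0) (nat_lit 0x4006008010002001) (nat_lit 0x1040010020008002) (nat_lit 0x10008004002001002004004000010008002004001001004004000010008006004005002005) (nat_lit 0x4006008010) (nat_lit 0x1004001) (nat_lit 0x1004001) (nat_lit 0x10008004006005014008004002001) (.dfs (nat_lit 1) (nat_lit 0x1002004008010) (nat_lit 0x1002004008014) (nat_lit 4097) (nat_lit 4097) (nat_lit 0) (nat_lit 0) (nat_lit 2) (nat_lit 0) (nat_lit 0x2004008010001001) (nat_lit 1) (nat_lit 1) (nat_lit 0) (nat_lit 1) (nat_lit 0) (nat_lit 1) (nat_lit 0x102010201020102) (.cD (nat_lit 1) (.dfs (nat_lit 4) (nat_lit 0x1004008010020) (nat_lit 0x100c008010020) (nat_lit 0x1002001) (nat_lit 0x100a001) (nat_lit 0) (nat_lit 0) (nat_lit 2) (nat_lit 0) (nat_lit 0x4008010020001001) (nat_lit 4) (nat_lit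 1) (nat_lit 0) (nat_lit 4105) (nat_lit 9) (nat_lit 0x1000004000014) (nat_lit 0x100010) (.cD (nat_lit 4) (.kS (nat_lit 1) (nat_lit 0x2004008010009001001000001010030040007003) (nat_lit 4107) (nat_lit 0x8004002003) (nat_lit 0x1100103004100e00100200400801400100900100100000200400801000100a004)) (.cD (nat_lit 20) (.kA true (nat_lit 0xc002006010005001010030040001002)) .nil))) (.cD (nat_lit 8) (.kS (nat_lit 0) (nat_lit 0xc008010020001004004000002) (nat_lit 0x1008023) (nat_lit 0x8004002005010008004006001) (nat_lit 0x400400000400801002000100200100400400000c00801002000100a002004)) (.cD (nat_lit 17) (.dfs (nat_lit 4) (nat_lit 0x1004008010020) (nat_lit 0x100c008010020) (nat_lit 0x1002001) (nat_lit 0x100a001) (nat_lit 0) (nat_lit 0) (nat_lit 2) (nat_lit 0) (nat_lit 0x4008010020001001) (nat_lit 4) (nat_lit 1) (nat_lit 0) (nat_lit 4105) (nat_lit 9) (nat_lit 0x1000004000014) (nat_lit 0x100010) (.cD (nat_lit 4) (.kA false (nat_lit 0x2a010020041001008010020040001002)) (.cD (nat_lit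 20) (.kA false (nat_lit 0x2a010020061001008010020060001002002000003)) .nil))) (.cD (nat_lit 24) (.kS (nat_lit 0) (nat_lit 0xc008010020001004004000002) (nat_lit 0x1018023) (nat_lit 0x8004002005010008004006001) (nat_lit 0x400400000400801002000100200100400400000c00801002000100a002004)) (.cD (nat_lit 33) (.dfs (nat_lit 4) (nat_lit 0x1004008010020) (nat_lit 0x100c008010020) (nat_lit 0x1002001) (nat_lit 0x100a001) (nat_lit 0) (nat_lit 0) (nat_lit 2) (nat_lit 0) (nat_lit 0x4008010020001001) (nat_lit 4) (nat_lit 1) (nat_lit 0) (nat_lit 4105) (nat_lit 9) (nat_lit 0x1000004000014) (nat_lit 0x100010) (.cD (nat_lit 4) (.cut (nat_lit 0)) (.cD (nat_lit 20) (.kA true (nat_lit 0xc002006010005001010030040001002)) .nil))) (.cD (nat_lit 40) (.kS (nat_lit 0) (nat_lit 0xc008010020001004004000002) (nat_lit 0x1028023) (nat_lit 0x8004002005010008004006001) (nat_lit 0x400400000400801002000100200100400400000c00801002000100a002004)) (.cD (nat_lit 49) (.dfs (nat_lit 4) (nat_lit 0x1004008010020)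 (nat_lit 0x100c008010020) (nat_lit 0x1002001) (nat_lit 0x100a001) (nat_lit 0) (nat_lit 0) (nat_lit 2) (nat_lit 0) (nat_lit 0x4008010020001001) (nat_lit 4) (nat_lit 1) (nat_lit 0) (nat_lit 4105) (nat_lit 9) (nat_lit 0x1000004000014) (nat_lit 0x100010) (.cD (nat_lit 4) (.kA false (nat_lit 0x2a010020041001008010020040001002)) (.cD (nat_lit 20) (.kA false (nat_lit 0x2a010020061001008010020060001002002000003)) .nil))) (.cD (nat_lit 56) (.kS (nat_lit 0) (nat_lit 0xc008010020001004004000002) (nat_lit 0x1038023) (nat_lit 0x8004002005010008004006001) (nat_lit 0x400400000400801002000100200100400400000c00801002000100a002004)) .nil))))))))))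
theorem c352 : (chk [(x120, s351)] [] p352).n x120 s352 = true := by decide +kernel
noncomputable def p353 : Pf := (.ext (nat_lit 0) (nat_lit 0x4006008010002001) (nat_lit 0x1040010020008002) (nat_lit 0x10008004002005002004004000010008002004005001004004000010008006004001002005) (nat_lit 0x4006008010) (nat_lit 0x1004001) (nat_lit 0x1004001) (nat_lit 0x10008004006005014008004002001) (.dfs (nat_lit 1) (nat_lit 0x1002004008010) (nat_lit 0x1002004008014) (nat_lit 4097) (nat_lit 4097) (nat_lit 0) (nat_lit 0) (nat_lit 2) (nat_lit 0) (nat_lit 0x2004008010001001) (nat_lit 1) (nat_lit 1) (nat_lit 0) (nat_lit 1) (nat_lit 0) (nat_lit 1) (nat_lit 0x102010201020102) (.cD (nat_lit 1) (.dfs (nat_lit 4) (nat_lit 0x1004008010020) (nat_lit 0x100c008010020) (nat_lit 0x1002001) (nat_lit 0x100a001) (nat_lit 0) (nat_lit 0) (nat_lit 2) (nat_lit 0) (nat_lit 0x4008010020001001) (nat_lit 4) (nat_lit 1) (nat_lit 0) (nat_lit 4105) (nat_lit 9) (nat_lit 0x1000004000014) (nat_lit 0x100010) (.cD (nat_lit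 4) (.kS (nat_lit 1) (nat_lit 0x600400801e00c001) (nat_lit 4106) (nat_lit 0x8004002007) (nat_lit 0x1101003006000c00100200200000600400801e00100b003)) (.cD (nat_lit 20) (.kA true (nat_lit 0xc002006010005001010030040001002)) .nil))) (.cD (nat_lit 8) (.kS (nat_lit 0) (nat_lit 0xc008010020001004004000002) (nat_lit 0x1008003) (nat_lit 0x8004002005010008004006001) (nat_lit 0x400400000400801002000100200100400400000c00801002000100a002004)) (.cD (nat_lit 17) (.dfs (nat_lit 4) (nat_lit 0x1004008010020) (nat_lit 0x100c008010020) (nat_lit 0x1002001) (nat_lit 0x100a001) (nat_lit 0) (nat_lit 0) (nat_lit 2) (nat_lit 0) (nat_lit 0x4008010020001001) (nat_lit 4) (nat_lit 1) (nat_lit 0) (nat_lit 4105) (nat_lit 9) (nat_lit 0x1000004000014) (nat_lit 0x100010) (.cD (nat_lit 4) (.kA false (nat_lit 0x2a010020041001008010020040001002)) (.cD (nat_lit 20) (.kA false (nat_lit 0x2a010020061001008010020060001002002000003)) .nil))) (.cD (nat_lit 24) (.kS (nat_lit 0) (nat_lit 0xc008010020001004004000002)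 (nat_lit 0x1018003) (nat_lit 0x8004002005010008004006001) (nat_lit 0x400400000400801002000100200100400400000c00801002000100a002004)) (.cD (nat_lit 33) (.dfs (nat_lit 4) (nat_lit 0x1004008010020) (nat_lit 0x100c008010020) (nat_lit 0x1002001) (nat_lit 0x100a001) (nat_lit 0) (nat_lit 0) (nat_lit 2) (nat_lit 0) (nat_lit 0x4008010020001001) (nat_lit 4) (nat_lit 1) (nat_lit 0) (nat_lit 4105) (nat_lit 9) (nat_lit 0x1000004000014) (nat_lit 0x100010) (.cD (nat_lit 4) (.kS (nat_lit 1) (nat_lit 0x2004008010009001001000001010030040007003) (nat_lit 4107) (nat_lit 0x8004002003) (nat_lit 0x1100103004100e00100200400801400100900100100000200400801000100a004)) (.cD (nat_lit 20) (.kA true (nat_lit 0xc002006010005001010030040001002)) .nil))) (.cD (nat_lit 40) (.kS (nat_lit 0) (nat_lit 0xc008010020001004004000002) (nat_lit 0x1028003) (nat_lit 0x8004002005010008004006001) (nat_lit 0x400400000400801002000100200100400400000c00801002000100a002004)) (.cD (nat_lit 49) (.dfs (nat_lit 4) (nat_lit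 0x1004008010020) (nat_lit 0x100c008010020) (nat_lit 0x1002001) (nat_lit 0x100a001) (nat_lit 0) (nat_lit 0) (nat_lit 2) (nat_lit 0) (nat_lit 0x4008010020001001) (nat_lit 4) (nat_lit 1) (nat_lit 0) (nat_lit 4105) (nat_lit 9) (nat_lit 0x1000004000014) (nat_lit 0x100010) (.cD (nat_lit 4) (.kA false (nat_lit 0x2a010020041001008010020040001002)) (.cD (nat_lit 20) (.kA false (nat_lit 0x2a010020061001008010020060001002002000003)) .nil))) (.cD (nat_lit 56) (.kS (nat_lit 0) (nat_lit 0xc008010020001004004000002) (nat_lit 0x1038003) (nat_lit 0x8004002005010008004006001) (nat_lit 0x400400000400801002000100200100400400000c00801002000100a002004)) .nil))))))))))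
theorem c353 : (chk [] [] p353).n x120 s353 = true := by decide +kernel
noncomputable def p354 : Pf := (.ext (nat_lit 0) (nat_lit 0) (nat_lit 0x1044010020019) (nat_lit 0x10008004002009010004002005001002) (nat_lit 0x2003004008) (nat_lit 4099) (nat_lit 4098) (nat_lit 0xc004002001) (.dfs (nat_lit 3) (nat_lit 0x1002003004008) (nat_lit 0x100200300400c) (nat_lit 4097) (nat_lit 4097) (nat_lit 0) (nat_lit 0) (nat_lit 2) (nat_lit 0) (nat_lit 0) (nat_lit 2) (nat_lit 1) (nat_lit 0) (nat_lit 4160) (nat_lit 64) (nat_lit 0x100000200000a00002200002a) (nat_lit 0x40400000404) (.cD (nat_lit 2) (.cut (nat_lit 1)) (.cD (nat_lit 10) (.cut (nat_lit 0)) (.cD (nat_lit 34) (.kS (nat_lit 0) (nat_lit 0x200400801000b001) (nat_lit 4098) (nat_lit 0x8004002003) (nat_lit 0x400400000400200801000500100400400000400600801000100200200400801000500c005)) (.cD (nat_lit 42) (.kS (nat_lit 0) (nat_lit 0x200400801000b001) (nat_lit 4138) (nat_lit 0x8004002003) (nat_lit 0x400400000400200801000500100400400000400600801000100200200400801000700c005))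 .nil))))))
theorem c354 : (chk [(x120, s352), (x120, s353)] [] p354).n x120 s354 = true := by decide +kernel
noncomputable def p355 : Pf := (.anc (nat_lit 68) (nat_lit 0x10006002002000002) (nat_lit 0x1009020010004) (.dfs (nat_lit 4) (nat_lit 4097) (nat_lit 4097) (nat_lit 1) (nat_lit 1) (nat_lit 0) (nat_lit 0) (nat_lit 3) (nat_lit 0) (nat_lit 0) (nat_lit 0) (nat_lit 1) (nat_lit 0) (nat_lit 0x1008004) (nat_lit 32772) (nat_lit 0x1001004000008001014000018) (nat_lit 0x1000101110110) (.cD (nat_lit 4) (.dfs (nat_lit 16) (nat_lit 4098) (nat_lit 4098) (nat_lit 4097) (nat_lit 4097) (nat_lit 0) (nat_lit 0) (nat_lit 3) (nat_lit 0) (nat_lit 0) (nat_lit 0) (nat_lit 1) (nat_lit 0) (nat_lit 1) (nat_lit 0) (nat_lit 1) (nat_lit 0x11001100110010) (.cD (nat_lit 4) (.kc (nat_lit 20) (nat_lit 0x3001001)) (.cD (nat_lit 16) (.dfs (nat_lit 32) (nat_lit 4100) (nat_lit 4100) (nat_lit 0x1002001) (nat_lit 0x1002001) (nat_lit 0) (nat_lit 0) (nat_lit 3) (nat_lit 0) (nat_lit 0) (nat_lit 0) (nat_lit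 1) (nat_lit 0) (nat_lit 1) (nat_lit 0) (nat_lit 1) (nat_lit 0x11001100110010) (.cD (nat_lit 4) (.kc (nat_lit 36) (nat_lit 0x5001001)) (.cD (nat_lit 16) (.kc (nat_lit 48) (nat_lit 0x3001001)) (.cD (nat_lit 20) (.kc (nat_lit 52) (nat_lit 0x7001001)) (.cD (nat_lit 32) (.dfs (nat_lit 9) (nat_lit 0x1004001003008) (nat_lit 0x1005001003008) (nat_lit 4098) (nat_lit 4098) (nat_lit 0) (nat_lit 0) (nat_lit 2) (nat_lit 1) (nat_lit 0) (nat_lit 8) (nat_lit 1) (nat_lit 0) (nat_lit 4100) (nat_lit 4) (nat_lit 0x1000008000018) (nat_lit 0x1000100) (.cD (nat_lit 8) (.iso x120 s354 (nat_lit 0) (nat_lit 0x1040020010008004012011) (nat_lit 0x40020010008004012011) [(nat_lit 0x10008004002005001001), (nat_lit 0x40020010008024022001003001), (nat_lit 0x10008004002001005001), (nat_lit 0x1000800400200d007001), (nat_lit 0x10008004002009009001)] (.cut (nat_lit 1))) (.cD (nat_lit 24) (.iso x120 s321 (nat_lit 0) (nat_lit 0x1040020010008004012011) (nat_lit 0x40020010008004012011) [(nat_lit 0x10008004002005001001),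 (nat_lit 0x40020010008024022001003001), (nat_lit 0x10008004002001005001), (nat_lit 0x1000800400200d007001), (nat_lit 0x10008004002009009001)] (.cut (nat_lit 0))) .nil))) (.cD (nat_lit 36) (.kA true (nat_lit 0x100100000400100300d001001001000003)) (.cD (nat_lit 48) (.kA true (nat_lit 0x600800401000800400100300d001001001000003)) (.cD (nat_lit 52) (.kA true (nat_lit 0x800a00601e00700500100300e001002002000003)) .nil)))))))) (.cD (nat_lit 20) (.dfs (nat_lit 32) (nat_lit 4100) (nat_lit 4100) (nat_lit 0x1002001) (nat_lit 0x1002001) (nat_lit 0) (nat_lit 0) (nat_lit 3) (nat_lit 0) (nat_lit 0) (nat_lit 0) (nat_lit 1) (nat_lit 0) (nat_lit 1) (nat_lit 0) (nat_lit 1) (nat_lit 0x11001100110010) (.cD (nat_lit 4) (.kc (nat_lit 36) (nat_lit 0x5001001)) (.cD (nat_lit 16) (.kc (nat_lit 52) (nat_lit 0x7001001)) (.cD (nat_lit 20) (.kc (nat_lit 48) (nat_lit 0x3001001)) (.cD (nat_lit 32) (.kA true (nat_lit 0x200200000500100300e001002002000003)) (.cD (nat_lit 36) (.dfs (nat_lit 9) (nat_lit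 4102) (nat_lit 4103) (nat_lit 1) (nat_lit 1) (nat_lit 0) (nat_lit 0) (nat_lit 1) (nat_lit 4112) (nat_lit 0x40020010008004002001) (nat_lit 0) (nat_lit 1) (nat_lit 0) (nat_lit 1) (nat_lit 0) (nat_lit 1) (nat_lit 0) .nil) (.cD (nat_lit 48) (.kA true (nat_lit 0x400300500800100400100300c001002)) (.cD (nat_lit 52) (.kA true (nat_lit 0x400700100800100400100300c001002)) .nil)))))))) (.cD (nat_lit 32) (.kF (nat_lit 16) (nat_lit 0x100400100c012008002002000003)) (.cD (nat_lit 36) (.kF (nat_lit 16) (nat_lit 0x100400100c012008002002000003)) (.cD (nat_lit 48) (.dfs (nat_lit 32) (nat_lit 4100) (nat_lit 4100) (nat_lit 0x1002001) (nat_lit 0x1002001) (nat_lit 0) (nat_lit 0) (nat_lit 3) (nat_lit 0) (nat_lit 0) (nat_lit 0) (nat_lit 1) (nat_lit 0) (nat_lit 1) (nat_lit 0) (nat_lit 1) (nat_lit 0x11001100110010) (.cD (nat_lit 4) (.kc (nat_lit 36) (nat_lit 0x5001001)) (.cD (nat_lit 16) (.kA true (nat_lit 0x400200100800100400100300c001002)) (.cD (nat_lit 20) (.kA true (nat_lit 0x400600500800100400100300c001002))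 (.cD (nat_lit 32) (.kA true (nat_lit 0x200400c01000800500100300e001002002000003)) (.cD (nat_lit 36) (.kA true (nat_lit 0x400500600800100400100300c001002)) (.cD (nat_lit 48) (.kc (nat_lit 48) (nat_lit 0x3001001)) (.cD (nat_lit 52) (.kc (nat_lit 52) (nat_lit 0x7001001)) .nil)))))))) (.cD (nat_lit 52) (.dfs (nat_lit 32) (nat_lit 4100) (nat_lit 4100) (nat_lit 0x1002001) (nat_lit 0x1002001) (nat_lit 0) (nat_lit 0) (nat_lit 3) (nat_lit 0) (nat_lit 0) (nat_lit 0) (nat_lit 1) (nat_lit 0) (nat_lit 1) (nat_lit 0) (nat_lit 1) (nat_lit 0x11001100110010) (.cD (nat_lit 4) (.kc (nat_lit 36) (nat_lit 0x5001001)) (.cD (nat_lit 16) (.kA true (nat_lit 0x400200500800100400100300c001002)) (.cD (nat_lit 20) (.kA true (nat_lit 0x400600100800100400100300c001002)) (.cD (nat_lit 32) (.kA true (nat_lit 0x4001003008001002004008012008002002000003)) (.cD (nat_lit 36) (.kA true (nat_lit 0x400500200800100400100300c001002)) (.cD (nat_lit 48) (.kc (nat_lit 52) (nat_lit 0x7001001)) (.cD (nat_lit 52)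 (.kc (nat_lit 48) (nat_lit 0x3001001)) .nil)))))))) .nil)))))))) (.cD (nat_lit 8) (.dfs (nat_lit 16) (nat_lit 4098) (nat_lit 4098) (nat_lit 4097) (nat_lit 4097) (nat_lit 0) (nat_lit 0) (nat_lit 3) (nat_lit 0) (nat_lit 0) (nat_lit 0) (nat_lit 1) (nat_lit 0) (nat_lit 1) (nat_lit 0) (nat_lit 1) (nat_lit 0x101010101010100) (.cD (nat_lit 8) (.kc (nat_lit 20) (nat_lit 0x3001001)) (.cD (nat_lit 16) (.dfs (nat_lit 32) (nat_lit 4100) (nat_lit 4100) (nat_lit 0x1002001) (nat_lit 0x1002001) (nat_lit 0) (nat_lit 0) (nat_lit 3) (nat_lit 0) (nat_lit 0) (nat_lit 0) (nat_lit 1) (nat_lit 0) (nat_lit 1) (nat_lit 0) (nat_lit 1) (nat_lit 0x101010101010100) (.cD (nat_lit 8) (.kc (nat_lit 36) (nat_lit 0x5001001)) (.cD (nat_lit 16) (.kc (nat_lit 48) (nat_lit 0x3001001)) (.cD (nat_lit 24) (.kc (nat_lit 52) (nat_lit 0x7001001)) (.cD (nat_lit 32) (.kA false (nat_lit 0x400100200c002008010020050003001001000003)) (.cD (nat_lit 40) (.kA false (nat_lit 0x100100000400500200d002001001000003)) (.cD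 (nat_lit 48) (.kA false (nat_lit 0x600800c01000800400300200b002001001000003)) (.cD (nat_lit 56) (.kA false (nat_lit 0x400700200c002008010020050003001001000003)) .nil)))))))) (.cD (nat_lit 24) (.dfs (nat_lit 32) (nat_lit 4100) (nat_lit 4100) (nat_lit 0x1002001) (nat_lit 0x1002001) (nat_lit 0) (nat_lit 0) (nat_lit 3) (nat_lit 0) (nat_lit 0) (nat_lit 0) (nat_lit 1) (nat_lit 0) (nat_lit 1) (nat_lit 0) (nat_lit 1) (nat_lit 0x101010101010100) (.cD (nat_lit 8) (.kc (nat_lit 36) (nat_lit 0x5001001)) (.cD (nat_lit 16) (.kc (nat_lit 52) (nat_lit 0x7001001)) (.cD (nat_lit 24) (.kc (nat_lit 48) (nat_lit 0x3001001)) (.cD (nat_lit 32) (.kA false (nat_lit 0x400100600c002008010020050003001001000003)) (.cD (nat_lit 40) (.kA false (nat_lit 0x100100000400500600d002001001000003)) (.cD (nat_lit 48) (.kA false (nat_lit 0x400700600c002008010020050003001001000003)) (.cD (nat_lit 56) (.kA false (nat_lit 0x600800a01000800400300600b002001001000003)) .nil)))))))) (.cD (nat_lit 32) (.kF (nat_lit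 16) (nat_lit 0x100400100c012008002002000003)) (.cD (nat_lit 40) (.kF (nat_lit 16) (nat_lit 0x100400100c012008002002000003)) (.cD (nat_lit 48) (.dfs (nat_lit 32) (nat_lit 4100) (nat_lit 4100) (nat_lit 0x1002001) (nat_lit 0x1002001) (nat_lit 0) (nat_lit 0) (nat_lit 3) (nat_lit 0) (nat_lit 0) (nat_lit 0) (nat_lit 1) (nat_lit 0) (nat_lit 1) (nat_lit 0) (nat_lit 1) (nat_lit 0x101010101010100) (.cD (nat_lit 8) (.kc (nat_lit 36) (nat_lit 0x5001001)) (.cD (nat_lit 16) (.kA false (nat_lit 0x600800401000800400300100b002001001000003)) (.cD (nat_lit 24) (.kA false (nat_lit 0x400700500c002008010020050003001001000003)) (.cD (nat_lit 32) (.kA false (nat_lit 0x400100300c002008010020050003001001000003)) (.cD (nat_lit 40) (.kA false (nat_lit 0x100100000400500700d002001001000003)) (.cD (nat_lit 48) (.kc (nat_lit 48) (nat_lit 0x3001001)) (.cD (nat_lit 56) (.kc (nat_lit 52) (nat_lit 0x7001001)) .nil)))))))) (.cD (nat_lit 56) (.dfs (nat_lit 32) (nat_lit 4100) (nat_lit 4100) (nat_lit 0x1002001)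 (nat_lit 0x1002001) (nat_lit 0) (nat_lit 0) (nat_lit 3) (nat_lit 0) (nat_lit 0) (nat_lit 0) (nat_lit 1) (nat_lit 0) (nat_lit 1) (nat_lit 0) (nat_lit 1) (nat_lit 0x101010101010100) (.cD (nat_lit 8) (.kc (nat_lit 36) (nat_lit 0x5001001)) (.cD (nat_lit 16) (.kA false (nat_lit 0x400700100c002008010020050003001001000003)) (.cD (nat_lit 24) (.kA false (nat_lit 0x600800201000800400300500b002001001000003)) (.cD (nat_lit 32) (.kA false (nat_lit 0x400100700c002008010020050003001001000003)) (.cD (nat_lit 40) (.kA false (nat_lit 0x100100000400500300d002001001000003)) (.cD (nat_lit 48) (.kc (nat_lit 52) (nat_lit 0x7001001)) (.cD (nat_lit 56) (.kc (nat_lit 48) (nat_lit 0x3001001)) .nil)))))))) .nil)))))))) (.cD (nat_lit 16) (.kF (nat_lit 4) (nat_lit 0x2002000001003001002)) (.cD (nat_lit 20) (.kF (nat_lit 4) (nat_lit 0xe01e007001003001002)) (.cD (nat_lit 24) (.kF (nat_lit 4) (nat_lit 0x1002001002012008002002000003)) (.cD (nat_lit 32) (.dfs (nat_lit 16) (nat_lit 4098) (nat_lit 4098)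 (nat_lit 4097) (nat_lit 4097) (nat_lit 0) (nat_lit 0) (nat_lit 3) (nat_lit 0) (nat_lit 0) (nat_lit 0) (nat_lit 1) (nat_lit 0) (nat_lit 0x1008004) (nat_lit 32772) (nat_lit 0x1001004000008001014000018) (nat_lit 0x1000101110110) (.cD (nat_lit 4) (.kF (nat_lit 16) (nat_lit 0x1001000001006001002)) (.cD (nat_lit 8) (.kF (nat_lit 16) (nat_lit 0x1001000001006001002)) (.cD (nat_lit 16) (.dfs (nat_lit 32) (nat_lit 4100) (nat_lit 4100) (nat_lit 0x1002001) (nat_lit 0x1002001) (nat_lit 0) (nat_lit 0) (nat_lit 3) (nat_lit 0) (nat_lit 0) (nat_lit 0) (nat_lit 1) (nat_lit 0) (nat_lit 0x1008004) (nat_lit 32772) (nat_lit 0x1001004000008001014000018) (nat_lit 0x1000101110110) (.cD (nat_lit 4) (.kA true (nat_lit 0x100400600c002001001000002)) (.cD (nat_lit 8) (.kA false (nat_lit 0x100400200c002001001000002)) (.cD (nat_lit 16) (.kc (nat_lit 48) (nat_lit 0x3001001)) (.cD (nat_lit 20) (.kA true (nat_lit 0x300400600c002001001000002)) (.cD (nat_lit 24) (.kA false (nat_lit 0x300400200c002001001000002))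 (.cD (nat_lit 32) (.kc (nat_lit 36) (nat_lit 0x5001001)) (.cD (nat_lit 48) (.kc (nat_lit 52) (nat_lit 0x7001001)) .nil)))))))) (.cD (nat_lit 20) (.dfs (nat_lit 32) (nat_lit 4100) (nat_lit 4100) (nat_lit 0x1002001) (nat_lit 0x1002001) (nat_lit 0) (nat_lit 0) (nat_lit 3) (nat_lit 0) (nat_lit 0) (nat_lit 0) (nat_lit 1) (nat_lit 0) (nat_lit 1) (nat_lit 0) (nat_lit 1) (nat_lit 0x11001100110010) (.cD (nat_lit 4) (.kA true (nat_lit 0x100400700c002001001000002)) (.cD (nat_lit 16) (.kA true (nat_lit 0x300400500c002001001000002)) (.cD (nat_lit 20) (.kc (nat_lit 48) (nat_lit 0x3001001)) (.cD (nat_lit 32) (.kc (nat_lit 36) (nat_lit 0x5001001)) (.cD (nat_lit 36) (.dfs (nat_lit 9) (nat_lit 4100) (nat_lit 4101) (nat_lit 1) (nat_lit 1) (nat_lit 0) (nat_lit 0) (nat_lit 1) (nat_lit 4128) (nat_lit 0x40020010008004002001) (nat_lit 0) (nat_lit 1) (nat_lit 0) (nat_lit 1) (nat_lit 0) (nat_lit 1) (nat_lit 0) .nil) (.cD (nat_lit 48) (.kA true (nat_lit 0x700400100c002001001000002)) (.cD (nat_lit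 52) (.kc (nat_lit 52) (nat_lit 0x7001001)) .nil)))))))) (.cD (nat_lit 24) (.dfs (nat_lit 32) (nat_lit 4100) (nat_lit 4100) (nat_lit 0x1002001) (nat_lit 0x1002001) (nat_lit 0) (nat_lit 0) (nat_lit 3) (nat_lit 0) (nat_lit 0) (nat_lit 0) (nat_lit 1) (nat_lit 0) (nat_lit 1) (nat_lit 0) (nat_lit 1) (nat_lit 0x101010101010100) (.cD (nat_lit 8) (.kA false (nat_lit 0x100400300c002001001000002)) (.cD (nat_lit 16) (.kA false (nat_lit 0x300400100c002001001000002)) (.cD (nat_lit 24) (.kc (nat_lit 48) (nat_lit 0x3001001)) (.cD (nat_lit 32) (.kc (nat_lit 36) (nat_lit 0x5001001)) (.cD (nat_lit 40) (.kA false (nat_lit 0x500400700c002001001000002)) (.cD (nat_lit 48) (.kA false (nat_lit 0x700400500c002001001000002)) (.cD (nat_lit 56) (.kc (nat_lit 52) (nat_lit 0x7001001)) .nil)))))))) (.cD (nat_lit 32) (.kc (nat_lit 20) (nat_lit 0x3001001)) (.cD (nat_lit 48) (.dfs (nat_lit 32) (nat_lit 4100) (nat_lit 4100) (nat_lit 0x1002001) (nat_lit 0x1002001) (nat_lit 0) (nat_lit 0) (nat_lit 3)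 (nat_lit 0) (nat_lit 0) (nat_lit 0) (nat_lit 1) (nat_lit 0) (nat_lit 0x1008004) (nat_lit 32772) (nat_lit 0x1001004000008001014000018) (nat_lit 0x1000101110110) (.cD (nat_lit 4) (.kA true (nat_lit 0x100400200c002001001000002)) (.cD (nat_lit 8) (.kA false (nat_lit 0x100400600c002001001000002)) (.cD (nat_lit 16) (.kc (nat_lit 52) (nat_lit 0x7001001)) (.cD (nat_lit 20) (.kA true (nat_lit 0x700400200c002001001000002)) (.cD (nat_lit 24) (.kA false (nat_lit 0x700400600c002001001000002)) (.cD (nat_lit 32) (.kc (nat_lit 36) (nat_lit 0x5001001)) (.cD (nat_lit 48) (.kc (nat_lit 48) (nat_lit 0x3001001)) .nil)))))))) .nil)))))))) (.cD (nat_lit 48) (.kF (nat_lit 4) (nat_lit 0x1002001002012008002002000003)) .nil)))))))))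
theorem c355 : (chk [(x120, s321), (x120, s354)] [g7] p355).n x120 s355 = true := by decide +kernel
noncomputable def p356 : Pf := (.ext (nat_lit 0) (nat_lit 0) (nat_lit 0x1040010020008002) (nat_lit 0x16008004002001006001001000010008004002001005003) (nat_lit 0x2004008016) (nat_lit 0x1004001) (nat_lit 0x1005001) (nat_lit 0x10008004006005014008004002001) (.dfs (nat_lit 1) (nat_lit 0x1002004008016) (nat_lit 0x1002004008012) (nat_lit 0x1010001) (nat_lit 0x1014001) (nat_lit 0) (nat_lit 0) (nat_lit 2) (nat_lit 0) (nat_lit 0) (nat_lit 1) (nat_lit 1) (nat_lit 0) (nat_lit 1) (nat_lit 0) (nat_lit 1) (nat_lit 0x202020202020202) (.cD (nat_lit 1) (.dfs (nat_lit 4) (nat_lit 0x100400801002c) (nat_lit 0x100c008010024) (nat_lit 0x1020002001) (nat_lit 0x102000a001) (nat_lit 0) (nat_lit 0) (nat_lit 2) (nat_lit 0) (nat_lit 0) (nat_lit 5) (nat_lit 1) (nat_lit 0) (nat_lit 4104) (nat_lit 8) (nat_lit 0x1000005000015) (nat_lit 0x200020) (.cD (nat_lit 5) (.kA true (nat_lit 0xe004008010003001010030050001001001000003))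 (.cD (nat_lit 21) (.cut (nat_lit 0)) .nil))) (.cD (nat_lit 9) (.kS (nat_lit 0) (nat_lit 0x4004000004008010020001002) (nat_lit 0x1029022) (nat_lit 0x8004002005010008004006001) (nat_lit 0xc00801002800100a001005005000004008010020001002002004004000004)) (.cD (nat_lit 17) (.dfs (nat_lit 4) (nat_lit 0x100400801002c) (nat_lit 0x100c008010024) (nat_lit 0x1020002001) (nat_lit 0x102000a001) (nat_lit 0) (nat_lit 0) (nat_lit 2) (nat_lit 0) (nat_lit 0) (nat_lit 5) (nat_lit 1) (nat_lit 0) (nat_lit 4104) (nat_lit 8) (nat_lit 0x1000005000015) (nat_lit 0x200020) (.cD (nat_lit 5) (.kA true (nat_lit 0x3010030058001001010030040001002)) (.cD (nat_lit 21) (.kA true (nat_lit 0x23010030058001001010030040001002)) .nil))) (.cD (nat_lit 25) (.kS (nat_lit 0) (nat_lit 0x4004000004008010020001002) (nat_lit 0x1039022) (nat_lit 0x8004002005010008004006001) (nat_lit 0xc00801002800100a001005005000004008010020001002002004004000004)) (.cD (nat_lit 33) (.dfs (nat_lit 4) (nat_lit 0x100400801002c) (nat_lit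 0x100c008010024) (nat_lit 0x1020002001) (nat_lit 0x102000a001) (nat_lit 0) (nat_lit 0) (nat_lit 2) (nat_lit 0) (nat_lit 0) (nat_lit 5) (nat_lit 1) (nat_lit 0) (nat_lit 4104) (nat_lit 8) (nat_lit 0x1000005000015) (nat_lit 0x200020) (.cD (nat_lit 5) (.kA true (nat_lit 0xe004008010003001010030050001001001000003)) (.cD (nat_lit 21) (.kS (nat_lit 1) (nat_lit 0x23033030058002002004008010003001001000001010030040001004) (nat_lit 4139) (nat_lit 0x8004002003) (nat_lit 0x100100000200600801000700402301003005800e00100100100000200400801000100402303303005801e001006)) .nil))) (.cD (nat_lit 41) (.kS (nat_lit 0) (nat_lit 0x4004000004008010020001002) (nat_lit 0x1009022) (nat_lit 0x8004002005010008004006001) (nat_lit 0xc00801002800100a001005005000004008010020001002002004004000004)) (.cD (nat_lit 49) (.dfs (nat_lit 4) (nat_lit 0x100400801002c) (nat_lit 0x100c008010024) (nat_lit 0x1020002001) (nat_lit 0x102000a001) (nat_lit 0) (nat_lit 0) (nat_lit 2) (nat_lit 0) (nat_lit 0) (nat_lit 5)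 (nat_lit 1) (nat_lit 0) (nat_lit 4104) (nat_lit 8) (nat_lit 0x1000005000015) (nat_lit 0x200020) (.cD (nat_lit 5) (.kA true (nat_lit 0x3010030058001001010030040001002)) (.cD (nat_lit 21) (.kA true (nat_lit 0x23010030058001001010030040001002)) .nil))) (.cD (nat_lit 57) (.kS (nat_lit 0) (nat_lit 0x4004000004008010020001002) (nat_lit 0x1019022) (nat_lit 0x8004002005010008004006001) (nat_lit 0xc00801002800100a001005005000004008010020001002002004004000004)) .nil))))))))))
theorem c356 : (chk [(x120, s355)] [] p356).n x120 s356 = true := by decide +kernel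
noncomputable def p357 : Pf := (.ext (nat_lit 1) (nat_lit 0) (nat_lit 0x1048030020015) (nat_lit 0x10008004002003010006002005001002) (nat_lit 0x2003004008) (nat_lit 4107) (nat_lit 4107) (nat_lit 0xc004002001) (.dfs (nat_lit 11) (nat_lit 0x1002003004008) (nat_lit 0x100200300400c) (nat_lit 4097) (nat_lit 4097) (nat_lit 0) (nat_lit 0) (nat_lit 2) (nat_lit 1) (nat_lit 0) (nat_lit 11) (nat_lit 1) (nat_lit 0) (nat_lit 4160) (nat_lit 64) (nat_lit 0x100000b00000f00001b00001f) (nat_lit 0x88008800) (.cD (nat_lit 11) (.cut (nat_lit 1)) (.cD (nat_lit 15) (.kS (nat_lit 1) (nat_lit 0x2004008010005001) (nat_lit 4139) (nat_lit 0x8004002003) (nat_lit 0x8008000004002008010001001008008000004006008010001002002004008010007006005)) (.cD (nat_lit 27) (.kS (nat_lit 1) (nat_lit 0x2004008010005001) (nat_lit 4127) (nat_lit 0x8004002003) (nat_lit 0x800800000400200801000100100800800000400600801000100200200400801000d006005)) (.cD (nat_lit 31) (.cut (nat_lit 0)) .nil))))))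
theorem c357 : (chk [(x120, s267), (x120, s356)] [] p357).n x120 s357 = true := by decide +kernel
noncomputable def p358 : Pf := (.anc (nat_lit 68) (nat_lit 0x10006002002000002) (nat_lit 0x1009020010004) (.dfs (nat_lit 4) (nat_lit 4097) (nat_lit 4097) (nat_lit 1) (nat_lit 1) (nat_lit 0) (nat_lit 0) (nat_lit 3) (nat_lit 0) (nat_lit 0) (nat_lit 0) (nat_lit 1) (nat_lit 0) (nat_lit 0x1008004) (nat_lit 32772) (nat_lit 0x1001004000008001014000018) (nat_lit 0x1000101110110) (.cD (nat_lit 4) (.dfs (nat_lit 16) (nat_lit 4098) (nat_lit 4098) (nat_lit 4097) (nat_lit 4097) (nat_lit 0) (nat_lit 0) (nat_lit 3) (nat_lit 0) (nat_lit 0) (nat_lit 0) (nat_lit 1) (nat_lit 0) (nat_lit 1) (nat_lit 0) (nat_lit 1) (nat_lit 0x11001100110010) (.cD (nat_lit 4) (.kc (nat_lit 20) (nat_lit 0x3001001)) (.cD (nat_lit 16) (.dfs (nat_lit 32) (nat_lit 4100) (nat_lit 4100) (nat_lit 0x1002001) (nat_lit 0x1002001) (nat_lit 0) (nat_lit 0) (nat_lit 3) (nat_lit 0) (nat_lit 0) (nat_lit 0) (nat_lit 1) (nat_lit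 0) (nat_lit 1) (nat_lit 0) (nat_lit 1) (nat_lit 0x11001100110010) (.cD (nat_lit 4) (.kc (nat_lit 36) (nat_lit 0x5001001)) (.cD (nat_lit 16) (.kc (nat_lit 48) (nat_lit 0x3001001)) (.cD (nat_lit 20) (.kc (nat_lit 52) (nat_lit 0x7001001)) (.cD (nat_lit 32) (.dfs (nat_lit 9) (nat_lit 0x1004001003008) (nat_lit 0x1005001003008) (nat_lit 4098) (nat_lit 4098) (nat_lit 0) (nat_lit 0) (nat_lit 2) (nat_lit 1) (nat_lit 0) (nat_lit 8) (nat_lit 1) (nat_lit 0) (nat_lit 4100) (nat_lit 4) (nat_lit 0x1000008000018) (nat_lit 0x1000100) (.cD (nat_lit 8) (.cut (nat_lit 1)) (.cD (nat_lit 24) (.cut (nat_lit 0)) .nil))) (.cD (nat_lit 36) (.kA true (nat_lit 0x100100000400100300d001001001000003)) (.cD (nat_lit 48) (.kA true (nat_lit 0x600800401000800400100300d001001001000003)) (.cD (nat_lit 52) (.kA true (nat_lit 0x800a00601e00700500100300e001002002000003)) .nil)))))))) (.cD (nat_lit 20) (.dfs (nat_lit 32) (nat_lit 4100) (nat_lit 4100) (nat_lit 0x1002001) (nat_lit 0x1002001) (nat_lit 0) (nat_lit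 0) (nat_lit 3) (nat_lit 0) (nat_lit 0) (nat_lit 0) (nat_lit 1) (nat_lit 0) (nat_lit 1) (nat_lit 0) (nat_lit 1) (nat_lit 0x11001100110010) (.cD (nat_lit 4) (.kc (nat_lit 36) (nat_lit 0x5001001)) (.cD (nat_lit 16) (.kc (nat_lit 52) (nat_lit 0x7001001)) (.cD (nat_lit 20) (.kc (nat_lit 48) (nat_lit 0x3001001)) (.cD (nat_lit 32) (.kA true (nat_lit 0x200200000500100300e001002002000003)) (.cD (nat_lit 36) (.dfs (nat_lit 9) (nat_lit 4102) (nat_lit 4103) (nat_lit 1) (nat_lit 1) (nat_lit 0) (nat_lit 0) (nat_lit 1) (nat_lit 4112) (nat_lit 0x40020010008004002001) (nat_lit 0) (nat_lit 1) (nat_lit 0) (nat_lit 1) (nat_lit 0) (nat_lit 1) (nat_lit 0) .nil) (.cD (nat_lit 48) (.kA true (nat_lit 0x400300500800100400100300c001002)) (.cD (nat_lit 52) (.kA true (nat_lit 0x400700100800100400100300c001002)) .nil)))))))) (.cD (nat_lit 32) (.kF (nat_lit 16) (nat_lit 0x100400100c012008002002000003)) (.cD (nat_lit 36) (.kF (nat_lit 16) (nat_lit 0x100400100c012008002002000003)) (.cD (nat_lit 48)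 (.dfs (nat_lit 32) (nat_lit 4100) (nat_lit 4100) (nat_lit 0x1002001) (nat_lit 0x1002001) (nat_lit 0) (nat_lit 0) (nat_lit 3) (nat_lit 0) (nat_lit 0) (nat_lit 0) (nat_lit 1) (nat_lit 0) (nat_lit 1) (nat_lit 0) (nat_lit 1) (nat_lit 0x11001100110010) (.cD (nat_lit 4) (.kc (nat_lit 36) (nat_lit 0x5001001)) (.cD (nat_lit 16) (.kA true (nat_lit 0x400200100800100400100300c001002)) (.cD (nat_lit 20) (.kA true (nat_lit 0x400600500800100400100300c001002)) (.cD (nat_lit 32) (.kA true (nat_lit 0x200400c01000800500100300e001002002000003)) (.cD (nat_lit 36) (.kA true (nat_lit 0x400500600800100400100300c001002)) (.cD (nat_lit 48) (.kc (nat_lit 48) (nat_lit 0x3001001)) (.cD (nat_lit 52) (.kc (nat_lit 52) (nat_lit 0x7001001)) .nil)))))))) (.cD (nat_lit 52) (.dfs (nat_lit 32) (nat_lit 4100) (nat_lit 4100) (nat_lit 0x1002001) (nat_lit 0x1002001) (nat_lit 0) (nat_lit 0) (nat_lit 3) (nat_lit 0) (nat_lit 0) (nat_lit 0) (nat_lit 1) (nat_lit 0) (nat_lit 1) (nat_lit 0) (nat_lit 1) (nat_lit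 0x11001100110010) (.cD (nat_lit 4) (.kc (nat_lit 36) (nat_lit 0x5001001)) (.cD (nat_lit 16) (.kA true (nat_lit 0x400200500800100400100300c001002)) (.cD (nat_lit 20) (.kA true (nat_lit 0x400600100800100400100300c001002)) (.cD (nat_lit 32) (.kA true (nat_lit 0x4001003008001002004008012008002002000003)) (.cD (nat_lit 36) (.kA true (nat_lit 0x400500200800100400100300c001002)) (.cD (nat_lit 48) (.kc (nat_lit 52) (nat_lit 0x7001001)) (.cD (nat_lit 52) (.kc (nat_lit 48) (nat_lit 0x3001001)) .nil)))))))) .nil)))))))) (.cD (nat_lit 8) (.dfs (nat_lit 16) (nat_lit 4098) (nat_lit 4098) (nat_lit 4097) (nat_lit 4097) (nat_lit 0) (nat_lit 0) (nat_lit 3) (nat_lit 0) (nat_lit 0) (nat_lit 0) (nat_lit 1) (nat_lit 0) (nat_lit 1) (nat_lit 0) (nat_lit 1) (nat_lit 0x101010101010100) (.cD (nat_lit 8) (.kc (nat_lit 20) (nat_lit 0x3001001)) (.cD (nat_lit 16) (.dfs (nat_lit 32) (nat_lit 4100) (nat_lit 4100) (nat_lit 0x1002001) (nat_lit 0x1002001) (nat_lit 0) (nat_lit 0) (nat_lit 3) (nat_lit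 0) (nat_lit 0) (nat_lit 0) (nat_lit 1) (nat_lit 0) (nat_lit 1) (nat_lit 0) (nat_lit 1) (nat_lit 0x101010101010100) (.cD (nat_lit 8) (.kc (nat_lit 36) (nat_lit 0x5001001)) (.cD (nat_lit 16) (.kc (nat_lit 48) (nat_lit 0x3001001)) (.cD (nat_lit 24) (.kc (nat_lit 52) (nat_lit 0x7001001)) (.cD (nat_lit 32) (.kA false (nat_lit 0x400100200c002008010020050003001001000003)) (.cD (nat_lit 40) (.kA false (nat_lit 0x100100000400500200d002001001000003)) (.cD (nat_lit 48) (.kA false (nat_lit 0x600800c01000800400300200b002001001000003)) (.cD (nat_lit 56) (.kA false (nat_lit 0x400700200c002008010020050003001001000003)) .nil)))))))) (.cD (nat_lit 24) (.dfs (nat_lit 32) (nat_lit 4100) (nat_lit 4100) (nat_lit 0x1002001) (nat_lit 0x1002001) (nat_lit 0) (nat_lit 0) (nat_lit 3) (nat_lit 0) (nat_lit 0) (nat_lit 0) (nat_lit 1) (nat_lit 0) (nat_lit 1) (nat_lit 0) (nat_lit 1) (nat_lit 0x101010101010100) (.cD (nat_lit 8) (.kc (nat_lit 36) (nat_lit 0x5001001)) (.cD (nat_lit 16) (.kc (nat_lit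 52) (nat_lit 0x7001001)) (.cD (nat_lit 24) (.kc (nat_lit 48) (nat_lit 0x3001001)) (.cD (nat_lit 32) (.kA false (nat_lit 0x400100600c002008010020050003001001000003)) (.cD (nat_lit 40) (.kA false (nat_lit 0x100100000400500600d002001001000003)) (.cD (nat_lit 48) (.kA false (nat_lit 0x400700600c002008010020050003001001000003)) (.cD (nat_lit 56) (.kA false (nat_lit 0x600800a01000800400300600b002001001000003)) .nil)))))))) (.cD (nat_lit 32) (.kF (nat_lit 16) (nat_lit 0x100400100c012008002002000003)) (.cD (nat_lit 40) (.kF (nat_lit 16) (nat_lit 0x100400100c012008002002000003)) (.cD (nat_lit 48) (.dfs (nat_lit 32) (nat_lit 4100) (nat_lit 4100) (nat_lit 0x1002001) (nat_lit 0x1002001) (nat_lit 0) (nat_lit 0) (nat_lit 3) (nat_lit 0) (nat_lit 0) (nat_lit 0) (nat_lit 1) (nat_lit 0) (nat_lit 1) (nat_lit 0) (nat_lit 1) (nat_lit 0x101010101010100) (.cD (nat_lit 8) (.kc (nat_lit 36) (nat_lit 0x5001001)) (.cD (nat_lit 16) (.kA false (nat_lit 0x600800401000800400300100b002001001000003))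 (.cD (nat_lit 24) (.kA false (nat_lit 0x400700500c002008010020050003001001000003)) (.cD (nat_lit 32) (.kA false (nat_lit 0x400100300c002008010020050003001001000003)) (.cD (nat_lit 40) (.kA false (nat_lit 0x100100000400500700d002001001000003)) (.cD (nat_lit 48) (.kc (nat_lit 48) (nat_lit 0x3001001)) (.cD (nat_lit 56) (.kc (nat_lit 52) (nat_lit 0x7001001)) .nil)))))))) (.cD (nat_lit 56) (.dfs (nat_lit 32) (nat_lit 4100) (nat_lit 4100) (nat_lit 0x1002001) (nat_lit 0x1002001) (nat_lit 0) (nat_lit 0) (nat_lit 3) (nat_lit 0) (nat_lit 0) (nat_lit 0) (nat_lit 1) (nat_lit 0) (nat_lit 1) (nat_lit 0) (nat_lit 1) (nat_lit 0x101010101010100) (.cD (nat_lit 8) (.kc (nat_lit 36) (nat_lit 0x5001001)) (.cD (nat_lit 16) (.kA false (nat_lit 0x400700100c002008010020050003001001000003)) (.cD (nat_lit 24) (.kA false (nat_lit 0x600800201000800400300500b002001001000003)) (.cD (nat_lit 32) (.kA false (nat_lit 0x400100700c002008010020050003001001000003)) (.cD (nat_lit 40) (.kA false (nat_lit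 0x100100000400500300d002001001000003)) (.cD (nat_lit 48) (.kc (nat_lit 52) (nat_lit 0x7001001)) (.cD (nat_lit 56) (.kc (nat_lit 48) (nat_lit 0x3001001)) .nil)))))))) .nil)))))))) (.cD (nat_lit 16) (.kF (nat_lit 4) (nat_lit 0x2002000001003001002)) (.cD (nat_lit 20) (.kF (nat_lit 4) (nat_lit 0xe01e007001003001002)) (.cD (nat_lit 24) (.kF (nat_lit 4) (nat_lit 0x1002001002012008002002000003)) (.cD (nat_lit 32) (.dfs (nat_lit 16) (nat_lit 4098) (nat_lit 4098) (nat_lit 4097) (nat_lit 4097) (nat_lit 0) (nat_lit 0) (nat_lit 3) (nat_lit 0) (nat_lit 0) (nat_lit 0) (nat_lit 1) (nat_lit 0) (nat_lit 0x1008004) (nat_lit 32772) (nat_lit 0x1001004000008001014000018) (nat_lit 0x1000101110110) (.cD (nat_lit 4) (.kF (nat_lit 16) (nat_lit 0x1001000001006001002)) (.cD (nat_lit 8) (.kF (nat_lit 16) (nat_lit 0x1001000001006001002)) (.cD (nat_lit 16) (.dfs (nat_lit 32) (nat_lit 4100) (nat_lit 4100) (nat_lit 0x1002001) (nat_lit 0x1002001) (nat_lit 0) (nat_lit 0) (nat_lit 3) (nat_lit 0) (nat_lit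 0) (nat_lit 0) (nat_lit 1) (nat_lit 0) (nat_lit 0x1008004) (nat_lit 32772) (nat_lit 0x1001004000008001014000018) (nat_lit 0x1000101110110) (.cD (nat_lit 4) (.kA true (nat_lit 0x100400600c002001001000002)) (.cD (nat_lit 8) (.kA false (nat_lit 0x100400200c002001001000002)) (.cD (nat_lit 16) (.kc (nat_lit 48) (nat_lit 0x3001001)) (.cD (nat_lit 20) (.kA true (nat_lit 0x300400600c002001001000002)) (.cD (nat_lit 24) (.kA false (nat_lit 0x300400200c002001001000002)) (.cD (nat_lit 32) (.kc (nat_lit 36) (nat_lit 0x5001001)) (.cD (nat_lit 48) (.kc (nat_lit 52) (nat_lit 0x7001001)) .nil)))))))) (.cD (nat_lit 20) (.dfs (nat_lit 32) (nat_lit 4100) (nat_lit 4100) (nat_lit 0x1002001) (nat_lit 0x1002001) (nat_lit 0) (nat_lit 0) (nat_lit 3) (nat_lit 0) (nat_lit 0) (nat_lit 0) (nat_lit 1) (nat_lit 0) (nat_lit 1) (nat_lit 0) (nat_lit 1) (nat_lit 0x11001100110010) (.cD (nat_lit 4) (.kA true (nat_lit 0x100400700c002001001000002)) (.cD (nat_lit 16) (.kA true (nat_lit 0x300400500c002001001000002))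 (.cD (nat_lit 20) (.kc (nat_lit 48) (nat_lit 0x3001001)) (.cD (nat_lit 32) (.kc (nat_lit 36) (nat_lit 0x5001001)) (.cD (nat_lit 36) (.dfs (nat_lit 9) (nat_lit 4100) (nat_lit 4101) (nat_lit 1) (nat_lit 1) (nat_lit 0) (nat_lit 0) (nat_lit 1) (nat_lit 4128) (nat_lit 0x40020010008004002001) (nat_lit 0) (nat_lit 1) (nat_lit 0) (nat_lit 1) (nat_lit 0) (nat_lit 1) (nat_lit 0) .nil) (.cD (nat_lit 48) (.kA true (nat_lit 0x700400100c002001001000002)) (.cD (nat_lit 52) (.kc (nat_lit 52) (nat_lit 0x7001001)) .nil)))))))) (.cD (nat_lit 24) (.dfs (nat_lit 32) (nat_lit 4100) (nat_lit 4100) (nat_lit 0x1002001) (nat_lit 0x1002001) (nat_lit 0) (nat_lit 0) (nat_lit 3) (nat_lit 0) (nat_lit 0) (nat_lit 0) (nat_lit 1) (nat_lit 0) (nat_lit 1) (nat_lit 0) (nat_lit 1) (nat_lit 0x101010101010100) (.cD (nat_lit 8) (.kA false (nat_lit 0x100400300c002001001000002)) (.cD (nat_lit 16) (.kA false (nat_lit 0x300400100c002001001000002)) (.cD (nat_lit 24) (.kc (nat_lit 48) (nat_lit 0x3001001)) (.cD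 (nat_lit 32) (.kc (nat_lit 36) (nat_lit 0x5001001)) (.cD (nat_lit 40) (.kA false (nat_lit 0x500400700c002001001000002)) (.cD (nat_lit 48) (.kA false (nat_lit 0x700400500c002001001000002)) (.cD (nat_lit 56) (.kc (nat_lit 52) (nat_lit 0x7001001)) .nil)))))))) (.cD (nat_lit 32) (.kc (nat_lit 20) (nat_lit 0x3001001)) (.cD (nat_lit 48) (.dfs (nat_lit 32) (nat_lit 4100) (nat_lit 4100) (nat_lit 0x1002001) (nat_lit 0x1002001) (nat_lit 0) (nat_lit 0) (nat_lit 3) (nat_lit 0) (nat_lit 0) (nat_lit 0) (nat_lit 1) (nat_lit 0) (nat_lit 0x1008004) (nat_lit 32772) (nat_lit 0x1001004000008001014000018) (nat_lit 0x1000101110110) (.cD (nat_lit 4) (.kA true (nat_lit 0x100400200c002001001000002)) (.cD (nat_lit 8) (.kA false (nat_lit 0x100400600c002001001000002)) (.cD (nat_lit 16) (.kc (nat_lit 52) (nat_lit 0x7001001)) (.cD (nat_lit 20) (.kA true (nat_lit 0x700400200c002001001000002)) (.cD (nat_lit 24) (.kA false (nat_lit 0x700400600c002001001000002)) (.cD (nat_lit 32) (.kc (nat_lit 36)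 (nat_lit 0x5001001)) (.cD (nat_lit 48) (.kc (nat_lit 48) (nat_lit 0x3001001)) .nil)))))))) .nil)))))))) (.cD (nat_lit 48) (.kF (nat_lit 4) (nat_lit 0x1002001002012008002002000003)) .nil)))))))))
theorem c358 : (chk [(x120, s265), (x120, s263)] [] p358).n x120 s358 = true := by decide +kernel
noncomputable def p359 : Pf := (.ext (nat_lit 0) (nat_lit 0) (nat_lit 0x1040010020008002) (nat_lit 0x16008004002001006001001000010008004002001005003) (nat_lit 0x2004008016) (nat_lit 0x1004001) (nat_lit 0x1005001) (nat_lit 0x10008004006005014008004002001) (.dfs (nat_lit 1) (nat_lit 0x1002004008016) (nat_lit 0x1002004008012) (nat_lit 0x1010001) (nat_lit 0x1014001) (nat_lit 0) (nat_lit 0) (nat_lit 2) (nat_lit 0) (nat_lit 0) (nat_lit 1) (nat_lit 1) (nat_lit 0) (nat_lit 1) (nat_lit 0) (nat_lit 1) (nat_lit 0x202020202020202) (.cD (nat_lit 1) (.dfs (nat_lit 4) (nat_lit 0x100400801002c) (nat_lit 0x100c008010024) (nat_lit 0x1020002001) (nat_lit 0x102000a001) (nat_lit 0) (nat_lit 0) (nat_lit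 2) (nat_lit 0) (nat_lit 0) (nat_lit 5) (nat_lit 1) (nat_lit 0) (nat_lit 4104) (nat_lit 8) (nat_lit 0x1000005000015) (nat_lit 0x200020) (.cD (nat_lit 5) (.kS (nat_lit 1) (nat_lit 0x10001030070001006004008018003002002000001010030040001004) (nat_lit 4126) (nat_lit 0x8004002003) (nat_lit 0x200200000400600801000d00400301003005800e00100200200000600400801800100401000103007003f002006)) (.cD (nat_lit 21) (.kA true (nat_lit 0xe004008010003001010030050001001001000003)) .nil))) (.cD (nat_lit 9) (.kS (nat_lit 0) (nat_lit 0x4004000004008010020001002) (nat_lit 0x1029022) (nat_lit 0x8004002005010008004006001) (nat_lit 0xc00801002800100a001005005000004008010020001002002004004000004)) (.cD (nat_lit 17) (.dfs (nat_lit 4) (nat_lit 0x100400801002c) (nat_lit 0x100c008010024) (nat_lit 0x1020002001) (nat_lit 0x102000a001) (nat_lit 0) (nat_lit 0) (nat_lit 2) (nat_lit 0) (nat_lit 0) (nat_lit 5) (nat_lit 1) (nat_lit 0) (nat_lit 4104) (nat_lit 8) (nat_lit 0x1000005000015) (nat_lit 0x200020)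 (.cD (nat_lit 5) (.kA true (nat_lit 0x3010030058001001010030040001002)) (.cD (nat_lit 21) (.kA true (nat_lit 0x23010030058001001010030040001002)) .nil))) (.cD (nat_lit 25) (.kS (nat_lit 0) (nat_lit 0x4004000004008010020001002) (nat_lit 0x1039022) (nat_lit 0x8004002005010008004006001) (nat_lit 0xc00801002800100a001005005000004008010020001002002004004000004)) (.cD (nat_lit 33) (.dfs (nat_lit 4) (nat_lit 0x100400801002c) (nat_lit 0x100c008010024) (nat_lit 0x1020002001) (nat_lit 0x102000a001) (nat_lit 0) (nat_lit 0) (nat_lit 2) (nat_lit 0) (nat_lit 0) (nat_lit 5) (nat_lit 1) (nat_lit 0) (nat_lit 4104) (nat_lit 8) (nat_lit 0x1000005000015) (nat_lit 0x200020) (.cD (nat_lit 5) (.cut (nat_lit 0)) (.cD (nat_lit 21) (.kA true (nat_lit 0xe004008010003001010030050001001001000003)) .nil))) (.cD (nat_lit 41) (.kS (nat_lit 0) (nat_lit 0x4004000004008010020001002) (nat_lit 0x1009022) (nat_lit 0x8004002005010008004006001) (nat_lit 0xc00801002800100a001005005000004008010020001002002004004000004))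 (.cD (nat_lit 49) (.dfs (nat_lit 4) (nat_lit 0x100400801002c) (nat_lit 0x100c008010024) (nat_lit 0x1020002001) (nat_lit 0x102000a001) (nat_lit 0) (nat_lit 0) (nat_lit 2) (nat_lit 0) (nat_lit 0) (nat_lit 5) (nat_lit 1) (nat_lit 0) (nat_lit 4104) (nat_lit 8) (nat_lit 0x1000005000015) (nat_lit 0x200020) (.cD (nat_lit 5) (.kA true (nat_lit 0x3010030058001001010030040001002)) (.cD (nat_lit 21) (.kA true (nat_lit 0x23010030058001001010030040001002)) .nil))) (.cD (nat_lit 57) (.kS (nat_lit 0) (nat_lit 0x4004000004008010020001002) (nat_lit 0x1019022) (nat_lit 0x8004002005010008004006001) (nat_lit 0xc00801002800100a001005005000004008010020001002002004004000004)) .nil))))))))))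
theorem c359 : (chk [(x120, s358)] [] p359).n x120 s359 = true := by decide +kernel
noncomputable def p360 : Pf := (.anc (nat_lit 68) (nat_lit 0x10006002002000002) (nat_lit 0x1009020010004) (.dfs (nat_lit 4) (nat_lit 4097) (nat_lit 4097) (nat_lit 1) (nat_lit 1) (nat_lit 0) (nat_lit 0) (nat_lit 3) (nat_lit 0) (nat_lit 0) (nat_lit 0) (nat_lit 1) (nat_lit 0) (nat_lit 0x1008004) (nat_lit 32772) (nat_lit 0x1001004000008001014000018) (nat_lit 0x1000101110110) (.cD (nat_lit 4) (.dfs (nat_lit 16) (nat_lit 4098) (nat_lit 4098) (nat_lit 4097) (nat_lit 4097) (nat_lit 0) (nat_lit 0) (nat_lit 3) (nat_lit 0) (nat_lit 0) (nat_lit 0) (nat_lit 1) (nat_lit 0) (nat_lit 1) (nat_lit 0) (nat_lit 1) (nat_lit 0x11001100110010) (.cD (nat_lit 4) (.kc (nat_lit 20) (nat_lit 0x3001001)) (.cD (nat_lit 16) (.dfs (nat_lit 32) (nat_lit 4100) (nat_lit 4100) (nat_lit 0x1002001) (nat_lit 0x1002001) (nat_lit 0) (nat_lit 0) (nat_lit 3) (nat_lit 0) (nat_lit 0) (nat_lit 0) (nat_lit 1) (nat_lit 0) (nat_lit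 1) (nat_lit 0) (nat_lit 1) (nat_lit 0x11001100110010) (.cD (nat_lit 4) (.kc (nat_lit 36) (nat_lit 0x5001001)) (.cD (nat_lit 16) (.kc (nat_lit 48) (nat_lit 0x3001001)) (.cD (nat_lit 20) (.kc (nat_lit 52) (nat_lit 0x7001001)) (.cD (nat_lit 32) (.dfs (nat_lit 9) (nat_lit 0x1004001003008) (nat_lit 0x1005001003008) (nat_lit 4098) (nat_lit 4098) (nat_lit 0) (nat_lit 0) (nat_lit 2) (nat_lit 1) (nat_lit 0) (nat_lit 8) (nat_lit 1) (nat_lit 0) (nat_lit 4100) (nat_lit 4) (nat_lit 0x1000008000018) (nat_lit 0x1000100) (.cD (nat_lit 8) (.cut (nat_lit 1)) (.cD (nat_lit 24) (.cut (nat_lit 0)) .nil))) (.cD (nat_lit 36) (.kA true (nat_lit 0x100100000400100300d001001001000003)) (.cD (nat_lit 48) (.kA true (nat_lit 0x600800401000800400100300d001001001000003)) (.cD (nat_lit 52) (.kA true (nat_lit 0x800a00601e00700500100300e001002002000003)) .nil)))))))) (.cD (nat_lit 20) (.dfs (nat_lit 32) (nat_lit 4100) (nat_lit 4100) (nat_lit 0x1002001) (nat_lit 0x1002001) (nat_lit 0) (nat_lit 0) (nat_lit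 3) (nat_lit 0) (nat_lit 0) (nat_lit 0) (nat_lit 1) (nat_lit 0) (nat_lit 1) (nat_lit 0) (nat_lit 1) (nat_lit 0x11001100110010) (.cD (nat_lit 4) (.kc (nat_lit 36) (nat_lit 0x5001001)) (.cD (nat_lit 16) (.kc (nat_lit 52) (nat_lit 0x7001001)) (.cD (nat_lit 20) (.kc (nat_lit 48) (nat_lit 0x3001001)) (.cD (nat_lit 32) (.kA true (nat_lit 0x200200000500100300e001002002000003)) (.cD (nat_lit 36) (.dfs (nat_lit 9) (nat_lit 4102) (nat_lit 4103) (nat_lit 1) (nat_lit 1) (nat_lit 0) (nat_lit 0) (nat_lit 1) (nat_lit 4112) (nat_lit 0x40020010008004002001) (nat_lit 0) (nat_lit 1) (nat_lit 0) (nat_lit 1) (nat_lit 0) (nat_lit 1) (nat_lit 0) .nil) (.cD (nat_lit 48) (.kA true (nat_lit 0x400300500800100400100300c001002)) (.cD (nat_lit 52) (.kA true (nat_lit 0x400700100800100400100300c001002)) .nil)))))))) (.cD (nat_lit 32) (.kF (nat_lit 16) (nat_lit 0x100400100c012008002002000003)) (.cD (nat_lit 36) (.kF (nat_lit 16) (nat_lit 0x100400100c012008002002000003)) (.cD (nat_lit 48) (.dfs (nat_lit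 32) (nat_lit 4100) (nat_lit 4100) (nat_lit 0x1002001) (nat_lit 0x1002001) (nat_lit 0) (nat_lit 0) (nat_lit 3) (nat_lit 0) (nat_lit 0) (nat_lit 0) (nat_lit 1) (nat_lit 0) (nat_lit 1) (nat_lit 0) (nat_lit 1) (nat_lit 0x11001100110010) (.cD (nat_lit 4) (.kc (nat_lit 36) (nat_lit 0x5001001)) (.cD (nat_lit 16) (.kA true (nat_lit 0x400200100800100400100300c001002)) (.cD (nat_lit 20) (.kA true (nat_lit 0x400600500800100400100300c001002)) (.cD (nat_lit 32) (.kA true (nat_lit 0x200400c01000800500100300e001002002000003)) (.cD (nat_lit 36) (.kA true (nat_lit 0x400500600800100400100300c001002)) (.cD (nat_lit 48) (.kc (nat_lit 48) (nat_lit 0x3001001)) (.cD (nat_lit 52) (.kc (nat_lit 52) (nat_lit 0x7001001)) .nil)))))))) (.cD (nat_lit 52) (.dfs (nat_lit 32) (nat_lit 4100) (nat_lit 4100) (nat_lit 0x1002001) (nat_lit 0x1002001) (nat_lit 0) (nat_lit 0) (nat_lit 3) (nat_lit 0) (nat_lit 0) (nat_lit 0) (nat_lit 1) (nat_lit 0) (nat_lit 1) (nat_lit 0) (nat_lit 1) (nat_lit 0x11001100110010)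 (.cD (nat_lit 4) (.kc (nat_lit 36) (nat_lit 0x5001001)) (.cD (nat_lit 16) (.kA true (nat_lit 0x400200500800100400100300c001002)) (.cD (nat_lit 20) (.kA true (nat_lit 0x400600100800100400100300c001002)) (.cD (nat_lit 32) (.kA true (nat_lit 0x4001003008001002004008012008002002000003)) (.cD (nat_lit 36) (.kA true (nat_lit 0x400500200800100400100300c001002)) (.cD (nat_lit 48) (.kc (nat_lit 52) (nat_lit 0x7001001)) (.cD (nat_lit 52) (.kc (nat_lit 48) (nat_lit 0x3001001)) .nil)))))))) .nil)))))))) (.cD (nat_lit 8) (.dfs (nat_lit 16) (nat_lit 4098) (nat_lit 4098) (nat_lit 4097) (nat_lit 4097) (nat_lit 0) (nat_lit 0) (nat_lit 3) (nat_lit 0) (nat_lit 0) (nat_lit 0) (nat_lit 1) (nat_lit 0) (nat_lit 1) (nat_lit 0) (nat_lit 1) (nat_lit 0x101010101010100) (.cD (nat_lit 8) (.kc (nat_lit 20) (nat_lit 0x3001001)) (.cD (nat_lit 16) (.dfs (nat_lit 32) (nat_lit 4100) (nat_lit 4100) (nat_lit 0x1002001) (nat_lit 0x1002001) (nat_lit 0) (nat_lit 0) (nat_lit 3) (nat_lit 0) (nat_lit 0) (nat_lit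 0) (nat_lit 1) (nat_lit 0) (nat_lit 1) (nat_lit 0) (nat_lit 1) (nat_lit 0x101010101010100) (.cD (nat_lit 8) (.kc (nat_lit 36) (nat_lit 0x5001001)) (.cD (nat_lit 16) (.kc (nat_lit 48) (nat_lit 0x3001001)) (.cD (nat_lit 24) (.kc (nat_lit 52) (nat_lit 0x7001001)) (.cD (nat_lit 32) (.kA false (nat_lit 0x400100200c002008010020050003001001000003)) (.cD (nat_lit 40) (.kA false (nat_lit 0x100100000400500200d002001001000003)) (.cD (nat_lit 48) (.kA false (nat_lit 0x600800c01000800400300200b002001001000003)) (.cD (nat_lit 56) (.kA false (nat_lit 0x400700200c002008010020050003001001000003)) .nil)))))))) (.cD (nat_lit 24) (.dfs (nat_lit 32) (nat_lit 4100) (nat_lit 4100) (nat_lit 0x1002001) (nat_lit 0x1002001) (nat_lit 0) (nat_lit 0) (nat_lit 3) (nat_lit 0) (nat_lit 0) (nat_lit 0) (nat_lit 1) (nat_lit 0) (nat_lit 1) (nat_lit 0) (nat_lit 1) (nat_lit 0x101010101010100) (.cD (nat_lit 8) (.kc (nat_lit 36) (nat_lit 0x5001001)) (.cD (nat_lit 16) (.kc (nat_lit 52) (nat_lit 0x7001001))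 (.cD (nat_lit 24) (.kc (nat_lit 48) (nat_lit 0x3001001)) (.cD (nat_lit 32) (.kA false (nat_lit 0x400100600c002008010020050003001001000003)) (.cD (nat_lit 40) (.kA false (nat_lit 0x100100000400500600d002001001000003)) (.cD (nat_lit 48) (.kA false (nat_lit 0x400700600c002008010020050003001001000003)) (.cD (nat_lit 56) (.kA false (nat_lit 0x600800a01000800400300600b002001001000003)) .nil)))))))) (.cD (nat_lit 32) (.kF (nat_lit 16) (nat_lit 0x100400100c012008002002000003)) (.cD (nat_lit 40) (.kF (nat_lit 16) (nat_lit 0x100400100c012008002002000003)) (.cD (nat_lit 48) (.dfs (nat_lit 32) (nat_lit 4100) (nat_lit 4100) (nat_lit 0x1002001) (nat_lit 0x1002001) (nat_lit 0) (nat_lit 0) (nat_lit 3) (nat_lit 0) (nat_lit 0) (nat_lit 0) (nat_lit 1) (nat_lit 0) (nat_lit 1) (nat_lit 0) (nat_lit 1) (nat_lit 0x101010101010100) (.cD (nat_lit 8) (.kc (nat_lit 36) (nat_lit 0x5001001)) (.cD (nat_lit 16) (.kA false (nat_lit 0x600800401000800400300100b002001001000003)) (.cD (nat_lit 24) (.kA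 false (nat_lit 0x400700500c002008010020050003001001000003)) (.cD (nat_lit 32) (.kA false (nat_lit 0x400100300c002008010020050003001001000003)) (.cD (nat_lit 40) (.kA false (nat_lit 0x100100000400500700d002001001000003)) (.cD (nat_lit 48) (.kc (nat_lit 48) (nat_lit 0x3001001)) (.cD (nat_lit 56) (.kc (nat_lit 52) (nat_lit 0x7001001)) .nil)))))))) (.cD (nat_lit 56) (.dfs (nat_lit 32) (nat_lit 4100) (nat_lit 4100) (nat_lit 0x1002001) (nat_lit 0x1002001) (nat_lit 0) (nat_lit 0) (nat_lit 3) (nat_lit 0) (nat_lit 0) (nat_lit 0) (nat_lit 1) (nat_lit 0) (nat_lit 1) (nat_lit 0) (nat_lit 1) (nat_lit 0x101010101010100) (.cD (nat_lit 8) (.kc (nat_lit 36) (nat_lit 0x5001001)) (.cD (nat_lit 16) (.kA false (nat_lit 0x400700100c002008010020050003001001000003)) (.cD (nat_lit 24) (.kA false (nat_lit 0x600800201000800400300500b002001001000003)) (.cD (nat_lit 32) (.kA false (nat_lit 0x400100700c002008010020050003001001000003)) (.cD (nat_lit 40) (.kA false (nat_lit 0x100100000400500300d002001001000003))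 (.cD (nat_lit 48) (.kc (nat_lit 52) (nat_lit 0x7001001)) (.cD (nat_lit 56) (.kc (nat_lit 48) (nat_lit 0x3001001)) .nil)))))))) .nil)))))))) (.cD (nat_lit 16) (.kF (nat_lit 4) (nat_lit 0x2002000001003001002)) (.cD (nat_lit 20) (.kF (nat_lit 4) (nat_lit 0xe01e007001003001002)) (.cD (nat_lit 24) (.kF (nat_lit 4) (nat_lit 0x1002001002012008002002000003)) (.cD (nat_lit 32) (.dfs (nat_lit 16) (nat_lit 4098) (nat_lit 4098) (nat_lit 4097) (nat_lit 4097) (nat_lit 0) (nat_lit 0) (nat_lit 3) (nat_lit 0) (nat_lit 0) (nat_lit 0) (nat_lit 1) (nat_lit 0) (nat_lit 0x1008004) (nat_lit 32772) (nat_lit 0x1001004000008001014000018) (nat_lit 0x1000101110110) (.cD (nat_lit 4) (.kF (nat_lit 16) (nat_lit 0x1001000001006001002)) (.cD (nat_lit 8) (.kF (nat_lit 16) (nat_lit 0x1001000001006001002)) (.cD (nat_lit 16) (.dfs (nat_lit 32) (nat_lit 4100) (nat_lit 4100) (nat_lit 0x1002001) (nat_lit 0x1002001) (nat_lit 0) (nat_lit 0) (nat_lit 3) (nat_lit 0) (nat_lit 0) (nat_lit 0) (nat_lit 1) (nat_lit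 0) (nat_lit 0x1008004) (nat_lit 32772) (nat_lit 0x1001004000008001014000018) (nat_lit 0x1000101110110) (.cD (nat_lit 4) (.kA true (nat_lit 0x100400600c002001001000002)) (.cD (nat_lit 8) (.kA false (nat_lit 0x100400200c002001001000002)) (.cD (nat_lit 16) (.kc (nat_lit 48) (nat_lit 0x3001001)) (.cD (nat_lit 20) (.kA true (nat_lit 0x300400600c002001001000002)) (.cD (nat_lit 24) (.kA false (nat_lit 0x300400200c002001001000002)) (.cD (nat_lit 32) (.kc (nat_lit 36) (nat_lit 0x5001001)) (.cD (nat_lit 48) (.kc (nat_lit 52) (nat_lit 0x7001001)) .nil)))))))) (.cD (nat_lit 20) (.dfs (nat_lit 32) (nat_lit 4100) (nat_lit 4100) (nat_lit 0x1002001) (nat_lit 0x1002001) (nat_lit 0) (nat_lit 0) (nat_lit 3) (nat_lit 0) (nat_lit 0) (nat_lit 0) (nat_lit 1) (nat_lit 0) (nat_lit 1) (nat_lit 0) (nat_lit 1) (nat_lit 0x11001100110010) (.cD (nat_lit 4) (.kA true (nat_lit 0x100400700c002001001000002)) (.cD (nat_lit 16) (.kA true (nat_lit 0x300400500c002001001000002)) (.cD (nat_lit 20) (.kc (nat_lit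 48) (nat_lit 0x3001001)) (.cD (nat_lit 32) (.kc (nat_lit 36) (nat_lit 0x5001001)) (.cD (nat_lit 36) (.dfs (nat_lit 9) (nat_lit 4100) (nat_lit 4101) (nat_lit 1) (nat_lit 1) (nat_lit 0) (nat_lit 0) (nat_lit 1) (nat_lit 4128) (nat_lit 0x40020010008004002001) (nat_lit 0) (nat_lit 1) (nat_lit 0) (nat_lit 1) (nat_lit 0) (nat_lit 1) (nat_lit 0) .nil) (.cD (nat_lit 48) (.kA true (nat_lit 0x700400100c002001001000002)) (.cD (nat_lit 52) (.kc (nat_lit 52) (nat_lit 0x7001001)) .nil)))))))) (.cD (nat_lit 24) (.dfs (nat_lit 32) (nat_lit 4100) (nat_lit 4100) (nat_lit 0x1002001) (nat_lit 0x1002001) (nat_lit 0) (nat_lit 0) (nat_lit 3) (nat_lit 0) (nat_lit 0) (nat_lit 0) (nat_lit 1) (nat_lit 0) (nat_lit 1) (nat_lit 0) (nat_lit 1) (nat_lit 0x101010101010100) (.cD (nat_lit 8) (.kA false (nat_lit 0x100400300c002001001000002)) (.cD (nat_lit 16) (.kA false (nat_lit 0x300400100c002001001000002)) (.cD (nat_lit 24) (.kc (nat_lit 48) (nat_lit 0x3001001)) (.cD (nat_lit 32) (.kc (nat_lit 36)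 (nat_lit 0x5001001)) (.cD (nat_lit 40) (.kA false (nat_lit 0x500400700c002001001000002)) (.cD (nat_lit 48) (.kA false (nat_lit 0x700400500c002001001000002)) (.cD (nat_lit 56) (.kc (nat_lit 52) (nat_lit 0x7001001)) .nil)))))))) (.cD (nat_lit 32) (.kc (nat_lit 20) (nat_lit 0x3001001)) (.cD (nat_lit 48) (.dfs (nat_lit 32) (nat_lit 4100) (nat_lit 4100) (nat_lit 0x1002001) (nat_lit 0x1002001) (nat_lit 0) (nat_lit 0) (nat_lit 3) (nat_lit 0) (nat_lit 0) (nat_lit 0) (nat_lit 1) (nat_lit 0) (nat_lit 0x1008004) (nat_lit 32772) (nat_lit 0x1001004000008001014000018) (nat_lit 0x1000101110110) (.cD (nat_lit 4) (.kA true (nat_lit 0x100400200c002001001000002)) (.cD (nat_lit 8) (.kA false (nat_lit 0x100400600c002001001000002)) (.cD (nat_lit 16) (.kc (nat_lit 52) (nat_lit 0x7001001)) (.cD (nat_lit 20) (.kA true (nat_lit 0x700400200c002001001000002)) (.cD (nat_lit 24) (.kA false (nat_lit 0x700400600c002001001000002)) (.cD (nat_lit 32) (.kc (nat_lit 36) (nat_lit 0x5001001)) (.cD (nat_lit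 48) (.kc (nat_lit 48) (nat_lit 0x3001001)) .nil)))))))) .nil)))))))) (.cD (nat_lit 48) (.kF (nat_lit 4) (nat_lit 0x1002001002012008002002000003)) .nil)))))))))
theorem c360 : (chk [(x120, s354), (x120, s321)] [] p360).n x120 s360 = true := by decide +kernel
noncomputable def p361 : Pf := (.ext (nat_lit 0) (nat_lit 0) (nat_lit 0x1040010020008002) (nat_lit 0x16008004002001006001001000010008004002001005003) (nat_lit 0x2004008016) (nat_lit 0x1004001) (nat_lit 0x1005001) (nat_lit 0x10008004006005014008004002001) (.dfs (nat_lit 1) (nat_lit 0x1002004008016) (nat_lit 0x1002004008012) (nat_lit 0x1010001) (nat_lit 0x1014001) (nat_lit 0) (nat_lit 0) (nat_lit 2) (nat_lit 0) (nat_lit 0) (nat_lit 1) (nat_lit 1) (nat_lit 0) (nat_lit 1) (nat_lit 0) (nat_lit 1) (nat_lit 0x202020202020202) (.cD (nat_lit 1) (.dfs (nat_lit 4) (nat_lit 0x100400801002c) (nat_lit 0x100c008010024) (nat_lit 0x1020002001) (nat_lit 0x102000a001) (nat_lit 0) (nat_lit 0) (nat_lit 2) (nat_lit 0) (nat_lit 0) (nat_lit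 5) (nat_lit 1) (nat_lit 0) (nat_lit 4104) (nat_lit 8) (nat_lit 0x1000005000015) (nat_lit 0x200020) (.cD (nat_lit 5) (.cut (nat_lit 0)) (.cD (nat_lit 21) (.kA true (nat_lit 0xe004008010003001010030050001001001000003)) .nil))) (.cD (nat_lit 9) (.kS (nat_lit 0) (nat_lit 0x4004000004008010020001002) (nat_lit 0x1029022) (nat_lit 0x8004002005010008004006001) (nat_lit 0xc00801002800100a001005005000004008010020001002002004004000004)) (.cD (nat_lit 17) (.dfs (nat_lit 4) (nat_lit 0x100400801002c) (nat_lit 0x100c008010024) (nat_lit 0x1020002001) (nat_lit 0x102000a001) (nat_lit 0) (nat_lit 0) (nat_lit 2) (nat_lit 0) (nat_lit 0) (nat_lit 5) (nat_lit 1) (nat_lit 0) (nat_lit 4104) (nat_lit 8) (nat_lit 0x1000005000015) (nat_lit 0x200020) (.cD (nat_lit 5) (.kA true (nat_lit 0x3010030058001001010030040001002)) (.cD (nat_lit 21) (.kA true (nat_lit 0x23010030058001001010030040001002)) .nil))) (.cD (nat_lit 25) (.kS (nat_lit 0) (nat_lit 0x4004000004008010020001002) (nat_lit 0x1039022)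 (nat_lit 0x8004002005010008004006001) (nat_lit 0xc00801002800100a001005005000004008010020001002002004004000004)) (.cD (nat_lit 33) (.dfs (nat_lit 4) (nat_lit 0x100400801002c) (nat_lit 0x100c008010024) (nat_lit 0x1020002001) (nat_lit 0x102000a001) (nat_lit 0) (nat_lit 0) (nat_lit 2) (nat_lit 0) (nat_lit 0) (nat_lit 5) (nat_lit 1) (nat_lit 0) (nat_lit 4104) (nat_lit 8) (nat_lit 0x1000005000015) (nat_lit 0x200020) (.cD (nat_lit 5) (.kS (nat_lit 1) (nat_lit 0x3013030058002002004008010003001001000001010030040001004) (nat_lit 4139) (nat_lit 0x8004002003) (nat_lit 0x100100000200600801000700400301003005800e00100100100000200400801000100400301303005801e001006)) (.cD (nat_lit 21) (.kA true (nat_lit 0xe004008010003001010030050001001001000003)) .nil))) (.cD (nat_lit 41) (.kS (nat_lit 0) (nat_lit 0x4004000004008010020001002) (nat_lit 0x1009022) (nat_lit 0x8004002005010008004006001) (nat_lit 0xc00801002800100a001005005000004008010020001002002004004000004)) (.cD (nat_lit 49) (.dfs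 (nat_lit 4) (nat_lit 0x100400801002c) (nat_lit 0x100c008010024) (nat_lit 0x1020002001) (nat_lit 0x102000a001) (nat_lit 0) (nat_lit 0) (nat_lit 2) (nat_lit 0) (nat_lit 0) (nat_lit 5) (nat_lit 1) (nat_lit 0) (nat_lit 4104) (nat_lit 8) (nat_lit 0x1000005000015) (nat_lit 0x200020) (.cD (nat_lit 5) (.kA true (nat_lit 0x3010030058001001010030040001002)) (.cD (nat_lit 21) (.kA true (nat_lit 0x23010030058001001010030040001002)) .nil))) (.cD (nat_lit 57) (.kS (nat_lit 0) (nat_lit 0x4004000004008010020001002) (nat_lit 0x1019022) (nat_lit 0x8004002005010008004006001) (nat_lit 0xc00801002800100a001005005000004008010020001002002004004000004)) .nil))))))))))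
theorem c361 : (chk [(x120, s360)] [] p361).n x120 s361 = true := by decide +kernel
noncomputable def p362 : Pf := (.ext (nat_lit 1) (nat_lit 0) (nat_lit 0x1048030020005) (nat_lit 0x10008004002003010006002001001002) (nat_lit 0x2003004008) (nat_lit 4107) (nat_lit 4107) (nat_lit 0xc004002001) (.dfs (nat_lit 11) (nat_lit 0x1002003004008) (nat_lit 0x100200300400c) (nat_lit 4097) (nat_lit 4097) (nat_lit 0) (nat_lit 0) (nat_lit 2) (nat_lit 1) (nat_lit 0) (nat_lit 11) (nat_lit 1) (nat_lit 0) (nat_lit 4160) (nat_lit 64) (nat_lit 0x100000b00000f00001b00001f) (nat_lit 0x88008800) (.cD (nat_lit 11) (.cut (nat_lit 1)) (.cD (nat_lit 15) (.kS (nat_lit 1) (nat_lit 0x2004008010005001) (nat_lit 4139) (nat_lit 0x8004002003) (nat_lit 0x8008000004002008010001001008008000004006008010001002002004008010007006005)) (.cD (nat_lit 27) (.kS (nat_lit 1) (nat_lit 0x2004008010005001) (nat_lit 4127) (nat_lit 0x8004002003) (nat_lit 0x800800000400200801000100100800800000400600801000100200200400801000d006005))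 (.cD (nat_lit 31) (.cut (nat_lit 0)) .nil))))))
theorem c362 : (chk [(x120, s359), (x120, s361)] [] p362).n x120 s362 = true := by decide +kernel
noncomputable def p363 : Pf := (.anc (nat_lit 72) (nat_lit 0x1001000014006002) (nat_lit 0x1005020010008) (.czp (nat_lit 64) (nat_lit 0) (nat_lit 0x1040020010008004) z6 (.dfs (nat_lit 8) (nat_lit 4097) (nat_lit 4097) (nat_lit 1) (nat_lit 1) (nat_lit 0) (nat_lit 0) (nat_lit 3) (nat_lit 0) (nat_lit 0) (nat_lit 0) (nat_lit 1) (nat_lit 0) (nat_lit 0x1008004) (nat_lit 32772) (nat_lit 0x1001004000008001014000018) (nat_lit 0x1000101110110) (.cD (nat_lit 4) (.dfs (nat_lit 16) (nat_lit 4098) (nat_lit 4098) (nat_lit 4097) (nat_lit 4097) (nat_lit 0) (nat_lit 0) (nat_lit 3) (nat_lit 0) (nat_lit 0) (nat_lit 0) (nat_lit 1) (nat_lit 0) (nat_lit 1) (nat_lit 0) (nat_lit 1) (nat_lit 0x11001100110010) (.cD (nat_lit 4) (.kc (nat_lit 24) (nat_lit 0x3001001)) (.cD (nat_lit 16) (.dfs (nat_lit 32) (nat_lit 4100) (nat_lit 4100) (nat_lit 0x1002001)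 (nat_lit 0x1002001) (nat_lit 0) (nat_lit 0) (nat_lit 3) (nat_lit 0) (nat_lit 0) (nat_lit 0) (nat_lit 1) (nat_lit 0) (nat_lit 1) (nat_lit 0) (nat_lit 1) (nat_lit 0x11001100110010) (.cD (nat_lit 4) (.kc (nat_lit 40) (nat_lit 0x5001001)) (.cD (nat_lit 16) (.kc (nat_lit 48) (nat_lit 0x3001001)) (.cD (nat_lit 20) (.kc (nat_lit 56) (nat_lit 0x7001001)) (.cD (nat_lit 32) (.kA false (nat_lit 0x5004002008001002004008014007001001000003)) (.cD (nat_lit 36) (.kA false (nat_lit 0x100100000400100200d001001001000003)) (.cD (nat_lit 48) (.kA false (nat_lit 0x600800c01000600400100200d001001001000003)) (.cD (nat_lit 52) (.kA false (nat_lit 0x5004002008001002004008014007001001000003)) .nil)))))))) (.cD (nat_lit 20) (.dfs (nat_lit 32) (nat_lit 4100) (nat_lit 4100) (nat_lit 0x1002001) (nat_lit 0x1002001) (nat_lit 0) (nat_lit 0) (nat_lit 3) (nat_lit 0) (nat_lit 0) (nat_lit 0) (nat_lit 1) (nat_lit 0) (nat_lit 1) (nat_lit 0) (nat_lit 1) (nat_lit 0x11001100110010) (.cD (nat_lit 4) (.kc (nat_lit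 40) (nat_lit 0x5001001)) (.cD (nat_lit 16) (.kc (nat_lit 56) (nat_lit 0x7001001)) (.cD (nat_lit 20) (.kc (nat_lit 48) (nat_lit 0x3001001)) (.cD (nat_lit 32) (.kA false (nat_lit 0x5004002008001002004008014007001001000003)) (.cD (nat_lit 36) (.kA false (nat_lit 0x100100000400100200d001001001000003)) (.cD (nat_lit 48) (.kA false (nat_lit 0x600800a01000600400100200d001001001000003)) (.cD (nat_lit 52) (.kA false (nat_lit 0x5004002008001002004008014007001001000003)) .nil)))))))) (.cD (nat_lit 32) (.kF (nat_lit 16) (nat_lit 0x4010006002002000001006001003)) (.cD (nat_lit 36) (.kF (nat_lit 16) (nat_lit 0x1001000001007001002002000003)) (.cD (nat_lit 48) (.dfs (nat_lit 32) (nat_lit 4100) (nat_lit 4100) (nat_lit 0x1002001) (nat_lit 0x1002001) (nat_lit 0) (nat_lit 0) (nat_lit 3) (nat_lit 0) (nat_lit 0) (nat_lit 0) (nat_lit 1) (nat_lit 0) (nat_lit 1) (nat_lit 0) (nat_lit 1) (nat_lit 0x11001100110010) (.cD (nat_lit 4) (.kc (nat_lit 40) (nat_lit 0x5001001)) (.cD (nat_lit 16) (.kA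 false (nat_lit 0x200c00801e00500400100200d001001001000003)) (.cD (nat_lit 20) (.kA false (nat_lit 0x200200000400100200d001001001000003)) (.cD (nat_lit 32) (.kA false (nat_lit 0x5004002008001002004008014007001001000003)) (.cD (nat_lit 36) (.kA false (nat_lit 0x100100000400100200d001001001000003)) (.cD (nat_lit 48) (.kc (nat_lit 48) (nat_lit 0x3001001)) (.cD (nat_lit 52) (.kc (nat_lit 56) (nat_lit 0x7001001)) .nil)))))))) (.cD (nat_lit 52) (.dfs (nat_lit 32) (nat_lit 4100) (nat_lit 4100) (nat_lit 0x1002001) (nat_lit 0x1002001) (nat_lit 0) (nat_lit 0) (nat_lit 3) (nat_lit 0) (nat_lit 0) (nat_lit 0) (nat_lit 1) (nat_lit 0) (nat_lit 1) (nat_lit 0) (nat_lit 1) (nat_lit 0x11001100110010) (.cD (nat_lit 4) (.kc (nat_lit 40) (nat_lit 0x5001001)) (.cD (nat_lit 16) (.kA false (nat_lit 0x200c00a01e00500400100200d001001001000003)) (.cD (nat_lit 20) (.kA false (nat_lit 0x200200000400100200d001001001000003)) (.cD (nat_lit 32) (.kA false (nat_lit 0x5004002008001002004008014007001001000003))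 (.cD (nat_lit 36) (.kA false (nat_lit 0x100100000400100200d001001001000003)) (.cD (nat_lit 48) (.kc (nat_lit 56) (nat_lit 0x7001001)) (.cD (nat_lit 52) (.kc (nat_lit 48) (nat_lit 0x3001001)) .nil)))))))) .nil)))))))) (.cD (nat_lit 8) (.dfs (nat_lit 16) (nat_lit 4098) (nat_lit 4098) (nat_lit 4097) (nat_lit 4097) (nat_lit 0) (nat_lit 0) (nat_lit 3) (nat_lit 0) (nat_lit 0) (nat_lit 0) (nat_lit 1) (nat_lit 0) (nat_lit 1) (nat_lit 0) (nat_lit 1) (nat_lit 0x101010101010100) (.cD (nat_lit 8) (.kc (nat_lit 24) (nat_lit 0x3001001)) (.cD (nat_lit 16) (.dfs (nat_lit 32) (nat_lit 4100) (nat_lit 4100) (nat_lit 0x1002001) (nat_lit 0x1002001) (nat_lit 0) (nat_lit 0) (nat_lit 3) (nat_lit 0) (nat_lit 0) (nat_lit 0) (nat_lit 1) (nat_lit 0) (nat_lit 1) (nat_lit 0) (nat_lit 1) (nat_lit 0x101010101010100) (.cD (nat_lit 8) (.kc (nat_lit 40) (nat_lit 0x5001001)) (.cD (nat_lit 16) (.kc (nat_lit 48) (nat_lit 0x3001001)) (.cD (nat_lit 24) (.kc (nat_lit 56) (nat_lit 0x7001001)) (.cD (nat_lit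 32) (.dfs (nat_lit 5) (nat_lit 0x1004001002008) (nat_lit 0x1005001002008) (nat_lit 1) (nat_lit 1) (nat_lit 0) (nat_lit 0) (nat_lit 2) (nat_lit 0) (nat_lit 0) (nat_lit 4) (nat_lit 1) (nat_lit 0) (nat_lit 4104) (nat_lit 8) (nat_lit 0x1000004000014) (nat_lit 0x100010) (.cD (nat_lit 4) (.cut (nat_lit 1)) (.cD (nat_lit 20) (.cut (nat_lit 0)) .nil))) (.cD (nat_lit 40) (.dfs (nat_lit 5) (nat_lit 4101) (nat_lit 4100) (nat_lit 1) (nat_lit 1) (nat_lit 0) (nat_lit 0) (nat_lit 1) (nat_lit 4128) (nat_lit 0x40020010008004002001) (nat_lit 0) (nat_lit 1) (nat_lit 0) (nat_lit 1) (nat_lit 0) (nat_lit 1) (nat_lit 0) .nil) (.cD (nat_lit 48) (.kA false (nat_lit 0x5004002008001002004008014007001001000003)) (.cD (nat_lit 56) (.kA false (nat_lit 0x5004002008001002004008014007001001000003)) .nil)))))))) (.cD (nat_lit 24) (.dfs (nat_lit 32) (nat_lit 4100) (nat_lit 4100) (nat_lit 0x1002001) (nat_lit 0x1002001) (nat_lit 0) (nat_lit 0) (nat_lit 3) (nat_lit 0) (nat_lit 0) (nat_lit 0) (nat_lit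 1) (nat_lit 0) (nat_lit 1) (nat_lit 0) (nat_lit 1) (nat_lit 0x101010101010100) (.cD (nat_lit 8) (.kc (nat_lit 40) (nat_lit 0x5001001)) (.cD (nat_lit 16) (.kc (nat_lit 56) (nat_lit 0x7001001)) (.cD (nat_lit 24) (.kc (nat_lit 48) (nat_lit 0x3001001)) (.cD (nat_lit 32) (.kA false (nat_lit 0x5004002008001002004008014007001001000003)) (.cD (nat_lit 40) (.kA false (nat_lit 0x100100000400100200d001001001000003)) (.cD (nat_lit 48) (.kA false (nat_lit 0x5004002008001002004008014007001001000003)) (.cD (nat_lit 56) (.kA false (nat_lit 0x5004002008001002004008014007001001000003)) .nil)))))))) (.cD (nat_lit 32) (.kF (nat_lit 16) (nat_lit 0x1001000006014008001006001003)) (.cD (nat_lit 40) (.kF (nat_lit 16) (nat_lit 0x1001000001007001002002000003)) (.cD (nat_lit 48) (.dfs (nat_lit 32) (nat_lit 4100) (nat_lit 4100) (nat_lit 0x1002001) (nat_lit 0x1002001) (nat_lit 0) (nat_lit 0) (nat_lit 3) (nat_lit 0) (nat_lit 0) (nat_lit 0) (nat_lit 1) (nat_lit 0) (nat_lit 1) (nat_lit 0) (nat_lit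 1) (nat_lit 0x101010101010100) (.cD (nat_lit 8) (.kc (nat_lit 40) (nat_lit 0x5001001)) (.cD (nat_lit 16) (.kA false (nat_lit 0x400200300800100400100200c001002)) (.cD (nat_lit 24) (.kA false (nat_lit 0x400600300800100400100200c001002)) (.cD (nat_lit 32) (.kA false (nat_lit 0x5004002008001002004008014007001001000003)) (.cD (nat_lit 40) (.kA false (nat_lit 0x400500300800100400100200c001002)) (.cD (nat_lit 48) (.kc (nat_lit 48) (nat_lit 0x3001001)) (.cD (nat_lit 56) (.kc (nat_lit 56) (nat_lit 0x7001001)) .nil)))))))) (.cD (nat_lit 56) (.dfs (nat_lit 32) (nat_lit 4100) (nat_lit 4100) (nat_lit 0x1002001) (nat_lit 0x1002001) (nat_lit 0) (nat_lit 0) (nat_lit 3) (nat_lit 0) (nat_lit 0) (nat_lit 0) (nat_lit 1) (nat_lit 0) (nat_lit 1) (nat_lit 0) (nat_lit 1) (nat_lit 0x101010101010100) (.cD (nat_lit 8) (.kc (nat_lit 40) (nat_lit 0x5001001)) (.cD (nat_lit 16) (.kA false (nat_lit 0x400200700800100400100200c001002)) (.cD (nat_lit 24) (.kA false (nat_lit 0x400600700800100400100200c001002))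 (.cD (nat_lit 32) (.kA false (nat_lit 0x5004002008001002004008014007001001000003)) (.cD (nat_lit 40) (.kA false (nat_lit 0x400500700800100400100200c001002)) (.cD (nat_lit 48) (.kc (nat_lit 56) (nat_lit 0x7001001)) (.cD (nat_lit 56) (.kc (nat_lit 48) (nat_lit 0x3001001)) .nil)))))))) .nil)))))))) (.cD (nat_lit 16) (.kF (nat_lit 8) (nat_lit 0x2002000001003001002)) (.cD (nat_lit 20) (.kF (nat_lit 8) (nat_lit 0xe01e005001003001002)) (.cD (nat_lit 24) (.kF (nat_lit 8) (nat_lit 0x100100000c014008002002000001003001004)) (.cD (nat_lit 32) (.dfs (nat_lit 16) (nat_lit 4098) (nat_lit 4098) (nat_lit 4097) (nat_lit 4097) (nat_lit 0) (nat_lit 0) (nat_lit 3) (nat_lit 0) (nat_lit 0) (nat_lit 0) (nat_lit 1) (nat_lit 0) (nat_lit 0x1008004) (nat_lit 32772) (nat_lit 0x1001004000008001014000018) (nat_lit 0x1000101110110) (.cD (nat_lit 4) (.kF (nat_lit 16) (nat_lit 0x1001000001006001002)) (.cD (nat_lit 8) (.kF (nat_lit 16) (nat_lit 0x1001000001006001002)) (.cD (nat_lit 16) (.dfs (nat_lit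 32) (nat_lit 4100) (nat_lit 4100) (nat_lit 0x1002001) (nat_lit 0x1002001) (nat_lit 0) (nat_lit 0) (nat_lit 3) (nat_lit 0) (nat_lit 0) (nat_lit 0) (nat_lit 1) (nat_lit 0) (nat_lit 0x1008004) (nat_lit 32772) (nat_lit 0x1001004000008001014000018) (nat_lit 0x1000101110110) (.cD (nat_lit 4) (.kA false (nat_lit 0x100100000400100200c001002)) (.cD (nat_lit 8) (.dfs (nat_lit 5) (nat_lit 4100) (nat_lit 4101) (nat_lit 1) (nat_lit 1) (nat_lit 0) (nat_lit 0) (nat_lit 1) (nat_lit 4128) (nat_lit 0x40020010008004002001) (nat_lit 0) (nat_lit 1) (nat_lit 0) (nat_lit 1) (nat_lit 0) (nat_lit 1) (nat_lit 0) .nil) (.cD (nat_lit 16) (.kc (nat_lit 48) (nat_lit 0x3001001)) (.cD (nat_lit 20) (.kA false (nat_lit 0x100100000400100200c001002)) (.cD (nat_lit 24) (.kA false (nat_lit 0x300400200c002001001000002)) (.cD (nat_lit 32) (.kc (nat_lit 40) (nat_lit 0x5001001)) (.cD (nat_lit 48) (.kc (nat_lit 56) (nat_lit 0x7001001)) .nil)))))))) (.cD (nat_lit 20) (.dfs (nat_lit 32) (nat_lit 4100) (nat_lit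 4100) (nat_lit 0x1002001) (nat_lit 0x1002001) (nat_lit 0) (nat_lit 0) (nat_lit 3) (nat_lit 0) (nat_lit 0) (nat_lit 0) (nat_lit 1) (nat_lit 0) (nat_lit 1) (nat_lit 0) (nat_lit 1) (nat_lit 0x11001100110010) (.cD (nat_lit 4) (.kA false (nat_lit 0x100100000400100200c001002)) (.cD (nat_lit 16) (.kA false (nat_lit 0x100100000400100200c001002)) (.cD (nat_lit 20) (.kc (nat_lit 48) (nat_lit 0x3001001)) (.cD (nat_lit 32) (.kc (nat_lit 40) (nat_lit 0x5001001)) (.cD (nat_lit 36) (.kA false (nat_lit 0x100100000400100200c001002)) (.cD (nat_lit 48) (.kA false (nat_lit 0x100100000400100200c001002)) (.cD (nat_lit 52) (.kc (nat_lit 56) (nat_lit 0x7001001)) .nil)))))))) (.cD (nat_lit 24) (.dfs (nat_lit 32) (nat_lit 4100) (nat_lit 4100) (nat_lit 0x1002001) (nat_lit 0x1002001) (nat_lit 0) (nat_lit 0) (nat_lit 3) (nat_lit 0) (nat_lit 0) (nat_lit 0) (nat_lit 1) (nat_lit 0) (nat_lit 1) (nat_lit 0) (nat_lit 1) (nat_lit 0x101010101010100) (.cD (nat_lit 8) (.kA false (nat_lit 0x100400300c002001001000002))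 (.cD (nat_lit 16) (.kA false (nat_lit 0x300400100c002001001000002)) (.cD (nat_lit 24) (.kc (nat_lit 48) (nat_lit 0x3001001)) (.cD (nat_lit 32) (.kc (nat_lit 40) (nat_lit 0x5001001)) (.cD (nat_lit 40) (.kA false (nat_lit 0x500400700c002001001000002)) (.cD (nat_lit 48) (.kA false (nat_lit 0x700400500c002001001000002)) (.cD (nat_lit 56) (.kc (nat_lit 56) (nat_lit 0x7001001)) .nil)))))))) (.cD (nat_lit 32) (.kc (nat_lit 24) (nat_lit 0x3001001)) (.cD (nat_lit 48) (.dfs (nat_lit 32) (nat_lit 4100) (nat_lit 4100) (nat_lit 0x1002001) (nat_lit 0x1002001) (nat_lit 0) (nat_lit 0) (nat_lit 3) (nat_lit 0) (nat_lit 0) (nat_lit 0) (nat_lit 1) (nat_lit 0) (nat_lit 0x1008004) (nat_lit 32772) (nat_lit 0x1001004000008001014000018) (nat_lit 0x1000101110110) (.cD (nat_lit 4) (.kA false (nat_lit 0x100100000400100200c001002)) (.cD (nat_lit 8) (.kA false (nat_lit 0x100400600c002001001000002)) (.cD (nat_lit 16) (.kc (nat_lit 56) (nat_lit 0x7001001)) (.cD (nat_lit 20) (.kA false (nat_lit 0x100100000400100200c001002))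 (.cD (nat_lit 24) (.kA false (nat_lit 0x700400600c002001001000002)) (.cD (nat_lit 32) (.kc (nat_lit 40) (nat_lit 0x5001001)) (.cD (nat_lit 48) (.kc (nat_lit 48) (nat_lit 0x3001001)) .nil)))))))) .nil)))))))) (.cD (nat_lit 48) (.kF (nat_lit 8) (nat_lit 0x3003000001003001002)) .nil))))))))))
theorem c363 : (chk [(x120, s357), (x120, s362)] [] p363).n x120 s363 = true := by decide +kernel
noncomputable def p364 : Pf := (.ext (nat_lit 0) (nat_lit 0) (nat_lit 0x1040010020008002) (nat_lit 0x16008004002001004001001000010008004002001003003) (nat_lit 0x2004008016) (nat_lit 0x1004001) (nat_lit 0x1005001) (nat_lit 0x10008004006005014008004002001) (.dfs (nat_lit 1) (nat_lit 0x1002004008016) (nat_lit 0x1002004008012) (nat_lit 0x1010001) (nat_lit 0x1014001) (nat_lit 0) (nat_lit 0) (nat_lit 2) (nat_lit 0) (nat_lit 0) (nat_lit 1) (nat_lit 1) (nat_lit 0) (nat_lit 1) (nat_lit 0) (nat_lit 1) (nat_lit 0x202020202020202) (.cD (nat_lit 1) (.dfs (nat_lit 4) (nat_lit 0x100400801002c) (nat_lit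 0x100c008010024) (nat_lit 0x1020002001) (nat_lit 0x102000a001) (nat_lit 0) (nat_lit 0) (nat_lit 2) (nat_lit 0) (nat_lit 0) (nat_lit 5) (nat_lit 1) (nat_lit 0) (nat_lit 4104) (nat_lit 8) (nat_lit 0x1000005000015) (nat_lit 0x200020) (.cD (nat_lit 5) (.iso x120 s363 (nat_lit 0) (nat_lit 0x104002003000400800f001) (nat_lit 0x4002003000400800f001) [(nat_lit 0x10008004002007005001), (nat_lit 0x400400006002001000801e001002002000003), (nat_lit 0x1000800400200700305003001000101f001001001000003)] (.cut (nat_lit 0))) (.cD (nat_lit 21) (.kA true (nat_lit 0xe004008010003001010030050001001001000003)) .nil))) (.cD (nat_lit 9) (.kS (nat_lit 0) (nat_lit 0x4004000004008010020001002) (nat_lit 0x1029022) (nat_lit 0x8004002005010008004006001) (nat_lit 0xc00801002800100a001005005000004008010020001002002004004000004)) (.cD (nat_lit 17) (.dfs (nat_lit 4) (nat_lit 0x100400801002c) (nat_lit 0x100c008010024) (nat_lit 0x1020002001) (nat_lit 0x102000a001) (nat_lit 0) (nat_lit 0) (nat_lit 2) (nat_lit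 0) (nat_lit 0) (nat_lit 5) (nat_lit 1) (nat_lit 0) (nat_lit 4104) (nat_lit 8) (nat_lit 0x1000005000015) (nat_lit 0x200020) (.cD (nat_lit 5) (.kA true (nat_lit 0x3010030058001001010030040001002)) (.cD (nat_lit 21) (.kA true (nat_lit 0x23010030058001001010030040001002)) .nil))) (.cD (nat_lit 25) (.kS (nat_lit 0) (nat_lit 0x4004000004008010020001002) (nat_lit 0x1039022) (nat_lit 0x8004002005010008004006001) (nat_lit 0xc00801002800100a001005005000004008010020001002002004004000004)) (.cD (nat_lit 33) (.dfs (nat_lit 4) (nat_lit 0x100400801002c) (nat_lit 0x100c008010024) (nat_lit 0x1020002001) (nat_lit 0x102000a001) (nat_lit 0) (nat_lit 0) (nat_lit 2) (nat_lit 0) (nat_lit 0) (nat_lit 5) (nat_lit 1) (nat_lit 0) (nat_lit 4104) (nat_lit 8) (nat_lit 0x1000005000015) (nat_lit 0x200020) (.cD (nat_lit 5) (.kS (nat_lit 1) (nat_lit 0x3013030058002002004008010003001001000001010030040001004) (nat_lit 4139) (nat_lit 0x8004002003) (nat_lit 0x100100000200600801000700400301003005800e00100100100000200400801000100400301303005801e001006))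 (.cD (nat_lit 21) (.kA true (nat_lit 0xe004008010003001010030050001001001000003)) .nil))) (.cD (nat_lit 41) (.kS (nat_lit 0) (nat_lit 0x4004000004008010020001002) (nat_lit 0x1009022) (nat_lit 0x8004002005010008004006001) (nat_lit 0xc00801002800100a001005005000004008010020001002002004004000004)) (.cD (nat_lit 49) (.dfs (nat_lit 4) (nat_lit 0x100400801002c) (nat_lit 0x100c008010024) (nat_lit 0x1020002001) (nat_lit 0x102000a001) (nat_lit 0) (nat_lit 0) (nat_lit 2) (nat_lit 0) (nat_lit 0) (nat_lit 5) (nat_lit 1) (nat_lit 0) (nat_lit 4104) (nat_lit 8) (nat_lit 0x1000005000015) (nat_lit 0x200020) (.cD (nat_lit 5) (.kA true (nat_lit 0x3010030058001001010030040001002)) (.cD (nat_lit 21) (.kA true (nat_lit 0x23010030058001001010030040001002)) .nil))) (.cD (nat_lit 57) (.kS (nat_lit 0) (nat_lit 0x4004000004008010020001002) (nat_lit 0x1019022) (nat_lit 0x8004002005010008004006001) (nat_lit 0xc00801002800100a001005005000004008010020001002002004004000004)) .nil))))))))))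
theorem c364 : (chk [(x120, s363)] [g7] p364).n x120 s364 = true := by decide +kernel
noncomputable def p365 : Pf := (.ext (nat_lit 1) (nat_lit 0) (nat_lit 0x1048030020015) (nat_lit 0x10008004002003010006002005001002) (nat_lit 0x2003004008) (nat_lit 4107) (nat_lit 4107) (nat_lit 0xc004002001) (.dfs (nat_lit 11) (nat_lit 0x1002003004008) (nat_lit 0x100200300400c) (nat_lit 4097) (nat_lit 4097) (nat_lit 0) (nat_lit 0) (nat_lit 2) (nat_lit 1) (nat_lit 0) (nat_lit 11) (nat_lit 1) (nat_lit 0) (nat_lit 4160) (nat_lit 64) (nat_lit 0x100000b00000f00001b00001f) (nat_lit 0x88008800) (.cD (nat_lit 11) (.iso x120 s364 (nat_lit 0) (nat_lit 0x1040020010008004012011) (nat_lit 0x40020010008004012011) [(nat_lit 0x10008004002001001001), (nat_lit 0x10008004002009009001)] (.cut (nat_lit 1))) (.cD (nat_lit 15) (.kS (nat_lit 1) (nat_lit 0x2004008010005001) (nat_lit 4139) (nat_lit 0x8004002003) (nat_lit 0x8008000004002008010001001008008000004006008010001002002004008010007006005)) (.cD (nat_lit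 27) (.kS (nat_lit 1) (nat_lit 0x2004008010005001) (nat_lit 4127) (nat_lit 0x8004002003) (nat_lit 0x800800000400200801000100100800800000400600801000100200200400801000d006005)) (.cD (nat_lit 31) (.cut (nat_lit 0)) .nil))))))
theorem c365 : (chk [(x120, s261), (x120, s364)] [g7] p365).n x120 s365 = true := by decide +kernel
noncomputable def p366 : Pf := (.anc (nat_lit 68) (nat_lit 0x10006002002000002) (nat_lit 0x1009020010004) (.dfs (nat_lit 4) (nat_lit 4097) (nat_lit 4097) (nat_lit 1) (nat_lit 1) (nat_lit 0) (nat_lit 0) (nat_lit 3) (nat_lit 0) (nat_lit 0) (nat_lit 0) (nat_lit 1) (nat_lit 0) (nat_lit 0x1008004) (nat_lit 32772) (nat_lit 0x1001004000008001014000018) (nat_lit 0x1000101110110) (.cD (nat_lit 4) (.dfs (nat_lit 16) (nat_lit 4098) (nat_lit 4098) (nat_lit 4097) (nat_lit 4097) (nat_lit 0) (nat_lit 0) (nat_lit 3) (nat_lit 0) (nat_lit 0) (nat_lit 0) (nat_lit 1) (nat_lit 0) (nat_lit 1) (nat_lit 0) (nat_lit 1) (nat_lit 0x11001100110010) (.cD (nat_lit 4) (.kc (nat_lit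 20) (nat_lit 0x3001001)) (.cD (nat_lit 16) (.dfs (nat_lit 32) (nat_lit 4100) (nat_lit 4100) (nat_lit 0x1002001) (nat_lit 0x1002001) (nat_lit 0) (nat_lit 0) (nat_lit 3) (nat_lit 0) (nat_lit 0) (nat_lit 0) (nat_lit 1) (nat_lit 0) (nat_lit 1) (nat_lit 0) (nat_lit 1) (nat_lit 0x11001100110010) (.cD (nat_lit 4) (.kc (nat_lit 36) (nat_lit 0x5001001)) (.cD (nat_lit 16) (.kc (nat_lit 48) (nat_lit 0x3001001)) (.cD (nat_lit 20) (.kc (nat_lit 52) (nat_lit 0x7001001)) (.cD (nat_lit 32) (.dfs (nat_lit 9) (nat_lit 0x1004001003008) (nat_lit 0x1005001003008) (nat_lit 4098) (nat_lit 4098) (nat_lit 0) (nat_lit 0) (nat_lit 2) (nat_lit 1) (nat_lit 0) (nat_lit 8) (nat_lit 1) (nat_lit 0) (nat_lit 4100) (nat_lit 4) (nat_lit 0x1000008000018) (nat_lit 0x1000100) (.cD (nat_lit 8) (.cut (nat_lit 1)) (.cD (nat_lit 24) (.cut (nat_lit 0)) .nil))) (.cD (nat_lit 36) (.kA true (nat_lit 0x100100000400100300d001001001000003)) (.cD (nat_lit 48) (.kA true (nat_lit 0x600800401000800400100300d001001001000003))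 (.cD (nat_lit 52) (.kA true (nat_lit 0x800a00601e00700500100300e001002002000003)) .nil)))))))) (.cD (nat_lit 20) (.dfs (nat_lit 32) (nat_lit 4100) (nat_lit 4100) (nat_lit 0x1002001) (nat_lit 0x1002001) (nat_lit 0) (nat_lit 0) (nat_lit 3) (nat_lit 0) (nat_lit 0) (nat_lit 0) (nat_lit 1) (nat_lit 0) (nat_lit 1) (nat_lit 0) (nat_lit 1) (nat_lit 0x11001100110010) (.cD (nat_lit 4) (.kc (nat_lit 36) (nat_lit 0x5001001)) (.cD (nat_lit 16) (.kc (nat_lit 52) (nat_lit 0x7001001)) (.cD (nat_lit 20) (.kc (nat_lit 48) (nat_lit 0x3001001)) (.cD (nat_lit 32) (.kA true (nat_lit 0x200200000500100300e001002002000003)) (.cD (nat_lit 36) (.dfs (nat_lit 9) (nat_lit 4102) (nat_lit 4103) (nat_lit 1) (nat_lit 1) (nat_lit 0) (nat_lit 0) (nat_lit 1) (nat_lit 4112) (nat_lit 0x40020010008004002001) (nat_lit 0) (nat_lit 1) (nat_lit 0) (nat_lit 1) (nat_lit 0) (nat_lit 1) (nat_lit 0) .nil) (.cD (nat_lit 48) (.kA true (nat_lit 0x400300500800100400100300c001002)) (.cD (nat_lit 52) (.kA true (nat_lit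 0x400700100800100400100300c001002)) .nil)))))))) (.cD (nat_lit 32) (.kF (nat_lit 16) (nat_lit 0x100400100c012008002002000003)) (.cD (nat_lit 36) (.kF (nat_lit 16) (nat_lit 0x100400100c012008002002000003)) (.cD (nat_lit 48) (.dfs (nat_lit 32) (nat_lit 4100) (nat_lit 4100) (nat_lit 0x1002001) (nat_lit 0x1002001) (nat_lit 0) (nat_lit 0) (nat_lit 3) (nat_lit 0) (nat_lit 0) (nat_lit 0) (nat_lit 1) (nat_lit 0) (nat_lit 1) (nat_lit 0) (nat_lit 1) (nat_lit 0x11001100110010) (.cD (nat_lit 4) (.kc (nat_lit 36) (nat_lit 0x5001001)) (.cD (nat_lit 16) (.kA true (nat_lit 0x400200100800100400100300c001002)) (.cD (nat_lit 20) (.kA true (nat_lit 0x400600500800100400100300c001002)) (.cD (nat_lit 32) (.kA true (nat_lit 0x200400c01000800500100300e001002002000003)) (.cD (nat_lit 36) (.kA true (nat_lit 0x400500600800100400100300c001002)) (.cD (nat_lit 48) (.kc (nat_lit 48) (nat_lit 0x3001001)) (.cD (nat_lit 52) (.kc (nat_lit 52) (nat_lit 0x7001001)) .nil)))))))) (.cD (nat_lit 52) (.dfs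 (nat_lit 32) (nat_lit 4100) (nat_lit 4100) (nat_lit 0x1002001) (nat_lit 0x1002001) (nat_lit 0) (nat_lit 0) (nat_lit 3) (nat_lit 0) (nat_lit 0) (nat_lit 0) (nat_lit 1) (nat_lit 0) (nat_lit 1) (nat_lit 0) (nat_lit 1) (nat_lit 0x11001100110010) (.cD (nat_lit 4) (.kc (nat_lit 36) (nat_lit 0x5001001)) (.cD (nat_lit 16) (.kA true (nat_lit 0x400200500800100400100300c001002)) (.cD (nat_lit 20) (.kA true (nat_lit 0x400600100800100400100300c001002)) (.cD (nat_lit 32) (.kA true (nat_lit 0x4001003008001002004008012008002002000003)) (.cD (nat_lit 36) (.kA true (nat_lit 0x400500200800100400100300c001002)) (.cD (nat_lit 48) (.kc (nat_lit 52) (nat_lit 0x7001001)) (.cD (nat_lit 52) (.kc (nat_lit 48) (nat_lit 0x3001001)) .nil)))))))) .nil)))))))) (.cD (nat_lit 8) (.dfs (nat_lit 16) (nat_lit 4098) (nat_lit 4098) (nat_lit 4097) (nat_lit 4097) (nat_lit 0) (nat_lit 0) (nat_lit 3) (nat_lit 0) (nat_lit 0) (nat_lit 0) (nat_lit 1) (nat_lit 0) (nat_lit 1) (nat_lit 0) (nat_lit 1) (nat_lit 0x101010101010100)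 (.cD (nat_lit 8) (.kc (nat_lit 20) (nat_lit 0x3001001)) (.cD (nat_lit 16) (.dfs (nat_lit 32) (nat_lit 4100) (nat_lit 4100) (nat_lit 0x1002001) (nat_lit 0x1002001) (nat_lit 0) (nat_lit 0) (nat_lit 3) (nat_lit 0) (nat_lit 0) (nat_lit 0) (nat_lit 1) (nat_lit 0) (nat_lit 1) (nat_lit 0) (nat_lit 1) (nat_lit 0x101010101010100) (.cD (nat_lit 8) (.kc (nat_lit 36) (nat_lit 0x5001001)) (.cD (nat_lit 16) (.kc (nat_lit 48) (nat_lit 0x3001001)) (.cD (nat_lit 24) (.kc (nat_lit 52) (nat_lit 0x7001001)) (.cD (nat_lit 32) (.kA false (nat_lit 0x400100200c002008010020050003001001000003)) (.cD (nat_lit 40) (.kA false (nat_lit 0x100100000400500200d002001001000003)) (.cD (nat_lit 48) (.kA false (nat_lit 0x600800c01000800400300200b002001001000003)) (.cD (nat_lit 56) (.kA false (nat_lit 0x400700200c002008010020050003001001000003)) .nil)))))))) (.cD (nat_lit 24) (.dfs (nat_lit 32) (nat_lit 4100) (nat_lit 4100) (nat_lit 0x1002001) (nat_lit 0x1002001) (nat_lit 0) (nat_lit 0) (nat_lit 3) (nat_lit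 0) (nat_lit 0) (nat_lit 0) (nat_lit 1) (nat_lit 0) (nat_lit 1) (nat_lit 0) (nat_lit 1) (nat_lit 0x101010101010100) (.cD (nat_lit 8) (.kc (nat_lit 36) (nat_lit 0x5001001)) (.cD (nat_lit 16) (.kc (nat_lit 52) (nat_lit 0x7001001)) (.cD (nat_lit 24) (.kc (nat_lit 48) (nat_lit 0x3001001)) (.cD (nat_lit 32) (.kA false (nat_lit 0x400100600c002008010020050003001001000003)) (.cD (nat_lit 40) (.kA false (nat_lit 0x100100000400500600d002001001000003)) (.cD (nat_lit 48) (.kA false (nat_lit 0x400700600c002008010020050003001001000003)) (.cD (nat_lit 56) (.kA false (nat_lit 0x600800a01000800400300600b002001001000003)) .nil)))))))) (.cD (nat_lit 32) (.kF (nat_lit 16) (nat_lit 0x100400100c012008002002000003)) (.cD (nat_lit 40) (.kF (nat_lit 16) (nat_lit 0x100400100c012008002002000003)) (.cD (nat_lit 48) (.dfs (nat_lit 32) (nat_lit 4100) (nat_lit 4100) (nat_lit 0x1002001) (nat_lit 0x1002001) (nat_lit 0) (nat_lit 0) (nat_lit 3) (nat_lit 0) (nat_lit 0) (nat_lit 0) (nat_lit 1) (nat_lit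 0) (nat_lit 1) (nat_lit 0) (nat_lit 1) (nat_lit 0x101010101010100) (.cD (nat_lit 8) (.kc (nat_lit 36) (nat_lit 0x5001001)) (.cD (nat_lit 16) (.kA false (nat_lit 0x600800401000800400300100b002001001000003)) (.cD (nat_lit 24) (.kA false (nat_lit 0x400700500c002008010020050003001001000003)) (.cD (nat_lit 32) (.kA false (nat_lit 0x400100300c002008010020050003001001000003)) (.cD (nat_lit 40) (.kA false (nat_lit 0x100100000400500700d002001001000003)) (.cD (nat_lit 48) (.kc (nat_lit 48) (nat_lit 0x3001001)) (.cD (nat_lit 56) (.kc (nat_lit 52) (nat_lit 0x7001001)) .nil)))))))) (.cD (nat_lit 56) (.dfs (nat_lit 32) (nat_lit 4100) (nat_lit 4100) (nat_lit 0x1002001) (nat_lit 0x1002001) (nat_lit 0) (nat_lit 0) (nat_lit 3) (nat_lit 0) (nat_lit 0) (nat_lit 0) (nat_lit 1) (nat_lit 0) (nat_lit 1) (nat_lit 0) (nat_lit 1) (nat_lit 0x101010101010100) (.cD (nat_lit 8) (.kc (nat_lit 36) (nat_lit 0x5001001)) (.cD (nat_lit 16) (.kA false (nat_lit 0x400700100c002008010020050003001001000003))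 (.cD (nat_lit 24) (.kA false (nat_lit 0x600800201000800400300500b002001001000003)) (.cD (nat_lit 32) (.kA false (nat_lit 0x400100700c002008010020050003001001000003)) (.cD (nat_lit 40) (.kA false (nat_lit 0x100100000400500300d002001001000003)) (.cD (nat_lit 48) (.kc (nat_lit 52) (nat_lit 0x7001001)) (.cD (nat_lit 56) (.kc (nat_lit 48) (nat_lit 0x3001001)) .nil)))))))) .nil)))))))) (.cD (nat_lit 16) (.kF (nat_lit 4) (nat_lit 0x2002000001003001002)) (.cD (nat_lit 20) (.kF (nat_lit 4) (nat_lit 0xe01e007001003001002)) (.cD (nat_lit 24) (.kF (nat_lit 4) (nat_lit 0x1002001002012008002002000003)) (.cD (nat_lit 32) (.dfs (nat_lit 16) (nat_lit 4098) (nat_lit 4098) (nat_lit 4097) (nat_lit 4097) (nat_lit 0) (nat_lit 0) (nat_lit 3) (nat_lit 0) (nat_lit 0) (nat_lit 0) (nat_lit 1) (nat_lit 0) (nat_lit 0x1008004) (nat_lit 32772) (nat_lit 0x1001004000008001014000018) (nat_lit 0x1000101110110) (.cD (nat_lit 4) (.kF (nat_lit 16) (nat_lit 0x1001000001006001002)) (.cD (nat_lit 8) (.kF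 (nat_lit 16) (nat_lit 0x1001000001006001002)) (.cD (nat_lit 16) (.dfs (nat_lit 32) (nat_lit 4100) (nat_lit 4100) (nat_lit 0x1002001) (nat_lit 0x1002001) (nat_lit 0) (nat_lit 0) (nat_lit 3) (nat_lit 0) (nat_lit 0) (nat_lit 0) (nat_lit 1) (nat_lit 0) (nat_lit 0x1008004) (nat_lit 32772) (nat_lit 0x1001004000008001014000018) (nat_lit 0x1000101110110) (.cD (nat_lit 4) (.kA true (nat_lit 0x100400600c002001001000002)) (.cD (nat_lit 8) (.kA false (nat_lit 0x100400200c002001001000002)) (.cD (nat_lit 16) (.kc (nat_lit 48) (nat_lit 0x3001001)) (.cD (nat_lit 20) (.kA true (nat_lit 0x300400600c002001001000002)) (.cD (nat_lit 24) (.kA false (nat_lit 0x300400200c002001001000002)) (.cD (nat_lit 32) (.kc (nat_lit 36) (nat_lit 0x5001001)) (.cD (nat_lit 48) (.kc (nat_lit 52) (nat_lit 0x7001001)) .nil)))))))) (.cD (nat_lit 20) (.dfs (nat_lit 32) (nat_lit 4100) (nat_lit 4100) (nat_lit 0x1002001) (nat_lit 0x1002001) (nat_lit 0) (nat_lit 0) (nat_lit 3) (nat_lit 0) (nat_lit 0) (nat_lit 0)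 (nat_lit 1) (nat_lit 0) (nat_lit 1) (nat_lit 0) (nat_lit 1) (nat_lit 0x11001100110010) (.cD (nat_lit 4) (.kA true (nat_lit 0x100400700c002001001000002)) (.cD (nat_lit 16) (.kA true (nat_lit 0x300400500c002001001000002)) (.cD (nat_lit 20) (.kc (nat_lit 48) (nat_lit 0x3001001)) (.cD (nat_lit 32) (.kc (nat_lit 36) (nat_lit 0x5001001)) (.cD (nat_lit 36) (.dfs (nat_lit 9) (nat_lit 4100) (nat_lit 4101) (nat_lit 1) (nat_lit 1) (nat_lit 0) (nat_lit 0) (nat_lit 1) (nat_lit 4128) (nat_lit 0x40020010008004002001) (nat_lit 0) (nat_lit 1) (nat_lit 0) (nat_lit 1) (nat_lit 0) (nat_lit 1) (nat_lit 0) .nil) (.cD (nat_lit 48) (.kA true (nat_lit 0x700400100c002001001000002)) (.cD (nat_lit 52) (.kc (nat_lit 52) (nat_lit 0x7001001)) .nil)))))))) (.cD (nat_lit 24) (.dfs (nat_lit 32) (nat_lit 4100) (nat_lit 4100) (nat_lit 0x1002001) (nat_lit 0x1002001) (nat_lit 0) (nat_lit 0) (nat_lit 3) (nat_lit 0) (nat_lit 0) (nat_lit 0) (nat_lit 1) (nat_lit 0) (nat_lit 1) (nat_lit 0) (nat_lit 1) (nat_lit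 0x101010101010100) (.cD (nat_lit 8) (.kA false (nat_lit 0x100400300c002001001000002)) (.cD (nat_lit 16) (.kA false (nat_lit 0x300400100c002001001000002)) (.cD (nat_lit 24) (.kc (nat_lit 48) (nat_lit 0x3001001)) (.cD (nat_lit 32) (.kc (nat_lit 36) (nat_lit 0x5001001)) (.cD (nat_lit 40) (.kA false (nat_lit 0x500400700c002001001000002)) (.cD (nat_lit 48) (.kA false (nat_lit 0x700400500c002001001000002)) (.cD (nat_lit 56) (.kc (nat_lit 52) (nat_lit 0x7001001)) .nil)))))))) (.cD (nat_lit 32) (.kc (nat_lit 20) (nat_lit 0x3001001)) (.cD (nat_lit 48) (.dfs (nat_lit 32) (nat_lit 4100) (nat_lit 4100) (nat_lit 0x1002001) (nat_lit 0x1002001) (nat_lit 0) (nat_lit 0) (nat_lit 3) (nat_lit 0) (nat_lit 0) (nat_lit 0) (nat_lit 1) (nat_lit 0) (nat_lit 0x1008004) (nat_lit 32772) (nat_lit 0x1001004000008001014000018) (nat_lit 0x1000101110110) (.cD (nat_lit 4) (.kA true (nat_lit 0x100400200c002001001000002)) (.cD (nat_lit 8) (.kA false (nat_lit 0x100400600c002001001000002)) (.cD (nat_lit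 16) (.kc (nat_lit 52) (nat_lit 0x7001001)) (.cD (nat_lit 20) (.kA true (nat_lit 0x700400200c002001001000002)) (.cD (nat_lit 24) (.kA false (nat_lit 0x700400600c002001001000002)) (.cD (nat_lit 32) (.kc (nat_lit 36) (nat_lit 0x5001001)) (.cD (nat_lit 48) (.kc (nat_lit 48) (nat_lit 0x3001001)) .nil)))))))) .nil)))))))) (.cD (nat_lit 48) (.kF (nat_lit 4) (nat_lit 0x1002001002012008002002000003)) .nil)))))))))
theorem c366 : (chk [(x120, s259), (x120, s254)] [] p366).n x120 s366 = true := by decide +kernel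
noncomputable def p367 : Pf := (.ext (nat_lit 0) (nat_lit 0) (nat_lit 0x1040010020008002) (nat_lit 0x16008004002001006001001000010008004002001005003) (nat_lit 0x2004008016) (nat_lit 0x1004001) (nat_lit 0x1005001) (nat_lit 0x10008004006005014008004002001) (.dfs (nat_lit 1) (nat_lit 0x1002004008016) (nat_lit 0x1002004008012) (nat_lit 0x1010001) (nat_lit 0x1014001) (nat_lit 0) (nat_lit 0) (nat_lit 2) (nat_lit 0) (nat_lit 0) (nat_lit 1) (nat_lit 1) (nat_lit 0) (nat_lit 1) (nat_lit 0) (nat_lit 1) (nat_lit 0x202020202020202) (.cD (nat_lit 1) (.dfs (nat_lit 4) (nat_lit 0x100400801002c) (nat_lit 0x100c008010024) (nat_lit 0x1020002001) (nat_lit 0x102000a001) (nat_lit 0) (nat_lit 0) (nat_lit 2) (nat_lit 0) (nat_lit 0) (nat_lit 5) (nat_lit 1) (nat_lit 0) (nat_lit 4104) (nat_lit 8) (nat_lit 0x1000005000015) (nat_lit 0x200020) (.cD (nat_lit 5) (.kS (nat_lit 1) (nat_lit 0x10001030070001006004008018003002002000001010030040001004) (nat_lit 4126) (nat_lit 0x8004002003) (nat_lit 0x200200000400600801000d00400301003005800e00100200200000600400801800100401000103007003f002006))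 (.cD (nat_lit 21) (.kA true (nat_lit 0xe004008010003001010030050001001001000003)) .nil))) (.cD (nat_lit 9) (.kS (nat_lit 0) (nat_lit 0x4004000004008010020001002) (nat_lit 0x1029022) (nat_lit 0x8004002005010008004006001) (nat_lit 0xc00801002800100a001005005000004008010020001002002004004000004)) (.cD (nat_lit 17) (.dfs (nat_lit 4) (nat_lit 0x100400801002c) (nat_lit 0x100c008010024) (nat_lit 0x1020002001) (nat_lit 0x102000a001) (nat_lit 0) (nat_lit 0) (nat_lit 2) (nat_lit 0) (nat_lit 0) (nat_lit 5) (nat_lit 1) (nat_lit 0) (nat_lit 4104) (nat_lit 8) (nat_lit 0x1000005000015) (nat_lit 0x200020) (.cD (nat_lit 5) (.kA true (nat_lit 0x3010030058001001010030040001002)) (.cD (nat_lit 21) (.kA true (nat_lit 0x23010030058001001010030040001002)) .nil))) (.cD (nat_lit 25) (.kS (nat_lit 0) (nat_lit 0x4004000004008010020001002) (nat_lit 0x1039022) (nat_lit 0x8004002005010008004006001) (nat_lit 0xc00801002800100a001005005000004008010020001002002004004000004)) (.cD (nat_lit 33) (.dfs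 (nat_lit 4) (nat_lit 0x100400801002c) (nat_lit 0x100c008010024) (nat_lit 0x1020002001) (nat_lit 0x102000a001) (nat_lit 0) (nat_lit 0) (nat_lit 2) (nat_lit 0) (nat_lit 0) (nat_lit 5) (nat_lit 1) (nat_lit 0) (nat_lit 4104) (nat_lit 8) (nat_lit 0x1000005000015) (nat_lit 0x200020) (.cD (nat_lit 5) (.cut (nat_lit 0)) (.cD (nat_lit 21) (.kA true (nat_lit 0xe004008010003001010030050001001001000003)) .nil))) (.cD (nat_lit 41) (.kS (nat_lit 0) (nat_lit 0x4004000004008010020001002) (nat_lit 0x1009022) (nat_lit 0x8004002005010008004006001) (nat_lit 0xc00801002800100a001005005000004008010020001002002004004000004)) (.cD (nat_lit 49) (.dfs (nat_lit 4) (nat_lit 0x100400801002c) (nat_lit 0x100c008010024) (nat_lit 0x1020002001) (nat_lit 0x102000a001) (nat_lit 0) (nat_lit 0) (nat_lit 2) (nat_lit 0) (nat_lit 0) (nat_lit 5) (nat_lit 1) (nat_lit 0) (nat_lit 4104) (nat_lit 8) (nat_lit 0x1000005000015) (nat_lit 0x200020) (.cD (nat_lit 5) (.kA true (nat_lit 0x3010030058001001010030040001002))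 (.cD (nat_lit 21) (.kA true (nat_lit 0x23010030058001001010030040001002)) .nil))) (.cD (nat_lit 57) (.kS (nat_lit 0) (nat_lit 0x4004000004008010020001002) (nat_lit 0x1019022) (nat_lit 0x8004002005010008004006001) (nat_lit 0xc00801002800100a001005005000004008010020001002002004004000004)) .nil))))))))))
theorem c367 : (chk [(x120, s366)] [] p367).n x120 s367 = true := by decide +kernel
noncomputable def p368 : Pf := (.ext (nat_lit 1) (nat_lit 0) (nat_lit 0x1048030020005) (nat_lit 0x10008004002003010006002001001002) (nat_lit 0x2003004008) (nat_lit 4107) (nat_lit 4107) (nat_lit 0xc004002001) (.dfs (nat_lit 11) (nat_lit 0x1002003004008) (nat_lit 0x100200300400c) (nat_lit 4097) (nat_lit 4097) (nat_lit 0) (nat_lit 0) (nat_lit 2) (nat_lit 1) (nat_lit 0) (nat_lit 11) (nat_lit 1) (nat_lit 0) (nat_lit 4160) (nat_lit 64) (nat_lit 0x100000b00000f00001b00001f) (nat_lit 0x88008800) (.cD (nat_lit 11) (.cut (nat_lit 1)) (.cD (nat_lit 15) (.kS (nat_lit 1) (nat_lit 0x2004008010005001)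 (nat_lit 4139) (nat_lit 0x8004002003) (nat_lit 0x8008000004002008010001001008008000004006008010001002002004008010007006005)) (.cD (nat_lit 27) (.kS (nat_lit 1) (nat_lit 0x2004008010005001) (nat_lit 4127) (nat_lit 0x8004002003) (nat_lit 0x800800000400200801000100100800800000400600801000100200200400801000d006005)) (.cD (nat_lit 31) (.cut (nat_lit 0)) .nil))))))
theorem c368 : (chk [(x120, s367), (x120, s364)] [] p368).n x120 s368 = true := by decide +kernel
noncomputable def p369 : Pf := (.anc (nat_lit 72) (nat_lit 0x1001000014006002) (nat_lit 0x1005020010008) (.czp (nat_lit 64) (nat_lit 0) (nat_lit 0x1040020010008004) z6 (.dfs (nat_lit 8) (nat_lit 4097) (nat_lit 4097) (nat_lit 1) (nat_lit 1) (nat_lit 0) (nat_lit 0) (nat_lit 3) (nat_lit 0) (nat_lit 0) (nat_lit 0) (nat_lit 1) (nat_lit 0) (nat_lit 0x1008004) (nat_lit 32772) (nat_lit 0x1001004000008001014000018) (nat_lit 0x1000101110110) (.cD (nat_lit 4) (.dfs (nat_lit 16) (nat_lit 4098) (nat_lit 4098) (nat_lit 4097) (nat_lit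 4097) (nat_lit 0) (nat_lit 0) (nat_lit 3) (nat_lit 0) (nat_lit 0) (nat_lit 0) (nat_lit 1) (nat_lit 0) (nat_lit 1) (nat_lit 0) (nat_lit 1) (nat_lit 0x11001100110010) (.cD (nat_lit 4) (.kc (nat_lit 24) (nat_lit 0x3001001)) (.cD (nat_lit 16) (.dfs (nat_lit 32) (nat_lit 4100) (nat_lit 4100) (nat_lit 0x1002001) (nat_lit 0x1002001) (nat_lit 0) (nat_lit 0) (nat_lit 3) (nat_lit 0) (nat_lit 0) (nat_lit 0) (nat_lit 1) (nat_lit 0) (nat_lit 1) (nat_lit 0) (nat_lit 1) (nat_lit 0x11001100110010) (.cD (nat_lit 4) (.kc (nat_lit 40) (nat_lit 0x5001001)) (.cD (nat_lit 16) (.kc (nat_lit 48) (nat_lit 0x3001001)) (.cD (nat_lit 20) (.kc (nat_lit 56) (nat_lit 0x7001001)) (.cD (nat_lit 32) (.kA false (nat_lit 0x5004002008001002004008014007001001000003)) (.cD (nat_lit 36) (.kA false (nat_lit 0x100100000400100200d001001001000003)) (.cD (nat_lit 48) (.kA false (nat_lit 0x600800c01000600400100200d001001001000003)) (.cD (nat_lit 52) (.kA false (nat_lit 0x5004002008001002004008014007001001000003))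 .nil)))))))) (.cD (nat_lit 20) (.dfs (nat_lit 32) (nat_lit 4100) (nat_lit 4100) (nat_lit 0x1002001) (nat_lit 0x1002001) (nat_lit 0) (nat_lit 0) (nat_lit 3) (nat_lit 0) (nat_lit 0) (nat_lit 0) (nat_lit 1) (nat_lit 0) (nat_lit 1) (nat_lit 0) (nat_lit 1) (nat_lit 0x11001100110010) (.cD (nat_lit 4) (.kc (nat_lit 40) (nat_lit 0x5001001)) (.cD (nat_lit 16) (.kc (nat_lit 56) (nat_lit 0x7001001)) (.cD (nat_lit 20) (.kc (nat_lit 48) (nat_lit 0x3001001)) (.cD (nat_lit 32) (.kA false (nat_lit 0x5004002008001002004008014007001001000003)) (.cD (nat_lit 36) (.kA false (nat_lit 0x100100000400100200d001001001000003)) (.cD (nat_lit 48) (.kA false (nat_lit 0x600800a01000600400100200d001001001000003)) (.cD (nat_lit 52) (.kA false (nat_lit 0x5004002008001002004008014007001001000003)) .nil)))))))) (.cD (nat_lit 32) (.kF (nat_lit 16) (nat_lit 0x4010006002002000001006001003)) (.cD (nat_lit 36) (.kF (nat_lit 16) (nat_lit 0x1001000001007001002002000003)) (.cD (nat_lit 48) (.dfs (nat_lit 32)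 (nat_lit 4100) (nat_lit 4100) (nat_lit 0x1002001) (nat_lit 0x1002001) (nat_lit 0) (nat_lit 0) (nat_lit 3) (nat_lit 0) (nat_lit 0) (nat_lit 0) (nat_lit 1) (nat_lit 0) (nat_lit 1) (nat_lit 0) (nat_lit 1) (nat_lit 0x11001100110010) (.cD (nat_lit 4) (.kc (nat_lit 40) (nat_lit 0x5001001)) (.cD (nat_lit 16) (.kA false (nat_lit 0x200c00801e00500400100200d001001001000003)) (.cD (nat_lit 20) (.kA false (nat_lit 0x200200000400100200d001001001000003)) (.cD (nat_lit 32) (.kA false (nat_lit 0x5004002008001002004008014007001001000003)) (.cD (nat_lit 36) (.kA false (nat_lit 0x100100000400100200d001001001000003)) (.cD (nat_lit 48) (.kc (nat_lit 48) (nat_lit 0x3001001)) (.cD (nat_lit 52) (.kc (nat_lit 56) (nat_lit 0x7001001)) .nil)))))))) (.cD (nat_lit 52) (.dfs (nat_lit 32) (nat_lit 4100) (nat_lit 4100) (nat_lit 0x1002001) (nat_lit 0x1002001) (nat_lit 0) (nat_lit 0) (nat_lit 3) (nat_lit 0) (nat_lit 0) (nat_lit 0) (nat_lit 1) (nat_lit 0) (nat_lit 1) (nat_lit 0) (nat_lit 1) (nat_lit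 0x11001100110010) (.cD (nat_lit 4) (.kc (nat_lit 40) (nat_lit 0x5001001)) (.cD (nat_lit 16) (.kA false (nat_lit 0x200c00a01e00500400100200d001001001000003)) (.cD (nat_lit 20) (.kA false (nat_lit 0x200200000400100200d001001001000003)) (.cD (nat_lit 32) (.kA false (nat_lit 0x5004002008001002004008014007001001000003)) (.cD (nat_lit 36) (.kA false (nat_lit 0x100100000400100200d001001001000003)) (.cD (nat_lit 48) (.kc (nat_lit 56) (nat_lit 0x7001001)) (.cD (nat_lit 52) (.kc (nat_lit 48) (nat_lit 0x3001001)) .nil)))))))) .nil)))))))) (.cD (nat_lit 8) (.dfs (nat_lit 16) (nat_lit 4098) (nat_lit 4098) (nat_lit 4097) (nat_lit 4097) (nat_lit 0) (nat_lit 0) (nat_lit 3) (nat_lit 0) (nat_lit 0) (nat_lit 0) (nat_lit 1) (nat_lit 0) (nat_lit 1) (nat_lit 0) (nat_lit 1) (nat_lit 0x101010101010100) (.cD (nat_lit 8) (.kc (nat_lit 24) (nat_lit 0x3001001)) (.cD (nat_lit 16) (.dfs (nat_lit 32) (nat_lit 4100) (nat_lit 4100) (nat_lit 0x1002001) (nat_lit 0x1002001) (nat_lit 0) (nat_lit 0) (nat_lit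 3) (nat_lit 0) (nat_lit 0) (nat_lit 0) (nat_lit 1) (nat_lit 0) (nat_lit 1) (nat_lit 0) (nat_lit 1) (nat_lit 0x101010101010100) (.cD (nat_lit 8) (.kc (nat_lit 40) (nat_lit 0x5001001)) (.cD (nat_lit 16) (.kc (nat_lit 48) (nat_lit 0x3001001)) (.cD (nat_lit 24) (.kc (nat_lit 56) (nat_lit 0x7001001)) (.cD (nat_lit 32) (.dfs (nat_lit 5) (nat_lit 0x1004001002008) (nat_lit 0x1005001002008) (nat_lit 1) (nat_lit 1) (nat_lit 0) (nat_lit 0) (nat_lit 2) (nat_lit 0) (nat_lit 0) (nat_lit 4) (nat_lit 1) (nat_lit 0) (nat_lit 4104) (nat_lit 8) (nat_lit 0x1000004000014) (nat_lit 0x100010) (.cD (nat_lit 4) (.cut (nat_lit 1)) (.cD (nat_lit 20) (.cut (nat_lit 0)) .nil))) (.cD (nat_lit 40) (.dfs (nat_lit 5) (nat_lit 4101) (nat_lit 4100) (nat_lit 1) (nat_lit 1) (nat_lit 0) (nat_lit 0) (nat_lit 1) (nat_lit 4128) (nat_lit 0x40020010008004002001) (nat_lit 0) (nat_lit 1) (nat_lit 0) (nat_lit 1) (nat_lit 0) (nat_lit 1) (nat_lit 0) .nil) (.cD (nat_lit 48) (.kA false (nat_lit 0x5004002008001002004008014007001001000003))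 (.cD (nat_lit 56) (.kA false (nat_lit 0x5004002008001002004008014007001001000003)) .nil)))))))) (.cD (nat_lit 24) (.dfs (nat_lit 32) (nat_lit 4100) (nat_lit 4100) (nat_lit 0x1002001) (nat_lit 0x1002001) (nat_lit 0) (nat_lit 0) (nat_lit 3) (nat_lit 0) (nat_lit 0) (nat_lit 0) (nat_lit 1) (nat_lit 0) (nat_lit 1) (nat_lit 0) (nat_lit 1) (nat_lit 0x101010101010100) (.cD (nat_lit 8) (.kc (nat_lit 40) (nat_lit 0x5001001)) (.cD (nat_lit 16) (.kc (nat_lit 56) (nat_lit 0x7001001)) (.cD (nat_lit 24) (.kc (nat_lit 48) (nat_lit 0x3001001)) (.cD (nat_lit 32) (.kA false (nat_lit 0x5004002008001002004008014007001001000003)) (.cD (nat_lit 40) (.kA false (nat_lit 0x100100000400100200d001001001000003)) (.cD (nat_lit 48) (.kA false (nat_lit 0x5004002008001002004008014007001001000003)) (.cD (nat_lit 56) (.kA false (nat_lit 0x5004002008001002004008014007001001000003)) .nil)))))))) (.cD (nat_lit 32) (.kF (nat_lit 16) (nat_lit 0x1001000006014008001006001003)) (.cD (nat_lit 40) (.kF (nat_lit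 16) (nat_lit 0x1001000001007001002002000003)) (.cD (nat_lit 48) (.dfs (nat_lit 32) (nat_lit 4100) (nat_lit 4100) (nat_lit 0x1002001) (nat_lit 0x1002001) (nat_lit 0) (nat_lit 0) (nat_lit 3) (nat_lit 0) (nat_lit 0) (nat_lit 0) (nat_lit 1) (nat_lit 0) (nat_lit 1) (nat_lit 0) (nat_lit 1) (nat_lit 0x101010101010100) (.cD (nat_lit 8) (.kc (nat_lit 40) (nat_lit 0x5001001)) (.cD (nat_lit 16) (.kA false (nat_lit 0x400200300800100400100200c001002)) (.cD (nat_lit 24) (.kA false (nat_lit 0x400600300800100400100200c001002)) (.cD (nat_lit 32) (.kA false (nat_lit 0x5004002008001002004008014007001001000003)) (.cD (nat_lit 40) (.kA false (nat_lit 0x400500300800100400100200c001002)) (.cD (nat_lit 48) (.kc (nat_lit 48) (nat_lit 0x3001001)) (.cD (nat_lit 56) (.kc (nat_lit 56) (nat_lit 0x7001001)) .nil)))))))) (.cD (nat_lit 56) (.dfs (nat_lit 32) (nat_lit 4100) (nat_lit 4100) (nat_lit 0x1002001) (nat_lit 0x1002001) (nat_lit 0) (nat_lit 0) (nat_lit 3) (nat_lit 0) (nat_lit 0) (nat_lit 0)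 (nat_lit 1) (nat_lit 0) (nat_lit 1) (nat_lit 0) (nat_lit 1) (nat_lit 0x101010101010100) (.cD (nat_lit 8) (.kc (nat_lit 40) (nat_lit 0x5001001)) (.cD (nat_lit 16) (.kA false (nat_lit 0x400200700800100400100200c001002)) (.cD (nat_lit 24) (.kA false (nat_lit 0x400600700800100400100200c001002)) (.cD (nat_lit 32) (.kA false (nat_lit 0x5004002008001002004008014007001001000003)) (.cD (nat_lit 40) (.kA false (nat_lit 0x400500700800100400100200c001002)) (.cD (nat_lit 48) (.kc (nat_lit 56) (nat_lit 0x7001001)) (.cD (nat_lit 56) (.kc (nat_lit 48) (nat_lit 0x3001001)) .nil)))))))) .nil)))))))) (.cD (nat_lit 16) (.kF (nat_lit 8) (nat_lit 0x2002000001003001002)) (.cD (nat_lit 20) (.kF (nat_lit 8) (nat_lit 0xe01e005001003001002)) (.cD (nat_lit 24) (.kF (nat_lit 8) (nat_lit 0x100100000c014008002002000001003001004)) (.cD (nat_lit 32) (.dfs (nat_lit 16) (nat_lit 4098) (nat_lit 4098) (nat_lit 4097) (nat_lit 4097) (nat_lit 0) (nat_lit 0) (nat_lit 3) (nat_lit 0) (nat_lit 0) (nat_lit 0)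 (nat_lit 1) (nat_lit 0) (nat_lit 0x1008004) (nat_lit 32772) (nat_lit 0x1001004000008001014000018) (nat_lit 0x1000101110110) (.cD (nat_lit 4) (.kF (nat_lit 16) (nat_lit 0x1001000001006001002)) (.cD (nat_lit 8) (.kF (nat_lit 16) (nat_lit 0x1001000001006001002)) (.cD (nat_lit 16) (.dfs (nat_lit 32) (nat_lit 4100) (nat_lit 4100) (nat_lit 0x1002001) (nat_lit 0x1002001) (nat_lit 0) (nat_lit 0) (nat_lit 3) (nat_lit 0) (nat_lit 0) (nat_lit 0) (nat_lit 1) (nat_lit 0) (nat_lit 0x1008004) (nat_lit 32772) (nat_lit 0x1001004000008001014000018) (nat_lit 0x1000101110110) (.cD (nat_lit 4) (.kA false (nat_lit 0x100100000400100200c001002)) (.cD (nat_lit 8) (.dfs (nat_lit 5) (nat_lit 4100) (nat_lit 4101) (nat_lit 1) (nat_lit 1) (nat_lit 0) (nat_lit 0) (nat_lit 1) (nat_lit 4128) (nat_lit 0x40020010008004002001) (nat_lit 0) (nat_lit 1) (nat_lit 0) (nat_lit 1) (nat_lit 0) (nat_lit 1) (nat_lit 0) .nil) (.cD (nat_lit 16) (.kc (nat_lit 48) (nat_lit 0x3001001)) (.cD (nat_lit 20) (.kA false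 (nat_lit 0x100100000400100200c001002)) (.cD (nat_lit 24) (.kA false (nat_lit 0x300400200c002001001000002)) (.cD (nat_lit 32) (.kc (nat_lit 40) (nat_lit 0x5001001)) (.cD (nat_lit 48) (.kc (nat_lit 56) (nat_lit 0x7001001)) .nil)))))))) (.cD (nat_lit 20) (.dfs (nat_lit 32) (nat_lit 4100) (nat_lit 4100) (nat_lit 0x1002001) (nat_lit 0x1002001) (nat_lit 0) (nat_lit 0) (nat_lit 3) (nat_lit 0) (nat_lit 0) (nat_lit 0) (nat_lit 1) (nat_lit 0) (nat_lit 1) (nat_lit 0) (nat_lit 1) (nat_lit 0x11001100110010) (.cD (nat_lit 4) (.kA false (nat_lit 0x100100000400100200c001002)) (.cD (nat_lit 16) (.kA false (nat_lit 0x100100000400100200c001002)) (.cD (nat_lit 20) (.kc (nat_lit 48) (nat_lit 0x3001001)) (.cD (nat_lit 32) (.kc (nat_lit 40) (nat_lit 0x5001001)) (.cD (nat_lit 36) (.kA false (nat_lit 0x100100000400100200c001002)) (.cD (nat_lit 48) (.kA false (nat_lit 0x100100000400100200c001002)) (.cD (nat_lit 52) (.kc (nat_lit 56) (nat_lit 0x7001001)) .nil)))))))) (.cD (nat_lit 24) (.dfs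 (nat_lit 32) (nat_lit 4100) (nat_lit 4100) (nat_lit 0x1002001) (nat_lit 0x1002001) (nat_lit 0) (nat_lit 0) (nat_lit 3) (nat_lit 0) (nat_lit 0) (nat_lit 0) (nat_lit 1) (nat_lit 0) (nat_lit 1) (nat_lit 0) (nat_lit 1) (nat_lit 0x101010101010100) (.cD (nat_lit 8) (.kA false (nat_lit 0x100400300c002001001000002)) (.cD (nat_lit 16) (.kA false (nat_lit 0x300400100c002001001000002)) (.cD (nat_lit 24) (.kc (nat_lit 48) (nat_lit 0x3001001)) (.cD (nat_lit 32) (.kc (nat_lit 40) (nat_lit 0x5001001)) (.cD (nat_lit 40) (.kA false (nat_lit 0x500400700c002001001000002)) (.cD (nat_lit 48) (.kA false (nat_lit 0x700400500c002001001000002)) (.cD (nat_lit 56) (.kc (nat_lit 56) (nat_lit 0x7001001)) .nil)))))))) (.cD (nat_lit 32) (.kc (nat_lit 24) (nat_lit 0x3001001)) (.cD (nat_lit 48) (.dfs (nat_lit 32) (nat_lit 4100) (nat_lit 4100) (nat_lit 0x1002001) (nat_lit 0x1002001) (nat_lit 0) (nat_lit 0) (nat_lit 3) (nat_lit 0) (nat_lit 0) (nat_lit 0) (nat_lit 1) (nat_lit 0) (nat_lit 0x1008004)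 (nat_lit 32772) (nat_lit 0x1001004000008001014000018) (nat_lit 0x1000101110110) (.cD (nat_lit 4) (.kA false (nat_lit 0x100100000400100200c001002)) (.cD (nat_lit 8) (.kA false (nat_lit 0x100400600c002001001000002)) (.cD (nat_lit 16) (.kc (nat_lit 56) (nat_lit 0x7001001)) (.cD (nat_lit 20) (.kA false (nat_lit 0x100100000400100200c001002)) (.cD (nat_lit 24) (.kA false (nat_lit 0x700400600c002001001000002)) (.cD (nat_lit 32) (.kc (nat_lit 40) (nat_lit 0x5001001)) (.cD (nat_lit 48) (.kc (nat_lit 48) (nat_lit 0x3001001)) .nil)))))))) .nil)))))))) (.cD (nat_lit 48) (.kF (nat_lit 8) (nat_lit 0x3003000001003001002)) .nil))))))))))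
theorem c369 : (chk [(x120, s365), (x120, s368)] [] p369).n x120 s369 = true := by decide +kernel
noncomputable def p370 : Pf := (.ext (nat_lit 1) (nat_lit 0) (nat_lit 0x1040030020004) (nat_lit 0x1002004008005001) (nat_lit 0x2003004008) (nat_lit 4107) (nat_lit 4107) (nat_lit 0xc004002001) (.dfs (nat_lit 11) (nat_lit 0x1002003004008) (nat_lit 0x100200300400c) (nat_lit 4097) (nat_lit 4097) (nat_lit 0) (nat_lit 0) (nat_lit 2) (nat_lit 1) (nat_lit 0) (nat_lit 11) (nat_lit 1) (nat_lit 0) (nat_lit 4160) (nat_lit 64) (nat_lit 0x100000b00000f00001b00001f) (nat_lit 0x88008800) (.cD (nat_lit 11) (.cut (nat_lit 0)) (.cD (nat_lit 15) (.iso x120 s369 (nat_lit 0) (nat_lit 0x1040020010008004012001) (nat_lit 0x40020010008004012001) [(nat_lit 0x1000800400200d001001), (nat_lit 0x1000800400200d003001), (nat_lit 0x10008004002009005001)] (.cut (nat_lit 0))) (.cD (nat_lit 27) (.kS (nat_lit 1) (nat_lit 0x2006008010002008008000002) (nat_lit 4159) (nat_lit 0x8004002003) (nat_lit 0x800800000200400801000100100800800000200600801000f001004))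 (.cD (nat_lit 31) (.kS (nat_lit 1) (nat_lit 0x2006008010002008008000002) (nat_lit 4123) (nat_lit 0x8004002003) (nat_lit 0x800800000200400801000100100800800000200600801000d001004)) .nil))))))
theorem c370 : (chk [(x120, s369)] [g7] p370).n x120 s370 = true := by decide +kernel
noncomputable def p371 : Pf := (.anc (nat_lit 68) (nat_lit 0x10002002002000002) (nat_lit 0x1009020010004) (.czp (nat_lit 64) (nat_lit 0) (nat_lit 0x1040020010008004) z6 (.dfs (nat_lit 4) (nat_lit 4097) (nat_lit 4097) (nat_lit 1) (nat_lit 1) (nat_lit 0) (nat_lit 0) (nat_lit 3) (nat_lit 0) (nat_lit 0) (nat_lit 0) (nat_lit 1) (nat_lit 0) (nat_lit 0x1008004) (nat_lit 32772) (nat_lit 0x1001004000008001014000018) (nat_lit 0x1000101110110) (.cD (nat_lit 4) (.dfs (nat_lit 16) (nat_lit 4098) (nat_lit 4098) (nat_lit 4097) (nat_lit 4097) (nat_lit 0) (nat_lit 0) (nat_lit 3) (nat_lit 0) (nat_lit 0) (nat_lit 0) (nat_lit 1) (nat_lit 0) (nat_lit 1) (nat_lit 0) (nat_lit 1) (nat_lit 0x11001100110010) (.cD (nat_lit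 4) (.kc (nat_lit 20) (nat_lit 0x3001001)) (.cD (nat_lit 16) (.dfs (nat_lit 32) (nat_lit 4100) (nat_lit 4100) (nat_lit 0x1002001) (nat_lit 0x1002001) (nat_lit 0) (nat_lit 0) (nat_lit 3) (nat_lit 0) (nat_lit 0) (nat_lit 0) (nat_lit 1) (nat_lit 0) (nat_lit 1) (nat_lit 0) (nat_lit 1) (nat_lit 0x11001100110010) (.cD (nat_lit 4) (.kc (nat_lit 36) (nat_lit 0x5001001)) (.cD (nat_lit 16) (.kc (nat_lit 48) (nat_lit 0x3001001)) (.cD (nat_lit 20) (.kc (nat_lit 52) (nat_lit 0x7001001)) (.cD (nat_lit 32) (.dfs (nat_lit 9) (nat_lit 0x1004001003008) (nat_lit 0x1005001003008) (nat_lit 4098) (nat_lit 4098) (nat_lit 0) (nat_lit 0) (nat_lit 2) (nat_lit 1) (nat_lit 0) (nat_lit 8) (nat_lit 1) (nat_lit 0) (nat_lit 4100) (nat_lit 4) (nat_lit 0x1000048000058) (nat_lit 0x10001000000000000000000) (.cD (nat_lit 72) (.kb (nat_lit 9) (nat_lit 0x1001000014006001001003) (nat_lit 0x1020010008044002001)) (.cD (nat_lit 88) (.kb (nat_lit 25) (nat_lit 0x1001000014006005001003) (nat_lit 0x1020010008044002001))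 .nil))) (.cD (nat_lit 36) (.kA true (nat_lit 0x100100000400100300d001001001000003)) (.cD (nat_lit 48) (.kA true (nat_lit 0x600800401000400400100300d001001001000003)) (.cD (nat_lit 52) (.kA true (nat_lit 0x5004003008001008004002005007001001000003)) .nil)))))))) (.cD (nat_lit 20) (.dfs (nat_lit 32) (nat_lit 4100) (nat_lit 4100) (nat_lit 0x1002001) (nat_lit 0x1002001) (nat_lit 0) (nat_lit 0) (nat_lit 3) (nat_lit 0) (nat_lit 0) (nat_lit 0) (nat_lit 1) (nat_lit 0) (nat_lit 1) (nat_lit 0) (nat_lit 1) (nat_lit 0x11001100110010) (.cD (nat_lit 4) (.kc (nat_lit 36) (nat_lit 0x5001001)) (.cD (nat_lit 16) (.kc (nat_lit 52) (nat_lit 0x7001001)) (.cD (nat_lit 20) (.kc (nat_lit 48) (nat_lit 0x3001001)) (.cD (nat_lit 32) (.kA true (nat_lit 0x5004003008001008004002005007001001000003)) (.cD (nat_lit 36) (.dfs (nat_lit 9) (nat_lit 4102) (nat_lit 4103) (nat_lit 1) (nat_lit 1) (nat_lit 0) (nat_lit 0) (nat_lit 1) (nat_lit 4112) (nat_lit 0x40020010008004002001) (nat_lit 0) (nat_lit 1) (nat_lit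 0) (nat_lit 1) (nat_lit 0) (nat_lit 1) (nat_lit 0) .nil) (.cD (nat_lit 48) (.kA true (nat_lit 0x400300500800100400100300c001002)) (.cD (nat_lit 52) (.kA true (nat_lit 0x400700100800100400100300c001002)) .nil)))))))) (.cD (nat_lit 32) (.kF (nat_lit 16) (nat_lit 0x100400100c012004002002000003)) (.cD (nat_lit 36) (.kF (nat_lit 16) (nat_lit 0x100400100c012004002002000003)) (.cD (nat_lit 48) (.dfs (nat_lit 32) (nat_lit 4100) (nat_lit 4100) (nat_lit 0x1002001) (nat_lit 0x1002001) (nat_lit 0) (nat_lit 0) (nat_lit 3) (nat_lit 0) (nat_lit 0) (nat_lit 0) (nat_lit 1) (nat_lit 0) (nat_lit 1) (nat_lit 0) (nat_lit 1) (nat_lit 0x11001100110010) (.cD (nat_lit 4) (.kc (nat_lit 36) (nat_lit 0x5001001)) (.cD (nat_lit 16) (.kA true (nat_lit 0x400200100800100400100300c001002)) (.cD (nat_lit 20) (.kA true (nat_lit 0x400600500800100400100300c001002)) (.cD (nat_lit 32) (.kA true (nat_lit 0x5004003008001008004002005007001001000003)) (.cD (nat_lit 36) (.kA true (nat_lit 0x400500600800100400100300c001002))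 (.cD (nat_lit 48) (.kc (nat_lit 48) (nat_lit 0x3001001)) (.cD (nat_lit 52) (.kc (nat_lit 52) (nat_lit 0x7001001)) .nil)))))))) (.cD (nat_lit 52) (.dfs (nat_lit 32) (nat_lit 4100) (nat_lit 4100) (nat_lit 0x1002001) (nat_lit 0x1002001) (nat_lit 0) (nat_lit 0) (nat_lit 3) (nat_lit 0) (nat_lit 0) (nat_lit 0) (nat_lit 1) (nat_lit 0) (nat_lit 1) (nat_lit 0) (nat_lit 1) (nat_lit 0x11001100110010) (.cD (nat_lit 4) (.kc (nat_lit 36) (nat_lit 0x5001001)) (.cD (nat_lit 16) (.kA true (nat_lit 0x400200500800100400100300c001002)) (.cD (nat_lit 20) (.kA true (nat_lit 0x400600100800100400100300c001002)) (.cD (nat_lit 32) (.kA true (nat_lit 0x5004003008001008004002005007001001000003)) (.cD (nat_lit 36) (.kA true (nat_lit 0x400500200800100400100300c001002)) (.cD (nat_lit 48) (.kc (nat_lit 52) (nat_lit 0x7001001)) (.cD (nat_lit 52) (.kc (nat_lit 48) (nat_lit 0x3001001)) .nil)))))))) .nil)))))))) (.cD (nat_lit 8) (.dfs (nat_lit 16) (nat_lit 4098) (nat_lit 4098) (nat_lit 4097) (nat_lit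 4097) (nat_lit 0) (nat_lit 0) (nat_lit 3) (nat_lit 0) (nat_lit 0) (nat_lit 0) (nat_lit 1) (nat_lit 0) (nat_lit 1) (nat_lit 0) (nat_lit 1) (nat_lit 0x101010101010100) (.cD (nat_lit 8) (.kc (nat_lit 20) (nat_lit 0x3001001)) (.cD (nat_lit 16) (.dfs (nat_lit 32) (nat_lit 4100) (nat_lit 4100) (nat_lit 0x1002001) (nat_lit 0x1002001) (nat_lit 0) (nat_lit 0) (nat_lit 3) (nat_lit 0) (nat_lit 0) (nat_lit 0) (nat_lit 1) (nat_lit 0) (nat_lit 1) (nat_lit 0) (nat_lit 1) (nat_lit 0x101010101010100) (.cD (nat_lit 8) (.kc (nat_lit 36) (nat_lit 0x5001001)) (.cD (nat_lit 16) (.kc (nat_lit 48) (nat_lit 0x3001001)) (.cD (nat_lit 24) (.kc (nat_lit 52) (nat_lit 0x7001001)) (.cD (nat_lit 32) (.kA false (nat_lit 0x500400200c002002004008014005001001000003)) (.cD (nat_lit 40) (.kA false (nat_lit 0x100100000400500200d002001001000003)) (.cD (nat_lit 48) (.kA false (nat_lit 0x600800c01000400400300200b002001001000003)) (.cD (nat_lit 56) (.kA false (nat_lit 0x300400200c002002004008014005001001000003))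 .nil)))))))) (.cD (nat_lit 24) (.dfs (nat_lit 32) (nat_lit 4100) (nat_lit 4100) (nat_lit 0x1002001) (nat_lit 0x1002001) (nat_lit 0) (nat_lit 0) (nat_lit 3) (nat_lit 0) (nat_lit 0) (nat_lit 0) (nat_lit 1) (nat_lit 0) (nat_lit 1) (nat_lit 0) (nat_lit 1) (nat_lit 0x101010101010100) (.cD (nat_lit 8) (.kc (nat_lit 36) (nat_lit 0x5001001)) (.cD (nat_lit 16) (.kc (nat_lit 52) (nat_lit 0x7001001)) (.cD (nat_lit 24) (.kc (nat_lit 48) (nat_lit 0x3001001)) (.cD (nat_lit 32) (.kA false (nat_lit 0x500400600c002002004008014005001001000003)) (.cD (nat_lit 40) (.kA false (nat_lit 0x100100000400500600d002001001000003)) (.cD (nat_lit 48) (.kA false (nat_lit 0x300400600c002002004008014005001001000003)) (.cD (nat_lit 56) (.kA false (nat_lit 0x600800a01000400400300600b002001001000003)) .nil)))))))) (.cD (nat_lit 32) (.kF (nat_lit 16) (nat_lit 0x100400100c012004002002000003)) (.cD (nat_lit 40) (.kF (nat_lit 16) (nat_lit 0x100400100c012004002002000003)) (.cD (nat_lit 48) (.dfs (nat_lit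 32) (nat_lit 4100) (nat_lit 4100) (nat_lit 0x1002001) (nat_lit 0x1002001) (nat_lit 0) (nat_lit 0) (nat_lit 3) (nat_lit 0) (nat_lit 0) (nat_lit 0) (nat_lit 1) (nat_lit 0) (nat_lit 1) (nat_lit 0) (nat_lit 1) (nat_lit 0x101010101010100) (.cD (nat_lit 8) (.kc (nat_lit 36) (nat_lit 0x5001001)) (.cD (nat_lit 16) (.kA false (nat_lit 0x600800401000400400300100b002001001000003)) (.cD (nat_lit 24) (.kA false (nat_lit 0x300400500c002002004008014005001001000003)) (.cD (nat_lit 32) (.kA false (nat_lit 0x500400300c002002004008014005001001000003)) (.cD (nat_lit 40) (.kA false (nat_lit 0x100100000400500700d002001001000003)) (.cD (nat_lit 48) (.kc (nat_lit 48) (nat_lit 0x3001001)) (.cD (nat_lit 56) (.kc (nat_lit 52) (nat_lit 0x7001001)) .nil)))))))) (.cD (nat_lit 56) (.dfs (nat_lit 32) (nat_lit 4100) (nat_lit 4100) (nat_lit 0x1002001) (nat_lit 0x1002001) (nat_lit 0) (nat_lit 0) (nat_lit 3) (nat_lit 0) (nat_lit 0) (nat_lit 0) (nat_lit 1) (nat_lit 0) (nat_lit 1) (nat_lit 0) (nat_lit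 1) (nat_lit 0x101010101010100) (.cD (nat_lit 8) (.kc (nat_lit 36) (nat_lit 0x5001001)) (.cD (nat_lit 16) (.kA false (nat_lit 0x300400100c002002004008014005001001000003)) (.cD (nat_lit 24) (.kA false (nat_lit 0x600800201000400400300500b002001001000003)) (.cD (nat_lit 32) (.kA false (nat_lit 0x500400700c002002004008014005001001000003)) (.cD (nat_lit 40) (.kA false (nat_lit 0x100100000400500300d002001001000003)) (.cD (nat_lit 48) (.kc (nat_lit 52) (nat_lit 0x7001001)) (.cD (nat_lit 56) (.kc (nat_lit 48) (nat_lit 0x3001001)) .nil)))))))) .nil)))))))) (.cD (nat_lit 16) (.kF (nat_lit 4) (nat_lit 0x2002000001003001002)) (.cD (nat_lit 20) (.kF (nat_lit 4) (nat_lit 0xe01e003001003001002)) (.cD (nat_lit 24) (.kF (nat_lit 4) (nat_lit 0x1002001002012004002002000003)) (.cD (nat_lit 32) (.dfs (nat_lit 16) (nat_lit 4098) (nat_lit 4098) (nat_lit 4097) (nat_lit 4097) (nat_lit 0) (nat_lit 0) (nat_lit 3) (nat_lit 0) (nat_lit 0) (nat_lit 0) (nat_lit 1) (nat_lit 0) (nat_lit 0x1008004)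 (nat_lit 32772) (nat_lit 0x1001004000008001014000018) (nat_lit 0x1000101110110) (.cD (nat_lit 4) (.kF (nat_lit 16) (nat_lit 0x1001000001006001002)) (.cD (nat_lit 8) (.kF (nat_lit 16) (nat_lit 0x1001000001006001002)) (.cD (nat_lit 16) (.dfs (nat_lit 32) (nat_lit 4100) (nat_lit 4100) (nat_lit 0x1002001) (nat_lit 0x1002001) (nat_lit 0) (nat_lit 0) (nat_lit 3) (nat_lit 0) (nat_lit 0) (nat_lit 0) (nat_lit 1) (nat_lit 0) (nat_lit 0x1008004) (nat_lit 32772) (nat_lit 0x1001004000008001014000018) (nat_lit 0x1000101110110) (.cD (nat_lit 4) (.kA true (nat_lit 0x100400600c002001001000002)) (.cD (nat_lit 8) (.kA false (nat_lit 0x100400200c002001001000002)) (.cD (nat_lit 16) (.kc (nat_lit 48) (nat_lit 0x3001001)) (.cD (nat_lit 20) (.kA true (nat_lit 0x300400600c002001001000002)) (.cD (nat_lit 24) (.kA false (nat_lit 0x300400200c002001001000002)) (.cD (nat_lit 32) (.kc (nat_lit 36) (nat_lit 0x5001001)) (.cD (nat_lit 48) (.kc (nat_lit 52) (nat_lit 0x7001001)) .nil)))))))) (.cD (nat_lit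 20) (.dfs (nat_lit 32) (nat_lit 4100) (nat_lit 4100) (nat_lit 0x1002001) (nat_lit 0x1002001) (nat_lit 0) (nat_lit 0) (nat_lit 3) (nat_lit 0) (nat_lit 0) (nat_lit 0) (nat_lit 1) (nat_lit 0) (nat_lit 1) (nat_lit 0) (nat_lit 1) (nat_lit 0x11001100110010) (.cD (nat_lit 4) (.kA true (nat_lit 0x100400700c002001001000002)) (.cD (nat_lit 16) (.kA true (nat_lit 0x300400500c002001001000002)) (.cD (nat_lit 20) (.kc (nat_lit 48) (nat_lit 0x3001001)) (.cD (nat_lit 32) (.kc (nat_lit 36) (nat_lit 0x5001001)) (.cD (nat_lit 36) (.dfs (nat_lit 9) (nat_lit 4100) (nat_lit 4101) (nat_lit 1) (nat_lit 1) (nat_lit 0) (nat_lit 0) (nat_lit 1) (nat_lit 4128) (nat_lit 0x40020010008004002001) (nat_lit 0) (nat_lit 1) (nat_lit 0) (nat_lit 1) (nat_lit 0) (nat_lit 1) (nat_lit 0) .nil) (.cD (nat_lit 48) (.kA true (nat_lit 0x700400100c002001001000002)) (.cD (nat_lit 52) (.kc (nat_lit 52) (nat_lit 0x7001001)) .nil)))))))) (.cD (nat_lit 24) (.dfs (nat_lit 32) (nat_lit 4100) (nat_lit 4100) (nat_lit 0x1002001)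 (nat_lit 0x1002001) (nat_lit 0) (nat_lit 0) (nat_lit 3) (nat_lit 0) (nat_lit 0) (nat_lit 0) (nat_lit 1) (nat_lit 0) (nat_lit 1) (nat_lit 0) (nat_lit 1) (nat_lit 0x101010101010100) (.cD (nat_lit 8) (.kA false (nat_lit 0x100400300c002001001000002)) (.cD (nat_lit 16) (.kA false (nat_lit 0x300400100c002001001000002)) (.cD (nat_lit 24) (.kc (nat_lit 48) (nat_lit 0x3001001)) (.cD (nat_lit 32) (.kc (nat_lit 36) (nat_lit 0x5001001)) (.cD (nat_lit 40) (.kA false (nat_lit 0x500400700c002001001000002)) (.cD (nat_lit 48) (.kA false (nat_lit 0x700400500c002001001000002)) (.cD (nat_lit 56) (.kc (nat_lit 52) (nat_lit 0x7001001)) .nil)))))))) (.cD (nat_lit 32) (.kc (nat_lit 20) (nat_lit 0x3001001)) (.cD (nat_lit 48) (.dfs (nat_lit 32) (nat_lit 4100) (nat_lit 4100) (nat_lit 0x1002001) (nat_lit 0x1002001) (nat_lit 0) (nat_lit 0) (nat_lit 3) (nat_lit 0) (nat_lit 0) (nat_lit 0) (nat_lit 1) (nat_lit 0) (nat_lit 0x1008004) (nat_lit 32772) (nat_lit 0x1001004000008001014000018) (nat_lit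 0x1000101110110) (.cD (nat_lit 4) (.kA true (nat_lit 0x100400200c002001001000002)) (.cD (nat_lit 8) (.kA false (nat_lit 0x100400600c002001001000002)) (.cD (nat_lit 16) (.kc (nat_lit 52) (nat_lit 0x7001001)) (.cD (nat_lit 20) (.kA true (nat_lit 0x700400200c002001001000002)) (.cD (nat_lit 24) (.kA false (nat_lit 0x700400600c002001001000002)) (.cD (nat_lit 32) (.kc (nat_lit 36) (nat_lit 0x5001001)) (.cD (nat_lit 48) (.kc (nat_lit 48) (nat_lit 0x3001001)) .nil)))))))) .nil)))))))) (.cD (nat_lit 48) (.kF (nat_lit 4) (nat_lit 0x1002001002012004002002000003)) .nil))))))))))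
theorem c371 : (chk [] [] p371).n x200 s371 = true := by decide +kernel
noncomputable def p372 : Pf := (.anc (nat_lit 68) (nat_lit 0x10002002002000002) (nat_lit 0x1009020010004) (.czp (nat_lit 64) (nat_lit 0) (nat_lit 0x1040020010008004) z6 (.dfs (nat_lit 4) (nat_lit 4097) (nat_lit 4097) (nat_lit 1) (nat_lit 1) (nat_lit 0) (nat_lit 0) (nat_lit 3) (nat_lit 0) (nat_lit 0) (nat_lit 0) (nat_lit 1) (nat_lit 0) (nat_lit 0x1008004) (nat_lit 32772) (nat_lit 0x1001004000008001014000018) (nat_lit 0x1000101110110) (.cD (nat_lit 4) (.dfs (nat_lit 16) (nat_lit 4098) (nat_lit 4098) (nat_lit 4097) (nat_lit 4097) (nat_lit 0) (nat_lit 0) (nat_lit 3) (nat_lit 0) (nat_lit 0) (nat_lit 0) (nat_lit 1) (nat_lit 0) (nat_lit 1) (nat_lit 0) (nat_lit 1) (nat_lit 0x11001100110010) (.cD (nat_lit 4) (.kc (nat_lit 20) (nat_lit 0x3001001)) (.cD (nat_lit 16) (.dfs (nat_lit 32) (nat_lit 4100) (nat_lit 4100) (nat_lit 0x1002001) (nat_lit 0x1002001) (nat_lit 0) (nat_lit 0) (nat_lit 3) (nat_lit 0) (nat_lit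 0) (nat_lit 0) (nat_lit 1) (nat_lit 0) (nat_lit 1) (nat_lit 0) (nat_lit 1) (nat_lit 0x11001100110010) (.cD (nat_lit 4) (.kc (nat_lit 36) (nat_lit 0x5001001)) (.cD (nat_lit 16) (.kc (nat_lit 48) (nat_lit 0x3001001)) (.cD (nat_lit 20) (.kc (nat_lit 52) (nat_lit 0x7001001)) (.cD (nat_lit 32) (.dfs (nat_lit 9) (nat_lit 0x1004001003008) (nat_lit 0x1005001003008) (nat_lit 4098) (nat_lit 4098) (nat_lit 2) (nat_lit 0) (nat_lit 2) (nat_lit 1) (nat_lit 0) (nat_lit 8) (nat_lit 1) (nat_lit 0) (nat_lit 1) (nat_lit 0) (nat_lit 1) (nat_lit 0) .nil) (.cD (nat_lit 36) (.kA true (nat_lit 0x1100100000400100300d001011001000003)) (.cD (nat_lit 48) (.kA true (nat_lit 0x600800401000400400100300d001011001000003)) (.cD (nat_lit 52) (.kA true (nat_lit 0x5004003008001008004002005007011001000003)) .nil)))))))) (.cD (nat_lit 20) (.dfs (nat_lit 32) (nat_lit 4100) (nat_lit 4100) (nat_lit 0x1002001) (nat_lit 0x1002001) (nat_lit 0) (nat_lit 0) (nat_lit 3) (nat_lit 0) (nat_lit 0) (nat_lit 0) (nat_lit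 1) (nat_lit 0) (nat_lit 1) (nat_lit 0) (nat_lit 1) (nat_lit 0x11001100110010) (.cD (nat_lit 4) (.kc (nat_lit 36) (nat_lit 0x5001001)) (.cD (nat_lit 16) (.kc (nat_lit 52) (nat_lit 0x7001001)) (.cD (nat_lit 20) (.kc (nat_lit 48) (nat_lit 0x3001001)) (.cD (nat_lit 32) (.kA true (nat_lit 0x5004003008001008004002005007011001000003)) (.cD (nat_lit 36) (.dfs (nat_lit 9) (nat_lit 4102) (nat_lit 4103) (nat_lit 1) (nat_lit 1) (nat_lit 2) (nat_lit 0) (nat_lit 1) (nat_lit 4112) (nat_lit 0x40020010008004002011) (nat_lit 0) (nat_lit 1) (nat_lit 0) (nat_lit 1) (nat_lit 0) (nat_lit 1) (nat_lit 0) .nil) (.cD (nat_lit 48) (.kA true (nat_lit 0x400300500800100400100300c001002)) (.cD (nat_lit 52) (.kA true (nat_lit 0x400700100800100400100300c001002)) .nil)))))))) (.cD (nat_lit 32) (.kF (nat_lit 16) (nat_lit 0x100400100c012004002002000003)) (.cD (nat_lit 36) (.kF (nat_lit 16) (nat_lit 0x100400100c012004002002000003)) (.cD (nat_lit 48) (.dfs (nat_lit 32) (nat_lit 4100) (nat_lit 4100) (nat_lit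 0x1002001) (nat_lit 0x1002001) (nat_lit 0) (nat_lit 0) (nat_lit 3) (nat_lit 0) (nat_lit 0) (nat_lit 0) (nat_lit 1) (nat_lit 0) (nat_lit 1) (nat_lit 0) (nat_lit 1) (nat_lit 0x11001100110010) (.cD (nat_lit 4) (.kc (nat_lit 36) (nat_lit 0x5001001)) (.cD (nat_lit 16) (.kA true (nat_lit 0x400200100800100400100300c001002)) (.cD (nat_lit 20) (.kA true (nat_lit 0x400600500800100400100300c001002)) (.cD (nat_lit 32) (.kA true (nat_lit 0x5004003008001008004002005007011001000003)) (.cD (nat_lit 36) (.kA true (nat_lit 0x400500600800100400100300c001002)) (.cD (nat_lit 48) (.kc (nat_lit 48) (nat_lit 0x3001001)) (.cD (nat_lit 52) (.kc (nat_lit 52) (nat_lit 0x7001001)) .nil)))))))) (.cD (nat_lit 52) (.dfs (nat_lit 32) (nat_lit 4100) (nat_lit 4100) (nat_lit 0x1002001) (nat_lit 0x1002001) (nat_lit 0) (nat_lit 0) (nat_lit 3) (nat_lit 0) (nat_lit 0) (nat_lit 0) (nat_lit 1) (nat_lit 0) (nat_lit 1) (nat_lit 0) (nat_lit 1) (nat_lit 0x11001100110010) (.cD (nat_lit 4) (.kc (nat_lit 36) (nat_lit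 0x5001001)) (.cD (nat_lit 16) (.kA true (nat_lit 0x400200500800100400100300c001002)) (.cD (nat_lit 20) (.kA true (nat_lit 0x400600100800100400100300c001002)) (.cD (nat_lit 32) (.kA true (nat_lit 0x5004003008001008004002005007011001000003)) (.cD (nat_lit 36) (.kA true (nat_lit 0x400500200800100400100300c001002)) (.cD (nat_lit 48) (.kc (nat_lit 52) (nat_lit 0x7001001)) (.cD (nat_lit 52) (.kc (nat_lit 48) (nat_lit 0x3001001)) .nil)))))))) .nil)))))))) (.cD (nat_lit 8) (.dfs (nat_lit 16) (nat_lit 4098) (nat_lit 4098) (nat_lit 4097) (nat_lit 4097) (nat_lit 0) (nat_lit 0) (nat_lit 3) (nat_lit 0) (nat_lit 0) (nat_lit 0) (nat_lit 1) (nat_lit 0) (nat_lit 1) (nat_lit 0) (nat_lit 1) (nat_lit 0x101010101010100) (.cD (nat_lit 8) (.kc (nat_lit 20) (nat_lit 0x3001001)) (.cD (nat_lit 16) (.dfs (nat_lit 32) (nat_lit 4100) (nat_lit 4100) (nat_lit 0x1002001) (nat_lit 0x1002001) (nat_lit 0) (nat_lit 0) (nat_lit 3) (nat_lit 0) (nat_lit 0) (nat_lit 0) (nat_lit 1) (nat_lit 0) (nat_lit 1)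 (nat_lit 0) (nat_lit 1) (nat_lit 0x101010101010100) (.cD (nat_lit 8) (.kc (nat_lit 36) (nat_lit 0x5001001)) (.cD (nat_lit 16) (.kc (nat_lit 48) (nat_lit 0x3001001)) (.cD (nat_lit 24) (.kc (nat_lit 52) (nat_lit 0x7001001)) (.cD (nat_lit 32) (.kA false (nat_lit 0x500400200c002002004008014005011001000003)) (.cD (nat_lit 40) (.kA false (nat_lit 0x1100100000400500200d002011001000003)) (.cD (nat_lit 48) (.kA false (nat_lit 0x600800c01000400400300200b002011001000003)) (.cD (nat_lit 56) (.kA false (nat_lit 0x300400200c002002004008014005011001000003)) .nil)))))))) (.cD (nat_lit 24) (.dfs (nat_lit 32) (nat_lit 4100) (nat_lit 4100) (nat_lit 0x1002001) (nat_lit 0x1002001) (nat_lit 0) (nat_lit 0) (nat_lit 3) (nat_lit 0) (nat_lit 0) (nat_lit 0) (nat_lit 1) (nat_lit 0) (nat_lit 1) (nat_lit 0) (nat_lit 1) (nat_lit 0x101010101010100) (.cD (nat_lit 8) (.kc (nat_lit 36) (nat_lit 0x5001001)) (.cD (nat_lit 16) (.kc (nat_lit 52) (nat_lit 0x7001001)) (.cD (nat_lit 24) (.kc (nat_lit 48)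 (nat_lit 0x3001001)) (.cD (nat_lit 32) (.kA false (nat_lit 0x500400600c002002004008014005011001000003)) (.cD (nat_lit 40) (.kA false (nat_lit 0x1100100000400500600d002011001000003)) (.cD (nat_lit 48) (.kA false (nat_lit 0x300400600c002002004008014005011001000003)) (.cD (nat_lit 56) (.kA false (nat_lit 0x600800a01000400400300600b002011001000003)) .nil)))))))) (.cD (nat_lit 32) (.kF (nat_lit 16) (nat_lit 0x100400100c012004002002000003)) (.cD (nat_lit 40) (.kF (nat_lit 16) (nat_lit 0x100400100c012004002002000003)) (.cD (nat_lit 48) (.dfs (nat_lit 32) (nat_lit 4100) (nat_lit 4100) (nat_lit 0x1002001) (nat_lit 0x1002001) (nat_lit 0) (nat_lit 0) (nat_lit 3) (nat_lit 0) (nat_lit 0) (nat_lit 0) (nat_lit 1) (nat_lit 0) (nat_lit 1) (nat_lit 0) (nat_lit 1) (nat_lit 0x101010101010100) (.cD (nat_lit 8) (.kc (nat_lit 36) (nat_lit 0x5001001)) (.cD (nat_lit 16) (.kA false (nat_lit 0x600800401000400400300100b002011001000003)) (.cD (nat_lit 24) (.kA false (nat_lit 0x300400500c002002004008014005011001000003))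 (.cD (nat_lit 32) (.kA false (nat_lit 0x500400300c002002004008014005011001000003)) (.cD (nat_lit 40) (.kA false (nat_lit 0x1100100000400500700d002011001000003)) (.cD (nat_lit 48) (.kc (nat_lit 48) (nat_lit 0x3001001)) (.cD (nat_lit 56) (.kc (nat_lit 52) (nat_lit 0x7001001)) .nil)))))))) (.cD (nat_lit 56) (.dfs (nat_lit 32) (nat_lit 4100) (nat_lit 4100) (nat_lit 0x1002001) (nat_lit 0x1002001) (nat_lit 0) (nat_lit 0) (nat_lit 3) (nat_lit 0) (nat_lit 0) (nat_lit 0) (nat_lit 1) (nat_lit 0) (nat_lit 1) (nat_lit 0) (nat_lit 1) (nat_lit 0x101010101010100) (.cD (nat_lit 8) (.kc (nat_lit 36) (nat_lit 0x5001001)) (.cD (nat_lit 16) (.kA false (nat_lit 0x300400100c002002004008014005011001000003)) (.cD (nat_lit 24) (.kA false (nat_lit 0x600800201000400400300500b002011001000003)) (.cD (nat_lit 32) (.kA false (nat_lit 0x500400700c002002004008014005011001000003)) (.cD (nat_lit 40) (.kA false (nat_lit 0x1100100000400500300d002011001000003)) (.cD (nat_lit 48) (.kc (nat_lit 52) (nat_lit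 0x7001001)) (.cD (nat_lit 56) (.kc (nat_lit 48) (nat_lit 0x3001001)) .nil)))))))) .nil)))))))) (.cD (nat_lit 16) (.kF (nat_lit 4) (nat_lit 0x2002000001003001002)) (.cD (nat_lit 20) (.kF (nat_lit 4) (nat_lit 0xe01e003001003001002)) (.cD (nat_lit 24) (.kF (nat_lit 4) (nat_lit 0x1002001002012004002002000003)) (.cD (nat_lit 32) (.dfs (nat_lit 16) (nat_lit 4098) (nat_lit 4098) (nat_lit 4097) (nat_lit 4097) (nat_lit 0) (nat_lit 0) (nat_lit 3) (nat_lit 0) (nat_lit 0) (nat_lit 0) (nat_lit 1) (nat_lit 0) (nat_lit 0x1008004) (nat_lit 32772) (nat_lit 0x1001004000008001014000018) (nat_lit 0x1000101110110) (.cD (nat_lit 4) (.kF (nat_lit 16) (nat_lit 0x11001000001006001002)) (.cD (nat_lit 8) (.kF (nat_lit 16) (nat_lit 0x11001000001006001002)) (.cD (nat_lit 16) (.dfs (nat_lit 32) (nat_lit 4100) (nat_lit 4100) (nat_lit 0x1002001) (nat_lit 0x1002001) (nat_lit 0) (nat_lit 0) (nat_lit 3) (nat_lit 0) (nat_lit 0) (nat_lit 0) (nat_lit 1) (nat_lit 0) (nat_lit 0x1008004) (nat_lit 32772)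 (nat_lit 0x1001004000008001014000018) (nat_lit 0x1000101110110) (.cD (nat_lit 4) (.kA true (nat_lit 0x100400600c002011001000002)) (.cD (nat_lit 8) (.kA false (nat_lit 0x100400200c002011001000002)) (.cD (nat_lit 16) (.kc (nat_lit 48) (nat_lit 0x3001001)) (.cD (nat_lit 20) (.kA true (nat_lit 0x300400600c002011001000002)) (.cD (nat_lit 24) (.kA false (nat_lit 0x300400200c002011001000002)) (.cD (nat_lit 32) (.kc (nat_lit 36) (nat_lit 0x5001001)) (.cD (nat_lit 48) (.kc (nat_lit 52) (nat_lit 0x7001001)) .nil)))))))) (.cD (nat_lit 20) (.dfs (nat_lit 32) (nat_lit 4100) (nat_lit 4100) (nat_lit 0x1002001) (nat_lit 0x1002001) (nat_lit 0) (nat_lit 0) (nat_lit 3) (nat_lit 0) (nat_lit 0) (nat_lit 0) (nat_lit 1) (nat_lit 0) (nat_lit 1) (nat_lit 0) (nat_lit 1) (nat_lit 0x11001100110010) (.cD (nat_lit 4) (.kA true (nat_lit 0x100400700c002011001000002)) (.cD (nat_lit 16) (.kA true (nat_lit 0x300400500c002011001000002)) (.cD (nat_lit 20) (.kc (nat_lit 48) (nat_lit 0x3001001)) (.cD (nat_lit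 32) (.kc (nat_lit 36) (nat_lit 0x5001001)) (.cD (nat_lit 36) (.dfs (nat_lit 9) (nat_lit 4100) (nat_lit 4101) (nat_lit 1) (nat_lit 1) (nat_lit 2) (nat_lit 0) (nat_lit 1) (nat_lit 4128) (nat_lit 0x40020010008004002011) (nat_lit 0) (nat_lit 1) (nat_lit 0) (nat_lit 1) (nat_lit 0) (nat_lit 1) (nat_lit 0) .nil) (.cD (nat_lit 48) (.kA true (nat_lit 0x700400100c002011001000002)) (.cD (nat_lit 52) (.kc (nat_lit 52) (nat_lit 0x7001001)) .nil)))))))) (.cD (nat_lit 24) (.dfs (nat_lit 32) (nat_lit 4100) (nat_lit 4100) (nat_lit 0x1002001) (nat_lit 0x1002001) (nat_lit 0) (nat_lit 0) (nat_lit 3) (nat_lit 0) (nat_lit 0) (nat_lit 0) (nat_lit 1) (nat_lit 0) (nat_lit 1) (nat_lit 0) (nat_lit 1) (nat_lit 0x101010101010100) (.cD (nat_lit 8) (.kA false (nat_lit 0x100400300c002011001000002)) (.cD (nat_lit 16) (.kA false (nat_lit 0x300400100c002011001000002)) (.cD (nat_lit 24) (.kc (nat_lit 48) (nat_lit 0x3001001)) (.cD (nat_lit 32) (.kc (nat_lit 36) (nat_lit 0x5001001)) (.cD (nat_lit 40)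 (.kA false (nat_lit 0x500400700c002011001000002)) (.cD (nat_lit 48) (.kA false (nat_lit 0x700400500c002011001000002)) (.cD (nat_lit 56) (.kc (nat_lit 52) (nat_lit 0x7001001)) .nil)))))))) (.cD (nat_lit 32) (.kc (nat_lit 20) (nat_lit 0x3001001)) (.cD (nat_lit 48) (.dfs (nat_lit 32) (nat_lit 4100) (nat_lit 4100) (nat_lit 0x1002001) (nat_lit 0x1002001) (nat_lit 0) (nat_lit 0) (nat_lit 3) (nat_lit 0) (nat_lit 0) (nat_lit 0) (nat_lit 1) (nat_lit 0) (nat_lit 0x1008004) (nat_lit 32772) (nat_lit 0x1001004000008001014000018) (nat_lit 0x1000101110110) (.cD (nat_lit 4) (.kA true (nat_lit 0x100400200c002011001000002)) (.cD (nat_lit 8) (.kA false (nat_lit 0x100400600c002011001000002)) (.cD (nat_lit 16) (.kc (nat_lit 52) (nat_lit 0x7001001)) (.cD (nat_lit 20) (.kA true (nat_lit 0x700400200c002011001000002)) (.cD (nat_lit 24) (.kA false (nat_lit 0x700400600c002011001000002)) (.cD (nat_lit 32) (.kc (nat_lit 36) (nat_lit 0x5001001)) (.cD (nat_lit 48) (.kc (nat_lit 48) (nat_lit 0x3001001))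 .nil)))))))) .nil)))))))) (.cD (nat_lit 48) (.kF (nat_lit 4) (nat_lit 0x1002001002012004002002000003)) .nil))))))))))
theorem c372 : (chk [] [] p372).n x201 s372 = true := by decide +kernel
noncomputable def p373 : Pf := (.anc (nat_lit 68) (nat_lit 0x10002002002000002) (nat_lit 0x1009020010004) (.czp (nat_lit 64) (nat_lit 0) (nat_lit 0x1040020010008004) z6 (.dfs (nat_lit 4) (nat_lit 4097) (nat_lit 4097) (nat_lit 1) (nat_lit 1) (nat_lit 0) (nat_lit 0) (nat_lit 3) (nat_lit 0) (nat_lit 0) (nat_lit 0) (nat_lit 1) (nat_lit 0) (nat_lit 0x1008004) (nat_lit 32772) (nat_lit 0x1001004000008001014000018) (nat_lit 0x1000101110110) (.cD (nat_lit 4) (.dfs (nat_lit 16) (nat_lit 4098) (nat_lit 4098) (nat_lit 4097) (nat_lit 4097) (nat_lit 0) (nat_lit 0) (nat_lit 3) (nat_lit 0) (nat_lit 0) (nat_lit 0) (nat_lit 1) (nat_lit 0) (nat_lit 1) (nat_lit 0) (nat_lit 1) (nat_lit 0x11001100110010) (.cD (nat_lit 4) (.kc (nat_lit 20) (nat_lit 0x3001001)) (.cD (nat_lit 16) (.dfs (nat_lit 32) (nat_lit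 4100) (nat_lit 4100) (nat_lit 0x1002001) (nat_lit 0x1002001) (nat_lit 0) (nat_lit 0) (nat_lit 3) (nat_lit 0) (nat_lit 0) (nat_lit 0) (nat_lit 1) (nat_lit 0) (nat_lit 1) (nat_lit 0) (nat_lit 1) (nat_lit 0x11001100110010) (.cD (nat_lit 4) (.kc (nat_lit 36) (nat_lit 0x5001001)) (.cD (nat_lit 16) (.kc (nat_lit 48) (nat_lit 0x3001001)) (.cD (nat_lit 20) (.kc (nat_lit 52) (nat_lit 0x7001001)) (.cD (nat_lit 32) (.dfs (nat_lit 9) (nat_lit 0x1004001003008) (nat_lit 0x1005001003008) (nat_lit 4098) (nat_lit 4098) (nat_lit 2) (nat_lit 0) (nat_lit 2) (nat_lit 1) (nat_lit 0) (nat_lit 8) (nat_lit 1) (nat_lit 0) (nat_lit 1) (nat_lit 0) (nat_lit 1) (nat_lit 0) .nil) (.cD (nat_lit 36) (.kA true (nat_lit 0x1100100000400100300d001011001000003)) (.cD (nat_lit 48) (.kA true (nat_lit 0x600800401000400400100300d001011001000003)) (.cD (nat_lit 52) (.kA true (nat_lit 0x5004003008001008004002005007011001000003)) .nil)))))))) (.cD (nat_lit 20) (.dfs (nat_lit 32) (nat_lit 4100) (nat_lit 4100)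 (nat_lit 0x1002001) (nat_lit 0x1002001) (nat_lit 0) (nat_lit 0) (nat_lit 3) (nat_lit 0) (nat_lit 0) (nat_lit 0) (nat_lit 1) (nat_lit 0) (nat_lit 1) (nat_lit 0) (nat_lit 1) (nat_lit 0x11001100110010) (.cD (nat_lit 4) (.kc (nat_lit 36) (nat_lit 0x5001001)) (.cD (nat_lit 16) (.kc (nat_lit 52) (nat_lit 0x7001001)) (.cD (nat_lit 20) (.kc (nat_lit 48) (nat_lit 0x3001001)) (.cD (nat_lit 32) (.kA true (nat_lit 0x5004003008001008004002005007011001000003)) (.cD (nat_lit 36) (.dfs (nat_lit 9) (nat_lit 4102) (nat_lit 4103) (nat_lit 1) (nat_lit 1) (nat_lit 2) (nat_lit 0) (nat_lit 1) (nat_lit 4112) (nat_lit 0x40020010008004002011) (nat_lit 0) (nat_lit 1) (nat_lit 0) (nat_lit 1) (nat_lit 0) (nat_lit 1) (nat_lit 0) .nil) (.cD (nat_lit 48) (.kA true (nat_lit 0x400300500800100400100300c001002)) (.cD (nat_lit 52) (.kA true (nat_lit 0x400700100800100400100300c001002)) .nil)))))))) (.cD (nat_lit 32) (.kF (nat_lit 16) (nat_lit 0x100400100c012004002002000003)) (.cD (nat_lit 36) (.kF (nat_lit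 16) (nat_lit 0x100400100c012004002002000003)) (.cD (nat_lit 48) (.dfs (nat_lit 32) (nat_lit 4100) (nat_lit 4100) (nat_lit 0x1002001) (nat_lit 0x1002001) (nat_lit 0) (nat_lit 0) (nat_lit 3) (nat_lit 0) (nat_lit 0) (nat_lit 0) (nat_lit 1) (nat_lit 0) (nat_lit 1) (nat_lit 0) (nat_lit 1) (nat_lit 0x11001100110010) (.cD (nat_lit 4) (.kc (nat_lit 36) (nat_lit 0x5001001)) (.cD (nat_lit 16) (.kA true (nat_lit 0x400200100800100400100300c001002)) (.cD (nat_lit 20) (.kA true (nat_lit 0x400600500800100400100300c001002)) (.cD (nat_lit 32) (.kA true (nat_lit 0x5004003008001008004002005007011001000003)) (.cD (nat_lit 36) (.kA true (nat_lit 0x400500600800100400100300c001002)) (.cD (nat_lit 48) (.kc (nat_lit 48) (nat_lit 0x3001001)) (.cD (nat_lit 52) (.kc (nat_lit 52) (nat_lit 0x7001001)) .nil)))))))) (.cD (nat_lit 52) (.dfs (nat_lit 32) (nat_lit 4100) (nat_lit 4100) (nat_lit 0x1002001) (nat_lit 0x1002001) (nat_lit 0) (nat_lit 0) (nat_lit 3) (nat_lit 0) (nat_lit 0) (nat_lit 0) (nat_lit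 1) (nat_lit 0) (nat_lit 1) (nat_lit 0) (nat_lit 1) (nat_lit 0x11001100110010) (.cD (nat_lit 4) (.kc (nat_lit 36) (nat_lit 0x5001001)) (.cD (nat_lit 16) (.kA true (nat_lit 0x400200500800100400100300c001002)) (.cD (nat_lit 20) (.kA true (nat_lit 0x400600100800100400100300c001002)) (.cD (nat_lit 32) (.kA true (nat_lit 0x5004003008001008004002005007011001000003)) (.cD (nat_lit 36) (.kA true (nat_lit 0x400500200800100400100300c001002)) (.cD (nat_lit 48) (.kc (nat_lit 52) (nat_lit 0x7001001)) (.cD (nat_lit 52) (.kc (nat_lit 48) (nat_lit 0x3001001)) .nil)))))))) .nil)))))))) (.cD (nat_lit 8) (.dfs (nat_lit 16) (nat_lit 4098) (nat_lit 4098) (nat_lit 4097) (nat_lit 4097) (nat_lit 0) (nat_lit 0) (nat_lit 3) (nat_lit 0) (nat_lit 0) (nat_lit 0) (nat_lit 1) (nat_lit 0) (nat_lit 1) (nat_lit 0) (nat_lit 1) (nat_lit 0x101010101010100) (.cD (nat_lit 8) (.kc (nat_lit 20) (nat_lit 0x3001001)) (.cD (nat_lit 16) (.dfs (nat_lit 32) (nat_lit 4100) (nat_lit 4100) (nat_lit 0x1002001) (nat_lit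 0x1002001) (nat_lit 0) (nat_lit 0) (nat_lit 3) (nat_lit 0) (nat_lit 0) (nat_lit 0) (nat_lit 1) (nat_lit 0) (nat_lit 1) (nat_lit 0) (nat_lit 1) (nat_lit 0x101010101010100) (.cD (nat_lit 8) (.kc (nat_lit 36) (nat_lit 0x5001001)) (.cD (nat_lit 16) (.kc (nat_lit 48) (nat_lit 0x3001001)) (.cD (nat_lit 24) (.kc (nat_lit 52) (nat_lit 0x7001001)) (.cD (nat_lit 32) (.kA false (nat_lit 0x500400200c002002004008014005011001000003)) (.cD (nat_lit 40) (.kA false (nat_lit 0x1100100000400500200d002011001000003)) (.cD (nat_lit 48) (.kA false (nat_lit 0x600800c01000400400300200b002011001000003)) (.cD (nat_lit 56) (.kA false (nat_lit 0x300400200c002002004008014005011001000003)) .nil)))))))) (.cD (nat_lit 24) (.dfs (nat_lit 32) (nat_lit 4100) (nat_lit 4100) (nat_lit 0x1002001) (nat_lit 0x1002001) (nat_lit 0) (nat_lit 0) (nat_lit 3) (nat_lit 0) (nat_lit 0) (nat_lit 0) (nat_lit 1) (nat_lit 0) (nat_lit 1) (nat_lit 0) (nat_lit 1) (nat_lit 0x101010101010100) (.cD (nat_lit 8) (.kc (nat_lit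 36) (nat_lit 0x5001001)) (.cD (nat_lit 16) (.kc (nat_lit 52) (nat_lit 0x7001001)) (.cD (nat_lit 24) (.kc (nat_lit 48) (nat_lit 0x3001001)) (.cD (nat_lit 32) (.kA false (nat_lit 0x500400600c002002004008014005011001000003)) (.cD (nat_lit 40) (.kA false (nat_lit 0x1100100000400500600d002011001000003)) (.cD (nat_lit 48) (.kA false (nat_lit 0x300400600c002002004008014005011001000003)) (.cD (nat_lit 56) (.kA false (nat_lit 0x600800a01000400400300600b002011001000003)) .nil)))))))) (.cD (nat_lit 32) (.kF (nat_lit 16) (nat_lit 0x100400100c012004002002000003)) (.cD (nat_lit 40) (.kF (nat_lit 16) (nat_lit 0x100400100c012004002002000003)) (.cD (nat_lit 48) (.dfs (nat_lit 32) (nat_lit 4100) (nat_lit 4100) (nat_lit 0x1002001) (nat_lit 0x1002001) (nat_lit 0) (nat_lit 0) (nat_lit 3) (nat_lit 0) (nat_lit 0) (nat_lit 0) (nat_lit 1) (nat_lit 0) (nat_lit 1) (nat_lit 0) (nat_lit 1) (nat_lit 0x101010101010100) (.cD (nat_lit 8) (.kc (nat_lit 36) (nat_lit 0x5001001)) (.cD (nat_lit 16) (.kA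 false (nat_lit 0x600800401000400400300100b002011001000003)) (.cD (nat_lit 24) (.kA false (nat_lit 0x300400500c002002004008014005011001000003)) (.cD (nat_lit 32) (.kA false (nat_lit 0x500400300c002002004008014005011001000003)) (.cD (nat_lit 40) (.kA false (nat_lit 0x1100100000400500700d002011001000003)) (.cD (nat_lit 48) (.kc (nat_lit 48) (nat_lit 0x3001001)) (.cD (nat_lit 56) (.kc (nat_lit 52) (nat_lit 0x7001001)) .nil)))))))) (.cD (nat_lit 56) (.dfs (nat_lit 32) (nat_lit 4100) (nat_lit 4100) (nat_lit 0x1002001) (nat_lit 0x1002001) (nat_lit 0) (nat_lit 0) (nat_lit 3) (nat_lit 0) (nat_lit 0) (nat_lit 0) (nat_lit 1) (nat_lit 0) (nat_lit 1) (nat_lit 0) (nat_lit 1) (nat_lit 0x101010101010100) (.cD (nat_lit 8) (.kc (nat_lit 36) (nat_lit 0x5001001)) (.cD (nat_lit 16) (.kA false (nat_lit 0x300400100c002002004008014005011001000003)) (.cD (nat_lit 24) (.kA false (nat_lit 0x600800201000400400300500b002011001000003)) (.cD (nat_lit 32) (.kA false (nat_lit 0x500400700c002002004008014005011001000003))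 (.cD (nat_lit 40) (.kA false (nat_lit 0x1100100000400500300d002011001000003)) (.cD (nat_lit 48) (.kc (nat_lit 52) (nat_lit 0x7001001)) (.cD (nat_lit 56) (.kc (nat_lit 48) (nat_lit 0x3001001)) .nil)))))))) .nil)))))))) (.cD (nat_lit 16) (.kF (nat_lit 4) (nat_lit 0x2002000001003001002)) (.cD (nat_lit 20) (.kF (nat_lit 4) (nat_lit 0xe01e003001003001002)) (.cD (nat_lit 24) (.kF (nat_lit 4) (nat_lit 0x1002001002012004002002000003)) (.cD (nat_lit 32) (.dfs (nat_lit 16) (nat_lit 4098) (nat_lit 4098) (nat_lit 4097) (nat_lit 4097) (nat_lit 0) (nat_lit 0) (nat_lit 3) (nat_lit 0) (nat_lit 0) (nat_lit 0) (nat_lit 1) (nat_lit 0) (nat_lit 0x1008004) (nat_lit 32772) (nat_lit 0x1001004000008001014000018) (nat_lit 0x1000101110110) (.cD (nat_lit 4) (.kF (nat_lit 16) (nat_lit 0x11001000001006001002)) (.cD (nat_lit 8) (.kF (nat_lit 16) (nat_lit 0x11001000001006001002)) (.cD (nat_lit 16) (.dfs (nat_lit 32) (nat_lit 4100) (nat_lit 4100) (nat_lit 0x1002001) (nat_lit 0x1002001) (nat_lit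 0) (nat_lit 0) (nat_lit 3) (nat_lit 0) (nat_lit 0) (nat_lit 0) (nat_lit 1) (nat_lit 0) (nat_lit 0x1008004) (nat_lit 32772) (nat_lit 0x1001004000008001014000018) (nat_lit 0x1000101110110) (.cD (nat_lit 4) (.kA true (nat_lit 0x100400600c002011001000002)) (.cD (nat_lit 8) (.kA false (nat_lit 0x100400200c002011001000002)) (.cD (nat_lit 16) (.kc (nat_lit 48) (nat_lit 0x3001001)) (.cD (nat_lit 20) (.kA true (nat_lit 0x300400600c002011001000002)) (.cD (nat_lit 24) (.kA false (nat_lit 0x300400200c002011001000002)) (.cD (nat_lit 32) (.kc (nat_lit 36) (nat_lit 0x5001001)) (.cD (nat_lit 48) (.kc (nat_lit 52) (nat_lit 0x7001001)) .nil)))))))) (.cD (nat_lit 20) (.dfs (nat_lit 32) (nat_lit 4100) (nat_lit 4100) (nat_lit 0x1002001) (nat_lit 0x1002001) (nat_lit 0) (nat_lit 0) (nat_lit 3) (nat_lit 0) (nat_lit 0) (nat_lit 0) (nat_lit 1) (nat_lit 0) (nat_lit 1) (nat_lit 0) (nat_lit 1) (nat_lit 0x11001100110010) (.cD (nat_lit 4) (.kA true (nat_lit 0x100400700c002011001000002)) (.cD (nat_lit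 16) (.kA true (nat_lit 0x300400500c002011001000002)) (.cD (nat_lit 20) (.kc (nat_lit 48) (nat_lit 0x3001001)) (.cD (nat_lit 32) (.kc (nat_lit 36) (nat_lit 0x5001001)) (.cD (nat_lit 36) (.dfs (nat_lit 9) (nat_lit 4100) (nat_lit 4101) (nat_lit 1) (nat_lit 1) (nat_lit 2) (nat_lit 0) (nat_lit 1) (nat_lit 4128) (nat_lit 0x40020010008004002011) (nat_lit 0) (nat_lit 1) (nat_lit 0) (nat_lit 1) (nat_lit 0) (nat_lit 1) (nat_lit 0) .nil) (.cD (nat_lit 48) (.kA true (nat_lit 0x700400100c002011001000002)) (.cD (nat_lit 52) (.kc (nat_lit 52) (nat_lit 0x7001001)) .nil)))))))) (.cD (nat_lit 24) (.dfs (nat_lit 32) (nat_lit 4100) (nat_lit 4100) (nat_lit 0x1002001) (nat_lit 0x1002001) (nat_lit 0) (nat_lit 0) (nat_lit 3) (nat_lit 0) (nat_lit 0) (nat_lit 0) (nat_lit 1) (nat_lit 0) (nat_lit 1) (nat_lit 0) (nat_lit 1) (nat_lit 0x101010101010100) (.cD (nat_lit 8) (.kA false (nat_lit 0x100400300c002011001000002)) (.cD (nat_lit 16) (.kA false (nat_lit 0x300400100c002011001000002)) (.cD (nat_lit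 24) (.kc (nat_lit 48) (nat_lit 0x3001001)) (.cD (nat_lit 32) (.kc (nat_lit 36) (nat_lit 0x5001001)) (.cD (nat_lit 40) (.kA false (nat_lit 0x500400700c002011001000002)) (.cD (nat_lit 48) (.kA false (nat_lit 0x700400500c002011001000002)) (.cD (nat_lit 56) (.kc (nat_lit 52) (nat_lit 0x7001001)) .nil)))))))) (.cD (nat_lit 32) (.kc (nat_lit 20) (nat_lit 0x3001001)) (.cD (nat_lit 48) (.dfs (nat_lit 32) (nat_lit 4100) (nat_lit 4100) (nat_lit 0x1002001) (nat_lit 0x1002001) (nat_lit 0) (nat_lit 0) (nat_lit 3) (nat_lit 0) (nat_lit 0) (nat_lit 0) (nat_lit 1) (nat_lit 0) (nat_lit 0x1008004) (nat_lit 32772) (nat_lit 0x1001004000008001014000018) (nat_lit 0x1000101110110) (.cD (nat_lit 4) (.kA true (nat_lit 0x100400200c002011001000002)) (.cD (nat_lit 8) (.kA false (nat_lit 0x100400600c002011001000002)) (.cD (nat_lit 16) (.kc (nat_lit 52) (nat_lit 0x7001001)) (.cD (nat_lit 20) (.kA true (nat_lit 0x700400200c002011001000002)) (.cD (nat_lit 24) (.kA false (nat_lit 0x700400600c002011001000002))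 (.cD (nat_lit 32) (.kc (nat_lit 36) (nat_lit 0x5001001)) (.cD (nat_lit 48) (.kc (nat_lit 48) (nat_lit 0x3001001)) .nil)))))))) .nil)))))))) (.cD (nat_lit 48) (.kF (nat_lit 4) (nat_lit 0x1002001002012004002002000003)) .nil))))))))))
theorem c373 : (chk [] [] p373).n x202 s373 = true := by decide +kernel
noncomputable def p374 : Pf := (.ext (nat_lit 1) (nat_lit 0) (nat_lit 0x1040030020004) (nat_lit 0x1002004008001001) (nat_lit 0x2003004008) (nat_lit 4107) (nat_lit 4107) (nat_lit 0xc004002001) (.dfs (nat_lit 11) (nat_lit 0x1002003004008) (nat_lit 0x100200300400c) (nat_lit 4097) (nat_lit 4097) (nat_lit 2) (nat_lit 0) (nat_lit 2) (nat_lit 1) (nat_lit 0) (nat_lit 11) (nat_lit 1) (nat_lit 0) (nat_lit 1) (nat_lit 0) (nat_lit 1) (nat_lit 0) .nil))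
theorem c374 : (chk [] [] p374).n x203 s374 = true := by decide +kernel
noncomputable def p375 : Pf := (.anc (nat_lit 68) (nat_lit 0x10002002002000002) (nat_lit 0x1009020010004) (.czp (nat_lit 64) (nat_lit 0) (nat_lit 0x1040020010008004) z6 (.dfs (nat_lit 4) (nat_lit 4097) (nat_lit 4097) (nat_lit 1) (nat_lit 1) (nat_lit 0) (nat_lit 0) (nat_lit 3) (nat_lit 0) (nat_lit 0) (nat_lit 0) (nat_lit 1) (nat_lit 0) (nat_lit 0x1008004) (nat_lit 32772) (nat_lit 0x1001004000008001014000018) (nat_lit 0x1000101110110) (.cD (nat_lit 4) (.dfs (nat_lit 16) (nat_lit 4098) (nat_lit 4098) (nat_lit 4097) (nat_lit 4097) (nat_lit 0) (nat_lit 0) (nat_lit 3) (nat_lit 0) (nat_lit 0) (nat_lit 0) (nat_lit 1) (nat_lit 0) (nat_lit 1) (nat_lit 0) (nat_lit 1) (nat_lit 0x11001100110010) (.cD (nat_lit 4) (.kc (nat_lit 20) (nat_lit 0x3001001)) (.cD (nat_lit 16) (.dfs (nat_lit 32) (nat_lit 4100) (nat_lit 4100) (nat_lit 0x1002001) (nat_lit 0x1002001) (nat_lit 0) (nat_lit 0) (nat_lit 3) (nat_lit 0) (nat_lit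 0) (nat_lit 0) (nat_lit 1) (nat_lit 0) (nat_lit 1) (nat_lit 0) (nat_lit 1) (nat_lit 0x11001100110010) (.cD (nat_lit 4) (.kc (nat_lit 36) (nat_lit 0x5001001)) (.cD (nat_lit 16) (.kc (nat_lit 48) (nat_lit 0x3001001)) (.cD (nat_lit 20) (.kc (nat_lit 52) (nat_lit 0x7001001)) (.cD (nat_lit 32) (.dfs (nat_lit 9) (nat_lit 0x1004001003008) (nat_lit 0x1005001003008) (nat_lit 4098) (nat_lit 4098) (nat_lit 1) (nat_lit 0) (nat_lit 2) (nat_lit 1) (nat_lit 0) (nat_lit 8) (nat_lit 1) (nat_lit 0) (nat_lit 4100) (nat_lit 4) (nat_lit 0x100004c00005c) (nat_lit 0x100010000000000000000000) (.cD (nat_lit 76) (.kb (nat_lit 13) (nat_lit 0x102100001400600b001003) (nat_lit 0x102001004800c006001)) (.cD (nat_lit 92) (.kb (nat_lit 29) (nat_lit 0x102100001400600f001003) (nat_lit 0x102001004800c006001)) .nil))) (.cD (nat_lit 36) (.kA true (nat_lit 0x2100100000400100300d001021001000003)) (.cD (nat_lit 48) (.kA true (nat_lit 0x600800401000400400100300d001021001000003)) (.cD (nat_lit 52) (.kA true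 (nat_lit 0x5004003008001008004002005007021001000003)) .nil)))))))) (.cD (nat_lit 20) (.dfs (nat_lit 32) (nat_lit 4100) (nat_lit 4100) (nat_lit 0x1002001) (nat_lit 0x1002001) (nat_lit 0) (nat_lit 0) (nat_lit 3) (nat_lit 0) (nat_lit 0) (nat_lit 0) (nat_lit 1) (nat_lit 0) (nat_lit 1) (nat_lit 0) (nat_lit 1) (nat_lit 0x11001100110010) (.cD (nat_lit 4) (.kc (nat_lit 36) (nat_lit 0x5001001)) (.cD (nat_lit 16) (.kc (nat_lit 52) (nat_lit 0x7001001)) (.cD (nat_lit 20) (.kc (nat_lit 48) (nat_lit 0x3001001)) (.cD (nat_lit 32) (.kA true (nat_lit 0x5004003008001008004002005007021001000003)) (.cD (nat_lit 36) (.dfs (nat_lit 9) (nat_lit 4102) (nat_lit 4103) (nat_lit 1) (nat_lit 1) (nat_lit 1) (nat_lit 0) (nat_lit 1) (nat_lit 4112) (nat_lit 0x40020010008004002021) (nat_lit 0) (nat_lit 1) (nat_lit 0) (nat_lit 1) (nat_lit 0) (nat_lit 1) (nat_lit 0) .nil) (.cD (nat_lit 48) (.kA true (nat_lit 0x400300500800100400100300c001002)) (.cD (nat_lit 52) (.kA true (nat_lit 0x400700100800100400100300c001002))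 .nil)))))))) (.cD (nat_lit 32) (.kF (nat_lit 16) (nat_lit 0x100400100c012004002002000003)) (.cD (nat_lit 36) (.kF (nat_lit 16) (nat_lit 0x100400100c012004002002000003)) (.cD (nat_lit 48) (.dfs (nat_lit 32) (nat_lit 4100) (nat_lit 4100) (nat_lit 0x1002001) (nat_lit 0x1002001) (nat_lit 0) (nat_lit 0) (nat_lit 3) (nat_lit 0) (nat_lit 0) (nat_lit 0) (nat_lit 1) (nat_lit 0) (nat_lit 1) (nat_lit 0) (nat_lit 1) (nat_lit 0x11001100110010) (.cD (nat_lit 4) (.kc (nat_lit 36) (nat_lit 0x5001001)) (.cD (nat_lit 16) (.kA true (nat_lit 0x400200100800100400100300c001002)) (.cD (nat_lit 20) (.kA true (nat_lit 0x400600500800100400100300c001002)) (.cD (nat_lit 32) (.kA true (nat_lit 0x5004003008001008004002005007021001000003)) (.cD (nat_lit 36) (.kA true (nat_lit 0x400500600800100400100300c001002)) (.cD (nat_lit 48) (.kc (nat_lit 48) (nat_lit 0x3001001)) (.cD (nat_lit 52) (.kc (nat_lit 52) (nat_lit 0x7001001)) .nil)))))))) (.cD (nat_lit 52) (.dfs (nat_lit 32) (nat_lit 4100) (nat_lit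 4100) (nat_lit 0x1002001) (nat_lit 0x1002001) (nat_lit 0) (nat_lit 0) (nat_lit 3) (nat_lit 0) (nat_lit 0) (nat_lit 0) (nat_lit 1) (nat_lit 0) (nat_lit 1) (nat_lit 0) (nat_lit 1) (nat_lit 0x11001100110010) (.cD (nat_lit 4) (.kc (nat_lit 36) (nat_lit 0x5001001)) (.cD (nat_lit 16) (.kA true (nat_lit 0x400200500800100400100300c001002)) (.cD (nat_lit 20) (.kA true (nat_lit 0x400600100800100400100300c001002)) (.cD (nat_lit 32) (.kA true (nat_lit 0x5004003008001008004002005007021001000003)) (.cD (nat_lit 36) (.kA true (nat_lit 0x400500200800100400100300c001002)) (.cD (nat_lit 48) (.kc (nat_lit 52) (nat_lit 0x7001001)) (.cD (nat_lit 52) (.kc (nat_lit 48) (nat_lit 0x3001001)) .nil)))))))) .nil)))))))) (.cD (nat_lit 8) (.dfs (nat_lit 16) (nat_lit 4098) (nat_lit 4098) (nat_lit 4097) (nat_lit 4097) (nat_lit 0) (nat_lit 0) (nat_lit 3) (nat_lit 0) (nat_lit 0) (nat_lit 0) (nat_lit 1) (nat_lit 0) (nat_lit 1) (nat_lit 0) (nat_lit 1) (nat_lit 0x101010101010100) (.cD (nat_lit 8) (.kc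 (nat_lit 20) (nat_lit 0x3001001)) (.cD (nat_lit 16) (.dfs (nat_lit 32) (nat_lit 4100) (nat_lit 4100) (nat_lit 0x1002001) (nat_lit 0x1002001) (nat_lit 0) (nat_lit 0) (nat_lit 3) (nat_lit 0) (nat_lit 0) (nat_lit 0) (nat_lit 1) (nat_lit 0) (nat_lit 1) (nat_lit 0) (nat_lit 1) (nat_lit 0x101010101010100) (.cD (nat_lit 8) (.kc (nat_lit 36) (nat_lit 0x5001001)) (.cD (nat_lit 16) (.kc (nat_lit 48) (nat_lit 0x3001001)) (.cD (nat_lit 24) (.kc (nat_lit 52) (nat_lit 0x7001001)) (.cD (nat_lit 32) (.kA false (nat_lit 0x500400200c002002004008014005021001000003)) (.cD (nat_lit 40) (.kA false (nat_lit 0x2100100000400500200d002021001000003)) (.cD (nat_lit 48) (.kA false (nat_lit 0x600800c01000400400300200b002021001000003)) (.cD (nat_lit 56) (.kA false (nat_lit 0x300400200c002002004008014005021001000003)) .nil)))))))) (.cD (nat_lit 24) (.dfs (nat_lit 32) (nat_lit 4100) (nat_lit 4100) (nat_lit 0x1002001) (nat_lit 0x1002001) (nat_lit 0) (nat_lit 0) (nat_lit 3) (nat_lit 0) (nat_lit 0)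 (nat_lit 0) (nat_lit 1) (nat_lit 0) (nat_lit 1) (nat_lit 0) (nat_lit 1) (nat_lit 0x101010101010100) (.cD (nat_lit 8) (.kc (nat_lit 36) (nat_lit 0x5001001)) (.cD (nat_lit 16) (.kc (nat_lit 52) (nat_lit 0x7001001)) (.cD (nat_lit 24) (.kc (nat_lit 48) (nat_lit 0x3001001)) (.cD (nat_lit 32) (.kA false (nat_lit 0x500400600c002002004008014005021001000003)) (.cD (nat_lit 40) (.kA false (nat_lit 0x2100100000400500600d002021001000003)) (.cD (nat_lit 48) (.kA false (nat_lit 0x300400600c002002004008014005021001000003)) (.cD (nat_lit 56) (.kA false (nat_lit 0x600800a01000400400300600b002021001000003)) .nil)))))))) (.cD (nat_lit 32) (.kF (nat_lit 16) (nat_lit 0x100400100c012004002002000003)) (.cD (nat_lit 40) (.kF (nat_lit 16) (nat_lit 0x100400100c012004002002000003)) (.cD (nat_lit 48) (.dfs (nat_lit 32) (nat_lit 4100) (nat_lit 4100) (nat_lit 0x1002001) (nat_lit 0x1002001) (nat_lit 0) (nat_lit 0) (nat_lit 3) (nat_lit 0) (nat_lit 0) (nat_lit 0) (nat_lit 1) (nat_lit 0) (nat_lit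 1) (nat_lit 0) (nat_lit 1) (nat_lit 0x101010101010100) (.cD (nat_lit 8) (.kc (nat_lit 36) (nat_lit 0x5001001)) (.cD (nat_lit 16) (.kA false (nat_lit 0x600800401000400400300100b002021001000003)) (.cD (nat_lit 24) (.kA false (nat_lit 0x300400500c002002004008014005021001000003)) (.cD (nat_lit 32) (.kA false (nat_lit 0x500400300c002002004008014005021001000003)) (.cD (nat_lit 40) (.kA false (nat_lit 0x2100100000400500700d002021001000003)) (.cD (nat_lit 48) (.kc (nat_lit 48) (nat_lit 0x3001001)) (.cD (nat_lit 56) (.kc (nat_lit 52) (nat_lit 0x7001001)) .nil)))))))) (.cD (nat_lit 56) (.dfs (nat_lit 32) (nat_lit 4100) (nat_lit 4100) (nat_lit 0x1002001) (nat_lit 0x1002001) (nat_lit 0) (nat_lit 0) (nat_lit 3) (nat_lit 0) (nat_lit 0) (nat_lit 0) (nat_lit 1) (nat_lit 0) (nat_lit 1) (nat_lit 0) (nat_lit 1) (nat_lit 0x101010101010100) (.cD (nat_lit 8) (.kc (nat_lit 36) (nat_lit 0x5001001)) (.cD (nat_lit 16) (.kA false (nat_lit 0x300400100c002002004008014005021001000003)) (.cD (nat_lit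 24) (.kA false (nat_lit 0x600800201000400400300500b002021001000003)) (.cD (nat_lit 32) (.kA false (nat_lit 0x500400700c002002004008014005021001000003)) (.cD (nat_lit 40) (.kA false (nat_lit 0x2100100000400500300d002021001000003)) (.cD (nat_lit 48) (.kc (nat_lit 52) (nat_lit 0x7001001)) (.cD (nat_lit 56) (.kc (nat_lit 48) (nat_lit 0x3001001)) .nil)))))))) .nil)))))))) (.cD (nat_lit 16) (.kF (nat_lit 4) (nat_lit 0x2002000001003001002)) (.cD (nat_lit 20) (.kF (nat_lit 4) (nat_lit 0xe01e003001003001002)) (.cD (nat_lit 24) (.kF (nat_lit 4) (nat_lit 0x1002001002012004002002000003)) (.cD (nat_lit 32) (.dfs (nat_lit 16) (nat_lit 4098) (nat_lit 4098) (nat_lit 4097) (nat_lit 4097) (nat_lit 0) (nat_lit 0) (nat_lit 3) (nat_lit 0) (nat_lit 0) (nat_lit 0) (nat_lit 1) (nat_lit 0) (nat_lit 0x1008004) (nat_lit 32772) (nat_lit 0x1001004000008001014000018) (nat_lit 0x1000101110110) (.cD (nat_lit 4) (.kF (nat_lit 16) (nat_lit 0x21001000001006001002)) (.cD (nat_lit 8) (.kF (nat_lit 16)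 (nat_lit 0x21001000001006001002)) (.cD (nat_lit 16) (.dfs (nat_lit 32) (nat_lit 4100) (nat_lit 4100) (nat_lit 0x1002001) (nat_lit 0x1002001) (nat_lit 0) (nat_lit 0) (nat_lit 3) (nat_lit 0) (nat_lit 0) (nat_lit 0) (nat_lit 1) (nat_lit 0) (nat_lit 0x1008004) (nat_lit 32772) (nat_lit 0x1001004000008001014000018) (nat_lit 0x1000101110110) (.cD (nat_lit 4) (.kA true (nat_lit 0x100400600c002021001000002)) (.cD (nat_lit 8) (.kA false (nat_lit 0x100400200c002021001000002)) (.cD (nat_lit 16) (.kc (nat_lit 48) (nat_lit 0x3001001)) (.cD (nat_lit 20) (.kA true (nat_lit 0x300400600c002021001000002)) (.cD (nat_lit 24) (.kA false (nat_lit 0x300400200c002021001000002)) (.cD (nat_lit 32) (.kc (nat_lit 36) (nat_lit 0x5001001)) (.cD (nat_lit 48) (.kc (nat_lit 52) (nat_lit 0x7001001)) .nil)))))))) (.cD (nat_lit 20) (.dfs (nat_lit 32) (nat_lit 4100) (nat_lit 4100) (nat_lit 0x1002001) (nat_lit 0x1002001) (nat_lit 0) (nat_lit 0) (nat_lit 3) (nat_lit 0) (nat_lit 0) (nat_lit 0) (nat_lit 1)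 (nat_lit 0) (nat_lit 1) (nat_lit 0) (nat_lit 1) (nat_lit 0x11001100110010) (.cD (nat_lit 4) (.kA true (nat_lit 0x100400700c002021001000002)) (.cD (nat_lit 16) (.kA true (nat_lit 0x300400500c002021001000002)) (.cD (nat_lit 20) (.kc (nat_lit 48) (nat_lit 0x3001001)) (.cD (nat_lit 32) (.kc (nat_lit 36) (nat_lit 0x5001001)) (.cD (nat_lit 36) (.dfs (nat_lit 9) (nat_lit 4100) (nat_lit 4101) (nat_lit 1) (nat_lit 1) (nat_lit 1) (nat_lit 0) (nat_lit 1) (nat_lit 4128) (nat_lit 0x40020010008004002021) (nat_lit 0) (nat_lit 1) (nat_lit 0) (nat_lit 1) (nat_lit 0) (nat_lit 1) (nat_lit 0) .nil) (.cD (nat_lit 48) (.kA true (nat_lit 0x700400100c002021001000002)) (.cD (nat_lit 52) (.kc (nat_lit 52) (nat_lit 0x7001001)) .nil)))))))) (.cD (nat_lit 24) (.dfs (nat_lit 32) (nat_lit 4100) (nat_lit 4100) (nat_lit 0x1002001) (nat_lit 0x1002001) (nat_lit 0) (nat_lit 0) (nat_lit 3) (nat_lit 0) (nat_lit 0) (nat_lit 0) (nat_lit 1) (nat_lit 0) (nat_lit 1) (nat_lit 0) (nat_lit 1) (nat_lit 0x101010101010100)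 (.cD (nat_lit 8) (.kA false (nat_lit 0x100400300c002021001000002)) (.cD (nat_lit 16) (.kA false (nat_lit 0x300400100c002021001000002)) (.cD (nat_lit 24) (.kc (nat_lit 48) (nat_lit 0x3001001)) (.cD (nat_lit 32) (.kc (nat_lit 36) (nat_lit 0x5001001)) (.cD (nat_lit 40) (.kA false (nat_lit 0x500400700c002021001000002)) (.cD (nat_lit 48) (.kA false (nat_lit 0x700400500c002021001000002)) (.cD (nat_lit 56) (.kc (nat_lit 52) (nat_lit 0x7001001)) .nil)))))))) (.cD (nat_lit 32) (.kc (nat_lit 20) (nat_lit 0x3001001)) (.cD (nat_lit 48) (.dfs (nat_lit 32) (nat_lit 4100) (nat_lit 4100) (nat_lit 0x1002001) (nat_lit 0x1002001) (nat_lit 0) (nat_lit 0) (nat_lit 3) (nat_lit 0) (nat_lit 0) (nat_lit 0) (nat_lit 1) (nat_lit 0) (nat_lit 0x1008004) (nat_lit 32772) (nat_lit 0x1001004000008001014000018) (nat_lit 0x1000101110110) (.cD (nat_lit 4) (.kA true (nat_lit 0x100400200c002021001000002)) (.cD (nat_lit 8) (.kA false (nat_lit 0x100400600c002021001000002)) (.cD (nat_lit 16) (.kc (nat_lit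 52) (nat_lit 0x7001001)) (.cD (nat_lit 20) (.kA true (nat_lit 0x700400200c002021001000002)) (.cD (nat_lit 24) (.kA false (nat_lit 0x700400600c002021001000002)) (.cD (nat_lit 32) (.kc (nat_lit 36) (nat_lit 0x5001001)) (.cD (nat_lit 48) (.kc (nat_lit 48) (nat_lit 0x3001001)) .nil)))))))) .nil)))))))) (.cD (nat_lit 48) (.kF (nat_lit 4) (nat_lit 0x1002001002012004002002000003)) .nil))))))))))
theorem c375 : (chk [] [] p375).n x204 s375 = true := by decide +kernel
noncomputable def p376 : Pf := (.anc (nat_lit 68) (nat_lit 0x10002002002000002) (nat_lit 0x1009020010004) (.czp (nat_lit 64) (nat_lit 0) (nat_lit 0x1040020010008004) z6 (.dfs (nat_lit 4) (nat_lit 4097) (nat_lit 4097) (nat_lit 1) (nat_lit 1) (nat_lit 0) (nat_lit 0) (nat_lit 3) (nat_lit 0) (nat_lit 0) (nat_lit 0) (nat_lit 1) (nat_lit 0) (nat_lit 0x1008004) (nat_lit 32772) (nat_lit 0x1001004000008001014000018) (nat_lit 0x1000101110110) (.cD (nat_lit 4) (.dfs (nat_lit 16) (nat_lit 4098) (nat_lit 4098) (nat_lit 4097)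 (nat_lit 4097) (nat_lit 0) (nat_lit 0) (nat_lit 3) (nat_lit 0) (nat_lit 0) (nat_lit 0) (nat_lit 1) (nat_lit 0) (nat_lit 1) (nat_lit 0) (nat_lit 1) (nat_lit 0x11001100110010) (.cD (nat_lit 4) (.kc (nat_lit 20) (nat_lit 0x3001001)) (.cD (nat_lit 16) (.dfs (nat_lit 32) (nat_lit 4100) (nat_lit 4100) (nat_lit 0x1002001) (nat_lit 0x1002001) (nat_lit 0) (nat_lit 0) (nat_lit 3) (nat_lit 0) (nat_lit 0) (nat_lit 0) (nat_lit 1) (nat_lit 0) (nat_lit 1) (nat_lit 0) (nat_lit 1) (nat_lit 0x11001100110010) (.cD (nat_lit 4) (.kc (nat_lit 36) (nat_lit 0x5001001)) (.cD (nat_lit 16) (.kc (nat_lit 48) (nat_lit 0x3001001)) (.cD (nat_lit 20) (.kc (nat_lit 52) (nat_lit 0x7001001)) (.cD (nat_lit 32) (.dfs (nat_lit 9) (nat_lit 0x1004001003008) (nat_lit 0x1005001003008) (nat_lit 4098) (nat_lit 4098) (nat_lit 3) (nat_lit 0) (nat_lit 2) (nat_lit 1) (nat_lit 0) (nat_lit 8) (nat_lit 1) (nat_lit 0) (nat_lit 1) (nat_lit 0) (nat_lit 1) (nat_lit 0) .nil) (.cD (nat_lit 36) (.kA true (nat_lit 0x3100100000400100300d001031001000003))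 (.cD (nat_lit 48) (.kA true (nat_lit 0x600800401000400400100300d001031001000003)) (.cD (nat_lit 52) (.kA true (nat_lit 0x5004003008001008004002005007031001000003)) .nil)))))))) (.cD (nat_lit 20) (.dfs (nat_lit 32) (nat_lit 4100) (nat_lit 4100) (nat_lit 0x1002001) (nat_lit 0x1002001) (nat_lit 0) (nat_lit 0) (nat_lit 3) (nat_lit 0) (nat_lit 0) (nat_lit 0) (nat_lit 1) (nat_lit 0) (nat_lit 1) (nat_lit 0) (nat_lit 1) (nat_lit 0x11001100110010) (.cD (nat_lit 4) (.kc (nat_lit 36) (nat_lit 0x5001001)) (.cD (nat_lit 16) (.kc (nat_lit 52) (nat_lit 0x7001001)) (.cD (nat_lit 20) (.kc (nat_lit 48) (nat_lit 0x3001001)) (.cD (nat_lit 32) (.kA true (nat_lit 0x5004003008001008004002005007031001000003)) (.cD (nat_lit 36) (.dfs (nat_lit 9) (nat_lit 4102) (nat_lit 4103) (nat_lit 1) (nat_lit 1) (nat_lit 3) (nat_lit 0) (nat_lit 1) (nat_lit 4112) (nat_lit 0x40020010008004002031) (nat_lit 0) (nat_lit 1) (nat_lit 0) (nat_lit 1) (nat_lit 0) (nat_lit 1) (nat_lit 0) .nil) (.cD (nat_lit 48) (.kA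 true (nat_lit 0x400300500800100400100300c001002)) (.cD (nat_lit 52) (.kA true (nat_lit 0x400700100800100400100300c001002)) .nil)))))))) (.cD (nat_lit 32) (.kF (nat_lit 16) (nat_lit 0x100400100c012004002002000003)) (.cD (nat_lit 36) (.kF (nat_lit 16) (nat_lit 0x100400100c012004002002000003)) (.cD (nat_lit 48) (.dfs (nat_lit 32) (nat_lit 4100) (nat_lit 4100) (nat_lit 0x1002001) (nat_lit 0x1002001) (nat_lit 0) (nat_lit 0) (nat_lit 3) (nat_lit 0) (nat_lit 0) (nat_lit 0) (nat_lit 1) (nat_lit 0) (nat_lit 1) (nat_lit 0) (nat_lit 1) (nat_lit 0x11001100110010) (.cD (nat_lit 4) (.kc (nat_lit 36) (nat_lit 0x5001001)) (.cD (nat_lit 16) (.kA true (nat_lit 0x400200100800100400100300c001002)) (.cD (nat_lit 20) (.kA true (nat_lit 0x400600500800100400100300c001002)) (.cD (nat_lit 32) (.kA true (nat_lit 0x5004003008001008004002005007031001000003)) (.cD (nat_lit 36) (.kA true (nat_lit 0x400500600800100400100300c001002)) (.cD (nat_lit 48) (.kc (nat_lit 48) (nat_lit 0x3001001)) (.cD (nat_lit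 52) (.kc (nat_lit 52) (nat_lit 0x7001001)) .nil)))))))) (.cD (nat_lit 52) (.dfs (nat_lit 32) (nat_lit 4100) (nat_lit 4100) (nat_lit 0x1002001) (nat_lit 0x1002001) (nat_lit 0) (nat_lit 0) (nat_lit 3) (nat_lit 0) (nat_lit 0) (nat_lit 0) (nat_lit 1) (nat_lit 0) (nat_lit 1) (nat_lit 0) (nat_lit 1) (nat_lit 0x11001100110010) (.cD (nat_lit 4) (.kc (nat_lit 36) (nat_lit 0x5001001)) (.cD (nat_lit 16) (.kA true (nat_lit 0x400200500800100400100300c001002)) (.cD (nat_lit 20) (.kA true (nat_lit 0x400600100800100400100300c001002)) (.cD (nat_lit 32) (.kA true (nat_lit 0x5004003008001008004002005007031001000003)) (.cD (nat_lit 36) (.kA true (nat_lit 0x400500200800100400100300c001002)) (.cD (nat_lit 48) (.kc (nat_lit 52) (nat_lit 0x7001001)) (.cD (nat_lit 52) (.kc (nat_lit 48) (nat_lit 0x3001001)) .nil)))))))) .nil)))))))) (.cD (nat_lit 8) (.dfs (nat_lit 16) (nat_lit 4098) (nat_lit 4098) (nat_lit 4097) (nat_lit 4097) (nat_lit 0) (nat_lit 0) (nat_lit 3) (nat_lit 0) (nat_lit 0) (nat_lit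 0) (nat_lit 1) (nat_lit 0) (nat_lit 1) (nat_lit 0) (nat_lit 1) (nat_lit 0x101010101010100) (.cD (nat_lit 8) (.kc (nat_lit 20) (nat_lit 0x3001001)) (.cD (nat_lit 16) (.dfs (nat_lit 32) (nat_lit 4100) (nat_lit 4100) (nat_lit 0x1002001) (nat_lit 0x1002001) (nat_lit 0) (nat_lit 0) (nat_lit 3) (nat_lit 0) (nat_lit 0) (nat_lit 0) (nat_lit 1) (nat_lit 0) (nat_lit 1) (nat_lit 0) (nat_lit 1) (nat_lit 0x101010101010100) (.cD (nat_lit 8) (.kc (nat_lit 36) (nat_lit 0x5001001)) (.cD (nat_lit 16) (.kc (nat_lit 48) (nat_lit 0x3001001)) (.cD (nat_lit 24) (.kc (nat_lit 52) (nat_lit 0x7001001)) (.cD (nat_lit 32) (.kA false (nat_lit 0x500400200c002002004008014005031001000003)) (.cD (nat_lit 40) (.kA false (nat_lit 0x3100100000400500200d002031001000003)) (.cD (nat_lit 48) (.kA false (nat_lit 0x600800c01000400400300200b002031001000003)) (.cD (nat_lit 56) (.kA false (nat_lit 0x300400200c002002004008014005031001000003)) .nil)))))))) (.cD (nat_lit 24) (.dfs (nat_lit 32) (nat_lit 4100) (nat_lit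 4100) (nat_lit 0x1002001) (nat_lit 0x1002001) (nat_lit 0) (nat_lit 0) (nat_lit 3) (nat_lit 0) (nat_lit 0) (nat_lit 0) (nat_lit 1) (nat_lit 0) (nat_lit 1) (nat_lit 0) (nat_lit 1) (nat_lit 0x101010101010100) (.cD (nat_lit 8) (.kc (nat_lit 36) (nat_lit 0x5001001)) (.cD (nat_lit 16) (.kc (nat_lit 52) (nat_lit 0x7001001)) (.cD (nat_lit 24) (.kc (nat_lit 48) (nat_lit 0x3001001)) (.cD (nat_lit 32) (.kA false (nat_lit 0x500400600c002002004008014005031001000003)) (.cD (nat_lit 40) (.kA false (nat_lit 0x3100100000400500600d002031001000003)) (.cD (nat_lit 48) (.kA false (nat_lit 0x300400600c002002004008014005031001000003)) (.cD (nat_lit 56) (.kA false (nat_lit 0x600800a01000400400300600b002031001000003)) .nil)))))))) (.cD (nat_lit 32) (.kF (nat_lit 16) (nat_lit 0x100400100c012004002002000003)) (.cD (nat_lit 40) (.kF (nat_lit 16) (nat_lit 0x100400100c012004002002000003)) (.cD (nat_lit 48) (.dfs (nat_lit 32) (nat_lit 4100) (nat_lit 4100) (nat_lit 0x1002001) (nat_lit 0x1002001)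 (nat_lit 0) (nat_lit 0) (nat_lit 3) (nat_lit 0) (nat_lit 0) (nat_lit 0) (nat_lit 1) (nat_lit 0) (nat_lit 1) (nat_lit 0) (nat_lit 1) (nat_lit 0x101010101010100) (.cD (nat_lit 8) (.kc (nat_lit 36) (nat_lit 0x5001001)) (.cD (nat_lit 16) (.kA false (nat_lit 0x600800401000400400300100b002031001000003)) (.cD (nat_lit 24) (.kA false (nat_lit 0x300400500c002002004008014005031001000003)) (.cD (nat_lit 32) (.kA false (nat_lit 0x500400300c002002004008014005031001000003)) (.cD (nat_lit 40) (.kA false (nat_lit 0x3100100000400500700d002031001000003)) (.cD (nat_lit 48) (.kc (nat_lit 48) (nat_lit 0x3001001)) (.cD (nat_lit 56) (.kc (nat_lit 52) (nat_lit 0x7001001)) .nil)))))))) (.cD (nat_lit 56) (.dfs (nat_lit 32) (nat_lit 4100) (nat_lit 4100) (nat_lit 0x1002001) (nat_lit 0x1002001) (nat_lit 0) (nat_lit 0) (nat_lit 3) (nat_lit 0) (nat_lit 0) (nat_lit 0) (nat_lit 1) (nat_lit 0) (nat_lit 1) (nat_lit 0) (nat_lit 1) (nat_lit 0x101010101010100) (.cD (nat_lit 8) (.kc (nat_lit 36) (nat_lit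 0x5001001)) (.cD (nat_lit 16) (.kA false (nat_lit 0x300400100c002002004008014005031001000003)) (.cD (nat_lit 24) (.kA false (nat_lit 0x600800201000400400300500b002031001000003)) (.cD (nat_lit 32) (.kA false (nat_lit 0x500400700c002002004008014005031001000003)) (.cD (nat_lit 40) (.kA false (nat_lit 0x3100100000400500300d002031001000003)) (.cD (nat_lit 48) (.kc (nat_lit 52) (nat_lit 0x7001001)) (.cD (nat_lit 56) (.kc (nat_lit 48) (nat_lit 0x3001001)) .nil)))))))) .nil)))))))) (.cD (nat_lit 16) (.kF (nat_lit 4) (nat_lit 0x2002000001003001002)) (.cD (nat_lit 20) (.kF (nat_lit 4) (nat_lit 0xe01e003001003001002)) (.cD (nat_lit 24) (.kF (nat_lit 4) (nat_lit 0x1002001002012004002002000003)) (.cD (nat_lit 32) (.dfs (nat_lit 16) (nat_lit 4098) (nat_lit 4098) (nat_lit 4097) (nat_lit 4097) (nat_lit 0) (nat_lit 0) (nat_lit 3) (nat_lit 0) (nat_lit 0) (nat_lit 0) (nat_lit 1) (nat_lit 0) (nat_lit 0x1008004) (nat_lit 32772) (nat_lit 0x1001004000008001014000018) (nat_lit 0x1000101110110)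 (.cD (nat_lit 4) (.kF (nat_lit 16) (nat_lit 0x31001000001006001002)) (.cD (nat_lit 8) (.kF (nat_lit 16) (nat_lit 0x31001000001006001002)) (.cD (nat_lit 16) (.dfs (nat_lit 32) (nat_lit 4100) (nat_lit 4100) (nat_lit 0x1002001) (nat_lit 0x1002001) (nat_lit 0) (nat_lit 0) (nat_lit 3) (nat_lit 0) (nat_lit 0) (nat_lit 0) (nat_lit 1) (nat_lit 0) (nat_lit 0x1008004) (nat_lit 32772) (nat_lit 0x1001004000008001014000018) (nat_lit 0x1000101110110) (.cD (nat_lit 4) (.kA true (nat_lit 0x100400600c002031001000002)) (.cD (nat_lit 8) (.kA false (nat_lit 0x100400200c002031001000002)) (.cD (nat_lit 16) (.kc (nat_lit 48) (nat_lit 0x3001001)) (.cD (nat_lit 20) (.kA true (nat_lit 0x300400600c002031001000002)) (.cD (nat_lit 24) (.kA false (nat_lit 0x300400200c002031001000002)) (.cD (nat_lit 32) (.kc (nat_lit 36) (nat_lit 0x5001001)) (.cD (nat_lit 48) (.kc (nat_lit 52) (nat_lit 0x7001001)) .nil)))))))) (.cD (nat_lit 20) (.dfs (nat_lit 32) (nat_lit 4100) (nat_lit 4100) (nat_lit 0x1002001)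 (nat_lit 0x1002001) (nat_lit 0) (nat_lit 0) (nat_lit 3) (nat_lit 0) (nat_lit 0) (nat_lit 0) (nat_lit 1) (nat_lit 0) (nat_lit 1) (nat_lit 0) (nat_lit 1) (nat_lit 0x11001100110010) (.cD (nat_lit 4) (.kA true (nat_lit 0x100400700c002031001000002)) (.cD (nat_lit 16) (.kA true (nat_lit 0x300400500c002031001000002)) (.cD (nat_lit 20) (.kc (nat_lit 48) (nat_lit 0x3001001)) (.cD (nat_lit 32) (.kc (nat_lit 36) (nat_lit 0x5001001)) (.cD (nat_lit 36) (.dfs (nat_lit 9) (nat_lit 4100) (nat_lit 4101) (nat_lit 1) (nat_lit 1) (nat_lit 3) (nat_lit 0) (nat_lit 1) (nat_lit 4128) (nat_lit 0x40020010008004002031) (nat_lit 0) (nat_lit 1) (nat_lit 0) (nat_lit 1) (nat_lit 0) (nat_lit 1) (nat_lit 0) .nil) (.cD (nat_lit 48) (.kA true (nat_lit 0x700400100c002031001000002)) (.cD (nat_lit 52) (.kc (nat_lit 52) (nat_lit 0x7001001)) .nil)))))))) (.cD (nat_lit 24) (.dfs (nat_lit 32) (nat_lit 4100) (nat_lit 4100) (nat_lit 0x1002001) (nat_lit 0x1002001) (nat_lit 0) (nat_lit 0) (nat_lit 3) (nat_lit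 0) (nat_lit 0) (nat_lit 0) (nat_lit 1) (nat_lit 0) (nat_lit 1) (nat_lit 0) (nat_lit 1) (nat_lit 0x101010101010100) (.cD (nat_lit 8) (.kA false (nat_lit 0x100400300c002031001000002)) (.cD (nat_lit 16) (.kA false (nat_lit 0x300400100c002031001000002)) (.cD (nat_lit 24) (.kc (nat_lit 48) (nat_lit 0x3001001)) (.cD (nat_lit 32) (.kc (nat_lit 36) (nat_lit 0x5001001)) (.cD (nat_lit 40) (.kA false (nat_lit 0x500400700c002031001000002)) (.cD (nat_lit 48) (.kA false (nat_lit 0x700400500c002031001000002)) (.cD (nat_lit 56) (.kc (nat_lit 52) (nat_lit 0x7001001)) .nil)))))))) (.cD (nat_lit 32) (.kc (nat_lit 20) (nat_lit 0x3001001)) (.cD (nat_lit 48) (.dfs (nat_lit 32) (nat_lit 4100) (nat_lit 4100) (nat_lit 0x1002001) (nat_lit 0x1002001) (nat_lit 0) (nat_lit 0) (nat_lit 3) (nat_lit 0) (nat_lit 0) (nat_lit 0) (nat_lit 1) (nat_lit 0) (nat_lit 0x1008004) (nat_lit 32772) (nat_lit 0x1001004000008001014000018) (nat_lit 0x1000101110110) (.cD (nat_lit 4) (.kA true (nat_lit 0x100400200c002031001000002))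 (.cD (nat_lit 8) (.kA false (nat_lit 0x100400600c002031001000002)) (.cD (nat_lit 16) (.kc (nat_lit 52) (nat_lit 0x7001001)) (.cD (nat_lit 20) (.kA true (nat_lit 0x700400200c002031001000002)) (.cD (nat_lit 24) (.kA false (nat_lit 0x700400600c002031001000002)) (.cD (nat_lit 32) (.kc (nat_lit 36) (nat_lit 0x5001001)) (.cD (nat_lit 48) (.kc (nat_lit 48) (nat_lit 0x3001001)) .nil)))))))) .nil)))))))) (.cD (nat_lit 48) (.kF (nat_lit 4) (nat_lit 0x1002001002012004002002000003)) .nil))))))))))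
theorem c376 : (chk [] [] p376).n x205 s376 = true := by decide +kernel
noncomputable def p377 : Pf := (.anc (nat_lit 68) (nat_lit 0x10002002002000002) (nat_lit 0x1009020010004) (.czp (nat_lit 64) (nat_lit 0) (nat_lit 0x1040020010008004) z6 (.dfs (nat_lit 4) (nat_lit 4097) (nat_lit 4097) (nat_lit 1) (nat_lit 1) (nat_lit 0) (nat_lit 0) (nat_lit 3) (nat_lit 0) (nat_lit 0) (nat_lit 0) (nat_lit 1) (nat_lit 0) (nat_lit 0x1008004) (nat_lit 32772) (nat_lit 0x1001004000008001014000018) (nat_lit 0x1000101110110) (.cD (nat_lit 4) (.dfs (nat_lit 16) (nat_lit 4098) (nat_lit 4098) (nat_lit 4097) (nat_lit 4097) (nat_lit 0) (nat_lit 0) (nat_lit 3) (nat_lit 0) (nat_lit 0) (nat_lit 0) (nat_lit 1) (nat_lit 0) (nat_lit 1) (nat_lit 0) (nat_lit 1) (nat_lit 0x11001100110010) (.cD (nat_lit 4) (.kc (nat_lit 20) (nat_lit 0x3001001)) (.cD (nat_lit 16) (.dfs (nat_lit 32) (nat_lit 4100) (nat_lit 4100) (nat_lit 0x1002001) (nat_lit 0x1002001) (nat_lit 0) (nat_lit 0) (nat_lit 3) (nat_lit 0) (nat_lit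 0) (nat_lit 0) (nat_lit 1) (nat_lit 0) (nat_lit 1) (nat_lit 0) (nat_lit 1) (nat_lit 0x11001100110010) (.cD (nat_lit 4) (.kc (nat_lit 36) (nat_lit 0x5001001)) (.cD (nat_lit 16) (.kc (nat_lit 48) (nat_lit 0x3001001)) (.cD (nat_lit 20) (.kc (nat_lit 52) (nat_lit 0x7001001)) (.cD (nat_lit 32) (.dfs (nat_lit 9) (nat_lit 0x1004001003008) (nat_lit 0x1005001003008) (nat_lit 4098) (nat_lit 4098) (nat_lit 3) (nat_lit 0) (nat_lit 2) (nat_lit 1) (nat_lit 0) (nat_lit 8) (nat_lit 1) (nat_lit 0) (nat_lit 1) (nat_lit 0) (nat_lit 1) (nat_lit 0) .nil) (.cD (nat_lit 36) (.kA true (nat_lit 0x3100100000400100300d001031001000003)) (.cD (nat_lit 48) (.kA true (nat_lit 0x600800401000400400100300d001031001000003)) (.cD (nat_lit 52) (.kA true (nat_lit 0x5004003008001008004002005007031001000003)) .nil)))))))) (.cD (nat_lit 20) (.dfs (nat_lit 32) (nat_lit 4100) (nat_lit 4100) (nat_lit 0x1002001) (nat_lit 0x1002001) (nat_lit 0) (nat_lit 0) (nat_lit 3) (nat_lit 0) (nat_lit 0) (nat_lit 0) (nat_lit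 1) (nat_lit 0) (nat_lit 1) (nat_lit 0) (nat_lit 1) (nat_lit 0x11001100110010) (.cD (nat_lit 4) (.kc (nat_lit 36) (nat_lit 0x5001001)) (.cD (nat_lit 16) (.kc (nat_lit 52) (nat_lit 0x7001001)) (.cD (nat_lit 20) (.kc (nat_lit 48) (nat_lit 0x3001001)) (.cD (nat_lit 32) (.kA true (nat_lit 0x5004003008001008004002005007031001000003)) (.cD (nat_lit 36) (.dfs (nat_lit 9) (nat_lit 4102) (nat_lit 4103) (nat_lit 1) (nat_lit 1) (nat_lit 3) (nat_lit 0) (nat_lit 1) (nat_lit 4112) (nat_lit 0x40020010008004002031) (nat_lit 0) (nat_lit 1) (nat_lit 0) (nat_lit 1) (nat_lit 0) (nat_lit 1) (nat_lit 0) .nil) (.cD (nat_lit 48) (.kA true (nat_lit 0x400300500800100400100300c001002)) (.cD (nat_lit 52) (.kA true (nat_lit 0x400700100800100400100300c001002)) .nil)))))))) (.cD (nat_lit 32) (.kF (nat_lit 16) (nat_lit 0x100400100c012004002002000003)) (.cD (nat_lit 36) (.kF (nat_lit 16) (nat_lit 0x100400100c012004002002000003)) (.cD (nat_lit 48) (.dfs (nat_lit 32) (nat_lit 4100) (nat_lit 4100) (nat_lit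 0x1002001) (nat_lit 0x1002001) (nat_lit 0) (nat_lit 0) (nat_lit 3) (nat_lit 0) (nat_lit 0) (nat_lit 0) (nat_lit 1) (nat_lit 0) (nat_lit 1) (nat_lit 0) (nat_lit 1) (nat_lit 0x11001100110010) (.cD (nat_lit 4) (.kc (nat_lit 36) (nat_lit 0x5001001)) (.cD (nat_lit 16) (.kA true (nat_lit 0x400200100800100400100300c001002)) (.cD (nat_lit 20) (.kA true (nat_lit 0x400600500800100400100300c001002)) (.cD (nat_lit 32) (.kA true (nat_lit 0x5004003008001008004002005007031001000003)) (.cD (nat_lit 36) (.kA true (nat_lit 0x400500600800100400100300c001002)) (.cD (nat_lit 48) (.kc (nat_lit 48) (nat_lit 0x3001001)) (.cD (nat_lit 52) (.kc (nat_lit 52) (nat_lit 0x7001001)) .nil)))))))) (.cD (nat_lit 52) (.dfs (nat_lit 32) (nat_lit 4100) (nat_lit 4100) (nat_lit 0x1002001) (nat_lit 0x1002001) (nat_lit 0) (nat_lit 0) (nat_lit 3) (nat_lit 0) (nat_lit 0) (nat_lit 0) (nat_lit 1) (nat_lit 0) (nat_lit 1) (nat_lit 0) (nat_lit 1) (nat_lit 0x11001100110010) (.cD (nat_lit 4) (.kc (nat_lit 36) (nat_lit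 0x5001001)) (.cD (nat_lit 16) (.kA true (nat_lit 0x400200500800100400100300c001002)) (.cD (nat_lit 20) (.kA true (nat_lit 0x400600100800100400100300c001002)) (.cD (nat_lit 32) (.kA true (nat_lit 0x5004003008001008004002005007031001000003)) (.cD (nat_lit 36) (.kA true (nat_lit 0x400500200800100400100300c001002)) (.cD (nat_lit 48) (.kc (nat_lit 52) (nat_lit 0x7001001)) (.cD (nat_lit 52) (.kc (nat_lit 48) (nat_lit 0x3001001)) .nil)))))))) .nil)))))))) (.cD (nat_lit 8) (.dfs (nat_lit 16) (nat_lit 4098) (nat_lit 4098) (nat_lit 4097) (nat_lit 4097) (nat_lit 0) (nat_lit 0) (nat_lit 3) (nat_lit 0) (nat_lit 0) (nat_lit 0) (nat_lit 1) (nat_lit 0) (nat_lit 1) (nat_lit 0) (nat_lit 1) (nat_lit 0x101010101010100) (.cD (nat_lit 8) (.kc (nat_lit 20) (nat_lit 0x3001001)) (.cD (nat_lit 16) (.dfs (nat_lit 32) (nat_lit 4100) (nat_lit 4100) (nat_lit 0x1002001) (nat_lit 0x1002001) (nat_lit 0) (nat_lit 0) (nat_lit 3) (nat_lit 0) (nat_lit 0) (nat_lit 0) (nat_lit 1) (nat_lit 0) (nat_lit 1)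 (nat_lit 0) (nat_lit 1) (nat_lit 0x101010101010100) (.cD (nat_lit 8) (.kc (nat_lit 36) (nat_lit 0x5001001)) (.cD (nat_lit 16) (.kc (nat_lit 48) (nat_lit 0x3001001)) (.cD (nat_lit 24) (.kc (nat_lit 52) (nat_lit 0x7001001)) (.cD (nat_lit 32) (.kA false (nat_lit 0x500400200c002002004008014005031001000003)) (.cD (nat_lit 40) (.kA false (nat_lit 0x3100100000400500200d002031001000003)) (.cD (nat_lit 48) (.kA false (nat_lit 0x600800c01000400400300200b002031001000003)) (.cD (nat_lit 56) (.kA false (nat_lit 0x300400200c002002004008014005031001000003)) .nil)))))))) (.cD (nat_lit 24) (.dfs (nat_lit 32) (nat_lit 4100) (nat_lit 4100) (nat_lit 0x1002001) (nat_lit 0x1002001) (nat_lit 0) (nat_lit 0) (nat_lit 3) (nat_lit 0) (nat_lit 0) (nat_lit 0) (nat_lit 1) (nat_lit 0) (nat_lit 1) (nat_lit 0) (nat_lit 1) (nat_lit 0x101010101010100) (.cD (nat_lit 8) (.kc (nat_lit 36) (nat_lit 0x5001001)) (.cD (nat_lit 16) (.kc (nat_lit 52) (nat_lit 0x7001001)) (.cD (nat_lit 24) (.kc (nat_lit 48)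 (nat_lit 0x3001001)) (.cD (nat_lit 32) (.kA false (nat_lit 0x500400600c002002004008014005031001000003)) (.cD (nat_lit 40) (.kA false (nat_lit 0x3100100000400500600d002031001000003)) (.cD (nat_lit 48) (.kA false (nat_lit 0x300400600c002002004008014005031001000003)) (.cD (nat_lit 56) (.kA false (nat_lit 0x600800a01000400400300600b002031001000003)) .nil)))))))) (.cD (nat_lit 32) (.kF (nat_lit 16) (nat_lit 0x100400100c012004002002000003)) (.cD (nat_lit 40) (.kF (nat_lit 16) (nat_lit 0x100400100c012004002002000003)) (.cD (nat_lit 48) (.dfs (nat_lit 32) (nat_lit 4100) (nat_lit 4100) (nat_lit 0x1002001) (nat_lit 0x1002001) (nat_lit 0) (nat_lit 0) (nat_lit 3) (nat_lit 0) (nat_lit 0) (nat_lit 0) (nat_lit 1) (nat_lit 0) (nat_lit 1) (nat_lit 0) (nat_lit 1) (nat_lit 0x101010101010100) (.cD (nat_lit 8) (.kc (nat_lit 36) (nat_lit 0x5001001)) (.cD (nat_lit 16) (.kA false (nat_lit 0x600800401000400400300100b002031001000003)) (.cD (nat_lit 24) (.kA false (nat_lit 0x300400500c002002004008014005031001000003))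 (.cD (nat_lit 32) (.kA false (nat_lit 0x500400300c002002004008014005031001000003)) (.cD (nat_lit 40) (.kA false (nat_lit 0x3100100000400500700d002031001000003)) (.cD (nat_lit 48) (.kc (nat_lit 48) (nat_lit 0x3001001)) (.cD (nat_lit 56) (.kc (nat_lit 52) (nat_lit 0x7001001)) .nil)))))))) (.cD (nat_lit 56) (.dfs (nat_lit 32) (nat_lit 4100) (nat_lit 4100) (nat_lit 0x1002001) (nat_lit 0x1002001) (nat_lit 0) (nat_lit 0) (nat_lit 3) (nat_lit 0) (nat_lit 0) (nat_lit 0) (nat_lit 1) (nat_lit 0) (nat_lit 1) (nat_lit 0) (nat_lit 1) (nat_lit 0x101010101010100) (.cD (nat_lit 8) (.kc (nat_lit 36) (nat_lit 0x5001001)) (.cD (nat_lit 16) (.kA false (nat_lit 0x300400100c002002004008014005031001000003)) (.cD (nat_lit 24) (.kA false (nat_lit 0x600800201000400400300500b002031001000003)) (.cD (nat_lit 32) (.kA false (nat_lit 0x500400700c002002004008014005031001000003)) (.cD (nat_lit 40) (.kA false (nat_lit 0x3100100000400500300d002031001000003)) (.cD (nat_lit 48) (.kc (nat_lit 52) (nat_lit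 0x7001001)) (.cD (nat_lit 56) (.kc (nat_lit 48) (nat_lit 0x3001001)) .nil)))))))) .nil)))))))) (.cD (nat_lit 16) (.kF (nat_lit 4) (nat_lit 0x2002000001003001002)) (.cD (nat_lit 20) (.kF (nat_lit 4) (nat_lit 0xe01e003001003001002)) (.cD (nat_lit 24) (.kF (nat_lit 4) (nat_lit 0x1002001002012004002002000003)) (.cD (nat_lit 32) (.dfs (nat_lit 16) (nat_lit 4098) (nat_lit 4098) (nat_lit 4097) (nat_lit 4097) (nat_lit 0) (nat_lit 0) (nat_lit 3) (nat_lit 0) (nat_lit 0) (nat_lit 0) (nat_lit 1) (nat_lit 0) (nat_lit 0x1008004) (nat_lit 32772) (nat_lit 0x1001004000008001014000018) (nat_lit 0x1000101110110) (.cD (nat_lit 4) (.kF (nat_lit 16) (nat_lit 0x31001000001006001002)) (.cD (nat_lit 8) (.kF (nat_lit 16) (nat_lit 0x31001000001006001002)) (.cD (nat_lit 16) (.dfs (nat_lit 32) (nat_lit 4100) (nat_lit 4100) (nat_lit 0x1002001) (nat_lit 0x1002001) (nat_lit 0) (nat_lit 0) (nat_lit 3) (nat_lit 0) (nat_lit 0) (nat_lit 0) (nat_lit 1) (nat_lit 0) (nat_lit 0x1008004) (nat_lit 32772)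 (nat_lit 0x1001004000008001014000018) (nat_lit 0x1000101110110) (.cD (nat_lit 4) (.kA true (nat_lit 0x100400600c002031001000002)) (.cD (nat_lit 8) (.kA false (nat_lit 0x100400200c002031001000002)) (.cD (nat_lit 16) (.kc (nat_lit 48) (nat_lit 0x3001001)) (.cD (nat_lit 20) (.kA true (nat_lit 0x300400600c002031001000002)) (.cD (nat_lit 24) (.kA false (nat_lit 0x300400200c002031001000002)) (.cD (nat_lit 32) (.kc (nat_lit 36) (nat_lit 0x5001001)) (.cD (nat_lit 48) (.kc (nat_lit 52) (nat_lit 0x7001001)) .nil)))))))) (.cD (nat_lit 20) (.dfs (nat_lit 32) (nat_lit 4100) (nat_lit 4100) (nat_lit 0x1002001) (nat_lit 0x1002001) (nat_lit 0) (nat_lit 0) (nat_lit 3) (nat_lit 0) (nat_lit 0) (nat_lit 0) (nat_lit 1) (nat_lit 0) (nat_lit 1) (nat_lit 0) (nat_lit 1) (nat_lit 0x11001100110010) (.cD (nat_lit 4) (.kA true (nat_lit 0x100400700c002031001000002)) (.cD (nat_lit 16) (.kA true (nat_lit 0x300400500c002031001000002)) (.cD (nat_lit 20) (.kc (nat_lit 48) (nat_lit 0x3001001)) (.cD (nat_lit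 32) (.kc (nat_lit 36) (nat_lit 0x5001001)) (.cD (nat_lit 36) (.dfs (nat_lit 9) (nat_lit 4100) (nat_lit 4101) (nat_lit 1) (nat_lit 1) (nat_lit 3) (nat_lit 0) (nat_lit 1) (nat_lit 4128) (nat_lit 0x40020010008004002031) (nat_lit 0) (nat_lit 1) (nat_lit 0) (nat_lit 1) (nat_lit 0) (nat_lit 1) (nat_lit 0) .nil) (.cD (nat_lit 48) (.kA true (nat_lit 0x700400100c002031001000002)) (.cD (nat_lit 52) (.kc (nat_lit 52) (nat_lit 0x7001001)) .nil)))))))) (.cD (nat_lit 24) (.dfs (nat_lit 32) (nat_lit 4100) (nat_lit 4100) (nat_lit 0x1002001) (nat_lit 0x1002001) (nat_lit 0) (nat_lit 0) (nat_lit 3) (nat_lit 0) (nat_lit 0) (nat_lit 0) (nat_lit 1) (nat_lit 0) (nat_lit 1) (nat_lit 0) (nat_lit 1) (nat_lit 0x101010101010100) (.cD (nat_lit 8) (.kA false (nat_lit 0x100400300c002031001000002)) (.cD (nat_lit 16) (.kA false (nat_lit 0x300400100c002031001000002)) (.cD (nat_lit 24) (.kc (nat_lit 48) (nat_lit 0x3001001)) (.cD (nat_lit 32) (.kc (nat_lit 36) (nat_lit 0x5001001)) (.cD (nat_lit 40)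 (.kA false (nat_lit 0x500400700c002031001000002)) (.cD (nat_lit 48) (.kA false (nat_lit 0x700400500c002031001000002)) (.cD (nat_lit 56) (.kc (nat_lit 52) (nat_lit 0x7001001)) .nil)))))))) (.cD (nat_lit 32) (.kc (nat_lit 20) (nat_lit 0x3001001)) (.cD (nat_lit 48) (.dfs (nat_lit 32) (nat_lit 4100) (nat_lit 4100) (nat_lit 0x1002001) (nat_lit 0x1002001) (nat_lit 0) (nat_lit 0) (nat_lit 3) (nat_lit 0) (nat_lit 0) (nat_lit 0) (nat_lit 1) (nat_lit 0) (nat_lit 0x1008004) (nat_lit 32772) (nat_lit 0x1001004000008001014000018) (nat_lit 0x1000101110110) (.cD (nat_lit 4) (.kA true (nat_lit 0x100400200c002031001000002)) (.cD (nat_lit 8) (.kA false (nat_lit 0x100400600c002031001000002)) (.cD (nat_lit 16) (.kc (nat_lit 52) (nat_lit 0x7001001)) (.cD (nat_lit 20) (.kA true (nat_lit 0x700400200c002031001000002)) (.cD (nat_lit 24) (.kA false (nat_lit 0x700400600c002031001000002)) (.cD (nat_lit 32) (.kc (nat_lit 36) (nat_lit 0x5001001)) (.cD (nat_lit 48) (.kc (nat_lit 48) (nat_lit 0x3001001))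 .nil)))))))) .nil)))))))) (.cD (nat_lit 48) (.kF (nat_lit 4) (nat_lit 0x1002001002012004002002000003)) .nil))))))))))
theorem c377 : (chk [] [] p377).n x206 s377 = true := by decide +kernel
noncomputable def p378 : Pf := (.lft (nat_lit 0x20008018001004002003001) (nat_lit 0) (nat_lit 0x1028020) (nat_lit 0x20010008004002001) (.extn a6 (nat_lit 0x20010008004002001) (nat_lit 0x1004010008020) (nat_lit 2) (nat_lit 0) (nat_lit 0) (nat_lit 0) (nat_lit 0x1010101) (.cE (nat_lit 0) b7 t7 (.cut (nat_lit 0)) (.cut (nat_lit 1)) (.cE (nat_lit 8) b46 (nat_lit 0) (.cut (nat_lit 2)) (.cut (nat_lit 3)) (.cE (nat_lit 16) b47 (nat_lit 0) (.iso x203 s374 (nat_lit 0) (nat_lit 0x1040020010008004002001) (nat_lit 0x40020010008004002001) [(nat_lit 0x8004002001009001)] (.cut (nat_lit 4))) (.cut (nat_lit 5)) (.cE (nat_lit 24) b48 (nat_lit 0) (.cut (nat_lit 6)) (.cut (nat_lit 7)) .nil))))))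
theorem c378 : (chk [(x120, s370), (x200, s371), (x201, s372), (x202, s373), (x203, s374), (x204, s375), (x205, s376), (x206, s377)] [g47] p378).n x87 s378 = true := by decide +kernel
noncomputable def p379 : Pf := (.ext (nat_lit 1) (nat_lit 0) (nat_lit 0x1040030020004) (nat_lit 0x1002004008005001) (nat_lit 0x2003004008) (nat_lit 4107) (nat_lit 4107) (nat_lit 0xc004002001) (.dfs (nat_lit 11) (nat_lit 0x1002003004008) (nat_lit 0x100200300400c) (nat_lit 4097) (nat_lit 4097) (nat_lit 0) (nat_lit 0) (nat_lit 2) (nat_lit 1) (nat_lit 0) (nat_lit 11) (nat_lit 1) (nat_lit 0) (nat_lit 4160) (nat_lit 64) (nat_lit 0x100000b00000f00001b00001f) (nat_lit 0x88008800) (.cD (nat_lit 11) (.cut (nat_lit 0)) (.cD (nat_lit 15) (.iso x120 s363 (nat_lit 0) (nat_lit 0x1040020010008004012001) (nat_lit 0x40020010008004012001) [(nat_lit 0x1000800400200d001001), (nat_lit 0x1000800400200d003001), (nat_lit 0x10008004002009005001)] (.cut (nat_lit 0))) (.cD (nat_lit 27) (.kS (nat_lit 1) (nat_lit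 0x2006008010002008008000002) (nat_lit 4159) (nat_lit 0x8004002003) (nat_lit 0x800800000200400801000100100800800000200600801000f001004)) (.cD (nat_lit 31) (.kS (nat_lit 1) (nat_lit 0x2006008010002008008000002) (nat_lit 4123) (nat_lit 0x8004002003) (nat_lit 0x800800000200400801000100100800800000200600801000d001004)) .nil))))))
theorem c379 : (chk [(x120, s363)] [g7] p379).n x120 s379 = true := by decide +kernel
noncomputable def p380 : Pf := (.anc (nat_lit 68) (nat_lit 0x10002002002000002) (nat_lit 0x1009020010004) (.czp (nat_lit 64) (nat_lit 0) (nat_lit 0x1040020010008004) z6 (.dfs (nat_lit 4) (nat_lit 4097) (nat_lit 4097) (nat_lit 1) (nat_lit 1) (nat_lit 0) (nat_lit 0) (nat_lit 3) (nat_lit 0) (nat_lit 0) (nat_lit 0) (nat_lit 1) (nat_lit 0) (nat_lit 0x1008004) (nat_lit 32772) (nat_lit 0x1001004000008001014000018) (nat_lit 0x1000101110110) (.cD (nat_lit 4) (.dfs (nat_lit 16) (nat_lit 4098) (nat_lit 4098) (nat_lit 4097) (nat_lit 4097) (nat_lit 0) (nat_lit 0) (nat_lit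 3) (nat_lit 0) (nat_lit 0) (nat_lit 0) (nat_lit 1) (nat_lit 0) (nat_lit 1) (nat_lit 0) (nat_lit 1) (nat_lit 0x11001100110010) (.cD (nat_lit 4) (.kc (nat_lit 20) (nat_lit 0x3001001)) (.cD (nat_lit 16) (.dfs (nat_lit 32) (nat_lit 4100) (nat_lit 4100) (nat_lit 0x1002001) (nat_lit 0x1002001) (nat_lit 0) (nat_lit 0) (nat_lit 3) (nat_lit 0) (nat_lit 0) (nat_lit 0) (nat_lit 1) (nat_lit 0) (nat_lit 1) (nat_lit 0) (nat_lit 1) (nat_lit 0x11001100110010) (.cD (nat_lit 4) (.kc (nat_lit 36) (nat_lit 0x5001001)) (.cD (nat_lit 16) (.kc (nat_lit 48) (nat_lit 0x3001001)) (.cD (nat_lit 20) (.kc (nat_lit 52) (nat_lit 0x7001001)) (.cD (nat_lit 32) (.dfs (nat_lit 9) (nat_lit 0x1004001003008) (nat_lit 0x1005001003008) (nat_lit 4098) (nat_lit 4098) (nat_lit 0) (nat_lit 0) (nat_lit 2) (nat_lit 1) (nat_lit 0) (nat_lit 8) (nat_lit 1) (nat_lit 0) (nat_lit 4100) (nat_lit 4) (nat_lit 0x1000048000058) (nat_lit 0x10001000000000000000000) (.cD (nat_lit 72) (.kb (nat_lit 9) (nat_lit 0x1001000014006001001003)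 (nat_lit 0x1020010008044002001)) (.cD (nat_lit 88) (.kb (nat_lit 25) (nat_lit 0x1001000014006005001003) (nat_lit 0x1020010008044002001)) .nil))) (.cD (nat_lit 36) (.kA true (nat_lit 0x100100000400100300d001001001000003)) (.cD (nat_lit 48) (.kA true (nat_lit 0x600800401000400400100300d001001001000003)) (.cD (nat_lit 52) (.kA true (nat_lit 0x5004003008001008004002005007001001000003)) .nil)))))))) (.cD (nat_lit 20) (.dfs (nat_lit 32) (nat_lit 4100) (nat_lit 4100) (nat_lit 0x1002001) (nat_lit 0x1002001) (nat_lit 0) (nat_lit 0) (nat_lit 3) (nat_lit 0) (nat_lit 0) (nat_lit 0) (nat_lit 1) (nat_lit 0) (nat_lit 1) (nat_lit 0) (nat_lit 1) (nat_lit 0x11001100110010) (.cD (nat_lit 4) (.kc (nat_lit 36) (nat_lit 0x5001001)) (.cD (nat_lit 16) (.kc (nat_lit 52) (nat_lit 0x7001001)) (.cD (nat_lit 20) (.kc (nat_lit 48) (nat_lit 0x3001001)) (.cD (nat_lit 32) (.kA true (nat_lit 0x5004003008001008004002005007001001000003)) (.cD (nat_lit 36) (.dfs (nat_lit 9) (nat_lit 4102) (nat_lit 4103)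 (nat_lit 1) (nat_lit 1) (nat_lit 0) (nat_lit 0) (nat_lit 1) (nat_lit 4112) (nat_lit 0x40020010008004002001) (nat_lit 0) (nat_lit 1) (nat_lit 0) (nat_lit 1) (nat_lit 0) (nat_lit 1) (nat_lit 0) .nil) (.cD (nat_lit 48) (.kA true (nat_lit 0x400300500800100400100300c001002)) (.cD (nat_lit 52) (.kA true (nat_lit 0x400700100800100400100300c001002)) .nil)))))))) (.cD (nat_lit 32) (.kF (nat_lit 16) (nat_lit 0x100400100c012004002002000003)) (.cD (nat_lit 36) (.kF (nat_lit 16) (nat_lit 0x100400100c012004002002000003)) (.cD (nat_lit 48) (.dfs (nat_lit 32) (nat_lit 4100) (nat_lit 4100) (nat_lit 0x1002001) (nat_lit 0x1002001) (nat_lit 0) (nat_lit 0) (nat_lit 3) (nat_lit 0) (nat_lit 0) (nat_lit 0) (nat_lit 1) (nat_lit 0) (nat_lit 1) (nat_lit 0) (nat_lit 1) (nat_lit 0x11001100110010) (.cD (nat_lit 4) (.kc (nat_lit 36) (nat_lit 0x5001001)) (.cD (nat_lit 16) (.kA true (nat_lit 0x400200100800100400100300c001002)) (.cD (nat_lit 20) (.kA true (nat_lit 0x400600500800100400100300c001002))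 (.cD (nat_lit 32) (.kA true (nat_lit 0x5004003008001008004002005007001001000003)) (.cD (nat_lit 36) (.kA true (nat_lit 0x400500600800100400100300c001002)) (.cD (nat_lit 48) (.kc (nat_lit 48) (nat_lit 0x3001001)) (.cD (nat_lit 52) (.kc (nat_lit 52) (nat_lit 0x7001001)) .nil)))))))) (.cD (nat_lit 52) (.dfs (nat_lit 32) (nat_lit 4100) (nat_lit 4100) (nat_lit 0x1002001) (nat_lit 0x1002001) (nat_lit 0) (nat_lit 0) (nat_lit 3) (nat_lit 0) (nat_lit 0) (nat_lit 0) (nat_lit 1) (nat_lit 0) (nat_lit 1) (nat_lit 0) (nat_lit 1) (nat_lit 0x11001100110010) (.cD (nat_lit 4) (.kc (nat_lit 36) (nat_lit 0x5001001)) (.cD (nat_lit 16) (.kA true (nat_lit 0x400200500800100400100300c001002)) (.cD (nat_lit 20) (.kA true (nat_lit 0x400600100800100400100300c001002)) (.cD (nat_lit 32) (.kA true (nat_lit 0x5004003008001008004002005007001001000003)) (.cD (nat_lit 36) (.kA true (nat_lit 0x400500200800100400100300c001002)) (.cD (nat_lit 48) (.kc (nat_lit 52) (nat_lit 0x7001001)) (.cD (nat_lit 52)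 (.kc (nat_lit 48) (nat_lit 0x3001001)) .nil)))))))) .nil)))))))) (.cD (nat_lit 8) (.dfs (nat_lit 16) (nat_lit 4098) (nat_lit 4098) (nat_lit 4097) (nat_lit 4097) (nat_lit 0) (nat_lit 0) (nat_lit 3) (nat_lit 0) (nat_lit 0) (nat_lit 0) (nat_lit 1) (nat_lit 0) (nat_lit 1) (nat_lit 0) (nat_lit 1) (nat_lit 0x101010101010100) (.cD (nat_lit 8) (.kc (nat_lit 20) (nat_lit 0x3001001)) (.cD (nat_lit 16) (.dfs (nat_lit 32) (nat_lit 4100) (nat_lit 4100) (nat_lit 0x1002001) (nat_lit 0x1002001) (nat_lit 0) (nat_lit 0) (nat_lit 3) (nat_lit 0) (nat_lit 0) (nat_lit 0) (nat_lit 1) (nat_lit 0) (nat_lit 1) (nat_lit 0) (nat_lit 1) (nat_lit 0x101010101010100) (.cD (nat_lit 8) (.kc (nat_lit 36) (nat_lit 0x5001001)) (.cD (nat_lit 16) (.kc (nat_lit 48) (nat_lit 0x3001001)) (.cD (nat_lit 24) (.kc (nat_lit 52) (nat_lit 0x7001001)) (.cD (nat_lit 32) (.kA false (nat_lit 0x500400200c002002004008014005001001000003)) (.cD (nat_lit 40) (.kA false (nat_lit 0x100100000400500200d002001001000003)) (.cD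 (nat_lit 48) (.kA false (nat_lit 0x600800c01000400400300200b002001001000003)) (.cD (nat_lit 56) (.kA false (nat_lit 0x300400200c002002004008014005001001000003)) .nil)))))))) (.cD (nat_lit 24) (.dfs (nat_lit 32) (nat_lit 4100) (nat_lit 4100) (nat_lit 0x1002001) (nat_lit 0x1002001) (nat_lit 0) (nat_lit 0) (nat_lit 3) (nat_lit 0) (nat_lit 0) (nat_lit 0) (nat_lit 1) (nat_lit 0) (nat_lit 1) (nat_lit 0) (nat_lit 1) (nat_lit 0x101010101010100) (.cD (nat_lit 8) (.kc (nat_lit 36) (nat_lit 0x5001001)) (.cD (nat_lit 16) (.kc (nat_lit 52) (nat_lit 0x7001001)) (.cD (nat_lit 24) (.kc (nat_lit 48) (nat_lit 0x3001001)) (.cD (nat_lit 32) (.kA false (nat_lit 0x500400600c002002004008014005001001000003)) (.cD (nat_lit 40) (.kA false (nat_lit 0x100100000400500600d002001001000003)) (.cD (nat_lit 48) (.kA false (nat_lit 0x300400600c002002004008014005001001000003)) (.cD (nat_lit 56) (.kA false (nat_lit 0x600800a01000400400300600b002001001000003)) .nil)))))))) (.cD (nat_lit 32) (.kF (nat_lit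 16) (nat_lit 0x100400100c012004002002000003)) (.cD (nat_lit 40) (.kF (nat_lit 16) (nat_lit 0x100400100c012004002002000003)) (.cD (nat_lit 48) (.dfs (nat_lit 32) (nat_lit 4100) (nat_lit 4100) (nat_lit 0x1002001) (nat_lit 0x1002001) (nat_lit 0) (nat_lit 0) (nat_lit 3) (nat_lit 0) (nat_lit 0) (nat_lit 0) (nat_lit 1) (nat_lit 0) (nat_lit 1) (nat_lit 0) (nat_lit 1) (nat_lit 0x101010101010100) (.cD (nat_lit 8) (.kc (nat_lit 36) (nat_lit 0x5001001)) (.cD (nat_lit 16) (.kA false (nat_lit 0x600800401000400400300100b002001001000003)) (.cD (nat_lit 24) (.kA false (nat_lit 0x300400500c002002004008014005001001000003)) (.cD (nat_lit 32) (.kA false (nat_lit 0x500400300c002002004008014005001001000003)) (.cD (nat_lit 40) (.kA false (nat_lit 0x100100000400500700d002001001000003)) (.cD (nat_lit 48) (.kc (nat_lit 48) (nat_lit 0x3001001)) (.cD (nat_lit 56) (.kc (nat_lit 52) (nat_lit 0x7001001)) .nil)))))))) (.cD (nat_lit 56) (.dfs (nat_lit 32) (nat_lit 4100) (nat_lit 4100) (nat_lit 0x1002001)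 (nat_lit 0x1002001) (nat_lit 0) (nat_lit 0) (nat_lit 3) (nat_lit 0) (nat_lit 0) (nat_lit 0) (nat_lit 1) (nat_lit 0) (nat_lit 1) (nat_lit 0) (nat_lit 1) (nat_lit 0x101010101010100) (.cD (nat_lit 8) (.kc (nat_lit 36) (nat_lit 0x5001001)) (.cD (nat_lit 16) (.kA false (nat_lit 0x300400100c002002004008014005001001000003)) (.cD (nat_lit 24) (.kA false (nat_lit 0x600800201000400400300500b002001001000003)) (.cD (nat_lit 32) (.kA false (nat_lit 0x500400700c002002004008014005001001000003)) (.cD (nat_lit 40) (.kA false (nat_lit 0x100100000400500300d002001001000003)) (.cD (nat_lit 48) (.kc (nat_lit 52) (nat_lit 0x7001001)) (.cD (nat_lit 56) (.kc (nat_lit 48) (nat_lit 0x3001001)) .nil)))))))) .nil)))))))) (.cD (nat_lit 16) (.kF (nat_lit 4) (nat_lit 0x2002000001003001002)) (.cD (nat_lit 20) (.kF (nat_lit 4) (nat_lit 0xe01e003001003001002)) (.cD (nat_lit 24) (.kF (nat_lit 4) (nat_lit 0x1002001002012004002002000003)) (.cD (nat_lit 32) (.dfs (nat_lit 16) (nat_lit 4098) (nat_lit 4098)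 (nat_lit 4097) (nat_lit 4097) (nat_lit 0) (nat_lit 0) (nat_lit 3) (nat_lit 0) (nat_lit 0) (nat_lit 0) (nat_lit 1) (nat_lit 0) (nat_lit 0x1008004) (nat_lit 32772) (nat_lit 0x1001004000008001014000018) (nat_lit 0x1000101110110) (.cD (nat_lit 4) (.kF (nat_lit 16) (nat_lit 0x1001000001006001002)) (.cD (nat_lit 8) (.kF (nat_lit 16) (nat_lit 0x1001000001006001002)) (.cD (nat_lit 16) (.dfs (nat_lit 32) (nat_lit 4100) (nat_lit 4100) (nat_lit 0x1002001) (nat_lit 0x1002001) (nat_lit 0) (nat_lit 0) (nat_lit 3) (nat_lit 0) (nat_lit 0) (nat_lit 0) (nat_lit 1) (nat_lit 0) (nat_lit 0x1008004) (nat_lit 32772) (nat_lit 0x1001004000008001014000018) (nat_lit 0x1000101110110) (.cD (nat_lit 4) (.kA true (nat_lit 0x100400600c002001001000002)) (.cD (nat_lit 8) (.kA false (nat_lit 0x100400200c002001001000002)) (.cD (nat_lit 16) (.kc (nat_lit 48) (nat_lit 0x3001001)) (.cD (nat_lit 20) (.kA true (nat_lit 0x300400600c002001001000002)) (.cD (nat_lit 24) (.kA false (nat_lit 0x300400200c002001001000002))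 (.cD (nat_lit 32) (.kc (nat_lit 36) (nat_lit 0x5001001)) (.cD (nat_lit 48) (.kc (nat_lit 52) (nat_lit 0x7001001)) .nil)))))))) (.cD (nat_lit 20) (.dfs (nat_lit 32) (nat_lit 4100) (nat_lit 4100) (nat_lit 0x1002001) (nat_lit 0x1002001) (nat_lit 0) (nat_lit 0) (nat_lit 3) (nat_lit 0) (nat_lit 0) (nat_lit 0) (nat_lit 1) (nat_lit 0) (nat_lit 1) (nat_lit 0) (nat_lit 1) (nat_lit 0x11001100110010) (.cD (nat_lit 4) (.kA true (nat_lit 0x100400700c002001001000002)) (.cD (nat_lit 16) (.kA true (nat_lit 0x300400500c002001001000002)) (.cD (nat_lit 20) (.kc (nat_lit 48) (nat_lit 0x3001001)) (.cD (nat_lit 32) (.kc (nat_lit 36) (nat_lit 0x5001001)) (.cD (nat_lit 36) (.dfs (nat_lit 9) (nat_lit 4100) (nat_lit 4101) (nat_lit 1) (nat_lit 1) (nat_lit 0) (nat_lit 0) (nat_lit 1) (nat_lit 4128) (nat_lit 0x40020010008004002001) (nat_lit 0) (nat_lit 1) (nat_lit 0) (nat_lit 1) (nat_lit 0) (nat_lit 1) (nat_lit 0) .nil) (.cD (nat_lit 48) (.kA true (nat_lit 0x700400100c002001001000002)) (.cD (nat_lit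 52) (.kc (nat_lit 52) (nat_lit 0x7001001)) .nil)))))))) (.cD (nat_lit 24) (.dfs (nat_lit 32) (nat_lit 4100) (nat_lit 4100) (nat_lit 0x1002001) (nat_lit 0x1002001) (nat_lit 0) (nat_lit 0) (nat_lit 3) (nat_lit 0) (nat_lit 0) (nat_lit 0) (nat_lit 1) (nat_lit 0) (nat_lit 1) (nat_lit 0) (nat_lit 1) (nat_lit 0x101010101010100) (.cD (nat_lit 8) (.kA false (nat_lit 0x100400300c002001001000002)) (.cD (nat_lit 16) (.kA false (nat_lit 0x300400100c002001001000002)) (.cD (nat_lit 24) (.kc (nat_lit 48) (nat_lit 0x3001001)) (.cD (nat_lit 32) (.kc (nat_lit 36) (nat_lit 0x5001001)) (.cD (nat_lit 40) (.kA false (nat_lit 0x500400700c002001001000002)) (.cD (nat_lit 48) (.kA false (nat_lit 0x700400500c002001001000002)) (.cD (nat_lit 56) (.kc (nat_lit 52) (nat_lit 0x7001001)) .nil)))))))) (.cD (nat_lit 32) (.kc (nat_lit 20) (nat_lit 0x3001001)) (.cD (nat_lit 48) (.dfs (nat_lit 32) (nat_lit 4100) (nat_lit 4100) (nat_lit 0x1002001) (nat_lit 0x1002001) (nat_lit 0) (nat_lit 0) (nat_lit 3)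 (nat_lit 0) (nat_lit 0) (nat_lit 0) (nat_lit 1) (nat_lit 0) (nat_lit 0x1008004) (nat_lit 32772) (nat_lit 0x1001004000008001014000018) (nat_lit 0x1000101110110) (.cD (nat_lit 4) (.kA true (nat_lit 0x100400200c002001001000002)) (.cD (nat_lit 8) (.kA false (nat_lit 0x100400600c002001001000002)) (.cD (nat_lit 16) (.kc (nat_lit 52) (nat_lit 0x7001001)) (.cD (nat_lit 20) (.kA true (nat_lit 0x700400200c002001001000002)) (.cD (nat_lit 24) (.kA false (nat_lit 0x700400600c002001001000002)) (.cD (nat_lit 32) (.kc (nat_lit 36) (nat_lit 0x5001001)) (.cD (nat_lit 48) (.kc (nat_lit 48) (nat_lit 0x3001001)) .nil)))))))) .nil)))))))) (.cD (nat_lit 48) (.kF (nat_lit 4) (nat_lit 0x1002001002012004002002000003)) .nil))))))))))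
theorem c380 : (chk [] [] p380).n x200 s380 = true := by decide +kernel
noncomputable def p381 : Pf := (.anc (nat_lit 68) (nat_lit 0x10002002002000002) (nat_lit 0x1009020010004) (.czp (nat_lit 64) (nat_lit 0) (nat_lit 0x1040020010008004) z6 (.dfs (nat_lit 4) (nat_lit 4097) (nat_lit 4097) (nat_lit 1) (nat_lit 1) (nat_lit 0) (nat_lit 0) (nat_lit 3) (nat_lit 0) (nat_lit 0) (nat_lit 0) (nat_lit 1) (nat_lit 0) (nat_lit 0x1008004) (nat_lit 32772) (nat_lit 0x1001004000008001014000018) (nat_lit 0x1000101110110) (.cD (nat_lit 4) (.dfs (nat_lit 16) (nat_lit 4098) (nat_lit 4098) (nat_lit 4097) (nat_lit 4097) (nat_lit 0) (nat_lit 0) (nat_lit 3) (nat_lit 0) (nat_lit 0) (nat_lit 0) (nat_lit 1) (nat_lit 0) (nat_lit 1) (nat_lit 0) (nat_lit 1) (nat_lit 0x11001100110010) (.cD (nat_lit 4) (.kc (nat_lit 20) (nat_lit 0x3001001)) (.cD (nat_lit 16) (.dfs (nat_lit 32) (nat_lit 4100) (nat_lit 4100) (nat_lit 0x1002001) (nat_lit 0x1002001) (nat_lit 0) (nat_lit 0) (nat_lit 3) (nat_lit 0) (nat_lit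 0) (nat_lit 0) (nat_lit 1) (nat_lit 0) (nat_lit 1) (nat_lit 0) (nat_lit 1) (nat_lit 0x11001100110010) (.cD (nat_lit 4) (.kc (nat_lit 36) (nat_lit 0x5001001)) (.cD (nat_lit 16) (.kc (nat_lit 48) (nat_lit 0x3001001)) (.cD (nat_lit 20) (.kc (nat_lit 52) (nat_lit 0x7001001)) (.cD (nat_lit 32) (.dfs (nat_lit 9) (nat_lit 0x1004001003008) (nat_lit 0x1005001003008) (nat_lit 4098) (nat_lit 4098) (nat_lit 2) (nat_lit 0) (nat_lit 2) (nat_lit 1) (nat_lit 0) (nat_lit 8) (nat_lit 1) (nat_lit 0) (nat_lit 1) (nat_lit 0) (nat_lit 1) (nat_lit 0) .nil) (.cD (nat_lit 36) (.kA true (nat_lit 0x1100100000400100300d001011001000003)) (.cD (nat_lit 48) (.kA true (nat_lit 0x600800401000400400100300d001011001000003)) (.cD (nat_lit 52) (.kA true (nat_lit 0x5004003008001008004002005007011001000003)) .nil)))))))) (.cD (nat_lit 20) (.dfs (nat_lit 32) (nat_lit 4100) (nat_lit 4100) (nat_lit 0x1002001) (nat_lit 0x1002001) (nat_lit 0) (nat_lit 0) (nat_lit 3) (nat_lit 0) (nat_lit 0) (nat_lit 0) (nat_lit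 1) (nat_lit 0) (nat_lit 1) (nat_lit 0) (nat_lit 1) (nat_lit 0x11001100110010) (.cD (nat_lit 4) (.kc (nat_lit 36) (nat_lit 0x5001001)) (.cD (nat_lit 16) (.kc (nat_lit 52) (nat_lit 0x7001001)) (.cD (nat_lit 20) (.kc (nat_lit 48) (nat_lit 0x3001001)) (.cD (nat_lit 32) (.kA true (nat_lit 0x5004003008001008004002005007011001000003)) (.cD (nat_lit 36) (.dfs (nat_lit 9) (nat_lit 4102) (nat_lit 4103) (nat_lit 1) (nat_lit 1) (nat_lit 2) (nat_lit 0) (nat_lit 1) (nat_lit 4112) (nat_lit 0x40020010008004002011) (nat_lit 0) (nat_lit 1) (nat_lit 0) (nat_lit 1) (nat_lit 0) (nat_lit 1) (nat_lit 0) .nil) (.cD (nat_lit 48) (.kA true (nat_lit 0x400300500800100400100300c001002)) (.cD (nat_lit 52) (.kA true (nat_lit 0x400700100800100400100300c001002)) .nil)))))))) (.cD (nat_lit 32) (.kF (nat_lit 16) (nat_lit 0x100400100c012004002002000003)) (.cD (nat_lit 36) (.kF (nat_lit 16) (nat_lit 0x100400100c012004002002000003)) (.cD (nat_lit 48) (.dfs (nat_lit 32) (nat_lit 4100) (nat_lit 4100) (nat_lit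 0x1002001) (nat_lit 0x1002001) (nat_lit 0) (nat_lit 0) (nat_lit 3) (nat_lit 0) (nat_lit 0) (nat_lit 0) (nat_lit 1) (nat_lit 0) (nat_lit 1) (nat_lit 0) (nat_lit 1) (nat_lit 0x11001100110010) (.cD (nat_lit 4) (.kc (nat_lit 36) (nat_lit 0x5001001)) (.cD (nat_lit 16) (.kA true (nat_lit 0x400200100800100400100300c001002)) (.cD (nat_lit 20) (.kA true (nat_lit 0x400600500800100400100300c001002)) (.cD (nat_lit 32) (.kA true (nat_lit 0x5004003008001008004002005007011001000003)) (.cD (nat_lit 36) (.kA true (nat_lit 0x400500600800100400100300c001002)) (.cD (nat_lit 48) (.kc (nat_lit 48) (nat_lit 0x3001001)) (.cD (nat_lit 52) (.kc (nat_lit 52) (nat_lit 0x7001001)) .nil)))))))) (.cD (nat_lit 52) (.dfs (nat_lit 32) (nat_lit 4100) (nat_lit 4100) (nat_lit 0x1002001) (nat_lit 0x1002001) (nat_lit 0) (nat_lit 0) (nat_lit 3) (nat_lit 0) (nat_lit 0) (nat_lit 0) (nat_lit 1) (nat_lit 0) (nat_lit 1) (nat_lit 0) (nat_lit 1) (nat_lit 0x11001100110010) (.cD (nat_lit 4) (.kc (nat_lit 36) (nat_lit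 0x5001001)) (.cD (nat_lit 16) (.kA true (nat_lit 0x400200500800100400100300c001002)) (.cD (nat_lit 20) (.kA true (nat_lit 0x400600100800100400100300c001002)) (.cD (nat_lit 32) (.kA true (nat_lit 0x5004003008001008004002005007011001000003)) (.cD (nat_lit 36) (.kA true (nat_lit 0x400500200800100400100300c001002)) (.cD (nat_lit 48) (.kc (nat_lit 52) (nat_lit 0x7001001)) (.cD (nat_lit 52) (.kc (nat_lit 48) (nat_lit 0x3001001)) .nil)))))))) .nil)))))))) (.cD (nat_lit 8) (.dfs (nat_lit 16) (nat_lit 4098) (nat_lit 4098) (nat_lit 4097) (nat_lit 4097) (nat_lit 0) (nat_lit 0) (nat_lit 3) (nat_lit 0) (nat_lit 0) (nat_lit 0) (nat_lit 1) (nat_lit 0) (nat_lit 1) (nat_lit 0) (nat_lit 1) (nat_lit 0x101010101010100) (.cD (nat_lit 8) (.kc (nat_lit 20) (nat_lit 0x3001001)) (.cD (nat_lit 16) (.dfs (nat_lit 32) (nat_lit 4100) (nat_lit 4100) (nat_lit 0x1002001) (nat_lit 0x1002001) (nat_lit 0) (nat_lit 0) (nat_lit 3) (nat_lit 0) (nat_lit 0) (nat_lit 0) (nat_lit 1) (nat_lit 0) (nat_lit 1)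 (nat_lit 0) (nat_lit 1) (nat_lit 0x101010101010100) (.cD (nat_lit 8) (.kc (nat_lit 36) (nat_lit 0x5001001)) (.cD (nat_lit 16) (.kc (nat_lit 48) (nat_lit 0x3001001)) (.cD (nat_lit 24) (.kc (nat_lit 52) (nat_lit 0x7001001)) (.cD (nat_lit 32) (.kA false (nat_lit 0x500400200c002002004008014005011001000003)) (.cD (nat_lit 40) (.kA false (nat_lit 0x1100100000400500200d002011001000003)) (.cD (nat_lit 48) (.kA false (nat_lit 0x600800c01000400400300200b002011001000003)) (.cD (nat_lit 56) (.kA false (nat_lit 0x300400200c002002004008014005011001000003)) .nil)))))))) (.cD (nat_lit 24) (.dfs (nat_lit 32) (nat_lit 4100) (nat_lit 4100) (nat_lit 0x1002001) (nat_lit 0x1002001) (nat_lit 0) (nat_lit 0) (nat_lit 3) (nat_lit 0) (nat_lit 0) (nat_lit 0) (nat_lit 1) (nat_lit 0) (nat_lit 1) (nat_lit 0) (nat_lit 1) (nat_lit 0x101010101010100) (.cD (nat_lit 8) (.kc (nat_lit 36) (nat_lit 0x5001001)) (.cD (nat_lit 16) (.kc (nat_lit 52) (nat_lit 0x7001001)) (.cD (nat_lit 24) (.kc (nat_lit 48)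 (nat_lit 0x3001001)) (.cD (nat_lit 32) (.kA false (nat_lit 0x500400600c002002004008014005011001000003)) (.cD (nat_lit 40) (.kA false (nat_lit 0x1100100000400500600d002011001000003)) (.cD (nat_lit 48) (.kA false (nat_lit 0x300400600c002002004008014005011001000003)) (.cD (nat_lit 56) (.kA false (nat_lit 0x600800a01000400400300600b002011001000003)) .nil)))))))) (.cD (nat_lit 32) (.kF (nat_lit 16) (nat_lit 0x100400100c012004002002000003)) (.cD (nat_lit 40) (.kF (nat_lit 16) (nat_lit 0x100400100c012004002002000003)) (.cD (nat_lit 48) (.dfs (nat_lit 32) (nat_lit 4100) (nat_lit 4100) (nat_lit 0x1002001) (nat_lit 0x1002001) (nat_lit 0) (nat_lit 0) (nat_lit 3) (nat_lit 0) (nat_lit 0) (nat_lit 0) (nat_lit 1) (nat_lit 0) (nat_lit 1) (nat_lit 0) (nat_lit 1) (nat_lit 0x101010101010100) (.cD (nat_lit 8) (.kc (nat_lit 36) (nat_lit 0x5001001)) (.cD (nat_lit 16) (.kA false (nat_lit 0x600800401000400400300100b002011001000003)) (.cD (nat_lit 24) (.kA false (nat_lit 0x300400500c002002004008014005011001000003))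 (.cD (nat_lit 32) (.kA false (nat_lit 0x500400300c002002004008014005011001000003)) (.cD (nat_lit 40) (.kA false (nat_lit 0x1100100000400500700d002011001000003)) (.cD (nat_lit 48) (.kc (nat_lit 48) (nat_lit 0x3001001)) (.cD (nat_lit 56) (.kc (nat_lit 52) (nat_lit 0x7001001)) .nil)))))))) (.cD (nat_lit 56) (.dfs (nat_lit 32) (nat_lit 4100) (nat_lit 4100) (nat_lit 0x1002001) (nat_lit 0x1002001) (nat_lit 0) (nat_lit 0) (nat_lit 3) (nat_lit 0) (nat_lit 0) (nat_lit 0) (nat_lit 1) (nat_lit 0) (nat_lit 1) (nat_lit 0) (nat_lit 1) (nat_lit 0x101010101010100) (.cD (nat_lit 8) (.kc (nat_lit 36) (nat_lit 0x5001001)) (.cD (nat_lit 16) (.kA false (nat_lit 0x300400100c002002004008014005011001000003)) (.cD (nat_lit 24) (.kA false (nat_lit 0x600800201000400400300500b002011001000003)) (.cD (nat_lit 32) (.kA false (nat_lit 0x500400700c002002004008014005011001000003)) (.cD (nat_lit 40) (.kA false (nat_lit 0x1100100000400500300d002011001000003)) (.cD (nat_lit 48) (.kc (nat_lit 52) (nat_lit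 0x7001001)) (.cD (nat_lit 56) (.kc (nat_lit 48) (nat_lit 0x3001001)) .nil)))))))) .nil)))))))) (.cD (nat_lit 16) (.kF (nat_lit 4) (nat_lit 0x2002000001003001002)) (.cD (nat_lit 20) (.kF (nat_lit 4) (nat_lit 0xe01e003001003001002)) (.cD (nat_lit 24) (.kF (nat_lit 4) (nat_lit 0x1002001002012004002002000003)) (.cD (nat_lit 32) (.dfs (nat_lit 16) (nat_lit 4098) (nat_lit 4098) (nat_lit 4097) (nat_lit 4097) (nat_lit 0) (nat_lit 0) (nat_lit 3) (nat_lit 0) (nat_lit 0) (nat_lit 0) (nat_lit 1) (nat_lit 0) (nat_lit 0x1008004) (nat_lit 32772) (nat_lit 0x1001004000008001014000018) (nat_lit 0x1000101110110) (.cD (nat_lit 4) (.kF (nat_lit 16) (nat_lit 0x11001000001006001002)) (.cD (nat_lit 8) (.kF (nat_lit 16) (nat_lit 0x11001000001006001002)) (.cD (nat_lit 16) (.dfs (nat_lit 32) (nat_lit 4100) (nat_lit 4100) (nat_lit 0x1002001) (nat_lit 0x1002001) (nat_lit 0) (nat_lit 0) (nat_lit 3) (nat_lit 0) (nat_lit 0) (nat_lit 0) (nat_lit 1) (nat_lit 0) (nat_lit 0x1008004) (nat_lit 32772)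 (nat_lit 0x1001004000008001014000018) (nat_lit 0x1000101110110) (.cD (nat_lit 4) (.kA true (nat_lit 0x100400600c002011001000002)) (.cD (nat_lit 8) (.kA false (nat_lit 0x100400200c002011001000002)) (.cD (nat_lit 16) (.kc (nat_lit 48) (nat_lit 0x3001001)) (.cD (nat_lit 20) (.kA true (nat_lit 0x300400600c002011001000002)) (.cD (nat_lit 24) (.kA false (nat_lit 0x300400200c002011001000002)) (.cD (nat_lit 32) (.kc (nat_lit 36) (nat_lit 0x5001001)) (.cD (nat_lit 48) (.kc (nat_lit 52) (nat_lit 0x7001001)) .nil)))))))) (.cD (nat_lit 20) (.dfs (nat_lit 32) (nat_lit 4100) (nat_lit 4100) (nat_lit 0x1002001) (nat_lit 0x1002001) (nat_lit 0) (nat_lit 0) (nat_lit 3) (nat_lit 0) (nat_lit 0) (nat_lit 0) (nat_lit 1) (nat_lit 0) (nat_lit 1) (nat_lit 0) (nat_lit 1) (nat_lit 0x11001100110010) (.cD (nat_lit 4) (.kA true (nat_lit 0x100400700c002011001000002)) (.cD (nat_lit 16) (.kA true (nat_lit 0x300400500c002011001000002)) (.cD (nat_lit 20) (.kc (nat_lit 48) (nat_lit 0x3001001)) (.cD (nat_lit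 32) (.kc (nat_lit 36) (nat_lit 0x5001001)) (.cD (nat_lit 36) (.dfs (nat_lit 9) (nat_lit 4100) (nat_lit 4101) (nat_lit 1) (nat_lit 1) (nat_lit 2) (nat_lit 0) (nat_lit 1) (nat_lit 4128) (nat_lit 0x40020010008004002011) (nat_lit 0) (nat_lit 1) (nat_lit 0) (nat_lit 1) (nat_lit 0) (nat_lit 1) (nat_lit 0) .nil) (.cD (nat_lit 48) (.kA true (nat_lit 0x700400100c002011001000002)) (.cD (nat_lit 52) (.kc (nat_lit 52) (nat_lit 0x7001001)) .nil)))))))) (.cD (nat_lit 24) (.dfs (nat_lit 32) (nat_lit 4100) (nat_lit 4100) (nat_lit 0x1002001) (nat_lit 0x1002001) (nat_lit 0) (nat_lit 0) (nat_lit 3) (nat_lit 0) (nat_lit 0) (nat_lit 0) (nat_lit 1) (nat_lit 0) (nat_lit 1) (nat_lit 0) (nat_lit 1) (nat_lit 0x101010101010100) (.cD (nat_lit 8) (.kA false (nat_lit 0x100400300c002011001000002)) (.cD (nat_lit 16) (.kA false (nat_lit 0x300400100c002011001000002)) (.cD (nat_lit 24) (.kc (nat_lit 48) (nat_lit 0x3001001)) (.cD (nat_lit 32) (.kc (nat_lit 36) (nat_lit 0x5001001)) (.cD (nat_lit 40)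 (.kA false (nat_lit 0x500400700c002011001000002)) (.cD (nat_lit 48) (.kA false (nat_lit 0x700400500c002011001000002)) (.cD (nat_lit 56) (.kc (nat_lit 52) (nat_lit 0x7001001)) .nil)))))))) (.cD (nat_lit 32) (.kc (nat_lit 20) (nat_lit 0x3001001)) (.cD (nat_lit 48) (.dfs (nat_lit 32) (nat_lit 4100) (nat_lit 4100) (nat_lit 0x1002001) (nat_lit 0x1002001) (nat_lit 0) (nat_lit 0) (nat_lit 3) (nat_lit 0) (nat_lit 0) (nat_lit 0) (nat_lit 1) (nat_lit 0) (nat_lit 0x1008004) (nat_lit 32772) (nat_lit 0x1001004000008001014000018) (nat_lit 0x1000101110110) (.cD (nat_lit 4) (.kA true (nat_lit 0x100400200c002011001000002)) (.cD (nat_lit 8) (.kA false (nat_lit 0x100400600c002011001000002)) (.cD (nat_lit 16) (.kc (nat_lit 52) (nat_lit 0x7001001)) (.cD (nat_lit 20) (.kA true (nat_lit 0x700400200c002011001000002)) (.cD (nat_lit 24) (.kA false (nat_lit 0x700400600c002011001000002)) (.cD (nat_lit 32) (.kc (nat_lit 36) (nat_lit 0x5001001)) (.cD (nat_lit 48) (.kc (nat_lit 48) (nat_lit 0x3001001))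 .nil)))))))) .nil)))))))) (.cD (nat_lit 48) (.kF (nat_lit 4) (nat_lit 0x1002001002012004002002000003)) .nil))))))))))
theorem c381 : (chk [] [] p381).n x201 s381 = true := by decide +kernel
noncomputable def p382 : Pf := (.anc (nat_lit 68) (nat_lit 0x10002002002000002) (nat_lit 0x1009020010004) (.czp (nat_lit 64) (nat_lit 0) (nat_lit 0x1040020010008004) z6 (.dfs (nat_lit 4) (nat_lit 4097) (nat_lit 4097) (nat_lit 1) (nat_lit 1) (nat_lit 0) (nat_lit 0) (nat_lit 3) (nat_lit 0) (nat_lit 0) (nat_lit 0) (nat_lit 1) (nat_lit 0) (nat_lit 0x1008004) (nat_lit 32772) (nat_lit 0x1001004000008001014000018) (nat_lit 0x1000101110110) (.cD (nat_lit 4) (.dfs (nat_lit 16) (nat_lit 4098) (nat_lit 4098) (nat_lit 4097) (nat_lit 4097) (nat_lit 0) (nat_lit 0) (nat_lit 3) (nat_lit 0) (nat_lit 0) (nat_lit 0) (nat_lit 1) (nat_lit 0) (nat_lit 1) (nat_lit 0) (nat_lit 1) (nat_lit 0x11001100110010) (.cD (nat_lit 4) (.kc (nat_lit 20) (nat_lit 0x3001001)) (.cD (nat_lit 16) (.dfs (nat_lit 32) (nat_lit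 4100) (nat_lit 4100) (nat_lit 0x1002001) (nat_lit 0x1002001) (nat_lit 0) (nat_lit 0) (nat_lit 3) (nat_lit 0) (nat_lit 0) (nat_lit 0) (nat_lit 1) (nat_lit 0) (nat_lit 1) (nat_lit 0) (nat_lit 1) (nat_lit 0x11001100110010) (.cD (nat_lit 4) (.kc (nat_lit 36) (nat_lit 0x5001001)) (.cD (nat_lit 16) (.kc (nat_lit 48) (nat_lit 0x3001001)) (.cD (nat_lit 20) (.kc (nat_lit 52) (nat_lit 0x7001001)) (.cD (nat_lit 32) (.dfs (nat_lit 9) (nat_lit 0x1004001003008) (nat_lit 0x1005001003008) (nat_lit 4098) (nat_lit 4098) (nat_lit 2) (nat_lit 0) (nat_lit 2) (nat_lit 1) (nat_lit 0) (nat_lit 8) (nat_lit 1) (nat_lit 0) (nat_lit 1) (nat_lit 0) (nat_lit 1) (nat_lit 0) .nil) (.cD (nat_lit 36) (.kA true (nat_lit 0x1100100000400100300d001011001000003)) (.cD (nat_lit 48) (.kA true (nat_lit 0x600800401000400400100300d001011001000003)) (.cD (nat_lit 52) (.kA true (nat_lit 0x5004003008001008004002005007011001000003)) .nil)))))))) (.cD (nat_lit 20) (.dfs (nat_lit 32) (nat_lit 4100) (nat_lit 4100)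 (nat_lit 0x1002001) (nat_lit 0x1002001) (nat_lit 0) (nat_lit 0) (nat_lit 3) (nat_lit 0) (nat_lit 0) (nat_lit 0) (nat_lit 1) (nat_lit 0) (nat_lit 1) (nat_lit 0) (nat_lit 1) (nat_lit 0x11001100110010) (.cD (nat_lit 4) (.kc (nat_lit 36) (nat_lit 0x5001001)) (.cD (nat_lit 16) (.kc (nat_lit 52) (nat_lit 0x7001001)) (.cD (nat_lit 20) (.kc (nat_lit 48) (nat_lit 0x3001001)) (.cD (nat_lit 32) (.kA true (nat_lit 0x5004003008001008004002005007011001000003)) (.cD (nat_lit 36) (.dfs (nat_lit 9) (nat_lit 4102) (nat_lit 4103) (nat_lit 1) (nat_lit 1) (nat_lit 2) (nat_lit 0) (nat_lit 1) (nat_lit 4112) (nat_lit 0x40020010008004002011) (nat_lit 0) (nat_lit 1) (nat_lit 0) (nat_lit 1) (nat_lit 0) (nat_lit 1) (nat_lit 0) .nil) (.cD (nat_lit 48) (.kA true (nat_lit 0x400300500800100400100300c001002)) (.cD (nat_lit 52) (.kA true (nat_lit 0x400700100800100400100300c001002)) .nil)))))))) (.cD (nat_lit 32) (.kF (nat_lit 16) (nat_lit 0x100400100c012004002002000003)) (.cD (nat_lit 36) (.kF (nat_lit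 16) (nat_lit 0x100400100c012004002002000003)) (.cD (nat_lit 48) (.dfs (nat_lit 32) (nat_lit 4100) (nat_lit 4100) (nat_lit 0x1002001) (nat_lit 0x1002001) (nat_lit 0) (nat_lit 0) (nat_lit 3) (nat_lit 0) (nat_lit 0) (nat_lit 0) (nat_lit 1) (nat_lit 0) (nat_lit 1) (nat_lit 0) (nat_lit 1) (nat_lit 0x11001100110010) (.cD (nat_lit 4) (.kc (nat_lit 36) (nat_lit 0x5001001)) (.cD (nat_lit 16) (.kA true (nat_lit 0x400200100800100400100300c001002)) (.cD (nat_lit 20) (.kA true (nat_lit 0x400600500800100400100300c001002)) (.cD (nat_lit 32) (.kA true (nat_lit 0x5004003008001008004002005007011001000003)) (.cD (nat_lit 36) (.kA true (nat_lit 0x400500600800100400100300c001002)) (.cD (nat_lit 48) (.kc (nat_lit 48) (nat_lit 0x3001001)) (.cD (nat_lit 52) (.kc (nat_lit 52) (nat_lit 0x7001001)) .nil)))))))) (.cD (nat_lit 52) (.dfs (nat_lit 32) (nat_lit 4100) (nat_lit 4100) (nat_lit 0x1002001) (nat_lit 0x1002001) (nat_lit 0) (nat_lit 0) (nat_lit 3) (nat_lit 0) (nat_lit 0) (nat_lit 0) (nat_lit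 1) (nat_lit 0) (nat_lit 1) (nat_lit 0) (nat_lit 1) (nat_lit 0x11001100110010) (.cD (nat_lit 4) (.kc (nat_lit 36) (nat_lit 0x5001001)) (.cD (nat_lit 16) (.kA true (nat_lit 0x400200500800100400100300c001002)) (.cD (nat_lit 20) (.kA true (nat_lit 0x400600100800100400100300c001002)) (.cD (nat_lit 32) (.kA true (nat_lit 0x5004003008001008004002005007011001000003)) (.cD (nat_lit 36) (.kA true (nat_lit 0x400500200800100400100300c001002)) (.cD (nat_lit 48) (.kc (nat_lit 52) (nat_lit 0x7001001)) (.cD (nat_lit 52) (.kc (nat_lit 48) (nat_lit 0x3001001)) .nil)))))))) .nil)))))))) (.cD (nat_lit 8) (.dfs (nat_lit 16) (nat_lit 4098) (nat_lit 4098) (nat_lit 4097) (nat_lit 4097) (nat_lit 0) (nat_lit 0) (nat_lit 3) (nat_lit 0) (nat_lit 0) (nat_lit 0) (nat_lit 1) (nat_lit 0) (nat_lit 1) (nat_lit 0) (nat_lit 1) (nat_lit 0x101010101010100) (.cD (nat_lit 8) (.kc (nat_lit 20) (nat_lit 0x3001001)) (.cD (nat_lit 16) (.dfs (nat_lit 32) (nat_lit 4100) (nat_lit 4100) (nat_lit 0x1002001) (nat_lit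 0x1002001) (nat_lit 0) (nat_lit 0) (nat_lit 3) (nat_lit 0) (nat_lit 0) (nat_lit 0) (nat_lit 1) (nat_lit 0) (nat_lit 1) (nat_lit 0) (nat_lit 1) (nat_lit 0x101010101010100) (.cD (nat_lit 8) (.kc (nat_lit 36) (nat_lit 0x5001001)) (.cD (nat_lit 16) (.kc (nat_lit 48) (nat_lit 0x3001001)) (.cD (nat_lit 24) (.kc (nat_lit 52) (nat_lit 0x7001001)) (.cD (nat_lit 32) (.kA false (nat_lit 0x500400200c002002004008014005011001000003)) (.cD (nat_lit 40) (.kA false (nat_lit 0x1100100000400500200d002011001000003)) (.cD (nat_lit 48) (.kA false (nat_lit 0x600800c01000400400300200b002011001000003)) (.cD (nat_lit 56) (.kA false (nat_lit 0x300400200c002002004008014005011001000003)) .nil)))))))) (.cD (nat_lit 24) (.dfs (nat_lit 32) (nat_lit 4100) (nat_lit 4100) (nat_lit 0x1002001) (nat_lit 0x1002001) (nat_lit 0) (nat_lit 0) (nat_lit 3) (nat_lit 0) (nat_lit 0) (nat_lit 0) (nat_lit 1) (nat_lit 0) (nat_lit 1) (nat_lit 0) (nat_lit 1) (nat_lit 0x101010101010100) (.cD (nat_lit 8) (.kc (nat_lit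 36) (nat_lit 0x5001001)) (.cD (nat_lit 16) (.kc (nat_lit 52) (nat_lit 0x7001001)) (.cD (nat_lit 24) (.kc (nat_lit 48) (nat_lit 0x3001001)) (.cD (nat_lit 32) (.kA false (nat_lit 0x500400600c002002004008014005011001000003)) (.cD (nat_lit 40) (.kA false (nat_lit 0x1100100000400500600d002011001000003)) (.cD (nat_lit 48) (.kA false (nat_lit 0x300400600c002002004008014005011001000003)) (.cD (nat_lit 56) (.kA false (nat_lit 0x600800a01000400400300600b002011001000003)) .nil)))))))) (.cD (nat_lit 32) (.kF (nat_lit 16) (nat_lit 0x100400100c012004002002000003)) (.cD (nat_lit 40) (.kF (nat_lit 16) (nat_lit 0x100400100c012004002002000003)) (.cD (nat_lit 48) (.dfs (nat_lit 32) (nat_lit 4100) (nat_lit 4100) (nat_lit 0x1002001) (nat_lit 0x1002001) (nat_lit 0) (nat_lit 0) (nat_lit 3) (nat_lit 0) (nat_lit 0) (nat_lit 0) (nat_lit 1) (nat_lit 0) (nat_lit 1) (nat_lit 0) (nat_lit 1) (nat_lit 0x101010101010100) (.cD (nat_lit 8) (.kc (nat_lit 36) (nat_lit 0x5001001)) (.cD (nat_lit 16) (.kA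 false (nat_lit 0x600800401000400400300100b002011001000003)) (.cD (nat_lit 24) (.kA false (nat_lit 0x300400500c002002004008014005011001000003)) (.cD (nat_lit 32) (.kA false (nat_lit 0x500400300c002002004008014005011001000003)) (.cD (nat_lit 40) (.kA false (nat_lit 0x1100100000400500700d002011001000003)) (.cD (nat_lit 48) (.kc (nat_lit 48) (nat_lit 0x3001001)) (.cD (nat_lit 56) (.kc (nat_lit 52) (nat_lit 0x7001001)) .nil)))))))) (.cD (nat_lit 56) (.dfs (nat_lit 32) (nat_lit 4100) (nat_lit 4100) (nat_lit 0x1002001) (nat_lit 0x1002001) (nat_lit 0) (nat_lit 0) (nat_lit 3) (nat_lit 0) (nat_lit 0) (nat_lit 0) (nat_lit 1) (nat_lit 0) (nat_lit 1) (nat_lit 0) (nat_lit 1) (nat_lit 0x101010101010100) (.cD (nat_lit 8) (.kc (nat_lit 36) (nat_lit 0x5001001)) (.cD (nat_lit 16) (.kA false (nat_lit 0x300400100c002002004008014005011001000003)) (.cD (nat_lit 24) (.kA false (nat_lit 0x600800201000400400300500b002011001000003)) (.cD (nat_lit 32) (.kA false (nat_lit 0x500400700c002002004008014005011001000003))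 (.cD (nat_lit 40) (.kA false (nat_lit 0x1100100000400500300d002011001000003)) (.cD (nat_lit 48) (.kc (nat_lit 52) (nat_lit 0x7001001)) (.cD (nat_lit 56) (.kc (nat_lit 48) (nat_lit 0x3001001)) .nil)))))))) .nil)))))))) (.cD (nat_lit 16) (.kF (nat_lit 4) (nat_lit 0x2002000001003001002)) (.cD (nat_lit 20) (.kF (nat_lit 4) (nat_lit 0xe01e003001003001002)) (.cD (nat_lit 24) (.kF (nat_lit 4) (nat_lit 0x1002001002012004002002000003)) (.cD (nat_lit 32) (.dfs (nat_lit 16) (nat_lit 4098) (nat_lit 4098) (nat_lit 4097) (nat_lit 4097) (nat_lit 0) (nat_lit 0) (nat_lit 3) (nat_lit 0) (nat_lit 0) (nat_lit 0) (nat_lit 1) (nat_lit 0) (nat_lit 0x1008004) (nat_lit 32772) (nat_lit 0x1001004000008001014000018) (nat_lit 0x1000101110110) (.cD (nat_lit 4) (.kF (nat_lit 16) (nat_lit 0x11001000001006001002)) (.cD (nat_lit 8) (.kF (nat_lit 16) (nat_lit 0x11001000001006001002)) (.cD (nat_lit 16) (.dfs (nat_lit 32) (nat_lit 4100) (nat_lit 4100) (nat_lit 0x1002001) (nat_lit 0x1002001) (nat_lit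 0) (nat_lit 0) (nat_lit 3) (nat_lit 0) (nat_lit 0) (nat_lit 0) (nat_lit 1) (nat_lit 0) (nat_lit 0x1008004) (nat_lit 32772) (nat_lit 0x1001004000008001014000018) (nat_lit 0x1000101110110) (.cD (nat_lit 4) (.kA true (nat_lit 0x100400600c002011001000002)) (.cD (nat_lit 8) (.kA false (nat_lit 0x100400200c002011001000002)) (.cD (nat_lit 16) (.kc (nat_lit 48) (nat_lit 0x3001001)) (.cD (nat_lit 20) (.kA true (nat_lit 0x300400600c002011001000002)) (.cD (nat_lit 24) (.kA false (nat_lit 0x300400200c002011001000002)) (.cD (nat_lit 32) (.kc (nat_lit 36) (nat_lit 0x5001001)) (.cD (nat_lit 48) (.kc (nat_lit 52) (nat_lit 0x7001001)) .nil)))))))) (.cD (nat_lit 20) (.dfs (nat_lit 32) (nat_lit 4100) (nat_lit 4100) (nat_lit 0x1002001) (nat_lit 0x1002001) (nat_lit 0) (nat_lit 0) (nat_lit 3) (nat_lit 0) (nat_lit 0) (nat_lit 0) (nat_lit 1) (nat_lit 0) (nat_lit 1) (nat_lit 0) (nat_lit 1) (nat_lit 0x11001100110010) (.cD (nat_lit 4) (.kA true (nat_lit 0x100400700c002011001000002)) (.cD (nat_lit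 16) (.kA true (nat_lit 0x300400500c002011001000002)) (.cD (nat_lit 20) (.kc (nat_lit 48) (nat_lit 0x3001001)) (.cD (nat_lit 32) (.kc (nat_lit 36) (nat_lit 0x5001001)) (.cD (nat_lit 36) (.dfs (nat_lit 9) (nat_lit 4100) (nat_lit 4101) (nat_lit 1) (nat_lit 1) (nat_lit 2) (nat_lit 0) (nat_lit 1) (nat_lit 4128) (nat_lit 0x40020010008004002011) (nat_lit 0) (nat_lit 1) (nat_lit 0) (nat_lit 1) (nat_lit 0) (nat_lit 1) (nat_lit 0) .nil) (.cD (nat_lit 48) (.kA true (nat_lit 0x700400100c002011001000002)) (.cD (nat_lit 52) (.kc (nat_lit 52) (nat_lit 0x7001001)) .nil)))))))) (.cD (nat_lit 24) (.dfs (nat_lit 32) (nat_lit 4100) (nat_lit 4100) (nat_lit 0x1002001) (nat_lit 0x1002001) (nat_lit 0) (nat_lit 0) (nat_lit 3) (nat_lit 0) (nat_lit 0) (nat_lit 0) (nat_lit 1) (nat_lit 0) (nat_lit 1) (nat_lit 0) (nat_lit 1) (nat_lit 0x101010101010100) (.cD (nat_lit 8) (.kA false (nat_lit 0x100400300c002011001000002)) (.cD (nat_lit 16) (.kA false (nat_lit 0x300400100c002011001000002)) (.cD (nat_lit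 24) (.kc (nat_lit 48) (nat_lit 0x3001001)) (.cD (nat_lit 32) (.kc (nat_lit 36) (nat_lit 0x5001001)) (.cD (nat_lit 40) (.kA false (nat_lit 0x500400700c002011001000002)) (.cD (nat_lit 48) (.kA false (nat_lit 0x700400500c002011001000002)) (.cD (nat_lit 56) (.kc (nat_lit 52) (nat_lit 0x7001001)) .nil)))))))) (.cD (nat_lit 32) (.kc (nat_lit 20) (nat_lit 0x3001001)) (.cD (nat_lit 48) (.dfs (nat_lit 32) (nat_lit 4100) (nat_lit 4100) (nat_lit 0x1002001) (nat_lit 0x1002001) (nat_lit 0) (nat_lit 0) (nat_lit 3) (nat_lit 0) (nat_lit 0) (nat_lit 0) (nat_lit 1) (nat_lit 0) (nat_lit 0x1008004) (nat_lit 32772) (nat_lit 0x1001004000008001014000018) (nat_lit 0x1000101110110) (.cD (nat_lit 4) (.kA true (nat_lit 0x100400200c002011001000002)) (.cD (nat_lit 8) (.kA false (nat_lit 0x100400600c002011001000002)) (.cD (nat_lit 16) (.kc (nat_lit 52) (nat_lit 0x7001001)) (.cD (nat_lit 20) (.kA true (nat_lit 0x700400200c002011001000002)) (.cD (nat_lit 24) (.kA false (nat_lit 0x700400600c002011001000002))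 (.cD (nat_lit 32) (.kc (nat_lit 36) (nat_lit 0x5001001)) (.cD (nat_lit 48) (.kc (nat_lit 48) (nat_lit 0x3001001)) .nil)))))))) .nil)))))))) (.cD (nat_lit 48) (.kF (nat_lit 4) (nat_lit 0x1002001002012004002002000003)) .nil))))))))))
theorem c382 : (chk [] [] p382).n x202 s382 = true := by decide +kernel
noncomputable def p383 : Pf := (.anc (nat_lit 68) (nat_lit 0x10002002002000002) (nat_lit 0x1009020010004) (.czp (nat_lit 64) (nat_lit 0) (nat_lit 0x1040020010008004) z6 (.dfs (nat_lit 4) (nat_lit 4097) (nat_lit 4097) (nat_lit 1) (nat_lit 1) (nat_lit 0) (nat_lit 0) (nat_lit 3) (nat_lit 0) (nat_lit 0) (nat_lit 0) (nat_lit 1) (nat_lit 0) (nat_lit 0x1008004) (nat_lit 32772) (nat_lit 0x1001004000008001014000018) (nat_lit 0x1000101110110) (.cD (nat_lit 4) (.dfs (nat_lit 16) (nat_lit 4098) (nat_lit 4098) (nat_lit 4097) (nat_lit 4097) (nat_lit 0) (nat_lit 0) (nat_lit 3) (nat_lit 0) (nat_lit 0) (nat_lit 0) (nat_lit 1) (nat_lit 0) (nat_lit 1) (nat_lit 0) (nat_lit 1) (nat_lit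 0x11001100110010) (.cD (nat_lit 4) (.kc (nat_lit 20) (nat_lit 0x3001001)) (.cD (nat_lit 16) (.dfs (nat_lit 32) (nat_lit 4100) (nat_lit 4100) (nat_lit 0x1002001) (nat_lit 0x1002001) (nat_lit 0) (nat_lit 0) (nat_lit 3) (nat_lit 0) (nat_lit 0) (nat_lit 0) (nat_lit 1) (nat_lit 0) (nat_lit 1) (nat_lit 0) (nat_lit 1) (nat_lit 0x11001100110010) (.cD (nat_lit 4) (.kc (nat_lit 36) (nat_lit 0x5001001)) (.cD (nat_lit 16) (.kc (nat_lit 48) (nat_lit 0x3001001)) (.cD (nat_lit 20) (.kc (nat_lit 52) (nat_lit 0x7001001)) (.cD (nat_lit 32) (.dfs (nat_lit 9) (nat_lit 0x1004001003008) (nat_lit 0x1005001003008) (nat_lit 4098) (nat_lit 4098) (nat_lit 1) (nat_lit 0) (nat_lit 2) (nat_lit 1) (nat_lit 0) (nat_lit 8) (nat_lit 1) (nat_lit 0) (nat_lit 4100) (nat_lit 4) (nat_lit 0x100004c00005c) (nat_lit 0x100010000000000000000000) (.cD (nat_lit 76) (.kb (nat_lit 13) (nat_lit 0x102100001400600b001003) (nat_lit 0x102001004800c006001)) (.cD (nat_lit 92) (.kb (nat_lit 29) (nat_lit 0x102100001400600f001003)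 (nat_lit 0x102001004800c006001)) .nil))) (.cD (nat_lit 36) (.kA true (nat_lit 0x2100100000400100300d001021001000003)) (.cD (nat_lit 48) (.kA true (nat_lit 0x600800401000400400100300d001021001000003)) (.cD (nat_lit 52) (.kA true (nat_lit 0x5004003008001008004002005007021001000003)) .nil)))))))) (.cD (nat_lit 20) (.dfs (nat_lit 32) (nat_lit 4100) (nat_lit 4100) (nat_lit 0x1002001) (nat_lit 0x1002001) (nat_lit 0) (nat_lit 0) (nat_lit 3) (nat_lit 0) (nat_lit 0) (nat_lit 0) (nat_lit 1) (nat_lit 0) (nat_lit 1) (nat_lit 0) (nat_lit 1) (nat_lit 0x11001100110010) (.cD (nat_lit 4) (.kc (nat_lit 36) (nat_lit 0x5001001)) (.cD (nat_lit 16) (.kc (nat_lit 52) (nat_lit 0x7001001)) (.cD (nat_lit 20) (.kc (nat_lit 48) (nat_lit 0x3001001)) (.cD (nat_lit 32) (.kA true (nat_lit 0x5004003008001008004002005007021001000003)) (.cD (nat_lit 36) (.dfs (nat_lit 9) (nat_lit 4102) (nat_lit 4103) (nat_lit 1) (nat_lit 1) (nat_lit 1) (nat_lit 0) (nat_lit 1) (nat_lit 4112) (nat_lit 0x40020010008004002021)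 (nat_lit 0) (nat_lit 1) (nat_lit 0) (nat_lit 1) (nat_lit 0) (nat_lit 1) (nat_lit 0) .nil) (.cD (nat_lit 48) (.kA true (nat_lit 0x400300500800100400100300c001002)) (.cD (nat_lit 52) (.kA true (nat_lit 0x400700100800100400100300c001002)) .nil)))))))) (.cD (nat_lit 32) (.kF (nat_lit 16) (nat_lit 0x100400100c012004002002000003)) (.cD (nat_lit 36) (.kF (nat_lit 16) (nat_lit 0x100400100c012004002002000003)) (.cD (nat_lit 48) (.dfs (nat_lit 32) (nat_lit 4100) (nat_lit 4100) (nat_lit 0x1002001) (nat_lit 0x1002001) (nat_lit 0) (nat_lit 0) (nat_lit 3) (nat_lit 0) (nat_lit 0) (nat_lit 0) (nat_lit 1) (nat_lit 0) (nat_lit 1) (nat_lit 0) (nat_lit 1) (nat_lit 0x11001100110010) (.cD (nat_lit 4) (.kc (nat_lit 36) (nat_lit 0x5001001)) (.cD (nat_lit 16) (.kA true (nat_lit 0x400200100800100400100300c001002)) (.cD (nat_lit 20) (.kA true (nat_lit 0x400600500800100400100300c001002)) (.cD (nat_lit 32) (.kA true (nat_lit 0x5004003008001008004002005007021001000003)) (.cD (nat_lit 36) (.kA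 true (nat_lit 0x400500600800100400100300c001002)) (.cD (nat_lit 48) (.kc (nat_lit 48) (nat_lit 0x3001001)) (.cD (nat_lit 52) (.kc (nat_lit 52) (nat_lit 0x7001001)) .nil)))))))) (.cD (nat_lit 52) (.dfs (nat_lit 32) (nat_lit 4100) (nat_lit 4100) (nat_lit 0x1002001) (nat_lit 0x1002001) (nat_lit 0) (nat_lit 0) (nat_lit 3) (nat_lit 0) (nat_lit 0) (nat_lit 0) (nat_lit 1) (nat_lit 0) (nat_lit 1) (nat_lit 0) (nat_lit 1) (nat_lit 0x11001100110010) (.cD (nat_lit 4) (.kc (nat_lit 36) (nat_lit 0x5001001)) (.cD (nat_lit 16) (.kA true (nat_lit 0x400200500800100400100300c001002)) (.cD (nat_lit 20) (.kA true (nat_lit 0x400600100800100400100300c001002)) (.cD (nat_lit 32) (.kA true (nat_lit 0x5004003008001008004002005007021001000003)) (.cD (nat_lit 36) (.kA true (nat_lit 0x400500200800100400100300c001002)) (.cD (nat_lit 48) (.kc (nat_lit 52) (nat_lit 0x7001001)) (.cD (nat_lit 52) (.kc (nat_lit 48) (nat_lit 0x3001001)) .nil)))))))) .nil)))))))) (.cD (nat_lit 8) (.dfs (nat_lit 16) (nat_lit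 4098) (nat_lit 4098) (nat_lit 4097) (nat_lit 4097) (nat_lit 0) (nat_lit 0) (nat_lit 3) (nat_lit 0) (nat_lit 0) (nat_lit 0) (nat_lit 1) (nat_lit 0) (nat_lit 1) (nat_lit 0) (nat_lit 1) (nat_lit 0x101010101010100) (.cD (nat_lit 8) (.kc (nat_lit 20) (nat_lit 0x3001001)) (.cD (nat_lit 16) (.dfs (nat_lit 32) (nat_lit 4100) (nat_lit 4100) (nat_lit 0x1002001) (nat_lit 0x1002001) (nat_lit 0) (nat_lit 0) (nat_lit 3) (nat_lit 0) (nat_lit 0) (nat_lit 0) (nat_lit 1) (nat_lit 0) (nat_lit 1) (nat_lit 0) (nat_lit 1) (nat_lit 0x101010101010100) (.cD (nat_lit 8) (.kc (nat_lit 36) (nat_lit 0x5001001)) (.cD (nat_lit 16) (.kc (nat_lit 48) (nat_lit 0x3001001)) (.cD (nat_lit 24) (.kc (nat_lit 52) (nat_lit 0x7001001)) (.cD (nat_lit 32) (.kA false (nat_lit 0x500400200c002002004008014005021001000003)) (.cD (nat_lit 40) (.kA false (nat_lit 0x2100100000400500200d002021001000003)) (.cD (nat_lit 48) (.kA false (nat_lit 0x600800c01000400400300200b002021001000003)) (.cD (nat_lit 56) (.kA false (nat_lit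 0x300400200c002002004008014005021001000003)) .nil)))))))) (.cD (nat_lit 24) (.dfs (nat_lit 32) (nat_lit 4100) (nat_lit 4100) (nat_lit 0x1002001) (nat_lit 0x1002001) (nat_lit 0) (nat_lit 0) (nat_lit 3) (nat_lit 0) (nat_lit 0) (nat_lit 0) (nat_lit 1) (nat_lit 0) (nat_lit 1) (nat_lit 0) (nat_lit 1) (nat_lit 0x101010101010100) (.cD (nat_lit 8) (.kc (nat_lit 36) (nat_lit 0x5001001)) (.cD (nat_lit 16) (.kc (nat_lit 52) (nat_lit 0x7001001)) (.cD (nat_lit 24) (.kc (nat_lit 48) (nat_lit 0x3001001)) (.cD (nat_lit 32) (.kA false (nat_lit 0x500400600c002002004008014005021001000003)) (.cD (nat_lit 40) (.kA false (nat_lit 0x2100100000400500600d002021001000003)) (.cD (nat_lit 48) (.kA false (nat_lit 0x300400600c002002004008014005021001000003)) (.cD (nat_lit 56) (.kA false (nat_lit 0x600800a01000400400300600b002021001000003)) .nil)))))))) (.cD (nat_lit 32) (.kF (nat_lit 16) (nat_lit 0x100400100c012004002002000003)) (.cD (nat_lit 40) (.kF (nat_lit 16) (nat_lit 0x100400100c012004002002000003))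 (.cD (nat_lit 48) (.dfs (nat_lit 32) (nat_lit 4100) (nat_lit 4100) (nat_lit 0x1002001) (nat_lit 0x1002001) (nat_lit 0) (nat_lit 0) (nat_lit 3) (nat_lit 0) (nat_lit 0) (nat_lit 0) (nat_lit 1) (nat_lit 0) (nat_lit 1) (nat_lit 0) (nat_lit 1) (nat_lit 0x101010101010100) (.cD (nat_lit 8) (.kc (nat_lit 36) (nat_lit 0x5001001)) (.cD (nat_lit 16) (.kA false (nat_lit 0x600800401000400400300100b002021001000003)) (.cD (nat_lit 24) (.kA false (nat_lit 0x300400500c002002004008014005021001000003)) (.cD (nat_lit 32) (.kA false (nat_lit 0x500400300c002002004008014005021001000003)) (.cD (nat_lit 40) (.kA false (nat_lit 0x2100100000400500700d002021001000003)) (.cD (nat_lit 48) (.kc (nat_lit 48) (nat_lit 0x3001001)) (.cD (nat_lit 56) (.kc (nat_lit 52) (nat_lit 0x7001001)) .nil)))))))) (.cD (nat_lit 56) (.dfs (nat_lit 32) (nat_lit 4100) (nat_lit 4100) (nat_lit 0x1002001) (nat_lit 0x1002001) (nat_lit 0) (nat_lit 0) (nat_lit 3) (nat_lit 0) (nat_lit 0) (nat_lit 0) (nat_lit 1) (nat_lit 0)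 (nat_lit 1) (nat_lit 0) (nat_lit 1) (nat_lit 0x101010101010100) (.cD (nat_lit 8) (.kc (nat_lit 36) (nat_lit 0x5001001)) (.cD (nat_lit 16) (.kA false (nat_lit 0x300400100c002002004008014005021001000003)) (.cD (nat_lit 24) (.kA false (nat_lit 0x600800201000400400300500b002021001000003)) (.cD (nat_lit 32) (.kA false (nat_lit 0x500400700c002002004008014005021001000003)) (.cD (nat_lit 40) (.kA false (nat_lit 0x2100100000400500300d002021001000003)) (.cD (nat_lit 48) (.kc (nat_lit 52) (nat_lit 0x7001001)) (.cD (nat_lit 56) (.kc (nat_lit 48) (nat_lit 0x3001001)) .nil)))))))) .nil)))))))) (.cD (nat_lit 16) (.kF (nat_lit 4) (nat_lit 0x2002000001003001002)) (.cD (nat_lit 20) (.kF (nat_lit 4) (nat_lit 0xe01e003001003001002)) (.cD (nat_lit 24) (.kF (nat_lit 4) (nat_lit 0x1002001002012004002002000003)) (.cD (nat_lit 32) (.dfs (nat_lit 16) (nat_lit 4098) (nat_lit 4098) (nat_lit 4097) (nat_lit 4097) (nat_lit 0) (nat_lit 0) (nat_lit 3) (nat_lit 0) (nat_lit 0) (nat_lit 0) (nat_lit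 1) (nat_lit 0) (nat_lit 0x1008004) (nat_lit 32772) (nat_lit 0x1001004000008001014000018) (nat_lit 0x1000101110110) (.cD (nat_lit 4) (.kF (nat_lit 16) (nat_lit 0x21001000001006001002)) (.cD (nat_lit 8) (.kF (nat_lit 16) (nat_lit 0x21001000001006001002)) (.cD (nat_lit 16) (.dfs (nat_lit 32) (nat_lit 4100) (nat_lit 4100) (nat_lit 0x1002001) (nat_lit 0x1002001) (nat_lit 0) (nat_lit 0) (nat_lit 3) (nat_lit 0) (nat_lit 0) (nat_lit 0) (nat_lit 1) (nat_lit 0) (nat_lit 0x1008004) (nat_lit 32772) (nat_lit 0x1001004000008001014000018) (nat_lit 0x1000101110110) (.cD (nat_lit 4) (.kA true (nat_lit 0x100400600c002021001000002)) (.cD (nat_lit 8) (.kA false (nat_lit 0x100400200c002021001000002)) (.cD (nat_lit 16) (.kc (nat_lit 48) (nat_lit 0x3001001)) (.cD (nat_lit 20) (.kA true (nat_lit 0x300400600c002021001000002)) (.cD (nat_lit 24) (.kA false (nat_lit 0x300400200c002021001000002)) (.cD (nat_lit 32) (.kc (nat_lit 36) (nat_lit 0x5001001)) (.cD (nat_lit 48) (.kc (nat_lit 52) (nat_lit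 0x7001001)) .nil)))))))) (.cD (nat_lit 20) (.dfs (nat_lit 32) (nat_lit 4100) (nat_lit 4100) (nat_lit 0x1002001) (nat_lit 0x1002001) (nat_lit 0) (nat_lit 0) (nat_lit 3) (nat_lit 0) (nat_lit 0) (nat_lit 0) (nat_lit 1) (nat_lit 0) (nat_lit 1) (nat_lit 0) (nat_lit 1) (nat_lit 0x11001100110010) (.cD (nat_lit 4) (.kA true (nat_lit 0x100400700c002021001000002)) (.cD (nat_lit 16) (.kA true (nat_lit 0x300400500c002021001000002)) (.cD (nat_lit 20) (.kc (nat_lit 48) (nat_lit 0x3001001)) (.cD (nat_lit 32) (.kc (nat_lit 36) (nat_lit 0x5001001)) (.cD (nat_lit 36) (.dfs (nat_lit 9) (nat_lit 4100) (nat_lit 4101) (nat_lit 1) (nat_lit 1) (nat_lit 1) (nat_lit 0) (nat_lit 1) (nat_lit 4128) (nat_lit 0x40020010008004002021) (nat_lit 0) (nat_lit 1) (nat_lit 0) (nat_lit 1) (nat_lit 0) (nat_lit 1) (nat_lit 0) .nil) (.cD (nat_lit 48) (.kA true (nat_lit 0x700400100c002021001000002)) (.cD (nat_lit 52) (.kc (nat_lit 52) (nat_lit 0x7001001)) .nil)))))))) (.cD (nat_lit 24) (.dfs (nat_lit 32) (nat_lit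 4100) (nat_lit 4100) (nat_lit 0x1002001) (nat_lit 0x1002001) (nat_lit 0) (nat_lit 0) (nat_lit 3) (nat_lit 0) (nat_lit 0) (nat_lit 0) (nat_lit 1) (nat_lit 0) (nat_lit 1) (nat_lit 0) (nat_lit 1) (nat_lit 0x101010101010100) (.cD (nat_lit 8) (.kA false (nat_lit 0x100400300c002021001000002)) (.cD (nat_lit 16) (.kA false (nat_lit 0x300400100c002021001000002)) (.cD (nat_lit 24) (.kc (nat_lit 48) (nat_lit 0x3001001)) (.cD (nat_lit 32) (.kc (nat_lit 36) (nat_lit 0x5001001)) (.cD (nat_lit 40) (.kA false (nat_lit 0x500400700c002021001000002)) (.cD (nat_lit 48) (.kA false (nat_lit 0x700400500c002021001000002)) (.cD (nat_lit 56) (.kc (nat_lit 52) (nat_lit 0x7001001)) .nil)))))))) (.cD (nat_lit 32) (.kc (nat_lit 20) (nat_lit 0x3001001)) (.cD (nat_lit 48) (.dfs (nat_lit 32) (nat_lit 4100) (nat_lit 4100) (nat_lit 0x1002001) (nat_lit 0x1002001) (nat_lit 0) (nat_lit 0) (nat_lit 3) (nat_lit 0) (nat_lit 0) (nat_lit 0) (nat_lit 1) (nat_lit 0) (nat_lit 0x1008004) (nat_lit 32772) (nat_lit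 0x1001004000008001014000018) (nat_lit 0x1000101110110) (.cD (nat_lit 4) (.kA true (nat_lit 0x100400200c002021001000002)) (.cD (nat_lit 8) (.kA false (nat_lit 0x100400600c002021001000002)) (.cD (nat_lit 16) (.kc (nat_lit 52) (nat_lit 0x7001001)) (.cD (nat_lit 20) (.kA true (nat_lit 0x700400200c002021001000002)) (.cD (nat_lit 24) (.kA false (nat_lit 0x700400600c002021001000002)) (.cD (nat_lit 32) (.kc (nat_lit 36) (nat_lit 0x5001001)) (.cD (nat_lit 48) (.kc (nat_lit 48) (nat_lit 0x3001001)) .nil)))))))) .nil)))))))) (.cD (nat_lit 48) (.kF (nat_lit 4) (nat_lit 0x1002001002012004002002000003)) .nil))))))))))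
theorem c383 : (chk [] [] p383).n x204 s383 = true := by decide +kernel
noncomputable def p384 : Pf := (.anc (nat_lit 68) (nat_lit 0x10002002002000002) (nat_lit 0x1009020010004) (.czp (nat_lit 64) (nat_lit 0) (nat_lit 0x1040020010008004) z6 (.dfs (nat_lit 4) (nat_lit 4097) (nat_lit 4097) (nat_lit 1) (nat_lit 1) (nat_lit 0) (nat_lit 0) (nat_lit 3) (nat_lit 0) (nat_lit 0) (nat_lit 0) (nat_lit 1) (nat_lit 0) (nat_lit 0x1008004) (nat_lit 32772) (nat_lit 0x1001004000008001014000018) (nat_lit 0x1000101110110) (.cD (nat_lit 4) (.dfs (nat_lit 16) (nat_lit 4098) (nat_lit 4098) (nat_lit 4097) (nat_lit 4097) (nat_lit 0) (nat_lit 0) (nat_lit 3) (nat_lit 0) (nat_lit 0) (nat_lit 0) (nat_lit 1) (nat_lit 0) (nat_lit 1) (nat_lit 0) (nat_lit 1) (nat_lit 0x11001100110010) (.cD (nat_lit 4) (.kc (nat_lit 20) (nat_lit 0x3001001)) (.cD (nat_lit 16) (.dfs (nat_lit 32) (nat_lit 4100) (nat_lit 4100) (nat_lit 0x1002001) (nat_lit 0x1002001) (nat_lit 0) (nat_lit 0) (nat_lit 3) (nat_lit 0) (nat_lit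 0) (nat_lit 0) (nat_lit 1) (nat_lit 0) (nat_lit 1) (nat_lit 0) (nat_lit 1) (nat_lit 0x11001100110010) (.cD (nat_lit 4) (.kc (nat_lit 36) (nat_lit 0x5001001)) (.cD (nat_lit 16) (.kc (nat_lit 48) (nat_lit 0x3001001)) (.cD (nat_lit 20) (.kc (nat_lit 52) (nat_lit 0x7001001)) (.cD (nat_lit 32) (.dfs (nat_lit 9) (nat_lit 0x1004001003008) (nat_lit 0x1005001003008) (nat_lit 4098) (nat_lit 4098) (nat_lit 3) (nat_lit 0) (nat_lit 2) (nat_lit 1) (nat_lit 0) (nat_lit 8) (nat_lit 1) (nat_lit 0) (nat_lit 1) (nat_lit 0) (nat_lit 1) (nat_lit 0) .nil) (.cD (nat_lit 36) (.kA true (nat_lit 0x3100100000400100300d001031001000003)) (.cD (nat_lit 48) (.kA true (nat_lit 0x600800401000400400100300d001031001000003)) (.cD (nat_lit 52) (.kA true (nat_lit 0x5004003008001008004002005007031001000003)) .nil)))))))) (.cD (nat_lit 20) (.dfs (nat_lit 32) (nat_lit 4100) (nat_lit 4100) (nat_lit 0x1002001) (nat_lit 0x1002001) (nat_lit 0) (nat_lit 0) (nat_lit 3) (nat_lit 0) (nat_lit 0) (nat_lit 0) (nat_lit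 1) (nat_lit 0) (nat_lit 1) (nat_lit 0) (nat_lit 1) (nat_lit 0x11001100110010) (.cD (nat_lit 4) (.kc (nat_lit 36) (nat_lit 0x5001001)) (.cD (nat_lit 16) (.kc (nat_lit 52) (nat_lit 0x7001001)) (.cD (nat_lit 20) (.kc (nat_lit 48) (nat_lit 0x3001001)) (.cD (nat_lit 32) (.kA true (nat_lit 0x5004003008001008004002005007031001000003)) (.cD (nat_lit 36) (.dfs (nat_lit 9) (nat_lit 4102) (nat_lit 4103) (nat_lit 1) (nat_lit 1) (nat_lit 3) (nat_lit 0) (nat_lit 1) (nat_lit 4112) (nat_lit 0x40020010008004002031) (nat_lit 0) (nat_lit 1) (nat_lit 0) (nat_lit 1) (nat_lit 0) (nat_lit 1) (nat_lit 0) .nil) (.cD (nat_lit 48) (.kA true (nat_lit 0x400300500800100400100300c001002)) (.cD (nat_lit 52) (.kA true (nat_lit 0x400700100800100400100300c001002)) .nil)))))))) (.cD (nat_lit 32) (.kF (nat_lit 16) (nat_lit 0x100400100c012004002002000003)) (.cD (nat_lit 36) (.kF (nat_lit 16) (nat_lit 0x100400100c012004002002000003)) (.cD (nat_lit 48) (.dfs (nat_lit 32) (nat_lit 4100) (nat_lit 4100) (nat_lit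 0x1002001) (nat_lit 0x1002001) (nat_lit 0) (nat_lit 0) (nat_lit 3) (nat_lit 0) (nat_lit 0) (nat_lit 0) (nat_lit 1) (nat_lit 0) (nat_lit 1) (nat_lit 0) (nat_lit 1) (nat_lit 0x11001100110010) (.cD (nat_lit 4) (.kc (nat_lit 36) (nat_lit 0x5001001)) (.cD (nat_lit 16) (.kA true (nat_lit 0x400200100800100400100300c001002)) (.cD (nat_lit 20) (.kA true (nat_lit 0x400600500800100400100300c001002)) (.cD (nat_lit 32) (.kA true (nat_lit 0x5004003008001008004002005007031001000003)) (.cD (nat_lit 36) (.kA true (nat_lit 0x400500600800100400100300c001002)) (.cD (nat_lit 48) (.kc (nat_lit 48) (nat_lit 0x3001001)) (.cD (nat_lit 52) (.kc (nat_lit 52) (nat_lit 0x7001001)) .nil)))))))) (.cD (nat_lit 52) (.dfs (nat_lit 32) (nat_lit 4100) (nat_lit 4100) (nat_lit 0x1002001) (nat_lit 0x1002001) (nat_lit 0) (nat_lit 0) (nat_lit 3) (nat_lit 0) (nat_lit 0) (nat_lit 0) (nat_lit 1) (nat_lit 0) (nat_lit 1) (nat_lit 0) (nat_lit 1) (nat_lit 0x11001100110010) (.cD (nat_lit 4) (.kc (nat_lit 36) (nat_lit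 0x5001001)) (.cD (nat_lit 16) (.kA true (nat_lit 0x400200500800100400100300c001002)) (.cD (nat_lit 20) (.kA true (nat_lit 0x400600100800100400100300c001002)) (.cD (nat_lit 32) (.kA true (nat_lit 0x5004003008001008004002005007031001000003)) (.cD (nat_lit 36) (.kA true (nat_lit 0x400500200800100400100300c001002)) (.cD (nat_lit 48) (.kc (nat_lit 52) (nat_lit 0x7001001)) (.cD (nat_lit 52) (.kc (nat_lit 48) (nat_lit 0x3001001)) .nil)))))))) .nil)))))))) (.cD (nat_lit 8) (.dfs (nat_lit 16) (nat_lit 4098) (nat_lit 4098) (nat_lit 4097) (nat_lit 4097) (nat_lit 0) (nat_lit 0) (nat_lit 3) (nat_lit 0) (nat_lit 0) (nat_lit 0) (nat_lit 1) (nat_lit 0) (nat_lit 1) (nat_lit 0) (nat_lit 1) (nat_lit 0x101010101010100) (.cD (nat_lit 8) (.kc (nat_lit 20) (nat_lit 0x3001001)) (.cD (nat_lit 16) (.dfs (nat_lit 32) (nat_lit 4100) (nat_lit 4100) (nat_lit 0x1002001) (nat_lit 0x1002001) (nat_lit 0) (nat_lit 0) (nat_lit 3) (nat_lit 0) (nat_lit 0) (nat_lit 0) (nat_lit 1) (nat_lit 0) (nat_lit 1)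 (nat_lit 0) (nat_lit 1) (nat_lit 0x101010101010100) (.cD (nat_lit 8) (.kc (nat_lit 36) (nat_lit 0x5001001)) (.cD (nat_lit 16) (.kc (nat_lit 48) (nat_lit 0x3001001)) (.cD (nat_lit 24) (.kc (nat_lit 52) (nat_lit 0x7001001)) (.cD (nat_lit 32) (.kA false (nat_lit 0x500400200c002002004008014005031001000003)) (.cD (nat_lit 40) (.kA false (nat_lit 0x3100100000400500200d002031001000003)) (.cD (nat_lit 48) (.kA false (nat_lit 0x600800c01000400400300200b002031001000003)) (.cD (nat_lit 56) (.kA false (nat_lit 0x300400200c002002004008014005031001000003)) .nil)))))))) (.cD (nat_lit 24) (.dfs (nat_lit 32) (nat_lit 4100) (nat_lit 4100) (nat_lit 0x1002001) (nat_lit 0x1002001) (nat_lit 0) (nat_lit 0) (nat_lit 3) (nat_lit 0) (nat_lit 0) (nat_lit 0) (nat_lit 1) (nat_lit 0) (nat_lit 1) (nat_lit 0) (nat_lit 1) (nat_lit 0x101010101010100) (.cD (nat_lit 8) (.kc (nat_lit 36) (nat_lit 0x5001001)) (.cD (nat_lit 16) (.kc (nat_lit 52) (nat_lit 0x7001001)) (.cD (nat_lit 24) (.kc (nat_lit 48)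 (nat_lit 0x3001001)) (.cD (nat_lit 32) (.kA false (nat_lit 0x500400600c002002004008014005031001000003)) (.cD (nat_lit 40) (.kA false (nat_lit 0x3100100000400500600d002031001000003)) (.cD (nat_lit 48) (.kA false (nat_lit 0x300400600c002002004008014005031001000003)) (.cD (nat_lit 56) (.kA false (nat_lit 0x600800a01000400400300600b002031001000003)) .nil)))))))) (.cD (nat_lit 32) (.kF (nat_lit 16) (nat_lit 0x100400100c012004002002000003)) (.cD (nat_lit 40) (.kF (nat_lit 16) (nat_lit 0x100400100c012004002002000003)) (.cD (nat_lit 48) (.dfs (nat_lit 32) (nat_lit 4100) (nat_lit 4100) (nat_lit 0x1002001) (nat_lit 0x1002001) (nat_lit 0) (nat_lit 0) (nat_lit 3) (nat_lit 0) (nat_lit 0) (nat_lit 0) (nat_lit 1) (nat_lit 0) (nat_lit 1) (nat_lit 0) (nat_lit 1) (nat_lit 0x101010101010100) (.cD (nat_lit 8) (.kc (nat_lit 36) (nat_lit 0x5001001)) (.cD (nat_lit 16) (.kA false (nat_lit 0x600800401000400400300100b002031001000003)) (.cD (nat_lit 24) (.kA false (nat_lit 0x300400500c002002004008014005031001000003))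 (.cD (nat_lit 32) (.kA false (nat_lit 0x500400300c002002004008014005031001000003)) (.cD (nat_lit 40) (.kA false (nat_lit 0x3100100000400500700d002031001000003)) (.cD (nat_lit 48) (.kc (nat_lit 48) (nat_lit 0x3001001)) (.cD (nat_lit 56) (.kc (nat_lit 52) (nat_lit 0x7001001)) .nil)))))))) (.cD (nat_lit 56) (.dfs (nat_lit 32) (nat_lit 4100) (nat_lit 4100) (nat_lit 0x1002001) (nat_lit 0x1002001) (nat_lit 0) (nat_lit 0) (nat_lit 3) (nat_lit 0) (nat_lit 0) (nat_lit 0) (nat_lit 1) (nat_lit 0) (nat_lit 1) (nat_lit 0) (nat_lit 1) (nat_lit 0x101010101010100) (.cD (nat_lit 8) (.kc (nat_lit 36) (nat_lit 0x5001001)) (.cD (nat_lit 16) (.kA false (nat_lit 0x300400100c002002004008014005031001000003)) (.cD (nat_lit 24) (.kA false (nat_lit 0x600800201000400400300500b002031001000003)) (.cD (nat_lit 32) (.kA false (nat_lit 0x500400700c002002004008014005031001000003)) (.cD (nat_lit 40) (.kA false (nat_lit 0x3100100000400500300d002031001000003)) (.cD (nat_lit 48) (.kc (nat_lit 52) (nat_lit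 0x7001001)) (.cD (nat_lit 56) (.kc (nat_lit 48) (nat_lit 0x3001001)) .nil)))))))) .nil)))))))) (.cD (nat_lit 16) (.kF (nat_lit 4) (nat_lit 0x2002000001003001002)) (.cD (nat_lit 20) (.kF (nat_lit 4) (nat_lit 0xe01e003001003001002)) (.cD (nat_lit 24) (.kF (nat_lit 4) (nat_lit 0x1002001002012004002002000003)) (.cD (nat_lit 32) (.dfs (nat_lit 16) (nat_lit 4098) (nat_lit 4098) (nat_lit 4097) (nat_lit 4097) (nat_lit 0) (nat_lit 0) (nat_lit 3) (nat_lit 0) (nat_lit 0) (nat_lit 0) (nat_lit 1) (nat_lit 0) (nat_lit 0x1008004) (nat_lit 32772) (nat_lit 0x1001004000008001014000018) (nat_lit 0x1000101110110) (.cD (nat_lit 4) (.kF (nat_lit 16) (nat_lit 0x31001000001006001002)) (.cD (nat_lit 8) (.kF (nat_lit 16) (nat_lit 0x31001000001006001002)) (.cD (nat_lit 16) (.dfs (nat_lit 32) (nat_lit 4100) (nat_lit 4100) (nat_lit 0x1002001) (nat_lit 0x1002001) (nat_lit 0) (nat_lit 0) (nat_lit 3) (nat_lit 0) (nat_lit 0) (nat_lit 0) (nat_lit 1) (nat_lit 0) (nat_lit 0x1008004) (nat_lit 32772)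 (nat_lit 0x1001004000008001014000018) (nat_lit 0x1000101110110) (.cD (nat_lit 4) (.kA true (nat_lit 0x100400600c002031001000002)) (.cD (nat_lit 8) (.kA false (nat_lit 0x100400200c002031001000002)) (.cD (nat_lit 16) (.kc (nat_lit 48) (nat_lit 0x3001001)) (.cD (nat_lit 20) (.kA true (nat_lit 0x300400600c002031001000002)) (.cD (nat_lit 24) (.kA false (nat_lit 0x300400200c002031001000002)) (.cD (nat_lit 32) (.kc (nat_lit 36) (nat_lit 0x5001001)) (.cD (nat_lit 48) (.kc (nat_lit 52) (nat_lit 0x7001001)) .nil)))))))) (.cD (nat_lit 20) (.dfs (nat_lit 32) (nat_lit 4100) (nat_lit 4100) (nat_lit 0x1002001) (nat_lit 0x1002001) (nat_lit 0) (nat_lit 0) (nat_lit 3) (nat_lit 0) (nat_lit 0) (nat_lit 0) (nat_lit 1) (nat_lit 0) (nat_lit 1) (nat_lit 0) (nat_lit 1) (nat_lit 0x11001100110010) (.cD (nat_lit 4) (.kA true (nat_lit 0x100400700c002031001000002)) (.cD (nat_lit 16) (.kA true (nat_lit 0x300400500c002031001000002)) (.cD (nat_lit 20) (.kc (nat_lit 48) (nat_lit 0x3001001)) (.cD (nat_lit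 32) (.kc (nat_lit 36) (nat_lit 0x5001001)) (.cD (nat_lit 36) (.dfs (nat_lit 9) (nat_lit 4100) (nat_lit 4101) (nat_lit 1) (nat_lit 1) (nat_lit 3) (nat_lit 0) (nat_lit 1) (nat_lit 4128) (nat_lit 0x40020010008004002031) (nat_lit 0) (nat_lit 1) (nat_lit 0) (nat_lit 1) (nat_lit 0) (nat_lit 1) (nat_lit 0) .nil) (.cD (nat_lit 48) (.kA true (nat_lit 0x700400100c002031001000002)) (.cD (nat_lit 52) (.kc (nat_lit 52) (nat_lit 0x7001001)) .nil)))))))) (.cD (nat_lit 24) (.dfs (nat_lit 32) (nat_lit 4100) (nat_lit 4100) (nat_lit 0x1002001) (nat_lit 0x1002001) (nat_lit 0) (nat_lit 0) (nat_lit 3) (nat_lit 0) (nat_lit 0) (nat_lit 0) (nat_lit 1) (nat_lit 0) (nat_lit 1) (nat_lit 0) (nat_lit 1) (nat_lit 0x101010101010100) (.cD (nat_lit 8) (.kA false (nat_lit 0x100400300c002031001000002)) (.cD (nat_lit 16) (.kA false (nat_lit 0x300400100c002031001000002)) (.cD (nat_lit 24) (.kc (nat_lit 48) (nat_lit 0x3001001)) (.cD (nat_lit 32) (.kc (nat_lit 36) (nat_lit 0x5001001)) (.cD (nat_lit 40)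 (.kA false (nat_lit 0x500400700c002031001000002)) (.cD (nat_lit 48) (.kA false (nat_lit 0x700400500c002031001000002)) (.cD (nat_lit 56) (.kc (nat_lit 52) (nat_lit 0x7001001)) .nil)))))))) (.cD (nat_lit 32) (.kc (nat_lit 20) (nat_lit 0x3001001)) (.cD (nat_lit 48) (.dfs (nat_lit 32) (nat_lit 4100) (nat_lit 4100) (nat_lit 0x1002001) (nat_lit 0x1002001) (nat_lit 0) (nat_lit 0) (nat_lit 3) (nat_lit 0) (nat_lit 0) (nat_lit 0) (nat_lit 1) (nat_lit 0) (nat_lit 0x1008004) (nat_lit 32772) (nat_lit 0x1001004000008001014000018) (nat_lit 0x1000101110110) (.cD (nat_lit 4) (.kA true (nat_lit 0x100400200c002031001000002)) (.cD (nat_lit 8) (.kA false (nat_lit 0x100400600c002031001000002)) (.cD (nat_lit 16) (.kc (nat_lit 52) (nat_lit 0x7001001)) (.cD (nat_lit 20) (.kA true (nat_lit 0x700400200c002031001000002)) (.cD (nat_lit 24) (.kA false (nat_lit 0x700400600c002031001000002)) (.cD (nat_lit 32) (.kc (nat_lit 36) (nat_lit 0x5001001)) (.cD (nat_lit 48) (.kc (nat_lit 48) (nat_lit 0x3001001))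 .nil)))))))) .nil)))))))) (.cD (nat_lit 48) (.kF (nat_lit 4) (nat_lit 0x1002001002012004002002000003)) .nil))))))))))
theorem c384 : (chk [] [] p384).n x205 s384 = true := by decide +kernel
noncomputable def p385 : Pf := (.anc (nat_lit 68) (nat_lit 0x10002002002000002) (nat_lit 0x1009020010004) (.czp (nat_lit 64) (nat_lit 0) (nat_lit 0x1040020010008004) z6 (.dfs (nat_lit 4) (nat_lit 4097) (nat_lit 4097) (nat_lit 1) (nat_lit 1) (nat_lit 0) (nat_lit 0) (nat_lit 3) (nat_lit 0) (nat_lit 0) (nat_lit 0) (nat_lit 1) (nat_lit 0) (nat_lit 0x1008004) (nat_lit 32772) (nat_lit 0x1001004000008001014000018) (nat_lit 0x1000101110110) (.cD (nat_lit 4) (.dfs (nat_lit 16) (nat_lit 4098) (nat_lit 4098) (nat_lit 4097) (nat_lit 4097) (nat_lit 0) (nat_lit 0) (nat_lit 3) (nat_lit 0) (nat_lit 0) (nat_lit 0) (nat_lit 1) (nat_lit 0) (nat_lit 1) (nat_lit 0) (nat_lit 1) (nat_lit 0x11001100110010) (.cD (nat_lit 4) (.kc (nat_lit 20) (nat_lit 0x3001001)) (.cD (nat_lit 16) (.dfs (nat_lit 32) (nat_lit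 4100) (nat_lit 4100) (nat_lit 0x1002001) (nat_lit 0x1002001) (nat_lit 0) (nat_lit 0) (nat_lit 3) (nat_lit 0) (nat_lit 0) (nat_lit 0) (nat_lit 1) (nat_lit 0) (nat_lit 1) (nat_lit 0) (nat_lit 1) (nat_lit 0x11001100110010) (.cD (nat_lit 4) (.kc (nat_lit 36) (nat_lit 0x5001001)) (.cD (nat_lit 16) (.kc (nat_lit 48) (nat_lit 0x3001001)) (.cD (nat_lit 20) (.kc (nat_lit 52) (nat_lit 0x7001001)) (.cD (nat_lit 32) (.dfs (nat_lit 9) (nat_lit 0x1004001003008) (nat_lit 0x1005001003008) (nat_lit 4098) (nat_lit 4098) (nat_lit 3) (nat_lit 0) (nat_lit 2) (nat_lit 1) (nat_lit 0) (nat_lit 8) (nat_lit 1) (nat_lit 0) (nat_lit 1) (nat_lit 0) (nat_lit 1) (nat_lit 0) .nil) (.cD (nat_lit 36) (.kA true (nat_lit 0x3100100000400100300d001031001000003)) (.cD (nat_lit 48) (.kA true (nat_lit 0x600800401000400400100300d001031001000003)) (.cD (nat_lit 52) (.kA true (nat_lit 0x5004003008001008004002005007031001000003)) .nil)))))))) (.cD (nat_lit 20) (.dfs (nat_lit 32) (nat_lit 4100) (nat_lit 4100)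 (nat_lit 0x1002001) (nat_lit 0x1002001) (nat_lit 0) (nat_lit 0) (nat_lit 3) (nat_lit 0) (nat_lit 0) (nat_lit 0) (nat_lit 1) (nat_lit 0) (nat_lit 1) (nat_lit 0) (nat_lit 1) (nat_lit 0x11001100110010) (.cD (nat_lit 4) (.kc (nat_lit 36) (nat_lit 0x5001001)) (.cD (nat_lit 16) (.kc (nat_lit 52) (nat_lit 0x7001001)) (.cD (nat_lit 20) (.kc (nat_lit 48) (nat_lit 0x3001001)) (.cD (nat_lit 32) (.kA true (nat_lit 0x5004003008001008004002005007031001000003)) (.cD (nat_lit 36) (.dfs (nat_lit 9) (nat_lit 4102) (nat_lit 4103) (nat_lit 1) (nat_lit 1) (nat_lit 3) (nat_lit 0) (nat_lit 1) (nat_lit 4112) (nat_lit 0x40020010008004002031) (nat_lit 0) (nat_lit 1) (nat_lit 0) (nat_lit 1) (nat_lit 0) (nat_lit 1) (nat_lit 0) .nil) (.cD (nat_lit 48) (.kA true (nat_lit 0x400300500800100400100300c001002)) (.cD (nat_lit 52) (.kA true (nat_lit 0x400700100800100400100300c001002)) .nil)))))))) (.cD (nat_lit 32) (.kF (nat_lit 16) (nat_lit 0x100400100c012004002002000003)) (.cD (nat_lit 36) (.kF (nat_lit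 16) (nat_lit 0x100400100c012004002002000003)) (.cD (nat_lit 48) (.dfs (nat_lit 32) (nat_lit 4100) (nat_lit 4100) (nat_lit 0x1002001) (nat_lit 0x1002001) (nat_lit 0) (nat_lit 0) (nat_lit 3) (nat_lit 0) (nat_lit 0) (nat_lit 0) (nat_lit 1) (nat_lit 0) (nat_lit 1) (nat_lit 0) (nat_lit 1) (nat_lit 0x11001100110010) (.cD (nat_lit 4) (.kc (nat_lit 36) (nat_lit 0x5001001)) (.cD (nat_lit 16) (.kA true (nat_lit 0x400200100800100400100300c001002)) (.cD (nat_lit 20) (.kA true (nat_lit 0x400600500800100400100300c001002)) (.cD (nat_lit 32) (.kA true (nat_lit 0x5004003008001008004002005007031001000003)) (.cD (nat_lit 36) (.kA true (nat_lit 0x400500600800100400100300c001002)) (.cD (nat_lit 48) (.kc (nat_lit 48) (nat_lit 0x3001001)) (.cD (nat_lit 52) (.kc (nat_lit 52) (nat_lit 0x7001001)) .nil)))))))) (.cD (nat_lit 52) (.dfs (nat_lit 32) (nat_lit 4100) (nat_lit 4100) (nat_lit 0x1002001) (nat_lit 0x1002001) (nat_lit 0) (nat_lit 0) (nat_lit 3) (nat_lit 0) (nat_lit 0) (nat_lit 0) (nat_lit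 1) (nat_lit 0) (nat_lit 1) (nat_lit 0) (nat_lit 1) (nat_lit 0x11001100110010) (.cD (nat_lit 4) (.kc (nat_lit 36) (nat_lit 0x5001001)) (.cD (nat_lit 16) (.kA true (nat_lit 0x400200500800100400100300c001002)) (.cD (nat_lit 20) (.kA true (nat_lit 0x400600100800100400100300c001002)) (.cD (nat_lit 32) (.kA true (nat_lit 0x5004003008001008004002005007031001000003)) (.cD (nat_lit 36) (.kA true (nat_lit 0x400500200800100400100300c001002)) (.cD (nat_lit 48) (.kc (nat_lit 52) (nat_lit 0x7001001)) (.cD (nat_lit 52) (.kc (nat_lit 48) (nat_lit 0x3001001)) .nil)))))))) .nil)))))))) (.cD (nat_lit 8) (.dfs (nat_lit 16) (nat_lit 4098) (nat_lit 4098) (nat_lit 4097) (nat_lit 4097) (nat_lit 0) (nat_lit 0) (nat_lit 3) (nat_lit 0) (nat_lit 0) (nat_lit 0) (nat_lit 1) (nat_lit 0) (nat_lit 1) (nat_lit 0) (nat_lit 1) (nat_lit 0x101010101010100) (.cD (nat_lit 8) (.kc (nat_lit 20) (nat_lit 0x3001001)) (.cD (nat_lit 16) (.dfs (nat_lit 32) (nat_lit 4100) (nat_lit 4100) (nat_lit 0x1002001) (nat_lit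 0x1002001) (nat_lit 0) (nat_lit 0) (nat_lit 3) (nat_lit 0) (nat_lit 0) (nat_lit 0) (nat_lit 1) (nat_lit 0) (nat_lit 1) (nat_lit 0) (nat_lit 1) (nat_lit 0x101010101010100) (.cD (nat_lit 8) (.kc (nat_lit 36) (nat_lit 0x5001001)) (.cD (nat_lit 16) (.kc (nat_lit 48) (nat_lit 0x3001001)) (.cD (nat_lit 24) (.kc (nat_lit 52) (nat_lit 0x7001001)) (.cD (nat_lit 32) (.kA false (nat_lit 0x500400200c002002004008014005031001000003)) (.cD (nat_lit 40) (.kA false (nat_lit 0x3100100000400500200d002031001000003)) (.cD (nat_lit 48) (.kA false (nat_lit 0x600800c01000400400300200b002031001000003)) (.cD (nat_lit 56) (.kA false (nat_lit 0x300400200c002002004008014005031001000003)) .nil)))))))) (.cD (nat_lit 24) (.dfs (nat_lit 32) (nat_lit 4100) (nat_lit 4100) (nat_lit 0x1002001) (nat_lit 0x1002001) (nat_lit 0) (nat_lit 0) (nat_lit 3) (nat_lit 0) (nat_lit 0) (nat_lit 0) (nat_lit 1) (nat_lit 0) (nat_lit 1) (nat_lit 0) (nat_lit 1) (nat_lit 0x101010101010100) (.cD (nat_lit 8) (.kc (nat_lit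 36) (nat_lit 0x5001001)) (.cD (nat_lit 16) (.kc (nat_lit 52) (nat_lit 0x7001001)) (.cD (nat_lit 24) (.kc (nat_lit 48) (nat_lit 0x3001001)) (.cD (nat_lit 32) (.kA false (nat_lit 0x500400600c002002004008014005031001000003)) (.cD (nat_lit 40) (.kA false (nat_lit 0x3100100000400500600d002031001000003)) (.cD (nat_lit 48) (.kA false (nat_lit 0x300400600c002002004008014005031001000003)) (.cD (nat_lit 56) (.kA false (nat_lit 0x600800a01000400400300600b002031001000003)) .nil)))))))) (.cD (nat_lit 32) (.kF (nat_lit 16) (nat_lit 0x100400100c012004002002000003)) (.cD (nat_lit 40) (.kF (nat_lit 16) (nat_lit 0x100400100c012004002002000003)) (.cD (nat_lit 48) (.dfs (nat_lit 32) (nat_lit 4100) (nat_lit 4100) (nat_lit 0x1002001) (nat_lit 0x1002001) (nat_lit 0) (nat_lit 0) (nat_lit 3) (nat_lit 0) (nat_lit 0) (nat_lit 0) (nat_lit 1) (nat_lit 0) (nat_lit 1) (nat_lit 0) (nat_lit 1) (nat_lit 0x101010101010100) (.cD (nat_lit 8) (.kc (nat_lit 36) (nat_lit 0x5001001)) (.cD (nat_lit 16) (.kA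 false (nat_lit 0x600800401000400400300100b002031001000003)) (.cD (nat_lit 24) (.kA false (nat_lit 0x300400500c002002004008014005031001000003)) (.cD (nat_lit 32) (.kA false (nat_lit 0x500400300c002002004008014005031001000003)) (.cD (nat_lit 40) (.kA false (nat_lit 0x3100100000400500700d002031001000003)) (.cD (nat_lit 48) (.kc (nat_lit 48) (nat_lit 0x3001001)) (.cD (nat_lit 56) (.kc (nat_lit 52) (nat_lit 0x7001001)) .nil)))))))) (.cD (nat_lit 56) (.dfs (nat_lit 32) (nat_lit 4100) (nat_lit 4100) (nat_lit 0x1002001) (nat_lit 0x1002001) (nat_lit 0) (nat_lit 0) (nat_lit 3) (nat_lit 0) (nat_lit 0) (nat_lit 0) (nat_lit 1) (nat_lit 0) (nat_lit 1) (nat_lit 0) (nat_lit 1) (nat_lit 0x101010101010100) (.cD (nat_lit 8) (.kc (nat_lit 36) (nat_lit 0x5001001)) (.cD (nat_lit 16) (.kA false (nat_lit 0x300400100c002002004008014005031001000003)) (.cD (nat_lit 24) (.kA false (nat_lit 0x600800201000400400300500b002031001000003)) (.cD (nat_lit 32) (.kA false (nat_lit 0x500400700c002002004008014005031001000003))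 (.cD (nat_lit 40) (.kA false (nat_lit 0x3100100000400500300d002031001000003)) (.cD (nat_lit 48) (.kc (nat_lit 52) (nat_lit 0x7001001)) (.cD (nat_lit 56) (.kc (nat_lit 48) (nat_lit 0x3001001)) .nil)))))))) .nil)))))))) (.cD (nat_lit 16) (.kF (nat_lit 4) (nat_lit 0x2002000001003001002)) (.cD (nat_lit 20) (.kF (nat_lit 4) (nat_lit 0xe01e003001003001002)) (.cD (nat_lit 24) (.kF (nat_lit 4) (nat_lit 0x1002001002012004002002000003)) (.cD (nat_lit 32) (.dfs (nat_lit 16) (nat_lit 4098) (nat_lit 4098) (nat_lit 4097) (nat_lit 4097) (nat_lit 0) (nat_lit 0) (nat_lit 3) (nat_lit 0) (nat_lit 0) (nat_lit 0) (nat_lit 1) (nat_lit 0) (nat_lit 0x1008004) (nat_lit 32772) (nat_lit 0x1001004000008001014000018) (nat_lit 0x1000101110110) (.cD (nat_lit 4) (.kF (nat_lit 16) (nat_lit 0x31001000001006001002)) (.cD (nat_lit 8) (.kF (nat_lit 16) (nat_lit 0x31001000001006001002)) (.cD (nat_lit 16) (.dfs (nat_lit 32) (nat_lit 4100) (nat_lit 4100) (nat_lit 0x1002001) (nat_lit 0x1002001) (nat_lit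 0) (nat_lit 0) (nat_lit 3) (nat_lit 0) (nat_lit 0) (nat_lit 0) (nat_lit 1) (nat_lit 0) (nat_lit 0x1008004) (nat_lit 32772) (nat_lit 0x1001004000008001014000018) (nat_lit 0x1000101110110) (.cD (nat_lit 4) (.kA true (nat_lit 0x100400600c002031001000002)) (.cD (nat_lit 8) (.kA false (nat_lit 0x100400200c002031001000002)) (.cD (nat_lit 16) (.kc (nat_lit 48) (nat_lit 0x3001001)) (.cD (nat_lit 20) (.kA true (nat_lit 0x300400600c002031001000002)) (.cD (nat_lit 24) (.kA false (nat_lit 0x300400200c002031001000002)) (.cD (nat_lit 32) (.kc (nat_lit 36) (nat_lit 0x5001001)) (.cD (nat_lit 48) (.kc (nat_lit 52) (nat_lit 0x7001001)) .nil)))))))) (.cD (nat_lit 20) (.dfs (nat_lit 32) (nat_lit 4100) (nat_lit 4100) (nat_lit 0x1002001) (nat_lit 0x1002001) (nat_lit 0) (nat_lit 0) (nat_lit 3) (nat_lit 0) (nat_lit 0) (nat_lit 0) (nat_lit 1) (nat_lit 0) (nat_lit 1) (nat_lit 0) (nat_lit 1) (nat_lit 0x11001100110010) (.cD (nat_lit 4) (.kA true (nat_lit 0x100400700c002031001000002)) (.cD (nat_lit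 16) (.kA true (nat_lit 0x300400500c002031001000002)) (.cD (nat_lit 20) (.kc (nat_lit 48) (nat_lit 0x3001001)) (.cD (nat_lit 32) (.kc (nat_lit 36) (nat_lit 0x5001001)) (.cD (nat_lit 36) (.dfs (nat_lit 9) (nat_lit 4100) (nat_lit 4101) (nat_lit 1) (nat_lit 1) (nat_lit 3) (nat_lit 0) (nat_lit 1) (nat_lit 4128) (nat_lit 0x40020010008004002031) (nat_lit 0) (nat_lit 1) (nat_lit 0) (nat_lit 1) (nat_lit 0) (nat_lit 1) (nat_lit 0) .nil) (.cD (nat_lit 48) (.kA true (nat_lit 0x700400100c002031001000002)) (.cD (nat_lit 52) (.kc (nat_lit 52) (nat_lit 0x7001001)) .nil)))))))) (.cD (nat_lit 24) (.dfs (nat_lit 32) (nat_lit 4100) (nat_lit 4100) (nat_lit 0x1002001) (nat_lit 0x1002001) (nat_lit 0) (nat_lit 0) (nat_lit 3) (nat_lit 0) (nat_lit 0) (nat_lit 0) (nat_lit 1) (nat_lit 0) (nat_lit 1) (nat_lit 0) (nat_lit 1) (nat_lit 0x101010101010100) (.cD (nat_lit 8) (.kA false (nat_lit 0x100400300c002031001000002)) (.cD (nat_lit 16) (.kA false (nat_lit 0x300400100c002031001000002)) (.cD (nat_lit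 24) (.kc (nat_lit 48) (nat_lit 0x3001001)) (.cD (nat_lit 32) (.kc (nat_lit 36) (nat_lit 0x5001001)) (.cD (nat_lit 40) (.kA false (nat_lit 0x500400700c002031001000002)) (.cD (nat_lit 48) (.kA false (nat_lit 0x700400500c002031001000002)) (.cD (nat_lit 56) (.kc (nat_lit 52) (nat_lit 0x7001001)) .nil)))))))) (.cD (nat_lit 32) (.kc (nat_lit 20) (nat_lit 0x3001001)) (.cD (nat_lit 48) (.dfs (nat_lit 32) (nat_lit 4100) (nat_lit 4100) (nat_lit 0x1002001) (nat_lit 0x1002001) (nat_lit 0) (nat_lit 0) (nat_lit 3) (nat_lit 0) (nat_lit 0) (nat_lit 0) (nat_lit 1) (nat_lit 0) (nat_lit 0x1008004) (nat_lit 32772) (nat_lit 0x1001004000008001014000018) (nat_lit 0x1000101110110) (.cD (nat_lit 4) (.kA true (nat_lit 0x100400200c002031001000002)) (.cD (nat_lit 8) (.kA false (nat_lit 0x100400600c002031001000002)) (.cD (nat_lit 16) (.kc (nat_lit 52) (nat_lit 0x7001001)) (.cD (nat_lit 20) (.kA true (nat_lit 0x700400200c002031001000002)) (.cD (nat_lit 24) (.kA false (nat_lit 0x700400600c002031001000002))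 (.cD (nat_lit 32) (.kc (nat_lit 36) (nat_lit 0x5001001)) (.cD (nat_lit 48) (.kc (nat_lit 48) (nat_lit 0x3001001)) .nil)))))))) .nil)))))))) (.cD (nat_lit 48) (.kF (nat_lit 4) (nat_lit 0x1002001002012004002002000003)) .nil))))))))))
theorem c385 : (chk [] [] p385).n x206 s385 = true := by decide +kernel
noncomputable def p386 : Pf := (.lft (nat_lit 0x20008018001004002003001) (nat_lit 0) (nat_lit 0x1028020) (nat_lit 0x20010008004002001) (.extn a6 (nat_lit 0x20010008004002001) (nat_lit 0x1004010008020) (nat_lit 2) (nat_lit 0) (nat_lit 0) (nat_lit 0) (nat_lit 0x1010101) (.cE (nat_lit 0) b7 t7 (.cut (nat_lit 0)) (.cut (nat_lit 1)) (.cE (nat_lit 8) b46 (nat_lit 0) (.cut (nat_lit 2)) (.cut (nat_lit 3)) (.cE (nat_lit 16) b47 (nat_lit 0) (.cut (nat_lit 4)) (.cut (nat_lit 5)) (.cE (nat_lit 24) b48 (nat_lit 0) (.cut (nat_lit 6)) (.cut (nat_lit 7)) .nil))))))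
theorem c386 : (chk [(x120, s379), (x200, s380), (x201, s381), (x202, s382), (x203, s374), (x204, s383), (x205, s384), (x206, s385)] [] p386).n x87 s386 = true := by decide +kernel
noncomputable def p387 : Pf := (.ext (nat_lit 1) (nat_lit 0) (nat_lit 0x1020018010002) (nat_lit 0x700200c008005001001000001002004008005003) (nat_lit 0x300200400f) (nat_lit 4101) (nat_lit 4101) (nat_lit 0xe004002001) (.dfs (nat_lit 5) (nat_lit 0x100300200400f) (nat_lit 0x1003002004009) (nat_lit 0x1008001) (nat_lit 0x100e001) (nat_lit 0) (nat_lit 0) (nat_lit 2) (nat_lit 1) (nat_lit 0) (nat_lit 5) (nat_lit 1) (nat_lit 0) (nat_lit 4128) (nat_lit 32) (nat_lit 0x1000005000007000015000017) (nat_lit 0xa000a0) (.cD (nat_lit 5) (.cut (nat_lit 1)) (.cD (nat_lit 7) (.kS (nat_lit 1) (nat_lit 0x4008010020003001) (nat_lit 4101) (nat_lit 0x8004002007) (nat_lit 0x600400801a007001002004008010001001004008010020003004003)) (.cD (nat_lit 21) (.cut (nat_lit 0)) (.cD (nat_lit 23) (.kS (nat_lit 1) (nat_lit 0x4008010020003001)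 (nat_lit 4101) (nat_lit 0x8004002007) (nat_lit 0x600400801a003001002004008010001001004008010020003004003)) .nil))))))
theorem c387 : (chk [(x87, s378), (x87, s386)] [] p387).n x87 s387 = true := by decide +kernel
noncomputable def p388 : Pf := (.ext (nat_lit 1) (nat_lit 0) (nat_lit 0x1020018010002) (nat_lit 0x12006002001001001) (nat_lit 0x100200400a) (nat_lit 0x1004001) (nat_lit 0x1004001) (nat_lit 0x800400200300e004002003) (.dfs (nat_lit 1) (nat_lit 0x100100200400a) (nat_lit 0x100300200400c) (nat_lit 4104) (nat_lit 4110) (nat_lit 0) (nat_lit 0) (nat_lit 2) (nat_lit 1) (nat_lit 0) (nat_lit 1) (nat_lit 1) (nat_lit 0) (nat_lit 0x1038002) (nat_lit 0x38002) (nat_lit 0x1000001001001001011) (nat_lit 2) (.cD (nat_lit 1) (.dfs (nat_lit 4) (nat_lit 0x1002004008014) (nat_lit 0x1006004008014) (nat_lit 0x1010001) (nat_lit 0x1010001) (nat_lit 0) (nat_lit 0) (nat_lit 2) (nat_lit 1) (nat_lit 0) (nat_lit 4) (nat_lit 1) (nat_lit 0) (nat_lit 1) (nat_lit 0) (nat_lit 1) (nat_lit 0x10101010)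 (.cD (nat_lit 4) (.cut (nat_lit 1)) (.cD (nat_lit 12) (.kA false (nat_lit 0xc002004010003001008018020001002)) (.cD (nat_lit 20) (.cut (nat_lit 0)) (.cD (nat_lit 28) (.kA false (nat_lit 0xe002004010003001008018020001002)) .nil))))) .nil)))
theorem c388 : (chk [(x87, s233), (x87, s387)] [] p388).n x87 s388 = true := by decide +kernel
noncomputable def p389 : Pf := (.anc (nat_lit 48) (nat_lit 0x1001000007004001001000005003004) (nat_lit 0x1002010008004) (.dfs (nat_lit 4) (nat_lit 1) (nat_lit 1) (nat_lit 4097) (nat_lit 4097) (nat_lit 0) (nat_lit 0) (nat_lit 0) (nat_lit 0) (nat_lit 0) (nat_lit 0) (nat_lit 1) (nat_lit 0) (nat_lit 0x1004002) (nat_lit 16386) (nat_lit 0x100100200000400100a00000c) (nat_lit 0x1011514) (.cD (nat_lit 2) (.czs (nat_lit 34) z1 (nat_lit 16) (.dfs (nat_lit 8) (nat_lit 4099) (nat_lit 4099) (nat_lit 0x1002001) (nat_lit 0x1002001) (nat_lit 0) (nat_lit 0) (nat_lit 3) (nat_lit 0) (nat_lit 0) (nat_lit 0) (nat_lit 1) (nat_lit 0) (nat_lit 1) (nat_lit 0) (nat_lit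 1) (nat_lit 0x5050504) (.cD (nat_lit 2) (.kc (nat_lit 12) (nat_lit 0x3001001)) (.cD (nat_lit 8) (.dfs (nat_lit 16) (nat_lit 4102) (nat_lit 4102) (nat_lit 0x1004002001) (nat_lit 0x1004002001) (nat_lit 0) (nat_lit 0) (nat_lit 3) (nat_lit 0) (nat_lit 0) (nat_lit 0) (nat_lit 1) (nat_lit 0) (nat_lit 1) (nat_lit 0) (nat_lit 1) (nat_lit 0x5050504) (.cD (nat_lit 2) (.kc (nat_lit 20) (nat_lit 0x5001001)) (.cD (nat_lit 8) (.kc (nat_lit 24) (nat_lit 0x3001001)) (.cD (nat_lit 10) (.kc (nat_lit 28) (nat_lit 0x7001001)) (.cD (nat_lit 16) (.kA false (nat_lit 0x400500600900200100100000800400600300500400100200b001001001000005)) (.cD (nat_lit 18) (.kA false (nat_lit 0x100100000400800e00700600400100200b001001001000004)) (.cD (nat_lit 24) (.kA false (nat_lit 0x7001002009002004004000004001002009001003)) (.cD (nat_lit 26) (.kA false (nat_lit 0x100100000400600e007006004001002009001003)) .nil)))))))) (.cD (nat_lit 10) (.dfs (nat_lit 16) (nat_lit 4102) (nat_lit 4102) (nat_lit 0x1004002001)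 (nat_lit 0x1004002001) (nat_lit 0) (nat_lit 0) (nat_lit 3) (nat_lit 0) (nat_lit 0) (nat_lit 0) (nat_lit 1) (nat_lit 0) (nat_lit 1) (nat_lit 0) (nat_lit 1) (nat_lit 0x5050504) (.cD (nat_lit 2) (.kc (nat_lit 20) (nat_lit 0x5001001)) (.cD (nat_lit 8) (.kc (nat_lit 28) (nat_lit 0x7001001)) (.cD (nat_lit 10) (.kc (nat_lit 24) (nat_lit 0x3001001)) (.cD (nat_lit 16) (.kA false (nat_lit 0x5001003009002004004000004001002009001003)) (.cD (nat_lit 18) (.kA false (nat_lit 0x100100000c00800a00f005001001000004001002009001004)) (.cD (nat_lit 24) (.kA false (nat_lit 0x3001005009002004004000004001002009001003)) (.cD (nat_lit 26) (.kA false (nat_lit 0x100100000400600a007006004001002009001003)) .nil)))))))) (.cD (nat_lit 16) (.dfs (nat_lit 16) (nat_lit 4102) (nat_lit 4102) (nat_lit 0x1004002001) (nat_lit 0x1004002001) (nat_lit 0) (nat_lit 0) (nat_lit 3) (nat_lit 0) (nat_lit 0) (nat_lit 0) (nat_lit 1) (nat_lit 0) (nat_lit 1) (nat_lit 0) (nat_lit 1) (nat_lit 0x5050504) (.cD (nat_lit 2)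 (.kc (nat_lit 20) (nat_lit 0x5001001)) (.cD (nat_lit 8) (.kA false (nat_lit 0x1001000004001002009001002)) (.cD (nat_lit 10) (.kA false (nat_lit 0x100100000800e00400f005004001002009001003)) (.cD (nat_lit 16) (.kc (nat_lit 24) (nat_lit 0x3001001)) (.cD (nat_lit 18) (.kc (nat_lit 28) (nat_lit 0x7001001)) (.cD (nat_lit 24) (.kA false (nat_lit 0x100100000400100200b001001001000003)) (.cD (nat_lit 26) (.kA false (nat_lit 0x100100000400600c007006004001002009001003)) .nil)))))))) (.cD (nat_lit 18) (.dfs (nat_lit 16) (nat_lit 4102) (nat_lit 4102) (nat_lit 0x1004002001) (nat_lit 0x1004002001) (nat_lit 0) (nat_lit 0) (nat_lit 3) (nat_lit 0) (nat_lit 0) (nat_lit 0) (nat_lit 1) (nat_lit 0) (nat_lit 1) (nat_lit 0) (nat_lit 1) (nat_lit 0x5050504) (.cD (nat_lit 2) (.kc (nat_lit 20) (nat_lit 0x5001001)) (.cD (nat_lit 8) (.kA false (nat_lit 0x1001000004001002009001002)) (.cD (nat_lit 10) (.kA false (nat_lit 0x100100000800e00c00f005004001002009001003)) (.cD (nat_lit 16) (.kc (nat_lit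 28) (nat_lit 0x7001001)) (.cD (nat_lit 18) (.kc (nat_lit 24) (nat_lit 0x3001001)) (.cD (nat_lit 24) (.kA false (nat_lit 0x2001004009002004004000004001002009001003)) (.cD (nat_lit 26) (.kA false (nat_lit 0x100100000400100200b001001001000003)) .nil)))))))) (.cD (nat_lit 24) (.dfs (nat_lit 16) (nat_lit 4102) (nat_lit 4102) (nat_lit 0x1004002001) (nat_lit 0x1004002001) (nat_lit 0) (nat_lit 0) (nat_lit 3) (nat_lit 0) (nat_lit 0) (nat_lit 0) (nat_lit 1) (nat_lit 0) (nat_lit 1) (nat_lit 0) (nat_lit 1) (nat_lit 0x5050504) (.cD (nat_lit 2) (.kc (nat_lit 20) (nat_lit 0x5001001)) (.cD (nat_lit 8) (.kA false (nat_lit 0x1001000004001002009001002)) (.cD (nat_lit 10) (.kA false (nat_lit 0x100100000800e00200f005004001002009001003)) (.cD (nat_lit 16) (.kA false (nat_lit 0x100100000400100200b001001001000003)) (.cD (nat_lit 18) (.kA false (nat_lit 0x100100000800c00200f00500400100200b001001001000004)) (.cD (nat_lit 24) (.kc (nat_lit 24) (nat_lit 0x3001001)) (.cD (nat_lit 26) (.kc (nat_lit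 28) (nat_lit 0x7001001)) .nil)))))))) (.cD (nat_lit 26) (.dfs (nat_lit 16) (nat_lit 4102) (nat_lit 4102) (nat_lit 0x1004002001) (nat_lit 0x1004002001) (nat_lit 0) (nat_lit 0) (nat_lit 3) (nat_lit 0) (nat_lit 0) (nat_lit 0) (nat_lit 1) (nat_lit 0) (nat_lit 1) (nat_lit 0) (nat_lit 1) (nat_lit 0x5050504) (.cD (nat_lit 2) (.kc (nat_lit 20) (nat_lit 0x5001001)) (.cD (nat_lit 8) (.kA false (nat_lit 0x1001000004001002009001002)) (.cD (nat_lit 10) (.kA false (nat_lit 0x100100000800e00a00f005004001002009001003)) (.cD (nat_lit 16) (.kA false (nat_lit 0x5001003009002004004000004001002009001003)) (.cD (nat_lit 18) (.kA false (nat_lit 0x100100000400100200b001001001000003)) (.cD (nat_lit 24) (.kc (nat_lit 28) (nat_lit 0x7001001)) (.cD (nat_lit 26) (.kc (nat_lit 24) (nat_lit 0x3001001)) .nil)))))))) .nil))))))))) (.cD (nat_lit 4) (.czs (nat_lit 36) z0 (nat_lit 16) (.dfs (nat_lit 8) (nat_lit 4099) (nat_lit 4099) (nat_lit 0x1002001) (nat_lit 0x1002001) (nat_lit 0) (nat_lit 0) (nat_lit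 3) (nat_lit 0) (nat_lit 0) (nat_lit 0) (nat_lit 1) (nat_lit 0) (nat_lit 1) (nat_lit 0) (nat_lit 1) (nat_lit 0x11111110) (.cD (nat_lit 4) (.kc (nat_lit 12) (nat_lit 0x3001001)) (.cD (nat_lit 8) (.dfs (nat_lit 16) (nat_lit 4102) (nat_lit 4102) (nat_lit 0x1004002001) (nat_lit 0x1004002001) (nat_lit 0) (nat_lit 0) (nat_lit 3) (nat_lit 0) (nat_lit 0) (nat_lit 0) (nat_lit 1) (nat_lit 0) (nat_lit 1) (nat_lit 0) (nat_lit 1) (nat_lit 0x11111110) (.cD (nat_lit 4) (.kc (nat_lit 20) (nat_lit 0x5001001)) (.cD (nat_lit 8) (.kc (nat_lit 24) (nat_lit 0x3001001)) (.cD (nat_lit 12) (.kc (nat_lit 28) (nat_lit 0x7001001)) (.cD (nat_lit 16) (.dfs (nat_lit 2) (nat_lit 0x1004001002008) (nat_lit 0x1005001002008) (nat_lit 1) (nat_lit 1) (nat_lit 0) (nat_lit 0) (nat_lit 2) (nat_lit 0) (nat_lit 0) (nat_lit 2) (nat_lit 1) (nat_lit 0) (nat_lit 4100) (nat_lit 4) (nat_lit 0x100000200000a) (nat_lit 1028) (.cD (nat_lit 2) (.cut (nat_lit 1)) (.cD (nat_lit 10) (.kA true (nat_lit 0x700300601000100100100000a004002003005003002006016001001001000005))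 .nil))) (.cD (nat_lit 20) (.dfs (nat_lit 2) (nat_lit 4101) (nat_lit 4100) (nat_lit 1) (nat_lit 1) (nat_lit 0) (nat_lit 0) (nat_lit 1) (nat_lit 4112) (nat_lit 0x20010008004002001) (nat_lit 0) (nat_lit 1) (nat_lit 0) (nat_lit 1) (nat_lit 0) (nat_lit 1) (nat_lit 0) .nil) (.cD (nat_lit 24) (.kA false (nat_lit 0x7001002009002002002000004001002009001003)) (.cD (nat_lit 28) (.kA false (nat_lit 0x5006002008001002002000004007002008002003)) .nil)))))))) (.cD (nat_lit 12) (.dfs (nat_lit 16) (nat_lit 4102) (nat_lit 4102) (nat_lit 0x1004002001) (nat_lit 0x1004002001) (nat_lit 0) (nat_lit 0) (nat_lit 3) (nat_lit 0) (nat_lit 0) (nat_lit 0) (nat_lit 1) (nat_lit 0) (nat_lit 1) (nat_lit 0) (nat_lit 1) (nat_lit 0x11111110) (.cD (nat_lit 4) (.kc (nat_lit 20) (nat_lit 0x5001001)) (.cD (nat_lit 8) (.kc (nat_lit 28) (nat_lit 0x7001001)) (.cD (nat_lit 12) (.kc (nat_lit 24) (nat_lit 0x3001001)) (.cD (nat_lit 16) (.kA false (nat_lit 0x5001007008001002002000004001002009001003)) (.cD (nat_lit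 20) (.kA false (nat_lit 0x500100700800100200600a016003004001002009001003)) (.cD (nat_lit 24) (.kA false (nat_lit 0x3001005009002002002000004001002009001003)) (.cD (nat_lit 28) (.kA false (nat_lit 0x5003007008001002002000004003006008002003)) .nil)))))))) (.cD (nat_lit 16) (.dfs (nat_lit 16) (nat_lit 4102) (nat_lit 4102) (nat_lit 0x1004002001) (nat_lit 0x1004002001) (nat_lit 0) (nat_lit 0) (nat_lit 3) (nat_lit 0) (nat_lit 0) (nat_lit 0) (nat_lit 1) (nat_lit 0) (nat_lit 1) (nat_lit 0) (nat_lit 1) (nat_lit 0x11111110) (.cD (nat_lit 4) (.kc (nat_lit 20) (nat_lit 0x5001001)) (.cD (nat_lit 8) (.kA false (nat_lit 0x4002001009002001001000002)) (.cD (nat_lit 12) (.kA false (nat_lit 0x5002004008001002002000004002005008002003)) (.cD (nat_lit 16) (.kc (nat_lit 24) (nat_lit 0x3001001)) (.cD (nat_lit 20) (.kc (nat_lit 28) (nat_lit 0x7001001)) (.cD (nat_lit 24) (.kA false (nat_lit 0x100100000400100200b001001001000003)) (.cD (nat_lit 28) (.kA false (nat_lit 0x5002006008001002002000004002007008002003))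 .nil)))))))) (.cD (nat_lit 20) (.dfs (nat_lit 16) (nat_lit 4102) (nat_lit 4102) (nat_lit 0x1004002001) (nat_lit 0x1004002001) (nat_lit 0) (nat_lit 0) (nat_lit 3) (nat_lit 0) (nat_lit 0) (nat_lit 0) (nat_lit 1) (nat_lit 0) (nat_lit 1) (nat_lit 0) (nat_lit 1) (nat_lit 0x11111110) (.cD (nat_lit 4) (.kc (nat_lit 20) (nat_lit 0x5001001)) (.cD (nat_lit 8) (.kA false (nat_lit 0x4006001009002001001000002)) (.cD (nat_lit 12) (.kA false (nat_lit 0x5007004008001002002000004006005008002003)) (.cD (nat_lit 16) (.kc (nat_lit 28) (nat_lit 0x7001001)) (.cD (nat_lit 20) (.kc (nat_lit 24) (nat_lit 0x3001001)) (.cD (nat_lit 24) (.kA false (nat_lit 0x4003005008001001001000004001002009001003)) (.cD (nat_lit 28) (.kA false (nat_lit 0x100100000400100200b001001001000003)) .nil)))))))) (.cD (nat_lit 24) (.dfs (nat_lit 16) (nat_lit 4102) (nat_lit 4102) (nat_lit 0x1004002001) (nat_lit 0x1004002001) (nat_lit 0) (nat_lit 0) (nat_lit 3) (nat_lit 0) (nat_lit 0) (nat_lit 0) (nat_lit 1) (nat_lit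 0) (nat_lit 1) (nat_lit 0) (nat_lit 1) (nat_lit 0x11111110) (.cD (nat_lit 4) (.kc (nat_lit 20) (nat_lit 0x5001001)) (.cD (nat_lit 8) (.kA false (nat_lit 0x4003001009002001001000002)) (.cD (nat_lit 12) (.kA false (nat_lit 0x5006004008001002002000004007005008002003)) (.cD (nat_lit 16) (.kA false (nat_lit 0x100100000400100200b001001001000003)) (.cD (nat_lit 20) (.kA false (nat_lit 0x500100600800100200600c016003004001002009001003)) (.cD (nat_lit 24) (.kc (nat_lit 24) (nat_lit 0x3001001)) (.cD (nat_lit 28) (.kc (nat_lit 28) (nat_lit 0x7001001)) .nil)))))))) (.cD (nat_lit 28) (.dfs (nat_lit 16) (nat_lit 4102) (nat_lit 4102) (nat_lit 0x1004002001) (nat_lit 0x1004002001) (nat_lit 0) (nat_lit 0) (nat_lit 3) (nat_lit 0) (nat_lit 0) (nat_lit 0) (nat_lit 1) (nat_lit 0) (nat_lit 1) (nat_lit 0) (nat_lit 1) (nat_lit 0x11111110) (.cD (nat_lit 4) (.kc (nat_lit 20) (nat_lit 0x5001001)) (.cD (nat_lit 8) (.kA false (nat_lit 0x4007001009002001001000002)) (.cD (nat_lit 12) (.kA false (nat_lit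 0x400600700800100400100200b001001001000003)) (.cD (nat_lit 16) (.kA false (nat_lit 0x5001006008001002002000004001002009001003)) (.cD (nat_lit 20) (.kA false (nat_lit 0x100100000400100200b001001001000003)) (.cD (nat_lit 24) (.kc (nat_lit 28) (nat_lit 0x7001001)) (.cD (nat_lit 28) (.kc (nat_lit 24) (nat_lit 0x3001001)) .nil)))))))) .nil))))))))) (.cD (nat_lit 8) (.dfs (nat_lit 8) (nat_lit 1) (nat_lit 1) (nat_lit 0x1002001) (nat_lit 0x1002001) (nat_lit 0) (nat_lit 0) (nat_lit 0) (nat_lit 0) (nat_lit 0) (nat_lit 0) (nat_lit 1) (nat_lit 0) (nat_lit 0x1004002) (nat_lit 16386) (nat_lit 0x100100200000400100a00000c) (nat_lit 0x1011514) (.cD (nat_lit 2) (.czs (nat_lit 34) z1 (nat_lit 16) (.dfs (nat_lit 16) (nat_lit 4101) (nat_lit 4101) (nat_lit 0x1004002001) (nat_lit 0x1004002001) (nat_lit 0) (nat_lit 0) (nat_lit 3) (nat_lit 0) (nat_lit 0) (nat_lit 0) (nat_lit 1) (nat_lit 0) (nat_lit 1) (nat_lit 0) (nat_lit 1) (nat_lit 0x5050504) (.cD (nat_lit 2) (.kc (nat_lit 24) (nat_lit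 0x3001001)) (.cD (nat_lit 8) (.kc (nat_lit 20) (nat_lit 0x5001001)) (.cD (nat_lit 10) (.kc (nat_lit 28) (nat_lit 0x7001001)) (.cD (nat_lit 16) (.kA false (nat_lit 0x4001003009002004004000004001002009001003)) (.cD (nat_lit 18) (.kA false (nat_lit 0x600200300900200e00800400d00600400100200b001001001000004)) (.cD (nat_lit 24) (.kA false (nat_lit 0x4001007009002004004000004001002009001003)) (.cD (nat_lit 26) (.kA false (nat_lit 0x100100000e006004007006004001002009001003)) .nil))))))))) (.cD (nat_lit 4) (.czs (nat_lit 36) z0 (nat_lit 16) (.dfs (nat_lit 16) (nat_lit 4101) (nat_lit 4101) (nat_lit 0x1004002001) (nat_lit 0x1004002001) (nat_lit 0) (nat_lit 0) (nat_lit 3) (nat_lit 0) (nat_lit 0) (nat_lit 0) (nat_lit 1) (nat_lit 0) (nat_lit 1) (nat_lit 0) (nat_lit 1) (nat_lit 0x11111110) (.cD (nat_lit 4) (.kc (nat_lit 24) (nat_lit 0x3001001)) (.cD (nat_lit 8) (.kc (nat_lit 20) (nat_lit 0x5001001)) (.cD (nat_lit 12) (.kc (nat_lit 28) (nat_lit 0x7001001)) (.cD (nat_lit 16) (.kA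 false (nat_lit 0x2001005008001002002000004001002009001003)) (.cD (nat_lit 20) (.kA false (nat_lit 0x200500400800100400100200b001001001000003)) (.cD (nat_lit 24) (.kA false (nat_lit 0x2003004008001001001000004001002009001003)) (.cD (nat_lit 28) (.kA false (nat_lit 0x2006005008001002002000002007004008002003)) .nil))))))))) (.cD (nat_lit 8) (.kc (nat_lit 12) (nat_lit 0x3001001)) (.cD (nat_lit 10) (.czs (nat_lit 42) z1 (nat_lit 16) (.dfs (nat_lit 16) (nat_lit 4101) (nat_lit 4101) (nat_lit 0x1004002001) (nat_lit 0x1004002001) (nat_lit 0) (nat_lit 0) (nat_lit 3) (nat_lit 0) (nat_lit 0) (nat_lit 0) (nat_lit 1) (nat_lit 0) (nat_lit 1) (nat_lit 0) (nat_lit 1) (nat_lit 0x5050504) (.cD (nat_lit 2) (.kc (nat_lit 28) (nat_lit 0x7001001)) (.cD (nat_lit 8) (.kc (nat_lit 20) (nat_lit 0x5001001)) (.cD (nat_lit 10) (.kc (nat_lit 24) (nat_lit 0x3001001)) (.cD (nat_lit 16) (.kA false (nat_lit 0x4001003009002004004000004001002009001003)) (.cD (nat_lit 18) (.kA false (nat_lit 0x100100000600800a00f005001001000004001002009001004))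 (.cD (nat_lit 24) (.kA false (nat_lit 0x4001007009002004004000004001002009001003)) (.cD (nat_lit 26) (.kA false (nat_lit 0x100100000e00600a007006004001002009001003)) .nil))))))))) (.cD (nat_lit 12) (.czs (nat_lit 44) z0 (nat_lit 16) (.dfs (nat_lit 16) (nat_lit 4101) (nat_lit 4101) (nat_lit 0x1004002001) (nat_lit 0x1004002001) (nat_lit 0) (nat_lit 0) (nat_lit 3) (nat_lit 0) (nat_lit 0) (nat_lit 0) (nat_lit 1) (nat_lit 0) (nat_lit 1) (nat_lit 0) (nat_lit 1) (nat_lit 0x11111110) (.cD (nat_lit 4) (.kc (nat_lit 28) (nat_lit 0x7001001)) (.cD (nat_lit 8) (.kc (nat_lit 20) (nat_lit 0x5001001)) (.cD (nat_lit 12) (.kc (nat_lit 24) (nat_lit 0x3001001)) (.cD (nat_lit 16) (.kA false (nat_lit 0x2001006008001004001002009001002)) (.cD (nat_lit 20) (.kA false (nat_lit 0x200500600900200600700400c002001001000003)) (.cD (nat_lit 24) (.kA false (nat_lit 0x2003006008001001001000004001002009001003)) (.cD (nat_lit 28) (.kA false (nat_lit 0x200700600800100400100200b001001001000003)) .nil)))))))))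 (.cD (nat_lit 16) (.dfs (nat_lit 16) (nat_lit 1) (nat_lit 1) (nat_lit 0x1004002001) (nat_lit 0x1004002001) (nat_lit 0) (nat_lit 0) (nat_lit 0) (nat_lit 0) (nat_lit 0) (nat_lit 0) (nat_lit 1) (nat_lit 0) (nat_lit 0x1004002) (nat_lit 16386) (nat_lit 0x100100200000400100a00000c) (nat_lit 0x1011514) (.cD (nat_lit 2) (.kA false (nat_lit 0x400300200900200400400000400100200b001001001000004)) (.cD (nat_lit 4) (.kA false (nat_lit 0x2001005008001008004006014004004001002009001003)) (.cD (nat_lit 8) (.kc (nat_lit 20) (nat_lit 0x5001001)) (.cD (nat_lit 10) (.kA false (nat_lit 0x100100000600e00400f005004001002009001003)) (.cD (nat_lit 12) (.kA false (nat_lit 0x4002005008001002002000005002004008002003)) (.cD (nat_lit 16) (.kc (nat_lit 24) (nat_lit 0x3001001)) (.cD (nat_lit 24) (.kc (nat_lit 28) (nat_lit 0x7001001)) .nil)))))))) (.cD (nat_lit 24) (.dfs (nat_lit 16) (nat_lit 1) (nat_lit 1) (nat_lit 0x1004002001) (nat_lit 0x1004002001) (nat_lit 0) (nat_lit 0) (nat_lit 0) (nat_lit 0)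 (nat_lit 0) (nat_lit 0) (nat_lit 1) (nat_lit 0) (nat_lit 0x1004002) (nat_lit 16386) (nat_lit 0x100100200000400100a00000c) (nat_lit 0x1011514) (.cD (nat_lit 2) (.kA false (nat_lit 0x400700200900200100100000400100200b001001001000004)) (.cD (nat_lit 4) (.kA false (nat_lit 0x200100700800100800400e014004004001002009001003)) (.cD (nat_lit 8) (.kc (nat_lit 20) (nat_lit 0x5001001)) (.cD (nat_lit 10) (.kA false (nat_lit 0x100100000600e00200f005004001002009001003)) (.cD (nat_lit 12) (.kA false (nat_lit 0x4007005008001002002000005006004008002003)) (.cD (nat_lit 16) (.kc (nat_lit 28) (nat_lit 0x7001001)) (.cD (nat_lit 24) (.kc (nat_lit 24) (nat_lit 0x3001001)) .nil)))))))) .nil)))))))) (.cD (nat_lit 10) (.czs (nat_lit 42) z1 (nat_lit 16) (.dfs (nat_lit 8) (nat_lit 4099) (nat_lit 4099) (nat_lit 0x1002001) (nat_lit 0x1002001) (nat_lit 0) (nat_lit 0) (nat_lit 3) (nat_lit 0) (nat_lit 0) (nat_lit 0) (nat_lit 1) (nat_lit 0) (nat_lit 1) (nat_lit 0) (nat_lit 1) (nat_lit 0x5050504) (.cD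 (nat_lit 2) (.dfs (nat_lit 16) (nat_lit 4102) (nat_lit 4102) (nat_lit 0x1004002001) (nat_lit 0x1004002001) (nat_lit 0) (nat_lit 0) (nat_lit 3) (nat_lit 0) (nat_lit 0) (nat_lit 0) (nat_lit 1) (nat_lit 0) (nat_lit 1) (nat_lit 0) (nat_lit 1) (nat_lit 0x5050504) (.cD (nat_lit 2) (.kc (nat_lit 24) (nat_lit 0x3001001)) (.cD (nat_lit 8) (.kc (nat_lit 28) (nat_lit 0x7001001)) (.cD (nat_lit 10) (.kc (nat_lit 20) (nat_lit 0x5001001)) (.cD (nat_lit 16) (.kA false (nat_lit 0x5001003009002004004000004001002009001003)) (.cD (nat_lit 18) (.kA false (nat_lit 0x700200300900200a00800400d00600400100200b001001001000004)) (.cD (nat_lit 24) (.kA false (nat_lit 0x3001005009002004004000004001002009001003)) (.cD (nat_lit 26) (.kA false (nat_lit 0x100100000a006004007006004001002009001003)) .nil)))))))) (.cD (nat_lit 8) (.dfs (nat_lit 16) (nat_lit 4102) (nat_lit 4102) (nat_lit 0x1004002001) (nat_lit 0x1004002001) (nat_lit 0) (nat_lit 0) (nat_lit 3) (nat_lit 0) (nat_lit 0) (nat_lit 0) (nat_lit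 1) (nat_lit 0) (nat_lit 1) (nat_lit 0) (nat_lit 1) (nat_lit 0x5050504) (.cD (nat_lit 2) (.kc (nat_lit 28) (nat_lit 0x7001001)) (.cD (nat_lit 8) (.kc (nat_lit 24) (nat_lit 0x3001001)) (.cD (nat_lit 10) (.kc (nat_lit 20) (nat_lit 0x5001001)) (.cD (nat_lit 16) (.kA false (nat_lit 0x200700400900200100100000e00400600300500400100200b001001001000005)) (.cD (nat_lit 18) (.kA false (nat_lit 0x100100000a00800e00700600400100200b001001001000004)) (.cD (nat_lit 24) (.kA false (nat_lit 0x7001002009002004004000004001002009001003)) (.cD (nat_lit 26) (.kA false (nat_lit 0x100100000a00600e007006004001002009001003)) .nil)))))))) (.cD (nat_lit 10) (.kc (nat_lit 12) (nat_lit 0x3001001)) (.cD (nat_lit 16) (.dfs (nat_lit 16) (nat_lit 4102) (nat_lit 4102) (nat_lit 0x1004002001) (nat_lit 0x1004002001) (nat_lit 0) (nat_lit 0) (nat_lit 3) (nat_lit 0) (nat_lit 0) (nat_lit 0) (nat_lit 1) (nat_lit 0) (nat_lit 1) (nat_lit 0) (nat_lit 1) (nat_lit 0x5050504) (.cD (nat_lit 2) (.kA false (nat_lit 0x600300200900200400400000400100200b001001001000004))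 (.cD (nat_lit 8) (.kA false (nat_lit 0x1001000004001002009001002)) (.cD (nat_lit 10) (.kc (nat_lit 20) (nat_lit 0x5001001)) (.cD (nat_lit 16) (.kc (nat_lit 24) (nat_lit 0x3001001)) (.cD (nat_lit 18) (.kA false (nat_lit 0x600300200900200400400000400100200b001001001000004)) (.cD (nat_lit 24) (.kA false (nat_lit 0x100100000400100200b001001001000003)) (.cD (nat_lit 26) (.kc (nat_lit 28) (nat_lit 0x7001001)) .nil)))))))) (.cD (nat_lit 18) (.dfs (nat_lit 16) (nat_lit 4102) (nat_lit 4102) (nat_lit 0x1004002001) (nat_lit 0x1004002001) (nat_lit 0) (nat_lit 0) (nat_lit 3) (nat_lit 0) (nat_lit 0) (nat_lit 0) (nat_lit 1) (nat_lit 0) (nat_lit 1) (nat_lit 0) (nat_lit 1) (nat_lit 0x5050504) (.cD (nat_lit 2) (.kA false (nat_lit 0x500200300900200e00800c00500500400100200b001001001000004)) (.cD (nat_lit 8) (.kA false (nat_lit 0x1001000004001002009001002)) (.cD (nat_lit 10) (.kc (nat_lit 20) (nat_lit 0x5001001)) (.cD (nat_lit 16) (.kA false (nat_lit 0x5001003009002004004000004001002009001003))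 (.cD (nat_lit 18) (.kc (nat_lit 24) (nat_lit 0x3001001)) (.cD (nat_lit 24) (.kc (nat_lit 28) (nat_lit 0x7001001)) (.cD (nat_lit 26) (.kA false (nat_lit 0x100100000400100200b001001001000003)) .nil)))))))) (.cD (nat_lit 24) (.dfs (nat_lit 16) (nat_lit 4102) (nat_lit 4102) (nat_lit 0x1004002001) (nat_lit 0x1004002001) (nat_lit 0) (nat_lit 0) (nat_lit 3) (nat_lit 0) (nat_lit 0) (nat_lit 0) (nat_lit 1) (nat_lit 0) (nat_lit 1) (nat_lit 0) (nat_lit 1) (nat_lit 0x5050504) (.cD (nat_lit 2) (.kA false (nat_lit 0x300600200900200100100000400100200b001001001000004)) (.cD (nat_lit 8) (.kA false (nat_lit 0x1001000004001002009001002)) (.cD (nat_lit 10) (.kc (nat_lit 20) (nat_lit 0x5001001)) (.cD (nat_lit 16) (.kA false (nat_lit 0x100100000400100200b001001001000003)) (.cD (nat_lit 18) (.kc (nat_lit 28) (nat_lit 0x7001001)) (.cD (nat_lit 24) (.kc (nat_lit 24) (nat_lit 0x3001001)) (.cD (nat_lit 26) (.kA false (nat_lit 0x100100000a006002007006004001002009001003)) .nil)))))))) (.cD (nat_lit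 26) (.dfs (nat_lit 16) (nat_lit 4102) (nat_lit 4102) (nat_lit 0x1004002001) (nat_lit 0x1004002001) (nat_lit 0) (nat_lit 0) (nat_lit 3) (nat_lit 0) (nat_lit 0) (nat_lit 0) (nat_lit 1) (nat_lit 0) (nat_lit 1) (nat_lit 0) (nat_lit 1) (nat_lit 0x5050504) (.cD (nat_lit 2) (.kA false (nat_lit 0x100100000600800a007006001001000004001002009001004)) (.cD (nat_lit 8) (.kA false (nat_lit 0x1001000004001002009001002)) (.cD (nat_lit 10) (.kc (nat_lit 20) (nat_lit 0x5001001)) (.cD (nat_lit 16) (.kc (nat_lit 28) (nat_lit 0x7001001)) (.cD (nat_lit 18) (.kA false (nat_lit 0x100100000400100200b001001001000003)) (.cD (nat_lit 24) (.kA false (nat_lit 0x2001004009002004004000004001002009001003)) (.cD (nat_lit 26) (.kc (nat_lit 24) (nat_lit 0x3001001)) .nil)))))))) .nil))))))))) (.cD (nat_lit 12) (.czs (nat_lit 44) z0 (nat_lit 16) (.dfs (nat_lit 8) (nat_lit 4099) (nat_lit 4099) (nat_lit 0x1002001) (nat_lit 0x1002001) (nat_lit 0) (nat_lit 0) (nat_lit 3) (nat_lit 0) (nat_lit 0) (nat_lit 0)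 (nat_lit 1) (nat_lit 0) (nat_lit 1) (nat_lit 0) (nat_lit 1) (nat_lit 0x11111110) (.cD (nat_lit 4) (.dfs (nat_lit 16) (nat_lit 4102) (nat_lit 4102) (nat_lit 0x1004002001) (nat_lit 0x1004002001) (nat_lit 0) (nat_lit 0) (nat_lit 3) (nat_lit 0) (nat_lit 0) (nat_lit 0) (nat_lit 1) (nat_lit 0) (nat_lit 1) (nat_lit 0) (nat_lit 1) (nat_lit 0x11111110) (.cD (nat_lit 4) (.kc (nat_lit 24) (nat_lit 0x3001001)) (.cD (nat_lit 8) (.kc (nat_lit 28) (nat_lit 0x7001001)) (.cD (nat_lit 12) (.kc (nat_lit 20) (nat_lit 0x5001001)) (.cD (nat_lit 16) (.kA false (nat_lit 0x6001004008001004001002009001002)) (.cD (nat_lit 20) (.kA false (nat_lit 0x600500400800100400100200b001001001000003)) (.cD (nat_lit 24) (.kA false (nat_lit 0x6003004008001001001000004001002009001003)) (.cD (nat_lit 28) (.kA false (nat_lit 0x600700400900200200500600e002001001000003)) .nil)))))))) (.cD (nat_lit 8) (.dfs (nat_lit 16) (nat_lit 4102) (nat_lit 4102) (nat_lit 0x1004002001) (nat_lit 0x1004002001) (nat_lit 0) (nat_lit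 0) (nat_lit 3) (nat_lit 0) (nat_lit 0) (nat_lit 0) (nat_lit 1) (nat_lit 0) (nat_lit 1) (nat_lit 0) (nat_lit 1) (nat_lit 0x11111110) (.cD (nat_lit 4) (.kc (nat_lit 28) (nat_lit 0x7001001)) (.cD (nat_lit 8) (.kc (nat_lit 24) (nat_lit 0x3001001)) (.cD (nat_lit 12) (.kc (nat_lit 20) (nat_lit 0x5001001)) (.cD (nat_lit 16) (.dfs (nat_lit 2) (nat_lit 0x1006001002008) (nat_lit 0x1007001002008) (nat_lit 4100) (nat_lit 4101) (nat_lit 0) (nat_lit 0) (nat_lit 2) (nat_lit 0) (nat_lit 0) (nat_lit 2) (nat_lit 1) (nat_lit 0) (nat_lit 4100) (nat_lit 4) (nat_lit 0x100000200000a) (nat_lit 1028) (.cD (nat_lit 2) (.cut (nat_lit 0)) (.cD (nat_lit 10) (.kA true (nat_lit 0x700300601000100100100000a004002003005003002006016001001001000005)) .nil))) (.cD (nat_lit 20) (.dfs (nat_lit 2) (nat_lit 4101) (nat_lit 4100) (nat_lit 1) (nat_lit 1) (nat_lit 0) (nat_lit 0) (nat_lit 1) (nat_lit 4120) (nat_lit 0x20010008004002001) (nat_lit 0) (nat_lit 1) (nat_lit 0) (nat_lit 1) (nat_lit 0) (nat_lit 1) (nat_lit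 0) .nil) (.cD (nat_lit 24) (.kA false (nat_lit 0x7001002009002002002000004001002009001003)) (.cD (nat_lit 28) (.kA false (nat_lit 0x7004002008001002002000006005002008002003)) .nil)))))))) (.cD (nat_lit 12) (.kc (nat_lit 12) (nat_lit 0x3001001)) (.cD (nat_lit 16) (.dfs (nat_lit 16) (nat_lit 4102) (nat_lit 4102) (nat_lit 0x1004002001) (nat_lit 0x1004002001) (nat_lit 0) (nat_lit 0) (nat_lit 3) (nat_lit 0) (nat_lit 0) (nat_lit 0) (nat_lit 1) (nat_lit 0) (nat_lit 1) (nat_lit 0) (nat_lit 1) (nat_lit 0x11111110) (.cD (nat_lit 4) (.kA false (nat_lit 0x200500300900200100200500d002001001000003)) (.cD (nat_lit 8) (.kA false (nat_lit 0x5002001009002001001000002)) (.cD (nat_lit 12) (.kc (nat_lit 20) (nat_lit 0x5001001)) (.cD (nat_lit 16) (.kc (nat_lit 24) (nat_lit 0x3001001)) (.cD (nat_lit 20) (.kA false (nat_lit 0x700100400800100a006004016003004001002009001003)) (.cD (nat_lit 24) (.kA false (nat_lit 0x100100000400100200b001001001000003)) (.cD (nat_lit 28) (.kc (nat_lit 28) (nat_lit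 0x7001001)) .nil)))))))) (.cD (nat_lit 20) (.dfs (nat_lit 16) (nat_lit 4102) (nat_lit 4102) (nat_lit 0x1004002001) (nat_lit 0x1004002001) (nat_lit 0) (nat_lit 0) (nat_lit 3) (nat_lit 0) (nat_lit 0) (nat_lit 0) (nat_lit 1) (nat_lit 0) (nat_lit 1) (nat_lit 0) (nat_lit 1) (nat_lit 0x11111110) (.cD (nat_lit 4) (.kA false (nat_lit 0x600400500800100400100200b001001001000003)) (.cD (nat_lit 8) (.kA false (nat_lit 0x5007001009002001001000002)) (.cD (nat_lit 12) (.kc (nat_lit 20) (nat_lit 0x5001001)) (.cD (nat_lit 16) (.kA false (nat_lit 0x6001005008001004001002009001002)) (.cD (nat_lit 20) (.kc (nat_lit 24) (nat_lit 0x3001001)) (.cD (nat_lit 24) (.kc (nat_lit 28) (nat_lit 0x7001001)) (.cD (nat_lit 28) (.kA false (nat_lit 0x100100000400100200b001001001000003)) .nil)))))))) (.cD (nat_lit 24) (.dfs (nat_lit 16) (nat_lit 4102) (nat_lit 4102) (nat_lit 0x1004002001) (nat_lit 0x1004002001) (nat_lit 0) (nat_lit 0) (nat_lit 3) (nat_lit 0) (nat_lit 0) (nat_lit 0) (nat_lit 1) (nat_lit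 0) (nat_lit 1) (nat_lit 0) (nat_lit 1) (nat_lit 0x11111110) (.cD (nat_lit 4) (.kA false (nat_lit 0x700300600900200100700500d002001001000003)) (.cD (nat_lit 8) (.kA false (nat_lit 0x5003001009002001001000002)) (.cD (nat_lit 12) (.kc (nat_lit 20) (nat_lit 0x5001001)) (.cD (nat_lit 16) (.kA false (nat_lit 0x100100000400100200b001001001000003)) (.cD (nat_lit 20) (.kc (nat_lit 28) (nat_lit 0x7001001)) (.cD (nat_lit 24) (.kc (nat_lit 24) (nat_lit 0x3001001)) (.cD (nat_lit 28) (.kA false (nat_lit 0x3004006008001002002000003005007008002003)) .nil)))))))) (.cD (nat_lit 28) (.dfs (nat_lit 16) (nat_lit 4102) (nat_lit 4102) (nat_lit 0x1004002001) (nat_lit 0x1004002001) (nat_lit 0) (nat_lit 0) (nat_lit 3) (nat_lit 0) (nat_lit 0) (nat_lit 0) (nat_lit 1) (nat_lit 0) (nat_lit 1) (nat_lit 0) (nat_lit 1) (nat_lit 0x11111110) (.cD (nat_lit 4) (.kA false (nat_lit 0x600400700900200100600500d002001001000003)) (.cD (nat_lit 8) (.kA false (nat_lit 0x5006001009002001001000002)) (.cD (nat_lit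 12) (.kc (nat_lit 20) (nat_lit 0x5001001)) (.cD (nat_lit 16) (.kc (nat_lit 28) (nat_lit 0x7001001)) (.cD (nat_lit 20) (.kA false (nat_lit 0x100100000400100200b001001001000003)) (.cD (nat_lit 24) (.kA false (nat_lit 0x2001004009002002002000004001002009001003)) (.cD (nat_lit 28) (.kc (nat_lit 24) (nat_lit 0x3001001)) .nil)))))))) .nil))))))))) (.cD (nat_lit 16) (.dfs (nat_lit 8) (nat_lit 1) (nat_lit 1) (nat_lit 0x1002001) (nat_lit 0x1002001) (nat_lit 0) (nat_lit 0) (nat_lit 0) (nat_lit 0) (nat_lit 0) (nat_lit 0) (nat_lit 1) (nat_lit 0) (nat_lit 0x1004002) (nat_lit 16386) (nat_lit 0x100100200000400100a00000c) (nat_lit 0x1011514) (.cD (nat_lit 2) (.czs (nat_lit 34) z1 (nat_lit 16) (.dfs (nat_lit 16) (nat_lit 4101) (nat_lit 4101) (nat_lit 0x1004002001) (nat_lit 0x1004002001) (nat_lit 0) (nat_lit 0) (nat_lit 3) (nat_lit 0) (nat_lit 0) (nat_lit 0) (nat_lit 1) (nat_lit 0) (nat_lit 1) (nat_lit 0) (nat_lit 1) (nat_lit 0x5050504) (.cD (nat_lit 2) (.kc (nat_lit 24) (nat_lit 0x3001001))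 (.cD (nat_lit 8) (.kA false (nat_lit 0x1001000004001002009001002)) (.cD (nat_lit 10) (.kA false (nat_lit 0x100100000400100200b001001001000003)) (.cD (nat_lit 16) (.kc (nat_lit 20) (nat_lit 0x5001001)) (.cD (nat_lit 18) (.kc (nat_lit 28) (nat_lit 0x7001001)) (.cD (nat_lit 24) (.kA false (nat_lit 0x4001006009002004004000004001002009001003)) (.cD (nat_lit 26) (.kA false (nat_lit 0x100100000c006004007006004001002009001003)) .nil))))))))) (.cD (nat_lit 4) (.czs (nat_lit 36) z0 (nat_lit 16) (.dfs (nat_lit 16) (nat_lit 4101) (nat_lit 4101) (nat_lit 0x1004002001) (nat_lit 0x1004002001) (nat_lit 0) (nat_lit 0) (nat_lit 3) (nat_lit 0) (nat_lit 0) (nat_lit 0) (nat_lit 1) (nat_lit 0) (nat_lit 1) (nat_lit 0) (nat_lit 1) (nat_lit 0x11111110) (.cD (nat_lit 4) (.kc (nat_lit 24) (nat_lit 0x3001001)) (.cD (nat_lit 8) (.kA false (nat_lit 0x2004001009002001001000002)) (.cD (nat_lit 12) (.kA false (nat_lit 0x100100000400100200b001001001000003)) (.cD (nat_lit 16) (.kc (nat_lit 20) (nat_lit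 0x5001001)) (.cD (nat_lit 20) (.kc (nat_lit 28) (nat_lit 0x7001001)) (.cD (nat_lit 24) (.kA false (nat_lit 0x1003004008001001001000004001002009001003)) (.cD (nat_lit 28) (.kA false (nat_lit 0x2005006008001002002000002004007008002003)) .nil))))))))) (.cD (nat_lit 8) (.dfs (nat_lit 16) (nat_lit 1) (nat_lit 1) (nat_lit 0x1004002001) (nat_lit 0x1004002001) (nat_lit 0) (nat_lit 0) (nat_lit 0) (nat_lit 0) (nat_lit 0) (nat_lit 0) (nat_lit 1) (nat_lit 0) (nat_lit 0x1004002) (nat_lit 16386) (nat_lit 0x100100200000400100a00000c) (nat_lit 0x1011514) (.cD (nat_lit 2) (.kA false (nat_lit 0x100100000400800600f00500400100200b001001001000004)) (.cD (nat_lit 4) (.dfs (nat_lit 2) (nat_lit 4100) (nat_lit 4101) (nat_lit 1) (nat_lit 1) (nat_lit 0) (nat_lit 0) (nat_lit 1) (nat_lit 4112) (nat_lit 0x20010008004002001) (nat_lit 0) (nat_lit 1) (nat_lit 0) (nat_lit 1) (nat_lit 0) (nat_lit 1) (nat_lit 0) .nil) (.cD (nat_lit 8) (.kc (nat_lit 24) (nat_lit 0x3001001)) (.cD (nat_lit 10) (.kA false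 (nat_lit 0x100100000400e00600f005004001002009001003)) (.cD (nat_lit 12) (.kA false (nat_lit 0x3005002008001002002000003004002008002003)) (.cD (nat_lit 16) (.kc (nat_lit 20) (nat_lit 0x5001001)) (.cD (nat_lit 24) (.kc (nat_lit 28) (nat_lit 0x7001001)) .nil)))))))) (.cD (nat_lit 10) (.czs (nat_lit 42) z1 (nat_lit 16) (.dfs (nat_lit 16) (nat_lit 4101) (nat_lit 4101) (nat_lit 0x1004002001) (nat_lit 0x1004002001) (nat_lit 0) (nat_lit 0) (nat_lit 3) (nat_lit 0) (nat_lit 0) (nat_lit 0) (nat_lit 1) (nat_lit 0) (nat_lit 1) (nat_lit 0) (nat_lit 1) (nat_lit 0x5050504) (.cD (nat_lit 2) (.kA false (nat_lit 0x100100000400100200b001001001000003)) (.cD (nat_lit 8) (.kA false (nat_lit 0x1001000004001002009001002)) (.cD (nat_lit 10) (.kc (nat_lit 24) (nat_lit 0x3001001)) (.cD (nat_lit 16) (.kc (nat_lit 20) (nat_lit 0x5001001)) (.cD (nat_lit 18) (.kA false (nat_lit 0x100100000400800a00f005001001000004001002009001004)) (.cD (nat_lit 24) (.kA false (nat_lit 0x4001006009002004004000004001002009001003))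 (.cD (nat_lit 26) (.kc (nat_lit 28) (nat_lit 0x7001001)) .nil))))))))) (.cD (nat_lit 12) (.czs (nat_lit 44) z0 (nat_lit 16) (.dfs (nat_lit 16) (nat_lit 4101) (nat_lit 4101) (nat_lit 0x1004002001) (nat_lit 0x1004002001) (nat_lit 0) (nat_lit 0) (nat_lit 3) (nat_lit 0) (nat_lit 0) (nat_lit 0) (nat_lit 1) (nat_lit 0) (nat_lit 1) (nat_lit 0) (nat_lit 1) (nat_lit 0x11111110) (.cD (nat_lit 4) (.kA false (nat_lit 0x100100000400100200b001001001000003)) (.cD (nat_lit 8) (.kA false (nat_lit 0x3004001009002001001000002)) (.cD (nat_lit 12) (.kc (nat_lit 24) (nat_lit 0x3001001)) (.cD (nat_lit 16) (.kc (nat_lit 20) (nat_lit 0x5001001)) (.cD (nat_lit 20) (.kA false (nat_lit 0x4005006008001002002000005004007008002003)) (.cD (nat_lit 24) (.kA false (nat_lit 0x1003006008001001001000004001002009001003)) (.cD (nat_lit 28) (.kc (nat_lit 28) (nat_lit 0x7001001)) .nil))))))))) (.cD (nat_lit 16) (.kc (nat_lit 12) (nat_lit 0x3001001)) (.cD (nat_lit 24) (.dfs (nat_lit 16) (nat_lit 1) (nat_lit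 1) (nat_lit 0x1004002001) (nat_lit 0x1004002001) (nat_lit 0) (nat_lit 0) (nat_lit 0) (nat_lit 0) (nat_lit 0) (nat_lit 0) (nat_lit 1) (nat_lit 0) (nat_lit 0x1004002) (nat_lit 16386) (nat_lit 0x100100200000400100a00000c) (nat_lit 0x1011514) (.cD (nat_lit 2) (.kA false (nat_lit 0x100100000c00400200700600400100200b001001001000004)) (.cD (nat_lit 4) (.kA false (nat_lit 0x500100700800100600400e014004004001002009001003)) (.cD (nat_lit 8) (.kc (nat_lit 28) (nat_lit 0x7001001)) (.cD (nat_lit 10) (.kA false (nat_lit 0x100100000400e00200f005004001002009001003)) (.cD (nat_lit 12) (.kA false (nat_lit 0x6005007008001002002000007004006008002003)) (.cD (nat_lit 16) (.kc (nat_lit 20) (nat_lit 0x5001001)) (.cD (nat_lit 24) (.kc (nat_lit 24) (nat_lit 0x3001001)) .nil)))))))) .nil)))))))) (.cD (nat_lit 24) (.dfs (nat_lit 8) (nat_lit 1) (nat_lit 1) (nat_lit 0x1002001) (nat_lit 0x1002001) (nat_lit 0) (nat_lit 0) (nat_lit 0) (nat_lit 0) (nat_lit 0) (nat_lit 0) (nat_lit 1) (nat_lit 0) (nat_lit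 0x1004002) (nat_lit 16386) (nat_lit 0x100100200000400100a00000c) (nat_lit 0x1011514) (.cD (nat_lit 2) (.czs (nat_lit 34) z1 (nat_lit 16) (.dfs (nat_lit 16) (nat_lit 4101) (nat_lit 4101) (nat_lit 0x1004002001) (nat_lit 0x1004002001) (nat_lit 0) (nat_lit 0) (nat_lit 3) (nat_lit 0) (nat_lit 0) (nat_lit 0) (nat_lit 1) (nat_lit 0) (nat_lit 1) (nat_lit 0) (nat_lit 1) (nat_lit 0x5050504) (.cD (nat_lit 2) (.kc (nat_lit 24) (nat_lit 0x3001001)) (.cD (nat_lit 8) (.kA false (nat_lit 0x1001000004001002009001002)) (.cD (nat_lit 10) (.kA false (nat_lit 0x100100000400100200b001001001000003)) (.cD (nat_lit 16) (.kA false (nat_lit 0x4001003009002004004000004001002009001003)) (.cD (nat_lit 18) (.kA false (nat_lit 0x400200300900200200800400d00600400100200b001001001000004)) (.cD (nat_lit 24) (.kc (nat_lit 20) (nat_lit 0x5001001)) (.cD (nat_lit 26) (.kc (nat_lit 28) (nat_lit 0x7001001)) .nil))))))))) (.cD (nat_lit 4) (.czs (nat_lit 36) z0 (nat_lit 16) (.dfs (nat_lit 16) (nat_lit 4101)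 (nat_lit 4101) (nat_lit 0x1004002001) (nat_lit 0x1004002001) (nat_lit 0) (nat_lit 0) (nat_lit 3) (nat_lit 0) (nat_lit 0) (nat_lit 0) (nat_lit 1) (nat_lit 0) (nat_lit 1) (nat_lit 0) (nat_lit 1) (nat_lit 0x11111110) (.cD (nat_lit 4) (.kc (nat_lit 24) (nat_lit 0x3001001)) (.cD (nat_lit 8) (.kA false (nat_lit 0x2005001009002001001000002)) (.cD (nat_lit 12) (.kA false (nat_lit 0x100100000400100200b001001001000003)) (.cD (nat_lit 16) (.kA false (nat_lit 0x3001004008001004001002009001002)) (.cD (nat_lit 20) (.kA false (nat_lit 0x300500400800100400100200b001001001000003)) (.cD (nat_lit 24) (.kc (nat_lit 20) (nat_lit 0x5001001)) (.cD (nat_lit 28) (.kc (nat_lit 28) (nat_lit 0x7001001)) .nil))))))))) (.cD (nat_lit 8) (.dfs (nat_lit 16) (nat_lit 1) (nat_lit 1) (nat_lit 0x1004002001) (nat_lit 0x1004002001) (nat_lit 0) (nat_lit 0) (nat_lit 0) (nat_lit 0) (nat_lit 0) (nat_lit 0) (nat_lit 1) (nat_lit 0) (nat_lit 0x1004002) (nat_lit 16386) (nat_lit 0x100100200000400100a00000c) (nat_lit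 0x1011514) (.cD (nat_lit 2) (.kA false (nat_lit 0x100100000200800600f00500400100200b001001001000004)) (.cD (nat_lit 4) (.dfs (nat_lit 2) (nat_lit 4100) (nat_lit 4101) (nat_lit 1) (nat_lit 1) (nat_lit 0) (nat_lit 0) (nat_lit 1) (nat_lit 4120) (nat_lit 0x20010008004002001) (nat_lit 0) (nat_lit 1) (nat_lit 0) (nat_lit 1) (nat_lit 0) (nat_lit 1) (nat_lit 0) .nil) (.cD (nat_lit 8) (.kc (nat_lit 24) (nat_lit 0x3001001)) (.cD (nat_lit 10) (.kA false (nat_lit 0x100100000200e00600f005004001002009001003)) (.cD (nat_lit 12) (.kA false (nat_lit 0x3007002008001002002000003006002008002003)) (.cD (nat_lit 16) (.kc (nat_lit 28) (nat_lit 0x7001001)) (.cD (nat_lit 24) (.kc (nat_lit 20) (nat_lit 0x5001001)) .nil)))))))) (.cD (nat_lit 10) (.czs (nat_lit 42) z1 (nat_lit 16) (.dfs (nat_lit 16) (nat_lit 4101) (nat_lit 4101) (nat_lit 0x1004002001) (nat_lit 0x1004002001) (nat_lit 0) (nat_lit 0) (nat_lit 3) (nat_lit 0) (nat_lit 0) (nat_lit 0) (nat_lit 1) (nat_lit 0) (nat_lit 1) (nat_lit 0)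 (nat_lit 1) (nat_lit 0x5050504) (.cD (nat_lit 2) (.kA false (nat_lit 0x100100000400100200b001001001000003)) (.cD (nat_lit 8) (.kA false (nat_lit 0x1001000004001002009001002)) (.cD (nat_lit 10) (.kc (nat_lit 24) (nat_lit 0x3001001)) (.cD (nat_lit 16) (.kA false (nat_lit 0x4001003009002004004000004001002009001003)) (.cD (nat_lit 18) (.kc (nat_lit 28) (nat_lit 0x7001001)) (.cD (nat_lit 24) (.kc (nat_lit 20) (nat_lit 0x5001001)) (.cD (nat_lit 26) (.kA false (nat_lit 0x100100000200600a007006004001002009001003)) .nil))))))))) (.cD (nat_lit 12) (.czs (nat_lit 44) z0 (nat_lit 16) (.dfs (nat_lit 16) (nat_lit 4101) (nat_lit 4101) (nat_lit 0x1004002001) (nat_lit 0x1004002001) (nat_lit 0) (nat_lit 0) (nat_lit 3) (nat_lit 0) (nat_lit 0) (nat_lit 0) (nat_lit 1) (nat_lit 0) (nat_lit 1) (nat_lit 0) (nat_lit 1) (nat_lit 0x11111110) (.cD (nat_lit 4) (.kA false (nat_lit 0x100100000400100200b001001001000003)) (.cD (nat_lit 8) (.kA false (nat_lit 0x3005001009002001001000002)) (.cD (nat_lit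 12) (.kc (nat_lit 24) (nat_lit 0x3001001)) (.cD (nat_lit 16) (.kA false (nat_lit 0x3001006008001004001002009001002)) (.cD (nat_lit 20) (.kc (nat_lit 28) (nat_lit 0x7001001)) (.cD (nat_lit 24) (.kc (nat_lit 20) (nat_lit 0x5001001)) (.cD (nat_lit 28) (.kA false (nat_lit 0x300700600800100400100200b001001001000003)) .nil))))))))) (.cD (nat_lit 16) (.dfs (nat_lit 16) (nat_lit 1) (nat_lit 1) (nat_lit 0x1004002001) (nat_lit 0x1004002001) (nat_lit 0) (nat_lit 0) (nat_lit 0) (nat_lit 0) (nat_lit 0) (nat_lit 0) (nat_lit 1) (nat_lit 0) (nat_lit 0x1004002) (nat_lit 16386) (nat_lit 0x100100200000400100a00000c) (nat_lit 0x1011514) (.cD (nat_lit 2) (.kA false (nat_lit 0x400300200900200400400000400100200b001001001000004)) (.cD (nat_lit 4) (.kA false (nat_lit 0x700100500800100e004006014004004001002009001003)) (.cD (nat_lit 8) (.kc (nat_lit 28) (nat_lit 0x7001001)) (.cD (nat_lit 10) (.kA false (nat_lit 0x100100000200e00400f005004001002009001003)) (.cD (nat_lit 12) (.kA false (nat_lit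 0x6002007008001002002000007002006008002003)) (.cD (nat_lit 16) (.kc (nat_lit 24) (nat_lit 0x3001001)) (.cD (nat_lit 24) (.kc (nat_lit 20) (nat_lit 0x5001001)) .nil)))))))) (.cD (nat_lit 24) (.kc (nat_lit 12) (nat_lit 0x3001001)) .nil)))))))) .nil)))))))))
theorem c389 : (chk [(x87, s190), (x87, s388)] [] p389).n x87 s389 = true := by decide +kernel
noncomputable def p390 : Pf := (.ext (nat_lit 0) (nat_lit 0) (nat_lit 0x1020008010004) (nat_lit 0x1002004008001001) (nat_lit 0x2003004008) (nat_lit 4097) (nat_lit 4097) (nat_lit 0xc004002001) (.dfs (nat_lit 1) (nat_lit 0x1002003004008) (nat_lit 0x100200300400c) (nat_lit 4097) (nat_lit 4097) (nat_lit 0) (nat_lit 0) (nat_lit 2) (nat_lit 0) (nat_lit 0) (nat_lit 1) (nat_lit 1) (nat_lit 0) (nat_lit 4128) (nat_lit 32) (nat_lit 0x1000001000005000011000015) (nat_lit 0x220022) (.cD (nat_lit 1) (.kS (nat_lit 0) (nat_lit 0x2006008010002002002000002) (nat_lit 4117) (nat_lit 0x8004002003) (nat_lit 0x2002000002004008010001001002002000002006008010007001004))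 (.cD (nat_lit 5) (.cut (nat_lit 0)) (.cD (nat_lit 17) (.iso x87 s389 (nat_lit 0) (nat_lit 0x1020010008004002011) (nat_lit 0x20010008004002011) [(nat_lit 0x10008004002005001001), (nat_lit 0x8004002001005001)] (.cut (nat_lit 0))) (.cD (nat_lit 21) (.kS (nat_lit 0) (nat_lit 0x2006008010002002002000002) (nat_lit 4113) (nat_lit 0x8004002003) (nat_lit 0x2002000002004008010001001002002000002006008010005001004)) .nil))))))
theorem c390 : (chk [(x87, s389)] [g6] p390).n x87 s390 = true := by decide +kernel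
noncomputable def p391 : Pf := (.anc (nat_lit 68) (nat_lit 0x10002002002000002) (nat_lit 0x1009020010004) (.czp (nat_lit 64) (nat_lit 0) (nat_lit 0x1040020010008004) z6 (.dfs (nat_lit 4) (nat_lit 4097) (nat_lit 4097) (nat_lit 1) (nat_lit 1) (nat_lit 0) (nat_lit 0) (nat_lit 3) (nat_lit 0) (nat_lit 0) (nat_lit 0) (nat_lit 1) (nat_lit 0) (nat_lit 0x1008004) (nat_lit 32772) (nat_lit 0x1001004000008001014000018) (nat_lit 0x1000101110110) (.cD (nat_lit 4) (.dfs (nat_lit 16) (nat_lit 4098) (nat_lit 4098) (nat_lit 4097) (nat_lit 4097) (nat_lit 0) (nat_lit 0) (nat_lit 3) (nat_lit 0) (nat_lit 0) (nat_lit 0) (nat_lit 1) (nat_lit 0) (nat_lit 1) (nat_lit 0) (nat_lit 1) (nat_lit 0x11001100110010) (.cD (nat_lit 4) (.kc (nat_lit 20) (nat_lit 0x3001001)) (.cD (nat_lit 16) (.dfs (nat_lit 32) (nat_lit 4100) (nat_lit 4100) (nat_lit 0x1002001) (nat_lit 0x1002001) (nat_lit 0) (nat_lit 0) (nat_lit 3) (nat_lit 0) (nat_lit 0) (nat_lit 0) (nat_lit 1) (nat_lit 0) (nat_lit 1) (nat_lit 0) (nat_lit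 1) (nat_lit 0x11001100110010) (.cD (nat_lit 4) (.kc (nat_lit 36) (nat_lit 0x5001001)) (.cD (nat_lit 16) (.kc (nat_lit 48) (nat_lit 0x3001001)) (.cD (nat_lit 20) (.kc (nat_lit 52) (nat_lit 0x7001001)) (.cD (nat_lit 32) (.dfs (nat_lit 9) (nat_lit 0x1004001003008) (nat_lit 0x1005001003008) (nat_lit 4098) (nat_lit 4098) (nat_lit 3) (nat_lit 0) (nat_lit 2) (nat_lit 1) (nat_lit 0) (nat_lit 8) (nat_lit 1) (nat_lit 0) (nat_lit 1) (nat_lit 0) (nat_lit 1) (nat_lit 0) .nil) (.cD (nat_lit 36) (.kA true (nat_lit 0x100100000400100300d001001001000003)) (.cD (nat_lit 48) (.kA true (nat_lit 0x600800401000400400100300d001001001000003)) (.cD (nat_lit 52) (.kA true (nat_lit 0x5004003008001008004002005007001001000003)) .nil)))))))) (.cD (nat_lit 20) (.dfs (nat_lit 32) (nat_lit 4100) (nat_lit 4100) (nat_lit 0x1002001) (nat_lit 0x1002001) (nat_lit 0) (nat_lit 0) (nat_lit 3) (nat_lit 0) (nat_lit 0) (nat_lit 0) (nat_lit 1) (nat_lit 0) (nat_lit 1) (nat_lit 0) (nat_lit 1) (nat_lit 0x11001100110010)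 (.cD (nat_lit 4) (.kc (nat_lit 36) (nat_lit 0x5001001)) (.cD (nat_lit 16) (.kc (nat_lit 52) (nat_lit 0x7001001)) (.cD (nat_lit 20) (.kc (nat_lit 48) (nat_lit 0x3001001)) (.cD (nat_lit 32) (.kA true (nat_lit 0x5004003008001008004002005007001001000003)) (.cD (nat_lit 36) (.dfs (nat_lit 9) (nat_lit 4102) (nat_lit 4103) (nat_lit 1) (nat_lit 1) (nat_lit 3) (nat_lit 0) (nat_lit 1) (nat_lit 4112) (nat_lit 0x40020010008004002001) (nat_lit 0) (nat_lit 1) (nat_lit 0) (nat_lit 1) (nat_lit 0) (nat_lit 1) (nat_lit 0) .nil) (.cD (nat_lit 48) (.kA true (nat_lit 0x400300500800100400100300c001002)) (.cD (nat_lit 52) (.kA true (nat_lit 0x400700100800100400100300c001002)) .nil)))))))) (.cD (nat_lit 32) (.kF (nat_lit 16) (nat_lit 0x100400100c012004002002000003)) (.cD (nat_lit 36) (.kF (nat_lit 16) (nat_lit 0x100400100c012004002002000003)) (.cD (nat_lit 48) (.dfs (nat_lit 32) (nat_lit 4100) (nat_lit 4100) (nat_lit 0x1002001) (nat_lit 0x1002001) (nat_lit 0) (nat_lit 0) (nat_lit 3) (nat_lit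 0) (nat_lit 0) (nat_lit 0) (nat_lit 1) (nat_lit 0) (nat_lit 1) (nat_lit 0) (nat_lit 1) (nat_lit 0x11001100110010) (.cD (nat_lit 4) (.kc (nat_lit 36) (nat_lit 0x5001001)) (.cD (nat_lit 16) (.kA true (nat_lit 0x400200100800100400100300c001002)) (.cD (nat_lit 20) (.kA true (nat_lit 0x400600500800100400100300c001002)) (.cD (nat_lit 32) (.kA true (nat_lit 0x5004003008001008004002005007001001000003)) (.cD (nat_lit 36) (.kA true (nat_lit 0x400500600800100400100300c001002)) (.cD (nat_lit 48) (.kc (nat_lit 48) (nat_lit 0x3001001)) (.cD (nat_lit 52) (.kc (nat_lit 52) (nat_lit 0x7001001)) .nil)))))))) (.cD (nat_lit 52) (.dfs (nat_lit 32) (nat_lit 4100) (nat_lit 4100) (nat_lit 0x1002001) (nat_lit 0x1002001) (nat_lit 0) (nat_lit 0) (nat_lit 3) (nat_lit 0) (nat_lit 0) (nat_lit 0) (nat_lit 1) (nat_lit 0) (nat_lit 1) (nat_lit 0) (nat_lit 1) (nat_lit 0x11001100110010) (.cD (nat_lit 4) (.kc (nat_lit 36) (nat_lit 0x5001001)) (.cD (nat_lit 16) (.kA true (nat_lit 0x400200500800100400100300c001002))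 (.cD (nat_lit 20) (.kA true (nat_lit 0x400600100800100400100300c001002)) (.cD (nat_lit 32) (.kA true (nat_lit 0x5004003008001008004002005007001001000003)) (.cD (nat_lit 36) (.kA true (nat_lit 0x400500200800100400100300c001002)) (.cD (nat_lit 48) (.kc (nat_lit 52) (nat_lit 0x7001001)) (.cD (nat_lit 52) (.kc (nat_lit 48) (nat_lit 0x3001001)) .nil)))))))) .nil)))))))) (.cD (nat_lit 8) (.dfs (nat_lit 16) (nat_lit 4098) (nat_lit 4098) (nat_lit 4097) (nat_lit 4097) (nat_lit 0) (nat_lit 0) (nat_lit 3) (nat_lit 0) (nat_lit 0) (nat_lit 0) (nat_lit 1) (nat_lit 0) (nat_lit 1) (nat_lit 0) (nat_lit 1) (nat_lit 0x101010101010100) (.cD (nat_lit 8) (.kc (nat_lit 20) (nat_lit 0x3001001)) (.cD (nat_lit 16) (.dfs (nat_lit 32) (nat_lit 4100) (nat_lit 4100) (nat_lit 0x1002001) (nat_lit 0x1002001) (nat_lit 0) (nat_lit 0) (nat_lit 3) (nat_lit 0) (nat_lit 0) (nat_lit 0) (nat_lit 1) (nat_lit 0) (nat_lit 1) (nat_lit 0) (nat_lit 1) (nat_lit 0x101010101010100) (.cD (nat_lit 8) (.kc (nat_lit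 36) (nat_lit 0x5001001)) (.cD (nat_lit 16) (.kc (nat_lit 48) (nat_lit 0x3001001)) (.cD (nat_lit 24) (.kc (nat_lit 52) (nat_lit 0x7001001)) (.cD (nat_lit 32) (.kA false (nat_lit 0x300400200c00200e004008014005001001000003)) (.cD (nat_lit 40) (.kA false (nat_lit 0x100100000300500200d002001001000003)) (.cD (nat_lit 48) (.kA false (nat_lit 0x200800c01000400500300200b002001001000003)) (.cD (nat_lit 56) (.kA false (nat_lit 0x500400200c00200e004008014005001001000003)) .nil)))))))) (.cD (nat_lit 24) (.dfs (nat_lit 32) (nat_lit 4100) (nat_lit 4100) (nat_lit 0x1002001) (nat_lit 0x1002001) (nat_lit 0) (nat_lit 0) (nat_lit 3) (nat_lit 0) (nat_lit 0) (nat_lit 0) (nat_lit 1) (nat_lit 0) (nat_lit 1) (nat_lit 0) (nat_lit 1) (nat_lit 0x101010101010100) (.cD (nat_lit 8) (.kc (nat_lit 36) (nat_lit 0x5001001)) (.cD (nat_lit 16) (.kc (nat_lit 52) (nat_lit 0x7001001)) (.cD (nat_lit 24) (.kc (nat_lit 48) (nat_lit 0x3001001)) (.cD (nat_lit 32) (.kA false (nat_lit 0x700400600c00200e004008014005001001000003))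 (.cD (nat_lit 40) (.kA false (nat_lit 0x100100000700500600d002001001000003)) (.cD (nat_lit 48) (.kA false (nat_lit 0x100400600c00200e004008014005001001000003)) (.cD (nat_lit 56) (.kA false (nat_lit 0x400800a01000400100300600b002001001000003)) .nil)))))))) (.cD (nat_lit 32) (.kF (nat_lit 16) (nat_lit 0x100400100c012004002002000003)) (.cD (nat_lit 40) (.kF (nat_lit 16) (nat_lit 0x100400100c012004002002000003)) (.cD (nat_lit 48) (.kF (nat_lit 16) (nat_lit 0x100100000e014006001006001003)) (.cD (nat_lit 56) (.kF (nat_lit 16) (nat_lit 0x100100000a014006001006001003)) .nil)))))))) (.cD (nat_lit 16) (.kF (nat_lit 4) (nat_lit 0x2002000001003001002)) (.cD (nat_lit 20) (.kF (nat_lit 4) (nat_lit 0xe01e003001003001002)) (.cD (nat_lit 24) (.kF (nat_lit 4) (nat_lit 0x1002001002012004002002000003)) (.cD (nat_lit 32) (.dfs (nat_lit 16) (nat_lit 4098) (nat_lit 4098) (nat_lit 4097) (nat_lit 4097) (nat_lit 0) (nat_lit 0) (nat_lit 3) (nat_lit 0) (nat_lit 0) (nat_lit 0) (nat_lit 1) (nat_lit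 0) (nat_lit 0x1008004) (nat_lit 32772) (nat_lit 0x1001004000008001014000018) (nat_lit 0x1000101110110) (.cD (nat_lit 4) (.kF (nat_lit 16) (nat_lit 0x1001000001006001002)) (.cD (nat_lit 8) (.kF (nat_lit 16) (nat_lit 0x100400100c012004002002000003)) (.cD (nat_lit 16) (.dfs (nat_lit 32) (nat_lit 4100) (nat_lit 4100) (nat_lit 0x1002001) (nat_lit 0x1002001) (nat_lit 0) (nat_lit 0) (nat_lit 3) (nat_lit 0) (nat_lit 0) (nat_lit 0) (nat_lit 1) (nat_lit 0) (nat_lit 0x1008004) (nat_lit 32772) (nat_lit 0x1001004000008001014000018) (nat_lit 0x1000101110110) (.cD (nat_lit 4) (.kA true (nat_lit 0x100400600c002001001000002)) (.cD (nat_lit 8) (.kA false (nat_lit 0x700400200c002001001000002)) (.cD (nat_lit 16) (.kc (nat_lit 48) (nat_lit 0x3001001)) (.cD (nat_lit 20) (.kA true (nat_lit 0x300400600c002001001000002)) (.cD (nat_lit 24) (.kA false (nat_lit 0x500400200c002001001000002)) (.cD (nat_lit 32) (.kc (nat_lit 36) (nat_lit 0x5001001)) (.cD (nat_lit 48) (.kc (nat_lit 52) (nat_lit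 0x7001001)) .nil)))))))) (.cD (nat_lit 20) (.dfs (nat_lit 32) (nat_lit 4100) (nat_lit 4100) (nat_lit 0x1002001) (nat_lit 0x1002001) (nat_lit 0) (nat_lit 0) (nat_lit 3) (nat_lit 0) (nat_lit 0) (nat_lit 0) (nat_lit 1) (nat_lit 0) (nat_lit 1) (nat_lit 0) (nat_lit 1) (nat_lit 0x11001100110010) (.cD (nat_lit 4) (.kA true (nat_lit 0x100400700c002001001000002)) (.cD (nat_lit 16) (.kA true (nat_lit 0x300400500c002001001000002)) (.cD (nat_lit 20) (.kc (nat_lit 48) (nat_lit 0x3001001)) (.cD (nat_lit 32) (.kc (nat_lit 36) (nat_lit 0x5001001)) (.cD (nat_lit 36) (.dfs (nat_lit 9) (nat_lit 4100) (nat_lit 4101) (nat_lit 1) (nat_lit 1) (nat_lit 3) (nat_lit 0) (nat_lit 1) (nat_lit 4128) (nat_lit 0x40020010008004002001) (nat_lit 0) (nat_lit 1) (nat_lit 0) (nat_lit 1) (nat_lit 0) (nat_lit 1) (nat_lit 0) .nil) (.cD (nat_lit 48) (.kA true (nat_lit 0x700400100c002001001000002)) (.cD (nat_lit 52) (.kc (nat_lit 52) (nat_lit 0x7001001)) .nil)))))))) (.cD (nat_lit 24) (.kF (nat_lit 16) (nat_lit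 0x1001000001006001002)) (.cD (nat_lit 32) (.kc (nat_lit 20) (nat_lit 0x3001001)) (.cD (nat_lit 48) (.dfs (nat_lit 32) (nat_lit 4100) (nat_lit 4100) (nat_lit 0x1002001) (nat_lit 0x1002001) (nat_lit 0) (nat_lit 0) (nat_lit 3) (nat_lit 0) (nat_lit 0) (nat_lit 0) (nat_lit 1) (nat_lit 0) (nat_lit 0x1008004) (nat_lit 32772) (nat_lit 0x1001004000008001014000018) (nat_lit 0x1000101110110) (.cD (nat_lit 4) (.kA true (nat_lit 0x100400200c002001001000002)) (.cD (nat_lit 8) (.kA false (nat_lit 0x300400600c002001001000002)) (.cD (nat_lit 16) (.kc (nat_lit 52) (nat_lit 0x7001001)) (.cD (nat_lit 20) (.kA true (nat_lit 0x700400200c002001001000002)) (.cD (nat_lit 24) (.kA false (nat_lit 0x500400600c002001001000002)) (.cD (nat_lit 32) (.kc (nat_lit 36) (nat_lit 0x5001001)) (.cD (nat_lit 48) (.kc (nat_lit 48) (nat_lit 0x3001001)) .nil)))))))) .nil)))))))) (.cD (nat_lit 48) (.kF (nat_lit 4) (nat_lit 0x1002001002012004002002000003)) .nil))))))))))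
theorem c391 : (chk [] [] p391).n x208 s391 = true := by decide +kernel
noncomputable def p392 : Pf := (.anc (nat_lit 68) (nat_lit 0x10002002002000002) (nat_lit 0x1009020010004) (.czp (nat_lit 64) (nat_lit 0) (nat_lit 0x1040020010008004) z6 (.dfs (nat_lit 4) (nat_lit 4097) (nat_lit 4097) (nat_lit 1) (nat_lit 1) (nat_lit 0) (nat_lit 0) (nat_lit 3) (nat_lit 0) (nat_lit 0) (nat_lit 0) (nat_lit 1) (nat_lit 0) (nat_lit 0x1008004) (nat_lit 32772) (nat_lit 0x1001004000008001014000018) (nat_lit 0x1000101110110) (.cD (nat_lit 4) (.dfs (nat_lit 16) (nat_lit 4098) (nat_lit 4098) (nat_lit 4097) (nat_lit 4097) (nat_lit 0) (nat_lit 0) (nat_lit 3) (nat_lit 0) (nat_lit 0) (nat_lit 0) (nat_lit 1) (nat_lit 0) (nat_lit 1) (nat_lit 0) (nat_lit 1) (nat_lit 0x11001100110010) (.cD (nat_lit 4) (.kc (nat_lit 20) (nat_lit 0x3001001)) (.cD (nat_lit 16) (.dfs (nat_lit 32) (nat_lit 4100) (nat_lit 4100) (nat_lit 0x1002001) (nat_lit 0x1002001) (nat_lit 0) (nat_lit 0) (nat_lit 3) (nat_lit 0) (nat_lit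 0) (nat_lit 0) (nat_lit 1) (nat_lit 0) (nat_lit 1) (nat_lit 0) (nat_lit 1) (nat_lit 0x11001100110010) (.cD (nat_lit 4) (.kc (nat_lit 36) (nat_lit 0x5001001)) (.cD (nat_lit 16) (.kc (nat_lit 48) (nat_lit 0x3001001)) (.cD (nat_lit 20) (.kc (nat_lit 52) (nat_lit 0x7001001)) (.cD (nat_lit 32) (.dfs (nat_lit 9) (nat_lit 0x1004001003008) (nat_lit 0x1005001003008) (nat_lit 4098) (nat_lit 4098) (nat_lit 3) (nat_lit 0) (nat_lit 2) (nat_lit 1) (nat_lit 0) (nat_lit 8) (nat_lit 1) (nat_lit 0) (nat_lit 1) (nat_lit 0) (nat_lit 1) (nat_lit 0) .nil) (.cD (nat_lit 36) (.kA true (nat_lit 0x100100000400100300d001001001000003)) (.cD (nat_lit 48) (.kA true (nat_lit 0x600800401000400400100300d001001001000003)) (.cD (nat_lit 52) (.kA true (nat_lit 0x5004003008001008004002005007001001000003)) .nil)))))))) (.cD (nat_lit 20) (.dfs (nat_lit 32) (nat_lit 4100) (nat_lit 4100) (nat_lit 0x1002001) (nat_lit 0x1002001) (nat_lit 0) (nat_lit 0) (nat_lit 3) (nat_lit 0) (nat_lit 0) (nat_lit 0) (nat_lit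 1) (nat_lit 0) (nat_lit 1) (nat_lit 0) (nat_lit 1) (nat_lit 0x11001100110010) (.cD (nat_lit 4) (.kc (nat_lit 36) (nat_lit 0x5001001)) (.cD (nat_lit 16) (.kc (nat_lit 52) (nat_lit 0x7001001)) (.cD (nat_lit 20) (.kc (nat_lit 48) (nat_lit 0x3001001)) (.cD (nat_lit 32) (.kA true (nat_lit 0x5004003008001008004002005007001001000003)) (.cD (nat_lit 36) (.dfs (nat_lit 9) (nat_lit 4102) (nat_lit 4103) (nat_lit 1) (nat_lit 1) (nat_lit 3) (nat_lit 0) (nat_lit 1) (nat_lit 4112) (nat_lit 0x40020010008004002001) (nat_lit 0) (nat_lit 1) (nat_lit 0) (nat_lit 1) (nat_lit 0) (nat_lit 1) (nat_lit 0) .nil) (.cD (nat_lit 48) (.kA true (nat_lit 0x400300500800100400100300c001002)) (.cD (nat_lit 52) (.kA true (nat_lit 0x400700100800100400100300c001002)) .nil)))))))) (.cD (nat_lit 32) (.kF (nat_lit 16) (nat_lit 0x100400100c012004002002000003)) (.cD (nat_lit 36) (.kF (nat_lit 16) (nat_lit 0x100400100c012004002002000003)) (.cD (nat_lit 48) (.dfs (nat_lit 32) (nat_lit 4100) (nat_lit 4100) (nat_lit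 0x1002001) (nat_lit 0x1002001) (nat_lit 0) (nat_lit 0) (nat_lit 3) (nat_lit 0) (nat_lit 0) (nat_lit 0) (nat_lit 1) (nat_lit 0) (nat_lit 1) (nat_lit 0) (nat_lit 1) (nat_lit 0x11001100110010) (.cD (nat_lit 4) (.kc (nat_lit 36) (nat_lit 0x5001001)) (.cD (nat_lit 16) (.kA true (nat_lit 0x400200100800100400100300c001002)) (.cD (nat_lit 20) (.kA true (nat_lit 0x400600500800100400100300c001002)) (.cD (nat_lit 32) (.kA true (nat_lit 0x5004003008001008004002005007001001000003)) (.cD (nat_lit 36) (.kA true (nat_lit 0x400500600800100400100300c001002)) (.cD (nat_lit 48) (.kc (nat_lit 48) (nat_lit 0x3001001)) (.cD (nat_lit 52) (.kc (nat_lit 52) (nat_lit 0x7001001)) .nil)))))))) (.cD (nat_lit 52) (.dfs (nat_lit 32) (nat_lit 4100) (nat_lit 4100) (nat_lit 0x1002001) (nat_lit 0x1002001) (nat_lit 0) (nat_lit 0) (nat_lit 3) (nat_lit 0) (nat_lit 0) (nat_lit 0) (nat_lit 1) (nat_lit 0) (nat_lit 1) (nat_lit 0) (nat_lit 1) (nat_lit 0x11001100110010) (.cD (nat_lit 4) (.kc (nat_lit 36) (nat_lit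 0x5001001)) (.cD (nat_lit 16) (.kA true (nat_lit 0x400200500800100400100300c001002)) (.cD (nat_lit 20) (.kA true (nat_lit 0x400600100800100400100300c001002)) (.cD (nat_lit 32) (.kA true (nat_lit 0x5004003008001008004002005007001001000003)) (.cD (nat_lit 36) (.kA true (nat_lit 0x400500200800100400100300c001002)) (.cD (nat_lit 48) (.kc (nat_lit 52) (nat_lit 0x7001001)) (.cD (nat_lit 52) (.kc (nat_lit 48) (nat_lit 0x3001001)) .nil)))))))) .nil)))))))) (.cD (nat_lit 8) (.dfs (nat_lit 16) (nat_lit 4098) (nat_lit 4098) (nat_lit 4097) (nat_lit 4097) (nat_lit 0) (nat_lit 0) (nat_lit 3) (nat_lit 0) (nat_lit 0) (nat_lit 0) (nat_lit 1) (nat_lit 0) (nat_lit 1) (nat_lit 0) (nat_lit 1) (nat_lit 0x101010101010100) (.cD (nat_lit 8) (.kc (nat_lit 20) (nat_lit 0x3001001)) (.cD (nat_lit 16) (.dfs (nat_lit 32) (nat_lit 4100) (nat_lit 4100) (nat_lit 0x1002001) (nat_lit 0x1002001) (nat_lit 0) (nat_lit 0) (nat_lit 3) (nat_lit 0) (nat_lit 0) (nat_lit 0) (nat_lit 1) (nat_lit 0) (nat_lit 1)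 (nat_lit 0) (nat_lit 1) (nat_lit 0x101010101010100) (.cD (nat_lit 8) (.kc (nat_lit 36) (nat_lit 0x5001001)) (.cD (nat_lit 16) (.kc (nat_lit 48) (nat_lit 0x3001001)) (.cD (nat_lit 24) (.kc (nat_lit 52) (nat_lit 0x7001001)) (.cD (nat_lit 32) (.kA false (nat_lit 0x300400200c00200e004008014005001001000003)) (.cD (nat_lit 40) (.kA false (nat_lit 0x100100000300500200d002001001000003)) (.cD (nat_lit 48) (.kA false (nat_lit 0x200800c01000400500300200b002001001000003)) (.cD (nat_lit 56) (.kA false (nat_lit 0x500400200c00200e004008014005001001000003)) .nil)))))))) (.cD (nat_lit 24) (.dfs (nat_lit 32) (nat_lit 4100) (nat_lit 4100) (nat_lit 0x1002001) (nat_lit 0x1002001) (nat_lit 0) (nat_lit 0) (nat_lit 3) (nat_lit 0) (nat_lit 0) (nat_lit 0) (nat_lit 1) (nat_lit 0) (nat_lit 1) (nat_lit 0) (nat_lit 1) (nat_lit 0x101010101010100) (.cD (nat_lit 8) (.kc (nat_lit 36) (nat_lit 0x5001001)) (.cD (nat_lit 16) (.kc (nat_lit 52) (nat_lit 0x7001001)) (.cD (nat_lit 24) (.kc (nat_lit 48) (nat_lit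 0x3001001)) (.cD (nat_lit 32) (.kA false (nat_lit 0x700400600c00200e004008014005001001000003)) (.cD (nat_lit 40) (.kA false (nat_lit 0x100100000700500600d002001001000003)) (.cD (nat_lit 48) (.kA false (nat_lit 0x100400600c00200e004008014005001001000003)) (.cD (nat_lit 56) (.kA false (nat_lit 0x400800a01000400100300600b002001001000003)) .nil)))))))) (.cD (nat_lit 32) (.kF (nat_lit 16) (nat_lit 0x100400100c012004002002000003)) (.cD (nat_lit 40) (.kF (nat_lit 16) (nat_lit 0x100400100c012004002002000003)) (.cD (nat_lit 48) (.kF (nat_lit 16) (nat_lit 0x100100000e014006001006001003)) (.cD (nat_lit 56) (.kF (nat_lit 16) (nat_lit 0x100100000a014006001006001003)) .nil)))))))) (.cD (nat_lit 16) (.kF (nat_lit 4) (nat_lit 0x2002000001003001002)) (.cD (nat_lit 20) (.kF (nat_lit 4) (nat_lit 0xe01e003001003001002)) (.cD (nat_lit 24) (.kF (nat_lit 4) (nat_lit 0x1002001002012004002002000003)) (.cD (nat_lit 32) (.dfs (nat_lit 16) (nat_lit 4098) (nat_lit 4098) (nat_lit 4097) (nat_lit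 4097) (nat_lit 0) (nat_lit 0) (nat_lit 3) (nat_lit 0) (nat_lit 0) (nat_lit 0) (nat_lit 1) (nat_lit 0) (nat_lit 0x1008004) (nat_lit 32772) (nat_lit 0x1001004000008001014000018) (nat_lit 0x1000101110110) (.cD (nat_lit 4) (.kF (nat_lit 16) (nat_lit 0x1001000001006001002)) (.cD (nat_lit 8) (.kF (nat_lit 16) (nat_lit 0x100400100c012004002002000003)) (.cD (nat_lit 16) (.dfs (nat_lit 32) (nat_lit 4100) (nat_lit 4100) (nat_lit 0x1002001) (nat_lit 0x1002001) (nat_lit 0) (nat_lit 0) (nat_lit 3) (nat_lit 0) (nat_lit 0) (nat_lit 0) (nat_lit 1) (nat_lit 0) (nat_lit 0x1008004) (nat_lit 32772) (nat_lit 0x1001004000008001014000018) (nat_lit 0x1000101110110) (.cD (nat_lit 4) (.kA true (nat_lit 0x100400600c002001001000002)) (.cD (nat_lit 8) (.kA false (nat_lit 0x700400200c002001001000002)) (.cD (nat_lit 16) (.kc (nat_lit 48) (nat_lit 0x3001001)) (.cD (nat_lit 20) (.kA true (nat_lit 0x300400600c002001001000002)) (.cD (nat_lit 24) (.kA false (nat_lit 0x500400200c002001001000002)) (.cD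 (nat_lit 32) (.kc (nat_lit 36) (nat_lit 0x5001001)) (.cD (nat_lit 48) (.kc (nat_lit 52) (nat_lit 0x7001001)) .nil)))))))) (.cD (nat_lit 20) (.dfs (nat_lit 32) (nat_lit 4100) (nat_lit 4100) (nat_lit 0x1002001) (nat_lit 0x1002001) (nat_lit 0) (nat_lit 0) (nat_lit 3) (nat_lit 0) (nat_lit 0) (nat_lit 0) (nat_lit 1) (nat_lit 0) (nat_lit 1) (nat_lit 0) (nat_lit 1) (nat_lit 0x11001100110010) (.cD (nat_lit 4) (.kA true (nat_lit 0x100400700c002001001000002)) (.cD (nat_lit 16) (.kA true (nat_lit 0x300400500c002001001000002)) (.cD (nat_lit 20) (.kc (nat_lit 48) (nat_lit 0x3001001)) (.cD (nat_lit 32) (.kc (nat_lit 36) (nat_lit 0x5001001)) (.cD (nat_lit 36) (.dfs (nat_lit 9) (nat_lit 4100) (nat_lit 4101) (nat_lit 1) (nat_lit 1) (nat_lit 3) (nat_lit 0) (nat_lit 1) (nat_lit 4128) (nat_lit 0x40020010008004002001) (nat_lit 0) (nat_lit 1) (nat_lit 0) (nat_lit 1) (nat_lit 0) (nat_lit 1) (nat_lit 0) .nil) (.cD (nat_lit 48) (.kA true (nat_lit 0x700400100c002001001000002)) (.cD (nat_lit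 52) (.kc (nat_lit 52) (nat_lit 0x7001001)) .nil)))))))) (.cD (nat_lit 24) (.kF (nat_lit 16) (nat_lit 0x1001000001006001002)) (.cD (nat_lit 32) (.kc (nat_lit 20) (nat_lit 0x3001001)) (.cD (nat_lit 48) (.dfs (nat_lit 32) (nat_lit 4100) (nat_lit 4100) (nat_lit 0x1002001) (nat_lit 0x1002001) (nat_lit 0) (nat_lit 0) (nat_lit 3) (nat_lit 0) (nat_lit 0) (nat_lit 0) (nat_lit 1) (nat_lit 0) (nat_lit 0x1008004) (nat_lit 32772) (nat_lit 0x1001004000008001014000018) (nat_lit 0x1000101110110) (.cD (nat_lit 4) (.kA true (nat_lit 0x100400200c002001001000002)) (.cD (nat_lit 8) (.kA false (nat_lit 0x300400600c002001001000002)) (.cD (nat_lit 16) (.kc (nat_lit 52) (nat_lit 0x7001001)) (.cD (nat_lit 20) (.kA true (nat_lit 0x700400200c002001001000002)) (.cD (nat_lit 24) (.kA false (nat_lit 0x500400600c002001001000002)) (.cD (nat_lit 32) (.kc (nat_lit 36) (nat_lit 0x5001001)) (.cD (nat_lit 48) (.kc (nat_lit 48) (nat_lit 0x3001001)) .nil)))))))) .nil)))))))) (.cD (nat_lit 48) (.kF (nat_lit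 4) (nat_lit 0x1002001002012004002002000003)) .nil))))))))))
theorem c392 : (chk [] [] p392).n x209 s392 = true := by decide +kernel
noncomputable def p393 : Pf := (.anc (nat_lit 68) (nat_lit 0x10002002002000002) (nat_lit 0x1009020010004) (.czp (nat_lit 64) (nat_lit 0) (nat_lit 0x1040020010008004) z6 (.dfs (nat_lit 4) (nat_lit 4097) (nat_lit 4097) (nat_lit 1) (nat_lit 1) (nat_lit 0) (nat_lit 0) (nat_lit 3) (nat_lit 0) (nat_lit 0) (nat_lit 0) (nat_lit 1) (nat_lit 0) (nat_lit 0x1008004) (nat_lit 32772) (nat_lit 0x1001004000008001014000018) (nat_lit 0x1000101110110) (.cD (nat_lit 4) (.dfs (nat_lit 16) (nat_lit 4098) (nat_lit 4098) (nat_lit 4097) (nat_lit 4097) (nat_lit 0) (nat_lit 0) (nat_lit 3) (nat_lit 0) (nat_lit 0) (nat_lit 0) (nat_lit 1) (nat_lit 0) (nat_lit 1) (nat_lit 0) (nat_lit 1) (nat_lit 0x11001100110010) (.cD (nat_lit 4) (.kc (nat_lit 20) (nat_lit 0x3001001)) (.cD (nat_lit 16) (.dfs (nat_lit 32) (nat_lit 4100) (nat_lit 4100) (nat_lit 0x1002001) (nat_lit 0x1002001)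 (nat_lit 0) (nat_lit 0) (nat_lit 3) (nat_lit 0) (nat_lit 0) (nat_lit 0) (nat_lit 1) (nat_lit 0) (nat_lit 1) (nat_lit 0) (nat_lit 1) (nat_lit 0x11001100110010) (.cD (nat_lit 4) (.kc (nat_lit 36) (nat_lit 0x5001001)) (.cD (nat_lit 16) (.kc (nat_lit 48) (nat_lit 0x3001001)) (.cD (nat_lit 20) (.kc (nat_lit 52) (nat_lit 0x7001001)) (.cD (nat_lit 32) (.dfs (nat_lit 9) (nat_lit 0x1004001003008) (nat_lit 0x1005001003008) (nat_lit 4098) (nat_lit 4098) (nat_lit 1) (nat_lit 0) (nat_lit 2) (nat_lit 1) (nat_lit 0) (nat_lit 8) (nat_lit 1) (nat_lit 0) (nat_lit 4100) (nat_lit 4) (nat_lit 0x100000c00001c) (nat_lit 0x10001000) (.cD (nat_lit 12) (.kA false (nat_lit 0xf00200401000100200200000d002004016002013003000004)) (.cD (nat_lit 28) (.kA false (nat_lit 0xb002004010001002002000009002004016002013003000004)) .nil))) (.cD (nat_lit 36) (.kA true (nat_lit 0x1100100000400100300d001011001000003)) (.cD (nat_lit 48) (.kA true (nat_lit 0x600800401000400400100300d001011001000003)) (.cD (nat_lit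 52) (.kA true (nat_lit 0x5004003008001008004002005007011001000003)) .nil)))))))) (.cD (nat_lit 20) (.dfs (nat_lit 32) (nat_lit 4100) (nat_lit 4100) (nat_lit 0x1002001) (nat_lit 0x1002001) (nat_lit 0) (nat_lit 0) (nat_lit 3) (nat_lit 0) (nat_lit 0) (nat_lit 0) (nat_lit 1) (nat_lit 0) (nat_lit 1) (nat_lit 0) (nat_lit 1) (nat_lit 0x11001100110010) (.cD (nat_lit 4) (.kc (nat_lit 36) (nat_lit 0x5001001)) (.cD (nat_lit 16) (.kc (nat_lit 52) (nat_lit 0x7001001)) (.cD (nat_lit 20) (.kc (nat_lit 48) (nat_lit 0x3001001)) (.cD (nat_lit 32) (.kA true (nat_lit 0x5004003008001008004002005007011001000003)) (.cD (nat_lit 36) (.dfs (nat_lit 9) (nat_lit 4102) (nat_lit 4103) (nat_lit 1) (nat_lit 1) (nat_lit 1) (nat_lit 0) (nat_lit 1) (nat_lit 4112) (nat_lit 0x40020010008004002011) (nat_lit 0) (nat_lit 1) (nat_lit 0) (nat_lit 1) (nat_lit 0) (nat_lit 1) (nat_lit 0) .nil) (.cD (nat_lit 48) (.kA true (nat_lit 0x400300500800100400100300c001002)) (.cD (nat_lit 52) (.kA true (nat_lit 0x400700100800100400100300c001002))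 .nil)))))))) (.cD (nat_lit 32) (.kF (nat_lit 16) (nat_lit 0x100400100c012004002002000003)) (.cD (nat_lit 36) (.kF (nat_lit 16) (nat_lit 0x100400100c012004002002000003)) (.cD (nat_lit 48) (.dfs (nat_lit 32) (nat_lit 4100) (nat_lit 4100) (nat_lit 0x1002001) (nat_lit 0x1002001) (nat_lit 0) (nat_lit 0) (nat_lit 3) (nat_lit 0) (nat_lit 0) (nat_lit 0) (nat_lit 1) (nat_lit 0) (nat_lit 1) (nat_lit 0) (nat_lit 1) (nat_lit 0x11001100110010) (.cD (nat_lit 4) (.kc (nat_lit 36) (nat_lit 0x5001001)) (.cD (nat_lit 16) (.kA true (nat_lit 0x400200100800100400100300c001002)) (.cD (nat_lit 20) (.kA true (nat_lit 0x400600500800100400100300c001002)) (.cD (nat_lit 32) (.kA true (nat_lit 0x5004003008001008004002005007011001000003)) (.cD (nat_lit 36) (.kA true (nat_lit 0x400500600800100400100300c001002)) (.cD (nat_lit 48) (.kc (nat_lit 48) (nat_lit 0x3001001)) (.cD (nat_lit 52) (.kc (nat_lit 52) (nat_lit 0x7001001)) .nil)))))))) (.cD (nat_lit 52) (.dfs (nat_lit 32) (nat_lit 4100) (nat_lit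 4100) (nat_lit 0x1002001) (nat_lit 0x1002001) (nat_lit 0) (nat_lit 0) (nat_lit 3) (nat_lit 0) (nat_lit 0) (nat_lit 0) (nat_lit 1) (nat_lit 0) (nat_lit 1) (nat_lit 0) (nat_lit 1) (nat_lit 0x11001100110010) (.cD (nat_lit 4) (.kc (nat_lit 36) (nat_lit 0x5001001)) (.cD (nat_lit 16) (.kA true (nat_lit 0x400200500800100400100300c001002)) (.cD (nat_lit 20) (.kA true (nat_lit 0x400600100800100400100300c001002)) (.cD (nat_lit 32) (.kA true (nat_lit 0x5004003008001008004002005007011001000003)) (.cD (nat_lit 36) (.kA true (nat_lit 0x400500200800100400100300c001002)) (.cD (nat_lit 48) (.kc (nat_lit 52) (nat_lit 0x7001001)) (.cD (nat_lit 52) (.kc (nat_lit 48) (nat_lit 0x3001001)) .nil)))))))) .nil)))))))) (.cD (nat_lit 8) (.dfs (nat_lit 16) (nat_lit 4098) (nat_lit 4098) (nat_lit 4097) (nat_lit 4097) (nat_lit 0) (nat_lit 0) (nat_lit 3) (nat_lit 0) (nat_lit 0) (nat_lit 0) (nat_lit 1) (nat_lit 0) (nat_lit 1) (nat_lit 0) (nat_lit 1) (nat_lit 0x101010101010100) (.cD (nat_lit 8) (.kc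 (nat_lit 20) (nat_lit 0x3001001)) (.cD (nat_lit 16) (.dfs (nat_lit 32) (nat_lit 4100) (nat_lit 4100) (nat_lit 0x1002001) (nat_lit 0x1002001) (nat_lit 0) (nat_lit 0) (nat_lit 3) (nat_lit 0) (nat_lit 0) (nat_lit 0) (nat_lit 1) (nat_lit 0) (nat_lit 1) (nat_lit 0) (nat_lit 1) (nat_lit 0x101010101010100) (.cD (nat_lit 8) (.kc (nat_lit 36) (nat_lit 0x5001001)) (.cD (nat_lit 16) (.kc (nat_lit 48) (nat_lit 0x3001001)) (.cD (nat_lit 24) (.kc (nat_lit 52) (nat_lit 0x7001001)) (.cD (nat_lit 32) (.kA false (nat_lit 0x300400200c00200e004008014005011001000003)) (.cD (nat_lit 40) (.kA false (nat_lit 0x1100100000300500200d002011001000003)) (.cD (nat_lit 48) (.kA false (nat_lit 0x200800c01000400500300200b002011001000003)) (.cD (nat_lit 56) (.kA false (nat_lit 0x500400200c00200e004008014005011001000003)) .nil)))))))) (.cD (nat_lit 24) (.dfs (nat_lit 32) (nat_lit 4100) (nat_lit 4100) (nat_lit 0x1002001) (nat_lit 0x1002001) (nat_lit 0) (nat_lit 0) (nat_lit 3) (nat_lit 0) (nat_lit 0)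 (nat_lit 0) (nat_lit 1) (nat_lit 0) (nat_lit 1) (nat_lit 0) (nat_lit 1) (nat_lit 0x101010101010100) (.cD (nat_lit 8) (.kc (nat_lit 36) (nat_lit 0x5001001)) (.cD (nat_lit 16) (.kc (nat_lit 52) (nat_lit 0x7001001)) (.cD (nat_lit 24) (.kc (nat_lit 48) (nat_lit 0x3001001)) (.cD (nat_lit 32) (.kA false (nat_lit 0x700400600c00200e004008014005011001000003)) (.cD (nat_lit 40) (.kA false (nat_lit 0x1100100000700500600d002011001000003)) (.cD (nat_lit 48) (.kA false (nat_lit 0x100400600c00200e004008014005011001000003)) (.cD (nat_lit 56) (.kA false (nat_lit 0x400800a01000400100300600b002011001000003)) .nil)))))))) (.cD (nat_lit 32) (.kF (nat_lit 16) (nat_lit 0x100400100c012004002002000003)) (.cD (nat_lit 40) (.kF (nat_lit 16) (nat_lit 0x100400100c012004002002000003)) (.cD (nat_lit 48) (.kF (nat_lit 16) (nat_lit 0x1100100000e014006001006001003)) (.cD (nat_lit 56) (.kF (nat_lit 16) (nat_lit 0x1100100000a014006001006001003)) .nil)))))))) (.cD (nat_lit 16) (.kF (nat_lit 4) (nat_lit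 0x2002000001003001002)) (.cD (nat_lit 20) (.kF (nat_lit 4) (nat_lit 0xe01e003001003001002)) (.cD (nat_lit 24) (.kF (nat_lit 4) (nat_lit 0x1002001002012004002002000003)) (.cD (nat_lit 32) (.dfs (nat_lit 16) (nat_lit 4098) (nat_lit 4098) (nat_lit 4097) (nat_lit 4097) (nat_lit 0) (nat_lit 0) (nat_lit 3) (nat_lit 0) (nat_lit 0) (nat_lit 0) (nat_lit 1) (nat_lit 0) (nat_lit 0x1008004) (nat_lit 32772) (nat_lit 0x1001004000008001014000018) (nat_lit 0x1000101110110) (.cD (nat_lit 4) (.kF (nat_lit 16) (nat_lit 0x11001000001006001002)) (.cD (nat_lit 8) (.kF (nat_lit 16) (nat_lit 0x100400100c012004002002000003)) (.cD (nat_lit 16) (.dfs (nat_lit 32) (nat_lit 4100) (nat_lit 4100) (nat_lit 0x1002001) (nat_lit 0x1002001) (nat_lit 0) (nat_lit 0) (nat_lit 3) (nat_lit 0) (nat_lit 0) (nat_lit 0) (nat_lit 1) (nat_lit 0) (nat_lit 0x1008004) (nat_lit 32772) (nat_lit 0x1001004000008001014000018) (nat_lit 0x1000101110110) (.cD (nat_lit 4) (.kA true (nat_lit 0x100400600c002011001000002)) (.cD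 (nat_lit 8) (.kA false (nat_lit 0x700400200c002011001000002)) (.cD (nat_lit 16) (.kc (nat_lit 48) (nat_lit 0x3001001)) (.cD (nat_lit 20) (.kA true (nat_lit 0x300400600c002011001000002)) (.cD (nat_lit 24) (.kA false (nat_lit 0x500400200c002011001000002)) (.cD (nat_lit 32) (.kc (nat_lit 36) (nat_lit 0x5001001)) (.cD (nat_lit 48) (.kc (nat_lit 52) (nat_lit 0x7001001)) .nil)))))))) (.cD (nat_lit 20) (.dfs (nat_lit 32) (nat_lit 4100) (nat_lit 4100) (nat_lit 0x1002001) (nat_lit 0x1002001) (nat_lit 0) (nat_lit 0) (nat_lit 3) (nat_lit 0) (nat_lit 0) (nat_lit 0) (nat_lit 1) (nat_lit 0) (nat_lit 1) (nat_lit 0) (nat_lit 1) (nat_lit 0x11001100110010) (.cD (nat_lit 4) (.kA true (nat_lit 0x100400700c002011001000002)) (.cD (nat_lit 16) (.kA true (nat_lit 0x300400500c002011001000002)) (.cD (nat_lit 20) (.kc (nat_lit 48) (nat_lit 0x3001001)) (.cD (nat_lit 32) (.kc (nat_lit 36) (nat_lit 0x5001001)) (.cD (nat_lit 36) (.dfs (nat_lit 9) (nat_lit 4100) (nat_lit 4101) (nat_lit 1) (nat_lit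 1) (nat_lit 1) (nat_lit 0) (nat_lit 1) (nat_lit 4128) (nat_lit 0x40020010008004002011) (nat_lit 0) (nat_lit 1) (nat_lit 0) (nat_lit 1) (nat_lit 0) (nat_lit 1) (nat_lit 0) .nil) (.cD (nat_lit 48) (.kA true (nat_lit 0x700400100c002011001000002)) (.cD (nat_lit 52) (.kc (nat_lit 52) (nat_lit 0x7001001)) .nil)))))))) (.cD (nat_lit 24) (.kF (nat_lit 16) (nat_lit 0x11001000001006001002)) (.cD (nat_lit 32) (.kc (nat_lit 20) (nat_lit 0x3001001)) (.cD (nat_lit 48) (.dfs (nat_lit 32) (nat_lit 4100) (nat_lit 4100) (nat_lit 0x1002001) (nat_lit 0x1002001) (nat_lit 0) (nat_lit 0) (nat_lit 3) (nat_lit 0) (nat_lit 0) (nat_lit 0) (nat_lit 1) (nat_lit 0) (nat_lit 0x1008004) (nat_lit 32772) (nat_lit 0x1001004000008001014000018) (nat_lit 0x1000101110110) (.cD (nat_lit 4) (.kA true (nat_lit 0x100400200c002011001000002)) (.cD (nat_lit 8) (.kA false (nat_lit 0x300400600c002011001000002)) (.cD (nat_lit 16) (.kc (nat_lit 52) (nat_lit 0x7001001)) (.cD (nat_lit 20) (.kA true (nat_lit 0x700400200c002011001000002))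 (.cD (nat_lit 24) (.kA false (nat_lit 0x500400600c002011001000002)) (.cD (nat_lit 32) (.kc (nat_lit 36) (nat_lit 0x5001001)) (.cD (nat_lit 48) (.kc (nat_lit 48) (nat_lit 0x3001001)) .nil)))))))) .nil)))))))) (.cD (nat_lit 48) (.kF (nat_lit 4) (nat_lit 0x1002001002012004002002000003)) .nil))))))))))
theorem c393 : (chk [] [] p393).n x210 s393 = true := by decide +kernel
noncomputable def p394 : Pf := (.anc (nat_lit 72) (nat_lit 0x11001000014004002) (nat_lit 0x1003020010008) (.czp (nat_lit 64) (nat_lit 0) (nat_lit 0x1040020010008004) z6 (.dfs (nat_lit 8) (nat_lit 4097) (nat_lit 4097) (nat_lit 1) (nat_lit 1) (nat_lit 0) (nat_lit 0) (nat_lit 3) (nat_lit 0) (nat_lit 0) (nat_lit 0) (nat_lit 1) (nat_lit 0) (nat_lit 0x1008004) (nat_lit 32772) (nat_lit 0x1001004000008001014000018) (nat_lit 0x1000101110110) (.cD (nat_lit 4) (.dfs (nat_lit 16) (nat_lit 4098) (nat_lit 4098) (nat_lit 4097) (nat_lit 4097) (nat_lit 0) (nat_lit 0) (nat_lit 3) (nat_lit 0) (nat_lit 0) (nat_lit 0) (nat_lit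 1) (nat_lit 0) (nat_lit 1) (nat_lit 0) (nat_lit 1) (nat_lit 0x11001100110010) (.cD (nat_lit 4) (.kc (nat_lit 24) (nat_lit 0x3001001)) (.cD (nat_lit 16) (.dfs (nat_lit 32) (nat_lit 4100) (nat_lit 4100) (nat_lit 0x1002001) (nat_lit 0x1002001) (nat_lit 0) (nat_lit 0) (nat_lit 3) (nat_lit 0) (nat_lit 0) (nat_lit 0) (nat_lit 1) (nat_lit 0) (nat_lit 1) (nat_lit 0) (nat_lit 1) (nat_lit 0x11001100110010) (.cD (nat_lit 4) (.kc (nat_lit 40) (nat_lit 0x5001001)) (.cD (nat_lit 16) (.kc (nat_lit 48) (nat_lit 0x3001001)) (.cD (nat_lit 20) (.kc (nat_lit 56) (nat_lit 0x7001001)) (.cD (nat_lit 32) (.kA false (nat_lit 0x300400200800100e004008014005011001000003)) (.cD (nat_lit 36) (.kA false (nat_lit 0x1100100000700100200d001011001000003)) (.cD (nat_lit 48) (.kA false (nat_lit 0x200800c01000400700100200d001011001000003)) (.cD (nat_lit 52) (.kA false (nat_lit 0x300400200800100e004008014005011001000003)) .nil)))))))) (.cD (nat_lit 20) (.dfs (nat_lit 32) (nat_lit 4100) (nat_lit 4100) (nat_lit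 0x1002001) (nat_lit 0x1002001) (nat_lit 0) (nat_lit 0) (nat_lit 3) (nat_lit 0) (nat_lit 0) (nat_lit 0) (nat_lit 1) (nat_lit 0) (nat_lit 1) (nat_lit 0) (nat_lit 1) (nat_lit 0x11001100110010) (.cD (nat_lit 4) (.kc (nat_lit 40) (nat_lit 0x5001001)) (.cD (nat_lit 16) (.kc (nat_lit 56) (nat_lit 0x7001001)) (.cD (nat_lit 20) (.kc (nat_lit 48) (nat_lit 0x3001001)) (.cD (nat_lit 32) (.kA false (nat_lit 0x300400200800100e004008014005011001000003)) (.cD (nat_lit 36) (.kA false (nat_lit 0x1100100000700100200d001011001000003)) (.cD (nat_lit 48) (.kA false (nat_lit 0x400800a01000400700100200d001011001000003)) (.cD (nat_lit 52) (.kA false (nat_lit 0x300400200800100e004008014005011001000003)) .nil)))))))) (.cD (nat_lit 32) (.kF (nat_lit 16) (nat_lit 0x4010004002002000001006001003)) (.cD (nat_lit 36) (.kF (nat_lit 16) (nat_lit 0x11001000001007001002002000003)) (.cD (nat_lit 48) (.dfs (nat_lit 32) (nat_lit 4100) (nat_lit 4100) (nat_lit 0x1002001) (nat_lit 0x1002001) (nat_lit 0) (nat_lit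 0) (nat_lit 3) (nat_lit 0) (nat_lit 0) (nat_lit 0) (nat_lit 1) (nat_lit 0) (nat_lit 1) (nat_lit 0) (nat_lit 1) (nat_lit 0x11001100110010) (.cD (nat_lit 4) (.kc (nat_lit 40) (nat_lit 0x5001001)) (.cD (nat_lit 16) (.kA false (nat_lit 0x600c00801e00300700100200d001011001000003)) (.cD (nat_lit 20) (.kA false (nat_lit 0x200200000700100200d001011001000003)) (.cD (nat_lit 32) (.kA false (nat_lit 0x300400200800100e004008014005011001000003)) (.cD (nat_lit 36) (.kA false (nat_lit 0x1100100000700100200d001011001000003)) (.cD (nat_lit 48) (.kc (nat_lit 48) (nat_lit 0x3001001)) (.cD (nat_lit 52) (.kc (nat_lit 56) (nat_lit 0x7001001)) .nil)))))))) (.cD (nat_lit 52) (.dfs (nat_lit 32) (nat_lit 4100) (nat_lit 4100) (nat_lit 0x1002001) (nat_lit 0x1002001) (nat_lit 0) (nat_lit 0) (nat_lit 3) (nat_lit 0) (nat_lit 0) (nat_lit 0) (nat_lit 1) (nat_lit 0) (nat_lit 1) (nat_lit 0) (nat_lit 1) (nat_lit 0x11001100110010) (.cD (nat_lit 4) (.kc (nat_lit 40) (nat_lit 0x5001001)) (.cD (nat_lit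 16) (.kA false (nat_lit 0x400c00a01e00300700100200d001011001000003)) (.cD (nat_lit 20) (.kA false (nat_lit 0x200200000700100200d001011001000003)) (.cD (nat_lit 32) (.kA false (nat_lit 0x300400200800100e004008014005011001000003)) (.cD (nat_lit 36) (.kA false (nat_lit 0x1100100000700100200d001011001000003)) (.cD (nat_lit 48) (.kc (nat_lit 56) (nat_lit 0x7001001)) (.cD (nat_lit 52) (.kc (nat_lit 48) (nat_lit 0x3001001)) .nil)))))))) .nil)))))))) (.cD (nat_lit 8) (.dfs (nat_lit 16) (nat_lit 4098) (nat_lit 4098) (nat_lit 4097) (nat_lit 4097) (nat_lit 0) (nat_lit 0) (nat_lit 3) (nat_lit 0) (nat_lit 0) (nat_lit 0) (nat_lit 1) (nat_lit 0) (nat_lit 1) (nat_lit 0) (nat_lit 1) (nat_lit 0x101010101010100) (.cD (nat_lit 8) (.kc (nat_lit 24) (nat_lit 0x3001001)) (.cD (nat_lit 16) (.dfs (nat_lit 32) (nat_lit 4100) (nat_lit 4100) (nat_lit 0x1002001) (nat_lit 0x1002001) (nat_lit 0) (nat_lit 0) (nat_lit 3) (nat_lit 0) (nat_lit 0) (nat_lit 0) (nat_lit 1) (nat_lit 0) (nat_lit 1) (nat_lit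 0) (nat_lit 1) (nat_lit 0x101010101010100) (.cD (nat_lit 8) (.kc (nat_lit 40) (nat_lit 0x5001001)) (.cD (nat_lit 16) (.kc (nat_lit 48) (nat_lit 0x3001001)) (.cD (nat_lit 24) (.kc (nat_lit 56) (nat_lit 0x7001001)) (.cD (nat_lit 32) (.kA false (nat_lit 0x300400200800100e004008014005011001000003)) (.cD (nat_lit 40) (.kA false (nat_lit 0x1100100000700100200d001011001000003)) (.cD (nat_lit 48) (.dfs (nat_lit 3) (nat_lit 0x1004003002008) (nat_lit 0x1007003002008) (nat_lit 4097) (nat_lit 4097) (nat_lit 2) (nat_lit 0) (nat_lit 2) (nat_lit 0) (nat_lit 0) (nat_lit 4) (nat_lit 1) (nat_lit 0) (nat_lit 1) (nat_lit 0) (nat_lit 1) (nat_lit 0) .nil) (.cD (nat_lit 56) (.dfs (nat_lit 3) (nat_lit 4101) (nat_lit 4102) (nat_lit 1) (nat_lit 1) (nat_lit 2) (nat_lit 0) (nat_lit 1) (nat_lit 4144) (nat_lit 0x40020010008004002011) (nat_lit 0) (nat_lit 1) (nat_lit 0) (nat_lit 1) (nat_lit 0) (nat_lit 1) (nat_lit 0) .nil) .nil)))))))) (.cD (nat_lit 24) (.dfs (nat_lit 32) (nat_lit 4100) (nat_lit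 4100) (nat_lit 0x1002001) (nat_lit 0x1002001) (nat_lit 0) (nat_lit 0) (nat_lit 3) (nat_lit 0) (nat_lit 0) (nat_lit 0) (nat_lit 1) (nat_lit 0) (nat_lit 1) (nat_lit 0) (nat_lit 1) (nat_lit 0x101010101010100) (.cD (nat_lit 8) (.kc (nat_lit 40) (nat_lit 0x5001001)) (.cD (nat_lit 16) (.kc (nat_lit 56) (nat_lit 0x7001001)) (.cD (nat_lit 24) (.kc (nat_lit 48) (nat_lit 0x3001001)) (.cD (nat_lit 32) (.kA false (nat_lit 0x300400200800100e004008014005011001000003)) (.cD (nat_lit 40) (.kA false (nat_lit 0x1100100000700100200d001011001000003)) (.cD (nat_lit 48) (.kA false (nat_lit 0x300400200800100e004008014005011001000003)) (.cD (nat_lit 56) (.kA false (nat_lit 0x300400200800100e004008014005011001000003)) .nil)))))))) (.cD (nat_lit 32) (.kF (nat_lit 8) (nat_lit 0x3006002004004000002007001002002000004)) (.cD (nat_lit 40) (.kF (nat_lit 8) (nat_lit 0x11001000002007001002002000003)) (.cD (nat_lit 48) (.kF (nat_lit 16) (nat_lit 0x1100100000e014006001006001003)) (.cD (nat_lit 56) (.kF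 (nat_lit 16) (nat_lit 0x1100100000a014006001006001003)) .nil)))))))) (.cD (nat_lit 16) (.kF (nat_lit 8) (nat_lit 0x2002000001003001002)) (.cD (nat_lit 20) (.kF (nat_lit 8) (nat_lit 0xe01e003001003001002)) (.cD (nat_lit 24) (.kF (nat_lit 8) (nat_lit 0x11001000002014006011001000001003001004)) (.cD (nat_lit 32) (.dfs (nat_lit 16) (nat_lit 4098) (nat_lit 4098) (nat_lit 4097) (nat_lit 4097) (nat_lit 0) (nat_lit 0) (nat_lit 3) (nat_lit 0) (nat_lit 0) (nat_lit 0) (nat_lit 1) (nat_lit 0) (nat_lit 0x1008004) (nat_lit 32772) (nat_lit 0x1001004000008001014000018) (nat_lit 0x1000101110110) (.cD (nat_lit 4) (.kF (nat_lit 16) (nat_lit 0x11001000001006001002)) (.cD (nat_lit 8) (.kF (nat_lit 8) (nat_lit 0x11001000004016005002007001002002000004)) (.cD (nat_lit 16) (.dfs (nat_lit 32) (nat_lit 4100) (nat_lit 4100) (nat_lit 0x1002001) (nat_lit 0x1002001) (nat_lit 0) (nat_lit 0) (nat_lit 3) (nat_lit 0) (nat_lit 0) (nat_lit 0) (nat_lit 1) (nat_lit 0) (nat_lit 0x1008004) (nat_lit 32772)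 (nat_lit 0x1001004000008001014000018) (nat_lit 0x1000101110110) (.cD (nat_lit 4) (.kA false (nat_lit 0x1100100000400100200c001002)) (.cD (nat_lit 8) (.kA false (nat_lit 0x700400200c002011001000002)) (.cD (nat_lit 16) (.kc (nat_lit 48) (nat_lit 0x3001001)) (.cD (nat_lit 20) (.kA false (nat_lit 0x1100100000400100200c001002)) (.cD (nat_lit 24) (.dfs (nat_lit 3) (nat_lit 4100) (nat_lit 4103) (nat_lit 1) (nat_lit 1) (nat_lit 2) (nat_lit 0) (nat_lit 1) (nat_lit 4128) (nat_lit 0x40020010008004002011) (nat_lit 0) (nat_lit 1) (nat_lit 0) (nat_lit 1) (nat_lit 0) (nat_lit 1) (nat_lit 0) .nil) (.cD (nat_lit 32) (.kc (nat_lit 40) (nat_lit 0x5001001)) (.cD (nat_lit 48) (.kc (nat_lit 56) (nat_lit 0x7001001)) .nil)))))))) (.cD (nat_lit 20) (.dfs (nat_lit 32) (nat_lit 4100) (nat_lit 4100) (nat_lit 0x1002001) (nat_lit 0x1002001) (nat_lit 0) (nat_lit 0) (nat_lit 3) (nat_lit 0) (nat_lit 0) (nat_lit 0) (nat_lit 1) (nat_lit 0) (nat_lit 1) (nat_lit 0) (nat_lit 1) (nat_lit 0x11001100110010)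 (.cD (nat_lit 4) (.kA false (nat_lit 0x1100100000400100200c001002)) (.cD (nat_lit 16) (.kA false (nat_lit 0x1100100000400100200c001002)) (.cD (nat_lit 20) (.kc (nat_lit 48) (nat_lit 0x3001001)) (.cD (nat_lit 32) (.kc (nat_lit 40) (nat_lit 0x5001001)) (.cD (nat_lit 36) (.kA false (nat_lit 0x1100100000400100200c001002)) (.cD (nat_lit 48) (.kA false (nat_lit 0x1100100000400100200c001002)) (.cD (nat_lit 52) (.kc (nat_lit 56) (nat_lit 0x7001001)) .nil)))))))) (.cD (nat_lit 24) (.kF (nat_lit 16) (nat_lit 0x11001000001006001002)) (.cD (nat_lit 32) (.kc (nat_lit 24) (nat_lit 0x3001001)) (.cD (nat_lit 48) (.dfs (nat_lit 32) (nat_lit 4100) (nat_lit 4100) (nat_lit 0x1002001) (nat_lit 0x1002001) (nat_lit 0) (nat_lit 0) (nat_lit 3) (nat_lit 0) (nat_lit 0) (nat_lit 0) (nat_lit 1) (nat_lit 0) (nat_lit 0x1008004) (nat_lit 32772) (nat_lit 0x1001004000008001014000018) (nat_lit 0x1000101110110) (.cD (nat_lit 4) (.kA false (nat_lit 0x1100100000400100200c001002)) (.cD (nat_lit 8) (.kA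 false (nat_lit 0x300400600c002011001000002)) (.cD (nat_lit 16) (.kc (nat_lit 56) (nat_lit 0x7001001)) (.cD (nat_lit 20) (.kA false (nat_lit 0x1100100000400100200c001002)) (.cD (nat_lit 24) (.kA false (nat_lit 0x500400600c002011001000002)) (.cD (nat_lit 32) (.kc (nat_lit 40) (nat_lit 0x5001001)) (.cD (nat_lit 48) (.kc (nat_lit 48) (nat_lit 0x3001001)) .nil)))))))) .nil)))))))) (.cD (nat_lit 48) (.kF (nat_lit 8) (nat_lit 0x13003000001003001002)) .nil))))))))))
theorem c394 : (chk [] [] p394).n x211 s394 = true := by decide +kernel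
noncomputable def p395 : Pf := (.anc (nat_lit 68) (nat_lit 0x10002002002000002) (nat_lit 0x1009020010004) (.czp (nat_lit 64) (nat_lit 0) (nat_lit 0x1040020010008004) z6 (.dfs (nat_lit 4) (nat_lit 4097) (nat_lit 4097) (nat_lit 1) (nat_lit 1) (nat_lit 0) (nat_lit 0) (nat_lit 3) (nat_lit 0) (nat_lit 0) (nat_lit 0) (nat_lit 1) (nat_lit 0) (nat_lit 0x1008004) (nat_lit 32772) (nat_lit 0x1001004000008001014000018) (nat_lit 0x1000101110110) (.cD (nat_lit 4) (.dfs (nat_lit 16) (nat_lit 4098) (nat_lit 4098) (nat_lit 4097) (nat_lit 4097) (nat_lit 0) (nat_lit 0) (nat_lit 3) (nat_lit 0) (nat_lit 0) (nat_lit 0) (nat_lit 1) (nat_lit 0) (nat_lit 1) (nat_lit 0) (nat_lit 1) (nat_lit 0x11001100110010) (.cD (nat_lit 4) (.kc (nat_lit 20) (nat_lit 0x3001001)) (.cD (nat_lit 16) (.dfs (nat_lit 32) (nat_lit 4100) (nat_lit 4100) (nat_lit 0x1002001) (nat_lit 0x1002001) (nat_lit 0) (nat_lit 0) (nat_lit 3) (nat_lit 0) (nat_lit 0) (nat_lit 0) (nat_lit 1) (nat_lit 0) (nat_lit 1) (nat_lit 0) (nat_lit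 1) (nat_lit 0x11001100110010) (.cD (nat_lit 4) (.kc (nat_lit 36) (nat_lit 0x5001001)) (.cD (nat_lit 16) (.kc (nat_lit 48) (nat_lit 0x3001001)) (.cD (nat_lit 20) (.kc (nat_lit 52) (nat_lit 0x7001001)) (.cD (nat_lit 32) (.dfs (nat_lit 9) (nat_lit 0x1004001003008) (nat_lit 0x1005001003008) (nat_lit 4098) (nat_lit 4098) (nat_lit 2) (nat_lit 0) (nat_lit 2) (nat_lit 1) (nat_lit 0) (nat_lit 8) (nat_lit 1) (nat_lit 0) (nat_lit 1) (nat_lit 0) (nat_lit 1) (nat_lit 0) .nil) (.cD (nat_lit 36) (.kA true (nat_lit 0x2100100000400100300d001021001000003)) (.cD (nat_lit 48) (.kA true (nat_lit 0x600800401000400400100300d001021001000003)) (.cD (nat_lit 52) (.kA true (nat_lit 0x5004003008001008004002005007021001000003)) .nil)))))))) (.cD (nat_lit 20) (.dfs (nat_lit 32) (nat_lit 4100) (nat_lit 4100) (nat_lit 0x1002001) (nat_lit 0x1002001) (nat_lit 0) (nat_lit 0) (nat_lit 3) (nat_lit 0) (nat_lit 0) (nat_lit 0) (nat_lit 1) (nat_lit 0) (nat_lit 1) (nat_lit 0) (nat_lit 1) (nat_lit 0x11001100110010)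 (.cD (nat_lit 4) (.kc (nat_lit 36) (nat_lit 0x5001001)) (.cD (nat_lit 16) (.kc (nat_lit 52) (nat_lit 0x7001001)) (.cD (nat_lit 20) (.kc (nat_lit 48) (nat_lit 0x3001001)) (.cD (nat_lit 32) (.kA true (nat_lit 0x5004003008001008004002005007021001000003)) (.cD (nat_lit 36) (.dfs (nat_lit 9) (nat_lit 4102) (nat_lit 4103) (nat_lit 1) (nat_lit 1) (nat_lit 2) (nat_lit 0) (nat_lit 1) (nat_lit 4112) (nat_lit 0x40020010008004002021) (nat_lit 0) (nat_lit 1) (nat_lit 0) (nat_lit 1) (nat_lit 0) (nat_lit 1) (nat_lit 0) .nil) (.cD (nat_lit 48) (.kA true (nat_lit 0x400300500800100400100300c001002)) (.cD (nat_lit 52) (.kA true (nat_lit 0x400700100800100400100300c001002)) .nil)))))))) (.cD (nat_lit 32) (.kF (nat_lit 16) (nat_lit 0x100400100c012004002002000003)) (.cD (nat_lit 36) (.kF (nat_lit 16) (nat_lit 0x100400100c012004002002000003)) (.cD (nat_lit 48) (.dfs (nat_lit 32) (nat_lit 4100) (nat_lit 4100) (nat_lit 0x1002001) (nat_lit 0x1002001) (nat_lit 0) (nat_lit 0) (nat_lit 3) (nat_lit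 0) (nat_lit 0) (nat_lit 0) (nat_lit 1) (nat_lit 0) (nat_lit 1) (nat_lit 0) (nat_lit 1) (nat_lit 0x11001100110010) (.cD (nat_lit 4) (.kc (nat_lit 36) (nat_lit 0x5001001)) (.cD (nat_lit 16) (.kA true (nat_lit 0x400200100800100400100300c001002)) (.cD (nat_lit 20) (.kA true (nat_lit 0x400600500800100400100300c001002)) (.cD (nat_lit 32) (.kA true (nat_lit 0x5004003008001008004002005007021001000003)) (.cD (nat_lit 36) (.kA true (nat_lit 0x400500600800100400100300c001002)) (.cD (nat_lit 48) (.kc (nat_lit 48) (nat_lit 0x3001001)) (.cD (nat_lit 52) (.kc (nat_lit 52) (nat_lit 0x7001001)) .nil)))))))) (.cD (nat_lit 52) (.dfs (nat_lit 32) (nat_lit 4100) (nat_lit 4100) (nat_lit 0x1002001) (nat_lit 0x1002001) (nat_lit 0) (nat_lit 0) (nat_lit 3) (nat_lit 0) (nat_lit 0) (nat_lit 0) (nat_lit 1) (nat_lit 0) (nat_lit 1) (nat_lit 0) (nat_lit 1) (nat_lit 0x11001100110010) (.cD (nat_lit 4) (.kc (nat_lit 36) (nat_lit 0x5001001)) (.cD (nat_lit 16) (.kA true (nat_lit 0x400200500800100400100300c001002))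 (.cD (nat_lit 20) (.kA true (nat_lit 0x400600100800100400100300c001002)) (.cD (nat_lit 32) (.kA true (nat_lit 0x5004003008001008004002005007021001000003)) (.cD (nat_lit 36) (.kA true (nat_lit 0x400500200800100400100300c001002)) (.cD (nat_lit 48) (.kc (nat_lit 52) (nat_lit 0x7001001)) (.cD (nat_lit 52) (.kc (nat_lit 48) (nat_lit 0x3001001)) .nil)))))))) .nil)))))))) (.cD (nat_lit 8) (.dfs (nat_lit 16) (nat_lit 4098) (nat_lit 4098) (nat_lit 4097) (nat_lit 4097) (nat_lit 0) (nat_lit 0) (nat_lit 3) (nat_lit 0) (nat_lit 0) (nat_lit 0) (nat_lit 1) (nat_lit 0) (nat_lit 1) (nat_lit 0) (nat_lit 1) (nat_lit 0x101010101010100) (.cD (nat_lit 8) (.kc (nat_lit 20) (nat_lit 0x3001001)) (.cD (nat_lit 16) (.dfs (nat_lit 32) (nat_lit 4100) (nat_lit 4100) (nat_lit 0x1002001) (nat_lit 0x1002001) (nat_lit 0) (nat_lit 0) (nat_lit 3) (nat_lit 0) (nat_lit 0) (nat_lit 0) (nat_lit 1) (nat_lit 0) (nat_lit 1) (nat_lit 0) (nat_lit 1) (nat_lit 0x101010101010100) (.cD (nat_lit 8) (.kc (nat_lit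 36) (nat_lit 0x5001001)) (.cD (nat_lit 16) (.kc (nat_lit 48) (nat_lit 0x3001001)) (.cD (nat_lit 24) (.kc (nat_lit 52) (nat_lit 0x7001001)) (.cD (nat_lit 32) (.kA false (nat_lit 0x300400200c00200e004008014005021001000003)) (.cD (nat_lit 40) (.kA false (nat_lit 0x2100100000300500200d002021001000003)) (.cD (nat_lit 48) (.kA false (nat_lit 0x200800c01000400500300200b002021001000003)) (.cD (nat_lit 56) (.kA false (nat_lit 0x500400200c00200e004008014005021001000003)) .nil)))))))) (.cD (nat_lit 24) (.dfs (nat_lit 32) (nat_lit 4100) (nat_lit 4100) (nat_lit 0x1002001) (nat_lit 0x1002001) (nat_lit 0) (nat_lit 0) (nat_lit 3) (nat_lit 0) (nat_lit 0) (nat_lit 0) (nat_lit 1) (nat_lit 0) (nat_lit 1) (nat_lit 0) (nat_lit 1) (nat_lit 0x101010101010100) (.cD (nat_lit 8) (.kc (nat_lit 36) (nat_lit 0x5001001)) (.cD (nat_lit 16) (.kc (nat_lit 52) (nat_lit 0x7001001)) (.cD (nat_lit 24) (.kc (nat_lit 48) (nat_lit 0x3001001)) (.cD (nat_lit 32) (.kA false (nat_lit 0x700400600c00200e004008014005021001000003))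 (.cD (nat_lit 40) (.kA false (nat_lit 0x2100100000700500600d002021001000003)) (.cD (nat_lit 48) (.kA false (nat_lit 0x100400600c00200e004008014005021001000003)) (.cD (nat_lit 56) (.kA false (nat_lit 0x400800a01000400100300600b002021001000003)) .nil)))))))) (.cD (nat_lit 32) (.kF (nat_lit 16) (nat_lit 0x100400100c012004002002000003)) (.cD (nat_lit 40) (.kF (nat_lit 16) (nat_lit 0x100400100c012004002002000003)) (.cD (nat_lit 48) (.kF (nat_lit 16) (nat_lit 0x2100100000e014006001006001003)) (.cD (nat_lit 56) (.kF (nat_lit 16) (nat_lit 0x2100100000a014006001006001003)) .nil)))))))) (.cD (nat_lit 16) (.kF (nat_lit 4) (nat_lit 0x2002000001003001002)) (.cD (nat_lit 20) (.kF (nat_lit 4) (nat_lit 0xe01e003001003001002)) (.cD (nat_lit 24) (.kF (nat_lit 4) (nat_lit 0x1002001002012004002002000003)) (.cD (nat_lit 32) (.dfs (nat_lit 16) (nat_lit 4098) (nat_lit 4098) (nat_lit 4097) (nat_lit 4097) (nat_lit 0) (nat_lit 0) (nat_lit 3) (nat_lit 0) (nat_lit 0) (nat_lit 0) (nat_lit 1)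 (nat_lit 0) (nat_lit 0x1008004) (nat_lit 32772) (nat_lit 0x1001004000008001014000018) (nat_lit 0x1000101110110) (.cD (nat_lit 4) (.kF (nat_lit 16) (nat_lit 0x21001000001006001002)) (.cD (nat_lit 8) (.kF (nat_lit 16) (nat_lit 0x100400100c012004002002000003)) (.cD (nat_lit 16) (.dfs (nat_lit 32) (nat_lit 4100) (nat_lit 4100) (nat_lit 0x1002001) (nat_lit 0x1002001) (nat_lit 0) (nat_lit 0) (nat_lit 3) (nat_lit 0) (nat_lit 0) (nat_lit 0) (nat_lit 1) (nat_lit 0) (nat_lit 0x1008004) (nat_lit 32772) (nat_lit 0x1001004000008001014000018) (nat_lit 0x1000101110110) (.cD (nat_lit 4) (.kA true (nat_lit 0x100400600c002021001000002)) (.cD (nat_lit 8) (.kA false (nat_lit 0x700400200c002021001000002)) (.cD (nat_lit 16) (.kc (nat_lit 48) (nat_lit 0x3001001)) (.cD (nat_lit 20) (.kA true (nat_lit 0x300400600c002021001000002)) (.cD (nat_lit 24) (.kA false (nat_lit 0x500400200c002021001000002)) (.cD (nat_lit 32) (.kc (nat_lit 36) (nat_lit 0x5001001)) (.cD (nat_lit 48) (.kc (nat_lit 52)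 (nat_lit 0x7001001)) .nil)))))))) (.cD (nat_lit 20) (.dfs (nat_lit 32) (nat_lit 4100) (nat_lit 4100) (nat_lit 0x1002001) (nat_lit 0x1002001) (nat_lit 0) (nat_lit 0) (nat_lit 3) (nat_lit 0) (nat_lit 0) (nat_lit 0) (nat_lit 1) (nat_lit 0) (nat_lit 1) (nat_lit 0) (nat_lit 1) (nat_lit 0x11001100110010) (.cD (nat_lit 4) (.kA true (nat_lit 0x100400700c002021001000002)) (.cD (nat_lit 16) (.kA true (nat_lit 0x300400500c002021001000002)) (.cD (nat_lit 20) (.kc (nat_lit 48) (nat_lit 0x3001001)) (.cD (nat_lit 32) (.kc (nat_lit 36) (nat_lit 0x5001001)) (.cD (nat_lit 36) (.dfs (nat_lit 9) (nat_lit 4100) (nat_lit 4101) (nat_lit 1) (nat_lit 1) (nat_lit 2) (nat_lit 0) (nat_lit 1) (nat_lit 4128) (nat_lit 0x40020010008004002021) (nat_lit 0) (nat_lit 1) (nat_lit 0) (nat_lit 1) (nat_lit 0) (nat_lit 1) (nat_lit 0) .nil) (.cD (nat_lit 48) (.kA true (nat_lit 0x700400100c002021001000002)) (.cD (nat_lit 52) (.kc (nat_lit 52) (nat_lit 0x7001001)) .nil)))))))) (.cD (nat_lit 24) (.kF (nat_lit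 16) (nat_lit 0x21001000001006001002)) (.cD (nat_lit 32) (.kc (nat_lit 20) (nat_lit 0x3001001)) (.cD (nat_lit 48) (.dfs (nat_lit 32) (nat_lit 4100) (nat_lit 4100) (nat_lit 0x1002001) (nat_lit 0x1002001) (nat_lit 0) (nat_lit 0) (nat_lit 3) (nat_lit 0) (nat_lit 0) (nat_lit 0) (nat_lit 1) (nat_lit 0) (nat_lit 0x1008004) (nat_lit 32772) (nat_lit 0x1001004000008001014000018) (nat_lit 0x1000101110110) (.cD (nat_lit 4) (.kA true (nat_lit 0x100400200c002021001000002)) (.cD (nat_lit 8) (.kA false (nat_lit 0x300400600c002021001000002)) (.cD (nat_lit 16) (.kc (nat_lit 52) (nat_lit 0x7001001)) (.cD (nat_lit 20) (.kA true (nat_lit 0x700400200c002021001000002)) (.cD (nat_lit 24) (.kA false (nat_lit 0x500400600c002021001000002)) (.cD (nat_lit 32) (.kc (nat_lit 36) (nat_lit 0x5001001)) (.cD (nat_lit 48) (.kc (nat_lit 48) (nat_lit 0x3001001)) .nil)))))))) .nil)))))))) (.cD (nat_lit 48) (.kF (nat_lit 4) (nat_lit 0x1002001002012004002002000003)) .nil))))))))))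
theorem c395 : (chk [] [] p395).n x212 s395 = true := by decide +kernel
noncomputable def p396 : Pf := (.anc (nat_lit 68) (nat_lit 0x10002002002000002) (nat_lit 0x1009020010004) (.czp (nat_lit 64) (nat_lit 0) (nat_lit 0x1040020010008004) z6 (.dfs (nat_lit 4) (nat_lit 4097) (nat_lit 4097) (nat_lit 1) (nat_lit 1) (nat_lit 0) (nat_lit 0) (nat_lit 3) (nat_lit 0) (nat_lit 0) (nat_lit 0) (nat_lit 1) (nat_lit 0) (nat_lit 0x1008004) (nat_lit 32772) (nat_lit 0x1001004000008001014000018) (nat_lit 0x1000101110110) (.cD (nat_lit 4) (.dfs (nat_lit 16) (nat_lit 4098) (nat_lit 4098) (nat_lit 4097) (nat_lit 4097) (nat_lit 0) (nat_lit 0) (nat_lit 3) (nat_lit 0) (nat_lit 0) (nat_lit 0) (nat_lit 1) (nat_lit 0) (nat_lit 1) (nat_lit 0) (nat_lit 1) (nat_lit 0x11001100110010) (.cD (nat_lit 4) (.kc (nat_lit 20) (nat_lit 0x3001001)) (.cD (nat_lit 16) (.dfs (nat_lit 32) (nat_lit 4100) (nat_lit 4100) (nat_lit 0x1002001) (nat_lit 0x1002001) (nat_lit 0) (nat_lit 0) (nat_lit 3) (nat_lit 0) (nat_lit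 0) (nat_lit 0) (nat_lit 1) (nat_lit 0) (nat_lit 1) (nat_lit 0) (nat_lit 1) (nat_lit 0x11001100110010) (.cD (nat_lit 4) (.kc (nat_lit 36) (nat_lit 0x5001001)) (.cD (nat_lit 16) (.kc (nat_lit 48) (nat_lit 0x3001001)) (.cD (nat_lit 20) (.kc (nat_lit 52) (nat_lit 0x7001001)) (.cD (nat_lit 32) (.dfs (nat_lit 9) (nat_lit 0x1004001003008) (nat_lit 0x1005001003008) (nat_lit 4098) (nat_lit 4098) (nat_lit 2) (nat_lit 0) (nat_lit 2) (nat_lit 1) (nat_lit 0) (nat_lit 8) (nat_lit 1) (nat_lit 0) (nat_lit 1) (nat_lit 0) (nat_lit 1) (nat_lit 0) .nil) (.cD (nat_lit 36) (.kA true (nat_lit 0x2100100000400100300d001021001000003)) (.cD (nat_lit 48) (.kA true (nat_lit 0x600800401000400400100300d001021001000003)) (.cD (nat_lit 52) (.kA true (nat_lit 0x5004003008001008004002005007021001000003)) .nil)))))))) (.cD (nat_lit 20) (.dfs (nat_lit 32) (nat_lit 4100) (nat_lit 4100) (nat_lit 0x1002001) (nat_lit 0x1002001) (nat_lit 0) (nat_lit 0) (nat_lit 3) (nat_lit 0) (nat_lit 0) (nat_lit 0) (nat_lit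 1) (nat_lit 0) (nat_lit 1) (nat_lit 0) (nat_lit 1) (nat_lit 0x11001100110010) (.cD (nat_lit 4) (.kc (nat_lit 36) (nat_lit 0x5001001)) (.cD (nat_lit 16) (.kc (nat_lit 52) (nat_lit 0x7001001)) (.cD (nat_lit 20) (.kc (nat_lit 48) (nat_lit 0x3001001)) (.cD (nat_lit 32) (.kA true (nat_lit 0x5004003008001008004002005007021001000003)) (.cD (nat_lit 36) (.dfs (nat_lit 9) (nat_lit 4102) (nat_lit 4103) (nat_lit 1) (nat_lit 1) (nat_lit 2) (nat_lit 0) (nat_lit 1) (nat_lit 4112) (nat_lit 0x40020010008004002021) (nat_lit 0) (nat_lit 1) (nat_lit 0) (nat_lit 1) (nat_lit 0) (nat_lit 1) (nat_lit 0) .nil) (.cD (nat_lit 48) (.kA true (nat_lit 0x400300500800100400100300c001002)) (.cD (nat_lit 52) (.kA true (nat_lit 0x400700100800100400100300c001002)) .nil)))))))) (.cD (nat_lit 32) (.kF (nat_lit 16) (nat_lit 0x100400100c012004002002000003)) (.cD (nat_lit 36) (.kF (nat_lit 16) (nat_lit 0x100400100c012004002002000003)) (.cD (nat_lit 48) (.dfs (nat_lit 32) (nat_lit 4100) (nat_lit 4100) (nat_lit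 0x1002001) (nat_lit 0x1002001) (nat_lit 0) (nat_lit 0) (nat_lit 3) (nat_lit 0) (nat_lit 0) (nat_lit 0) (nat_lit 1) (nat_lit 0) (nat_lit 1) (nat_lit 0) (nat_lit 1) (nat_lit 0x11001100110010) (.cD (nat_lit 4) (.kc (nat_lit 36) (nat_lit 0x5001001)) (.cD (nat_lit 16) (.kA true (nat_lit 0x400200100800100400100300c001002)) (.cD (nat_lit 20) (.kA true (nat_lit 0x400600500800100400100300c001002)) (.cD (nat_lit 32) (.kA true (nat_lit 0x5004003008001008004002005007021001000003)) (.cD (nat_lit 36) (.kA true (nat_lit 0x400500600800100400100300c001002)) (.cD (nat_lit 48) (.kc (nat_lit 48) (nat_lit 0x3001001)) (.cD (nat_lit 52) (.kc (nat_lit 52) (nat_lit 0x7001001)) .nil)))))))) (.cD (nat_lit 52) (.dfs (nat_lit 32) (nat_lit 4100) (nat_lit 4100) (nat_lit 0x1002001) (nat_lit 0x1002001) (nat_lit 0) (nat_lit 0) (nat_lit 3) (nat_lit 0) (nat_lit 0) (nat_lit 0) (nat_lit 1) (nat_lit 0) (nat_lit 1) (nat_lit 0) (nat_lit 1) (nat_lit 0x11001100110010) (.cD (nat_lit 4) (.kc (nat_lit 36) (nat_lit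 0x5001001)) (.cD (nat_lit 16) (.kA true (nat_lit 0x400200500800100400100300c001002)) (.cD (nat_lit 20) (.kA true (nat_lit 0x400600100800100400100300c001002)) (.cD (nat_lit 32) (.kA true (nat_lit 0x5004003008001008004002005007021001000003)) (.cD (nat_lit 36) (.kA true (nat_lit 0x400500200800100400100300c001002)) (.cD (nat_lit 48) (.kc (nat_lit 52) (nat_lit 0x7001001)) (.cD (nat_lit 52) (.kc (nat_lit 48) (nat_lit 0x3001001)) .nil)))))))) .nil)))))))) (.cD (nat_lit 8) (.dfs (nat_lit 16) (nat_lit 4098) (nat_lit 4098) (nat_lit 4097) (nat_lit 4097) (nat_lit 0) (nat_lit 0) (nat_lit 3) (nat_lit 0) (nat_lit 0) (nat_lit 0) (nat_lit 1) (nat_lit 0) (nat_lit 1) (nat_lit 0) (nat_lit 1) (nat_lit 0x101010101010100) (.cD (nat_lit 8) (.kc (nat_lit 20) (nat_lit 0x3001001)) (.cD (nat_lit 16) (.dfs (nat_lit 32) (nat_lit 4100) (nat_lit 4100) (nat_lit 0x1002001) (nat_lit 0x1002001) (nat_lit 0) (nat_lit 0) (nat_lit 3) (nat_lit 0) (nat_lit 0) (nat_lit 0) (nat_lit 1) (nat_lit 0) (nat_lit 1)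 (nat_lit 0) (nat_lit 1) (nat_lit 0x101010101010100) (.cD (nat_lit 8) (.kc (nat_lit 36) (nat_lit 0x5001001)) (.cD (nat_lit 16) (.kc (nat_lit 48) (nat_lit 0x3001001)) (.cD (nat_lit 24) (.kc (nat_lit 52) (nat_lit 0x7001001)) (.cD (nat_lit 32) (.kA false (nat_lit 0x300400200c00200e004008014005021001000003)) (.cD (nat_lit 40) (.kA false (nat_lit 0x2100100000300500200d002021001000003)) (.cD (nat_lit 48) (.kA false (nat_lit 0x200800c01000400500300200b002021001000003)) (.cD (nat_lit 56) (.kA false (nat_lit 0x500400200c00200e004008014005021001000003)) .nil)))))))) (.cD (nat_lit 24) (.dfs (nat_lit 32) (nat_lit 4100) (nat_lit 4100) (nat_lit 0x1002001) (nat_lit 0x1002001) (nat_lit 0) (nat_lit 0) (nat_lit 3) (nat_lit 0) (nat_lit 0) (nat_lit 0) (nat_lit 1) (nat_lit 0) (nat_lit 1) (nat_lit 0) (nat_lit 1) (nat_lit 0x101010101010100) (.cD (nat_lit 8) (.kc (nat_lit 36) (nat_lit 0x5001001)) (.cD (nat_lit 16) (.kc (nat_lit 52) (nat_lit 0x7001001)) (.cD (nat_lit 24) (.kc (nat_lit 48)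 (nat_lit 0x3001001)) (.cD (nat_lit 32) (.kA false (nat_lit 0x700400600c00200e004008014005021001000003)) (.cD (nat_lit 40) (.kA false (nat_lit 0x2100100000700500600d002021001000003)) (.cD (nat_lit 48) (.kA false (nat_lit 0x100400600c00200e004008014005021001000003)) (.cD (nat_lit 56) (.kA false (nat_lit 0x400800a01000400100300600b002021001000003)) .nil)))))))) (.cD (nat_lit 32) (.kF (nat_lit 16) (nat_lit 0x100400100c012004002002000003)) (.cD (nat_lit 40) (.kF (nat_lit 16) (nat_lit 0x100400100c012004002002000003)) (.cD (nat_lit 48) (.kF (nat_lit 16) (nat_lit 0x2100100000e014006001006001003)) (.cD (nat_lit 56) (.kF (nat_lit 16) (nat_lit 0x2100100000a014006001006001003)) .nil)))))))) (.cD (nat_lit 16) (.kF (nat_lit 4) (nat_lit 0x2002000001003001002)) (.cD (nat_lit 20) (.kF (nat_lit 4) (nat_lit 0xe01e003001003001002)) (.cD (nat_lit 24) (.kF (nat_lit 4) (nat_lit 0x1002001002012004002002000003)) (.cD (nat_lit 32) (.dfs (nat_lit 16) (nat_lit 4098) (nat_lit 4098) (nat_lit 4097)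 (nat_lit 4097) (nat_lit 0) (nat_lit 0) (nat_lit 3) (nat_lit 0) (nat_lit 0) (nat_lit 0) (nat_lit 1) (nat_lit 0) (nat_lit 0x1008004) (nat_lit 32772) (nat_lit 0x1001004000008001014000018) (nat_lit 0x1000101110110) (.cD (nat_lit 4) (.kF (nat_lit 16) (nat_lit 0x21001000001006001002)) (.cD (nat_lit 8) (.kF (nat_lit 16) (nat_lit 0x100400100c012004002002000003)) (.cD (nat_lit 16) (.dfs (nat_lit 32) (nat_lit 4100) (nat_lit 4100) (nat_lit 0x1002001) (nat_lit 0x1002001) (nat_lit 0) (nat_lit 0) (nat_lit 3) (nat_lit 0) (nat_lit 0) (nat_lit 0) (nat_lit 1) (nat_lit 0) (nat_lit 0x1008004) (nat_lit 32772) (nat_lit 0x1001004000008001014000018) (nat_lit 0x1000101110110) (.cD (nat_lit 4) (.kA true (nat_lit 0x100400600c002021001000002)) (.cD (nat_lit 8) (.kA false (nat_lit 0x700400200c002021001000002)) (.cD (nat_lit 16) (.kc (nat_lit 48) (nat_lit 0x3001001)) (.cD (nat_lit 20) (.kA true (nat_lit 0x300400600c002021001000002)) (.cD (nat_lit 24) (.kA false (nat_lit 0x500400200c002021001000002))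 (.cD (nat_lit 32) (.kc (nat_lit 36) (nat_lit 0x5001001)) (.cD (nat_lit 48) (.kc (nat_lit 52) (nat_lit 0x7001001)) .nil)))))))) (.cD (nat_lit 20) (.dfs (nat_lit 32) (nat_lit 4100) (nat_lit 4100) (nat_lit 0x1002001) (nat_lit 0x1002001) (nat_lit 0) (nat_lit 0) (nat_lit 3) (nat_lit 0) (nat_lit 0) (nat_lit 0) (nat_lit 1) (nat_lit 0) (nat_lit 1) (nat_lit 0) (nat_lit 1) (nat_lit 0x11001100110010) (.cD (nat_lit 4) (.kA true (nat_lit 0x100400700c002021001000002)) (.cD (nat_lit 16) (.kA true (nat_lit 0x300400500c002021001000002)) (.cD (nat_lit 20) (.kc (nat_lit 48) (nat_lit 0x3001001)) (.cD (nat_lit 32) (.kc (nat_lit 36) (nat_lit 0x5001001)) (.cD (nat_lit 36) (.dfs (nat_lit 9) (nat_lit 4100) (nat_lit 4101) (nat_lit 1) (nat_lit 1) (nat_lit 2) (nat_lit 0) (nat_lit 1) (nat_lit 4128) (nat_lit 0x40020010008004002021) (nat_lit 0) (nat_lit 1) (nat_lit 0) (nat_lit 1) (nat_lit 0) (nat_lit 1) (nat_lit 0) .nil) (.cD (nat_lit 48) (.kA true (nat_lit 0x700400100c002021001000002)) (.cD (nat_lit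 52) (.kc (nat_lit 52) (nat_lit 0x7001001)) .nil)))))))) (.cD (nat_lit 24) (.kF (nat_lit 16) (nat_lit 0x21001000001006001002)) (.cD (nat_lit 32) (.kc (nat_lit 20) (nat_lit 0x3001001)) (.cD (nat_lit 48) (.dfs (nat_lit 32) (nat_lit 4100) (nat_lit 4100) (nat_lit 0x1002001) (nat_lit 0x1002001) (nat_lit 0) (nat_lit 0) (nat_lit 3) (nat_lit 0) (nat_lit 0) (nat_lit 0) (nat_lit 1) (nat_lit 0) (nat_lit 0x1008004) (nat_lit 32772) (nat_lit 0x1001004000008001014000018) (nat_lit 0x1000101110110) (.cD (nat_lit 4) (.kA true (nat_lit 0x100400200c002021001000002)) (.cD (nat_lit 8) (.kA false (nat_lit 0x300400600c002021001000002)) (.cD (nat_lit 16) (.kc (nat_lit 52) (nat_lit 0x7001001)) (.cD (nat_lit 20) (.kA true (nat_lit 0x700400200c002021001000002)) (.cD (nat_lit 24) (.kA false (nat_lit 0x500400600c002021001000002)) (.cD (nat_lit 32) (.kc (nat_lit 36) (nat_lit 0x5001001)) (.cD (nat_lit 48) (.kc (nat_lit 48) (nat_lit 0x3001001)) .nil)))))))) .nil)))))))) (.cD (nat_lit 48) (.kF (nat_lit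 4) (nat_lit 0x1002001002012004002002000003)) .nil))))))))))
theorem c396 : (chk [] [] p396).n x213 s396 = true := by decide +kernel
noncomputable def p397 : Pf := (.anc (nat_lit 68) (nat_lit 0x10002002002000002) (nat_lit 0x1009020010004) (.czp (nat_lit 64) (nat_lit 0) (nat_lit 0x1040020010008004) z6 (.dfs (nat_lit 4) (nat_lit 4097) (nat_lit 4097) (nat_lit 1) (nat_lit 1) (nat_lit 0) (nat_lit 0) (nat_lit 3) (nat_lit 0) (nat_lit 0) (nat_lit 0) (nat_lit 1) (nat_lit 0) (nat_lit 0x1008004) (nat_lit 32772) (nat_lit 0x1001004000008001014000018) (nat_lit 0x1000101110110) (.cD (nat_lit 4) (.dfs (nat_lit 16) (nat_lit 4098) (nat_lit 4098) (nat_lit 4097) (nat_lit 4097) (nat_lit 0) (nat_lit 0) (nat_lit 3) (nat_lit 0) (nat_lit 0) (nat_lit 0) (nat_lit 1) (nat_lit 0) (nat_lit 1) (nat_lit 0) (nat_lit 1) (nat_lit 0x11001100110010) (.cD (nat_lit 4) (.kc (nat_lit 20) (nat_lit 0x3001001)) (.cD (nat_lit 16) (.dfs (nat_lit 32) (nat_lit 4100) (nat_lit 4100) (nat_lit 0x1002001) (nat_lit 0x1002001)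 (nat_lit 0) (nat_lit 0) (nat_lit 3) (nat_lit 0) (nat_lit 0) (nat_lit 0) (nat_lit 1) (nat_lit 0) (nat_lit 1) (nat_lit 0) (nat_lit 1) (nat_lit 0x11001100110010) (.cD (nat_lit 4) (.kc (nat_lit 36) (nat_lit 0x5001001)) (.cD (nat_lit 16) (.kc (nat_lit 48) (nat_lit 0x3001001)) (.cD (nat_lit 20) (.kc (nat_lit 52) (nat_lit 0x7001001)) (.cD (nat_lit 32) (.dfs (nat_lit 9) (nat_lit 0x1004001003008) (nat_lit 0x1005001003008) (nat_lit 4098) (nat_lit 4098) (nat_lit 0) (nat_lit 0) (nat_lit 2) (nat_lit 1) (nat_lit 0) (nat_lit 8) (nat_lit 1) (nat_lit 0) (nat_lit 4100) (nat_lit 4) (nat_lit 0x1000008000018) (nat_lit 0x1000100) (.cD (nat_lit 8) (.kA false (nat_lit 0x7002004010001002002000007002004016002033003000004)) (.cD (nat_lit 24) (.kA false (nat_lit 0x3002004010001002002000003002004016002033003000004)) .nil))) (.cD (nat_lit 36) (.kA true (nat_lit 0x3100100000400100300d001031001000003)) (.cD (nat_lit 48) (.kA true (nat_lit 0x600800401000400400100300d001031001000003)) (.cD (nat_lit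 52) (.kA true (nat_lit 0x5004003008001008004002005007031001000003)) .nil)))))))) (.cD (nat_lit 20) (.dfs (nat_lit 32) (nat_lit 4100) (nat_lit 4100) (nat_lit 0x1002001) (nat_lit 0x1002001) (nat_lit 0) (nat_lit 0) (nat_lit 3) (nat_lit 0) (nat_lit 0) (nat_lit 0) (nat_lit 1) (nat_lit 0) (nat_lit 1) (nat_lit 0) (nat_lit 1) (nat_lit 0x11001100110010) (.cD (nat_lit 4) (.kc (nat_lit 36) (nat_lit 0x5001001)) (.cD (nat_lit 16) (.kc (nat_lit 52) (nat_lit 0x7001001)) (.cD (nat_lit 20) (.kc (nat_lit 48) (nat_lit 0x3001001)) (.cD (nat_lit 32) (.kA true (nat_lit 0x5004003008001008004002005007031001000003)) (.cD (nat_lit 36) (.dfs (nat_lit 9) (nat_lit 4102) (nat_lit 4103) (nat_lit 1) (nat_lit 1) (nat_lit 0) (nat_lit 0) (nat_lit 1) (nat_lit 4112) (nat_lit 0x40020010008004002031) (nat_lit 0) (nat_lit 1) (nat_lit 0) (nat_lit 1) (nat_lit 0) (nat_lit 1) (nat_lit 0) .nil) (.cD (nat_lit 48) (.kA true (nat_lit 0x400300500800100400100300c001002)) (.cD (nat_lit 52) (.kA true (nat_lit 0x400700100800100400100300c001002))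 .nil)))))))) (.cD (nat_lit 32) (.kF (nat_lit 16) (nat_lit 0x100400100c012004002002000003)) (.cD (nat_lit 36) (.kF (nat_lit 16) (nat_lit 0x100400100c012004002002000003)) (.cD (nat_lit 48) (.dfs (nat_lit 32) (nat_lit 4100) (nat_lit 4100) (nat_lit 0x1002001) (nat_lit 0x1002001) (nat_lit 0) (nat_lit 0) (nat_lit 3) (nat_lit 0) (nat_lit 0) (nat_lit 0) (nat_lit 1) (nat_lit 0) (nat_lit 1) (nat_lit 0) (nat_lit 1) (nat_lit 0x11001100110010) (.cD (nat_lit 4) (.kc (nat_lit 36) (nat_lit 0x5001001)) (.cD (nat_lit 16) (.kA true (nat_lit 0x400200100800100400100300c001002)) (.cD (nat_lit 20) (.kA true (nat_lit 0x400600500800100400100300c001002)) (.cD (nat_lit 32) (.kA true (nat_lit 0x5004003008001008004002005007031001000003)) (.cD (nat_lit 36) (.kA true (nat_lit 0x400500600800100400100300c001002)) (.cD (nat_lit 48) (.kc (nat_lit 48) (nat_lit 0x3001001)) (.cD (nat_lit 52) (.kc (nat_lit 52) (nat_lit 0x7001001)) .nil)))))))) (.cD (nat_lit 52) (.dfs (nat_lit 32) (nat_lit 4100) (nat_lit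 4100) (nat_lit 0x1002001) (nat_lit 0x1002001) (nat_lit 0) (nat_lit 0) (nat_lit 3) (nat_lit 0) (nat_lit 0) (nat_lit 0) (nat_lit 1) (nat_lit 0) (nat_lit 1) (nat_lit 0) (nat_lit 1) (nat_lit 0x11001100110010) (.cD (nat_lit 4) (.kc (nat_lit 36) (nat_lit 0x5001001)) (.cD (nat_lit 16) (.kA true (nat_lit 0x400200500800100400100300c001002)) (.cD (nat_lit 20) (.kA true (nat_lit 0x400600100800100400100300c001002)) (.cD (nat_lit 32) (.kA true (nat_lit 0x5004003008001008004002005007031001000003)) (.cD (nat_lit 36) (.kA true (nat_lit 0x400500200800100400100300c001002)) (.cD (nat_lit 48) (.kc (nat_lit 52) (nat_lit 0x7001001)) (.cD (nat_lit 52) (.kc (nat_lit 48) (nat_lit 0x3001001)) .nil)))))))) .nil)))))))) (.cD (nat_lit 8) (.dfs (nat_lit 16) (nat_lit 4098) (nat_lit 4098) (nat_lit 4097) (nat_lit 4097) (nat_lit 0) (nat_lit 0) (nat_lit 3) (nat_lit 0) (nat_lit 0) (nat_lit 0) (nat_lit 1) (nat_lit 0) (nat_lit 1) (nat_lit 0) (nat_lit 1) (nat_lit 0x101010101010100) (.cD (nat_lit 8) (.kc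 (nat_lit 20) (nat_lit 0x3001001)) (.cD (nat_lit 16) (.dfs (nat_lit 32) (nat_lit 4100) (nat_lit 4100) (nat_lit 0x1002001) (nat_lit 0x1002001) (nat_lit 0) (nat_lit 0) (nat_lit 3) (nat_lit 0) (nat_lit 0) (nat_lit 0) (nat_lit 1) (nat_lit 0) (nat_lit 1) (nat_lit 0) (nat_lit 1) (nat_lit 0x101010101010100) (.cD (nat_lit 8) (.kc (nat_lit 36) (nat_lit 0x5001001)) (.cD (nat_lit 16) (.kc (nat_lit 48) (nat_lit 0x3001001)) (.cD (nat_lit 24) (.kc (nat_lit 52) (nat_lit 0x7001001)) (.cD (nat_lit 32) (.kA false (nat_lit 0x300400200c00200e004008014005031001000003)) (.cD (nat_lit 40) (.kA false (nat_lit 0x3100100000300500200d002031001000003)) (.cD (nat_lit 48) (.kA false (nat_lit 0x200800c01000400500300200b002031001000003)) (.cD (nat_lit 56) (.kA false (nat_lit 0x500400200c00200e004008014005031001000003)) .nil)))))))) (.cD (nat_lit 24) (.dfs (nat_lit 32) (nat_lit 4100) (nat_lit 4100) (nat_lit 0x1002001) (nat_lit 0x1002001) (nat_lit 0) (nat_lit 0) (nat_lit 3) (nat_lit 0) (nat_lit 0)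 (nat_lit 0) (nat_lit 1) (nat_lit 0) (nat_lit 1) (nat_lit 0) (nat_lit 1) (nat_lit 0x101010101010100) (.cD (nat_lit 8) (.kc (nat_lit 36) (nat_lit 0x5001001)) (.cD (nat_lit 16) (.kc (nat_lit 52) (nat_lit 0x7001001)) (.cD (nat_lit 24) (.kc (nat_lit 48) (nat_lit 0x3001001)) (.cD (nat_lit 32) (.kA false (nat_lit 0x700400600c00200e004008014005031001000003)) (.cD (nat_lit 40) (.kA false (nat_lit 0x3100100000700500600d002031001000003)) (.cD (nat_lit 48) (.kA false (nat_lit 0x100400600c00200e004008014005031001000003)) (.cD (nat_lit 56) (.kA false (nat_lit 0x400800a01000400100300600b002031001000003)) .nil)))))))) (.cD (nat_lit 32) (.kF (nat_lit 16) (nat_lit 0x100400100c012004002002000003)) (.cD (nat_lit 40) (.kF (nat_lit 16) (nat_lit 0x100400100c012004002002000003)) (.cD (nat_lit 48) (.kF (nat_lit 16) (nat_lit 0x3100100000e014006001006001003)) (.cD (nat_lit 56) (.kF (nat_lit 16) (nat_lit 0x3100100000a014006001006001003)) .nil)))))))) (.cD (nat_lit 16) (.kF (nat_lit 4) (nat_lit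 0x2002000001003001002)) (.cD (nat_lit 20) (.kF (nat_lit 4) (nat_lit 0xe01e003001003001002)) (.cD (nat_lit 24) (.kF (nat_lit 4) (nat_lit 0x1002001002012004002002000003)) (.cD (nat_lit 32) (.dfs (nat_lit 16) (nat_lit 4098) (nat_lit 4098) (nat_lit 4097) (nat_lit 4097) (nat_lit 0) (nat_lit 0) (nat_lit 3) (nat_lit 0) (nat_lit 0) (nat_lit 0) (nat_lit 1) (nat_lit 0) (nat_lit 0x1008004) (nat_lit 32772) (nat_lit 0x1001004000008001014000018) (nat_lit 0x1000101110110) (.cD (nat_lit 4) (.kF (nat_lit 16) (nat_lit 0x31001000001006001002)) (.cD (nat_lit 8) (.kF (nat_lit 16) (nat_lit 0x100400100c012004002002000003)) (.cD (nat_lit 16) (.dfs (nat_lit 32) (nat_lit 4100) (nat_lit 4100) (nat_lit 0x1002001) (nat_lit 0x1002001) (nat_lit 0) (nat_lit 0) (nat_lit 3) (nat_lit 0) (nat_lit 0) (nat_lit 0) (nat_lit 1) (nat_lit 0) (nat_lit 0x1008004) (nat_lit 32772) (nat_lit 0x1001004000008001014000018) (nat_lit 0x1000101110110) (.cD (nat_lit 4) (.kA true (nat_lit 0x100400600c002031001000002)) (.cD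 (nat_lit 8) (.kA false (nat_lit 0x700400200c002031001000002)) (.cD (nat_lit 16) (.kc (nat_lit 48) (nat_lit 0x3001001)) (.cD (nat_lit 20) (.kA true (nat_lit 0x300400600c002031001000002)) (.cD (nat_lit 24) (.kA false (nat_lit 0x500400200c002031001000002)) (.cD (nat_lit 32) (.kc (nat_lit 36) (nat_lit 0x5001001)) (.cD (nat_lit 48) (.kc (nat_lit 52) (nat_lit 0x7001001)) .nil)))))))) (.cD (nat_lit 20) (.dfs (nat_lit 32) (nat_lit 4100) (nat_lit 4100) (nat_lit 0x1002001) (nat_lit 0x1002001) (nat_lit 0) (nat_lit 0) (nat_lit 3) (nat_lit 0) (nat_lit 0) (nat_lit 0) (nat_lit 1) (nat_lit 0) (nat_lit 1) (nat_lit 0) (nat_lit 1) (nat_lit 0x11001100110010) (.cD (nat_lit 4) (.kA true (nat_lit 0x100400700c002031001000002)) (.cD (nat_lit 16) (.kA true (nat_lit 0x300400500c002031001000002)) (.cD (nat_lit 20) (.kc (nat_lit 48) (nat_lit 0x3001001)) (.cD (nat_lit 32) (.kc (nat_lit 36) (nat_lit 0x5001001)) (.cD (nat_lit 36) (.dfs (nat_lit 9) (nat_lit 4100) (nat_lit 4101) (nat_lit 1) (nat_lit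 1) (nat_lit 0) (nat_lit 0) (nat_lit 1) (nat_lit 4128) (nat_lit 0x40020010008004002031) (nat_lit 0) (nat_lit 1) (nat_lit 0) (nat_lit 1) (nat_lit 0) (nat_lit 1) (nat_lit 0) .nil) (.cD (nat_lit 48) (.kA true (nat_lit 0x700400100c002031001000002)) (.cD (nat_lit 52) (.kc (nat_lit 52) (nat_lit 0x7001001)) .nil)))))))) (.cD (nat_lit 24) (.kF (nat_lit 16) (nat_lit 0x31001000001006001002)) (.cD (nat_lit 32) (.kc (nat_lit 20) (nat_lit 0x3001001)) (.cD (nat_lit 48) (.dfs (nat_lit 32) (nat_lit 4100) (nat_lit 4100) (nat_lit 0x1002001) (nat_lit 0x1002001) (nat_lit 0) (nat_lit 0) (nat_lit 3) (nat_lit 0) (nat_lit 0) (nat_lit 0) (nat_lit 1) (nat_lit 0) (nat_lit 0x1008004) (nat_lit 32772) (nat_lit 0x1001004000008001014000018) (nat_lit 0x1000101110110) (.cD (nat_lit 4) (.kA true (nat_lit 0x100400200c002031001000002)) (.cD (nat_lit 8) (.kA false (nat_lit 0x300400600c002031001000002)) (.cD (nat_lit 16) (.kc (nat_lit 52) (nat_lit 0x7001001)) (.cD (nat_lit 20) (.kA true (nat_lit 0x700400200c002031001000002))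 (.cD (nat_lit 24) (.kA false (nat_lit 0x500400600c002031001000002)) (.cD (nat_lit 32) (.kc (nat_lit 36) (nat_lit 0x5001001)) (.cD (nat_lit 48) (.kc (nat_lit 48) (nat_lit 0x3001001)) .nil)))))))) .nil)))))))) (.cD (nat_lit 48) (.kF (nat_lit 4) (nat_lit 0x1002001002012004002002000003)) .nil))))))))))
theorem c397 : (chk [] [] p397).n x214 s397 = true := by decide +kernel
noncomputable def p398 : Pf := (.ext (nat_lit 0) (nat_lit 0x4006008010002001) (nat_lit 0x1040010020008002) (nat_lit 0x1400800400a01d00203100100001c00800a00401d001002002000010008006004015002005) (nat_lit 0x400e008014) (nat_lit 0x1004001) (nat_lit 0x1004005) (nat_lit 0x1000800400600501400800400e001) (.dfs (nat_lit 1) (nat_lit 0x1002004008010) (nat_lit 0x100e004008014) (nat_lit 4097) (nat_lit 4097) (nat_lit 12) (nat_lit 0) (nat_lit 2) (nat_lit 0) (nat_lit 0x2004008010001001) (nat_lit 5) (nat_lit 1) (nat_lit 0) (nat_lit 4173) (nat_lit 77) (nat_lit 0x1000005000015) (nat_lit 0x200020) (.cD (nat_lit 5) (.dfs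 (nat_lit 4) (nat_lit 0x1004008010020) (nat_lit 0x100c008010020) (nat_lit 0x1002001) (nat_lit 0x100a001) (nat_lit 0) (nat_lit 0) (nat_lit 2) (nat_lit 0) (nat_lit 0x4008010020001001) (nat_lit 4) (nat_lit 1) (nat_lit 0) (nat_lit 1) (nat_lit 0) (nat_lit 1) (nat_lit 0x10001000100010) (.cD (nat_lit 4) (.kA false (nat_lit 0x7b010020051001008010020040001002)) (.cD (nat_lit 20) (.kA true (nat_lit 0xa004008010008021010030071002002)) (.cD (nat_lit 36) (.kS (nat_lit 1) (nat_lit 0x600400801c007002002000002) (nat_lit 4142) (nat_lit 0x8004002007) (nat_lit 0x1101003004000c00100a00a00000600400801c001008003)) (.cD (nat_lit 52) (.kA false (nat_lit 0xa00400801000307b010020041002002002000003)) .nil))))) (.cD (nat_lit 21) (.dfs (nat_lit 4) (nat_lit 0x1004008010020) (nat_lit 0x100c008010020) (nat_lit 0x1002001) (nat_lit 0x100a001) (nat_lit 0) (nat_lit 0) (nat_lit 2) (nat_lit 0) (nat_lit 0x4008010020001001) (nat_lit 4) (nat_lit 1) (nat_lit 0) (nat_lit 1) (nat_lit 0) (nat_lit 1) (nat_lit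 0x10001000100010) (.cD (nat_lit 4) (.kS (nat_lit 1) (nat_lit 0x2004008016005001010030040001002) (nat_lit 4143) (nat_lit 0x8004002003) (nat_lit 0x3100100000200400801000100500101003004000e002002004008016005006004)) (.cD (nat_lit 20) (.kA false (nat_lit 0x7b010020071001008010020060001002002000003)) (.cD (nat_lit 36) (.kA false (nat_lit 0xa00400801000307b010020041002002)) (.cD (nat_lit 52) (.kA true (nat_lit 0xa00400801e007031010030061002002)) .nil))))) .nil))))
theorem c398 : (chk [] [] p398).n x215 s398 = true := by decide +kernel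
noncomputable def p399 : Pf := (.ext (nat_lit 1) (nat_lit 0x59030010048002001) (nat_lit 0x1080060040008) (nat_lit 0x48010059069002010008004002003002) (nat_lit 0x2003004008) (nat_lit 4097) (nat_lit 4234) (nat_lit 0xb004002001) (.dfs (nat_lit 1) (nat_lit 0x1001002004008) (nat_lit 0x100100200400b) (nat_lit 1) (nat_lit 1) (nat_lit 1) (nat_lit 0) (nat_lit 2) (nat_lit 1) (nat_lit 0x1002004008001001) (nat_lit 138) (nat_lit 1) (nat_lit 0) (nat_lit 1) (nat_lit 0) (nat_lit 1) (nat_lit 0) .nil))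
theorem c399 : (chk [] [] p399).n x216 s399 = true := by decide +kernel
noncomputable def p400 : Pf := (.ext (nat_lit 1) (nat_lit 0x59030010048002001) (nat_lit 0x1080060040008) (nat_lit 0x48010059069002010008004002003002) (nat_lit 0x2003004008) (nat_lit 4097) (nat_lit 4234) (nat_lit 0xb004002001) (.dfs (nat_lit 1) (nat_lit 0x1001002004008) (nat_lit 0x100100200400b) (nat_lit 1) (nat_lit 1) (nat_lit 1) (nat_lit 0) (nat_lit 2) (nat_lit 1) (nat_lit 0x1002004008001001) (nat_lit 138) (nat_lit 1) (nat_lit 0) (nat_lit 1) (nat_lit 0) (nat_lit 1) (nat_lit 0) .nil))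
theorem c400 : (chk [] [] p400).n x217 s400 = true := by decide +kernel
noncomputable def p401 : Pf := (.ext (nat_lit 1) (nat_lit 0x2020060080001001) (nat_lit 0x1014060040048036) (nat_lit 0x8006000202201e00101000800400200500504801003005904700304b030010057059003004) (nat_lit 0x4006008010) (nat_lit 0x1080001) (nat_lit 0x1015083) (nat_lit 0x1c00800400200901a008004002001) (.dfs (nat_lit 1) (nat_lit 0x1004006008010) (nat_lit 0x100400600801a) (nat_lit 0x1002001) (nat_lit 0x1002001) (nat_lit 10) (nat_lit 0) (nat_lit 2) (nat_lit 1) (nat_lit 0x2020060080003001) (nat_lit 131) (nat_lit 1) (nat_lit 0) (nat_lit 1) (nat_lit 0) (nat_lit 1) (nat_lit 0x80800000808000008080000080800000000000000000000000000000000) (.cD (nat_lit 131) (.dfs (nat_lit 128) (nat_lit 0x100800c010020) (nat_lit 0x100800c010038) (nat_lit 0x1004002001) (nat_lit 0x1004012005) (nat_lit 0) (nat_lit 0) (nat_lit 2) (nat_lit 1) (nat_lit 0x2020060080003001) (nat_lit 1) (nat_lit 1) (nat_lit 0) (nat_lit 1) (nat_lit 0)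 (nat_lit 1) (nat_lit 0x20200000202000002020000020200000) (.cD (nat_lit 21) (.kS (nat_lit 1) (nat_lit 0x801802002f002062002000002) (nat_lit 4244) (nat_lit 0x800400200d) (nat_lit 0x1000802004206f00101801002000100200100206200000801802002f071001004)) (.cD (nat_lit 29) (.kS (nat_lit 1) (nat_lit 0x8018020037002029001000002) (nat_lit 4340) (nat_lit 0x800400200d) (nat_lit 0x1000802004a06f001018010020001002001001029000008018020037051001004)) (.cD (nat_lit 53) (.kS (nat_lit 1) (nat_lit 0x10008020072001018010020001001002) (nat_lit 4308) (nat_lit 0x800400200d) (nat_lit 0x2900100000801802000f07900201801002000100200201000802007206f002004)) (.cD (nat_lit 61) (.kS (nat_lit 1) (nat_lit 0x1001000000801802001f002002) (nat_lit 4252) (nat_lit 0x800400200d) (nat_lit 0x801002002105700106600600000801802001f069001010010000004)) (.cD (nat_lit 85) (.kS (nat_lit 1) (nat_lit 0x10008020052001018010020001001002) (nat_lit 4276) (nat_lit 0x800400200d) (nat_lit 0x2900100000801802002f05900201801002000100200201000802005206f002004))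 (.cD (nat_lit 93) (.kS (nat_lit 1) (nat_lit 0x1001000000801802003f002002) (nat_lit 4348) (nat_lit 0x800400200d) (nat_lit 0x801002002105700106600600000801802003f049001010010000004)) (.cD (nat_lit 117) (.kS (nat_lit 1) (nat_lit 0x801802000f002062002000002) (nat_lit 4340) (nat_lit 0x800400200d) (nat_lit 0x1000802006206f00101801002000100200100206200000801802000f051001004)) (.cD (nat_lit 125) (.kS (nat_lit 1) (nat_lit 0x8018020017002029001000002) (nat_lit 4244) (nat_lit 0x800400200d) (nat_lit 0x1000802006a06f001018010020001002001001029000008018020017071001004)) .nil))))))))) (.cD (nat_lit 139) (.dfs (nat_lit 128) (nat_lit 0x100800c010020) (nat_lit 0x100800c010038) (nat_lit 0x1004002001) (nat_lit 0x1004012005) (nat_lit 0) (nat_lit 0) (nat_lit 2) (nat_lit 1) (nat_lit 0x2020060080003001) (nat_lit 1) (nat_lit 1) (nat_lit 0) (nat_lit 1) (nat_lit 0) (nat_lit 1) (nat_lit 0x20200000202000002020000020200000) (.cD (nat_lit 21) (.kS (nat_lit 1) (nat_lit 0x10008020042001018010020001001002)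 (nat_lit 4348) (nat_lit 0x800400200d) (nat_lit 0x2900100000801802003f041002018010020001002002010008020042077002004)) (.cD (nat_lit 29) (.kS (nat_lit 1) (nat_lit 0x1001000000801802002f002002) (nat_lit 4340) (nat_lit 0x800400200d) (nat_lit 0x801002002105700106600600000801802002f051001010010000004)) (.cD (nat_lit 53) (.kS (nat_lit 1) (nat_lit 0x801802001f002062002000002) (nat_lit 4284) (nat_lit 0x800400200d) (nat_lit 0x1000802007207700101801002000100200100206200000801802001f049001004)) (.cD (nat_lit 61) (.kS (nat_lit 1) (nat_lit 0x8018020007002029001000002) (nat_lit 4316) (nat_lit 0x800400200d) (nat_lit 0x1000802007a077001018010020001002001001029000008018020007069001004)) (.cD (nat_lit 85) (.kS (nat_lit 1) (nat_lit 0x801802003f002062002000002) (nat_lit 4316) (nat_lit 0x800400200d) (nat_lit 0x1000802005207700101801002000100200100206200000801802003f069001004)) (.cD (nat_lit 93) (.kS (nat_lit 1) (nat_lit 0x8018020027002029001000002) (nat_lit 4284) (nat_lit 0x800400200d)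 (nat_lit 0x1000802005a077001018010020001002001001029000008018020027049001004)) (.cD (nat_lit 117) (.kS (nat_lit 1) (nat_lit 0x10008020062001018010020001001002) (nat_lit 4252) (nat_lit 0x800400200d) (nat_lit 0x2900100000801802001f061002018010020001002002010008020062077002004)) (.cD (nat_lit 125) (.kS (nat_lit 1) (nat_lit 0x1001000000801802000f002002) (nat_lit 4244) (nat_lit 0x800400200d) (nat_lit 0x801002002105700106600600000801802000f071001010010000004)) .nil))))))))) (.cD (nat_lit 163) (.kS (nat_lit 1) (nat_lit 0x400c010020002004004000002020060080003003) (nat_lit 4201) (nat_lit 0x800400200b) (nat_lit 0x400400000400801002000100100400400000400c01002001d001004)) (.cD (nat_lit 171) (.kS (nat_lit 1) (nat_lit 0x400c010020002004004000002020060080003003) (nat_lit 4129) (nat_lit 0x800400200b) (nat_lit 0x400400000400801002000100100400400000400c010020019001004)) (.cD (nat_lit 195) (.kS (nat_lit 1) (nat_lit 0x400c010020002004004000002020060080003003) (nat_lit 4105) (nat_lit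 0x800400200b) (nat_lit 0x400400000400801002000100100400400000400c01002000d001004)) (.cD (nat_lit 203) (.kS (nat_lit 1) (nat_lit 0x400c010020002004004000002020060080003003) (nat_lit 4161) (nat_lit 0x800400200b) (nat_lit 0x400400000400801002000100100400400000400c010020009001004)) (.cD (nat_lit 227) (.dfs (nat_lit 128) (nat_lit 0x100800c010020) (nat_lit 0x100800c010038) (nat_lit 0x1004002001) (nat_lit 0x1004012005) (nat_lit 0) (nat_lit 0) (nat_lit 2) (nat_lit 1) (nat_lit 0x2020060080003001) (nat_lit 1) (nat_lit 1) (nat_lit 0) (nat_lit 1) (nat_lit 0) (nat_lit 1) (nat_lit 0x20200000202000002020000020200000) (.cD (nat_lit 21) (.kS (nat_lit 1) (nat_lit 0x801802000f002062002000002) (nat_lit 4244) (nat_lit 0x800400200d) (nat_lit 0x1000802004204f00101801002000100200100206200000801802000f071001004)) (.cD (nat_lit 29) (.kS (nat_lit 1) (nat_lit 0x8018020017002029001000002) (nat_lit 4340) (nat_lit 0x800400200d) (nat_lit 0x1000802004a04f001018010020001002001001029000008018020017051001004))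 (.cD (nat_lit 53) (.kS (nat_lit 1) (nat_lit 0x10008020072001018010020001001002) (nat_lit 4308) (nat_lit 0x800400200d) (nat_lit 0x2900100000801802002f07900201801002000100200201000802007204f002004)) (.cD (nat_lit 61) (.kS (nat_lit 1) (nat_lit 0x20220600340030080100200580010020200600a2003029001000004) (nat_lit 4234) (nat_lit 0x800400200d) (nat_lit 0x1000802002707b00102000206009f0610030100180200070220020a706d0000020200600a200100400801002005805b00200202206003408a004007)) (.cD (nat_lit 85) (.kS (nat_lit 1) (nat_lit 0x10008020052001018010020001001002) (nat_lit 4276) (nat_lit 0x800400200d) (nat_lit 0x2900100000801802000f05900201801002000100200201000802005204f002004)) (.cD (nat_lit 93) (.kS (nat_lit 1) (nat_lit 0x20220600340030080100200580010020200600a2003029001000004) (nat_lit 4330) (nat_lit 0x800400200d) (nat_lit 0x1000802000707b0010200020600ff0610030100180200270220020a706d0000020200600a200100400801002005805b0020020220600340ea004007)) (.cD (nat_lit 117) (.kS (nat_lit 1)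 (nat_lit 0x801802002f002062002000002) (nat_lit 4340) (nat_lit 0x800400200d) (nat_lit 0x1000802006204f00101801002000100200100206200000801802002f051001004)) (.cD (nat_lit 125) (.kS (nat_lit 1) (nat_lit 0x8018020037002029001000002) (nat_lit 4244) (nat_lit 0x800400200d) (nat_lit 0x1000802006a04f001018010020001002001001029000008018020037071001004)) .nil))))))))) (.cD (nat_lit 235) (.dfs (nat_lit 128) (nat_lit 0x100800c010020) (nat_lit 0x100800c010038) (nat_lit 0x1004002001) (nat_lit 0x1004012005) (nat_lit 0) (nat_lit 0) (nat_lit 2) (nat_lit 1) (nat_lit 0x2020060080003001) (nat_lit 1) (nat_lit 1) (nat_lit 0) (nat_lit 1) (nat_lit 0) (nat_lit 1) (nat_lit 0x20200000202000002020000020200000) (.cD (nat_lit 21) (.kS (nat_lit 1) (nat_lit 0x10008020042001018010020001001002) (nat_lit 4348) (nat_lit 0x800400200d) (nat_lit 0x2900100000801802001f041002018010020001002002010008020042057002004)) (.cD (nat_lit 29) (.kS (nat_lit 1) (nat_lit 0x20220600340030080100200580010020200600a2003029001000004)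 (nat_lit 4322) (nat_lit 0x800400200d) (nat_lit 0x100080200170630010200020600df04300301001802003702a0020a706d0000020200600a200100400801002005805b0020020220600340c8004007)) (.cD (nat_lit 53) (.kS (nat_lit 1) (nat_lit 0x801802003f002062002000002) (nat_lit 4284) (nat_lit 0x800400200d) (nat_lit 0x1000802007205700101801002000100200100206200000801802003f049001004)) (.cD (nat_lit 61) (.kS (nat_lit 1) (nat_lit 0x8018020027002029001000002) (nat_lit 4316) (nat_lit 0x800400200d) (nat_lit 0x1000802007a057001018010020001002001001029000008018020027069001004)) (.cD (nat_lit 85) (.kS (nat_lit 1) (nat_lit 0x801802001f002062002000002) (nat_lit 4316) (nat_lit 0x800400200d) (nat_lit 0x1000802005205700101801002000100200100206200000801802001f069001004)) (.cD (nat_lit 93) (.kS (nat_lit 1) (nat_lit 0x8018020007002029001000002) (nat_lit 4284) (nat_lit 0x800400200d) (nat_lit 0x1000802005a057001018010020001002001001029000008018020007049001004)) (.cD (nat_lit 117) (.kS (nat_lit 1) (nat_lit 0x10008020062001018010020001001002)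 (nat_lit 4252) (nat_lit 0x800400200d) (nat_lit 0x2900100000801802003f061002018010020001002002010008020062057002004)) (.cD (nat_lit 125) (.kS (nat_lit 1) (nat_lit 0x20220600340030080100200580010020200600a2003029001000004) (nat_lit 4226) (nat_lit 0x800400200d) (nat_lit 0x100080200370630010200020600bf04300301001802001702a0020a706d0000020200600a200100400801002005805b0020020220600340a8004007)) .nil))))))))) .nil))))))))))
theorem c401 : (chk [] [] p401).n x218 s401 = true := by decide +kernel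
noncomputable def p402 : Pf := (.ext (nat_lit 1) (nat_lit 0) (nat_lit 0x1200180100020006008050) (nat_lit 0x15e04004c0cc1441651c5001006020010008051005001003100080040020010008004001003) (nat_lit 0x1001802007f) (nat_lit 4099) (nat_lit 4682) (nat_lit 0x4f02001000803c03e03d) (.dfs (nat_lit 3) (nat_lit 0x101001802007f) (nat_lit 0x1010018020070) (nat_lit 0x1040008004002001) (nat_lit 0x104f00803c03e03d) (nat_lit 48) (nat_lit 0) (nat_lit 2) (nat_lit 1) (nat_lit 0) (nat_lit 538) (nat_lit 1) (nat_lit 0) (nat_lit 1) (nat_lit 0) (nat_lit 1) (nat_lit 0) .nil))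
theorem c402 : (chk [] [] p402).n x221 s402 = true := by decide +kernel
noncomputable def p403 : Pf := (.ext (nat_lit 1) (nat_lit 0) (nat_lit 0x1200180100020006008050) (nat_lit 0x15e04004c0cc1441651c5001006020010008051005001003100080040020010008004001003) (nat_lit 0x1001802007f) (nat_lit 4099) (nat_lit 4682) (nat_lit 0x4f02001000803c03e03d) (.dfs (nat_lit 3) (nat_lit 0x101001802007f) (nat_lit 0x1010018020070) (nat_lit 0x1040008004002001) (nat_lit 0x104f00803c03e03d) (nat_lit 48) (nat_lit 0) (nat_lit 2) (nat_lit 1) (nat_lit 0) (nat_lit 538) (nat_lit 1) (nat_lit 0) (nat_lit 1) (nat_lit 0) (nat_lit 1) (nat_lit 0) .nil))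
theorem c403 : (chk [] [] p403).n x222 s403 = true := by decide +kernel
noncomputable def p404 : Pf := (.ext (nat_lit 1) (nat_lit 0) (nat_lit 0x1200180100020006008050) (nat_lit 0x15e04004c0cc1441651c5001006020010008051005001003100080040020010008004001003) (nat_lit 0x1001802007f) (nat_lit 4099) (nat_lit 4682) (nat_lit 0x4f02001000803c03e03d) (.dfs (nat_lit 3) (nat_lit 0x101001802007f) (nat_lit 0x1010018020070) (nat_lit 0x1040008004002001) (nat_lit 0x104f00803c03e03d) (nat_lit 0) (nat_lit 0) (nat_lit 2) (nat_lit 1) (nat_lit 0) (nat_lit 538) (nat_lit 1) (nat_lit 0) (nat_lit 1) (nat_lit 0) (nat_lit 1) (nat_lit 0) .nil))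
theorem c404 : (chk [] [] p404).n x223 s404 = true := by decide +kernel
noncomputable def p405 : Pf := (.ext (nat_lit 1) (nat_lit 0) (nat_lit 0x1200180100020006008050) (nat_lit 0x15e04004c0cc1441651c5001006020010008051005001003100080040020010008004001003) (nat_lit 0x1001802007f) (nat_lit 4099) (nat_lit 4682) (nat_lit 0x4f02001000803c03e03d) (.dfs (nat_lit 3) (nat_lit 0x101001802007f) (nat_lit 0x1010018020070) (nat_lit 0x1040008004002001) (nat_lit 0x104f00803c03e03d) (nat_lit 0) (nat_lit 0) (nat_lit 2) (nat_lit 1) (nat_lit 0) (nat_lit 538) (nat_lit 1) (nat_lit 0) (nat_lit 1) (nat_lit 0) (nat_lit 1) (nat_lit 0) .nil))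
theorem c405 : (chk [] [] p405).n x224 s405 = true := by decide +kernel
noncomputable def p406 : Pf := (.ext (nat_lit 1) (nat_lit 0) (nat_lit 0x1200180100020006008050) (nat_lit 0x15e04004c0cc1441651c5001006020010008051005001003100080040020010008004001003) (nat_lit 0x1001802007f) (nat_lit 4099) (nat_lit 4682) (nat_lit 0x4f02001000803c03e03d) (.dfs (nat_lit 3) (nat_lit 0x101001802007f) (nat_lit 0x1010018020070) (nat_lit 0x1040008004002001) (nat_lit 0x104f00803c03e03d) (nat_lit 32) (nat_lit 0) (nat_lit 2) (nat_lit 1) (nat_lit 0) (nat_lit 538) (nat_lit 1) (nat_lit 0) (nat_lit 1) (nat_lit 0) (nat_lit 1) (nat_lit 0) .nil))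
theorem c406 : (chk [] [] p406).n x225 s406 = true := by decide +kernel
noncomputable def p407 : Pf := (.ext (nat_lit 1) (nat_lit 0) (nat_lit 0x1200180100020006008050) (nat_lit 0x15e04004c0cc1441651c5001006020010008051005001003100080040020010008004001003) (nat_lit 0x1001802007f) (nat_lit 4099) (nat_lit 4682) (nat_lit 0x4f02001000803c03e03d) (.dfs (nat_lit 3) (nat_lit 0x101001802007f) (nat_lit 0x1010018020070) (nat_lit 0x1040008004002001) (nat_lit 0x104f00803c03e03d) (nat_lit 32) (nat_lit 0) (nat_lit 2) (nat_lit 1) (nat_lit 0) (nat_lit 538) (nat_lit 1) (nat_lit 0) (nat_lit 1) (nat_lit 0) (nat_lit 1) (nat_lit 0) .nil))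
theorem c407 : (chk [] [] p407).n x226 s407 = true := by decide +kernel
noncomputable def p408 : Pf := (.ext (nat_lit 1) (nat_lit 0) (nat_lit 0x1200180100020006008050) (nat_lit 0x15e04004c0cc1441651c5001006020010008051005001003100080040020010008004001003) (nat_lit 0x1001802007f) (nat_lit 4099) (nat_lit 4682) (nat_lit 0x4f02001000803c03e03d) (.dfs (nat_lit 3) (nat_lit 0x101001802007f) (nat_lit 0x1010018020070) (nat_lit 0x1040008004002001) (nat_lit 0x104f00803c03e03d) (nat_lit 16) (nat_lit 0) (nat_lit 2) (nat_lit 1) (nat_lit 0) (nat_lit 538) (nat_lit 1) (nat_lit 0) (nat_lit 1) (nat_lit 0) (nat_lit 1) (nat_lit 0) .nil))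
theorem c408 : (chk [] [] p408).n x227 s408 = true := by decide +kernel
noncomputable def p409 : Pf := (.ext (nat_lit 1) (nat_lit 0) (nat_lit 0x1200180100020006008050) (nat_lit 0x15e04004c0cc1441651c5001006020010008051005001003100080040020010008004001003) (nat_lit 0x1001802007f) (nat_lit 4099) (nat_lit 4682) (nat_lit 0x4f02001000803c03e03d) (.dfs (nat_lit 3) (nat_lit 0x101001802007f) (nat_lit 0x1010018020070) (nat_lit 0x1040008004002001) (nat_lit 0x104f00803c03e03d) (nat_lit 16) (nat_lit 0) (nat_lit 2) (nat_lit 1) (nat_lit 0) (nat_lit 538) (nat_lit 1) (nat_lit 0) (nat_lit 1) (nat_lit 0) (nat_lit 1) (nat_lit 0) .nil))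
theorem c409 : (chk [] [] p409).n x228 s409 = true := by decide +kernel
noncomputable def p410 : Pf := (.lft (nat_lit 0xc70c00801b80b41891c31051a60031000400c0005020001008012002001002) (nat_lit 309) (nat_lit 0x11d01c01901801501401101000f80e80b80a8078068038028) (nat_lit 0x1000800400200100080c41fa001) (.extn a54 (nat_lit 0x100080040020010008004002001) (nat_lit 0x1020080040100) (nat_lit 2) (nat_lit 0) (nat_lit 0) (nat_lit 277) (nat_lit 0x200000000000000020000000000000002000000000000000200000000000000000000000000000000000000000000000000000000000000000000000000000) (.cE (nat_lit 309) b137 (nat_lit 0) (.cut (nat_lit 0)) (.cut (nat_lit 1)) (.cE (nat_lit 373) b138 (nat_lit 0) (.cut (nat_lit 2)) (.cut (nat_lit 3)) (.cE (nat_lit 437) b139 (nat_lit 0) (.cut (nat_lit 4)) (.cut (nat_lit 5)) (.cE (nat_lit 501) b140 (nat_lit 0) (.cut (nat_lit 6)) (.cut (nat_lit 7)) .nil))))))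
theorem c410 : (chk [(x221, s402), (x222, s403), (x223, s404), (x224, s405), (x225, s406), (x226, s407), (x227, s408), (x228, s409)] [] p410).n x220 s410 = true := by decide +kernel
noncomputable def p411 : Pf := (.ext (nat_lit 1) (nat_lit 0x20400c0100001001) (nat_lit 0x11000c0080010003004028) (nat_lit 0x6302001801005600a00e0050010010000680200100180620770730051000c00400021f9004030001004) (nat_lit 0x1801002003d) (nat_lit 0x1008001) (nat_lit 0x1007118) (nat_lit 0x7002001001807e00200100102001001806d043040) (.dfs (nat_lit 1) (nat_lit 0x1008010020040) (nat_lit 0x1018010020001) (nat_lit 0x1004002001) (nat_lit 0x106d043040) (nat_lit 0) (nat_lit 0) (nat_lit 2) (nat_lit 1) (nat_lit 0x8010020040001001) (nat_lit 270) (nat_lit 1) (nat_lit 0) (nat_lit 4140) (nat_lit 44) (nat_lit 0x1000134000174) (nat_lit 0x1000000000000000100000000000000000000000000000000000000000000000000000000000000000000000000000) (.cD (nat_lit 308) (.dfs (nat_lit 8) (nat_lit 0x10e304006006d) (nat_lit 0x106104006006b)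 (nat_lit 0x1080020010008004002001) (nat_lit 0x10e00200300fc004002083) (nat_lit 0) (nat_lit 0) (nat_lit 2) (nat_lit 0) (nat_lit 0) (nat_lit 15) (nat_lit 1) (nat_lit 0) (nat_lit 1) (nat_lit 0) (nat_lit 1) (nat_lit 0x80000000000000008000000000000000800000000000000080000000000) (.cD (nat_lit 43) (.kA false (nat_lit 0x1060800c00da0010850400c01400010c4004000003)) (.cD (nat_lit 107) (.kS (nat_lit 1) (nat_lit 0x36020010033005001) (nat_lit 0x104609612a) (nat_lit 0x800400200501000800400e005030010008039037034) (nat_lit 0x6004008000410c1001b600100100100003602001003305707f001006003)) (.cD (nat_lit 171) (.kS (nat_lit 0) (nat_lit 0x1860800c005a0020c4004000002) (nat_lit 0x111202b0e0) (nat_lit 0xe00400200501000800400600102801000802103f02c) (nat_lit 0x450400c01000080410420010140d40001860800c005a1320f4085001003)) (.cD (nat_lit 235) (.kA false (nat_lit 0x1860800c00da0010850400c01400010c4004000003)) .nil))))) (.cD (nat_lit 372) (.dfs (nat_lit 8) (nat_lit 0x108304006000d) (nat_lit 0x100104006000b)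 (nat_lit 0x1080020010008004002001) (nat_lit 0x10e00200300fc004002083) (nat_lit 0) (nat_lit 0) (nat_lit 2) (nat_lit 0) (nat_lit 0) (nat_lit 15) (nat_lit 1) (nat_lit 0) (nat_lit 1) (nat_lit 0) (nat_lit 1) (nat_lit 0x80000000000000008000000000000000800000000000000080000000000) (.cD (nat_lit 43) (.kS (nat_lit 0) (nat_lit 0x1460800c009a0020c4004000002) (nat_lit 0x115202b020) (nat_lit 0xe00400200501000800400600102801000802103f02c) (nat_lit 0x50400c01c000800110600100c0cc0001460800c009a1f20f4005001003)) (.cD (nat_lit 107) (.kA false (nat_lit 0x1c60800c001a0010100100000050400c0100001003)) (.cD (nat_lit 171) (.kA false (nat_lit 0x1460800c001a0010100100000050400c0100001003)) (.cD (nat_lit 235) (.cut (nat_lit 0)) .nil))))) .nil))))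
theorem c411 : (chk [(x220, s410)] [] p411).n x220 s411 = true := by decide +kernel
noncomputable def p412 : Pf := (.ext (nat_lit 0) (nat_lit 0) (nat_lit 0x1100040080020008001004010) (nat_lit 0x80040020010008002001067001001) (nat_lit 0x50060040008) (nat_lit 4098) (nat_lit 4131) (nat_lit 0xa10400200f30ca0fc043001) (.dfs (nat_lit 2) (nat_lit 0x1050060040008) (nat_lit 0x10b30600400ca) (nat_lit 0x1080020010004002001) (nat_lit 0x10a10200f30fc043001) (nat_lit 65) (nat_lit 0) (nat_lit 2) (nat_lit 0) (nat_lit 0) (nat_lit 27) (nat_lit 1) (nat_lit 0) (nat_lit 1) (nat_lit 0) (nat_lit 1) (nat_lit 0x800000000000000080000000000000008000000000000000800000000) (.cD (nat_lit 35) (.kS (nat_lit 0) (nat_lit 0x20040080100001001) (nat_lit 0x11b01000010ac023) (nat_lit 0xe00400200501000800400600102801000802103f02c0600200100080040220210f904002005102903c0f6001) (nat_lit 0xa00c0080010162100008074159002020040080100004010008002001002002)) (.cD (nat_lit 99) (.kS (nat_lit 0) (nat_lit 0x20040080100001001)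 (nat_lit 0x11b01000010ac063) (nat_lit 0xe00400200501000800400600102801000802103f02c0600200100080040220210f904002005102903c0f6001) (nat_lit 0xa00c00800101621000080741d9002020040080100004010008002001002002)) (.cD (nat_lit 163) (.iso x220 s411 (nat_lit 0) (nat_lit 0x1100080040020010008004043001) (nat_lit 0x100080040020010008004043001) [(nat_lit 0x100080040020010008004002179001001), (nat_lit 0x100400c00741621a01d100103301802001a03701f0470050c40040000b90400c007408d04f18d001161009000005), (nat_lit 0x520020000b00c00420020341031c20010780200100080340660170070520020001600400c00b40c217f1cb001052002000006)] (.cut (nat_lit 0))) (.cD (nat_lit 227) (.iso x220 s411 (nat_lit 0) (nat_lit 0x1100080040020010008004003041) (nat_lit 0x100080040020010008004043041) [(nat_lit 0x1000800400200100880040021f9001001), (nat_lit 0x100400c00741621a01d100103301802001a03701f0470050c40040000390400c007400d0cf10d001161009000005), (nat_lit 0x520020000b00c00420020341031c20010780200100080340660170070520020001600400c00b40c21ff14b001052002000006)]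 (.cut (nat_lit 0))) .nil))))))
theorem c412 : (chk [(x220, s411)] [g136] p412).n x219 s412 = true := by decide +kernel
noncomputable def p413 : Pf := (.ext (nat_lit 0) (nat_lit 0) (nat_lit 0x1100040080020008015) (nat_lit 0x2010018014020023002001001000020010008004002001001003) (nat_lit 0x14018010002) (nat_lit 0x1004001) (nat_lit 0x1110001) (nat_lit 0x2801000801c00203f006010008014034037) (.dfs (nat_lit 1) (nat_lit 0x1014018010002) (nat_lit 0x1004018010034) (nat_lit 0x1020008004001) (nat_lit 0x1006008014037) (nat_lit 0) (nat_lit 0) (nat_lit 2) (nat_lit 0) (nat_lit 0) (nat_lit 1) (nat_lit 1) (nat_lit 0) (nat_lit 4128) (nat_lit 32) (nat_lit 0x1000001000081) (nat_lit 0x200000000000000000000000000000002) (.cD (nat_lit 1) (.dfs (nat_lit 4) (nat_lit 0x1028030020004) (nat_lit 0x1018030020004) (nat_lit 0x1040010008002001) (nat_lit 0x105001003807e05d) (nat_lit 48) (nat_lit 0) (nat_lit 2) (nat_lit 0) (nat_lit 0) (nat_lit 16) (nat_lit 1) (nat_lit 0) (nat_lit 1) (nat_lit 0) (nat_lit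 1) (nat_lit 0x10000000000000001000000000000000100000000000000010000000000000000000000000000000000000000000000000000000000000000000000000000) (.cD (nat_lit 304) (.kA false (nat_lit 0x280300200480090f60200400c7001052002000003)) (.cD (nat_lit 368) (.kA false (nat_lit 0x280300200480090b6060040071002052002000003)) (.cD (nat_lit 432) (.cut (nat_lit 0)) (.cD (nat_lit 496) (.kA true (nat_lit 0x6701003001700a052002000067020060080001003)) .nil))))) (.cD (nat_lit 129) (.dfs (nat_lit 4) (nat_lit 0x1028030020004) (nat_lit 0x1018030020004) (nat_lit 0x1040010008002001) (nat_lit 0x105001003807e05d) (nat_lit 48) (nat_lit 0) (nat_lit 2) (nat_lit 0) (nat_lit 0) (nat_lit 16) (nat_lit 1) (nat_lit 0) (nat_lit 1) (nat_lit 0) (nat_lit 1) (nat_lit 0x10000000000000001000000000000000100000000000000010000000000000000000000000000000000000000000000000000000000000000000000000000) (.cD (nat_lit 304) (.kA false (nat_lit 0x7a01002001700a0960600400c90021fb003000003)) (.cD (nat_lit 368) (.kA false (nat_lit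 0x180300200480090d6060040071002052002000003)) (.cD (nat_lit 432) (.kA true (nat_lit 0x19060020008001067020060080001002)) (.cD (nat_lit 496) (.kA true (nat_lit 0x59060020008001067020060080001002)) .nil))))) .nil))))
theorem c413 : (chk [(x219, s412)] [] p413).n x219 s413 = true := by decide +kernel
noncomputable def p414 : Pf := (.ext (nat_lit 0) (nat_lit 0) (nat_lit 0x1100040080020008) (nat_lit 0x1400800400a019007052002000002) (nat_lit 0x400e008014) (nat_lit 4117) (nat_lit 4117) (nat_lit 0xf008004002016) (.dfs (nat_lit 21) (nat_lit 0x100400e008014) (nat_lit 0x100400e00800b) (nat_lit 0x1010002001) (nat_lit 0x100f002016) (nat_lit 31) (nat_lit 0) (nat_lit 2) (nat_lit 0) (nat_lit 0) (nat_lit 21) (nat_lit 1) (nat_lit 0) (nat_lit 1) (nat_lit 0) (nat_lit 1) (nat_lit 0x20000000200000002000000020000000200000002000000020000000200000) (.cD (nat_lit 21) (.cut (nat_lit 0)) (.cD (nat_lit 53) (.kS (nat_lit 0) (nat_lit 0x401c0100340020c4004000002) (nat_lit 0x10481fd) (nat_lit 0x800400200301000800401d01a)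 (nat_lit 0xc40040000040080100200020010010040c400000401c010034012037001004)) (.cD (nat_lit 85) (.kS (nat_lit 0) (nat_lit 0x801c010038002008008000002) (nat_lit 0x104813d) (nat_lit 0x800400200301000800401d01a) (nat_lit 0x1c00401002401201100100400801002000200100100800800000801c01003801202f001004)) (.cD (nat_lit 117) (.kS (nat_lit 0) (nat_lit 0x401c0100340020c4004000002) (nat_lit 0x10481bd) (nat_lit 0x800400200301000800401d01a) (nat_lit 0xc40040000040080100200020010010040c400000401c010034012027001004)) (.cD (nat_lit 149) (.kS (nat_lit 0) (nat_lit 0x401c0100340020c4004000002) (nat_lit 0x104819d) (nat_lit 0x800400200301000800401d01a) (nat_lit 0xc40040000040080100200020010010040c400000401c010034012023001004)) (.cD (nat_lit 181) (.iso x219 s413 (nat_lit 0) (nat_lit 0x1100080040020010008004002081) (nat_lit 0x100080040020010008004002081) [(nat_lit 0x20010008004002009001001), (nat_lit 0x40020010008004002001003001), (nat_lit 0x40020010008004002001005001), (nat_lit 0x40020010008004002001007001)]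 (.cut (nat_lit 0))) (.cD (nat_lit 213) (.kS (nat_lit 0) (nat_lit 0x401c0100340020c4004000002) (nat_lit 0x10481dd) (nat_lit 0x800400200301000800401d01a) (nat_lit 0xc40040000040080100200020010010040c400000401c010034012033001004)) (.cD (nat_lit 245) (.kS (nat_lit 0) (nat_lit 0x801c010038002008008000002) (nat_lit 0x104815d) (nat_lit 0x800400200301000800401d01a) (nat_lit 0x1c00401002401201d00100400801002000200100100800800000801c01003801203b001004)) .nil))))))))))
theorem c414 : (chk [(x219, s413)] [g123] p414).n x219 s414 = true := by decide +kernel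
noncomputable def p415 : Pf := (.anc (nat_lit 42) (nat_lit 0x1002100100000002) (nat_lit 0x110304003a010) (.czp (nat_lit 256) (nat_lit 0) (nat_lit 0x1100080040020010) z7 (.dfs (nat_lit 16) (nat_lit 4097) (nat_lit 4097) (nat_lit 1) (nat_lit 1) (nat_lit 0) (nat_lit 0) (nat_lit 3) (nat_lit 0) (nat_lit 0) (nat_lit 0) (nat_lit 1) (nat_lit 0) (nat_lit 0x1020010) (nat_lit 0x20010) (nat_lit 0x1001010000020001050000060) (nat_lit 0x1000000000000000100000001000100010000000100010000) (.cD (nat_lit 16) (.dfs (nat_lit 58) (nat_lit 4098) (nat_lit 4098) (nat_lit 4097) (nat_lit 4097) (nat_lit 0) (nat_lit 0) (nat_lit 3) (nat_lit 0) (nat_lit 0) (nat_lit 0) (nat_lit 1) (nat_lit 0) (nat_lit 1) (nat_lit 0) (nat_lit 1) (nat_lit 0x100010000000000010001000000000001000100000000000100010000000000000000000000000000000000000000000000000000000000000000) (.cD (nat_lit 256) (.kc (nat_lit 144) (nat_lit 0x5001001)) (.cD (nat_lit 272) (.kc (nat_lit 128) (nat_lit 0x7001001)) (.cD (nat_lit 320) (.kF (nat_lit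 320) (nat_lit 0x11001004100100000001004002003)) (.cD (nat_lit 336) (.kF (nat_lit 336) (nat_lit 0x11001004100100000001004002003)) (.cD (nat_lit 384) (.dfs (nat_lit 64) (nat_lit 4100) (nat_lit 4100) (nat_lit 0x1002001) (nat_lit 0x1002001) (nat_lit 0) (nat_lit 0) (nat_lit 3) (nat_lit 0) (nat_lit 0) (nat_lit 0) (nat_lit 1) (nat_lit 0) (nat_lit 1) (nat_lit 0) (nat_lit 1) (nat_lit 0x10001000000000001000100000000000100010000000000010000) (.cD (nat_lit 16) (.kc (nat_lit 80) (nat_lit 0x5001001)) (.cD (nat_lit 64) (.kA true (nat_lit 0x801002800100410010000000400a00b008002003)) (.cD (nat_lit 80) (.dfs (nat_lit 259) (nat_lit 4101) (nat_lit 4107) (nat_lit 1) (nat_lit 1) (nat_lit 0) (nat_lit 0) (nat_lit 1) (nat_lit 4160) (nat_lit 0x1000800400200100080c4052001) (nat_lit 0) (nat_lit 1) (nat_lit 0) (nat_lit 1) (nat_lit 0) (nat_lit 1) (nat_lit 0) .nil) (.cD (nat_lit 128) (.kc (nat_lit 208) (nat_lit 0xb001001)) (.cD (nat_lit 144) (.kc (nat_lit 192) (nat_lit 0xf001001)) (.cD (nat_lit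 192) (.kA true (nat_lit 0x1801003800100400e00a001003002008008000003)) (.cD (nat_lit 208) (.kA true (nat_lit 0x801003000100410010000000400a005008002003)) .nil)))))))) (.cD (nat_lit 400) (.dfs (nat_lit 64) (nat_lit 4100) (nat_lit 4100) (nat_lit 0x1002001) (nat_lit 0x1002001) (nat_lit 0) (nat_lit 0) (nat_lit 3) (nat_lit 0) (nat_lit 0) (nat_lit 0) (nat_lit 1) (nat_lit 0) (nat_lit 1) (nat_lit 0) (nat_lit 1) (nat_lit 0x10001000000000001000100000000000100010000000000010000) (.cD (nat_lit 16) (.kc (nat_lit 80) (nat_lit 0x5001001)) (.cD (nat_lit 64) (.dfs (nat_lit 259) (nat_lit 0x100400e00f008) (nat_lit 0x100a00e00f008) (nat_lit 0x1002001) (nat_lit 0x100c001) (nat_lit 0) (nat_lit 0) (nat_lit 2) (nat_lit 1) (nat_lit 0) (nat_lit 32) (nat_lit 1) (nat_lit 0) (nat_lit 4112) (nat_lit 16) (nat_lit 0x1000020000060) (nat_lit 0x1000000000000000100000000) (.cD (nat_lit 32) (.kb (nat_lit 425) (nat_lit 0x2052000040006011001003) (nat_lit 0x10800401081141fe103)) (.cD (nat_lit 96) (.kb (nat_lit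 489) (nat_lit 0x2052000040006013001003) (nat_lit 0x10800401081141fe103)) .nil))) (.cD (nat_lit 80) (.kA true (nat_lit 0x801802800100410010000000400e00b008002003)) (.cD (nat_lit 128) (.kc (nat_lit 192) (nat_lit 0xf001001)) (.cD (nat_lit 144) (.kc (nat_lit 208) (nat_lit 0xb001001)) (.cD (nat_lit 192) (.kA true (nat_lit 0x801803800100410010000000400e001008002003)) (.cD (nat_lit 208) (.kA true (nat_lit 0x1001803000100400a00e005003002008008000003)) .nil)))))))) (.cD (nat_lit 448) (.kF (nat_lit 448) (nat_lit 0x11001004100100000001004002003)) (.cD (nat_lit 464) (.kF (nat_lit 464) (nat_lit 0x11001004100100000001004002003)) .nil))))))))) (.cD (nat_lit 32) (.dfs (nat_lit 58) (nat_lit 4098) (nat_lit 4098) (nat_lit 4097) (nat_lit 4097) (nat_lit 0) (nat_lit 0) (nat_lit 3) (nat_lit 0) (nat_lit 0) (nat_lit 0) (nat_lit 1) (nat_lit 0) (nat_lit 1) (nat_lit 0) (nat_lit 1) (nat_lit 0x1000000010000000100000001000000010000000100000001000000010000000000000000000000000000000000000000000000000000000000000000)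 (.cD (nat_lit 256) (.kc (nat_lit 144) (nat_lit 0x5001001)) (.cD (nat_lit 288) (.kc (nat_lit 128) (nat_lit 0x7001001)) (.cD (nat_lit 320) (.kF (nat_lit 320) (nat_lit 0x11001004100100000001004002003)) (.cD (nat_lit 352) (.kF (nat_lit 352) (nat_lit 0x11001004100100000001004002003)) (.cD (nat_lit 384) (.kF (nat_lit 32) (nat_lit 0xc40040000020010010c4004000002004002004)) (.cD (nat_lit 416) (.kF (nat_lit 32) (nat_lit 0xc4004000005003001001001000002004002004)) (.cD (nat_lit 448) (.kF (nat_lit 448) (nat_lit 0x11001004100100000001004002003)) (.cD (nat_lit 480) (.kF (nat_lit 480) (nat_lit 0x11001004100100000001004002003)) .nil))))))))) (.cD (nat_lit 64) (.kF (nat_lit 64) (nat_lit 0x8001004100100000001002002003)) (.cD (nat_lit 80) (.kF (nat_lit 80) (nat_lit 0x8001004100100000001002002003)) (.cD (nat_lit 96) (.kF (nat_lit 96) (nat_lit 0x8001004100100000001002002003)) (.cD (nat_lit 128) (.dfs (nat_lit 58) (nat_lit 4098) (nat_lit 4098) (nat_lit 4097) (nat_lit 4097) (nat_lit 0)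 (nat_lit 0) (nat_lit 3) (nat_lit 0) (nat_lit 0) (nat_lit 0) (nat_lit 1) (nat_lit 0) (nat_lit 0x1020010) (nat_lit 0x20010) (nat_lit 0x1001110000120001150000160) (nat_lit 0x10000000000000001000000010001000100000001000100010000000000000000000000000000000000000000000000000000000000000000) (.cD (nat_lit 256) (.kc (nat_lit 144) (nat_lit 0x5001001)) (.cD (nat_lit 272) (.dfs (nat_lit 64) (nat_lit 4100) (nat_lit 4100) (nat_lit 0x1002001) (nat_lit 0x1002001) (nat_lit 0) (nat_lit 0) (nat_lit 3) (nat_lit 0) (nat_lit 0) (nat_lit 0) (nat_lit 1) (nat_lit 0) (nat_lit 1) (nat_lit 0) (nat_lit 1) (nat_lit 0x10001000000000001000100000000000100010000000000010000) (.cD (nat_lit 16) (.kc (nat_lit 208) (nat_lit 0xb001001)) (.cD (nat_lit 64) (.kA true (nat_lit 0x1000803000100410010000000a004005008002003)) (.cD (nat_lit 80) (.dfs (nat_lit 259) (nat_lit 4100) (nat_lit 4106) (nat_lit 1) (nat_lit 1) (nat_lit 0) (nat_lit 0) (nat_lit 1) (nat_lit 4224) (nat_lit 0x1000800400200100080c4052001) (nat_lit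 0) (nat_lit 1) (nat_lit 0) (nat_lit 1) (nat_lit 0) (nat_lit 1) (nat_lit 0) .nil) (.cD (nat_lit 128) (.kc (nat_lit 80) (nat_lit 0x5001001)) (.cD (nat_lit 144) (.kc (nat_lit 192) (nat_lit 0xf001001)) (.cD (nat_lit 192) (.kA true (nat_lit 0x1000803800100410010000000a004001008002003)) (.cD (nat_lit 208) (.kA true (nat_lit 0x1000802800100410010000000a00400b008002003)) .nil)))))))) (.cD (nat_lit 288) (.kF (nat_lit 128) (nat_lit 0xc400400000500600112d005000002004002004)) (.cD (nat_lit 320) (.kF (nat_lit 320) (nat_lit 0x11001004100100000001004002003)) (.cD (nat_lit 336) (.kF (nat_lit 336) (nat_lit 0x11001004100100000001004002003)) (.cD (nat_lit 352) (.kF (nat_lit 352) (nat_lit 0x11001004100100000001004002003)) (.cD (nat_lit 384) (.kc (nat_lit 128) (nat_lit 0x7001001)) (.cD (nat_lit 448) (.kF (nat_lit 448) (nat_lit 0x11001004100100000001004002003)) .nil))))))))) (.cD (nat_lit 192) (.kF (nat_lit 192) (nat_lit 0x8001004100100000001002002003)) .nil))))))))))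
theorem c415 : (chk [] [] p415).n x229 s415 = true := by decide +kernel
noncomputable def p416 : Pf := (.anc (nat_lit 42) (nat_lit 0x1002100100000002) (nat_lit 0x110304003a010) (.czp (nat_lit 256) (nat_lit 0) (nat_lit 0x1100080040020010) z7 (.dfs (nat_lit 16) (nat_lit 4097) (nat_lit 4097) (nat_lit 1) (nat_lit 1) (nat_lit 0) (nat_lit 0) (nat_lit 3) (nat_lit 0) (nat_lit 0) (nat_lit 0) (nat_lit 1) (nat_lit 0) (nat_lit 0x1020010) (nat_lit 0x20010) (nat_lit 0x1001010000020001050000060) (nat_lit 0x1000000000000000100000001000100010000000100010000) (.cD (nat_lit 16) (.dfs (nat_lit 58) (nat_lit 4098) (nat_lit 4098) (nat_lit 4097) (nat_lit 4097) (nat_lit 0) (nat_lit 0) (nat_lit 3) (nat_lit 0) (nat_lit 0) (nat_lit 0) (nat_lit 1) (nat_lit 0) (nat_lit 1) (nat_lit 0) (nat_lit 1) (nat_lit 0x100010000000000010001000000000001000100000000000100010000000000000000000000000000000000000000000000000000000000000000) (.cD (nat_lit 256) (.kc (nat_lit 144) (nat_lit 0x5001001)) (.cD (nat_lit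 272) (.kc (nat_lit 128) (nat_lit 0x7001001)) (.cD (nat_lit 320) (.kF (nat_lit 320) (nat_lit 0x11001004100100000001004002003)) (.cD (nat_lit 336) (.kF (nat_lit 336) (nat_lit 0x11001004100100000001004002003)) (.cD (nat_lit 384) (.dfs (nat_lit 64) (nat_lit 4100) (nat_lit 4100) (nat_lit 0x1002001) (nat_lit 0x1002001) (nat_lit 0) (nat_lit 0) (nat_lit 3) (nat_lit 0) (nat_lit 0) (nat_lit 0) (nat_lit 1) (nat_lit 0) (nat_lit 1) (nat_lit 0) (nat_lit 1) (nat_lit 0x10001000000000001000100000000000100010000000000010000) (.cD (nat_lit 16) (.kc (nat_lit 80) (nat_lit 0x5001001)) (.cD (nat_lit 64) (.kA true (nat_lit 0x801002800100410010000000400a00b008002003)) (.cD (nat_lit 80) (.dfs (nat_lit 259) (nat_lit 4101) (nat_lit 4107) (nat_lit 1) (nat_lit 1) (nat_lit 1) (nat_lit 0) (nat_lit 1) (nat_lit 4160) (nat_lit 0x1000800400200100080c4052041) (nat_lit 0) (nat_lit 1) (nat_lit 0) (nat_lit 1) (nat_lit 0) (nat_lit 1) (nat_lit 0) .nil) (.cD (nat_lit 128) (.kc (nat_lit 208) (nat_lit 0xb001001))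 (.cD (nat_lit 144) (.kc (nat_lit 192) (nat_lit 0xf001001)) (.cD (nat_lit 192) (.kA true (nat_lit 0x1801003800100400e00a001003002008008000003)) (.cD (nat_lit 208) (.kA true (nat_lit 0x801003000100410010000000400a005008002003)) .nil)))))))) (.cD (nat_lit 400) (.dfs (nat_lit 64) (nat_lit 4100) (nat_lit 4100) (nat_lit 0x1002001) (nat_lit 0x1002001) (nat_lit 0) (nat_lit 0) (nat_lit 3) (nat_lit 0) (nat_lit 0) (nat_lit 0) (nat_lit 1) (nat_lit 0) (nat_lit 1) (nat_lit 0) (nat_lit 1) (nat_lit 0x10001000000000001000100000000000100010000000000010000) (.cD (nat_lit 16) (.kc (nat_lit 80) (nat_lit 0x5001001)) (.cD (nat_lit 64) (.dfs (nat_lit 259) (nat_lit 0x100400e00f008) (nat_lit 0x100a00e00f008) (nat_lit 0x1002001) (nat_lit 0x100c001) (nat_lit 1) (nat_lit 0) (nat_lit 2) (nat_lit 1) (nat_lit 0) (nat_lit 32) (nat_lit 1) (nat_lit 0) (nat_lit 1) (nat_lit 0) (nat_lit 1) (nat_lit 0) .nil) (.cD (nat_lit 80) (.kA true (nat_lit 0x801802800100410010000000400e00b008002003)) (.cD (nat_lit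 128) (.kc (nat_lit 192) (nat_lit 0xf001001)) (.cD (nat_lit 144) (.kc (nat_lit 208) (nat_lit 0xb001001)) (.cD (nat_lit 192) (.kA true (nat_lit 0x801803800100410010000000400e001008002003)) (.cD (nat_lit 208) (.kA true (nat_lit 0x1001803000100400a00e005003002008008000003)) .nil)))))))) (.cD (nat_lit 448) (.kF (nat_lit 448) (nat_lit 0x11001004100100000001004002003)) (.cD (nat_lit 464) (.kF (nat_lit 464) (nat_lit 0x11001004100100000001004002003)) .nil))))))))) (.cD (nat_lit 32) (.dfs (nat_lit 58) (nat_lit 4098) (nat_lit 4098) (nat_lit 4097) (nat_lit 4097) (nat_lit 0) (nat_lit 0) (nat_lit 3) (nat_lit 0) (nat_lit 0) (nat_lit 0) (nat_lit 1) (nat_lit 0) (nat_lit 1) (nat_lit 0) (nat_lit 1) (nat_lit 0x1000000010000000100000001000000010000000100000001000000010000000000000000000000000000000000000000000000000000000000000000) (.cD (nat_lit 256) (.kc (nat_lit 144) (nat_lit 0x5001001)) (.cD (nat_lit 288) (.kc (nat_lit 128) (nat_lit 0x7001001)) (.cD (nat_lit 320) (.kF (nat_lit 320)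 (nat_lit 0x11001004100100000001004002003)) (.cD (nat_lit 352) (.kF (nat_lit 352) (nat_lit 0x11001004100100000001004002003)) (.cD (nat_lit 384) (.kF (nat_lit 32) (nat_lit 0xc40040000020010010c4004000002004002004)) (.cD (nat_lit 416) (.kF (nat_lit 32) (nat_lit 0xc4004000005003001041001000002004002004)) (.cD (nat_lit 448) (.kF (nat_lit 448) (nat_lit 0x11001004100100000001004002003)) (.cD (nat_lit 480) (.kF (nat_lit 480) (nat_lit 0x11001004100100000001004002003)) .nil))))))))) (.cD (nat_lit 64) (.kF (nat_lit 64) (nat_lit 0x8001004100100000001002002003)) (.cD (nat_lit 80) (.kF (nat_lit 80) (nat_lit 0x8001004100100000001002002003)) (.cD (nat_lit 96) (.kF (nat_lit 96) (nat_lit 0x8001004100100000001002002003)) (.cD (nat_lit 128) (.dfs (nat_lit 58) (nat_lit 4098) (nat_lit 4098) (nat_lit 4097) (nat_lit 4097) (nat_lit 0) (nat_lit 0) (nat_lit 3) (nat_lit 0) (nat_lit 0) (nat_lit 0) (nat_lit 1) (nat_lit 0) (nat_lit 0x1020010) (nat_lit 0x20010) (nat_lit 0x1001110000120001150000160)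 (nat_lit 0x10000000000000001000000010001000100000001000100010000000000000000000000000000000000000000000000000000000000000000) (.cD (nat_lit 256) (.kc (nat_lit 144) (nat_lit 0x5001001)) (.cD (nat_lit 272) (.dfs (nat_lit 64) (nat_lit 4100) (nat_lit 4100) (nat_lit 0x1002001) (nat_lit 0x1002001) (nat_lit 0) (nat_lit 0) (nat_lit 3) (nat_lit 0) (nat_lit 0) (nat_lit 0) (nat_lit 1) (nat_lit 0) (nat_lit 1) (nat_lit 0) (nat_lit 1) (nat_lit 0x10001000000000001000100000000000100010000000000010000) (.cD (nat_lit 16) (.kc (nat_lit 208) (nat_lit 0xb001001)) (.cD (nat_lit 64) (.kA true (nat_lit 0x1000803000100410010000000a004005008002003)) (.cD (nat_lit 80) (.dfs (nat_lit 259) (nat_lit 4100) (nat_lit 4106) (nat_lit 1) (nat_lit 1) (nat_lit 1) (nat_lit 0) (nat_lit 1) (nat_lit 4224) (nat_lit 0x1000800400200100080c4052041) (nat_lit 0) (nat_lit 1) (nat_lit 0) (nat_lit 1) (nat_lit 0) (nat_lit 1) (nat_lit 0) .nil) (.cD (nat_lit 128) (.kc (nat_lit 80) (nat_lit 0x5001001)) (.cD (nat_lit 144)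 (.kc (nat_lit 192) (nat_lit 0xf001001)) (.cD (nat_lit 192) (.kA true (nat_lit 0x1000803800100410010000000a004001008002003)) (.cD (nat_lit 208) (.kA true (nat_lit 0x1000802800100410010000000a00400b008002003)) .nil)))))))) (.cD (nat_lit 288) (.kF (nat_lit 128) (nat_lit 0xc400400000500600116d005000002004002004)) (.cD (nat_lit 320) (.kF (nat_lit 320) (nat_lit 0x11001004100100000001004002003)) (.cD (nat_lit 336) (.kF (nat_lit 336) (nat_lit 0x11001004100100000001004002003)) (.cD (nat_lit 352) (.kF (nat_lit 352) (nat_lit 0x11001004100100000001004002003)) (.cD (nat_lit 384) (.kc (nat_lit 128) (nat_lit 0x7001001)) (.cD (nat_lit 448) (.kF (nat_lit 448) (nat_lit 0x11001004100100000001004002003)) .nil))))))))) (.cD (nat_lit 192) (.kF (nat_lit 192) (nat_lit 0x8001004100100000001002002003)) .nil))))))))))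
theorem c416 : (chk [] [] p416).n x230 s416 = true := by decide +kernel
noncomputable def p417 : Pf := (.anc (nat_lit 42) (nat_lit 0x1002100100000002) (nat_lit 0x110304003a010) (.czp (nat_lit 256) (nat_lit 0) (nat_lit 0x1100080040020010) z7 (.dfs (nat_lit 16) (nat_lit 4097) (nat_lit 4097) (nat_lit 1) (nat_lit 1) (nat_lit 0) (nat_lit 0) (nat_lit 3) (nat_lit 0) (nat_lit 0) (nat_lit 0) (nat_lit 1) (nat_lit 0) (nat_lit 0x1020010) (nat_lit 0x20010) (nat_lit 0x1001010000020001050000060) (nat_lit 0x1000000000000000100000001000100010000000100010000) (.cD (nat_lit 16) (.dfs (nat_lit 58) (nat_lit 4098) (nat_lit 4098) (nat_lit 4097) (nat_lit 4097) (nat_lit 0) (nat_lit 0) (nat_lit 3) (nat_lit 0) (nat_lit 0) (nat_lit 0) (nat_lit 1) (nat_lit 0) (nat_lit 1) (nat_lit 0) (nat_lit 1) (nat_lit 0x100010000000000010001000000000001000100000000000100010000000000000000000000000000000000000000000000000000000000000000) (.cD (nat_lit 256) (.kc (nat_lit 144) (nat_lit 0x5001001)) (.cD (nat_lit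 272) (.kc (nat_lit 128) (nat_lit 0x7001001)) (.cD (nat_lit 320) (.kF (nat_lit 320) (nat_lit 0x11001004100100000001004002003)) (.cD (nat_lit 336) (.kF (nat_lit 336) (nat_lit 0x11001004100100000001004002003)) (.cD (nat_lit 384) (.dfs (nat_lit 64) (nat_lit 4100) (nat_lit 4100) (nat_lit 0x1002001) (nat_lit 0x1002001) (nat_lit 0) (nat_lit 0) (nat_lit 3) (nat_lit 0) (nat_lit 0) (nat_lit 0) (nat_lit 1) (nat_lit 0) (nat_lit 1) (nat_lit 0) (nat_lit 1) (nat_lit 0x10001000000000001000100000000000100010000000000010000) (.cD (nat_lit 16) (.kc (nat_lit 80) (nat_lit 0x5001001)) (.cD (nat_lit 64) (.kA true (nat_lit 0x801002800100410010000000400a00b008002003)) (.cD (nat_lit 80) (.dfs (nat_lit 259) (nat_lit 4101) (nat_lit 4107) (nat_lit 1) (nat_lit 1) (nat_lit 1) (nat_lit 0) (nat_lit 1) (nat_lit 4160) (nat_lit 0x1000800400200100080c4052041) (nat_lit 0) (nat_lit 1) (nat_lit 0) (nat_lit 1) (nat_lit 0) (nat_lit 1) (nat_lit 0) .nil) (.cD (nat_lit 128) (.kc (nat_lit 208) (nat_lit 0xb001001))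 (.cD (nat_lit 144) (.kc (nat_lit 192) (nat_lit 0xf001001)) (.cD (nat_lit 192) (.kA true (nat_lit 0x1801003800100400e00a001003002008008000003)) (.cD (nat_lit 208) (.kA true (nat_lit 0x801003000100410010000000400a005008002003)) .nil)))))))) (.cD (nat_lit 400) (.dfs (nat_lit 64) (nat_lit 4100) (nat_lit 4100) (nat_lit 0x1002001) (nat_lit 0x1002001) (nat_lit 0) (nat_lit 0) (nat_lit 3) (nat_lit 0) (nat_lit 0) (nat_lit 0) (nat_lit 1) (nat_lit 0) (nat_lit 1) (nat_lit 0) (nat_lit 1) (nat_lit 0x10001000000000001000100000000000100010000000000010000) (.cD (nat_lit 16) (.kc (nat_lit 80) (nat_lit 0x5001001)) (.cD (nat_lit 64) (.dfs (nat_lit 259) (nat_lit 0x100400e00f008) (nat_lit 0x100a00e00f008) (nat_lit 0x1002001) (nat_lit 0x100c001) (nat_lit 1) (nat_lit 0) (nat_lit 2) (nat_lit 1) (nat_lit 0) (nat_lit 32) (nat_lit 1) (nat_lit 0) (nat_lit 1) (nat_lit 0) (nat_lit 1) (nat_lit 0) .nil) (.cD (nat_lit 80) (.kA true (nat_lit 0x801802800100410010000000400e00b008002003)) (.cD (nat_lit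 128) (.kc (nat_lit 192) (nat_lit 0xf001001)) (.cD (nat_lit 144) (.kc (nat_lit 208) (nat_lit 0xb001001)) (.cD (nat_lit 192) (.kA true (nat_lit 0x801803800100410010000000400e001008002003)) (.cD (nat_lit 208) (.kA true (nat_lit 0x1001803000100400a00e005003002008008000003)) .nil)))))))) (.cD (nat_lit 448) (.kF (nat_lit 448) (nat_lit 0x11001004100100000001004002003)) (.cD (nat_lit 464) (.kF (nat_lit 464) (nat_lit 0x11001004100100000001004002003)) .nil))))))))) (.cD (nat_lit 32) (.dfs (nat_lit 58) (nat_lit 4098) (nat_lit 4098) (nat_lit 4097) (nat_lit 4097) (nat_lit 0) (nat_lit 0) (nat_lit 3) (nat_lit 0) (nat_lit 0) (nat_lit 0) (nat_lit 1) (nat_lit 0) (nat_lit 1) (nat_lit 0) (nat_lit 1) (nat_lit 0x1000000010000000100000001000000010000000100000001000000010000000000000000000000000000000000000000000000000000000000000000) (.cD (nat_lit 256) (.kc (nat_lit 144) (nat_lit 0x5001001)) (.cD (nat_lit 288) (.kc (nat_lit 128) (nat_lit 0x7001001)) (.cD (nat_lit 320) (.kF (nat_lit 320)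 (nat_lit 0x11001004100100000001004002003)) (.cD (nat_lit 352) (.kF (nat_lit 352) (nat_lit 0x11001004100100000001004002003)) (.cD (nat_lit 384) (.kF (nat_lit 32) (nat_lit 0xc40040000020010010c4004000002004002004)) (.cD (nat_lit 416) (.kF (nat_lit 32) (nat_lit 0xc4004000005003001041001000002004002004)) (.cD (nat_lit 448) (.kF (nat_lit 448) (nat_lit 0x11001004100100000001004002003)) (.cD (nat_lit 480) (.kF (nat_lit 480) (nat_lit 0x11001004100100000001004002003)) .nil))))))))) (.cD (nat_lit 64) (.kF (nat_lit 64) (nat_lit 0x8001004100100000001002002003)) (.cD (nat_lit 80) (.kF (nat_lit 80) (nat_lit 0x8001004100100000001002002003)) (.cD (nat_lit 96) (.kF (nat_lit 96) (nat_lit 0x8001004100100000001002002003)) (.cD (nat_lit 128) (.dfs (nat_lit 58) (nat_lit 4098) (nat_lit 4098) (nat_lit 4097) (nat_lit 4097) (nat_lit 0) (nat_lit 0) (nat_lit 3) (nat_lit 0) (nat_lit 0) (nat_lit 0) (nat_lit 1) (nat_lit 0) (nat_lit 0x1020010) (nat_lit 0x20010) (nat_lit 0x1001110000120001150000160)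 (nat_lit 0x10000000000000001000000010001000100000001000100010000000000000000000000000000000000000000000000000000000000000000) (.cD (nat_lit 256) (.kc (nat_lit 144) (nat_lit 0x5001001)) (.cD (nat_lit 272) (.dfs (nat_lit 64) (nat_lit 4100) (nat_lit 4100) (nat_lit 0x1002001) (nat_lit 0x1002001) (nat_lit 0) (nat_lit 0) (nat_lit 3) (nat_lit 0) (nat_lit 0) (nat_lit 0) (nat_lit 1) (nat_lit 0) (nat_lit 1) (nat_lit 0) (nat_lit 1) (nat_lit 0x10001000000000001000100000000000100010000000000010000) (.cD (nat_lit 16) (.kc (nat_lit 208) (nat_lit 0xb001001)) (.cD (nat_lit 64) (.kA true (nat_lit 0x1000803000100410010000000a004005008002003)) (.cD (nat_lit 80) (.dfs (nat_lit 259) (nat_lit 4100) (nat_lit 4106) (nat_lit 1) (nat_lit 1) (nat_lit 1) (nat_lit 0) (nat_lit 1) (nat_lit 4224) (nat_lit 0x1000800400200100080c4052041) (nat_lit 0) (nat_lit 1) (nat_lit 0) (nat_lit 1) (nat_lit 0) (nat_lit 1) (nat_lit 0) .nil) (.cD (nat_lit 128) (.kc (nat_lit 80) (nat_lit 0x5001001)) (.cD (nat_lit 144)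 (.kc (nat_lit 192) (nat_lit 0xf001001)) (.cD (nat_lit 192) (.kA true (nat_lit 0x1000803800100410010000000a004001008002003)) (.cD (nat_lit 208) (.kA true (nat_lit 0x1000802800100410010000000a00400b008002003)) .nil)))))))) (.cD (nat_lit 288) (.kF (nat_lit 128) (nat_lit 0xc400400000500600116d005000002004002004)) (.cD (nat_lit 320) (.kF (nat_lit 320) (nat_lit 0x11001004100100000001004002003)) (.cD (nat_lit 336) (.kF (nat_lit 336) (nat_lit 0x11001004100100000001004002003)) (.cD (nat_lit 352) (.kF (nat_lit 352) (nat_lit 0x11001004100100000001004002003)) (.cD (nat_lit 384) (.kc (nat_lit 128) (nat_lit 0x7001001)) (.cD (nat_lit 448) (.kF (nat_lit 448) (nat_lit 0x11001004100100000001004002003)) .nil))))))))) (.cD (nat_lit 192) (.kF (nat_lit 192) (nat_lit 0x8001004100100000001002002003)) .nil))))))))))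
theorem c417 : (chk [] [] p417).n x231 s417 = true := by decide +kernel
noncomputable def p418 : Pf := (.ext (nat_lit 0) (nat_lit 0) (nat_lit 0x1100040080020008) (nat_lit 0x1400800400a019001052002000002) (nat_lit 0x400e008014) (nat_lit 4117) (nat_lit 4117) (nat_lit 0xf008004002016) (.dfs (nat_lit 21) (nat_lit 0x100400e008014) (nat_lit 0x100400e00800b) (nat_lit 0x1010002001) (nat_lit 0x100f002016) (nat_lit 27) (nat_lit 0) (nat_lit 2) (nat_lit 0) (nat_lit 0) (nat_lit 21) (nat_lit 1) (nat_lit 0) (nat_lit 1) (nat_lit 0) (nat_lit 1) (nat_lit 0) .nil))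
theorem c418 : (chk [] [] p418).n x232 s418 = true := by decide +kernel
noncomputable def p419 : Pf := (.anc (nat_lit 42) (nat_lit 0x1002100100000002) (nat_lit 0x110304003a010) (.czp (nat_lit 256) (nat_lit 0) (nat_lit 0x1100080040020010) z7 (.dfs (nat_lit 16) (nat_lit 4097) (nat_lit 4097) (nat_lit 1) (nat_lit 1) (nat_lit 0) (nat_lit 0) (nat_lit 3) (nat_lit 0) (nat_lit 0) (nat_lit 0) (nat_lit 1) (nat_lit 0) (nat_lit 0x1020010) (nat_lit 0x20010) (nat_lit 0x1001010000020001050000060) (nat_lit 0x1000000000000000100000001000100010000000100010000) (.cD (nat_lit 16) (.dfs (nat_lit 58) (nat_lit 4098) (nat_lit 4098) (nat_lit 4097) (nat_lit 4097) (nat_lit 0) (nat_lit 0) (nat_lit 3) (nat_lit 0) (nat_lit 0) (nat_lit 0) (nat_lit 1) (nat_lit 0) (nat_lit 1) (nat_lit 0) (nat_lit 1) (nat_lit 0x100010000000000010001000000000001000100000000000100010000000000000000000000000000000000000000000000000000000000000000) (.cD (nat_lit 256) (.kc (nat_lit 144) (nat_lit 0x5001001)) (.cD (nat_lit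 272) (.kc (nat_lit 128) (nat_lit 0x7001001)) (.cD (nat_lit 320) (.kF (nat_lit 320) (nat_lit 0x11001004100100000001004002003)) (.cD (nat_lit 336) (.kF (nat_lit 336) (nat_lit 0x11001004100100000001004002003)) (.cD (nat_lit 384) (.dfs (nat_lit 64) (nat_lit 4100) (nat_lit 4100) (nat_lit 0x1002001) (nat_lit 0x1002001) (nat_lit 0) (nat_lit 0) (nat_lit 3) (nat_lit 0) (nat_lit 0) (nat_lit 0) (nat_lit 1) (nat_lit 0) (nat_lit 1) (nat_lit 0) (nat_lit 1) (nat_lit 0x10001000000000001000100000000000100010000000000010000) (.cD (nat_lit 16) (.kc (nat_lit 80) (nat_lit 0x5001001)) (.cD (nat_lit 64) (.kA true (nat_lit 0x801002800100410010000000400a00b008002003)) (.cD (nat_lit 80) (.dfs (nat_lit 259) (nat_lit 4101) (nat_lit 4107) (nat_lit 1) (nat_lit 1) (nat_lit 14) (nat_lit 0) (nat_lit 1) (nat_lit 4160) (nat_lit 0x1000800400200100080c4052081) (nat_lit 0) (nat_lit 1) (nat_lit 0) (nat_lit 1) (nat_lit 0) (nat_lit 1) (nat_lit 0) .nil) (.cD (nat_lit 128) (.kc (nat_lit 208) (nat_lit 0xb001001))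 (.cD (nat_lit 144) (.kc (nat_lit 192) (nat_lit 0xf001001)) (.cD (nat_lit 192) (.kA true (nat_lit 0x1801003800100400e00a001003002008008000003)) (.cD (nat_lit 208) (.kA true (nat_lit 0x801003000100410010000000400a005008002003)) .nil)))))))) (.cD (nat_lit 400) (.dfs (nat_lit 64) (nat_lit 4100) (nat_lit 4100) (nat_lit 0x1002001) (nat_lit 0x1002001) (nat_lit 0) (nat_lit 0) (nat_lit 3) (nat_lit 0) (nat_lit 0) (nat_lit 0) (nat_lit 1) (nat_lit 0) (nat_lit 1) (nat_lit 0) (nat_lit 1) (nat_lit 0x10001000000000001000100000000000100010000000000010000) (.cD (nat_lit 16) (.kc (nat_lit 80) (nat_lit 0x5001001)) (.cD (nat_lit 64) (.dfs (nat_lit 259) (nat_lit 0x100400e00f008) (nat_lit 0x100a00e00f008) (nat_lit 0x1002001) (nat_lit 0x100c001) (nat_lit 14) (nat_lit 0) (nat_lit 2) (nat_lit 1) (nat_lit 0) (nat_lit 32) (nat_lit 1) (nat_lit 0) (nat_lit 4112) (nat_lit 16) (nat_lit 0x1000030000070) (nat_lit 0x10000000000000001000000000000) (.cD (nat_lit 48) (.kb (nat_lit 441) (nat_lit 0x2052000040006005001003)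 (nat_lit 0x108004011800c1fe007)) (.cD (nat_lit 112) (.kb (nat_lit 505) (nat_lit 0x2052000040006007001003) (nat_lit 0x108004011800c1fe007)) .nil))) (.cD (nat_lit 80) (.kA true (nat_lit 0x801802800100410010000000400e00b008002003)) (.cD (nat_lit 128) (.kc (nat_lit 192) (nat_lit 0xf001001)) (.cD (nat_lit 144) (.kc (nat_lit 208) (nat_lit 0xb001001)) (.cD (nat_lit 192) (.kA true (nat_lit 0x801803800100410010000000400e001008002003)) (.cD (nat_lit 208) (.kA true (nat_lit 0x1001803000100400a00e005003002008008000003)) .nil)))))))) (.cD (nat_lit 448) (.kF (nat_lit 448) (nat_lit 0x11001004100100000001004002003)) (.cD (nat_lit 464) (.kF (nat_lit 464) (nat_lit 0x11001004100100000001004002003)) .nil))))))))) (.cD (nat_lit 32) (.dfs (nat_lit 58) (nat_lit 4098) (nat_lit 4098) (nat_lit 4097) (nat_lit 4097) (nat_lit 0) (nat_lit 0) (nat_lit 3) (nat_lit 0) (nat_lit 0) (nat_lit 0) (nat_lit 1) (nat_lit 0) (nat_lit 1) (nat_lit 0) (nat_lit 1) (nat_lit 0x1000000010000000100000001000000010000000100000001000000010000000000000000000000000000000000000000000000000000000000000000)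 (.cD (nat_lit 256) (.kc (nat_lit 144) (nat_lit 0x5001001)) (.cD (nat_lit 288) (.kc (nat_lit 128) (nat_lit 0x7001001)) (.cD (nat_lit 320) (.kF (nat_lit 320) (nat_lit 0x11001004100100000001004002003)) (.cD (nat_lit 352) (.kF (nat_lit 352) (nat_lit 0x11001004100100000001004002003)) (.cD (nat_lit 384) (.kF (nat_lit 32) (nat_lit 0xc40040000020010010c4004000002004002004)) (.cD (nat_lit 416) (.kF (nat_lit 32) (nat_lit 0xc4004000005003001081001000002004002004)) (.cD (nat_lit 448) (.kF (nat_lit 448) (nat_lit 0x11001004100100000001004002003)) (.cD (nat_lit 480) (.kF (nat_lit 480) (nat_lit 0x11001004100100000001004002003)) .nil))))))))) (.cD (nat_lit 64) (.kF (nat_lit 64) (nat_lit 0x8001004100100000001002002003)) (.cD (nat_lit 80) (.kF (nat_lit 80) (nat_lit 0x8001004100100000001002002003)) (.cD (nat_lit 96) (.kF (nat_lit 96) (nat_lit 0x8001004100100000001002002003)) (.cD (nat_lit 128) (.dfs (nat_lit 58) (nat_lit 4098) (nat_lit 4098) (nat_lit 4097) (nat_lit 4097) (nat_lit 0)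 (nat_lit 0) (nat_lit 3) (nat_lit 0) (nat_lit 0) (nat_lit 0) (nat_lit 1) (nat_lit 0) (nat_lit 0x1020010) (nat_lit 0x20010) (nat_lit 0x1001110000120001150000160) (nat_lit 0x10000000000000001000000010001000100000001000100010000000000000000000000000000000000000000000000000000000000000000) (.cD (nat_lit 256) (.kc (nat_lit 144) (nat_lit 0x5001001)) (.cD (nat_lit 272) (.dfs (nat_lit 64) (nat_lit 4100) (nat_lit 4100) (nat_lit 0x1002001) (nat_lit 0x1002001) (nat_lit 0) (nat_lit 0) (nat_lit 3) (nat_lit 0) (nat_lit 0) (nat_lit 0) (nat_lit 1) (nat_lit 0) (nat_lit 1) (nat_lit 0) (nat_lit 1) (nat_lit 0x10001000000000001000100000000000100010000000000010000) (.cD (nat_lit 16) (.kc (nat_lit 208) (nat_lit 0xb001001)) (.cD (nat_lit 64) (.kA true (nat_lit 0x1000803000100410010000000a004005008002003)) (.cD (nat_lit 80) (.dfs (nat_lit 259) (nat_lit 4100) (nat_lit 4106) (nat_lit 1) (nat_lit 1) (nat_lit 14) (nat_lit 0) (nat_lit 1) (nat_lit 4224) (nat_lit 0x1000800400200100080c4052081) (nat_lit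 0) (nat_lit 1) (nat_lit 0) (nat_lit 1) (nat_lit 0) (nat_lit 1) (nat_lit 0) .nil) (.cD (nat_lit 128) (.kc (nat_lit 80) (nat_lit 0x5001001)) (.cD (nat_lit 144) (.kc (nat_lit 192) (nat_lit 0xf001001)) (.cD (nat_lit 192) (.kA true (nat_lit 0x1000803800100410010000000a004001008002003)) (.cD (nat_lit 208) (.kA true (nat_lit 0x1000802800100410010000000a00400b008002003)) .nil)))))))) (.cD (nat_lit 288) (.kF (nat_lit 128) (nat_lit 0xc40040000050060011ad005000002004002004)) (.cD (nat_lit 320) (.kF (nat_lit 320) (nat_lit 0x11001004100100000001004002003)) (.cD (nat_lit 336) (.kF (nat_lit 336) (nat_lit 0x11001004100100000001004002003)) (.cD (nat_lit 352) (.kF (nat_lit 352) (nat_lit 0x11001004100100000001004002003)) (.cD (nat_lit 384) (.kc (nat_lit 128) (nat_lit 0x7001001)) (.cD (nat_lit 448) (.kF (nat_lit 448) (nat_lit 0x11001004100100000001004002003)) .nil))))))))) (.cD (nat_lit 192) (.kF (nat_lit 192) (nat_lit 0x8001004100100000001002002003)) .nil))))))))))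
theorem c419 : (chk [] [] p419).n x233 s419 = true := by decide +kernel
noncomputable def p420 : Pf := (.anc (nat_lit 42) (nat_lit 0x1002100100000002) (nat_lit 0x110304003a010) (.czp (nat_lit 256) (nat_lit 0) (nat_lit 0x1100080040020010) z7 (.dfs (nat_lit 16) (nat_lit 4097) (nat_lit 4097) (nat_lit 1) (nat_lit 1) (nat_lit 0) (nat_lit 0) (nat_lit 3) (nat_lit 0) (nat_lit 0) (nat_lit 0) (nat_lit 1) (nat_lit 0) (nat_lit 0x1020010) (nat_lit 0x20010) (nat_lit 0x1001010000020001050000060) (nat_lit 0x1000000000000000100000001000100010000000100010000) (.cD (nat_lit 16) (.dfs (nat_lit 58) (nat_lit 4098) (nat_lit 4098) (nat_lit 4097) (nat_lit 4097) (nat_lit 0) (nat_lit 0) (nat_lit 3) (nat_lit 0) (nat_lit 0) (nat_lit 0) (nat_lit 1) (nat_lit 0) (nat_lit 1) (nat_lit 0) (nat_lit 1) (nat_lit 0x100010000000000010001000000000001000100000000000100010000000000000000000000000000000000000000000000000000000000000000) (.cD (nat_lit 256) (.kc (nat_lit 144) (nat_lit 0x5001001)) (.cD (nat_lit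 272) (.kc (nat_lit 128) (nat_lit 0x7001001)) (.cD (nat_lit 320) (.kF (nat_lit 320) (nat_lit 0x11001004100100000001004002003)) (.cD (nat_lit 336) (.kF (nat_lit 336) (nat_lit 0x11001004100100000001004002003)) (.cD (nat_lit 384) (.dfs (nat_lit 64) (nat_lit 4100) (nat_lit 4100) (nat_lit 0x1002001) (nat_lit 0x1002001) (nat_lit 0) (nat_lit 0) (nat_lit 3) (nat_lit 0) (nat_lit 0) (nat_lit 0) (nat_lit 1) (nat_lit 0) (nat_lit 1) (nat_lit 0) (nat_lit 1) (nat_lit 0x10001000000000001000100000000000100010000000000010000) (.cD (nat_lit 16) (.kc (nat_lit 80) (nat_lit 0x5001001)) (.cD (nat_lit 64) (.kA true (nat_lit 0x801002800100410010000000400a00b008002003)) (.cD (nat_lit 80) (.dfs (nat_lit 259) (nat_lit 4101) (nat_lit 4107) (nat_lit 1) (nat_lit 1) (nat_lit 15) (nat_lit 0) (nat_lit 1) (nat_lit 4160) (nat_lit 0x1000800400200100080c40520c1) (nat_lit 0) (nat_lit 1) (nat_lit 0) (nat_lit 1) (nat_lit 0) (nat_lit 1) (nat_lit 0) .nil) (.cD (nat_lit 128) (.kc (nat_lit 208) (nat_lit 0xb001001))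 (.cD (nat_lit 144) (.kc (nat_lit 192) (nat_lit 0xf001001)) (.cD (nat_lit 192) (.kA true (nat_lit 0x1801003800100400e00a001003002008008000003)) (.cD (nat_lit 208) (.kA true (nat_lit 0x801003000100410010000000400a005008002003)) .nil)))))))) (.cD (nat_lit 400) (.dfs (nat_lit 64) (nat_lit 4100) (nat_lit 4100) (nat_lit 0x1002001) (nat_lit 0x1002001) (nat_lit 0) (nat_lit 0) (nat_lit 3) (nat_lit 0) (nat_lit 0) (nat_lit 0) (nat_lit 1) (nat_lit 0) (nat_lit 1) (nat_lit 0) (nat_lit 1) (nat_lit 0x10001000000000001000100000000000100010000000000010000) (.cD (nat_lit 16) (.kc (nat_lit 80) (nat_lit 0x5001001)) (.cD (nat_lit 64) (.dfs (nat_lit 259) (nat_lit 0x100400e00f008) (nat_lit 0x100a00e00f008) (nat_lit 0x1002001) (nat_lit 0x100c001) (nat_lit 15) (nat_lit 0) (nat_lit 2) (nat_lit 1) (nat_lit 0) (nat_lit 32) (nat_lit 1) (nat_lit 0) (nat_lit 1) (nat_lit 0) (nat_lit 1) (nat_lit 0) .nil) (.cD (nat_lit 80) (.kA true (nat_lit 0x801802800100410010000000400e00b008002003)) (.cD (nat_lit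 128) (.kc (nat_lit 192) (nat_lit 0xf001001)) (.cD (nat_lit 144) (.kc (nat_lit 208) (nat_lit 0xb001001)) (.cD (nat_lit 192) (.kA true (nat_lit 0x801803800100410010000000400e001008002003)) (.cD (nat_lit 208) (.kA true (nat_lit 0x1001803000100400a00e005003002008008000003)) .nil)))))))) (.cD (nat_lit 448) (.kF (nat_lit 448) (nat_lit 0x11001004100100000001004002003)) (.cD (nat_lit 464) (.kF (nat_lit 464) (nat_lit 0x11001004100100000001004002003)) .nil))))))))) (.cD (nat_lit 32) (.dfs (nat_lit 58) (nat_lit 4098) (nat_lit 4098) (nat_lit 4097) (nat_lit 4097) (nat_lit 0) (nat_lit 0) (nat_lit 3) (nat_lit 0) (nat_lit 0) (nat_lit 0) (nat_lit 1) (nat_lit 0) (nat_lit 1) (nat_lit 0) (nat_lit 1) (nat_lit 0x1000000010000000100000001000000010000000100000001000000010000000000000000000000000000000000000000000000000000000000000000) (.cD (nat_lit 256) (.kc (nat_lit 144) (nat_lit 0x5001001)) (.cD (nat_lit 288) (.kc (nat_lit 128) (nat_lit 0x7001001)) (.cD (nat_lit 320) (.kF (nat_lit 320)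 (nat_lit 0x11001004100100000001004002003)) (.cD (nat_lit 352) (.kF (nat_lit 352) (nat_lit 0x11001004100100000001004002003)) (.cD (nat_lit 384) (.kF (nat_lit 32) (nat_lit 0xc40040000020010010c4004000002004002004)) (.cD (nat_lit 416) (.kF (nat_lit 32) (nat_lit 0xc40040000050030010c1001000002004002004)) (.cD (nat_lit 448) (.kF (nat_lit 448) (nat_lit 0x11001004100100000001004002003)) (.cD (nat_lit 480) (.kF (nat_lit 480) (nat_lit 0x11001004100100000001004002003)) .nil))))))))) (.cD (nat_lit 64) (.kF (nat_lit 64) (nat_lit 0x8001004100100000001002002003)) (.cD (nat_lit 80) (.kF (nat_lit 80) (nat_lit 0x8001004100100000001002002003)) (.cD (nat_lit 96) (.kF (nat_lit 96) (nat_lit 0x8001004100100000001002002003)) (.cD (nat_lit 128) (.dfs (nat_lit 58) (nat_lit 4098) (nat_lit 4098) (nat_lit 4097) (nat_lit 4097) (nat_lit 0) (nat_lit 0) (nat_lit 3) (nat_lit 0) (nat_lit 0) (nat_lit 0) (nat_lit 1) (nat_lit 0) (nat_lit 0x1020010) (nat_lit 0x20010) (nat_lit 0x1001110000120001150000160)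 (nat_lit 0x10000000000000001000000010001000100000001000100010000000000000000000000000000000000000000000000000000000000000000) (.cD (nat_lit 256) (.kc (nat_lit 144) (nat_lit 0x5001001)) (.cD (nat_lit 272) (.dfs (nat_lit 64) (nat_lit 4100) (nat_lit 4100) (nat_lit 0x1002001) (nat_lit 0x1002001) (nat_lit 0) (nat_lit 0) (nat_lit 3) (nat_lit 0) (nat_lit 0) (nat_lit 0) (nat_lit 1) (nat_lit 0) (nat_lit 1) (nat_lit 0) (nat_lit 1) (nat_lit 0x10001000000000001000100000000000100010000000000010000) (.cD (nat_lit 16) (.kc (nat_lit 208) (nat_lit 0xb001001)) (.cD (nat_lit 64) (.kA true (nat_lit 0x1000803000100410010000000a004005008002003)) (.cD (nat_lit 80) (.dfs (nat_lit 259) (nat_lit 4100) (nat_lit 4106) (nat_lit 1) (nat_lit 1) (nat_lit 15) (nat_lit 0) (nat_lit 1) (nat_lit 4224) (nat_lit 0x1000800400200100080c40520c1) (nat_lit 0) (nat_lit 1) (nat_lit 0) (nat_lit 1) (nat_lit 0) (nat_lit 1) (nat_lit 0) .nil) (.cD (nat_lit 128) (.kc (nat_lit 80) (nat_lit 0x5001001)) (.cD (nat_lit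 144) (.kc (nat_lit 192) (nat_lit 0xf001001)) (.cD (nat_lit 192) (.kA true (nat_lit 0x1000803800100410010000000a004001008002003)) (.cD (nat_lit 208) (.kA true (nat_lit 0x1000802800100410010000000a00400b008002003)) .nil)))))))) (.cD (nat_lit 288) (.kF (nat_lit 128) (nat_lit 0xc40040000050060011ed005000002004002004)) (.cD (nat_lit 320) (.kF (nat_lit 320) (nat_lit 0x11001004100100000001004002003)) (.cD (nat_lit 336) (.kF (nat_lit 336) (nat_lit 0x11001004100100000001004002003)) (.cD (nat_lit 352) (.kF (nat_lit 352) (nat_lit 0x11001004100100000001004002003)) (.cD (nat_lit 384) (.kc (nat_lit 128) (nat_lit 0x7001001)) (.cD (nat_lit 448) (.kF (nat_lit 448) (nat_lit 0x11001004100100000001004002003)) .nil))))))))) (.cD (nat_lit 192) (.kF (nat_lit 192) (nat_lit 0x8001004100100000001002002003)) .nil))))))))))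
theorem c420 : (chk [] [] p420).n x234 s420 = true := by decide +kernel
noncomputable def p421 : Pf := (.anc (nat_lit 42) (nat_lit 0x1002100100000002) (nat_lit 0x110304003a010) (.czp (nat_lit 256) (nat_lit 0) (nat_lit 0x1100080040020010) z7 (.dfs (nat_lit 16) (nat_lit 4097) (nat_lit 4097) (nat_lit 1) (nat_lit 1) (nat_lit 0) (nat_lit 0) (nat_lit 3) (nat_lit 0) (nat_lit 0) (nat_lit 0) (nat_lit 1) (nat_lit 0) (nat_lit 0x1020010) (nat_lit 0x20010) (nat_lit 0x1001010000020001050000060) (nat_lit 0x1000000000000000100000001000100010000000100010000) (.cD (nat_lit 16) (.dfs (nat_lit 58) (nat_lit 4098) (nat_lit 4098) (nat_lit 4097) (nat_lit 4097) (nat_lit 0) (nat_lit 0) (nat_lit 3) (nat_lit 0) (nat_lit 0) (nat_lit 0) (nat_lit 1) (nat_lit 0) (nat_lit 1) (nat_lit 0) (nat_lit 1) (nat_lit 0x100010000000000010001000000000001000100000000000100010000000000000000000000000000000000000000000000000000000000000000) (.cD (nat_lit 256) (.kc (nat_lit 144) (nat_lit 0x5001001)) (.cD (nat_lit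 272) (.kc (nat_lit 128) (nat_lit 0x7001001)) (.cD (nat_lit 320) (.kF (nat_lit 320) (nat_lit 0x11001004100100000001004002003)) (.cD (nat_lit 336) (.kF (nat_lit 336) (nat_lit 0x11001004100100000001004002003)) (.cD (nat_lit 384) (.dfs (nat_lit 64) (nat_lit 4100) (nat_lit 4100) (nat_lit 0x1002001) (nat_lit 0x1002001) (nat_lit 0) (nat_lit 0) (nat_lit 3) (nat_lit 0) (nat_lit 0) (nat_lit 0) (nat_lit 1) (nat_lit 0) (nat_lit 1) (nat_lit 0) (nat_lit 1) (nat_lit 0x10001000000000001000100000000000100010000000000010000) (.cD (nat_lit 16) (.kc (nat_lit 80) (nat_lit 0x5001001)) (.cD (nat_lit 64) (.kA true (nat_lit 0x801002800100410010000000400a00b008002003)) (.cD (nat_lit 80) (.dfs (nat_lit 259) (nat_lit 4101) (nat_lit 4107) (nat_lit 1) (nat_lit 1) (nat_lit 15) (nat_lit 0) (nat_lit 1) (nat_lit 4160) (nat_lit 0x1000800400200100080c40520c1) (nat_lit 0) (nat_lit 1) (nat_lit 0) (nat_lit 1) (nat_lit 0) (nat_lit 1) (nat_lit 0) .nil) (.cD (nat_lit 128) (.kc (nat_lit 208) (nat_lit 0xb001001))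 (.cD (nat_lit 144) (.kc (nat_lit 192) (nat_lit 0xf001001)) (.cD (nat_lit 192) (.kA true (nat_lit 0x1801003800100400e00a001003002008008000003)) (.cD (nat_lit 208) (.kA true (nat_lit 0x801003000100410010000000400a005008002003)) .nil)))))))) (.cD (nat_lit 400) (.dfs (nat_lit 64) (nat_lit 4100) (nat_lit 4100) (nat_lit 0x1002001) (nat_lit 0x1002001) (nat_lit 0) (nat_lit 0) (nat_lit 3) (nat_lit 0) (nat_lit 0) (nat_lit 0) (nat_lit 1) (nat_lit 0) (nat_lit 1) (nat_lit 0) (nat_lit 1) (nat_lit 0x10001000000000001000100000000000100010000000000010000) (.cD (nat_lit 16) (.kc (nat_lit 80) (nat_lit 0x5001001)) (.cD (nat_lit 64) (.dfs (nat_lit 259) (nat_lit 0x100400e00f008) (nat_lit 0x100a00e00f008) (nat_lit 0x1002001) (nat_lit 0x100c001) (nat_lit 15) (nat_lit 0) (nat_lit 2) (nat_lit 1) (nat_lit 0) (nat_lit 32) (nat_lit 1) (nat_lit 0) (nat_lit 1) (nat_lit 0) (nat_lit 1) (nat_lit 0) .nil) (.cD (nat_lit 80) (.kA true (nat_lit 0x801802800100410010000000400e00b008002003)) (.cD (nat_lit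 128) (.kc (nat_lit 192) (nat_lit 0xf001001)) (.cD (nat_lit 144) (.kc (nat_lit 208) (nat_lit 0xb001001)) (.cD (nat_lit 192) (.kA true (nat_lit 0x801803800100410010000000400e001008002003)) (.cD (nat_lit 208) (.kA true (nat_lit 0x1001803000100400a00e005003002008008000003)) .nil)))))))) (.cD (nat_lit 448) (.kF (nat_lit 448) (nat_lit 0x11001004100100000001004002003)) (.cD (nat_lit 464) (.kF (nat_lit 464) (nat_lit 0x11001004100100000001004002003)) .nil))))))))) (.cD (nat_lit 32) (.dfs (nat_lit 58) (nat_lit 4098) (nat_lit 4098) (nat_lit 4097) (nat_lit 4097) (nat_lit 0) (nat_lit 0) (nat_lit 3) (nat_lit 0) (nat_lit 0) (nat_lit 0) (nat_lit 1) (nat_lit 0) (nat_lit 1) (nat_lit 0) (nat_lit 1) (nat_lit 0x1000000010000000100000001000000010000000100000001000000010000000000000000000000000000000000000000000000000000000000000000) (.cD (nat_lit 256) (.kc (nat_lit 144) (nat_lit 0x5001001)) (.cD (nat_lit 288) (.kc (nat_lit 128) (nat_lit 0x7001001)) (.cD (nat_lit 320) (.kF (nat_lit 320)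 (nat_lit 0x11001004100100000001004002003)) (.cD (nat_lit 352) (.kF (nat_lit 352) (nat_lit 0x11001004100100000001004002003)) (.cD (nat_lit 384) (.kF (nat_lit 32) (nat_lit 0xc40040000020010010c4004000002004002004)) (.cD (nat_lit 416) (.kF (nat_lit 32) (nat_lit 0xc40040000050030010c1001000002004002004)) (.cD (nat_lit 448) (.kF (nat_lit 448) (nat_lit 0x11001004100100000001004002003)) (.cD (nat_lit 480) (.kF (nat_lit 480) (nat_lit 0x11001004100100000001004002003)) .nil))))))))) (.cD (nat_lit 64) (.kF (nat_lit 64) (nat_lit 0x8001004100100000001002002003)) (.cD (nat_lit 80) (.kF (nat_lit 80) (nat_lit 0x8001004100100000001002002003)) (.cD (nat_lit 96) (.kF (nat_lit 96) (nat_lit 0x8001004100100000001002002003)) (.cD (nat_lit 128) (.dfs (nat_lit 58) (nat_lit 4098) (nat_lit 4098) (nat_lit 4097) (nat_lit 4097) (nat_lit 0) (nat_lit 0) (nat_lit 3) (nat_lit 0) (nat_lit 0) (nat_lit 0) (nat_lit 1) (nat_lit 0) (nat_lit 0x1020010) (nat_lit 0x20010) (nat_lit 0x1001110000120001150000160)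 (nat_lit 0x10000000000000001000000010001000100000001000100010000000000000000000000000000000000000000000000000000000000000000) (.cD (nat_lit 256) (.kc (nat_lit 144) (nat_lit 0x5001001)) (.cD (nat_lit 272) (.dfs (nat_lit 64) (nat_lit 4100) (nat_lit 4100) (nat_lit 0x1002001) (nat_lit 0x1002001) (nat_lit 0) (nat_lit 0) (nat_lit 3) (nat_lit 0) (nat_lit 0) (nat_lit 0) (nat_lit 1) (nat_lit 0) (nat_lit 1) (nat_lit 0) (nat_lit 1) (nat_lit 0x10001000000000001000100000000000100010000000000010000) (.cD (nat_lit 16) (.kc (nat_lit 208) (nat_lit 0xb001001)) (.cD (nat_lit 64) (.kA true (nat_lit 0x1000803000100410010000000a004005008002003)) (.cD (nat_lit 80) (.dfs (nat_lit 259) (nat_lit 4100) (nat_lit 4106) (nat_lit 1) (nat_lit 1) (nat_lit 15) (nat_lit 0) (nat_lit 1) (nat_lit 4224) (nat_lit 0x1000800400200100080c40520c1) (nat_lit 0) (nat_lit 1) (nat_lit 0) (nat_lit 1) (nat_lit 0) (nat_lit 1) (nat_lit 0) .nil) (.cD (nat_lit 128) (.kc (nat_lit 80) (nat_lit 0x5001001)) (.cD (nat_lit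 144) (.kc (nat_lit 192) (nat_lit 0xf001001)) (.cD (nat_lit 192) (.kA true (nat_lit 0x1000803800100410010000000a004001008002003)) (.cD (nat_lit 208) (.kA true (nat_lit 0x1000802800100410010000000a00400b008002003)) .nil)))))))) (.cD (nat_lit 288) (.kF (nat_lit 128) (nat_lit 0xc40040000050060011ed005000002004002004)) (.cD (nat_lit 320) (.kF (nat_lit 320) (nat_lit 0x11001004100100000001004002003)) (.cD (nat_lit 336) (.kF (nat_lit 336) (nat_lit 0x11001004100100000001004002003)) (.cD (nat_lit 352) (.kF (nat_lit 352) (nat_lit 0x11001004100100000001004002003)) (.cD (nat_lit 384) (.kc (nat_lit 128) (nat_lit 0x7001001)) (.cD (nat_lit 448) (.kF (nat_lit 448) (nat_lit 0x11001004100100000001004002003)) .nil))))))))) (.cD (nat_lit 192) (.kF (nat_lit 192) (nat_lit 0x8001004100100000001002002003)) .nil))))))))))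
theorem c421 : (chk [] [] p421).n x235 s421 = true := by decide +kernel
noncomputable def p422 : Pf := (.lft (nat_lit 0x80020040010002004008001005001) (nat_lit 0) (nat_lit 0x10e80e00c80c00a80a0088080) (nat_lit 0x80040020010008004062029) (.extn a49 (nat_lit 0x80040020010008004002001) (nat_lit 0x1010040020080) (nat_lit 2) (nat_lit 0) (nat_lit 0) (nat_lit 0) (nat_lit 0x1000000010000000100000001) (.cE (nat_lit 0) b123 (nat_lit 0) (.cut (nat_lit 0)) (.iso x229 s415 (nat_lit 0) (nat_lit 0x1100080040020010008004002001) (nat_lit 0x100080040020010008004002001) [(nat_lit 0x40020010008004002001005001), (nat_lit 0x40020010008004002001009001)] (.cut (nat_lit 1))) (.cE (nat_lit 32) b130 (nat_lit 0) (.iso x230 s416 (nat_lit 1) (nat_lit 0x1100080040020010008004002001) (nat_lit 0x100080040020010008004002001) [(nat_lit 0x40020010008004002001005001)] (.cut (nat_lit 2))) (.iso x231 s417 (nat_lit 1) (nat_lit 0x1100080040020010008004002001) (nat_lit 0x100080040020010008004002001) [(nat_lit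 0x40020010008004002001005001)] (.cut (nat_lit 3))) (.cE (nat_lit 64) b131 (nat_lit 0) (.iso x232 s418 (nat_lit 2) (nat_lit 0x1100080040020010008004002001) (nat_lit 0x100080040020010008004002001) [(nat_lit 0x1000800400200100b001)] (.cut (nat_lit 4))) (.iso x233 s419 (nat_lit 2) (nat_lit 0x1100080040020010008004002001) (nat_lit 0x100080040020010008004002001) [(nat_lit 0x40020010008004002001005001), (nat_lit 0x40020010008004002001009001)] (.cut (nat_lit 5))) (.cE (nat_lit 96) b132 (nat_lit 0) (.iso x234 s420 (nat_lit 3) (nat_lit 0x1100080040020010008004002001) (nat_lit 0x100080040020010008004002001) [(nat_lit 0x40020010008004002001005001)] (.cut (nat_lit 6))) (.iso x235 s421 (nat_lit 3) (nat_lit 0x1100080040020010008004002001) (nat_lit 0x100080040020010008004002001) [(nat_lit 0x40020010008004002001005001)] (.cut (nat_lit 7))) .nil))))))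
theorem c422 : (chk [(x219, s414), (x229, s415), (x230, s416), (x231, s417), (x232, s418), (x233, s419), (x234, s420), (x235, s421)] [g123, g130, g131, g132] p422).n x218 s422 = true := by decide +kernel
noncomputable def p423 : Pf := (.ext (nat_lit 1) (nat_lit 0) (nat_lit 0x1200180100020004008050) (nat_lit 0x1020010018002074040001001) (nat_lit 0x18008020047) (nat_lit 0x1011003) (nat_lit 0x1012041) (nat_lit 0x2d02001000800f06c06f04702001000803c016015) (.dfs (nat_lit 3) (nat_lit 0x1018008020047) (nat_lit 0x1018008020040) (nat_lit 0x1040010004002001) (nat_lit 0x104701003c016015) (nat_lit 24) (nat_lit 0) (nat_lit 2) (nat_lit 1) (nat_lit 0) (nat_lit 65) (nat_lit 1) (nat_lit 0) (nat_lit 1) (nat_lit 0) (nat_lit 1) (nat_lit 0x2000000020000000000000000000000020000000200000000000000000000000200000002000000000000000000000002000000020000000000000000) (.cD (nat_lit 65) (.dfs (nat_lit 17) (nat_lit 0x103001004008e) (nat_lit 0x1030010040002) (nat_lit 0x1080020008004002001) (nat_lit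 0x105a02001e0d80de019) (nat_lit 204) (nat_lit 0) (nat_lit 2) (nat_lit 1) (nat_lit 0) (nat_lit 18) (nat_lit 1) (nat_lit 0) (nat_lit 1) (nat_lit 0) (nat_lit 1) (nat_lit 0) .nil) (.cD (nat_lit 97) (.kS (nat_lit 1) (nat_lit 0x2001004002a0020e3001000002) (nat_lit 0x115c3d8200103) (nat_lit 0x800400200d01000800400a01d02001000801c03a00904002001000f074026025) (nat_lit 0x20020000100200400800080040020010010010e300002001004002a06e086080021001004)) (.cD (nat_lit 193) (.kS (nat_lit 1) (nat_lit 0x2001004002a0020e3001000002) (nat_lit 0x115c3d82001a3) (nat_lit 0x800400200d01000800400a01d02001000801c03a00904002001000f074026025) (nat_lit 0x20020000100200400800080040020010010010e300002001004002a06e086080051001004)) (.cD (nat_lit 225) (.dfs (nat_lit 17) (nat_lit 0x103001004008e) (nat_lit 0x1030010040002) (nat_lit 0x1080020008004002001) (nat_lit 0x105a02001e0d80de019) (nat_lit 204) (nat_lit 0) (nat_lit 2) (nat_lit 1) (nat_lit 0) (nat_lit 18) (nat_lit 1) (nat_lit 0) (nat_lit 1) (nat_lit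 0) (nat_lit 1) (nat_lit 0) .nil) (.cD (nat_lit 321) (.kS (nat_lit 1) (nat_lit 0x2001004002a0020e3001000002) (nat_lit 0x115c3d8200023) (nat_lit 0x800400200d01000800400a01d02001000801c03a00904002001000f074026025) (nat_lit 0x20020000100200400800080040020010010010e300002001004002a06e086080011001004)) (.cD (nat_lit 353) (.dfs (nat_lit 17) (nat_lit 0x103001004008e) (nat_lit 0x1030010040002) (nat_lit 0x1080020008004002001) (nat_lit 0x105a02001e0d80de019) (nat_lit 204) (nat_lit 0) (nat_lit 2) (nat_lit 1) (nat_lit 0) (nat_lit 18) (nat_lit 1) (nat_lit 0) (nat_lit 1) (nat_lit 0) (nat_lit 1) (nat_lit 0) .nil) (.cD (nat_lit 449) (.dfs (nat_lit 17) (nat_lit 0x103001004008e) (nat_lit 0x1030010040002) (nat_lit 0x1080020008004002001) (nat_lit 0x105a02001e0d80de019) (nat_lit 204) (nat_lit 0) (nat_lit 2) (nat_lit 1) (nat_lit 0) (nat_lit 18) (nat_lit 1) (nat_lit 0) (nat_lit 1) (nat_lit 0) (nat_lit 1) (nat_lit 0) .nil) (.cD (nat_lit 481) (.kS (nat_lit 1) (nat_lit 0x2001004002a0020e3001000002)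 (nat_lit 0x115c3d8200083) (nat_lit 0x800400200d01000800400a01d02001000801c03a00904002001000f074026025) (nat_lit 0x20020000100200400800080040020010010010e300002001004002a06e086080061001004)) .nil))))))))))
theorem c423 : (chk [] [] p423).n x236 s423 = true := by decide +kernel
noncomputable def p424 : Pf := (.ext (nat_lit 1) (nat_lit 0) (nat_lit 0x1200180100020004008050) (nat_lit 0x1020010018002074040001001) (nat_lit 0x18008020047) (nat_lit 0x1011003) (nat_lit 0x1012041) (nat_lit 0x2d02001000800f06c06f04702001000803c016015) (.dfs (nat_lit 3) (nat_lit 0x1018008020047) (nat_lit 0x1018008020040) (nat_lit 0x1040010004002001) (nat_lit 0x104701003c016015) (nat_lit 24) (nat_lit 0) (nat_lit 2) (nat_lit 1) (nat_lit 0) (nat_lit 65) (nat_lit 1) (nat_lit 0) (nat_lit 1) (nat_lit 0) (nat_lit 1) (nat_lit 0x2000000020000000000000000000000020000000200000000000000000000000200000002000000000000000000000002000000020000000000000000) (.cD (nat_lit 65) (.dfs (nat_lit 17) (nat_lit 0x103001004008e)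 (nat_lit 0x1030010040002) (nat_lit 0x1080020008004002001) (nat_lit 0x105a02001e0d80de019) (nat_lit 204) (nat_lit 0) (nat_lit 2) (nat_lit 1) (nat_lit 0) (nat_lit 18) (nat_lit 1) (nat_lit 0) (nat_lit 1) (nat_lit 0) (nat_lit 1) (nat_lit 0) .nil) (.cD (nat_lit 97) (.kS (nat_lit 1) (nat_lit 0x2001004002a0020e3001000002) (nat_lit 0x115c3d8200103) (nat_lit 0x800400200d01000800400a01d02001000801c03a00904002001000f074026025) (nat_lit 0x20020000100200400800080040020010010010e300002001004002a06e086080021001004)) (.cD (nat_lit 193) (.kS (nat_lit 1) (nat_lit 0x2001004002a0020e3001000002) (nat_lit 0x115c3d82001a3) (nat_lit 0x800400200d01000800400a01d02001000801c03a00904002001000f074026025) (nat_lit 0x20020000100200400800080040020010010010e300002001004002a06e086080051001004)) (.cD (nat_lit 225) (.dfs (nat_lit 17) (nat_lit 0x103001004008e) (nat_lit 0x1030010040002) (nat_lit 0x1080020008004002001) (nat_lit 0x105a02001e0d80de019) (nat_lit 204) (nat_lit 0) (nat_lit 2) (nat_lit 1) (nat_lit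 0) (nat_lit 18) (nat_lit 1) (nat_lit 0) (nat_lit 1) (nat_lit 0) (nat_lit 1) (nat_lit 0) .nil) (.cD (nat_lit 321) (.kS (nat_lit 1) (nat_lit 0x2001004002a0020e3001000002) (nat_lit 0x115c3d8200023) (nat_lit 0x800400200d01000800400a01d02001000801c03a00904002001000f074026025) (nat_lit 0x20020000100200400800080040020010010010e300002001004002a06e086080011001004)) (.cD (nat_lit 353) (.dfs (nat_lit 17) (nat_lit 0x103001004008e) (nat_lit 0x1030010040002) (nat_lit 0x1080020008004002001) (nat_lit 0x105a02001e0d80de019) (nat_lit 204) (nat_lit 0) (nat_lit 2) (nat_lit 1) (nat_lit 0) (nat_lit 18) (nat_lit 1) (nat_lit 0) (nat_lit 1) (nat_lit 0) (nat_lit 1) (nat_lit 0) .nil) (.cD (nat_lit 449) (.dfs (nat_lit 17) (nat_lit 0x103001004008e) (nat_lit 0x1030010040002) (nat_lit 0x1080020008004002001) (nat_lit 0x105a02001e0d80de019) (nat_lit 204) (nat_lit 0) (nat_lit 2) (nat_lit 1) (nat_lit 0) (nat_lit 18) (nat_lit 1) (nat_lit 0) (nat_lit 1) (nat_lit 0) (nat_lit 1) (nat_lit 0) .nil) (.cD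 (nat_lit 481) (.kS (nat_lit 1) (nat_lit 0x2001004002a0020e3001000002) (nat_lit 0x115c3d8200083) (nat_lit 0x800400200d01000800400a01d02001000801c03a00904002001000f074026025) (nat_lit 0x20020000100200400800080040020010010010e300002001004002a06e086080061001004)) .nil))))))))))
theorem c424 : (chk [] [] p424).n x237 s424 = true := by decide +kernel
noncomputable def p425 : Pf := (.ext (nat_lit 1) (nat_lit 0) (nat_lit 0x1200180100020004008050) (nat_lit 0x1020010018002074040001001) (nat_lit 0x18008020047) (nat_lit 4099) (nat_lit 4161) (nat_lit 0x4702001000803c016015) (.dfs (nat_lit 3) (nat_lit 0x1018008020047) (nat_lit 0x1018008020040) (nat_lit 0x1040010004002001) (nat_lit 0x104701003c016015) (nat_lit 40) (nat_lit 0) (nat_lit 2) (nat_lit 1) (nat_lit 0) (nat_lit 65) (nat_lit 1) (nat_lit 0) (nat_lit 1) (nat_lit 0) (nat_lit 1) (nat_lit 0) .nil))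
theorem c425 : (chk [] [] p425).n x238 s425 = true := by decide +kernel
noncomputable def p426 : Pf := (.ext (nat_lit 1) (nat_lit 0) (nat_lit 0x1200180100020004008050) (nat_lit 0x1020010018002074040001001) (nat_lit 0x18008020047) (nat_lit 4099) (nat_lit 4161) (nat_lit 0x4702001000803c016015) (.dfs (nat_lit 3) (nat_lit 0x1018008020047) (nat_lit 0x1018008020040) (nat_lit 0x1040010004002001) (nat_lit 0x104701003c016015) (nat_lit 40) (nat_lit 0) (nat_lit 2) (nat_lit 1) (nat_lit 0) (nat_lit 65) (nat_lit 1) (nat_lit 0) (nat_lit 1) (nat_lit 0) (nat_lit 1) (nat_lit 0) .nil))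
theorem c426 : (chk [] [] p426).n x239 s426 = true := by decide +kernel
noncomputable def p427 : Pf := (.ext (nat_lit 1) (nat_lit 0) (nat_lit 0x1200180100020004008050) (nat_lit 0x1020010018002074040001001) (nat_lit 0x18008020047) (nat_lit 4099) (nat_lit 4161) (nat_lit 0x4702001000803c016015) (.dfs (nat_lit 3) (nat_lit 0x1018008020047) (nat_lit 0x1018008020040) (nat_lit 0x1040010004002001) (nat_lit 0x104701003c016015) (nat_lit 8) (nat_lit 0) (nat_lit 2) (nat_lit 1) (nat_lit 0) (nat_lit 65) (nat_lit 1) (nat_lit 0) (nat_lit 1) (nat_lit 0) (nat_lit 1) (nat_lit 0) .nil))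
theorem c427 : (chk [] [] p427).n x240 s427 = true := by decide +kernel
noncomputable def p428 : Pf := (.ext (nat_lit 1) (nat_lit 0) (nat_lit 0x1200180100020004008050) (nat_lit 0x1020010018002074040001001) (nat_lit 0x18008020047) (nat_lit 4099) (nat_lit 4161) (nat_lit 0x4702001000803c016015) (.dfs (nat_lit 3) (nat_lit 0x1018008020047) (nat_lit 0x1018008020040) (nat_lit 0x1040010004002001) (nat_lit 0x104701003c016015) (nat_lit 8) (nat_lit 0) (nat_lit 2) (nat_lit 1) (nat_lit 0) (nat_lit 65) (nat_lit 1) (nat_lit 0) (nat_lit 1) (nat_lit 0) (nat_lit 1) (nat_lit 0) .nil))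
theorem c428 : (chk [] [] p428).n x241 s428 = true := by decide +kernel
noncomputable def p429 : Pf := (.ext (nat_lit 0) (nat_lit 0) (nat_lit 0x1400100200080005020050) (nat_lit 0x40020010008004002001001001) (nat_lit 0x10038020050) (nat_lit 4097) (nat_lit 5796) (nat_lit 0x2020030028004040043) (.dfs (nat_lit 1) (nat_lit 0x1010038020050) (nat_lit 0x1030038020032) (nat_lit 0x1040008004002001) (nat_lit 0x1002028004040043) (nat_lit 0) (nat_lit 0) (nat_lit 2) (nat_lit 0) (nat_lit 0) (nat_lit 1028) (nat_lit 1) (nat_lit 0) (nat_lit 1) (nat_lit 0) (nat_lit 1) (nat_lit 0x1000000000000000000000000000000000000000000000000000000000000000100000000000000000000000000000000000000000000000000000000000000000000000000000000000000000000000000000000000000000000000000000000000000000000000000000000000000000000000000000000000000000000000000000000000000000000000000000000000000000000000000000000000000000000000000000000000000000000000000000000000000000000000000000000000000000000000000000000000000000000000000000000000000000000000000000000000000000000000000000000000000000)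 (.cD (nat_lit 1700) (.kS (nat_lit 0) (nat_lit 0x200700400e0002020020000002) (nat_lit 0x13f00201712d5) (nat_lit 0x800600200b01000800400601102801800800100200405002001002804402201b) (nat_lit 0x7001004009002e0040ad03c0010100200400800080040010020010200200000200700400e005600406702a001004)) (.cD (nat_lit 1956) (.cut (nat_lit 0)) .nil))))
theorem c429 : (chk [(x78, s118)] [] p429).n x78 s429 = true := by decide +kernel
noncomputable def p430 : Pf := (.ext (nat_lit 0) (nat_lit 0) (nat_lit 0x1400100200080) (nat_lit 0x20010008004001001) (nat_lit 0x200700400a) (nat_lit 0x1050020005) (nat_lit 0x1025020075) (nat_lit 0xa00400200500c00400200100d004006001) (.dfs (nat_lit 5) (nat_lit 0x100200700400a) (nat_lit 0x100600300400b) (nat_lit 0x1008001) (nat_lit 0x100d001) (nat_lit 0) (nat_lit 0) (nat_lit 2) (nat_lit 0) (nat_lit 0) (nat_lit 117) (nat_lit 1) (nat_lit 0) (nat_lit 0x1400180) (nat_lit 0x400180) (nat_lit 0x1000075001075001175) (nat_lit 0x200000000000000000000000000000) (.cD (nat_lit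 117) (.dfs (nat_lit 32) (nat_lit 0x100400e008014) (nat_lit 0x100400e00801c) (nat_lit 0x1010002001) (nat_lit 0x1018002003) (nat_lit 0) (nat_lit 0) (nat_lit 2) (nat_lit 0) (nat_lit 0) (nat_lit 32) (nat_lit 1) (nat_lit 0) (nat_lit 1) (nat_lit 0) (nat_lit 1) (nat_lit 0x10000000000000000000000000000000000000000000000000000000000000001000000000000000000000000000000000000000000000000000000000000000000000000000000000000000000000001000000000000000000000000000000000000000000000000000000000000000100000000) (.cD (nat_lit 32) (.dfs (nat_lit 80) (nat_lit 0x100801c010028) (nat_lit 0x100800c010020) (nat_lit 0x1020004002001) (nat_lit 0x1028014006009) (nat_lit 24) (nat_lit 0) (nat_lit 2) (nat_lit 0) (nat_lit 0) (nat_lit 37) (nat_lit 1) (nat_lit 0) (nat_lit 4992) (nat_lit 896) (nat_lit 0x1000225) (nat_lit 0x200000000000000000000000000000000000000000000000000000000000000000000000000000000000000000000000000000000000000000000000000000000000000000) (.cD (nat_lit 549) (.cut (nat_lit 0))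 .nil)) (.cD (nat_lit 288) (.dfs (nat_lit 80) (nat_lit 0x100801c010028) (nat_lit 0x100800c010020) (nat_lit 0x1020004002001) (nat_lit 0x1028014006009) (nat_lit 24) (nat_lit 0) (nat_lit 2) (nat_lit 0) (nat_lit 0) (nat_lit 37) (nat_lit 1) (nat_lit 0) (nat_lit 4992) (nat_lit 896) (nat_lit 0x1000225) (nat_lit 0x200000000000000000000000000000000000000000000000000000000000000000000000000000000000000000000000000000000000000000000000000000000000000000) (.cD (nat_lit 549) (.kS (nat_lit 0) (nat_lit 0x10038020070002020020000002) (nat_lit 0x12f0120) (nat_lit 0x800600200b010008004006011) (nat_lit 0x3800802004801702200100801002004000400200102002000001003802007000b022001004)) .nil)) (.cD (nat_lit 672) (.kA false (nat_lit 0x400400001800c010005002021401000003)) (.cD (nat_lit 928) (.kA false (nat_lit 0x400400001800c010005002001001000003)) .nil))))) .nil)))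
theorem c430 : (chk [(x78, s429)] [] p430).n x78 s430 = true := by decide +kernel
noncomputable def p431 : Pf := (.ext (nat_lit 0) (nat_lit 0) (nat_lit 0x1400100200080) (nat_lit 0x20010008004001001) (nat_lit 0x200700400a) (nat_lit 0x1050020005) (nat_lit 0x1025020075) (nat_lit 0xa00400200500c00400200100d004006001) (.dfs (nat_lit 5) (nat_lit 0x100200700400a) (nat_lit 0x100600300400b) (nat_lit 0x1008001) (nat_lit 0x100d001) (nat_lit 0) (nat_lit 0) (nat_lit 2) (nat_lit 0) (nat_lit 0) (nat_lit 117) (nat_lit 1) (nat_lit 0) (nat_lit 0x1400180) (nat_lit 0x400180) (nat_lit 0x1000075001075001175) (nat_lit 0x200000000000000000000000000000) (.cD (nat_lit 117) (.dfs (nat_lit 32) (nat_lit 0x100400e008014) (nat_lit 0x100400e00801c) (nat_lit 0x1010002001) (nat_lit 0x1018002003) (nat_lit 0) (nat_lit 0) (nat_lit 2) (nat_lit 0) (nat_lit 0) (nat_lit 32) (nat_lit 1) (nat_lit 0) (nat_lit 1) (nat_lit 0) (nat_lit 1) (nat_lit 0x10000000000000000000000000000000000000000000000000000000000000001000000000000000000000000000000000000000000000000000000000000000000000000000000000000000000000001000000000000000000000000000000000000000000000000000000000000000100000000)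 (.cD (nat_lit 32) (.dfs (nat_lit 80) (nat_lit 0x100801c010028) (nat_lit 0x100800c010020) (nat_lit 0x1020004002001) (nat_lit 0x1028014006009) (nat_lit 24) (nat_lit 0) (nat_lit 2) (nat_lit 0) (nat_lit 0) (nat_lit 37) (nat_lit 1) (nat_lit 0) (nat_lit 1) (nat_lit 0) (nat_lit 1) (nat_lit 0) .nil) (.cD (nat_lit 288) (.dfs (nat_lit 80) (nat_lit 0x100801c010028) (nat_lit 0x100800c010020) (nat_lit 0x1020004002001) (nat_lit 0x1028014006009) (nat_lit 24) (nat_lit 0) (nat_lit 2) (nat_lit 0) (nat_lit 0) (nat_lit 37) (nat_lit 1) (nat_lit 0) (nat_lit 1) (nat_lit 0) (nat_lit 1) (nat_lit 0) .nil) (.cD (nat_lit 672) (.kA false (nat_lit 0x400400001800c010005002021401000003)) (.cD (nat_lit 928) (.kA false (nat_lit 0x400400001800c010005002001001000003)) .nil))))) .nil)))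
theorem c431 : (chk [] [] p431).n x243 s431 = true := by decide +kernel
noncomputable def p432 : Pf := (.lft (nat_lit 0x200080100040008010020002004001001001) (nat_lit 0) (nat_lit 0x13fc3dc3a038037c35c3203002fc2dc2a028027c25c2202001f41f01d41d01741701541500f40f00d40d0074070054050) (nat_lit 0x2001000800400200101880a4002163) (.extn a51 (nat_lit 0x200100080040020010008004002001) (nat_lit 0x1040100080200) (nat_lit 2) (nat_lit 0) (nat_lit 0) (nat_lit 0) (nat_lit 0x100000000000000000000000000000001) (.cE (nat_lit 0) b128 (nat_lit 0) (.cut (nat_lit 0)) (.cut (nat_lit 1)) (.cE (nat_lit 128) (nat_lit 0x20512c20712e2430ea2410e80e53cc0e73ce1a330a1a130810522c10722e1433ea1413e83e50cc3e70ce2a300a2a100835d17435f17629b1322991300bd2940bf29607b3d20793d01dd3f41df3f601b3b20193b023d01423f0162fb1522f91502c51ec2c71ee28302a28102802530c02730e1633ca1613c81c52ec1c72ee18332a18132832500c32700e2630ca2610c839d1b439f1b625b1f22591f007d25407f2560bb3120b931011d33411f3360db3720d93702fd0d42ff0d623b192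2391902851ac2871ae2c306a2c106806534c06734e12338a1213881852ac1872ae1c336a1c136836504c36704e22308a2210883dd1f43df1f621b1b22191b003d21403f2160fb3520f935015d37415f37609b3320993302bd0942bf09627b1d22791d024516c24716e2030aa2010a80a538c0a738e1e334a1e134814526c14726e1033aa1013a83a508c3a708e2e304a2e104831d13431f1362db1722d91700fd2d40ff2d603b39203939019d3b419f3b605b3f20593f027d05427f0562bb1122b91103850ac3870ae3c316a3c116816524c16724e02328a0212880853ac0873ae0c326a0c126826514c26714e32318a3211882dd0f42df0f631b0b23190b013d31413f3161fb2521f925005d27405f27619b2321992303bd1943bf19637b0d23790d034506c34706e3031aa3011a81a528c1a728e0e324a0e124804536c04736e0032aa0012a82a518c2a718e3e314a3e114821d03421f0363db0723d90701fd3d41ff3d613b29213929009d2b409f2b615b2f21592f037d15437f1563bb0123b901030502c30702e3431ea3411e81e52cc1e72ce0a320a0a120800532c00732e0432ea0412e82e51cc2e71ce3a310a3a110825d07425f07639b0323990301bd3941bf39617b2d21792d00dd2f40df2f611b2b21192b033d11433f1163fb0523f90503c50ec3c70ee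38312a38112812520c12720e0632ca0612c80c53ec0c73ee08322a08122822510c22710e3631ca3611c829d0b429f0b635b0f23590f017d35417f3561bb2121b921001d23401f2361db2721d92703fd1d43ff1d633b09233909029503c29703e2d31fa2d11f81f535c1f735e0b339a0b13981153bc1173be15327a1512782750dc2770de33301a3310183cd0643cf06620b0222090201ad2041af20616b3421693401cd2641cf26600b2220092203ad0043af00636b1423691402550fc2570fe21313a21113813539c13739e07335a0713581d537c1d737e1932ba1912b82b501c2b701e3f30da3f10d830d0a430f0a62cb0e22c90e016d2c416f2c61ab3821a938010d2a410f2a60cb2e20c92e036d0c436f0c63ab1823a91802150bc2170be25317a2511781753dc1773de03331a03131819533c19733e1d32fa1d12f82f505c2f705e3b309a3b109834d0e434f0e628b0a22890a012d28412f2861eb3c21e93c014d2e414f2e608b2a20892a032d08432f0863eb1c23e91c02d507c2d707e2931ba2911b81b531c1b731e0f33da0f13d81553fc1573fe11323a11123823509c23709e37305a37105838d02438f02624b0622490601ed2441ef24612b30212930018d22418f22604b2620492603ed0443ef04632b1023291003151bc3171be35307a3510780752dc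0772de13321a13121809523c09723e0d33fa0d13f83f515c3f715e2b319a2b119824d1e424f1e638b1a23891a002d38402f3860eb2c20e92c004d3e404f3e618b3a21893a022d18422f1862eb0c22e90c03d517c3d717e3930ba3910b80b521c0b721e1f32da1f12d80552fc0572fe01333a01133833519c33719e27315a27115828d12428f12634b1623491600ed3440ef34602b20202920008d32408f32614b3621493602ed1442ef14622b00222900039513c39713e3d30fa3d10f80f525c0f725e1b329a1b12980152bc0172be05337a0513783751dc3771de23311a2311182cd1642cf16630b1223091200ad3040af30606b2420692400cd3640cf36610b3221093202ad1042af10626b0422690403551fc3571fe31303a31103803529c03729e17325a1712580d527c0d727e0933ba0913b83b511c3b711e2f31da2f11d820d1a420f1a63cb1e23c91e006d3c406f3c60ab2820a928000d3a400f3a61cb3e21c93e026d1c426f1c62ab0822a9080) (nat_lit 0) (.iso x78 s118 (nat_lit 0) (nat_lit 0x1400200100080040020010008004002201) (nat_lit 0x400200100080040020010008004002201) [] (.cut (nat_lit 2))) (.iso x243 s431 (nat_lit 0) (nat_lit 0x1400200100080040020010008004002201) (nat_lit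 0x400200100080040020010008004002201) [(nat_lit 0x20010008004002001005001)] (.cut (nat_lit 1))) .nil))))
theorem c432 : (chk [(x78, s430), (x243, s431), (x78, s118)] [g128] p432).n x242 s432 = true := by decide +kernel
noncomputable def p433 : Pf := (.ext (nat_lit 1) (nat_lit 0) (nat_lit 0x1200180100020004008050) (nat_lit 0x1020010018002074040005001) (nat_lit 0x18008020047) (nat_lit 0x1011003) (nat_lit 0x1012041) (nat_lit 0x2d02001000800f06c06f04702001000803c016015) (.dfs (nat_lit 3) (nat_lit 0x1018008020047) (nat_lit 0x1018008020040) (nat_lit 0x1040010004002001) (nat_lit 0x104701003c016015) (nat_lit 56) (nat_lit 0) (nat_lit 2) (nat_lit 1) (nat_lit 0) (nat_lit 65) (nat_lit 1) (nat_lit 0) (nat_lit 1) (nat_lit 0) (nat_lit 1) (nat_lit 0x2000000020000000000000000000000020000000200000000000000000000000200000002000000000000000000000002000000020000000000000000) (.cD (nat_lit 65) (.dfs (nat_lit 17) (nat_lit 0x103001004008e) (nat_lit 0x1030010040002) (nat_lit 0x1080020008004002001)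 (nat_lit 0x105a02001e0d80de019) (nat_lit 140) (nat_lit 0) (nat_lit 2) (nat_lit 1) (nat_lit 0) (nat_lit 18) (nat_lit 1) (nat_lit 0) (nat_lit 1) (nat_lit 0) (nat_lit 1) (nat_lit 0x4000000040000000000000000000000040000000400000000000000000000000400000004000000000000000000000004000000040000) (.cD (nat_lit 18) (.kS (nat_lit 1) (nat_lit 0x6002008011c002001) (nat_lit 0x1370008050142) (nat_lit 0x800400200d01000800400a01d02001000801c03a00904002001000f074026025) (nat_lit 0x4006008005417800800400500102004008010001000800400200106002008011c124008004077001003)) (.cD (nat_lit 50) (.cut (nat_lit 0)) (.cD (nat_lit 146) (.kS (nat_lit 1) (nat_lit 0x40020080054002163001000002) (nat_lit 0x115c3d8200003262) (nat_lit 0x800400200d01000800400a01d02001000801c03a00904002001000f0740260250800400200aa08e0b80be089) (nat_lit 0x20020000200400801000100080040020010010011630000400200800540dc10c100002157001004)) (.cD (nat_lit 178) (.kS (nat_lit 1) (nat_lit 0x40020080054002163001000002) (nat_lit 0x115c3d8200003242)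 (nat_lit 0x800400200d01000800400a01d02001000801c03a00904002001000f0740260250800400200aa08e0b80be089) (nat_lit 0x20020000200400801000100080040020010010011630000400200800540dc10c100002137001004)) (.cD (nat_lit 274) (.kS (nat_lit 1) (nat_lit 0x40020080054002163001000002) (nat_lit 0x115c3d82000033e2) (nat_lit 0x800400200d01000800400a01d02001000801c03a00904002001000f0740260250800400200aa08e0b80be089) (nat_lit 0x20020000200400801000100080040020010010011630000400200800540dc10c1000021d7001004)) (.cD (nat_lit 306) (.kS (nat_lit 1) (nat_lit 0x40020080054002163001000002) (nat_lit 0x115c3d82000033c2) (nat_lit 0x800400200d01000800400a01d02001000801c03a00904002001000f0740260250800400200aa08e0b80be089) (nat_lit 0x20020000200400801000100080040020010010011630000400200800540dc10c1000021b7001004)) (.cD (nat_lit 402) (.kS (nat_lit 1) (nat_lit 0x6002008011c002001) (nat_lit 0x13700080500c2) (nat_lit 0x800400200d01000800400a01d02001000801c03a00904002001000f074026025) (nat_lit 0x4006008005417800800400500102004008010001000800400200106002008011c1240080040f7001003))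 (.cD (nat_lit 434) (.cut (nat_lit 0)) .nil))))))))) (.cD (nat_lit 97) (.kS (nat_lit 1) (nat_lit 0x2001004002a002163001000002) (nat_lit 0x115c3d8200103) (nat_lit 0x800400200d01000800400a01d02001000801c03a00904002001000f074026025) (nat_lit 0x200200001002004008000800400200100100116300002001004002a06e086080021001004)) (.cD (nat_lit 193) (.kS (nat_lit 1) (nat_lit 0x2001004002a002163001000002) (nat_lit 0x115c3d82001a3) (nat_lit 0x800400200d01000800400a01d02001000801c03a00904002001000f074026025) (nat_lit 0x200200001002004008000800400200100100116300002001004002a06e086080051001004)) (.cD (nat_lit 225) (.dfs (nat_lit 17) (nat_lit 0x103001004008e) (nat_lit 0x1030010040002) (nat_lit 0x1080020008004002001) (nat_lit 0x105a02001e0d80de019) (nat_lit 140) (nat_lit 0) (nat_lit 2) (nat_lit 1) (nat_lit 0) (nat_lit 18) (nat_lit 1) (nat_lit 0) (nat_lit 1) (nat_lit 0) (nat_lit 1) (nat_lit 0x4000000040000000000000000000000040000000400000000000000000000000400000004000000000000000000000004000000040000)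 (.cD (nat_lit 18) (.kS (nat_lit 1) (nat_lit 0x40020080054002163001000002) (nat_lit 0x115c3d82000a3362) (nat_lit 0x800400200d01000800400a01d02001000801c03a00904002001000f0740260250800400200aa08e0b80be089) (nat_lit 0x20020000200400801000100080040020010010011630000400200800540dc10c1000e2117001004)) (.cD (nat_lit 50) (.kS (nat_lit 1) (nat_lit 0x40020080054002163001000002) (nat_lit 0x115c3d82000a3342) (nat_lit 0x800400200d01000800400a01d02001000801c03a00904002001000f0740260250800400200aa08e0b80be089) (nat_lit 0x20020000200400801000100080040020010010011630000400200800540dc10c1000e2177001004)) (.cD (nat_lit 146) (.kS (nat_lit 1) (nat_lit 0x40020080054002163001000002) (nat_lit 0x115c3d82000a33c2) (nat_lit 0x800400200d01000800400a01d02001000801c03a00904002001000f0740260250800400200aa08e0b80be089) (nat_lit 0x20020000200400801000100080040020010010011630000400200800540dc10c1000e21b7001004)) (.cD (nat_lit 178) (.kS (nat_lit 1) (nat_lit 0x40020080054002163001000002) (nat_lit 0x115c3d82000a33e2)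 (nat_lit 0x800400200d01000800400a01d02001000801c03a00904002001000f0740260250800400200aa08e0b80be089) (nat_lit 0x20020000200400801000100080040020010010011630000400200800540dc10c1000e21d7001004)) (.cD (nat_lit 274) (.kS (nat_lit 1) (nat_lit 0x40020080054002163001000002) (nat_lit 0x115c3d82000a3242) (nat_lit 0x800400200d01000800400a01d02001000801c03a00904002001000f0740260250800400200aa08e0b80be089) (nat_lit 0x20020000200400801000100080040020010010011630000400200800540dc10c1000e2137001004)) (.cD (nat_lit 306) (.kS (nat_lit 1) (nat_lit 0x40020080054002163001000002) (nat_lit 0x115c3d82000a3262) (nat_lit 0x800400200d01000800400a01d02001000801c03a00904002001000f0740260250800400200aa08e0b80be089) (nat_lit 0x20020000200400801000100080040020010010011630000400200800540dc10c1000e2157001004)) (.cD (nat_lit 402) (.kS (nat_lit 1) (nat_lit 0x40020080054002163001000002) (nat_lit 0x115c3d82000a32e2) (nat_lit 0x800400200d01000800400a01d02001000801c03a00904002001000f0740260250800400200aa08e0b80be089)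 (nat_lit 0x20020000200400801000100080040020010010011630000400200800540dc10c1000e2197001004)) (.cD (nat_lit 434) (.kS (nat_lit 1) (nat_lit 0x40020080054002163001000002) (nat_lit 0x115c3d82000a32c2) (nat_lit 0x800400200d01000800400a01d02001000801c03a00904002001000f0740260250800400200aa08e0b80be089) (nat_lit 0x20020000200400801000100080040020010010011630000400200800540dc10c1000e21f7001004)) .nil))))))))) (.cD (nat_lit 321) (.kS (nat_lit 1) (nat_lit 0x2001004002a002163001000002) (nat_lit 0x115c3d8200023) (nat_lit 0x800400200d01000800400a01d02001000801c03a00904002001000f074026025) (nat_lit 0x200200001002004008000800400200100100116300002001004002a06e086080011001004)) (.cD (nat_lit 353) (.dfs (nat_lit 17) (nat_lit 0x103001004008e) (nat_lit 0x1030010040002) (nat_lit 0x1080020008004002001) (nat_lit 0x105a02001e0d80de019) (nat_lit 140) (nat_lit 0) (nat_lit 2) (nat_lit 1) (nat_lit 0) (nat_lit 18) (nat_lit 1) (nat_lit 0) (nat_lit 1) (nat_lit 0) (nat_lit 1) (nat_lit 0x4000000040000000000000000000000040000000400000000000000000000000400000004000000000000000000000004000000040000)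 (.cD (nat_lit 18) (.kS (nat_lit 1) (nat_lit 0x40020080054002163001000002) (nat_lit 0x115c3d82001232e2) (nat_lit 0x800400200d01000800400a01d02001000801c03a00904002001000f0740260250800400200aa08e0b80be089) (nat_lit 0x20020000200400801000100080040020010010011630000400200800540dc10c100062197001004)) (.cD (nat_lit 50) (.kS (nat_lit 1) (nat_lit 0x40020080054002163001000002) (nat_lit 0x115c3d82001232c2) (nat_lit 0x800400200d01000800400a01d02001000801c03a00904002001000f0740260250800400200aa08e0b80be089) (nat_lit 0x20020000200400801000100080040020010010011630000400200800540dc10c1000621f7001004)) (.cD (nat_lit 146) (.cut (nat_lit 0)) (.cD (nat_lit 178) (.kS (nat_lit 1) (nat_lit 0x6002008011c002001) (nat_lit 0x13700080501e2) (nat_lit 0x800400200d01000800400a01d02001000801c03a00904002001000f074026025) (nat_lit 0x4006008005417800800402500102004008010001000800400200106002008011c1240080040d7001003)) (.cD (nat_lit 274) (.cut (nat_lit 0)) (.cD (nat_lit 306) (.kS (nat_lit 1) (nat_lit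 0x6002008011c002001) (nat_lit 0x1370008050062) (nat_lit 0x800400200d01000800400a01d02001000801c03a00904002001000f074026025) (nat_lit 0x4006008005417800800402500102004008010001000800400200106002008011c124008004057001003)) (.cD (nat_lit 402) (.kS (nat_lit 1) (nat_lit 0x40020080054002163001000002) (nat_lit 0x115c3d8200123362) (nat_lit 0x800400200d01000800400a01d02001000801c03a00904002001000f0740260250800400200aa08e0b80be089) (nat_lit 0x20020000200400801000100080040020010010011630000400200800540dc10c100062117001004)) (.cD (nat_lit 434) (.kS (nat_lit 1) (nat_lit 0x40020080054002163001000002) (nat_lit 0x115c3d8200123342) (nat_lit 0x800400200d01000800400a01d02001000801c03a00904002001000f0740260250800400200aa08e0b80be089) (nat_lit 0x20020000200400801000100080040020010010011630000400200800540dc10c100062177001004)) .nil))))))))) (.cD (nat_lit 449) (.dfs (nat_lit 17) (nat_lit 0x103001004008e) (nat_lit 0x1030010040002) (nat_lit 0x1080020008004002001) (nat_lit 0x105a02001e0d80de019)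 (nat_lit 140) (nat_lit 0) (nat_lit 2) (nat_lit 1) (nat_lit 0) (nat_lit 18) (nat_lit 1) (nat_lit 0) (nat_lit 1) (nat_lit 0) (nat_lit 1) (nat_lit 0x4000000040000000000000000000000040000000400000000000000000000000400000004000000000000000000000004000000040000) (.cD (nat_lit 18) (.kS (nat_lit 1) (nat_lit 0x40020080054002163001000002) (nat_lit 0x115c3d8200183342) (nat_lit 0x800400200d01000800400a01d02001000801c03a00904002001000f0740260250800400200aa08e0b80be089) (nat_lit 0x20020000200400801000100080040020010010011630000400200800540dc10c100082177001004)) (.cD (nat_lit 50) (.kS (nat_lit 1) (nat_lit 0x40020080054002163001000002) (nat_lit 0x115c3d8200183362) (nat_lit 0x800400200d01000800400a01d02001000801c03a00904002001000f0740260250800400200aa08e0b80be089) (nat_lit 0x20020000200400801000100080040020010010011630000400200800540dc10c100082117001004)) (.cD (nat_lit 146) (.kS (nat_lit 1) (nat_lit 0x40020080054002163001000002) (nat_lit 0x115c3d82001833e2) (nat_lit 0x800400200d01000800400a01d02001000801c03a00904002001000f0740260250800400200aa08e0b80be089)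 (nat_lit 0x20020000200400801000100080040020010010011630000400200800540dc10c1000821d7001004)) (.cD (nat_lit 178) (.kS (nat_lit 1) (nat_lit 0x40020080054002163001000002) (nat_lit 0x115c3d82001833c2) (nat_lit 0x800400200d01000800400a01d02001000801c03a00904002001000f0740260250800400200aa08e0b80be089) (nat_lit 0x20020000200400801000100080040020010010011630000400200800540dc10c1000821b7001004)) (.cD (nat_lit 274) (.kS (nat_lit 1) (nat_lit 0x40020080054002163001000002) (nat_lit 0x115c3d8200183262) (nat_lit 0x800400200d01000800400a01d02001000801c03a00904002001000f0740260250800400200aa08e0b80be089) (nat_lit 0x20020000200400801000100080040020010010011630000400200800540dc10c100082157001004)) (.cD (nat_lit 306) (.kS (nat_lit 1) (nat_lit 0x40020080054002163001000002) (nat_lit 0x115c3d8200183242) (nat_lit 0x800400200d01000800400a01d02001000801c03a00904002001000f0740260250800400200aa08e0b80be089) (nat_lit 0x20020000200400801000100080040020010010011630000400200800540dc10c100082137001004))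 (.cD (nat_lit 402) (.kS (nat_lit 1) (nat_lit 0x40020080054002163001000002) (nat_lit 0x115c3d82001832c2) (nat_lit 0x800400200d01000800400a01d02001000801c03a00904002001000f0740260250800400200aa08e0b80be089) (nat_lit 0x20020000200400801000100080040020010010011630000400200800540dc10c1000821f7001004)) (.cD (nat_lit 434) (.kS (nat_lit 1) (nat_lit 0x40020080054002163001000002) (nat_lit 0x115c3d82001832e2) (nat_lit 0x800400200d01000800400a01d02001000801c03a00904002001000f0740260250800400200aa08e0b80be089) (nat_lit 0x20020000200400801000100080040020010010011630000400200800540dc10c100082197001004)) .nil))))))))) (.cD (nat_lit 481) (.kS (nat_lit 1) (nat_lit 0x2001004002a002163001000002) (nat_lit 0x115c3d8200083) (nat_lit 0x800400200d01000800400a01d02001000801c03a00904002001000f074026025) (nat_lit 0x200200001002004008000800400200100100116300002001004002a06e086080061001004)) .nil))))))))))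
theorem c433 : (chk [(x242, s432)] [] p433).n x242 s433 = true := by decide +kernel
noncomputable def p434 : Pf := (.ext (nat_lit 0) (nat_lit 0) (nat_lit 0x1200080100040008010020002004) (nat_lit 0x100080040020004010002008001001001) (nat_lit 0xa00c0080008) (nat_lit 4097) (nat_lit 4649) (nat_lit 0x1f90800400c20151470440201ad) (.dfs (nat_lit 1) (nat_lit 0x10a00c0080008) (nat_lit 0x10420c0080147) (nat_lit 0x1100040020010004002001) (nat_lit 0x11f90400c20150440201ad) (nat_lit 230) (nat_lit 0) (nat_lit 2) (nat_lit 0) (nat_lit 0) (nat_lit 117) (nat_lit 1) (nat_lit 0) (nat_lit 1) (nat_lit 0) (nat_lit 1) (nat_lit 0x2000000000000000000000000000000020000000000000000000000000000000200000000000000000000000000000002000000000000000000000000000000000000000000000000000000000000000000000000000000000000000000000000000000000000000000000000000000000000000000) (.cD (nat_lit 553) (.cut (nat_lit 1)) (.cD (nat_lit 681) (.iso x242 s432 (nat_lit 0) (nat_lit 0x1200100080040020010008004002101)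 (nat_lit 0x200100080040020010008004002101) [(nat_lit 0x200100080040020010008004002081001001), (nat_lit 0x20010008004002001005001)] (.cut (nat_lit 0))) (.cD (nat_lit 809) (.kS (nat_lit 0) (nat_lit 0x40080100200001001) (nat_lit 0x1360200002158146329) (nat_lit 0xe00400200501000800400600102801000802103f02c0600200100080040220210f904002005102903c0f60010c40800401f901302710008216b) (nat_lit 0x1401801000102c82000040f03163a9002040080100200020010004008002001002002)) (.cD (nat_lit 937) (.kS (nat_lit 0) (nat_lit 0x40080100200001001) (nat_lit 0x13602000021581463a9) (nat_lit 0xe00400200501000800400600102801000802103f02c0600200100080040220210f904002005102903c0f60010c40800401f901302710008216b) (nat_lit 0x1401801000102c82000040f03162a9002040080100200020010004008002001002002)) .nil))))))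
theorem c434 : (chk [(x242, s432), (x242, s433)] [g127] p434).n x242 s434 = true := by decide +kernel
noncomputable def p435 : Pf := (.ext (nat_lit 1) (nat_lit 0) (nat_lit 0x1200180100020004008050) (nat_lit 0x1020010018002074040001001) (nat_lit 0x18008020047) (nat_lit 0x1011003) (nat_lit 0x1012041) (nat_lit 0x2d02001000800f06c06f04702001000803c016015) (.dfs (nat_lit 3) (nat_lit 0x1018008020047) (nat_lit 0x1018008020040) (nat_lit 0x1040010004002001) (nat_lit 0x104701003c016015) (nat_lit 56) (nat_lit 0) (nat_lit 2) (nat_lit 1) (nat_lit 0) (nat_lit 65) (nat_lit 1) (nat_lit 0) (nat_lit 1) (nat_lit 0) (nat_lit 1) (nat_lit 0x2000000020000000000000000000000020000000200000000000000000000000200000002000000000000000000000002000000020000000000000000) (.cD (nat_lit 65) (.dfs (nat_lit 17) (nat_lit 0x103001004008e) (nat_lit 0x1030010040002) (nat_lit 0x1080020008004002001) (nat_lit 0x105a02001e0d80de019) (nat_lit 140) (nat_lit 0) (nat_lit 2) (nat_lit 1) (nat_lit 0) (nat_lit 18)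 (nat_lit 1) (nat_lit 0) (nat_lit 1) (nat_lit 0) (nat_lit 1) (nat_lit 0) .nil) (.cD (nat_lit 97) (.kS (nat_lit 1) (nat_lit 0x2001004002a002163001000002) (nat_lit 0x115c3d8200103) (nat_lit 0x800400200d01000800400a01d02001000801c03a00904002001000f074026025) (nat_lit 0x200200001002004008000800400200100100116300002001004002a06e086080021001004)) (.cD (nat_lit 193) (.kS (nat_lit 1) (nat_lit 0x2001004002a002163001000002) (nat_lit 0x115c3d82001a3) (nat_lit 0x800400200d01000800400a01d02001000801c03a00904002001000f074026025) (nat_lit 0x200200001002004008000800400200100100116300002001004002a06e086080051001004)) (.cD (nat_lit 225) (.dfs (nat_lit 17) (nat_lit 0x103001004008e) (nat_lit 0x1030010040002) (nat_lit 0x1080020008004002001) (nat_lit 0x105a02001e0d80de019) (nat_lit 140) (nat_lit 0) (nat_lit 2) (nat_lit 1) (nat_lit 0) (nat_lit 18) (nat_lit 1) (nat_lit 0) (nat_lit 1) (nat_lit 0) (nat_lit 1) (nat_lit 0) .nil) (.cD (nat_lit 321) (.kS (nat_lit 1) (nat_lit 0x2001004002a002163001000002)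 (nat_lit 0x115c3d8200023) (nat_lit 0x800400200d01000800400a01d02001000801c03a00904002001000f074026025) (nat_lit 0x200200001002004008000800400200100100116300002001004002a06e086080011001004)) (.cD (nat_lit 353) (.dfs (nat_lit 17) (nat_lit 0x103001004008e) (nat_lit 0x1030010040002) (nat_lit 0x1080020008004002001) (nat_lit 0x105a02001e0d80de019) (nat_lit 140) (nat_lit 0) (nat_lit 2) (nat_lit 1) (nat_lit 0) (nat_lit 18) (nat_lit 1) (nat_lit 0) (nat_lit 1) (nat_lit 0) (nat_lit 1) (nat_lit 0) .nil) (.cD (nat_lit 449) (.dfs (nat_lit 17) (nat_lit 0x103001004008e) (nat_lit 0x1030010040002) (nat_lit 0x1080020008004002001) (nat_lit 0x105a02001e0d80de019) (nat_lit 140) (nat_lit 0) (nat_lit 2) (nat_lit 1) (nat_lit 0) (nat_lit 18) (nat_lit 1) (nat_lit 0) (nat_lit 1) (nat_lit 0) (nat_lit 1) (nat_lit 0) .nil) (.cD (nat_lit 481) (.kS (nat_lit 1) (nat_lit 0x2001004002a002163001000002) (nat_lit 0x115c3d8200083) (nat_lit 0x800400200d01000800400a01d02001000801c03a00904002001000f074026025)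 (nat_lit 0x200200001002004008000800400200100100116300002001004002a06e086080061001004)) .nil))))))))))
theorem c435 : (chk [] [] p435).n x244 s435 = true := by decide +kernel
noncomputable def p436 : Pf := (.lft (nat_lit 0x1000400c0005020001008010002001001) (nat_lit 49) (nat_lit 0x11d01c01901801501401101000f80e80b80a8078068038028) (nat_lit 0x1000800400200100080c4052001) (.extn a50 (nat_lit 0x100080040020010008004002001) (nat_lit 0x1020080040100) (nat_lit 2) (nat_lit 0) (nat_lit 0) (nat_lit 17) (nat_lit 0x2000000000000000200000000000000020000000000000002000000000000) (.cE (nat_lit 49) b124 (nat_lit 0) (.cut (nat_lit 0)) (.cut (nat_lit 1)) (.cE (nat_lit 113) b125 (nat_lit 0) (.cut (nat_lit 2)) (.cut (nat_lit 3)) (.cE (nat_lit 177) b126 (nat_lit 0) (.cut (nat_lit 4)) (.cut (nat_lit 5)) (.cE (nat_lit 241) b127 (nat_lit 0) (.cut (nat_lit 6)) (.cut (nat_lit 7)) .nil))))))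
theorem c436 : (chk [(x236, s423), (x237, s424), (x238, s425), (x239, s426), (x240, s427), (x241, s428), (x242, s434), (x244, s435)] [] p436).n x219 s436 = true := by decide +kernel
noncomputable def p437 : Pf := (.ext (nat_lit 1) (nat_lit 0) (nat_lit 0x11000c0080010002004028) (nat_lit 0x7a020018010026035001007001001000001020010018002074040007003) (nat_lit 0x18010020015) (nat_lit 0x1008001) (nat_lit 0x102b020) (nat_lit 0x7002001001807e00200100102001001806d043040) (.dfs (nat_lit 1) (nat_lit 0x1018010020015) (nat_lit 0x1008010020015) (nat_lit 0x1040008004002001) (nat_lit 0x100101806d043040) (nat_lit 0) (nat_lit 0) (nat_lit 2) (nat_lit 1) (nat_lit 0) (nat_lit 32) (nat_lit 1) (nat_lit 0) (nat_lit 4112) (nat_lit 16) (nat_lit 0x1000020000060) (nat_lit 0x1000000000000000100000000) (.cD (nat_lit 32) (.dfs (nat_lit 8) (nat_lit 0x100102006002a) (nat_lit 0x10830200600de) (nat_lit 0x1080040010008004002) (nat_lit 0x10e00400300fc004002) (nat_lit 0) (nat_lit 0) (nat_lit 2) (nat_lit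 0) (nat_lit 0) (nat_lit 3) (nat_lit 1) (nat_lit 0) (nat_lit 1) (nat_lit 0) (nat_lit 1) (nat_lit 0x800000000000000080000000000000008000000000000000800000000000000) (.cD (nat_lit 59) (.kS (nat_lit 0) (nat_lit 0x850800c00810010e00400801400030c4004000003) (nat_lit 0x11bf1ee174) (nat_lit 0xe00400200501000800400600102801000802103f02c) (nat_lit 0xc80400801f500710b0600030450400c01000080410420010140d40000e00400801400040101780040850800c0081125100186002005)) (.cD (nat_lit 123) (.kA false (nat_lit 0xc20400c00540010c50400c0004001001001000003)) (.cD (nat_lit 187) (.cut (nat_lit 0)) (.cD (nat_lit 251) (.kA false (nat_lit 0x820400c00540010c50400c0004001001001000003)) .nil))))) (.cD (nat_lit 96) (.dfs (nat_lit 8) (nat_lit 0x106102006002a) (nat_lit 0x10e30200600de) (nat_lit 0x1080040010008004002001) (nat_lit 0x10e00400300fc004002083) (nat_lit 0) (nat_lit 0) (nat_lit 2) (nat_lit 0) (nat_lit 0) (nat_lit 3) (nat_lit 1) (nat_lit 0) (nat_lit 1) (nat_lit 0) (nat_lit 1) (nat_lit 0x800000000000000080000000000000008000000000000000800000000000000)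 (.cD (nat_lit 59) (.kA false (nat_lit 0x20400c00540010c50400c0004001001001000003)) (.cD (nat_lit 123) (.kS (nat_lit 1) (nat_lit 0x1a020018027007001001000020040080100001003) (nat_lit 0x10740a40aa) (nat_lit 0x800400200501000800400e00503001000801101f014) (nat_lit 0x20400c00301761821cb00306004008011c0f80f400100100100100001a02001802703901104e008004)) (.cD (nat_lit 187) (.kA false (nat_lit 0x420400c00540010c50400c0004001001001000003)) (.cD (nat_lit 251) (.kS (nat_lit 0) (nat_lit 0x480400801f50030050400c0100001002) (nat_lit 0x117f1ee020) (nat_lit 0xe00400200501000800400600102801000802103f02c) (nat_lit 0xc50800c00011251000020010200400801000040100080030050400c01000080010020020480400801f500718b0a0004004)) .nil))))) .nil))))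
theorem c437 : (chk [(x219, s436)] [] p437).n x219 s437 = true := by decide +kernel
noncomputable def p438 : Pf := (.ext (nat_lit 0) (nat_lit 0) (nat_lit 0x1100040080020008001004010) (nat_lit 0x80040020010008002001067001001) (nat_lit 0x50060040008) (nat_lit 4098) (nat_lit 4131) (nat_lit 0xa10400200f30ca0fc043001) (.dfs (nat_lit 2) (nat_lit 0x1050060040008) (nat_lit 0x10b30600400ca) (nat_lit 0x1080020010004002001) (nat_lit 0x10a10200f30fc043001) (nat_lit 65) (nat_lit 0) (nat_lit 2) (nat_lit 0) (nat_lit 0) (nat_lit 27) (nat_lit 1) (nat_lit 0) (nat_lit 1) (nat_lit 0) (nat_lit 1) (nat_lit 0x800000000000000080000000000000008000000000000000800000000) (.cD (nat_lit 35) (.kS (nat_lit 0) (nat_lit 0x20040080100001001) (nat_lit 0x11b01000010ac023) (nat_lit 0xe00400200501000800400600102801000802103f02c0600200100080040220210f904002005102903c0f6001) (nat_lit 0xa00c0080010162100008074159002020040080100004010008002001002002)) (.cD (nat_lit 99) (.kS (nat_lit 0) (nat_lit 0x20040080100001001)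 (nat_lit 0x11b01000010ac063) (nat_lit 0xe00400200501000800400600102801000802103f02c0600200100080040220210f904002005102903c0f6001) (nat_lit 0xa00c00800101621000080741d9002020040080100004010008002001002002)) (.cD (nat_lit 163) (.cut (nat_lit 0)) (.cD (nat_lit 227) (.iso x219 s437 (nat_lit 0) (nat_lit 0x1100080040020010008004002041) (nat_lit 0x100080040020010008004002041) [(nat_lit 0x100080040020010088004002001001001), (nat_lit 0x20010008004002011005001), (nat_lit 0x40020010008004002001007001), (nat_lit 0x40020010008004002001009001)] (.cut (nat_lit 0))) .nil))))))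
theorem c438 : (chk [(x219, s437)] [g123] p438).n x219 s438 = true := by decide +kernel
noncomputable def p439 : Pf := (.ext (nat_lit 0) (nat_lit 0) (nat_lit 0x1100040080020008015) (nat_lit 0x2010018014020023002001001000020010008004002001001003) (nat_lit 0x14018010002) (nat_lit 0x1004001) (nat_lit 0x1110001) (nat_lit 0x2801000801c00203f006010008014034037) (.dfs (nat_lit 1) (nat_lit 0x1014018010002) (nat_lit 0x1004018010034) (nat_lit 0x1020008004001) (nat_lit 0x1006008014037) (nat_lit 0) (nat_lit 0) (nat_lit 2) (nat_lit 0) (nat_lit 0) (nat_lit 1) (nat_lit 1) (nat_lit 0) (nat_lit 4128) (nat_lit 32) (nat_lit 0x1000001000081) (nat_lit 0x200000000000000000000000000000002) (.cD (nat_lit 1) (.dfs (nat_lit 4) (nat_lit 0x1028030020004) (nat_lit 0x1018030020004) (nat_lit 0x1040010008002001) (nat_lit 0x105001003807e05d) (nat_lit 48) (nat_lit 0) (nat_lit 2) (nat_lit 0) (nat_lit 0) (nat_lit 16) (nat_lit 1) (nat_lit 0) (nat_lit 1) (nat_lit 0) (nat_lit 1) (nat_lit 0x10000000000000001000000000000000100000000000000010000000000000000000000000000000000000000000000000000000000000000000000000000)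 (.cD (nat_lit 304) (.kA false (nat_lit 0x280300200480090f60200400c7001052002000003)) (.cD (nat_lit 368) (.kA false (nat_lit 0x280300200480090b6060040071002052002000003)) (.cD (nat_lit 432) (.cut (nat_lit 0)) (.cD (nat_lit 496) (.kA true (nat_lit 0x6701003001700a052002000067020060080001003)) .nil))))) (.cD (nat_lit 129) (.dfs (nat_lit 4) (nat_lit 0x1028030020004) (nat_lit 0x1018030020004) (nat_lit 0x1040010008002001) (nat_lit 0x105001003807e05d) (nat_lit 48) (nat_lit 0) (nat_lit 2) (nat_lit 0) (nat_lit 0) (nat_lit 16) (nat_lit 1) (nat_lit 0) (nat_lit 1) (nat_lit 0) (nat_lit 1) (nat_lit 0x10000000000000001000000000000000100000000000000010000000000000000000000000000000000000000000000000000000000000000000000000000) (.cD (nat_lit 304) (.kA false (nat_lit 0x7a01002001700a0960600400c90021fb003000003)) (.cD (nat_lit 368) (.kA false (nat_lit 0x180300200480090d6060040071002052002000003)) (.cD (nat_lit 432) (.kA true (nat_lit 0x19060020008001067020060080001002)) (.cD (nat_lit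 496) (.kA true (nat_lit 0x59060020008001067020060080001002)) .nil))))) .nil))))
theorem c439 : (chk [(x219, s438)] [] p439).n x219 s439 = true := by decide +kernel
noncomputable def p440 : Pf := (.ext (nat_lit 0) (nat_lit 0) (nat_lit 0x1100040080020008) (nat_lit 0x1400800400a019007052002000002) (nat_lit 0x400e008014) (nat_lit 4117) (nat_lit 4117) (nat_lit 0xf008004002016) (.dfs (nat_lit 21) (nat_lit 0x100400e008014) (nat_lit 0x100400e00800b) (nat_lit 0x1010002001) (nat_lit 0x100f002016) (nat_lit 31) (nat_lit 0) (nat_lit 2) (nat_lit 0) (nat_lit 0) (nat_lit 21) (nat_lit 1) (nat_lit 0) (nat_lit 1) (nat_lit 0) (nat_lit 1) (nat_lit 0x20000000200000002000000020000000200000002000000020000000200000) (.cD (nat_lit 21) (.cut (nat_lit 0)) (.cD (nat_lit 53) (.kS (nat_lit 0) (nat_lit 0x401c0100340020c4004000002) (nat_lit 0x10481fd) (nat_lit 0x800400200301000800401d01a) (nat_lit 0xc40040000040080100200020010010040c400000401c010034012037001004)) (.cD (nat_lit 85) (.kS (nat_lit 0)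 (nat_lit 0x801c010038002008008000002) (nat_lit 0x104813d) (nat_lit 0x800400200301000800401d01a) (nat_lit 0x1c00401002401201100100400801002000200100100800800000801c01003801202f001004)) (.cD (nat_lit 117) (.kS (nat_lit 0) (nat_lit 0x401c0100340020c4004000002) (nat_lit 0x10481bd) (nat_lit 0x800400200301000800401d01a) (nat_lit 0xc40040000040080100200020010010040c400000401c010034012027001004)) (.cD (nat_lit 149) (.kS (nat_lit 0) (nat_lit 0x401c0100340020c4004000002) (nat_lit 0x104819d) (nat_lit 0x800400200301000800401d01a) (nat_lit 0xc40040000040080100200020010010040c400000401c010034012023001004)) (.cD (nat_lit 181) (.iso x219 s439 (nat_lit 0) (nat_lit 0x1100080040020010008004002081) (nat_lit 0x100080040020010008004002081) [(nat_lit 0x20010008004002009001001), (nat_lit 0x40020010008004002001003001), (nat_lit 0x40020010008004002001005001), (nat_lit 0x40020010008004002001007001)] (.cut (nat_lit 0))) (.cD (nat_lit 213) (.kS (nat_lit 0) (nat_lit 0x401c0100340020c4004000002)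 (nat_lit 0x10481dd) (nat_lit 0x800400200301000800401d01a) (nat_lit 0xc40040000040080100200020010010040c400000401c010034012033001004)) (.cD (nat_lit 245) (.kS (nat_lit 0) (nat_lit 0x801c010038002008008000002) (nat_lit 0x104815d) (nat_lit 0x800400200301000800401d01a) (nat_lit 0x1c00401002401201d00100400801002000200100100800800000801c01003801203b001004)) .nil))))))))))
theorem c440 : (chk [(x219, s439)] [g123] p440).n x219 s440 = true := by decide +kernel
noncomputable def p441 : Pf := (.lft (nat_lit 0x80020040010002004008001005001) (nat_lit 0) (nat_lit 0x10e80e00c80c00a80a0088080) (nat_lit 0x80040020010008004062029) (.extn a49 (nat_lit 0x80040020010008004002001) (nat_lit 0x1010040020080) (nat_lit 2) (nat_lit 0) (nat_lit 0) (nat_lit 0) (nat_lit 0x1000000010000000100000001) (.cE (nat_lit 0) b123 (nat_lit 0) (.cut (nat_lit 0)) (.cut (nat_lit 1)) (.cE (nat_lit 32) b130 (nat_lit 0) (.cut (nat_lit 2)) (.cut (nat_lit 3)) (.cE (nat_lit 64) b131 (nat_lit 0) (.cut (nat_lit 4))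 (.cut (nat_lit 5)) (.cE (nat_lit 96) b132 (nat_lit 0) (.cut (nat_lit 6)) (.cut (nat_lit 7)) .nil))))))
theorem c441 : (chk [(x219, s440), (x229, s415), (x230, s416), (x231, s417), (x232, s418), (x233, s419), (x234, s420), (x235, s421)] [] p441).n x218 s441 = true := by decide +kernel
noncomputable def p442 : Pf := (.ext (nat_lit 1) (nat_lit 0x18010020001001001) (nat_lit 0x107204003605609c068) (nat_lit 0x3f02001800806903400208006002000200101c00404002001000806b01400204b030057047005049006004) (nat_lit 0xc004010033) (nat_lit 4099) (nat_lit 4114) (nat_lit 0x37010004008012001) (.dfs (nat_lit 3) (nat_lit 0x100c004010033) (nat_lit 0x100c008010028) (nat_lit 0x1020008002001) (nat_lit 0x1037004012001) (nat_lit 12) (nat_lit 0) (nat_lit 2) (nat_lit 1) (nat_lit 0x18010020001003001) (nat_lit 7) (nat_lit 1) (nat_lit 0) (nat_lit 4104) (nat_lit 8) (nat_lit 0x100001a00003a) (nat_lit 0x400000004000000) (.cD (nat_lit 26) (.iso x218 s441 (nat_lit 0) (nat_lit 0x1080040020010008004002001)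 (nat_lit 0x80040020010008004002001) [(nat_lit 0x40020010008004002001001001), (nat_lit 0x40020010008004002001003001), (nat_lit 0x80040020010008004002001005001), (nat_lit 0x40020010008004002001007001), (nat_lit 0x10008004002001009001)] (.cut (nat_lit 1))) (.cD (nat_lit 58) (.cut (nat_lit 0)) .nil))))
theorem c442 : (chk [(x218, s422), (x218, s441)] [g79] p442).n x218 s442 = true := by decide +kernel
noncomputable def p443 : Pf := (.ext (nat_lit 1) (nat_lit 0x2020060080001001) (nat_lit 0x1014060040048036) (nat_lit 0x8006000202201e00101000800400200500704801003005904700304b030010057059003004) (nat_lit 0x4006008010) (nat_lit 0x1080001) (nat_lit 0x1015083) (nat_lit 0x1c00800400200901a008004002001) (.dfs (nat_lit 1) (nat_lit 0x1004006008010) (nat_lit 0x100400600801a) (nat_lit 0x1002001) (nat_lit 0x1002001) (nat_lit 10) (nat_lit 0) (nat_lit 2) (nat_lit 1) (nat_lit 0x2020060080003001) (nat_lit 131) (nat_lit 1) (nat_lit 0) (nat_lit 1) (nat_lit 0) (nat_lit 1) (nat_lit 0x80800000808000008080000080800000000000000000000000000000000)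 (.cD (nat_lit 131) (.dfs (nat_lit 128) (nat_lit 0x100800c010020) (nat_lit 0x100800c010038) (nat_lit 0x1004002001) (nat_lit 0x1004012005) (nat_lit 0) (nat_lit 0) (nat_lit 2) (nat_lit 1) (nat_lit 0x2020060080003001) (nat_lit 1) (nat_lit 1) (nat_lit 0) (nat_lit 1) (nat_lit 0) (nat_lit 1) (nat_lit 0x20200000202000002020000020200000) (.cD (nat_lit 21) (.kS (nat_lit 1) (nat_lit 0x801802002f002062002000002) (nat_lit 4244) (nat_lit 0x800400200d) (nat_lit 0x1000802004206f00101801002000100200100206200000801802002f071001004)) (.cD (nat_lit 29) (.kS (nat_lit 1) (nat_lit 0x8018020037002029001000002) (nat_lit 4340) (nat_lit 0x800400200d) (nat_lit 0x1000802004a06f001018010020001002001001029000008018020037051001004)) (.cD (nat_lit 53) (.kS (nat_lit 1) (nat_lit 0x10008020072001018010020001001002) (nat_lit 4308) (nat_lit 0x800400200d) (nat_lit 0x2900100000801802000f07900201801002000100200201000802007206f002004)) (.cD (nat_lit 61) (.kS (nat_lit 1) (nat_lit 0x1001000000801802001f002002)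 (nat_lit 4252) (nat_lit 0x800400200d) (nat_lit 0x801002002105700106600600000801802001f069001010010000004)) (.cD (nat_lit 85) (.kS (nat_lit 1) (nat_lit 0x10008020052001018010020001001002) (nat_lit 4276) (nat_lit 0x800400200d) (nat_lit 0x2900100000801802002f05900201801002000100200201000802005206f002004)) (.cD (nat_lit 93) (.kS (nat_lit 1) (nat_lit 0x1001000000801802003f002002) (nat_lit 4348) (nat_lit 0x800400200d) (nat_lit 0x801002002105700106600600000801802003f049001010010000004)) (.cD (nat_lit 117) (.kS (nat_lit 1) (nat_lit 0x801802000f002062002000002) (nat_lit 4340) (nat_lit 0x800400200d) (nat_lit 0x1000802006206f00101801002000100200100206200000801802000f051001004)) (.cD (nat_lit 125) (.kS (nat_lit 1) (nat_lit 0x8018020017002029001000002) (nat_lit 4244) (nat_lit 0x800400200d) (nat_lit 0x1000802006a06f001018010020001002001001029000008018020017071001004)) .nil))))))))) (.cD (nat_lit 139) (.dfs (nat_lit 128) (nat_lit 0x100800c010020) (nat_lit 0x100800c010038) (nat_lit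 0x1004002001) (nat_lit 0x1004012005) (nat_lit 0) (nat_lit 0) (nat_lit 2) (nat_lit 1) (nat_lit 0x2020060080003001) (nat_lit 1) (nat_lit 1) (nat_lit 0) (nat_lit 1) (nat_lit 0) (nat_lit 1) (nat_lit 0x20200000202000002020000020200000) (.cD (nat_lit 21) (.kS (nat_lit 1) (nat_lit 0x10008020042001018010020001001002) (nat_lit 4348) (nat_lit 0x800400200d) (nat_lit 0x2900100000801802003f041002018010020001002002010008020042077002004)) (.cD (nat_lit 29) (.kS (nat_lit 1) (nat_lit 0x1001000000801802002f002002) (nat_lit 4340) (nat_lit 0x800400200d) (nat_lit 0x801002002105700106600600000801802002f051001010010000004)) (.cD (nat_lit 53) (.kS (nat_lit 1) (nat_lit 0x801802001f002062002000002) (nat_lit 4284) (nat_lit 0x800400200d) (nat_lit 0x1000802007207700101801002000100200100206200000801802001f049001004)) (.cD (nat_lit 61) (.kS (nat_lit 1) (nat_lit 0x8018020007002029001000002) (nat_lit 4316) (nat_lit 0x800400200d) (nat_lit 0x1000802007a077001018010020001002001001029000008018020007069001004))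 (.cD (nat_lit 85) (.kS (nat_lit 1) (nat_lit 0x801802003f002062002000002) (nat_lit 4316) (nat_lit 0x800400200d) (nat_lit 0x1000802005207700101801002000100200100206200000801802003f069001004)) (.cD (nat_lit 93) (.kS (nat_lit 1) (nat_lit 0x8018020027002029001000002) (nat_lit 4284) (nat_lit 0x800400200d) (nat_lit 0x1000802005a077001018010020001002001001029000008018020027049001004)) (.cD (nat_lit 117) (.kS (nat_lit 1) (nat_lit 0x10008020062001018010020001001002) (nat_lit 4252) (nat_lit 0x800400200d) (nat_lit 0x2900100000801802001f061002018010020001002002010008020062077002004)) (.cD (nat_lit 125) (.kS (nat_lit 1) (nat_lit 0x1001000000801802000f002002) (nat_lit 4244) (nat_lit 0x800400200d) (nat_lit 0x801002002105700106600600000801802000f071001010010000004)) .nil))))))))) (.cD (nat_lit 163) (.kS (nat_lit 1) (nat_lit 0x400c010020002004004000002020060080003003) (nat_lit 4201) (nat_lit 0x800400200b) (nat_lit 0x400400000400801002000100100400400000400c01002001d001004)) (.cD (nat_lit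 171) (.kS (nat_lit 1) (nat_lit 0x400c010020002004004000002020060080003003) (nat_lit 4129) (nat_lit 0x800400200b) (nat_lit 0x400400000400801002000100100400400000400c010020019001004)) (.cD (nat_lit 195) (.kS (nat_lit 1) (nat_lit 0x400c010020002004004000002020060080003003) (nat_lit 4105) (nat_lit 0x800400200b) (nat_lit 0x400400000400801002000100100400400000400c01002000d001004)) (.cD (nat_lit 203) (.kS (nat_lit 1) (nat_lit 0x400c010020002004004000002020060080003003) (nat_lit 4161) (nat_lit 0x800400200b) (nat_lit 0x400400000400801002000100100400400000400c010020009001004)) (.cD (nat_lit 227) (.dfs (nat_lit 128) (nat_lit 0x100800c010020) (nat_lit 0x100800c010038) (nat_lit 0x1004002001) (nat_lit 0x1004012005) (nat_lit 0) (nat_lit 0) (nat_lit 2) (nat_lit 1) (nat_lit 0x2020060080003001) (nat_lit 1) (nat_lit 1) (nat_lit 0) (nat_lit 1) (nat_lit 0) (nat_lit 1) (nat_lit 0x20200000202000002020000020200000) (.cD (nat_lit 21) (.kS (nat_lit 1) (nat_lit 0x801802000f002062002000002)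 (nat_lit 4244) (nat_lit 0x800400200d) (nat_lit 0x1000802004204f00101801002000100200100206200000801802000f071001004)) (.cD (nat_lit 29) (.kS (nat_lit 1) (nat_lit 0x8018020017002029001000002) (nat_lit 4340) (nat_lit 0x800400200d) (nat_lit 0x1000802004a04f001018010020001002001001029000008018020017051001004)) (.cD (nat_lit 53) (.kS (nat_lit 1) (nat_lit 0x10008020072001018010020001001002) (nat_lit 4308) (nat_lit 0x800400200d) (nat_lit 0x2900100000801802002f07900201801002000100200201000802007204f002004)) (.cD (nat_lit 61) (.cut (nat_lit 0)) (.cD (nat_lit 85) (.kS (nat_lit 1) (nat_lit 0x10008020052001018010020001001002) (nat_lit 4276) (nat_lit 0x800400200d) (nat_lit 0x2900100000801802000f05900201801002000100200201000802005204f002004)) (.cD (nat_lit 93) (.iso x218 s442 (nat_lit 0) (nat_lit 0x1080040020010008004002061) (nat_lit 0x80040020010008004002061) [(nat_lit 0x40020010008004022001001001), (nat_lit 0x80040020010008004002061003001), (nat_lit 0x40020010008004002001005001),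 (nat_lit 0x10008004002001007001)] (.cut (nat_lit 0))) (.cD (nat_lit 117) (.kS (nat_lit 1) (nat_lit 0x801802002f002062002000002) (nat_lit 4340) (nat_lit 0x800400200d) (nat_lit 0x1000802006204f00101801002000100200100206200000801802002f051001004)) (.cD (nat_lit 125) (.kS (nat_lit 1) (nat_lit 0x8018020037002029001000002) (nat_lit 4244) (nat_lit 0x800400200d) (nat_lit 0x1000802006a04f001018010020001002001001029000008018020037071001004)) .nil))))))))) (.cD (nat_lit 235) (.dfs (nat_lit 128) (nat_lit 0x100800c010020) (nat_lit 0x100800c010038) (nat_lit 0x1004002001) (nat_lit 0x1004012005) (nat_lit 0) (nat_lit 0) (nat_lit 2) (nat_lit 1) (nat_lit 0x2020060080003001) (nat_lit 1) (nat_lit 1) (nat_lit 0) (nat_lit 1) (nat_lit 0) (nat_lit 1) (nat_lit 0x20200000202000002020000020200000) (.cD (nat_lit 21) (.kS (nat_lit 1) (nat_lit 0x10008020042001018010020001001002) (nat_lit 4348) (nat_lit 0x800400200d) (nat_lit 0x2900100000801802001f041002018010020001002002010008020042057002004))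 (.cD (nat_lit 29) (.iso x218 s442 (nat_lit 0) (nat_lit 0x1080040020010008004002021) (nat_lit 0x80040020010008004002021) [(nat_lit 0x40020010008004032001001001), (nat_lit 0x80040020010008004002041003001), (nat_lit 0x40020010008004002001005001), (nat_lit 0x10008004002001007001)] (.cut (nat_lit 0))) (.cD (nat_lit 53) (.kS (nat_lit 1) (nat_lit 0x801802003f002062002000002) (nat_lit 4284) (nat_lit 0x800400200d) (nat_lit 0x1000802007205700101801002000100200100206200000801802003f049001004)) (.cD (nat_lit 61) (.kS (nat_lit 1) (nat_lit 0x8018020027002029001000002) (nat_lit 4316) (nat_lit 0x800400200d) (nat_lit 0x1000802007a057001018010020001002001001029000008018020027069001004)) (.cD (nat_lit 85) (.kS (nat_lit 1) (nat_lit 0x801802001f002062002000002) (nat_lit 4316) (nat_lit 0x800400200d) (nat_lit 0x1000802005205700101801002000100200100206200000801802001f069001004)) (.cD (nat_lit 93) (.kS (nat_lit 1) (nat_lit 0x8018020007002029001000002) (nat_lit 4284) (nat_lit 0x800400200d)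 (nat_lit 0x1000802005a057001018010020001002001001029000008018020007049001004)) (.cD (nat_lit 117) (.kS (nat_lit 1) (nat_lit 0x10008020062001018010020001001002) (nat_lit 4252) (nat_lit 0x800400200d) (nat_lit 0x2900100000801802003f061002018010020001002002010008020062057002004)) (.cD (nat_lit 125) (.iso x218 s442 (nat_lit 0) (nat_lit 0x1080040020010008004002041) (nat_lit 0x80040020010008004002041) [(nat_lit 0x40020010008004012001001001), (nat_lit 0x80040020010008004002021003001), (nat_lit 0x40020010008004002001005001), (nat_lit 0x10008004002001007001)] (.cut (nat_lit 0))) .nil))))))))) .nil))))))))))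
theorem c443 : (chk [(x218, s442)] [g79] p443).n x218 s443 = true := by decide +kernel
noncomputable def p444 : Pf := (.ext (nat_lit 1) (nat_lit 0x47010030017005001) (nat_lit 0x10f70600080480dc016) (nat_lit 0x4b03005704703504900504002001000804b01400108006002000200101c00303f020018008069034001004) (nat_lit 0x400c010023) (nat_lit 4100) (nat_lit 4099) (nat_lit 0x27010004008012001) (.dfs (nat_lit 4) (nat_lit 0x100400c010023) (nat_lit 0x100800c010028) (nat_lit 0x1020008002001) (nat_lit 0x1027004012001) (nat_lit 0) (nat_lit 0) (nat_lit 2) (nat_lit 1) (nat_lit 0x47010030017007001) (nat_lit 3) (nat_lit 1) (nat_lit 0) (nat_lit 4150) (nat_lit 54) (nat_lit 0x1000015000035) (nat_lit 0x20000000200000) (.cD (nat_lit 21) (.kS (nat_lit 1) (nat_lit 0x1800802004e001029001000018010020001003003) (nat_lit 0x10ae04c) (nat_lit 0x8004002003010008004012015) (nat_lit 0x2001a0180350270090020a706d00001800802004e07c06a002003)) (.cD (nat_lit 53) (.kS (nat_lit 1) (nat_lit 0x2003a018001002062002000018010020001003003)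 (nat_lit 0x107a0b8) (nat_lit 0x8004002003010008004012015) (nat_lit 0x1801002007005a06c00100606600002003a01800102b025001003)) .nil))))
theorem c444 : (chk [] [] p444).n x218 s444 = true := by decide +kernel
noncomputable def p445 : Pf := (.ext (nat_lit 1) (nat_lit 0x2020060080001001) (nat_lit 0x1014060040048036) (nat_lit 0x8006000202201e00101000800400200500504801003005904700304b030010057059003004) (nat_lit 0x4006008010) (nat_lit 0x1080001) (nat_lit 0x1015083) (nat_lit 0x1c00800400200901a008004002001) (.dfs (nat_lit 1) (nat_lit 0x1004006008010) (nat_lit 0x100400600801a) (nat_lit 0x1002001) (nat_lit 0x1002001) (nat_lit 10) (nat_lit 0) (nat_lit 2) (nat_lit 1) (nat_lit 0x2020060080003001) (nat_lit 131) (nat_lit 1) (nat_lit 0) (nat_lit 1) (nat_lit 0) (nat_lit 1) (nat_lit 0x80800000808000008080000080800000000000000000000000000000000) (.cD (nat_lit 131) (.dfs (nat_lit 128) (nat_lit 0x100800c010020) (nat_lit 0x100800c010038) (nat_lit 0x1004002001) (nat_lit 0x1004012005) (nat_lit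 0) (nat_lit 0) (nat_lit 2) (nat_lit 1) (nat_lit 0x2020060080003001) (nat_lit 1) (nat_lit 1) (nat_lit 0) (nat_lit 1) (nat_lit 0) (nat_lit 1) (nat_lit 0x20200000202000002020000020200000) (.cD (nat_lit 21) (.kS (nat_lit 1) (nat_lit 0x801802002f002062002000002) (nat_lit 4244) (nat_lit 0x800400200d) (nat_lit 0x1000802004206f00101801002000100200100206200000801802002f071001004)) (.cD (nat_lit 29) (.kS (nat_lit 1) (nat_lit 0x8018020037002029001000002) (nat_lit 4340) (nat_lit 0x800400200d) (nat_lit 0x1000802004a06f001018010020001002001001029000008018020037051001004)) (.cD (nat_lit 53) (.kS (nat_lit 1) (nat_lit 0x10008020072001018010020001001002) (nat_lit 4308) (nat_lit 0x800400200d) (nat_lit 0x2900100000801802000f07900201801002000100200201000802007206f002004)) (.cD (nat_lit 61) (.kS (nat_lit 1) (nat_lit 0x1001000000801802001f002002) (nat_lit 4252) (nat_lit 0x800400200d) (nat_lit 0x801002002105700106600600000801802001f069001010010000004)) (.cD (nat_lit 85) (.kS (nat_lit 1)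 (nat_lit 0x10008020052001018010020001001002) (nat_lit 4276) (nat_lit 0x800400200d) (nat_lit 0x2900100000801802002f05900201801002000100200201000802005206f002004)) (.cD (nat_lit 93) (.kS (nat_lit 1) (nat_lit 0x1001000000801802003f002002) (nat_lit 4348) (nat_lit 0x800400200d) (nat_lit 0x801002002105700106600600000801802003f049001010010000004)) (.cD (nat_lit 117) (.kS (nat_lit 1) (nat_lit 0x801802000f002062002000002) (nat_lit 4340) (nat_lit 0x800400200d) (nat_lit 0x1000802006206f00101801002000100200100206200000801802000f051001004)) (.cD (nat_lit 125) (.kS (nat_lit 1) (nat_lit 0x8018020017002029001000002) (nat_lit 4244) (nat_lit 0x800400200d) (nat_lit 0x1000802006a06f001018010020001002001001029000008018020017071001004)) .nil))))))))) (.cD (nat_lit 139) (.dfs (nat_lit 128) (nat_lit 0x100800c010020) (nat_lit 0x100800c010038) (nat_lit 0x1004002001) (nat_lit 0x1004012005) (nat_lit 0) (nat_lit 0) (nat_lit 2) (nat_lit 1) (nat_lit 0x2020060080003001) (nat_lit 1) (nat_lit 1) (nat_lit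 0) (nat_lit 1) (nat_lit 0) (nat_lit 1) (nat_lit 0x20200000202000002020000020200000) (.cD (nat_lit 21) (.kS (nat_lit 1) (nat_lit 0x10008020042001018010020001001002) (nat_lit 4348) (nat_lit 0x800400200d) (nat_lit 0x2900100000801802003f041002018010020001002002010008020042077002004)) (.cD (nat_lit 29) (.kS (nat_lit 1) (nat_lit 0x1001000000801802002f002002) (nat_lit 4340) (nat_lit 0x800400200d) (nat_lit 0x801002002105700106600600000801802002f051001010010000004)) (.cD (nat_lit 53) (.kS (nat_lit 1) (nat_lit 0x801802001f002062002000002) (nat_lit 4284) (nat_lit 0x800400200d) (nat_lit 0x1000802007207700101801002000100200100206200000801802001f049001004)) (.cD (nat_lit 61) (.kS (nat_lit 1) (nat_lit 0x8018020007002029001000002) (nat_lit 4316) (nat_lit 0x800400200d) (nat_lit 0x1000802007a077001018010020001002001001029000008018020007069001004)) (.cD (nat_lit 85) (.kS (nat_lit 1) (nat_lit 0x801802003f002062002000002) (nat_lit 4316) (nat_lit 0x800400200d) (nat_lit 0x1000802005207700101801002000100200100206200000801802003f069001004))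 (.cD (nat_lit 93) (.kS (nat_lit 1) (nat_lit 0x8018020027002029001000002) (nat_lit 4284) (nat_lit 0x800400200d) (nat_lit 0x1000802005a077001018010020001002001001029000008018020027049001004)) (.cD (nat_lit 117) (.kS (nat_lit 1) (nat_lit 0x10008020062001018010020001001002) (nat_lit 4252) (nat_lit 0x800400200d) (nat_lit 0x2900100000801802001f061002018010020001002002010008020062077002004)) (.cD (nat_lit 125) (.kS (nat_lit 1) (nat_lit 0x1001000000801802000f002002) (nat_lit 4244) (nat_lit 0x800400200d) (nat_lit 0x801002002105700106600600000801802000f071001010010000004)) .nil))))))))) (.cD (nat_lit 163) (.kS (nat_lit 1) (nat_lit 0x400c010020002004004000002020060080003003) (nat_lit 4201) (nat_lit 0x800400200b) (nat_lit 0x400400000400801002000100100400400000400c01002001d001004)) (.cD (nat_lit 171) (.kS (nat_lit 1) (nat_lit 0x400c010020002004004000002020060080003003) (nat_lit 4129) (nat_lit 0x800400200b) (nat_lit 0x400400000400801002000100100400400000400c010020019001004)) (.cD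 (nat_lit 195) (.kS (nat_lit 1) (nat_lit 0x400c010020002004004000002020060080003003) (nat_lit 4105) (nat_lit 0x800400200b) (nat_lit 0x400400000400801002000100100400400000400c01002000d001004)) (.cD (nat_lit 203) (.kS (nat_lit 1) (nat_lit 0x400c010020002004004000002020060080003003) (nat_lit 4161) (nat_lit 0x800400200b) (nat_lit 0x400400000400801002000100100400400000400c010020009001004)) (.cD (nat_lit 227) (.dfs (nat_lit 128) (nat_lit 0x100800c010020) (nat_lit 0x100800c010038) (nat_lit 0x1004002001) (nat_lit 0x1004012005) (nat_lit 0) (nat_lit 0) (nat_lit 2) (nat_lit 1) (nat_lit 0x2020060080003001) (nat_lit 1) (nat_lit 1) (nat_lit 0) (nat_lit 1) (nat_lit 0) (nat_lit 1) (nat_lit 0x20200000202000002020000020200000) (.cD (nat_lit 21) (.kS (nat_lit 1) (nat_lit 0x801802000f002062002000002) (nat_lit 4244) (nat_lit 0x800400200d) (nat_lit 0x1000802004204f00101801002000100200100206200000801802000f071001004)) (.cD (nat_lit 29) (.kS (nat_lit 1) (nat_lit 0x8018020017002029001000002)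 (nat_lit 4340) (nat_lit 0x800400200d) (nat_lit 0x1000802004a04f001018010020001002001001029000008018020017051001004)) (.cD (nat_lit 53) (.kS (nat_lit 1) (nat_lit 0x10008020072001018010020001001002) (nat_lit 4308) (nat_lit 0x800400200d) (nat_lit 0x2900100000801802002f07900201801002000100200201000802007204f002004)) (.cD (nat_lit 61) (.cut (nat_lit 0)) (.cD (nat_lit 85) (.kS (nat_lit 1) (nat_lit 0x10008020052001018010020001001002) (nat_lit 4276) (nat_lit 0x800400200d) (nat_lit 0x2900100000801802000f05900201801002000100200201000802005204f002004)) (.cD (nat_lit 93) (.iso x218 s444 (nat_lit 0) (nat_lit 0x1080040020010008004002061) (nat_lit 0x80040020010008004002061) [(nat_lit 0x40020010008004022001001001), (nat_lit 0x80040020010008004002061003001), (nat_lit 0x40020010008004002001005001)] (.cut (nat_lit 0))) (.cD (nat_lit 117) (.kS (nat_lit 1) (nat_lit 0x801802002f002062002000002) (nat_lit 4340) (nat_lit 0x800400200d) (nat_lit 0x1000802006204f00101801002000100200100206200000801802002f051001004))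 (.cD (nat_lit 125) (.kS (nat_lit 1) (nat_lit 0x8018020037002029001000002) (nat_lit 4244) (nat_lit 0x800400200d) (nat_lit 0x1000802006a04f001018010020001002001001029000008018020037071001004)) .nil))))))))) (.cD (nat_lit 235) (.dfs (nat_lit 128) (nat_lit 0x100800c010020) (nat_lit 0x100800c010038) (nat_lit 0x1004002001) (nat_lit 0x1004012005) (nat_lit 0) (nat_lit 0) (nat_lit 2) (nat_lit 1) (nat_lit 0x2020060080003001) (nat_lit 1) (nat_lit 1) (nat_lit 0) (nat_lit 1) (nat_lit 0) (nat_lit 1) (nat_lit 0x20200000202000002020000020200000) (.cD (nat_lit 21) (.kS (nat_lit 1) (nat_lit 0x10008020042001018010020001001002) (nat_lit 4348) (nat_lit 0x800400200d) (nat_lit 0x2900100000801802001f041002018010020001002002010008020042057002004)) (.cD (nat_lit 29) (.iso x218 s444 (nat_lit 0) (nat_lit 0x1080040020010008004002021) (nat_lit 0x80040020010008004002021) [(nat_lit 0x40020010008004032001001001), (nat_lit 0x80040020010008004002041003001), (nat_lit 0x40020010008004002001005001)] (.cut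 (nat_lit 0))) (.cD (nat_lit 53) (.kS (nat_lit 1) (nat_lit 0x801802003f002062002000002) (nat_lit 4284) (nat_lit 0x800400200d) (nat_lit 0x1000802007205700101801002000100200100206200000801802003f049001004)) (.cD (nat_lit 61) (.kS (nat_lit 1) (nat_lit 0x8018020027002029001000002) (nat_lit 4316) (nat_lit 0x800400200d) (nat_lit 0x1000802007a057001018010020001002001001029000008018020027069001004)) (.cD (nat_lit 85) (.kS (nat_lit 1) (nat_lit 0x801802001f002062002000002) (nat_lit 4316) (nat_lit 0x800400200d) (nat_lit 0x1000802005205700101801002000100200100206200000801802001f069001004)) (.cD (nat_lit 93) (.kS (nat_lit 1) (nat_lit 0x8018020007002029001000002) (nat_lit 4284) (nat_lit 0x800400200d) (nat_lit 0x1000802005a057001018010020001002001001029000008018020007049001004)) (.cD (nat_lit 117) (.kS (nat_lit 1) (nat_lit 0x10008020062001018010020001001002) (nat_lit 4252) (nat_lit 0x800400200d) (nat_lit 0x2900100000801802003f061002018010020001002002010008020062057002004)) (.cD (nat_lit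 125) (.iso x218 s444 (nat_lit 0) (nat_lit 0x1080040020010008004002041) (nat_lit 0x80040020010008004002041) [(nat_lit 0x40020010008004012001001001), (nat_lit 0x80040020010008004002021003001), (nat_lit 0x40020010008004002001005001)] (.cut (nat_lit 0))) .nil))))))))) .nil))))))))))
theorem c445 : (chk [(x218, s444)] [g79] p445).n x218 s445 = true := by decide +kernel
noncomputable def p446 : Pf := (.ext (nat_lit 1) (nat_lit 0x2020060080001001) (nat_lit 0x1014060040048036) (nat_lit 0x8006000202201e00101000800400200500504801003005904700304b030010057059003004) (nat_lit 0x4006008010) (nat_lit 0x1080001) (nat_lit 0x1015083) (nat_lit 0x1c00800400200901a008004002001) (.dfs (nat_lit 1) (nat_lit 0x1004006008010) (nat_lit 0x100400600801a) (nat_lit 0x1002001) (nat_lit 0x1002001) (nat_lit 10) (nat_lit 0) (nat_lit 2) (nat_lit 1) (nat_lit 0x2020060080003001) (nat_lit 131) (nat_lit 1) (nat_lit 0) (nat_lit 1) (nat_lit 0) (nat_lit 1) (nat_lit 0x80800000808000008080000080800000000000000000000000000000000)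 (.cD (nat_lit 131) (.dfs (nat_lit 128) (nat_lit 0x100800c010020) (nat_lit 0x100800c010038) (nat_lit 0x1004002001) (nat_lit 0x1004012005) (nat_lit 0) (nat_lit 0) (nat_lit 2) (nat_lit 1) (nat_lit 0x2020060080003001) (nat_lit 1) (nat_lit 1) (nat_lit 0) (nat_lit 1) (nat_lit 0) (nat_lit 1) (nat_lit 0x20200000202000002020000020200000) (.cD (nat_lit 21) (.kS (nat_lit 1) (nat_lit 0x801802002f002062002000002) (nat_lit 4244) (nat_lit 0x800400200d) (nat_lit 0x1000802004206f00101801002000100200100206200000801802002f071001004)) (.cD (nat_lit 29) (.kS (nat_lit 1) (nat_lit 0x8018020037002029001000002) (nat_lit 4340) (nat_lit 0x800400200d) (nat_lit 0x1000802004a06f001018010020001002001001029000008018020037051001004)) (.cD (nat_lit 53) (.kS (nat_lit 1) (nat_lit 0x10008020072001018010020001001002) (nat_lit 4308) (nat_lit 0x800400200d) (nat_lit 0x2900100000801802000f07900201801002000100200201000802007206f002004)) (.cD (nat_lit 61) (.kS (nat_lit 1) (nat_lit 0x1001000000801802001f002002)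 (nat_lit 4252) (nat_lit 0x800400200d) (nat_lit 0x801002002105700106600600000801802001f069001010010000004)) (.cD (nat_lit 85) (.kS (nat_lit 1) (nat_lit 0x10008020052001018010020001001002) (nat_lit 4276) (nat_lit 0x800400200d) (nat_lit 0x2900100000801802002f05900201801002000100200201000802005206f002004)) (.cD (nat_lit 93) (.kS (nat_lit 1) (nat_lit 0x1001000000801802003f002002) (nat_lit 4348) (nat_lit 0x800400200d) (nat_lit 0x801002002105700106600600000801802003f049001010010000004)) (.cD (nat_lit 117) (.kS (nat_lit 1) (nat_lit 0x801802000f002062002000002) (nat_lit 4340) (nat_lit 0x800400200d) (nat_lit 0x1000802006206f00101801002000100200100206200000801802000f051001004)) (.cD (nat_lit 125) (.kS (nat_lit 1) (nat_lit 0x8018020017002029001000002) (nat_lit 4244) (nat_lit 0x800400200d) (nat_lit 0x1000802006a06f001018010020001002001001029000008018020017071001004)) .nil))))))))) (.cD (nat_lit 139) (.dfs (nat_lit 128) (nat_lit 0x100800c010020) (nat_lit 0x100800c010038) (nat_lit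 0x1004002001) (nat_lit 0x1004012005) (nat_lit 0) (nat_lit 0) (nat_lit 2) (nat_lit 1) (nat_lit 0x2020060080003001) (nat_lit 1) (nat_lit 1) (nat_lit 0) (nat_lit 1) (nat_lit 0) (nat_lit 1) (nat_lit 0x20200000202000002020000020200000) (.cD (nat_lit 21) (.kS (nat_lit 1) (nat_lit 0x10008020042001018010020001001002) (nat_lit 4348) (nat_lit 0x800400200d) (nat_lit 0x2900100000801802003f041002018010020001002002010008020042077002004)) (.cD (nat_lit 29) (.kS (nat_lit 1) (nat_lit 0x1001000000801802002f002002) (nat_lit 4340) (nat_lit 0x800400200d) (nat_lit 0x801002002105700106600600000801802002f051001010010000004)) (.cD (nat_lit 53) (.kS (nat_lit 1) (nat_lit 0x801802001f002062002000002) (nat_lit 4284) (nat_lit 0x800400200d) (nat_lit 0x1000802007207700101801002000100200100206200000801802001f049001004)) (.cD (nat_lit 61) (.kS (nat_lit 1) (nat_lit 0x8018020007002029001000002) (nat_lit 4316) (nat_lit 0x800400200d) (nat_lit 0x1000802007a077001018010020001002001001029000008018020007069001004))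 (.cD (nat_lit 85) (.kS (nat_lit 1) (nat_lit 0x801802003f002062002000002) (nat_lit 4316) (nat_lit 0x800400200d) (nat_lit 0x1000802005207700101801002000100200100206200000801802003f069001004)) (.cD (nat_lit 93) (.kS (nat_lit 1) (nat_lit 0x8018020027002029001000002) (nat_lit 4284) (nat_lit 0x800400200d) (nat_lit 0x1000802005a077001018010020001002001001029000008018020027049001004)) (.cD (nat_lit 117) (.kS (nat_lit 1) (nat_lit 0x10008020062001018010020001001002) (nat_lit 4252) (nat_lit 0x800400200d) (nat_lit 0x2900100000801802001f061002018010020001002002010008020062077002004)) (.cD (nat_lit 125) (.kS (nat_lit 1) (nat_lit 0x1001000000801802000f002002) (nat_lit 4244) (nat_lit 0x800400200d) (nat_lit 0x801002002105700106600600000801802000f071001010010000004)) .nil))))))))) (.cD (nat_lit 163) (.kS (nat_lit 1) (nat_lit 0x400c010020002004004000002020060080003003) (nat_lit 4201) (nat_lit 0x800400200b) (nat_lit 0x400400000400801002000100100400400000400c01002001d001004)) (.cD (nat_lit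 171) (.kS (nat_lit 1) (nat_lit 0x400c010020002004004000002020060080003003) (nat_lit 4129) (nat_lit 0x800400200b) (nat_lit 0x400400000400801002000100100400400000400c010020019001004)) (.cD (nat_lit 195) (.kS (nat_lit 1) (nat_lit 0x400c010020002004004000002020060080003003) (nat_lit 4105) (nat_lit 0x800400200b) (nat_lit 0x400400000400801002000100100400400000400c01002000d001004)) (.cD (nat_lit 203) (.kS (nat_lit 1) (nat_lit 0x400c010020002004004000002020060080003003) (nat_lit 4161) (nat_lit 0x800400200b) (nat_lit 0x400400000400801002000100100400400000400c010020009001004)) (.cD (nat_lit 227) (.dfs (nat_lit 128) (nat_lit 0x100800c010020) (nat_lit 0x100800c010038) (nat_lit 0x1004002001) (nat_lit 0x1004012005) (nat_lit 0) (nat_lit 0) (nat_lit 2) (nat_lit 1) (nat_lit 0x2020060080003001) (nat_lit 1) (nat_lit 1) (nat_lit 0) (nat_lit 1) (nat_lit 0) (nat_lit 1) (nat_lit 0x20200000202000002020000020200000) (.cD (nat_lit 21) (.kS (nat_lit 1) (nat_lit 0x801802000f002062002000002)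 (nat_lit 4244) (nat_lit 0x800400200d) (nat_lit 0x1000802004204f00101801002000100200100206200000801802000f071001004)) (.cD (nat_lit 29) (.kS (nat_lit 1) (nat_lit 0x8018020017002029001000002) (nat_lit 4340) (nat_lit 0x800400200d) (nat_lit 0x1000802004a04f001018010020001002001001029000008018020017051001004)) (.cD (nat_lit 53) (.kS (nat_lit 1) (nat_lit 0x10008020072001018010020001001002) (nat_lit 4308) (nat_lit 0x800400200d) (nat_lit 0x2900100000801802002f07900201801002000100200201000802007204f002004)) (.cD (nat_lit 61) (.kS (nat_lit 1) (nat_lit 0x200020600360030100180200480020020200600a2003029001000004) (nat_lit 0x10830c9) (nat_lit 0x800400200d01000800400a01d) (nat_lit 0x1000802001907702b0020020220600770b60680030080100200010570540010fb0390000020200600a200104a00401001802004801602300102000206003607d0c3004007)) (.cD (nat_lit 85) (.kS (nat_lit 1) (nat_lit 0x10008020052001018010020001001002) (nat_lit 4276) (nat_lit 0x800400200d) (nat_lit 0x2900100000801802000f05900201801002000100200201000802005204f002004))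 (.cD (nat_lit 93) (.kS (nat_lit 1) (nat_lit 0x200020600360030100180200480020020200600a2003029001000004) (nat_lit 0x10830a9) (nat_lit 0x800400200d01000800400a01d) (nat_lit 0x1000802001907700b0020020220600170d60680030080100200010570540010fb0390000020200600a200104a00401001802004801600300102000206003607d0a3004007)) (.cD (nat_lit 117) (.kS (nat_lit 1) (nat_lit 0x801802002f002062002000002) (nat_lit 4340) (nat_lit 0x800400200d) (nat_lit 0x1000802006204f00101801002000100200100206200000801802002f051001004)) (.cD (nat_lit 125) (.kS (nat_lit 1) (nat_lit 0x8018020037002029001000002) (nat_lit 4244) (nat_lit 0x800400200d) (nat_lit 0x1000802006a04f001018010020001002001001029000008018020037071001004)) .nil))))))))) (.cD (nat_lit 235) (.dfs (nat_lit 128) (nat_lit 0x100800c010020) (nat_lit 0x100800c010038) (nat_lit 0x1004002001) (nat_lit 0x1004012005) (nat_lit 0) (nat_lit 0) (nat_lit 2) (nat_lit 1) (nat_lit 0x2020060080003001) (nat_lit 1) (nat_lit 1) (nat_lit 0) (nat_lit 1) (nat_lit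 0) (nat_lit 1) (nat_lit 0x20200000202000002020000020200000) (.cD (nat_lit 21) (.kS (nat_lit 1) (nat_lit 0x10008020042001018010020001001002) (nat_lit 4348) (nat_lit 0x800400200d) (nat_lit 0x2900100000801802001f041002018010020001002002010008020042057002004)) (.cD (nat_lit 29) (.kS (nat_lit 1) (nat_lit 0x200020600360030100180200480020020200600a2003029001000004) (nat_lit 0x108b0e9) (nat_lit 0x800400200d01000800400a01d) (nat_lit 0x1000802001906f01b0020020220600370f40680030080100200010570540010fb0390000020200600a200104a00401001802004801e01300102000206003605f083004007)) (.cD (nat_lit 53) (.kS (nat_lit 1) (nat_lit 0x801802003f002062002000002) (nat_lit 4284) (nat_lit 0x800400200d) (nat_lit 0x1000802007205700101801002000100200100206200000801802003f049001004)) (.cD (nat_lit 61) (.kS (nat_lit 1) (nat_lit 0x8018020027002029001000002) (nat_lit 4316) (nat_lit 0x800400200d) (nat_lit 0x1000802007a057001018010020001002001001029000008018020027069001004)) (.cD (nat_lit 85) (.kS (nat_lit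 1) (nat_lit 0x801802001f002062002000002) (nat_lit 4316) (nat_lit 0x800400200d) (nat_lit 0x1000802005205700101801002000100200100206200000801802001f069001004)) (.cD (nat_lit 93) (.kS (nat_lit 1) (nat_lit 0x8018020007002029001000002) (nat_lit 4284) (nat_lit 0x800400200d) (nat_lit 0x1000802005a057001018010020001002001001029000008018020007049001004)) (.cD (nat_lit 117) (.kS (nat_lit 1) (nat_lit 0x10008020062001018010020001001002) (nat_lit 4252) (nat_lit 0x800400200d) (nat_lit 0x2900100000801802003f061002018010020001002002010008020062057002004)) (.cD (nat_lit 125) (.kS (nat_lit 1) (nat_lit 0x200020600360030100180200480020020200600a2003029001000004) (nat_lit 0x108b089) (nat_lit 0x800400200d01000800400a01d) (nat_lit 0x1000802001906f03b0020020220600570940680030080100200010570540010fb0390000020200600a200104a00401001802004801e03300102000206003605f0e3004007)) .nil))))))))) .nil))))))))))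
theorem c446 : (chk [] [] p446).n x218 s446 = true := by decide +kernel
noncomputable def p447 : Pf := (.ext (nat_lit 0) (nat_lit 0) (nat_lit 0x1080020040010002004008) (nat_lit 0x402003002802f06006900101702001004a002001047001002) (nat_lit 0x2801002000a) (nat_lit 4097) (nat_lit 4245) (nat_lit 0x5102001007d025066001) (.dfs (nat_lit 1) (nat_lit 0x102801002000a) (nat_lit 0x105d01002002b) (nat_lit 0x1040008004002001) (nat_lit 0x105107d025066001) (nat_lit 33) (nat_lit 0) (nat_lit 2) (nat_lit 0) (nat_lit 0) (nat_lit 15) (nat_lit 1) (nat_lit 0) (nat_lit 1) (nat_lit 0) (nat_lit 1) (nat_lit 0x20000000200000002000000020000000000000000000000000000000000000) (.cD (nat_lit 149) (.iso x218 s446 (nat_lit 0) (nat_lit 0x1080040020010008004002001) (nat_lit 0x80040020010008004002001) [(nat_lit 0x80040020010008004002001001001), (nat_lit 0x40020010008004002001003001), (nat_lit 0x10008004002001007001)] (.cut (nat_lit 3))) (.cD (nat_lit 181) (.iso x218 s445 (nat_lit 0) (nat_lit 0x1080040020010008004002001)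 (nat_lit 0x80040020010008004002001) [(nat_lit 0x80040020010008004002001001001), (nat_lit 0x40020010008004002001003001), (nat_lit 0x10008004002001007001)] (.cut (nat_lit 2))) (.cD (nat_lit 213) (.cut (nat_lit 1)) (.cD (nat_lit 245) (.cut (nat_lit 0)) .nil))))))
theorem c447 : (chk [(x218, s401), (x218, s443), (x218, s445), (x218, s446)] [g79] p447).n x218 s447 = true := by decide +kernel
noncomputable def p448 : Pf := (.ext (nat_lit 1) (nat_lit 0x59030010048002001) (nat_lit 0x1080060040008) (nat_lit 0x48010059069002010008004002003002) (nat_lit 0x2003004008) (nat_lit 4097) (nat_lit 4234) (nat_lit 0xb004002001) (.dfs (nat_lit 1) (nat_lit 0x1001002004008) (nat_lit 0x100100200400b) (nat_lit 1) (nat_lit 1) (nat_lit 7) (nat_lit 0) (nat_lit 2) (nat_lit 1) (nat_lit 0x1002004008001001) (nat_lit 138) (nat_lit 1) (nat_lit 0) (nat_lit 1) (nat_lit 0) (nat_lit 1) (nat_lit 0) .nil))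
theorem c448 : (chk [] [] p448).n x245 s448 = true := by decide +kernel
noncomputable def p449 : Pf := (.ext (nat_lit 1) (nat_lit 0x59030010048002001) (nat_lit 0x1080060040008) (nat_lit 0x48010059069002010008004002003002) (nat_lit 0x2003004008) (nat_lit 4097) (nat_lit 4234) (nat_lit 0xb004002001) (.dfs (nat_lit 1) (nat_lit 0x1001002004008) (nat_lit 0x100100200400b) (nat_lit 1) (nat_lit 1) (nat_lit 3) (nat_lit 0) (nat_lit 2) (nat_lit 1) (nat_lit 0x1002004008001001) (nat_lit 138) (nat_lit 1) (nat_lit 0) (nat_lit 1) (nat_lit 0) (nat_lit 1) (nat_lit 0) .nil))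
theorem c449 : (chk [] [] p449).n x246 s449 = true := by decide +kernel
noncomputable def p450 : Pf := (.ext (nat_lit 1) (nat_lit 0x59030010048002001) (nat_lit 0x1080060040008) (nat_lit 0x48010059069002010008004002003002) (nat_lit 0x2003004008) (nat_lit 4097) (nat_lit 4234) (nat_lit 0xb004002001) (.dfs (nat_lit 1) (nat_lit 0x1001002004008) (nat_lit 0x100100200400b) (nat_lit 1) (nat_lit 1) (nat_lit 3) (nat_lit 0) (nat_lit 2) (nat_lit 1) (nat_lit 0x1002004008001001) (nat_lit 138) (nat_lit 1) (nat_lit 0) (nat_lit 1) (nat_lit 0) (nat_lit 1) (nat_lit 0) .nil))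
theorem c450 : (chk [] [] p450).n x247 s450 = true := by decide +kernel
noncomputable def p451 : Pf := (.ext (nat_lit 1) (nat_lit 0x59030010048002001) (nat_lit 0x1080060040008) (nat_lit 0x48010059069002010008004002003002) (nat_lit 0x2003004008) (nat_lit 4097) (nat_lit 4234) (nat_lit 0xb004002001) (.dfs (nat_lit 1) (nat_lit 0x1001002004008) (nat_lit 0x100100200400b) (nat_lit 1) (nat_lit 1) (nat_lit 5) (nat_lit 0) (nat_lit 2) (nat_lit 1) (nat_lit 0x1002004008001001) (nat_lit 138) (nat_lit 1) (nat_lit 0) (nat_lit 1) (nat_lit 0) (nat_lit 1) (nat_lit 0) .nil))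
theorem c451 : (chk [] [] p451).n x248 s451 = true := by decide +kernel
noncomputable def p452 : Pf := (.ext (nat_lit 1) (nat_lit 0x59030010048002001) (nat_lit 0x1080060040008) (nat_lit 0x48010059069002010008004002003002) (nat_lit 0x2003004008) (nat_lit 4097) (nat_lit 4234) (nat_lit 0xb004002001) (.dfs (nat_lit 1) (nat_lit 0x1001002004008) (nat_lit 0x100100200400b) (nat_lit 1) (nat_lit 1) (nat_lit 5) (nat_lit 0) (nat_lit 2) (nat_lit 1) (nat_lit 0x1002004008001001) (nat_lit 138) (nat_lit 1) (nat_lit 0) (nat_lit 1) (nat_lit 0) (nat_lit 1) (nat_lit 0) .nil))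
theorem c452 : (chk [] [] p452).n x249 s452 = true := by decide +kernel
noncomputable def p453 : Pf := (.lft (nat_lit 0x40010020008001004002003001) (nat_lit 4) (nat_lit 0x1070060050040) (nat_lit 0x40020010008004002031) (.extn a31 (nat_lit 0x40020010008004002001) (nat_lit 0x1008020010040) (nat_lit 2) (nat_lit 0) (nat_lit 0) (nat_lit 4) (nat_lit 0x10001000100010) (.cE (nat_lit 4) b78 (nat_lit 0) (.iso x216 s399 (nat_lit 0) (nat_lit 0x1080040020010008004002001) (nat_lit 0x80040020010008004002001) [(nat_lit 0x40020010008004002001003001), (nat_lit 0x10008004002001009001)] (.cut (nat_lit 0))) (.iso x217 s400 (nat_lit 0) (nat_lit 0x1080040020010008004002001) (nat_lit 0x80040020010008004002001) [(nat_lit 0x40020010008004002001003001), (nat_lit 0x10008004002001009001)] (.cut (nat_lit 1))) (.cE (nat_lit 20) b79 (nat_lit 0) (.cut (nat_lit 2)) (.cut (nat_lit 3)) (.cE (nat_lit 36) b121 (nat_lit 0) (.cut (nat_lit 4)) (.cut (nat_lit 5)) (.cE (nat_lit 52) b122 (nat_lit 0) (.cut (nat_lit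 6)) (.cut (nat_lit 7)) .nil))))))
theorem c453 : (chk [(x216, s399), (x217, s400), (x218, s447), (x245, s448), (x246, s449), (x247, s450), (x248, s451), (x249, s452)] [g78] p453).n x215 s453 = true := by decide +kernel
noncomputable def p454 : Pf := (.ext (nat_lit 1) (nat_lit 0x79030010048002001) (nat_lit 0x1080060040008) (nat_lit 0x48010079049002010008004002003002) (nat_lit 0x2003004008) (nat_lit 4097) (nat_lit 4234) (nat_lit 0xb004002001) (.dfs (nat_lit 1) (nat_lit 0x1001002004008) (nat_lit 0x100100200400b) (nat_lit 1) (nat_lit 1) (nat_lit 1) (nat_lit 0) (nat_lit 2) (nat_lit 1) (nat_lit 0x1002004008001001) (nat_lit 138) (nat_lit 1) (nat_lit 0) (nat_lit 1) (nat_lit 0) (nat_lit 1) (nat_lit 0) .nil))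
theorem c454 : (chk [] [] p454).n x216 s454 = true := by decide +kernel
noncomputable def p455 : Pf := (.ext (nat_lit 1) (nat_lit 0x79030010048002001) (nat_lit 0x1080060040008) (nat_lit 0x48010079049002010008004002003002) (nat_lit 0x2003004008) (nat_lit 4097) (nat_lit 4234) (nat_lit 0xb004002001) (.dfs (nat_lit 1) (nat_lit 0x1001002004008) (nat_lit 0x100100200400b) (nat_lit 1) (nat_lit 1) (nat_lit 1) (nat_lit 0) (nat_lit 2) (nat_lit 1) (nat_lit 0x1002004008001001) (nat_lit 138) (nat_lit 1) (nat_lit 0) (nat_lit 1) (nat_lit 0) (nat_lit 1) (nat_lit 0) .nil))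
theorem c455 : (chk [] [] p455).n x217 s455 = true := by decide +kernel
noncomputable def p456 : Pf := (.ext (nat_lit 1) (nat_lit 0x2020060080001001) (nat_lit 0x1034060040048016) (nat_lit 0x8006000202207c00101000800400200900504801003007904700306b030010057079003004) (nat_lit 0x4006008010) (nat_lit 0x1080001) (nat_lit 0x1015083) (nat_lit 0x1c00800400200901a008004002001) (.dfs (nat_lit 1) (nat_lit 0x1004006008010) (nat_lit 0x100400600801a) (nat_lit 0x1002001) (nat_lit 0x1002001) (nat_lit 10) (nat_lit 0) (nat_lit 2) (nat_lit 1) (nat_lit 0x2020060080003001) (nat_lit 131) (nat_lit 1) (nat_lit 0) (nat_lit 1) (nat_lit 0) (nat_lit 1) (nat_lit 0x80800000808000008080000080800000000000000000000000000000000) (.cD (nat_lit 131) (.dfs (nat_lit 128) (nat_lit 0x100800c010020) (nat_lit 0x100800c010038) (nat_lit 0x1004002001) (nat_lit 0x1004012005) (nat_lit 0) (nat_lit 0) (nat_lit 2) (nat_lit 1) (nat_lit 0x2020060080003001) (nat_lit 1) (nat_lit 1) (nat_lit 0) (nat_lit 1) (nat_lit 0)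 (nat_lit 1) (nat_lit 0x20200000202000002020000020200000) (.cD (nat_lit 21) (.kS (nat_lit 1) (nat_lit 0x10010000008018020007002002) (nat_lit 4348) (nat_lit 0x800400200d) (nat_lit 0x8010020021057001066006000008018020007079001010010000004)) (.cD (nat_lit 29) (.kS (nat_lit 1) (nat_lit 0x1000802007a001018010020001001002) (nat_lit 4276) (nat_lit 0x800400200d) (nat_lit 0x2900100000801802001706900201801002000100200201000802007a06f002004)) (.cD (nat_lit 53) (.kS (nat_lit 1) (nat_lit 0x801802002f002029001000002) (nat_lit 4244) (nat_lit 0x800400200d) (nat_lit 0x1000802004206f00101801002000100200100102900000801802002f041001004)) (.cD (nat_lit 61) (.kS (nat_lit 1) (nat_lit 0x8018020037002062002000002) (nat_lit 4340) (nat_lit 0x800400200d) (nat_lit 0x1000802004a06f001018010020001002001002062000008018020037061001004)) (.cD (nat_lit 85) (.kS (nat_lit 1) (nat_lit 0x801802000f002029001000002) (nat_lit 4340) (nat_lit 0x800400200d) (nat_lit 0x1000802006206f00101801002000100200100102900000801802000f061001004))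 (.cD (nat_lit 93) (.kS (nat_lit 1) (nat_lit 0x8018020017002062002000002) (nat_lit 4244) (nat_lit 0x800400200d) (nat_lit 0x1000802006a06f001018010020001002001002062000008018020017041001004)) (.cD (nat_lit 117) (.kS (nat_lit 1) (nat_lit 0x10010000008018020027002002) (nat_lit 4252) (nat_lit 0x800400200d) (nat_lit 0x8010020021057001066006000008018020027059001010010000004)) (.cD (nat_lit 125) (.kS (nat_lit 1) (nat_lit 0x1000802005a001018010020001001002) (nat_lit 4308) (nat_lit 0x800400200d) (nat_lit 0x2900100000801802003704900201801002000100200201000802005a06f002004)) .nil))))))))) (.cD (nat_lit 139) (.dfs (nat_lit 128) (nat_lit 0x100800c010020) (nat_lit 0x100800c010038) (nat_lit 0x1004002001) (nat_lit 0x1004012005) (nat_lit 0) (nat_lit 0) (nat_lit 2) (nat_lit 1) (nat_lit 0x2020060080003001) (nat_lit 1) (nat_lit 1) (nat_lit 0) (nat_lit 1) (nat_lit 0) (nat_lit 1) (nat_lit 0x20200000202000002020000020200000) (.cD (nat_lit 21) (.kS (nat_lit 1) (nat_lit 0x801802001f002029001000002)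 (nat_lit 4284) (nat_lit 0x800400200d) (nat_lit 0x1000802007207700101801002000100200100102900000801802001f079001004)) (.cD (nat_lit 29) (.kS (nat_lit 1) (nat_lit 0x8018020007002062002000002) (nat_lit 4316) (nat_lit 0x800400200d) (nat_lit 0x1000802007a077001018010020001002001002062000008018020007059001004)) (.cD (nat_lit 53) (.kS (nat_lit 1) (nat_lit 0x10010000008018020037002002) (nat_lit 4244) (nat_lit 0x800400200d) (nat_lit 0x8010020021057001066006000008018020037041001010010000004)) (.cD (nat_lit 61) (.kS (nat_lit 1) (nat_lit 0x1000802004a001018010020001001002) (nat_lit 4252) (nat_lit 0x800400200d) (nat_lit 0x2900100000801802002705100201801002000100200201000802004a077002004)) (.cD (nat_lit 85) (.kS (nat_lit 1) (nat_lit 0x10010000008018020017002002) (nat_lit 4340) (nat_lit 0x800400200d) (nat_lit 0x8010020021057001066006000008018020017061001010010000004)) (.cD (nat_lit 93) (.kS (nat_lit 1) (nat_lit 0x1000802006a001018010020001001002) (nat_lit 4348) (nat_lit 0x800400200d)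 (nat_lit 0x2900100000801802000707100201801002000100200201000802006a077002004)) (.cD (nat_lit 117) (.kS (nat_lit 1) (nat_lit 0x801802003f002029001000002) (nat_lit 4316) (nat_lit 0x800400200d) (nat_lit 0x1000802005207700101801002000100200100102900000801802003f059001004)) (.cD (nat_lit 125) (.kS (nat_lit 1) (nat_lit 0x8018020027002062002000002) (nat_lit 4284) (nat_lit 0x800400200d) (nat_lit 0x1000802005a077001018010020001002001002062000008018020027079001004)) .nil))))))))) (.cD (nat_lit 163) (.kS (nat_lit 1) (nat_lit 0x400c010020002004004000002020060080003003) (nat_lit 4201) (nat_lit 0x800400200b) (nat_lit 0x400400000400801002000100100400400000400c01002001d001004)) (.cD (nat_lit 171) (.kS (nat_lit 1) (nat_lit 0x400c010020002004004000002020060080003003) (nat_lit 4129) (nat_lit 0x800400200b) (nat_lit 0x400400000400801002000100100400400000400c010020019001004)) (.cD (nat_lit 195) (.kS (nat_lit 1) (nat_lit 0x400c010020002004004000002020060080003003) (nat_lit 4105) (nat_lit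 0x800400200b) (nat_lit 0x400400000400801002000100100400400000400c01002000d001004)) (.cD (nat_lit 203) (.kS (nat_lit 1) (nat_lit 0x400c010020002004004000002020060080003003) (nat_lit 4161) (nat_lit 0x800400200b) (nat_lit 0x400400000400801002000100100400400000400c010020009001004)) (.cD (nat_lit 227) (.dfs (nat_lit 128) (nat_lit 0x100800c010020) (nat_lit 0x100800c010038) (nat_lit 0x1004002001) (nat_lit 0x1004012005) (nat_lit 0) (nat_lit 0) (nat_lit 2) (nat_lit 1) (nat_lit 0x2020060080003001) (nat_lit 1) (nat_lit 1) (nat_lit 0) (nat_lit 1) (nat_lit 0) (nat_lit 1) (nat_lit 0x20200000202000002020000020200000) (.cD (nat_lit 21) (.kS (nat_lit 1) (nat_lit 0x200020600760030100180200480020020200600a2003029001000004) (nat_lit 0x10830c9) (nat_lit 0x800400200d01000800400a01d) (nat_lit 0x1000802001907702b0020020220600150d606a0030080100200010570540010fb0390000020200600a200104a00401001802004800603300102000206007601d0e3004007)) (.cD (nat_lit 29) (.kS (nat_lit 1) (nat_lit 0x1000802007a001018010020001001002)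 (nat_lit 4276) (nat_lit 0x800400200d) (nat_lit 0x2900100000801802003706900201801002000100200201000802007a04f002004)) (.cD (nat_lit 53) (.kS (nat_lit 1) (nat_lit 0x801802000f002029001000002) (nat_lit 4244) (nat_lit 0x800400200d) (nat_lit 0x1000802004204f00101801002000100200100102900000801802000f041001004)) (.cD (nat_lit 61) (.kS (nat_lit 1) (nat_lit 0x8018020017002062002000002) (nat_lit 4340) (nat_lit 0x800400200d) (nat_lit 0x1000802004a04f001018010020001002001002062000008018020017061001004)) (.cD (nat_lit 85) (.kS (nat_lit 1) (nat_lit 0x801802002f002029001000002) (nat_lit 4340) (nat_lit 0x800400200d) (nat_lit 0x1000802006204f00101801002000100200100102900000801802002f061001004)) (.cD (nat_lit 93) (.kS (nat_lit 1) (nat_lit 0x8018020037002062002000002) (nat_lit 4244) (nat_lit 0x800400200d) (nat_lit 0x1000802006a04f001018010020001002001002062000008018020037041001004)) (.cD (nat_lit 117) (.kS (nat_lit 1) (nat_lit 0x200020600760030100180200480020020200600a2003029001000004)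 (nat_lit 0x10830a9) (nat_lit 0x800400200d01000800400a01d) (nat_lit 0x1000802001907700b0020020220600750b606a0030080100200010570540010fb0390000020200600a200104a00401001802004800601300102000206007601d083004007)) (.cD (nat_lit 125) (.kS (nat_lit 1) (nat_lit 0x1000802005a001018010020001001002) (nat_lit 4308) (nat_lit 0x800400200d) (nat_lit 0x2900100000801802001704900201801002000100200201000802005a04f002004)) .nil))))))))) (.cD (nat_lit 235) (.dfs (nat_lit 128) (nat_lit 0x100800c010020) (nat_lit 0x100800c010038) (nat_lit 0x1004002001) (nat_lit 0x1004012005) (nat_lit 0) (nat_lit 0) (nat_lit 2) (nat_lit 1) (nat_lit 0x2020060080003001) (nat_lit 1) (nat_lit 1) (nat_lit 0) (nat_lit 1) (nat_lit 0) (nat_lit 1) (nat_lit 0x20200000202000002020000020200000) (.cD (nat_lit 21) (.kS (nat_lit 1) (nat_lit 0x801802003f002029001000002) (nat_lit 4284) (nat_lit 0x800400200d) (nat_lit 0x1000802007205700101801002000100200100102900000801802003f079001004)) (.cD (nat_lit 29) (.kS (nat_lit 1) (nat_lit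 0x8018020027002062002000002) (nat_lit 4316) (nat_lit 0x800400200d) (nat_lit 0x1000802007a057001018010020001002001002062000008018020027059001004)) (.cD (nat_lit 53) (.kS (nat_lit 1) (nat_lit 0x200020600760030100180200480020020200600a2003029001000004) (nat_lit 0x108b0e9) (nat_lit 0x800400200d01000800400a01d) (nat_lit 0x1000802001906f01b00200202206005509406a0030080100200010570540010fb0390000020200600a200104a00401001802004800e00300102000206007603f0a3004007)) (.cD (nat_lit 61) (.kS (nat_lit 1) (nat_lit 0x1000802004a001018010020001001002) (nat_lit 4252) (nat_lit 0x800400200d) (nat_lit 0x2900100000801802000705100201801002000100200201000802004a057002004)) (.cD (nat_lit 85) (.kS (nat_lit 1) (nat_lit 0x200020600760030100180200480020020200600a2003029001000004) (nat_lit 0x108b089) (nat_lit 0x800400200d01000800400a01d) (nat_lit 0x1000802001906f03b0020020220600350f406a0030080100200010570540010fb0390000020200600a200104a00401001802004800e02300102000206007603f0c3004007)) (.cD (nat_lit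 93) (.kS (nat_lit 1) (nat_lit 0x1000802006a001018010020001001002) (nat_lit 4348) (nat_lit 0x800400200d) (nat_lit 0x2900100000801802002707100201801002000100200201000802006a057002004)) (.cD (nat_lit 117) (.kS (nat_lit 1) (nat_lit 0x801802001f002029001000002) (nat_lit 4316) (nat_lit 0x800400200d) (nat_lit 0x1000802005205700101801002000100200100102900000801802001f059001004)) (.cD (nat_lit 125) (.kS (nat_lit 1) (nat_lit 0x8018020007002062002000002) (nat_lit 4284) (nat_lit 0x800400200d) (nat_lit 0x1000802005a057001018010020001002001002062000008018020007079001004)) .nil))))))))) .nil))))))))))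
theorem c456 : (chk [] [] p456).n x218 s456 = true := by decide +kernel
noncomputable def p457 : Pf := (.anc (nat_lit 42) (nat_lit 0x1002001) (nat_lit 0x100704003a010) (.czp (nat_lit 256) (nat_lit 0) (nat_lit 0x1100080040020010) z7 (.dfs (nat_lit 16) (nat_lit 4097) (nat_lit 4097) (nat_lit 1) (nat_lit 1) (nat_lit 0) (nat_lit 0) (nat_lit 3) (nat_lit 0) (nat_lit 0) (nat_lit 0) (nat_lit 1) (nat_lit 0) (nat_lit 0x1020010) (nat_lit 0x20010) (nat_lit 0x1001010000020001050000060) (nat_lit 0x1000000000000000100000001000100010000000100010000) (.cD (nat_lit 16) (.dfs (nat_lit 58) (nat_lit 4098) (nat_lit 4098) (nat_lit 4097) (nat_lit 4097) (nat_lit 0) (nat_lit 0) (nat_lit 3) (nat_lit 0) (nat_lit 0) (nat_lit 0) (nat_lit 1) (nat_lit 0) (nat_lit 1) (nat_lit 0) (nat_lit 1) (nat_lit 0x100010000000000010001000000000001000100000000000100010000000000000000000000000000000000000000000000000000000000000000) (.cD (nat_lit 256) (.kc (nat_lit 144) (nat_lit 0x5001001)) (.cD (nat_lit 272) (.kc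 (nat_lit 128) (nat_lit 0x7001001)) (.cD (nat_lit 320) (.kF (nat_lit 320) (nat_lit 0x11001004001004002002)) (.cD (nat_lit 336) (.kF (nat_lit 336) (nat_lit 0x11001004001004002002)) (.cD (nat_lit 384) (.dfs (nat_lit 64) (nat_lit 4100) (nat_lit 4100) (nat_lit 0x1002001) (nat_lit 0x1002001) (nat_lit 0) (nat_lit 0) (nat_lit 3) (nat_lit 0) (nat_lit 0) (nat_lit 0) (nat_lit 1) (nat_lit 0) (nat_lit 1) (nat_lit 0) (nat_lit 1) (nat_lit 0x10001000000000001000100000000000100010000000000010000) (.cD (nat_lit 16) (.kc (nat_lit 80) (nat_lit 0x5001001)) (.cD (nat_lit 64) (.kA true (nat_lit 0x801002800100400400a00b008002002)) (.cD (nat_lit 80) (.dfs (nat_lit 7) (nat_lit 4101) (nat_lit 4107) (nat_lit 1) (nat_lit 1) (nat_lit 15) (nat_lit 0) (nat_lit 1) (nat_lit 4160) (nat_lit 0x1000800400200100080c4052001) (nat_lit 0) (nat_lit 1) (nat_lit 0) (nat_lit 1) (nat_lit 0) (nat_lit 1) (nat_lit 0) .nil) (.cD (nat_lit 128) (.kc (nat_lit 208) (nat_lit 0xb001001)) (.cD (nat_lit 144) (.kc (nat_lit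 192) (nat_lit 0xf001001)) (.cD (nat_lit 192) (.kA true (nat_lit 0x801003800100400400a001008002002)) (.cD (nat_lit 208) (.kA true (nat_lit 0x801003000100400400a005008002002)) .nil)))))))) (.cD (nat_lit 400) (.dfs (nat_lit 64) (nat_lit 4100) (nat_lit 4100) (nat_lit 0x1002001) (nat_lit 0x1002001) (nat_lit 0) (nat_lit 0) (nat_lit 3) (nat_lit 0) (nat_lit 0) (nat_lit 0) (nat_lit 1) (nat_lit 0) (nat_lit 1) (nat_lit 0) (nat_lit 1) (nat_lit 0x10001000000000001000100000000000100010000000000010000) (.cD (nat_lit 16) (.kc (nat_lit 80) (nat_lit 0x5001001)) (.cD (nat_lit 64) (.dfs (nat_lit 7) (nat_lit 0x100400e00f008) (nat_lit 0x100a00e00f008) (nat_lit 0x1002001) (nat_lit 0x100c001) (nat_lit 15) (nat_lit 0) (nat_lit 2) (nat_lit 1) (nat_lit 0) (nat_lit 32) (nat_lit 1) (nat_lit 0) (nat_lit 1) (nat_lit 0) (nat_lit 1) (nat_lit 0) .nil) (.cD (nat_lit 80) (.kA true (nat_lit 0x801802800100400400e00b008002002)) (.cD (nat_lit 128) (.kc (nat_lit 192) (nat_lit 0xf001001)) (.cD (nat_lit 144)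 (.kc (nat_lit 208) (nat_lit 0xb001001)) (.cD (nat_lit 192) (.kA true (nat_lit 0x801803800100400400e001008002002)) (.cD (nat_lit 208) (.kA true (nat_lit 0x801803000100400400e005008002002)) .nil)))))))) (.cD (nat_lit 448) (.kF (nat_lit 448) (nat_lit 0x11001004001004002002)) (.cD (nat_lit 464) (.kF (nat_lit 464) (nat_lit 0x11001004001004002002)) .nil))))))))) (.cD (nat_lit 32) (.dfs (nat_lit 58) (nat_lit 4098) (nat_lit 4098) (nat_lit 4097) (nat_lit 4097) (nat_lit 0) (nat_lit 0) (nat_lit 3) (nat_lit 0) (nat_lit 0) (nat_lit 0) (nat_lit 1) (nat_lit 0) (nat_lit 1) (nat_lit 0) (nat_lit 1) (nat_lit 0x1000000010000000100000001000000010000000100000001000000010000000000000000000000000000000000000000000000000000000000000000) (.cD (nat_lit 256) (.kc (nat_lit 144) (nat_lit 0x5001001)) (.cD (nat_lit 288) (.kc (nat_lit 128) (nat_lit 0x7001001)) (.cD (nat_lit 320) (.kF (nat_lit 320) (nat_lit 0x11001004001004002002)) (.cD (nat_lit 352) (.kF (nat_lit 352) (nat_lit 0x11001004001004002002))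 (.cD (nat_lit 384) (.kF (nat_lit 32) (nat_lit 0xc40040000020010010c4004000002004002004)) (.cD (nat_lit 416) (.kF (nat_lit 32) (nat_lit 0xc40040000020030011c2102000002004002004)) (.cD (nat_lit 448) (.kF (nat_lit 448) (nat_lit 0x11001004001004002002)) (.cD (nat_lit 480) (.kF (nat_lit 480) (nat_lit 0x11001004001004002002)) .nil))))))))) (.cD (nat_lit 64) (.kF (nat_lit 64) (nat_lit 0x8001004001002002002)) (.cD (nat_lit 80) (.kF (nat_lit 80) (nat_lit 0x8001004001002002002)) (.cD (nat_lit 96) (.kF (nat_lit 96) (nat_lit 0x8001004001002002002)) (.cD (nat_lit 128) (.dfs (nat_lit 58) (nat_lit 4098) (nat_lit 4098) (nat_lit 4097) (nat_lit 4097) (nat_lit 0) (nat_lit 0) (nat_lit 3) (nat_lit 0) (nat_lit 0) (nat_lit 0) (nat_lit 1) (nat_lit 0) (nat_lit 0x1020010) (nat_lit 0x20010) (nat_lit 0x1001110000120001150000160) (nat_lit 0x10000000000000001000000010001000100000001000100010000000000000000000000000000000000000000000000000000000000000000) (.cD (nat_lit 256) (.kc (nat_lit 144) (nat_lit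 0x5001001)) (.cD (nat_lit 272) (.dfs (nat_lit 64) (nat_lit 4100) (nat_lit 4100) (nat_lit 0x1002001) (nat_lit 0x1002001) (nat_lit 0) (nat_lit 0) (nat_lit 3) (nat_lit 0) (nat_lit 0) (nat_lit 0) (nat_lit 1) (nat_lit 0) (nat_lit 1) (nat_lit 0) (nat_lit 1) (nat_lit 0x10001000000000001000100000000000100010000000000010000) (.cD (nat_lit 16) (.kc (nat_lit 208) (nat_lit 0xb001001)) (.cD (nat_lit 64) (.kA true (nat_lit 0x1000803000100400a004005008002002)) (.cD (nat_lit 80) (.dfs (nat_lit 7) (nat_lit 4100) (nat_lit 4106) (nat_lit 1) (nat_lit 1) (nat_lit 15) (nat_lit 0) (nat_lit 1) (nat_lit 4224) (nat_lit 0x1000800400200100080c4052001) (nat_lit 0) (nat_lit 1) (nat_lit 0) (nat_lit 1) (nat_lit 0) (nat_lit 1) (nat_lit 0) .nil) (.cD (nat_lit 128) (.kc (nat_lit 80) (nat_lit 0x5001001)) (.cD (nat_lit 144) (.kc (nat_lit 192) (nat_lit 0xf001001)) (.cD (nat_lit 192) (.kA true (nat_lit 0x1000803800100400a004001008002002)) (.cD (nat_lit 208) (.kA true (nat_lit 0x1000802800100400a00400b008002002))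 .nil)))))))) (.cD (nat_lit 288) (.kF (nat_lit 128) (nat_lit 0xc4004000005006001069101000002004002004)) (.cD (nat_lit 320) (.kF (nat_lit 320) (nat_lit 0x11001004001004002002)) (.cD (nat_lit 336) (.kF (nat_lit 336) (nat_lit 0x11001004001004002002)) (.cD (nat_lit 352) (.kF (nat_lit 352) (nat_lit 0x11001004001004002002)) (.cD (nat_lit 384) (.kc (nat_lit 128) (nat_lit 0x7001001)) (.cD (nat_lit 448) (.kF (nat_lit 448) (nat_lit 0x11001004001004002002)) .nil))))))))) (.cD (nat_lit 192) (.kF (nat_lit 192) (nat_lit 0x8001004001002002002)) .nil))))))))))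
theorem c457 : (chk [] [] p457).n x250 s457 = true := by decide +kernel
noncomputable def p458 : Pf := (.anc (nat_lit 42) (nat_lit 0x1002001) (nat_lit 0x100704003a010) (.czp (nat_lit 256) (nat_lit 0) (nat_lit 0x1100080040020010) z7 (.dfs (nat_lit 16) (nat_lit 4097) (nat_lit 4097) (nat_lit 1) (nat_lit 1) (nat_lit 0) (nat_lit 0) (nat_lit 3) (nat_lit 0) (nat_lit 0) (nat_lit 0) (nat_lit 1) (nat_lit 0) (nat_lit 0x1020010) (nat_lit 0x20010) (nat_lit 0x1001010000020001050000060) (nat_lit 0x1000000000000000100000001000100010000000100010000) (.cD (nat_lit 16) (.dfs (nat_lit 58) (nat_lit 4098) (nat_lit 4098) (nat_lit 4097) (nat_lit 4097) (nat_lit 0) (nat_lit 0) (nat_lit 3) (nat_lit 0) (nat_lit 0) (nat_lit 0) (nat_lit 1) (nat_lit 0) (nat_lit 1) (nat_lit 0) (nat_lit 1) (nat_lit 0x100010000000000010001000000000001000100000000000100010000000000000000000000000000000000000000000000000000000000000000) (.cD (nat_lit 256) (.kc (nat_lit 144) (nat_lit 0x5001001)) (.cD (nat_lit 272) (.kc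 (nat_lit 128) (nat_lit 0x7001001)) (.cD (nat_lit 320) (.kF (nat_lit 320) (nat_lit 0x11001004001004002002)) (.cD (nat_lit 336) (.kF (nat_lit 336) (nat_lit 0x11001004001004002002)) (.cD (nat_lit 384) (.dfs (nat_lit 64) (nat_lit 4100) (nat_lit 4100) (nat_lit 0x1002001) (nat_lit 0x1002001) (nat_lit 0) (nat_lit 0) (nat_lit 3) (nat_lit 0) (nat_lit 0) (nat_lit 0) (nat_lit 1) (nat_lit 0) (nat_lit 1) (nat_lit 0) (nat_lit 1) (nat_lit 0x10001000000000001000100000000000100010000000000010000) (.cD (nat_lit 16) (.kc (nat_lit 80) (nat_lit 0x5001001)) (.cD (nat_lit 64) (.kA true (nat_lit 0x801002800100400400a00b008002002)) (.cD (nat_lit 80) (.dfs (nat_lit 7) (nat_lit 4101) (nat_lit 4107) (nat_lit 1) (nat_lit 1) (nat_lit 15) (nat_lit 0) (nat_lit 1) (nat_lit 4160) (nat_lit 0x1000800400200100080c4052001) (nat_lit 0) (nat_lit 1) (nat_lit 0) (nat_lit 1) (nat_lit 0) (nat_lit 1) (nat_lit 0) .nil) (.cD (nat_lit 128) (.kc (nat_lit 208) (nat_lit 0xb001001)) (.cD (nat_lit 144) (.kc (nat_lit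 192) (nat_lit 0xf001001)) (.cD (nat_lit 192) (.kA true (nat_lit 0x801003800100400400a001008002002)) (.cD (nat_lit 208) (.kA true (nat_lit 0x801003000100400400a005008002002)) .nil)))))))) (.cD (nat_lit 400) (.dfs (nat_lit 64) (nat_lit 4100) (nat_lit 4100) (nat_lit 0x1002001) (nat_lit 0x1002001) (nat_lit 0) (nat_lit 0) (nat_lit 3) (nat_lit 0) (nat_lit 0) (nat_lit 0) (nat_lit 1) (nat_lit 0) (nat_lit 1) (nat_lit 0) (nat_lit 1) (nat_lit 0x10001000000000001000100000000000100010000000000010000) (.cD (nat_lit 16) (.kc (nat_lit 80) (nat_lit 0x5001001)) (.cD (nat_lit 64) (.dfs (nat_lit 7) (nat_lit 0x100400e00f008) (nat_lit 0x100a00e00f008) (nat_lit 0x1002001) (nat_lit 0x100c001) (nat_lit 15) (nat_lit 0) (nat_lit 2) (nat_lit 1) (nat_lit 0) (nat_lit 32) (nat_lit 1) (nat_lit 0) (nat_lit 1) (nat_lit 0) (nat_lit 1) (nat_lit 0) .nil) (.cD (nat_lit 80) (.kA true (nat_lit 0x801802800100400400e00b008002002)) (.cD (nat_lit 128) (.kc (nat_lit 192) (nat_lit 0xf001001)) (.cD (nat_lit 144)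 (.kc (nat_lit 208) (nat_lit 0xb001001)) (.cD (nat_lit 192) (.kA true (nat_lit 0x801803800100400400e001008002002)) (.cD (nat_lit 208) (.kA true (nat_lit 0x801803000100400400e005008002002)) .nil)))))))) (.cD (nat_lit 448) (.kF (nat_lit 448) (nat_lit 0x11001004001004002002)) (.cD (nat_lit 464) (.kF (nat_lit 464) (nat_lit 0x11001004001004002002)) .nil))))))))) (.cD (nat_lit 32) (.dfs (nat_lit 58) (nat_lit 4098) (nat_lit 4098) (nat_lit 4097) (nat_lit 4097) (nat_lit 0) (nat_lit 0) (nat_lit 3) (nat_lit 0) (nat_lit 0) (nat_lit 0) (nat_lit 1) (nat_lit 0) (nat_lit 1) (nat_lit 0) (nat_lit 1) (nat_lit 0x1000000010000000100000001000000010000000100000001000000010000000000000000000000000000000000000000000000000000000000000000) (.cD (nat_lit 256) (.kc (nat_lit 144) (nat_lit 0x5001001)) (.cD (nat_lit 288) (.kc (nat_lit 128) (nat_lit 0x7001001)) (.cD (nat_lit 320) (.kF (nat_lit 320) (nat_lit 0x11001004001004002002)) (.cD (nat_lit 352) (.kF (nat_lit 352) (nat_lit 0x11001004001004002002))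 (.cD (nat_lit 384) (.kF (nat_lit 32) (nat_lit 0xc40040000020010010c4004000002004002004)) (.cD (nat_lit 416) (.kF (nat_lit 32) (nat_lit 0xc40040000020030011c2102000002004002004)) (.cD (nat_lit 448) (.kF (nat_lit 448) (nat_lit 0x11001004001004002002)) (.cD (nat_lit 480) (.kF (nat_lit 480) (nat_lit 0x11001004001004002002)) .nil))))))))) (.cD (nat_lit 64) (.kF (nat_lit 64) (nat_lit 0x8001004001002002002)) (.cD (nat_lit 80) (.kF (nat_lit 80) (nat_lit 0x8001004001002002002)) (.cD (nat_lit 96) (.kF (nat_lit 96) (nat_lit 0x8001004001002002002)) (.cD (nat_lit 128) (.dfs (nat_lit 58) (nat_lit 4098) (nat_lit 4098) (nat_lit 4097) (nat_lit 4097) (nat_lit 0) (nat_lit 0) (nat_lit 3) (nat_lit 0) (nat_lit 0) (nat_lit 0) (nat_lit 1) (nat_lit 0) (nat_lit 0x1020010) (nat_lit 0x20010) (nat_lit 0x1001110000120001150000160) (nat_lit 0x10000000000000001000000010001000100000001000100010000000000000000000000000000000000000000000000000000000000000000) (.cD (nat_lit 256) (.kc (nat_lit 144) (nat_lit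 0x5001001)) (.cD (nat_lit 272) (.dfs (nat_lit 64) (nat_lit 4100) (nat_lit 4100) (nat_lit 0x1002001) (nat_lit 0x1002001) (nat_lit 0) (nat_lit 0) (nat_lit 3) (nat_lit 0) (nat_lit 0) (nat_lit 0) (nat_lit 1) (nat_lit 0) (nat_lit 1) (nat_lit 0) (nat_lit 1) (nat_lit 0x10001000000000001000100000000000100010000000000010000) (.cD (nat_lit 16) (.kc (nat_lit 208) (nat_lit 0xb001001)) (.cD (nat_lit 64) (.kA true (nat_lit 0x1000803000100400a004005008002002)) (.cD (nat_lit 80) (.dfs (nat_lit 7) (nat_lit 4100) (nat_lit 4106) (nat_lit 1) (nat_lit 1) (nat_lit 15) (nat_lit 0) (nat_lit 1) (nat_lit 4224) (nat_lit 0x1000800400200100080c4052001) (nat_lit 0) (nat_lit 1) (nat_lit 0) (nat_lit 1) (nat_lit 0) (nat_lit 1) (nat_lit 0) .nil) (.cD (nat_lit 128) (.kc (nat_lit 80) (nat_lit 0x5001001)) (.cD (nat_lit 144) (.kc (nat_lit 192) (nat_lit 0xf001001)) (.cD (nat_lit 192) (.kA true (nat_lit 0x1000803800100400a004001008002002)) (.cD (nat_lit 208) (.kA true (nat_lit 0x1000802800100400a00400b008002002))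 .nil)))))))) (.cD (nat_lit 288) (.kF (nat_lit 128) (nat_lit 0xc4004000005006001069101000002004002004)) (.cD (nat_lit 320) (.kF (nat_lit 320) (nat_lit 0x11001004001004002002)) (.cD (nat_lit 336) (.kF (nat_lit 336) (nat_lit 0x11001004001004002002)) (.cD (nat_lit 352) (.kF (nat_lit 352) (nat_lit 0x11001004001004002002)) (.cD (nat_lit 384) (.kc (nat_lit 128) (nat_lit 0x7001001)) (.cD (nat_lit 448) (.kF (nat_lit 448) (nat_lit 0x11001004001004002002)) .nil))))))))) (.cD (nat_lit 192) (.kF (nat_lit 192) (nat_lit 0x8001004001002002002)) .nil))))))))))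
theorem c458 : (chk [] [] p458).n x251 s458 = true := by decide +kernel
noncomputable def p459 : Pf := (.ext (nat_lit 0) (nat_lit 0) (nat_lit 0x1400100200080) (nat_lit 0x20010008004001001) (nat_lit 0x200700400a) (nat_lit 0x1050020003) (nat_lit 0x1023020073) (nat_lit 0xa00400200500c00400200100d004006001) (.dfs (nat_lit 3) (nat_lit 0x100200700400a) (nat_lit 0x100600300400b) (nat_lit 0x1008001) (nat_lit 0x100d001) (nat_lit 0) (nat_lit 0) (nat_lit 2) (nat_lit 0) (nat_lit 0) (nat_lit 115) (nat_lit 1) (nat_lit 0) (nat_lit 0x1400180) (nat_lit 0x400180) (nat_lit 0x10000f30010f30011f3) (nat_lit 0x8000000000000000000000000000000000000000000000000000000000000) (.cD (nat_lit 243) (.dfs (nat_lit 32) (nat_lit 0x100400e008014) (nat_lit 0x100400e00801c) (nat_lit 0x1010002001) (nat_lit 0x1018002003) (nat_lit 0) (nat_lit 0) (nat_lit 2) (nat_lit 0) (nat_lit 0) (nat_lit 32) (nat_lit 1) (nat_lit 0) (nat_lit 1) (nat_lit 0) (nat_lit 1) (nat_lit 0x10000000000000000000000000000000000000000000000000000000000000001000000000000000000000000000000000000000000000000000000000000000000000000000000000000000000000001000000000000000000000000000000000000000000000000000000000000000100000000)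 (.cD (nat_lit 32) (.dfs (nat_lit 80) (nat_lit 0x100801c010028) (nat_lit 0x100800c010020) (nat_lit 0x1020004002001) (nat_lit 0x1028014016009) (nat_lit 24) (nat_lit 0) (nat_lit 2) (nat_lit 0) (nat_lit 0) (nat_lit 35) (nat_lit 1) (nat_lit 0) (nat_lit 1) (nat_lit 0) (nat_lit 1) (nat_lit 0) .nil) (.cD (nat_lit 288) (.dfs (nat_lit 80) (nat_lit 0x100801c010028) (nat_lit 0x100800c010020) (nat_lit 0x1020004002001) (nat_lit 0x1028014016009) (nat_lit 24) (nat_lit 0) (nat_lit 2) (nat_lit 0) (nat_lit 0) (nat_lit 35) (nat_lit 1) (nat_lit 0) (nat_lit 1) (nat_lit 0) (nat_lit 1) (nat_lit 0) .nil) (.cD (nat_lit 672) (.kA false (nat_lit 0x10400400000400801000d001074074000003)) (.cD (nat_lit 928) (.kA false (nat_lit 0x4b401400001801c01001d002104004000003)) .nil))))) .nil)))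
theorem c459 : (chk [] [] p459).n x254 s459 = true := by decide +kernel
noncomputable def p460 : Pf := (.lft (nat_lit 0x200080100040008010020002004001001001) (nat_lit 66) (nat_lit 0x13fc3dc3a038037c35c3203002fc2dc2a028027c25c2202001f41f01d41d01741701541500f40f00d40d0074070054050) (nat_lit 0x2001000800400200101880a408203b) (.extn a48 (nat_lit 0x200100080040020010008004002001) (nat_lit 0x1040100080200) (nat_lit 2) (nat_lit 0) (nat_lit 0) (nat_lit 2) (nat_lit 0x4000000000000000000000000000000040000000000000000) (.cE (nat_lit 66) b116 (nat_lit 0) (.iso x31 s37 (nat_lit 0) (nat_lit 0x140020010008004002001010c0046aa42d) (nat_lit 0x40020010008004002001000c0047ee799) [] (.cut (nat_lit 0))) (.cut (nat_lit 1)) (.cE (nat_lit 194) (nat_lit 0x34333a37b3020551ac2452bc13d1c422d3d42f328a3cb3b223724e02715e3292d02913681491b00f100808f0f631f26629b3e222335a00d0f439d26406519c2f520c22b3523932ea36f2160ff0863f13082c92300911681a90500d71ae2c72be1e90100511a812f0562bf2c62973ee0870fe389370231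2c809d16438d37425332a36b2122e339a2db3a21f510c3e521c0b10481891701f718e3e729e34f3360df1a63d12282e93101451bc3d522c20b2723b33ca3bb3c230337a12d0d42bd2443c33ba3fb3820d512c2c523c1bd1442ad35427320a34b3322b72ce0a71de3a92502113e81c913007108800f07639f2e621b3622a33da08d07431d2e40e511c27528c2ab3d231326a3ef29607f0063713882492b00111e81290d005712e24723e1690900d11281af0d623f24621736e00707e3093f02b124801d1e430d3f42d33aa3eb29226331a25b32217518c36529c0310c81091f017710e36721e3cf3b605f1263512a82693901c513c3552ac28b2f233334a33b3423833fa1ad05423d2c42c32ba2fb2821d502c3c533c0bd0443ad25437330a24b2323b73ce1a70de2a93503112e80c903017118810f17629f3e631b2623a32da18d17421d3e41e501c37538c3ab2d221336a2ef39617f1062712883493b01110e80291d015702e34733e0691901d10280af1d633f34631726e10717e2092f03b134811d0e420d2f43d32aa2eb39236321a35b22207508c26539c1311c80090f007700e26731e2cf2b615f0262513a83692900c503c2553ac38b3f223324a23b2422832fa0ad15433d3c424323a27b2021550ac3453bc03d0c432d2d43f338a2cb2b233734e12705e229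3d03912680490b01f110818f1f621f36639b2e232325a10d1f429d36416509c3f530c32b2522933ea26f3161ff1862f12083c93301910680a91501d70ae3c73be0e91101510a802f1563bf3c63972ee1871fe2892703313c819d06428d27435322a26b3123e329a3db2a20f500c2e531c1b11480890700f708e2e739e24f2361df0a62d13283e92100450bc2d532c30b3722b32ca2bb2c220327a02d1d43bd3443b534c1a505c17b1021c31ba1cb1b207300a3dd2240cd0342412b827928020727e0971ee13f14622f3561a10581990602ed31417d1841a30da19b0e201316a12b05238537c1150ec3992603212d825f32614f13606711e2f728e1791801c113819f0e628f2f61011f81391c02e13182d93203a72de13714e06b1121d30aa27d28416d0942153ec0050fc1db0a216301a04703e2d73ae1590a01e10183b93403013f837f30606f11613314a00b0722a535c0350cc3cd33405d1a41831fa1bb1c23353cc1250dc1fb18214313a14b1320f308a35d2a404d0b42c12382f92002872fe01716e1bf1c62af3d61210d81190e026d3941fd10412305a11b0620931ea1ab0d23053fc19506c3192e03a12582df3a61cf1b60e719e27720e1f91001411b811f06620f2761811781b91402613982593a032725e1b71ce0eb19215302a2fd2041ed01429536c085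07c15b0221e309a0c70be25732e1d90201610983393c03813783ff3860ef1961b31ca08b0f22253dc0b504c34d3b40dd12410317a13b1422352cc0251dc0fb08204303a04b0321f318a25d3a414d1b43c13383f93003873fe11706e0bf0c63af2d60211d80191e036d2940fd00402315a01b1621930ea0ab1d22052fc09516c2193e02a13583df2a60cf0b61e709e37730e0f90000410b801f16630f3760810780b90403612983592a022735e0b70ce1eb09205312a3fd3040ed11439526c18517c05b1220e319a1c71be35722e0d91200611982392c02812782ff2861ef0960b30ca18b1f23252dc1b514c24d2b41dd02400307a03b0422b524c0a515c07b0020c30ba0cb0b217310a2dd3241cd1343413b837938030737e1970ee03f04632f2560a11580991603ed21407d0840a31da09b1e211306a02b15228527c0151ec2993602213d835f22604f03616701e3f738e0790800c103809f1e638f3f60010f80390c03e12183d92202a73de03704e16b0120d31aa37d38406d1943152ec1051fc0db1a206311a14713e3d72ae0591a00e11182b92402012f827f20616f01603304a10b1723a525c1351cc2cd23415d0a40830fa0bb0c2) (nat_lit 0) (.iso x31 s37 (nat_lit 0) (nat_lit 0x140020010008004002001010c0046aa62d) (nat_lit 0x40020010008004002001000c0047ee599)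 [] (.cut (nat_lit 0))) (.iso x254 s459 (nat_lit 1) (nat_lit 0x1400200100080040020010008004002201) (nat_lit 0x400200100080040020010008004002201) [(nat_lit 0x20010008004002001005001)] (.cut (nat_lit 1))) .nil))))
theorem c460 : (chk [(x31, s37), (x254, s459)] [g98, g116] p460).n x253 s460 = true := by decide +kernel
noncomputable def p461 : Pf := (.ext (nat_lit 1) (nat_lit 0) (nat_lit 0x1200180100020004008050) (nat_lit 0x1020010018002074070005001) (nat_lit 0x1800802007f) (nat_lit 0x1011003) (nat_lit 0x1012019) (nat_lit 0x2502001000800f06406707f02001000803c02e02d) (.dfs (nat_lit 3) (nat_lit 0x101800802007f) (nat_lit 0x1018008020040) (nat_lit 0x1040010004002001) (nat_lit 0x107f01003c02e02d) (nat_lit 0) (nat_lit 0) (nat_lit 2) (nat_lit 1) (nat_lit 0) (nat_lit 25) (nat_lit 1) (nat_lit 0) (nat_lit 1) (nat_lit 0) (nat_lit 1) (nat_lit 0x200000002000000000000000000000002000000020000000000000000000000020000000200000000000000000000000200000002000000) (.cD (nat_lit 25) (.dfs (nat_lit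 17) (nat_lit 0x10300100400fe) (nat_lit 0x1030010040062) (nat_lit 0x1080020008004002001) (nat_lit 0x104a02001e0c80ce029) (nat_lit 204) (nat_lit 0) (nat_lit 2) (nat_lit 1) (nat_lit 0) (nat_lit 18) (nat_lit 1) (nat_lit 0) (nat_lit 1) (nat_lit 0) (nat_lit 1) (nat_lit 0x4000000040000000000000000000000040000000400000000000000000000000400000004000000000000000000000004000000040000) (.cD (nat_lit 18) (.kS (nat_lit 1) (nat_lit 0x4002008007400203b001000002) (nat_lit 0x115c3783a0123262) (nat_lit 0x800400200d01000800400a01d02001000801c03a00904002001007f07405605508004002002a08e03803e049) (nat_lit 0x8200200002004008010001000800400200100100103b0000400200800740dc1ac1a0062117001004)) (.cD (nat_lit 50) (.kS (nat_lit 1) (nat_lit 0x4002008007400203b001000002) (nat_lit 0x115c3783a0123242) (nat_lit 0x800400200d01000800400a01d02001000801c03a00904002001007f07405605508004002002a08e03803e049) (nat_lit 0x8200200002004008010001000800400200100100103b0000400200800740dc1ac1a0062177001004)) (.cD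 (nat_lit 146) (.kS (nat_lit 1) (nat_lit 0x600200801fc002001) (nat_lit 0x12f01280701ba) (nat_lit 0x800400200d01000800400a01d02001000801c03a00904002001007f074056055) (nat_lit 0x400600800f41780280240090010200400801000100080040020010600200801fc1a40680640db001003)) (.cD (nat_lit 178) (.cut (nat_lit 0)) (.cD (nat_lit 274) (.kS (nat_lit 1) (nat_lit 0x600200801fc002001) (nat_lit 0x12f012807003a) (nat_lit 0x800400200d01000800400a01d02001000801c03a00904002001007f074056055) (nat_lit 0x400600800f41780280240090010200400801000100080040020010600200801fc1a406806405b001003)) (.cD (nat_lit 306) (.cut (nat_lit 0)) (.cD (nat_lit 402) (.kS (nat_lit 1) (nat_lit 0x4002008007400203b001000002) (nat_lit 0x115c3783a01233e2) (nat_lit 0x800400200d01000800400a01d02001000801c03a00904002001007f07405605508004002002a08e03803e049) (nat_lit 0x8200200002004008010001000800400200100100103b0000400200800740dc1ac1a0062197001004)) (.cD (nat_lit 434) (.kS (nat_lit 1) (nat_lit 0x4002008007400203b001000002) (nat_lit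 0x115c3783a01233c2) (nat_lit 0x800400200d01000800400a01d02001000801c03a00904002001007f07405605508004002002a08e03803e049) (nat_lit 0x8200200002004008010001000800400200100100103b0000400200800740dc1ac1a00621f7001004)) .nil))))))))) (.cD (nat_lit 57) (.dfs (nat_lit 17) (nat_lit 0x10300100400fe) (nat_lit 0x1030010040062) (nat_lit 0x1080020008004002001) (nat_lit 0x104a02001e0c80ce029) (nat_lit 204) (nat_lit 0) (nat_lit 2) (nat_lit 1) (nat_lit 0) (nat_lit 18) (nat_lit 1) (nat_lit 0) (nat_lit 1) (nat_lit 0) (nat_lit 1) (nat_lit 0x4000000040000000000000000000000040000000400000000000000000000000400000004000000000000000000000004000000040000) (.cD (nat_lit 18) (.cut (nat_lit 0)) (.cD (nat_lit 50) (.kS (nat_lit 1) (nat_lit 0x600200801fc002001) (nat_lit 0x12f012807001a) (nat_lit 0x800400200d01000800400a01d02001000801c03a00904002001007f074056055) (nat_lit 0x400600800f41780280240290010200400801000100080040020010600200801fc1a406806407b001003)) (.cD (nat_lit 146) (.kS (nat_lit 1) (nat_lit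 0x4002008007400203b001000002) (nat_lit 0x115c3783a00032e2) (nat_lit 0x800400200d01000800400a01d02001000801c03a00904002001007f07405605508004002002a08e03803e049) (nat_lit 0x8200200002004008010001000800400200100100103b0000400200800740dc1ac1a00021d7001004)) (.cD (nat_lit 178) (.kS (nat_lit 1) (nat_lit 0x4002008007400203b001000002) (nat_lit 0x115c3783a00032c2) (nat_lit 0x800400200d01000800400a01d02001000801c03a00904002001007f07405605508004002002a08e03803e049) (nat_lit 0x8200200002004008010001000800400200100100103b0000400200800740dc1ac1a00021b7001004)) (.cD (nat_lit 274) (.kS (nat_lit 1) (nat_lit 0x4002008007400203b001000002) (nat_lit 0x115c3783a0003362) (nat_lit 0x800400200d01000800400a01d02001000801c03a00904002001007f07405605508004002002a08e03803e049) (nat_lit 0x8200200002004008010001000800400200100100103b0000400200800740dc1ac1a0002157001004)) (.cD (nat_lit 306) (.kS (nat_lit 1) (nat_lit 0x4002008007400203b001000002) (nat_lit 0x115c3783a0003342) (nat_lit 0x800400200d01000800400a01d02001000801c03a00904002001007f07405605508004002002a08e03803e049)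 (nat_lit 0x8200200002004008010001000800400200100100103b0000400200800740dc1ac1a0002137001004)) (.cD (nat_lit 402) (.cut (nat_lit 0)) (.cD (nat_lit 434) (.kS (nat_lit 1) (nat_lit 0x600200801fc002001) (nat_lit 0x12f012807019a) (nat_lit 0x800400200d01000800400a01d02001000801c03a00904002001007f074056055) (nat_lit 0x400600800f41780280240290010200400801000100080040020010600200801fc1a40680640fb001003)) .nil))))))))) (.cD (nat_lit 153) (.kS (nat_lit 1) (nat_lit 0x2001004003a00203b001000002) (nat_lit 0x115c3783a0083) (nat_lit 0x800400200d01000800400a01d02001000801c03a00904002001007f074056055) (nat_lit 0x8200200001002004008000800400200100100103b00002001004003a06e0d60d0061001004)) (.cD (nat_lit 185) (.kS (nat_lit 1) (nat_lit 0x2001004003a00203b001000002) (nat_lit 0x115c3783a01a3) (nat_lit 0x800400200d01000800400a01d02001000801c03a00904002001007f074056055) (nat_lit 0x8200200001002004008000800400200100100103b00002001004003a06e0d60d0051001004)) (.cD (nat_lit 281) (.kS (nat_lit 1)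 (nat_lit 0x2001004003a00203b001000002) (nat_lit 0x115c3783a0103) (nat_lit 0x800400200d01000800400a01d02001000801c03a00904002001007f074056055) (nat_lit 0x8200200001002004008000800400200100100103b00002001004003a06e0d60d0021001004)) (.cD (nat_lit 313) (.kS (nat_lit 1) (nat_lit 0x2001004003a00203b001000002) (nat_lit 0x115c3783a0023) (nat_lit 0x800400200d01000800400a01d02001000801c03a00904002001007f074056055) (nat_lit 0x8200200001002004008000800400200100100103b00002001004003a06e0d60d0011001004)) (.cD (nat_lit 409) (.dfs (nat_lit 17) (nat_lit 0x10300100400fe) (nat_lit 0x1030010040062) (nat_lit 0x1080020008004002001) (nat_lit 0x104a02001e0c80ce029) (nat_lit 204) (nat_lit 0) (nat_lit 2) (nat_lit 1) (nat_lit 0) (nat_lit 18) (nat_lit 1) (nat_lit 0) (nat_lit 1) (nat_lit 0) (nat_lit 1) (nat_lit 0x4000000040000000000000000000000040000000400000000000000000000000400000004000000000000000000000004000000040000) (.cD (nat_lit 18) (.kS (nat_lit 1) (nat_lit 0x4002008007400203b001000002)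 (nat_lit 0x115c3783a00a33e2) (nat_lit 0x800400200d01000800400a01d02001000801c03a00904002001007f07405605508004002002a08e03803e049) (nat_lit 0x8200200002004008010001000800400200100100103b0000400200800740dc1ac1a00e2197001004)) (.cD (nat_lit 50) (.kS (nat_lit 1) (nat_lit 0x4002008007400203b001000002) (nat_lit 0x115c3783a00a33c2) (nat_lit 0x800400200d01000800400a01d02001000801c03a00904002001007f07405605508004002002a08e03803e049) (nat_lit 0x8200200002004008010001000800400200100100103b0000400200800740dc1ac1a00e21f7001004)) (.cD (nat_lit 146) (.kS (nat_lit 1) (nat_lit 0x4002008007400203b001000002) (nat_lit 0x115c3783a00a3342) (nat_lit 0x800400200d01000800400a01d02001000801c03a00904002001007f07405605508004002002a08e03803e049) (nat_lit 0x8200200002004008010001000800400200100100103b0000400200800740dc1ac1a00e2137001004)) (.cD (nat_lit 178) (.kS (nat_lit 1) (nat_lit 0x4002008007400203b001000002) (nat_lit 0x115c3783a00a3362) (nat_lit 0x800400200d01000800400a01d02001000801c03a00904002001007f07405605508004002002a08e03803e049)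 (nat_lit 0x8200200002004008010001000800400200100100103b0000400200800740dc1ac1a00e2157001004)) (.cD (nat_lit 274) (.kS (nat_lit 1) (nat_lit 0x4002008007400203b001000002) (nat_lit 0x115c3783a00a32c2) (nat_lit 0x800400200d01000800400a01d02001000801c03a00904002001007f07405605508004002002a08e03803e049) (nat_lit 0x8200200002004008010001000800400200100100103b0000400200800740dc1ac1a00e21b7001004)) (.cD (nat_lit 306) (.kS (nat_lit 1) (nat_lit 0x4002008007400203b001000002) (nat_lit 0x115c3783a00a32e2) (nat_lit 0x800400200d01000800400a01d02001000801c03a00904002001007f07405605508004002002a08e03803e049) (nat_lit 0x8200200002004008010001000800400200100100103b0000400200800740dc1ac1a00e21d7001004)) (.cD (nat_lit 402) (.kS (nat_lit 1) (nat_lit 0x4002008007400203b001000002) (nat_lit 0x115c3783a00a3262) (nat_lit 0x800400200d01000800400a01d02001000801c03a00904002001007f07405605508004002002a08e03803e049) (nat_lit 0x8200200002004008010001000800400200100100103b0000400200800740dc1ac1a00e2117001004))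 (.cD (nat_lit 434) (.kS (nat_lit 1) (nat_lit 0x4002008007400203b001000002) (nat_lit 0x115c3783a00a3242) (nat_lit 0x800400200d01000800400a01d02001000801c03a00904002001007f07405605508004002002a08e03803e049) (nat_lit 0x8200200002004008010001000800400200100100103b0000400200800740dc1ac1a00e2177001004)) .nil))))))))) (.cD (nat_lit 441) (.dfs (nat_lit 17) (nat_lit 0x10300100400fe) (nat_lit 0x1030010040062) (nat_lit 0x1080020008004002001) (nat_lit 0x104a02001e0c80ce029) (nat_lit 204) (nat_lit 0) (nat_lit 2) (nat_lit 1) (nat_lit 0) (nat_lit 18) (nat_lit 1) (nat_lit 0) (nat_lit 1) (nat_lit 0) (nat_lit 1) (nat_lit 0x4000000040000000000000000000000040000000400000000000000000000000400000004000000000000000000000004000000040000) (.cD (nat_lit 18) (.kS (nat_lit 1) (nat_lit 0x4002008007400203b001000002) (nat_lit 0x115c3783a01833c2) (nat_lit 0x800400200d01000800400a01d02001000801c03a00904002001007f07405605508004002002a08e03803e049) (nat_lit 0x8200200002004008010001000800400200100100103b0000400200800740dc1ac1a00821f7001004))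 (.cD (nat_lit 50) (.kS (nat_lit 1) (nat_lit 0x4002008007400203b001000002) (nat_lit 0x115c3783a01833e2) (nat_lit 0x800400200d01000800400a01d02001000801c03a00904002001007f07405605508004002002a08e03803e049) (nat_lit 0x8200200002004008010001000800400200100100103b0000400200800740dc1ac1a0082197001004)) (.cD (nat_lit 146) (.kS (nat_lit 1) (nat_lit 0x4002008007400203b001000002) (nat_lit 0x115c3783a0183362) (nat_lit 0x800400200d01000800400a01d02001000801c03a00904002001007f07405605508004002002a08e03803e049) (nat_lit 0x8200200002004008010001000800400200100100103b0000400200800740dc1ac1a0082157001004)) (.cD (nat_lit 178) (.kS (nat_lit 1) (nat_lit 0x4002008007400203b001000002) (nat_lit 0x115c3783a0183342) (nat_lit 0x800400200d01000800400a01d02001000801c03a00904002001007f07405605508004002002a08e03803e049) (nat_lit 0x8200200002004008010001000800400200100100103b0000400200800740dc1ac1a0082137001004)) (.cD (nat_lit 274) (.kS (nat_lit 1) (nat_lit 0x4002008007400203b001000002) (nat_lit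 0x115c3783a01832e2) (nat_lit 0x800400200d01000800400a01d02001000801c03a00904002001007f07405605508004002002a08e03803e049) (nat_lit 0x8200200002004008010001000800400200100100103b0000400200800740dc1ac1a00821d7001004)) (.cD (nat_lit 306) (.kS (nat_lit 1) (nat_lit 0x4002008007400203b001000002) (nat_lit 0x115c3783a01832c2) (nat_lit 0x800400200d01000800400a01d02001000801c03a00904002001007f07405605508004002002a08e03803e049) (nat_lit 0x8200200002004008010001000800400200100100103b0000400200800740dc1ac1a00821b7001004)) (.cD (nat_lit 402) (.kS (nat_lit 1) (nat_lit 0x4002008007400203b001000002) (nat_lit 0x115c3783a0183242) (nat_lit 0x800400200d01000800400a01d02001000801c03a00904002001007f07405605508004002002a08e03803e049) (nat_lit 0x8200200002004008010001000800400200100100103b0000400200800740dc1ac1a0082177001004)) (.cD (nat_lit 434) (.kS (nat_lit 1) (nat_lit 0x4002008007400203b001000002) (nat_lit 0x115c3783a0183262) (nat_lit 0x800400200d01000800400a01d02001000801c03a00904002001007f07405605508004002002a08e03803e049)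 (nat_lit 0x8200200002004008010001000800400200100100103b0000400200800740dc1ac1a0082117001004)) .nil))))))))) .nil))))))))))
theorem c461 : (chk [(x253, s460)] [] p461).n x253 s461 = true := by decide +kernel
noncomputable def p462 : Pf := (.ext (nat_lit 0) (nat_lit 0) (nat_lit 0x1200080100040008010020002004) (nat_lit 0x1000c0040005008001020002010001001) (nat_lit 0xfe0c00800eb) (nat_lit 4097) (nat_lit 4217) (nat_lit 0x1bd08004007e0511bf04405c1ad) (.dfs (nat_lit 1) (nat_lit 0x10fe0c00800eb) (nat_lit 0x10a00c0080088) (nat_lit 0x1100040020010008004002001) (nat_lit 0x11bd04007e0511bf04405c1ad) (nat_lit 94) (nat_lit 0) (nat_lit 2) (nat_lit 0) (nat_lit 0) (nat_lit 3) (nat_lit 1) (nat_lit 0) (nat_lit 1) (nat_lit 0) (nat_lit 1) (nat_lit 0x2000000000000000000000000000000020000000000000000000000000000000200000000000000000000000000000002000000000000000000000000000000) (.cD (nat_lit 121) (.cut (nat_lit 1)) (.cD (nat_lit 249) (.iso x253 s460 (nat_lit 0) (nat_lit 0x1200100080040020010008004002101)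 (nat_lit 0x200100080040020010008004002101) [(nat_lit 0x200100080040020010008004002081001001), (nat_lit 0x20010008004002001005001)] (.cut (nat_lit 0))) (.cD (nat_lit 377) (.kS (nat_lit 0) (nat_lit 0x1fc1801001d6002001) (nat_lit 0x118e154038058336179) (nat_lit 0xe0040020050100080040060010280100080290370240600200100080040220210f904002005102903c0f600111e08004017b0911ff09a08216b) (nat_lit 0x1400801001502f02400040882d21bd0010820020001fc1801001d63760d20b80700ce079001003)) (.cD (nat_lit 505) (.kS (nat_lit 0) (nat_lit 0x1fc1801001d6002001) (nat_lit 0x118e1540380583361f9) (nat_lit 0xe0040020050100080040060010280100080290370240600200100080040220210f904002005102903c0f600111e08004017b0911ff09a08216b) (nat_lit 0x1400801001502f02400040882d21bd0010820020001fc1801001d63760d20b80700ce179001003)) .nil))))))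
theorem c462 : (chk [(x253, s460), (x253, s461)] [g115] p462).n x253 s462 = true := by decide +kernel
noncomputable def p463 : Pf := (.ext (nat_lit 1) (nat_lit 0) (nat_lit 0x1200180100020004008050) (nat_lit 0x1020010018002074070001001) (nat_lit 0x1800802007f) (nat_lit 0x1011003) (nat_lit 0x1012019) (nat_lit 0x2502001000800f06406707f02001000803c02e02d) (.dfs (nat_lit 3) (nat_lit 0x101800802007f) (nat_lit 0x1018008020040) (nat_lit 0x1040010004002001) (nat_lit 0x107f01003c02e02d) (nat_lit 0) (nat_lit 0) (nat_lit 2) (nat_lit 1) (nat_lit 0) (nat_lit 25) (nat_lit 1) (nat_lit 0) (nat_lit 1) (nat_lit 0) (nat_lit 1) (nat_lit 0x200000002000000000000000000000002000000020000000000000000000000020000000200000000000000000000000200000002000000) (.cD (nat_lit 25) (.dfs (nat_lit 17) (nat_lit 0x10300100400fe) (nat_lit 0x1030010040062) (nat_lit 0x1080020008004002001) (nat_lit 0x104a02001e0c80ce029) (nat_lit 204) (nat_lit 0) (nat_lit 2) (nat_lit 1) (nat_lit 0) (nat_lit 18) (nat_lit 1)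 (nat_lit 0) (nat_lit 1) (nat_lit 0) (nat_lit 1) (nat_lit 0) .nil) (.cD (nat_lit 57) (.dfs (nat_lit 17) (nat_lit 0x10300100400fe) (nat_lit 0x1030010040062) (nat_lit 0x1080020008004002001) (nat_lit 0x104a02001e0c80ce029) (nat_lit 204) (nat_lit 0) (nat_lit 2) (nat_lit 1) (nat_lit 0) (nat_lit 18) (nat_lit 1) (nat_lit 0) (nat_lit 1) (nat_lit 0) (nat_lit 1) (nat_lit 0) .nil) (.cD (nat_lit 153) (.kS (nat_lit 1) (nat_lit 0x2001004003a00203b001000002) (nat_lit 0x115c3783a0083) (nat_lit 0x800400200d01000800400a01d02001000801c03a00904002001007f074056055) (nat_lit 0x8200200001002004008000800400200100100103b00002001004003a06e0d60d0061001004)) (.cD (nat_lit 185) (.kS (nat_lit 1) (nat_lit 0x2001004003a00203b001000002) (nat_lit 0x115c3783a01a3) (nat_lit 0x800400200d01000800400a01d02001000801c03a00904002001007f074056055) (nat_lit 0x8200200001002004008000800400200100100103b00002001004003a06e0d60d0051001004)) (.cD (nat_lit 281) (.kS (nat_lit 1) (nat_lit 0x2001004003a00203b001000002)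 (nat_lit 0x115c3783a0103) (nat_lit 0x800400200d01000800400a01d02001000801c03a00904002001007f074056055) (nat_lit 0x8200200001002004008000800400200100100103b00002001004003a06e0d60d0021001004)) (.cD (nat_lit 313) (.kS (nat_lit 1) (nat_lit 0x2001004003a00203b001000002) (nat_lit 0x115c3783a0023) (nat_lit 0x800400200d01000800400a01d02001000801c03a00904002001007f074056055) (nat_lit 0x8200200001002004008000800400200100100103b00002001004003a06e0d60d0011001004)) (.cD (nat_lit 409) (.dfs (nat_lit 17) (nat_lit 0x10300100400fe) (nat_lit 0x1030010040062) (nat_lit 0x1080020008004002001) (nat_lit 0x104a02001e0c80ce029) (nat_lit 204) (nat_lit 0) (nat_lit 2) (nat_lit 1) (nat_lit 0) (nat_lit 18) (nat_lit 1) (nat_lit 0) (nat_lit 1) (nat_lit 0) (nat_lit 1) (nat_lit 0) .nil) (.cD (nat_lit 441) (.dfs (nat_lit 17) (nat_lit 0x10300100400fe) (nat_lit 0x1030010040062) (nat_lit 0x1080020008004002001) (nat_lit 0x104a02001e0c80ce029) (nat_lit 204) (nat_lit 0) (nat_lit 2) (nat_lit 1) (nat_lit 0)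 (nat_lit 18) (nat_lit 1) (nat_lit 0) (nat_lit 1) (nat_lit 0) (nat_lit 1) (nat_lit 0) .nil) .nil))))))))))
theorem c463 : (chk [] [] p463).n x255 s463 = true := by decide +kernel
noncomputable def p464 : Pf := (.ext (nat_lit 1) (nat_lit 0) (nat_lit 0x1200180100020006008050) (nat_lit 0x11204008c00c1081a91c900100e02001000807103d039003100080040020010008004001003) (nat_lit 0x10018020057) (nat_lit 4099) (nat_lit 4626) (nat_lit 0x6702001000803c016015) (.dfs (nat_lit 3) (nat_lit 0x1010018020057) (nat_lit 0x1010018020070) (nat_lit 0x1040008004002001) (nat_lit 0x106700803c016015) (nat_lit 48) (nat_lit 0) (nat_lit 2) (nat_lit 1) (nat_lit 0) (nat_lit 530) (nat_lit 1) (nat_lit 0) (nat_lit 1) (nat_lit 0) (nat_lit 1) (nat_lit 0) .nil))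
theorem c464 : (chk [] [] p464).n x256 s464 = true := by decide +kernel
noncomputable def p465 : Pf := (.ext (nat_lit 1) (nat_lit 0) (nat_lit 0x1200180100020006008050) (nat_lit 0x11204008c00c1081a91c900100e02001000807103d039003100080040020010008004001003) (nat_lit 0x10018020057) (nat_lit 4099) (nat_lit 4626) (nat_lit 0x6702001000803c016015) (.dfs (nat_lit 3) (nat_lit 0x1010018020057) (nat_lit 0x1010018020070) (nat_lit 0x1040008004002001) (nat_lit 0x106700803c016015) (nat_lit 48) (nat_lit 0) (nat_lit 2) (nat_lit 1) (nat_lit 0) (nat_lit 530) (nat_lit 1) (nat_lit 0) (nat_lit 1) (nat_lit 0) (nat_lit 1) (nat_lit 0) .nil))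
theorem c465 : (chk [] [] p465).n x257 s465 = true := by decide +kernel
noncomputable def p466 : Pf := (.ext (nat_lit 1) (nat_lit 0) (nat_lit 0x1200180100020004008050) (nat_lit 0x1020010018002074070001001) (nat_lit 0x1800802007f) (nat_lit 4099) (nat_lit 4121) (nat_lit 0x7f02001000803c02e02d) (.dfs (nat_lit 3) (nat_lit 0x101800802007f) (nat_lit 0x1018008020040) (nat_lit 0x1040010004002001) (nat_lit 0x107f01003c02e02d) (nat_lit 16) (nat_lit 0) (nat_lit 2) (nat_lit 1) (nat_lit 0) (nat_lit 25) (nat_lit 1) (nat_lit 0) (nat_lit 1) (nat_lit 0) (nat_lit 1) (nat_lit 0) .nil))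
theorem c466 : (chk [] [] p466).n x258 s466 = true := by decide +kernel
noncomputable def p467 : Pf := (.ext (nat_lit 1) (nat_lit 0) (nat_lit 0x1200180100020004008050) (nat_lit 0x1020010018002074070001001) (nat_lit 0x1800802007f) (nat_lit 4099) (nat_lit 4121) (nat_lit 0x7f02001000803c02e02d) (.dfs (nat_lit 3) (nat_lit 0x101800802007f) (nat_lit 0x1018008020040) (nat_lit 0x1040010004002001) (nat_lit 0x107f01003c02e02d) (nat_lit 16) (nat_lit 0) (nat_lit 2) (nat_lit 1) (nat_lit 0) (nat_lit 25) (nat_lit 1) (nat_lit 0) (nat_lit 1) (nat_lit 0) (nat_lit 1) (nat_lit 0) .nil))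
theorem c467 : (chk [] [] p467).n x259 s467 = true := by decide +kernel
noncomputable def p468 : Pf := (.ext (nat_lit 1) (nat_lit 0) (nat_lit 0x1200180100020004008050) (nat_lit 0x1020010018002074070001001) (nat_lit 0x1800802007f) (nat_lit 0x1011003) (nat_lit 0x1012019) (nat_lit 0x2502001000800f06406707f02001000803c02e02d) (.dfs (nat_lit 3) (nat_lit 0x101800802007f) (nat_lit 0x1018008020040) (nat_lit 0x1040010004002001) (nat_lit 0x107f01003c02e02d) (nat_lit 32) (nat_lit 0) (nat_lit 2) (nat_lit 1) (nat_lit 0) (nat_lit 25) (nat_lit 1) (nat_lit 0) (nat_lit 1) (nat_lit 0) (nat_lit 1) (nat_lit 0x200000002000000000000000000000002000000020000000000000000000000020000000200000000000000000000000200000002000000) (.cD (nat_lit 25) (.dfs (nat_lit 17) (nat_lit 0x10300100400fe) (nat_lit 0x1030010040062) (nat_lit 0x1080020008004002001) (nat_lit 0x104a02001e0c80ce029) (nat_lit 140) (nat_lit 0) (nat_lit 2) (nat_lit 1) (nat_lit 0) (nat_lit 18) (nat_lit 1) (nat_lit 0) (nat_lit 1) (nat_lit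 0) (nat_lit 1) (nat_lit 0) .nil) (.cD (nat_lit 57) (.dfs (nat_lit 17) (nat_lit 0x10300100400fe) (nat_lit 0x1030010040062) (nat_lit 0x1080020008004002001) (nat_lit 0x104a02001e0c80ce029) (nat_lit 140) (nat_lit 0) (nat_lit 2) (nat_lit 1) (nat_lit 0) (nat_lit 18) (nat_lit 1) (nat_lit 0) (nat_lit 1) (nat_lit 0) (nat_lit 1) (nat_lit 0) .nil) (.cD (nat_lit 153) (.kS (nat_lit 1) (nat_lit 0x2001004003a0021bb001000002) (nat_lit 0x115c3783a0083) (nat_lit 0x800400200d01000800400a01d02001000801c03a00904002001007f074056055) (nat_lit 0x820020000100200400800080040020010010011bb00002001004003a06e0d60d0061001004)) (.cD (nat_lit 185) (.kS (nat_lit 1) (nat_lit 0x2001004003a0021bb001000002) (nat_lit 0x115c3783a01a3) (nat_lit 0x800400200d01000800400a01d02001000801c03a00904002001007f074056055) (nat_lit 0x820020000100200400800080040020010010011bb00002001004003a06e0d60d0051001004)) (.cD (nat_lit 281) (.kS (nat_lit 1) (nat_lit 0x2001004003a0021bb001000002) (nat_lit 0x115c3783a0103) (nat_lit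 0x800400200d01000800400a01d02001000801c03a00904002001007f074056055) (nat_lit 0x820020000100200400800080040020010010011bb00002001004003a06e0d60d0021001004)) (.cD (nat_lit 313) (.kS (nat_lit 1) (nat_lit 0x2001004003a0021bb001000002) (nat_lit 0x115c3783a0023) (nat_lit 0x800400200d01000800400a01d02001000801c03a00904002001007f074056055) (nat_lit 0x820020000100200400800080040020010010011bb00002001004003a06e0d60d0011001004)) (.cD (nat_lit 409) (.dfs (nat_lit 17) (nat_lit 0x10300100400fe) (nat_lit 0x1030010040062) (nat_lit 0x1080020008004002001) (nat_lit 0x104a02001e0c80ce029) (nat_lit 140) (nat_lit 0) (nat_lit 2) (nat_lit 1) (nat_lit 0) (nat_lit 18) (nat_lit 1) (nat_lit 0) (nat_lit 1) (nat_lit 0) (nat_lit 1) (nat_lit 0) .nil) (.cD (nat_lit 441) (.dfs (nat_lit 17) (nat_lit 0x10300100400fe) (nat_lit 0x1030010040062) (nat_lit 0x1080020008004002001) (nat_lit 0x104a02001e0c80ce029) (nat_lit 140) (nat_lit 0) (nat_lit 2) (nat_lit 1) (nat_lit 0) (nat_lit 18) (nat_lit 1) (nat_lit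 0) (nat_lit 1) (nat_lit 0) (nat_lit 1) (nat_lit 0) .nil) .nil))))))))))
theorem c468 : (chk [] [] p468).n x260 s468 = true := by decide +kernel
noncomputable def p469 : Pf := (.ext (nat_lit 1) (nat_lit 0) (nat_lit 0x1200180100020004008050) (nat_lit 0x1020010018002074070001001) (nat_lit 0x1800802007f) (nat_lit 0x1011003) (nat_lit 0x1012019) (nat_lit 0x2502001000800f06406707f02001000803c02e02d) (.dfs (nat_lit 3) (nat_lit 0x101800802007f) (nat_lit 0x1018008020040) (nat_lit 0x1040010004002001) (nat_lit 0x107f01003c02e02d) (nat_lit 32) (nat_lit 0) (nat_lit 2) (nat_lit 1) (nat_lit 0) (nat_lit 25) (nat_lit 1) (nat_lit 0) (nat_lit 1) (nat_lit 0) (nat_lit 1) (nat_lit 0x200000002000000000000000000000002000000020000000000000000000000020000000200000000000000000000000200000002000000) (.cD (nat_lit 25) (.dfs (nat_lit 17) (nat_lit 0x10300100400fe) (nat_lit 0x1030010040062) (nat_lit 0x1080020008004002001) (nat_lit 0x104a02001e0c80ce029) (nat_lit 140) (nat_lit 0) (nat_lit 2) (nat_lit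 1) (nat_lit 0) (nat_lit 18) (nat_lit 1) (nat_lit 0) (nat_lit 1) (nat_lit 0) (nat_lit 1) (nat_lit 0) .nil) (.cD (nat_lit 57) (.dfs (nat_lit 17) (nat_lit 0x10300100400fe) (nat_lit 0x1030010040062) (nat_lit 0x1080020008004002001) (nat_lit 0x104a02001e0c80ce029) (nat_lit 140) (nat_lit 0) (nat_lit 2) (nat_lit 1) (nat_lit 0) (nat_lit 18) (nat_lit 1) (nat_lit 0) (nat_lit 1) (nat_lit 0) (nat_lit 1) (nat_lit 0) .nil) (.cD (nat_lit 153) (.kS (nat_lit 1) (nat_lit 0x2001004003a0021bb001000002) (nat_lit 0x115c3783a0083) (nat_lit 0x800400200d01000800400a01d02001000801c03a00904002001007f074056055) (nat_lit 0x820020000100200400800080040020010010011bb00002001004003a06e0d60d0061001004)) (.cD (nat_lit 185) (.kS (nat_lit 1) (nat_lit 0x2001004003a0021bb001000002) (nat_lit 0x115c3783a01a3) (nat_lit 0x800400200d01000800400a01d02001000801c03a00904002001007f074056055) (nat_lit 0x820020000100200400800080040020010010011bb00002001004003a06e0d60d0051001004)) (.cD (nat_lit 281) (.kS (nat_lit 1)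 (nat_lit 0x2001004003a0021bb001000002) (nat_lit 0x115c3783a0103) (nat_lit 0x800400200d01000800400a01d02001000801c03a00904002001007f074056055) (nat_lit 0x820020000100200400800080040020010010011bb00002001004003a06e0d60d0021001004)) (.cD (nat_lit 313) (.kS (nat_lit 1) (nat_lit 0x2001004003a0021bb001000002) (nat_lit 0x115c3783a0023) (nat_lit 0x800400200d01000800400a01d02001000801c03a00904002001007f074056055) (nat_lit 0x820020000100200400800080040020010010011bb00002001004003a06e0d60d0011001004)) (.cD (nat_lit 409) (.dfs (nat_lit 17) (nat_lit 0x10300100400fe) (nat_lit 0x1030010040062) (nat_lit 0x1080020008004002001) (nat_lit 0x104a02001e0c80ce029) (nat_lit 140) (nat_lit 0) (nat_lit 2) (nat_lit 1) (nat_lit 0) (nat_lit 18) (nat_lit 1) (nat_lit 0) (nat_lit 1) (nat_lit 0) (nat_lit 1) (nat_lit 0) .nil) (.cD (nat_lit 441) (.dfs (nat_lit 17) (nat_lit 0x10300100400fe) (nat_lit 0x1030010040062) (nat_lit 0x1080020008004002001) (nat_lit 0x104a02001e0c80ce029) (nat_lit 140) (nat_lit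 0) (nat_lit 2) (nat_lit 1) (nat_lit 0) (nat_lit 18) (nat_lit 1) (nat_lit 0) (nat_lit 1) (nat_lit 0) (nat_lit 1) (nat_lit 0) .nil) .nil))))))))))
theorem c469 : (chk [] [] p469).n x261 s469 = true := by decide +kernel
noncomputable def p470 : Pf := (.lft (nat_lit 0x4f0c008014e0341f707b1ad0d60031000400c0005020001008010002001002) (nat_lit 29) (nat_lit 0x11d01c01901801501401101000f80e80b80a8078068038028) (nat_lit 0x1000800400200100080c4052041) (.extn a47 (nat_lit 0x100080040020010008004002001) (nat_lit 0x1020080040100) (nat_lit 2) (nat_lit 0) (nat_lit 0) (nat_lit 21) (nat_lit 0x20000000000000002000000000000000200000000000000020000000) (.cE (nat_lit 29) b115 (nat_lit 0) (.cut (nat_lit 0)) (.cut (nat_lit 1)) (.cE (nat_lit 93) (nat_lit 0xa907514304b0bf17710519918600e1d414815010c15205a0390e515305b02f1e711518919601e1c415814011c14204a17c16017e0b612a0621f812405315b1691b50c505912f0e716c17016e0a613a0721e81340c31cb1791a50550c913f0f70e903510300b0ff1371451d91c604e19410811014c112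01a0790a511301b06f1a71551c91d605e18411810015c10200a13c12013e0f616a0221b816401311b1291f508501916f0a712c13012e0e617a0321a817408318b1391e501508917f0b70290f51c30cb03f1f718511910608e1541c81d018c1d20da0b90651d30db0af16719510911609e1441d81c019c1c20ca1fc1e01fe0361aa0e21781a40d31db1e91350450d91af0671ec1f01ee0261ba0f21681b404314b1f91250d50491bf0770690b518308b07f1b71c51591460ce1141881901cc19209a0f902519309b0ef1271d51491560de1041981801dc18208a1bc1a01be0761ea0a21381e409319b1a91750050991ef0271ac1b01ae0661fa0b21281f400310b1b91650950091ff0371470cf0bd0a111114d03b1730680b406a1220fe13602c0301570df02d03110115d0ab1e30f80240fa1b206e1a60bc0a00d21da0800dc0c40580c614e1fd1e10d715f12b06305100d04214a01004c0540c80561de1ed1f10471cf13b0730c109d10708f0fd0e115110d07b1330280f402a1620be17606c07011709f06d07114111d0eb1a30b80640ba1f202e1e60fc0e009219a0c009c08401808610e1bd1a109711f16b02301104d00210a05000c01408801619e1ad1b100718f17b0330810dd1c704f03d0211911cd0bb1f30e80340ea1a207e1b60ac0b01d705f0ad0b11811dd02b1630780a407a1320ee12603c02005215a00005c0440d80461ce17d1610571df1ab0e30d108d0c21ca0900cc0d40480d615e16d1710c714f1bb0f304101d18700f07d0611d118d0fb1b30a80740aa1e203e1f60ec0f019701f0ed0f11c119d06b1230380e403a1720ae16607c06001211a04001c00409800618e13d12101719f1eb0a30910cd08218a0d008c09400809611e12d13108710f1fb0b300105d)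 (nat_lit 0) (.iso x256 s464 (nat_lit 0) (nat_lit 0x120010008004002001000818608222d) (nat_lit 0x20010008004002001000818608220f) [(nat_lit 0xa400400011204008008c13f07a01a0e90b4004002), (nat_lit 0xd408002006000c02811c00306a02001800802406c00f00a1bc08004002000c0681a00040a4004000004)] (.cut (nat_lit 2))) (.iso x257 s465 (nat_lit 0) (nat_lit 0x120010008004002001000818608222d) (nat_lit 0x20010008004002001000818608220f) [(nat_lit 0xa400400011204008008c13f07a01a0e90b4004002), (nat_lit 0xd408002006000c02811c00306a02001800802406c00f00a1bc08004002000c0681a00040a4004000004)] (.cut (nat_lit 3))) (.cE (nat_lit 157) b118 (nat_lit 0) (.cut (nat_lit 4)) (.cut (nat_lit 5)) (.cE (nat_lit 221) b119 (nat_lit 0) (.cut (nat_lit 6)) (.cut (nat_lit 7)) .nil))))))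
theorem c470 : (chk [(x253, s462), (x255, s463), (x256, s464), (x257, s465), (x258, s466), (x259, s467), (x260, s468), (x261, s469)] [g96] p470).n x252 s470 = true := by decide +kernel
noncomputable def p471 : Pf := (.ext (nat_lit 1) (nat_lit 0x20400c0100001001) (nat_lit 0x11000c0080010002004028) (nat_lit 0x1b70c00400421b30450b100105202001801001603d039007041001000001020010018002074070007004) (nat_lit 0x1801002001d) (nat_lit 0x1008001) (nat_lit 0x111201c) (nat_lit 0x7002001001807e00200103102001001806d073070) (.dfs (nat_lit 1) (nat_lit 0x1008010020040) (nat_lit 0x1018010020031) (nat_lit 0x1004002001) (nat_lit 0x106d073070) (nat_lit 48) (nat_lit 0) (nat_lit 2) (nat_lit 1) (nat_lit 0x8010020040001001) (nat_lit 11) (nat_lit 1) (nat_lit 0) (nat_lit 4140) (nat_lit 44) (nat_lit 0x100001c00005c) (nat_lit 0x100000000000000010000000) (.cD (nat_lit 28) (.dfs (nat_lit 8) (nat_lit 0x10770400600e9) (nat_lit 0x10f504006008f) (nat_lit 0x1080020010008004002001) (nat_lit 0x10e00200300fc0040020e3)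 (nat_lit 0) (nat_lit 0) (nat_lit 2) (nat_lit 0) (nat_lit 0) (nat_lit 10) (nat_lit 1) (nat_lit 0) (nat_lit 1) (nat_lit 0) (nat_lit 1) (nat_lit 0x40000000000000004000000000000000400000000000000040000000000000000000000000000000000000000000000000000000000000000000000000000000) (.cD (nat_lit 318) (.kS (nat_lit 0) (nat_lit 0x2e0800c001a002041001000002) (nat_lit 0x111317e05c) (nat_lit 0xe004002005010008004006001028010008029037024) (nat_lit 0x50400c01c00080011c600112104900002e0800c001a13213c0e9001003)) (.cD (nat_lit 382) (.kA false (nat_lit 0x2e0800c01d20010c50400c0004001029101000003)) (.cD (nat_lit 446) (.kA false (nat_lit 0xae0800c01d20010c50400c0004001029101000003)) (.cD (nat_lit 510) (.kS (nat_lit 1) (nat_lit 0x600400800740020020400c0100003002) (nat_lit 0x102c184130) (nat_lit 0x800400200301000800400e00103001000800d002019) (nat_lit 0x801802007e02201601b00705200200006004008007408c148165001003)) .nil))))) (.cD (nat_lit 92) (.dfs (nat_lit 8) (nat_lit 0x1017040060089) (nat_lit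 0x10950400600ef) (nat_lit 0x1080020010008004002001) (nat_lit 0x10e00200300fc0040020e3) (nat_lit 0) (nat_lit 0) (nat_lit 2) (nat_lit 0) (nat_lit 0) (nat_lit 10) (nat_lit 1) (nat_lit 0) (nat_lit 1) (nat_lit 0) (nat_lit 1) (nat_lit 0x40000000000000004000000000000000400000000000000040000000000000000000000000000000000000000000000000000000000000000000000000000000) (.cD (nat_lit 318) (.kA false (nat_lit 0xee0800c01120010c50400c00c4001041001000003)) (.cD (nat_lit 382) (.cut (nat_lit 0)) (.cD (nat_lit 446) (.kS (nat_lit 0) (nat_lit 0xee0800c00da002041001000002) (nat_lit 0x115317e09c) (nat_lit 0xe004002005010008004006001028010008029037024) (nat_lit 0x450400c01000080410420010910510000ee0800c00da1f213c069001003)) (.cD (nat_lit 510) (.kA false (nat_lit 0x6e0800c01120010c50400c00c4001041001000003)) .nil))))) .nil))))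
theorem c471 : (chk [(x252, s470)] [] p471).n x252 s471 = true := by decide +kernel
noncomputable def p472 : Pf := (.ext (nat_lit 0) (nat_lit 0) (nat_lit 0x1100040080020008001004010) (nat_lit 0x80040020010008002001027001001) (nat_lit 0x50060040048) (nat_lit 4098) (nat_lit 4131) (nat_lit 0xa10400200f30ca0fc043001) (.dfs (nat_lit 2) (nat_lit 0x1050060040048) (nat_lit 0x10b306004008a) (nat_lit 0x1080020010008004002001) (nat_lit 0x10a10200f30ca0fc043001) (nat_lit 65) (nat_lit 0) (nat_lit 2) (nat_lit 0) (nat_lit 0) (nat_lit 27) (nat_lit 1) (nat_lit 0) (nat_lit 1) (nat_lit 0) (nat_lit 1) (nat_lit 0x800000000000000080000000000000008000000000000000800000000) (.cD (nat_lit 35) (.cut (nat_lit 0)) (.cD (nat_lit 99) (.iso x252 s471 (nat_lit 0) (nat_lit 0x1100080040020010008004002041) (nat_lit 0x100080040020010008004002041) [(nat_lit 0x100080040020010088004002001001001), (nat_lit 0x20010008004002011005001), (nat_lit 0x40020010008004002001007001), (nat_lit 0x40020010008004002001009001)]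 (.cut (nat_lit 0))) (.cD (nat_lit 163) (.kS (nat_lit 0) (nat_lit 0x20040080100001001) (nat_lit 0x11b01400010ec0a3) (nat_lit 0xe0040020050100080040060010280100080290370240600200100080040220210f904002005102903c0f6001) (nat_lit 0xa00c00800901621800080f4119002020040080100004010008002001002002)) (.cD (nat_lit 227) (.kS (nat_lit 0) (nat_lit 0x20040080100001001) (nat_lit 0x11b01400010ec0e3) (nat_lit 0xe0040020050100080040060010280100080290370240600200100080040220210f904002005102903c0f6001) (nat_lit 0xa00c00800901621800080f4199002020040080100004010008002001002002)) .nil))))))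
theorem c472 : (chk [(x252, s471)] [g81] p472).n x252 s472 = true := by decide +kernel
noncomputable def p473 : Pf := (.ext (nat_lit 0) (nat_lit 0) (nat_lit 0x1100040080020008015) (nat_lit 0x12010018014030033002041001000020010008004002001001003) (nat_lit 0x14018010012) (nat_lit 0x1004001) (nat_lit 0x1110001) (nat_lit 0x2801000801c00202f016010008014024027) (.dfs (nat_lit 1) (nat_lit 0x1014018010012) (nat_lit 0x1004018010034) (nat_lit 0x1020008004002001) (nat_lit 0x1016008014024027) (nat_lit 16) (nat_lit 0) (nat_lit 2) (nat_lit 0) (nat_lit 0) (nat_lit 1) (nat_lit 1) (nat_lit 0) (nat_lit 4128) (nat_lit 32) (nat_lit 0x1000001000081) (nat_lit 0x200000000000000000000000000000002) (.cD (nat_lit 1) (.dfs (nat_lit 4) (nat_lit 0x1028030020024) (nat_lit 0x1018030020024) (nat_lit 0x1040010008004002001) (nat_lit 0x105001003800405e07d) (nat_lit 48) (nat_lit 0) (nat_lit 2) (nat_lit 0) (nat_lit 0) (nat_lit 16) (nat_lit 1) (nat_lit 0) (nat_lit 1) (nat_lit 0) (nat_lit 1) (nat_lit 0x10000000000000001000000000000000100000000000000010000000000000000000000000000000000000000000000000000000000000000000000000000)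 (.cD (nat_lit 304) (.kA false (nat_lit 0x280300200480090b6020040087001052002000003)) (.cD (nat_lit 368) (.kA false (nat_lit 0x280300200480090f6060040071002052002000003)) (.cD (nat_lit 432) (.cut (nat_lit 0)) (.cD (nat_lit 496) (.kA true (nat_lit 0x6701003001700a052002000027020060080001003)) .nil))))) (.cD (nat_lit 129) (.dfs (nat_lit 4) (nat_lit 0x1028030020024) (nat_lit 0x1018030020024) (nat_lit 0x1040010008004002001) (nat_lit 0x105001003800405e07d) (nat_lit 48) (nat_lit 0) (nat_lit 2) (nat_lit 0) (nat_lit 0) (nat_lit 16) (nat_lit 1) (nat_lit 0) (nat_lit 1) (nat_lit 0) (nat_lit 1) (nat_lit 0x10000000000000001000000000000000100000000000000010000000000000000000000000000000000000000000000000000000000000000000000000000) (.cD (nat_lit 304) (.kA false (nat_lit 0x7a01002001700a0d60600400890021bb003000003)) (.cD (nat_lit 368) (.kA false (nat_lit 0x18030020048009096060040071002052002000003)) (.cD (nat_lit 432) (.kA true (nat_lit 0x59060020048001027020060080001002)) (.cD (nat_lit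 496) (.kA true (nat_lit 0x19060020048001027020060080001002)) .nil))))) .nil))))
theorem c473 : (chk [(x252, s472)] [] p473).n x252 s473 = true := by decide +kernel
noncomputable def p474 : Pf := (.ext (nat_lit 0) (nat_lit 0) (nat_lit 0x1100040080020008) (nat_lit 0x1400800400a019007052002000002) (nat_lit 0x400e008014) (nat_lit 4117) (nat_lit 4117) (nat_lit 0x700800400201e) (.dfs (nat_lit 21) (nat_lit 0x100400e008014) (nat_lit 0x100400e008003) (nat_lit 0x1010002001) (nat_lit 0x100700201e) (nat_lit 31) (nat_lit 0) (nat_lit 2) (nat_lit 0) (nat_lit 0) (nat_lit 21) (nat_lit 1) (nat_lit 0) (nat_lit 1) (nat_lit 0) (nat_lit 1) (nat_lit 0x20000000200000002000000020000000200000002000000020000000200000) (.cD (nat_lit 21) (.cut (nat_lit 0)) (.cD (nat_lit 53) (.kS (nat_lit 0) (nat_lit 0x401c0100340020c4004000002) (nat_lit 0x10481bd) (nat_lit 0x800400200301000800401901e) (nat_lit 0xc40040000040080100200020010010040c400000401c010034012027001004)) (.cD (nat_lit 85) (.kS (nat_lit 0)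 (nat_lit 0x801c010038002008008000002) (nat_lit 0x104817d) (nat_lit 0x800400200301000800401901e) (nat_lit 0x1c00401002401201100100400801002000200100100800800000801c01003801203f001004)) (.cD (nat_lit 117) (.kS (nat_lit 0) (nat_lit 0x401c0100340020c4004000002) (nat_lit 0x10481fd) (nat_lit 0x800400200301000800401901e) (nat_lit 0xc40040000040080100200020010010040c400000401c010034012037001004)) (.cD (nat_lit 149) (.kS (nat_lit 0) (nat_lit 0x401c0100340020c4004000002) (nat_lit 0x10481dd) (nat_lit 0x800400200301000800401901e) (nat_lit 0xc40040000040080100200020010010040c400000401c010034012033001004)) (.cD (nat_lit 181) (.iso x252 s473 (nat_lit 0) (nat_lit 0x1100080040020010008004002081) (nat_lit 0x100080040020010008004002081) [(nat_lit 0x20010008004002009001001), (nat_lit 0x40020010008004002001003001), (nat_lit 0x40020010008004002001005001), (nat_lit 0x40020010008004002001007001)] (.cut (nat_lit 0))) (.cD (nat_lit 213) (.kS (nat_lit 0) (nat_lit 0x401c0100340020c4004000002)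 (nat_lit 0x104819d) (nat_lit 0x800400200301000800401901e) (nat_lit 0xc40040000040080100200020010010040c400000401c010034012023001004)) (.cD (nat_lit 245) (.kS (nat_lit 0) (nat_lit 0x801c010038002008008000002) (nat_lit 0x104811d) (nat_lit 0x800400200301000800401901e) (nat_lit 0x1c00401002401201d00100400801002000200100100800800000801c01003801202b001004)) .nil))))))))))
theorem c474 : (chk [(x252, s473)] [g81] p474).n x252 s474 = true := by decide +kernel
noncomputable def p475 : Pf := (.anc (nat_lit 42) (nat_lit 0x1002001) (nat_lit 0x100704003a010) (.czp (nat_lit 256) (nat_lit 0) (nat_lit 0x1100080040020010) z7 (.dfs (nat_lit 16) (nat_lit 4097) (nat_lit 4097) (nat_lit 1) (nat_lit 1) (nat_lit 0) (nat_lit 0) (nat_lit 3) (nat_lit 0) (nat_lit 0) (nat_lit 0) (nat_lit 1) (nat_lit 0) (nat_lit 0x1020010) (nat_lit 0x20010) (nat_lit 0x1001010000020001050000060) (nat_lit 0x1000000000000000100000001000100010000000100010000) (.cD (nat_lit 16) (.dfs (nat_lit 58) (nat_lit 4098) (nat_lit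 4098) (nat_lit 4097) (nat_lit 4097) (nat_lit 0) (nat_lit 0) (nat_lit 3) (nat_lit 0) (nat_lit 0) (nat_lit 0) (nat_lit 1) (nat_lit 0) (nat_lit 1) (nat_lit 0) (nat_lit 1) (nat_lit 0x100010000000000010001000000000001000100000000000100010000000000000000000000000000000000000000000000000000000000000000) (.cD (nat_lit 256) (.kc (nat_lit 144) (nat_lit 0x5001001)) (.cD (nat_lit 272) (.kc (nat_lit 128) (nat_lit 0x7001001)) (.cD (nat_lit 320) (.kF (nat_lit 320) (nat_lit 0x11001004001004002002)) (.cD (nat_lit 336) (.kF (nat_lit 336) (nat_lit 0x11001004001004002002)) (.cD (nat_lit 384) (.dfs (nat_lit 64) (nat_lit 4100) (nat_lit 4100) (nat_lit 0x1002001) (nat_lit 0x1002001) (nat_lit 0) (nat_lit 0) (nat_lit 3) (nat_lit 0) (nat_lit 0) (nat_lit 0) (nat_lit 1) (nat_lit 0) (nat_lit 1) (nat_lit 0) (nat_lit 1) (nat_lit 0x10001000000000001000100000000000100010000000000010000) (.cD (nat_lit 16) (.kc (nat_lit 80) (nat_lit 0x5001001)) (.cD (nat_lit 64) (.kA true (nat_lit 0x801002800100400400a00b008002002))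 (.cD (nat_lit 80) (.dfs (nat_lit 7) (nat_lit 4101) (nat_lit 4107) (nat_lit 1) (nat_lit 1) (nat_lit 14) (nat_lit 0) (nat_lit 1) (nat_lit 4160) (nat_lit 0x1000800400200100080c4052041) (nat_lit 0) (nat_lit 1) (nat_lit 0) (nat_lit 1) (nat_lit 0) (nat_lit 1) (nat_lit 0) .nil) (.cD (nat_lit 128) (.kc (nat_lit 208) (nat_lit 0xb001001)) (.cD (nat_lit 144) (.kc (nat_lit 192) (nat_lit 0xf001001)) (.cD (nat_lit 192) (.kA true (nat_lit 0x801003800100400400a001008002002)) (.cD (nat_lit 208) (.kA true (nat_lit 0x801003000100400400a005008002002)) .nil)))))))) (.cD (nat_lit 400) (.dfs (nat_lit 64) (nat_lit 4100) (nat_lit 4100) (nat_lit 0x1002001) (nat_lit 0x1002001) (nat_lit 0) (nat_lit 0) (nat_lit 3) (nat_lit 0) (nat_lit 0) (nat_lit 0) (nat_lit 1) (nat_lit 0) (nat_lit 1) (nat_lit 0) (nat_lit 1) (nat_lit 0x10001000000000001000100000000000100010000000000010000) (.cD (nat_lit 16) (.kc (nat_lit 80) (nat_lit 0x5001001)) (.cD (nat_lit 64) (.dfs (nat_lit 7) (nat_lit 0x100400e00f008) (nat_lit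 0x100a00e00f008) (nat_lit 0x1002001) (nat_lit 0x100c001) (nat_lit 14) (nat_lit 0) (nat_lit 2) (nat_lit 1) (nat_lit 0) (nat_lit 32) (nat_lit 1) (nat_lit 0) (nat_lit 4112) (nat_lit 16) (nat_lit 0x1000030000070) (nat_lit 0x10000000000000001000000000000) (.cD (nat_lit 48) (.kb (nat_lit 61) (nat_lit 0x2052000040006005001003) (nat_lit 0x10800400201141fe103)) (.cD (nat_lit 112) (.kb (nat_lit 125) (nat_lit 0x2052000040006007001003) (nat_lit 0x10800400201141fe103)) .nil))) (.cD (nat_lit 80) (.kA true (nat_lit 0x801802800100400400e00b008002002)) (.cD (nat_lit 128) (.kc (nat_lit 192) (nat_lit 0xf001001)) (.cD (nat_lit 144) (.kc (nat_lit 208) (nat_lit 0xb001001)) (.cD (nat_lit 192) (.kA true (nat_lit 0x801803800100400400e001008002002)) (.cD (nat_lit 208) (.kA true (nat_lit 0x801803000100400400e005008002002)) .nil)))))))) (.cD (nat_lit 448) (.kF (nat_lit 448) (nat_lit 0x11001004001004002002)) (.cD (nat_lit 464) (.kF (nat_lit 464) (nat_lit 0x11001004001004002002)) .nil)))))))))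 (.cD (nat_lit 32) (.dfs (nat_lit 58) (nat_lit 4098) (nat_lit 4098) (nat_lit 4097) (nat_lit 4097) (nat_lit 0) (nat_lit 0) (nat_lit 3) (nat_lit 0) (nat_lit 0) (nat_lit 0) (nat_lit 1) (nat_lit 0) (nat_lit 1) (nat_lit 0) (nat_lit 1) (nat_lit 0x1000000010000000100000001000000010000000100000001000000010000000000000000000000000000000000000000000000000000000000000000) (.cD (nat_lit 256) (.kc (nat_lit 144) (nat_lit 0x5001001)) (.cD (nat_lit 288) (.kc (nat_lit 128) (nat_lit 0x7001001)) (.cD (nat_lit 320) (.kF (nat_lit 320) (nat_lit 0x11001004001004002002)) (.cD (nat_lit 352) (.kF (nat_lit 352) (nat_lit 0x11001004001004002002)) (.cD (nat_lit 384) (.kF (nat_lit 32) (nat_lit 0xc40040000020010010c4004000002004002004)) (.cD (nat_lit 416) (.kF (nat_lit 32) (nat_lit 0xc40040000020030011c2102000002004002004)) (.cD (nat_lit 448) (.kF (nat_lit 448) (nat_lit 0x11001004001004002002)) (.cD (nat_lit 480) (.kF (nat_lit 480) (nat_lit 0x11001004001004002002)) .nil))))))))) (.cD (nat_lit 64)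 (.kF (nat_lit 64) (nat_lit 0x8001004001002002002)) (.cD (nat_lit 80) (.kF (nat_lit 80) (nat_lit 0x8001004001002002002)) (.cD (nat_lit 96) (.kF (nat_lit 96) (nat_lit 0x8001004001002002002)) (.cD (nat_lit 128) (.dfs (nat_lit 58) (nat_lit 4098) (nat_lit 4098) (nat_lit 4097) (nat_lit 4097) (nat_lit 0) (nat_lit 0) (nat_lit 3) (nat_lit 0) (nat_lit 0) (nat_lit 0) (nat_lit 1) (nat_lit 0) (nat_lit 0x1020010) (nat_lit 0x20010) (nat_lit 0x1001110000120001150000160) (nat_lit 0x10000000000000001000000010001000100000001000100010000000000000000000000000000000000000000000000000000000000000000) (.cD (nat_lit 256) (.kc (nat_lit 144) (nat_lit 0x5001001)) (.cD (nat_lit 272) (.dfs (nat_lit 64) (nat_lit 4100) (nat_lit 4100) (nat_lit 0x1002001) (nat_lit 0x1002001) (nat_lit 0) (nat_lit 0) (nat_lit 3) (nat_lit 0) (nat_lit 0) (nat_lit 0) (nat_lit 1) (nat_lit 0) (nat_lit 1) (nat_lit 0) (nat_lit 1) (nat_lit 0x10001000000000001000100000000000100010000000000010000) (.cD (nat_lit 16) (.kc (nat_lit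 208) (nat_lit 0xb001001)) (.cD (nat_lit 64) (.kA true (nat_lit 0x1000803000100400a004005008002002)) (.cD (nat_lit 80) (.dfs (nat_lit 7) (nat_lit 4100) (nat_lit 4106) (nat_lit 1) (nat_lit 1) (nat_lit 14) (nat_lit 0) (nat_lit 1) (nat_lit 4224) (nat_lit 0x1000800400200100080c4052041) (nat_lit 0) (nat_lit 1) (nat_lit 0) (nat_lit 1) (nat_lit 0) (nat_lit 1) (nat_lit 0) .nil) (.cD (nat_lit 128) (.kc (nat_lit 80) (nat_lit 0x5001001)) (.cD (nat_lit 144) (.kc (nat_lit 192) (nat_lit 0xf001001)) (.cD (nat_lit 192) (.kA true (nat_lit 0x1000803800100400a004001008002002)) (.cD (nat_lit 208) (.kA true (nat_lit 0x1000802800100400a00400b008002002)) .nil)))))))) (.cD (nat_lit 288) (.kF (nat_lit 128) (nat_lit 0xc4004000005006001029101000002004002004)) (.cD (nat_lit 320) (.kF (nat_lit 320) (nat_lit 0x11001004001004002002)) (.cD (nat_lit 336) (.kF (nat_lit 336) (nat_lit 0x11001004001004002002)) (.cD (nat_lit 352) (.kF (nat_lit 352) (nat_lit 0x11001004001004002002)) (.cD (nat_lit 384) (.kc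 (nat_lit 128) (nat_lit 0x7001001)) (.cD (nat_lit 448) (.kF (nat_lit 448) (nat_lit 0x11001004001004002002)) .nil))))))))) (.cD (nat_lit 192) (.kF (nat_lit 192) (nat_lit 0x8001004001002002002)) .nil))))))))))
theorem c475 : (chk [] [] p475).n x262 s475 = true := by decide +kernel
noncomputable def p476 : Pf := (.anc (nat_lit 42) (nat_lit 0x1002001) (nat_lit 0x100704003a010) (.czp (nat_lit 256) (nat_lit 0) (nat_lit 0x1100080040020010) z7 (.dfs (nat_lit 16) (nat_lit 4097) (nat_lit 4097) (nat_lit 1) (nat_lit 1) (nat_lit 0) (nat_lit 0) (nat_lit 3) (nat_lit 0) (nat_lit 0) (nat_lit 0) (nat_lit 1) (nat_lit 0) (nat_lit 0x1020010) (nat_lit 0x20010) (nat_lit 0x1001010000020001050000060) (nat_lit 0x1000000000000000100000001000100010000000100010000) (.cD (nat_lit 16) (.dfs (nat_lit 58) (nat_lit 4098) (nat_lit 4098) (nat_lit 4097) (nat_lit 4097) (nat_lit 0) (nat_lit 0) (nat_lit 3) (nat_lit 0) (nat_lit 0) (nat_lit 0) (nat_lit 1) (nat_lit 0) (nat_lit 1) (nat_lit 0) (nat_lit 1) (nat_lit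 0x100010000000000010001000000000001000100000000000100010000000000000000000000000000000000000000000000000000000000000000) (.cD (nat_lit 256) (.kc (nat_lit 144) (nat_lit 0x5001001)) (.cD (nat_lit 272) (.kc (nat_lit 128) (nat_lit 0x7001001)) (.cD (nat_lit 320) (.kF (nat_lit 320) (nat_lit 0x11001004001004002002)) (.cD (nat_lit 336) (.kF (nat_lit 336) (nat_lit 0x11001004001004002002)) (.cD (nat_lit 384) (.dfs (nat_lit 64) (nat_lit 4100) (nat_lit 4100) (nat_lit 0x1002001) (nat_lit 0x1002001) (nat_lit 0) (nat_lit 0) (nat_lit 3) (nat_lit 0) (nat_lit 0) (nat_lit 0) (nat_lit 1) (nat_lit 0) (nat_lit 1) (nat_lit 0) (nat_lit 1) (nat_lit 0x10001000000000001000100000000000100010000000000010000) (.cD (nat_lit 16) (.kc (nat_lit 80) (nat_lit 0x5001001)) (.cD (nat_lit 64) (.kA true (nat_lit 0x801002800100400400a00b008002002)) (.cD (nat_lit 80) (.dfs (nat_lit 7) (nat_lit 4101) (nat_lit 4107) (nat_lit 1) (nat_lit 1) (nat_lit 1) (nat_lit 0) (nat_lit 1) (nat_lit 4160) (nat_lit 0x1000800400200100080c4052081)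 (nat_lit 0) (nat_lit 1) (nat_lit 0) (nat_lit 1) (nat_lit 0) (nat_lit 1) (nat_lit 0) .nil) (.cD (nat_lit 128) (.kc (nat_lit 208) (nat_lit 0xb001001)) (.cD (nat_lit 144) (.kc (nat_lit 192) (nat_lit 0xf001001)) (.cD (nat_lit 192) (.kA true (nat_lit 0x801003800100400400a001008002002)) (.cD (nat_lit 208) (.kA true (nat_lit 0x801003000100400400a005008002002)) .nil)))))))) (.cD (nat_lit 400) (.dfs (nat_lit 64) (nat_lit 4100) (nat_lit 4100) (nat_lit 0x1002001) (nat_lit 0x1002001) (nat_lit 0) (nat_lit 0) (nat_lit 3) (nat_lit 0) (nat_lit 0) (nat_lit 0) (nat_lit 1) (nat_lit 0) (nat_lit 1) (nat_lit 0) (nat_lit 1) (nat_lit 0x10001000000000001000100000000000100010000000000010000) (.cD (nat_lit 16) (.kc (nat_lit 80) (nat_lit 0x5001001)) (.cD (nat_lit 64) (.dfs (nat_lit 7) (nat_lit 0x100400e00f008) (nat_lit 0x100a00e00f008) (nat_lit 0x1002001) (nat_lit 0x100c001) (nat_lit 1) (nat_lit 0) (nat_lit 2) (nat_lit 1) (nat_lit 0) (nat_lit 32) (nat_lit 1) (nat_lit 0) (nat_lit 1) (nat_lit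 0) (nat_lit 1) (nat_lit 0) .nil) (.cD (nat_lit 80) (.kA true (nat_lit 0x801802800100400400e00b008002002)) (.cD (nat_lit 128) (.kc (nat_lit 192) (nat_lit 0xf001001)) (.cD (nat_lit 144) (.kc (nat_lit 208) (nat_lit 0xb001001)) (.cD (nat_lit 192) (.kA true (nat_lit 0x801803800100400400e001008002002)) (.cD (nat_lit 208) (.kA true (nat_lit 0x801803000100400400e005008002002)) .nil)))))))) (.cD (nat_lit 448) (.kF (nat_lit 448) (nat_lit 0x11001004001004002002)) (.cD (nat_lit 464) (.kF (nat_lit 464) (nat_lit 0x11001004001004002002)) .nil))))))))) (.cD (nat_lit 32) (.dfs (nat_lit 58) (nat_lit 4098) (nat_lit 4098) (nat_lit 4097) (nat_lit 4097) (nat_lit 0) (nat_lit 0) (nat_lit 3) (nat_lit 0) (nat_lit 0) (nat_lit 0) (nat_lit 1) (nat_lit 0) (nat_lit 1) (nat_lit 0) (nat_lit 1) (nat_lit 0x1000000010000000100000001000000010000000100000001000000010000000000000000000000000000000000000000000000000000000000000000) (.cD (nat_lit 256) (.kc (nat_lit 144) (nat_lit 0x5001001)) (.cD (nat_lit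 288) (.kc (nat_lit 128) (nat_lit 0x7001001)) (.cD (nat_lit 320) (.kF (nat_lit 320) (nat_lit 0x11001004001004002002)) (.cD (nat_lit 352) (.kF (nat_lit 352) (nat_lit 0x11001004001004002002)) (.cD (nat_lit 384) (.kF (nat_lit 32) (nat_lit 0xc40040000020010010c4004000002004002004)) (.cD (nat_lit 416) (.kF (nat_lit 32) (nat_lit 0xc40040000020030011c2102000002004002004)) (.cD (nat_lit 448) (.kF (nat_lit 448) (nat_lit 0x11001004001004002002)) (.cD (nat_lit 480) (.kF (nat_lit 480) (nat_lit 0x11001004001004002002)) .nil))))))))) (.cD (nat_lit 64) (.kF (nat_lit 64) (nat_lit 0x8001004001002002002)) (.cD (nat_lit 80) (.kF (nat_lit 80) (nat_lit 0x8001004001002002002)) (.cD (nat_lit 96) (.kF (nat_lit 96) (nat_lit 0x8001004001002002002)) (.cD (nat_lit 128) (.dfs (nat_lit 58) (nat_lit 4098) (nat_lit 4098) (nat_lit 4097) (nat_lit 4097) (nat_lit 0) (nat_lit 0) (nat_lit 3) (nat_lit 0) (nat_lit 0) (nat_lit 0) (nat_lit 1) (nat_lit 0) (nat_lit 0x1020010) (nat_lit 0x20010) (nat_lit 0x1001110000120001150000160)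 (nat_lit 0x10000000000000001000000010001000100000001000100010000000000000000000000000000000000000000000000000000000000000000) (.cD (nat_lit 256) (.kc (nat_lit 144) (nat_lit 0x5001001)) (.cD (nat_lit 272) (.dfs (nat_lit 64) (nat_lit 4100) (nat_lit 4100) (nat_lit 0x1002001) (nat_lit 0x1002001) (nat_lit 0) (nat_lit 0) (nat_lit 3) (nat_lit 0) (nat_lit 0) (nat_lit 0) (nat_lit 1) (nat_lit 0) (nat_lit 1) (nat_lit 0) (nat_lit 1) (nat_lit 0x10001000000000001000100000000000100010000000000010000) (.cD (nat_lit 16) (.kc (nat_lit 208) (nat_lit 0xb001001)) (.cD (nat_lit 64) (.kA true (nat_lit 0x1000803000100400a004005008002002)) (.cD (nat_lit 80) (.dfs (nat_lit 7) (nat_lit 4100) (nat_lit 4106) (nat_lit 1) (nat_lit 1) (nat_lit 1) (nat_lit 0) (nat_lit 1) (nat_lit 4224) (nat_lit 0x1000800400200100080c4052081) (nat_lit 0) (nat_lit 1) (nat_lit 0) (nat_lit 1) (nat_lit 0) (nat_lit 1) (nat_lit 0) .nil) (.cD (nat_lit 128) (.kc (nat_lit 80) (nat_lit 0x5001001)) (.cD (nat_lit 144) (.kc (nat_lit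 192) (nat_lit 0xf001001)) (.cD (nat_lit 192) (.kA true (nat_lit 0x1000803800100400a004001008002002)) (.cD (nat_lit 208) (.kA true (nat_lit 0x1000802800100400a00400b008002002)) .nil)))))))) (.cD (nat_lit 288) (.kF (nat_lit 128) (nat_lit 0xc40040000050060010e9101000002004002004)) (.cD (nat_lit 320) (.kF (nat_lit 320) (nat_lit 0x11001004001004002002)) (.cD (nat_lit 336) (.kF (nat_lit 336) (nat_lit 0x11001004001004002002)) (.cD (nat_lit 352) (.kF (nat_lit 352) (nat_lit 0x11001004001004002002)) (.cD (nat_lit 384) (.kc (nat_lit 128) (nat_lit 0x7001001)) (.cD (nat_lit 448) (.kF (nat_lit 448) (nat_lit 0x11001004001004002002)) .nil))))))))) (.cD (nat_lit 192) (.kF (nat_lit 192) (nat_lit 0x8001004001002002002)) .nil))))))))))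
theorem c476 : (chk [] [] p476).n x263 s476 = true := by decide +kernel
noncomputable def p477 : Pf := (.anc (nat_lit 42) (nat_lit 0x1002001) (nat_lit 0x100704003a010) (.czp (nat_lit 256) (nat_lit 0) (nat_lit 0x1100080040020010) z7 (.dfs (nat_lit 16) (nat_lit 4097) (nat_lit 4097) (nat_lit 1) (nat_lit 1) (nat_lit 0) (nat_lit 0) (nat_lit 3) (nat_lit 0) (nat_lit 0) (nat_lit 0) (nat_lit 1) (nat_lit 0) (nat_lit 0x1020010) (nat_lit 0x20010) (nat_lit 0x1001010000020001050000060) (nat_lit 0x1000000000000000100000001000100010000000100010000) (.cD (nat_lit 16) (.dfs (nat_lit 58) (nat_lit 4098) (nat_lit 4098) (nat_lit 4097) (nat_lit 4097) (nat_lit 0) (nat_lit 0) (nat_lit 3) (nat_lit 0) (nat_lit 0) (nat_lit 0) (nat_lit 1) (nat_lit 0) (nat_lit 1) (nat_lit 0) (nat_lit 1) (nat_lit 0x100010000000000010001000000000001000100000000000100010000000000000000000000000000000000000000000000000000000000000000) (.cD (nat_lit 256) (.kc (nat_lit 144) (nat_lit 0x5001001)) (.cD (nat_lit 272) (.kc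 (nat_lit 128) (nat_lit 0x7001001)) (.cD (nat_lit 320) (.kF (nat_lit 320) (nat_lit 0x11001004001004002002)) (.cD (nat_lit 336) (.kF (nat_lit 336) (nat_lit 0x11001004001004002002)) (.cD (nat_lit 384) (.dfs (nat_lit 64) (nat_lit 4100) (nat_lit 4100) (nat_lit 0x1002001) (nat_lit 0x1002001) (nat_lit 0) (nat_lit 0) (nat_lit 3) (nat_lit 0) (nat_lit 0) (nat_lit 0) (nat_lit 1) (nat_lit 0) (nat_lit 1) (nat_lit 0) (nat_lit 1) (nat_lit 0x10001000000000001000100000000000100010000000000010000) (.cD (nat_lit 16) (.kc (nat_lit 80) (nat_lit 0x5001001)) (.cD (nat_lit 64) (.kA true (nat_lit 0x801002800100400400a00b008002002)) (.cD (nat_lit 80) (.dfs (nat_lit 7) (nat_lit 4101) (nat_lit 4107) (nat_lit 1) (nat_lit 1) (nat_lit 1) (nat_lit 0) (nat_lit 1) (nat_lit 4160) (nat_lit 0x1000800400200100080c4052081) (nat_lit 0) (nat_lit 1) (nat_lit 0) (nat_lit 1) (nat_lit 0) (nat_lit 1) (nat_lit 0) .nil) (.cD (nat_lit 128) (.kc (nat_lit 208) (nat_lit 0xb001001)) (.cD (nat_lit 144) (.kc (nat_lit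 192) (nat_lit 0xf001001)) (.cD (nat_lit 192) (.kA true (nat_lit 0x801003800100400400a001008002002)) (.cD (nat_lit 208) (.kA true (nat_lit 0x801003000100400400a005008002002)) .nil)))))))) (.cD (nat_lit 400) (.dfs (nat_lit 64) (nat_lit 4100) (nat_lit 4100) (nat_lit 0x1002001) (nat_lit 0x1002001) (nat_lit 0) (nat_lit 0) (nat_lit 3) (nat_lit 0) (nat_lit 0) (nat_lit 0) (nat_lit 1) (nat_lit 0) (nat_lit 1) (nat_lit 0) (nat_lit 1) (nat_lit 0x10001000000000001000100000000000100010000000000010000) (.cD (nat_lit 16) (.kc (nat_lit 80) (nat_lit 0x5001001)) (.cD (nat_lit 64) (.dfs (nat_lit 7) (nat_lit 0x100400e00f008) (nat_lit 0x100a00e00f008) (nat_lit 0x1002001) (nat_lit 0x100c001) (nat_lit 1) (nat_lit 0) (nat_lit 2) (nat_lit 1) (nat_lit 0) (nat_lit 32) (nat_lit 1) (nat_lit 0) (nat_lit 1) (nat_lit 0) (nat_lit 1) (nat_lit 0) .nil) (.cD (nat_lit 80) (.kA true (nat_lit 0x801802800100400400e00b008002002)) (.cD (nat_lit 128) (.kc (nat_lit 192) (nat_lit 0xf001001)) (.cD (nat_lit 144)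 (.kc (nat_lit 208) (nat_lit 0xb001001)) (.cD (nat_lit 192) (.kA true (nat_lit 0x801803800100400400e001008002002)) (.cD (nat_lit 208) (.kA true (nat_lit 0x801803000100400400e005008002002)) .nil)))))))) (.cD (nat_lit 448) (.kF (nat_lit 448) (nat_lit 0x11001004001004002002)) (.cD (nat_lit 464) (.kF (nat_lit 464) (nat_lit 0x11001004001004002002)) .nil))))))))) (.cD (nat_lit 32) (.dfs (nat_lit 58) (nat_lit 4098) (nat_lit 4098) (nat_lit 4097) (nat_lit 4097) (nat_lit 0) (nat_lit 0) (nat_lit 3) (nat_lit 0) (nat_lit 0) (nat_lit 0) (nat_lit 1) (nat_lit 0) (nat_lit 1) (nat_lit 0) (nat_lit 1) (nat_lit 0x1000000010000000100000001000000010000000100000001000000010000000000000000000000000000000000000000000000000000000000000000) (.cD (nat_lit 256) (.kc (nat_lit 144) (nat_lit 0x5001001)) (.cD (nat_lit 288) (.kc (nat_lit 128) (nat_lit 0x7001001)) (.cD (nat_lit 320) (.kF (nat_lit 320) (nat_lit 0x11001004001004002002)) (.cD (nat_lit 352) (.kF (nat_lit 352) (nat_lit 0x11001004001004002002))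 (.cD (nat_lit 384) (.kF (nat_lit 32) (nat_lit 0xc40040000020010010c4004000002004002004)) (.cD (nat_lit 416) (.kF (nat_lit 32) (nat_lit 0xc40040000020030011c2102000002004002004)) (.cD (nat_lit 448) (.kF (nat_lit 448) (nat_lit 0x11001004001004002002)) (.cD (nat_lit 480) (.kF (nat_lit 480) (nat_lit 0x11001004001004002002)) .nil))))))))) (.cD (nat_lit 64) (.kF (nat_lit 64) (nat_lit 0x8001004001002002002)) (.cD (nat_lit 80) (.kF (nat_lit 80) (nat_lit 0x8001004001002002002)) (.cD (nat_lit 96) (.kF (nat_lit 96) (nat_lit 0x8001004001002002002)) (.cD (nat_lit 128) (.dfs (nat_lit 58) (nat_lit 4098) (nat_lit 4098) (nat_lit 4097) (nat_lit 4097) (nat_lit 0) (nat_lit 0) (nat_lit 3) (nat_lit 0) (nat_lit 0) (nat_lit 0) (nat_lit 1) (nat_lit 0) (nat_lit 0x1020010) (nat_lit 0x20010) (nat_lit 0x1001110000120001150000160) (nat_lit 0x10000000000000001000000010001000100000001000100010000000000000000000000000000000000000000000000000000000000000000) (.cD (nat_lit 256) (.kc (nat_lit 144) (nat_lit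 0x5001001)) (.cD (nat_lit 272) (.dfs (nat_lit 64) (nat_lit 4100) (nat_lit 4100) (nat_lit 0x1002001) (nat_lit 0x1002001) (nat_lit 0) (nat_lit 0) (nat_lit 3) (nat_lit 0) (nat_lit 0) (nat_lit 0) (nat_lit 1) (nat_lit 0) (nat_lit 1) (nat_lit 0) (nat_lit 1) (nat_lit 0x10001000000000001000100000000000100010000000000010000) (.cD (nat_lit 16) (.kc (nat_lit 208) (nat_lit 0xb001001)) (.cD (nat_lit 64) (.kA true (nat_lit 0x1000803000100400a004005008002002)) (.cD (nat_lit 80) (.dfs (nat_lit 7) (nat_lit 4100) (nat_lit 4106) (nat_lit 1) (nat_lit 1) (nat_lit 1) (nat_lit 0) (nat_lit 1) (nat_lit 4224) (nat_lit 0x1000800400200100080c4052081) (nat_lit 0) (nat_lit 1) (nat_lit 0) (nat_lit 1) (nat_lit 0) (nat_lit 1) (nat_lit 0) .nil) (.cD (nat_lit 128) (.kc (nat_lit 80) (nat_lit 0x5001001)) (.cD (nat_lit 144) (.kc (nat_lit 192) (nat_lit 0xf001001)) (.cD (nat_lit 192) (.kA true (nat_lit 0x1000803800100400a004001008002002)) (.cD (nat_lit 208) (.kA true (nat_lit 0x1000802800100400a00400b008002002))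 .nil)))))))) (.cD (nat_lit 288) (.kF (nat_lit 128) (nat_lit 0xc40040000050060010e9101000002004002004)) (.cD (nat_lit 320) (.kF (nat_lit 320) (nat_lit 0x11001004001004002002)) (.cD (nat_lit 336) (.kF (nat_lit 336) (nat_lit 0x11001004001004002002)) (.cD (nat_lit 352) (.kF (nat_lit 352) (nat_lit 0x11001004001004002002)) (.cD (nat_lit 384) (.kc (nat_lit 128) (nat_lit 0x7001001)) (.cD (nat_lit 448) (.kF (nat_lit 448) (nat_lit 0x11001004001004002002)) .nil))))))))) (.cD (nat_lit 192) (.kF (nat_lit 192) (nat_lit 0x8001004001002002002)) .nil))))))))))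
theorem c477 : (chk [] [] p477).n x264 s477 = true := by decide +kernel
noncomputable def p478 : Pf := (.ext (nat_lit 0) (nat_lit 0) (nat_lit 0x1100040080020008) (nat_lit 0x1400800400a019001052002000002) (nat_lit 0x400e008014) (nat_lit 4117) (nat_lit 4117) (nat_lit 0x700800400201e) (.dfs (nat_lit 21) (nat_lit 0x100400e008014) (nat_lit 0x100400e008003) (nat_lit 0x1010002001) (nat_lit 0x100700201e) (nat_lit 27) (nat_lit 0) (nat_lit 2) (nat_lit 0) (nat_lit 0) (nat_lit 21) (nat_lit 1) (nat_lit 0) (nat_lit 1) (nat_lit 0) (nat_lit 1) (nat_lit 0) .nil))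
theorem c478 : (chk [] [] p478).n x265 s478 = true := by decide +kernel
noncomputable def p479 : Pf := (.anc (nat_lit 42) (nat_lit 0x1002001) (nat_lit 0x100704003a010) (.czp (nat_lit 256) (nat_lit 0) (nat_lit 0x1100080040020010) z7 (.dfs (nat_lit 16) (nat_lit 4097) (nat_lit 4097) (nat_lit 1) (nat_lit 1) (nat_lit 0) (nat_lit 0) (nat_lit 3) (nat_lit 0) (nat_lit 0) (nat_lit 0) (nat_lit 1) (nat_lit 0) (nat_lit 0x1020010) (nat_lit 0x20010) (nat_lit 0x1001010000020001050000060) (nat_lit 0x1000000000000000100000001000100010000000100010000) (.cD (nat_lit 16) (.dfs (nat_lit 58) (nat_lit 4098) (nat_lit 4098) (nat_lit 4097) (nat_lit 4097) (nat_lit 0) (nat_lit 0) (nat_lit 3) (nat_lit 0) (nat_lit 0) (nat_lit 0) (nat_lit 1) (nat_lit 0) (nat_lit 1) (nat_lit 0) (nat_lit 1) (nat_lit 0x100010000000000010001000000000001000100000000000100010000000000000000000000000000000000000000000000000000000000000000) (.cD (nat_lit 256) (.kc (nat_lit 144) (nat_lit 0x5001001)) (.cD (nat_lit 272) (.kc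 (nat_lit 128) (nat_lit 0x7001001)) (.cD (nat_lit 320) (.kF (nat_lit 320) (nat_lit 0x11001004001004002002)) (.cD (nat_lit 336) (.kF (nat_lit 336) (nat_lit 0x11001004001004002002)) (.cD (nat_lit 384) (.dfs (nat_lit 64) (nat_lit 4100) (nat_lit 4100) (nat_lit 0x1002001) (nat_lit 0x1002001) (nat_lit 0) (nat_lit 0) (nat_lit 3) (nat_lit 0) (nat_lit 0) (nat_lit 0) (nat_lit 1) (nat_lit 0) (nat_lit 1) (nat_lit 0) (nat_lit 1) (nat_lit 0x10001000000000001000100000000000100010000000000010000) (.cD (nat_lit 16) (.kc (nat_lit 80) (nat_lit 0x5001001)) (.cD (nat_lit 64) (.kA true (nat_lit 0x801002800100400400a00b008002002)) (.cD (nat_lit 80) (.dfs (nat_lit 7) (nat_lit 4101) (nat_lit 4107) (nat_lit 1) (nat_lit 1) (nat_lit 0) (nat_lit 0) (nat_lit 1) (nat_lit 4160) (nat_lit 0x1000800400200100080c40520c1) (nat_lit 0) (nat_lit 1) (nat_lit 0) (nat_lit 1) (nat_lit 0) (nat_lit 1) (nat_lit 0) .nil) (.cD (nat_lit 128) (.kc (nat_lit 208) (nat_lit 0xb001001)) (.cD (nat_lit 144) (.kc (nat_lit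 192) (nat_lit 0xf001001)) (.cD (nat_lit 192) (.kA true (nat_lit 0x801003800100400400a001008002002)) (.cD (nat_lit 208) (.kA true (nat_lit 0x801003000100400400a005008002002)) .nil)))))))) (.cD (nat_lit 400) (.dfs (nat_lit 64) (nat_lit 4100) (nat_lit 4100) (nat_lit 0x1002001) (nat_lit 0x1002001) (nat_lit 0) (nat_lit 0) (nat_lit 3) (nat_lit 0) (nat_lit 0) (nat_lit 0) (nat_lit 1) (nat_lit 0) (nat_lit 1) (nat_lit 0) (nat_lit 1) (nat_lit 0x10001000000000001000100000000000100010000000000010000) (.cD (nat_lit 16) (.kc (nat_lit 80) (nat_lit 0x5001001)) (.cD (nat_lit 64) (.dfs (nat_lit 7) (nat_lit 0x100400e00f008) (nat_lit 0x100a00e00f008) (nat_lit 0x1002001) (nat_lit 0x100c001) (nat_lit 0) (nat_lit 0) (nat_lit 2) (nat_lit 1) (nat_lit 0) (nat_lit 32) (nat_lit 1) (nat_lit 0) (nat_lit 4112) (nat_lit 16) (nat_lit 0x1000020000060) (nat_lit 0x1000000000000000100000000) (.cD (nat_lit 32) (.kb (nat_lit 45) (nat_lit 0x2052000040006011001003) (nat_lit 0x10800400301141fe007)) (.cD (nat_lit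 96) (.kb (nat_lit 109) (nat_lit 0x2052000040006013001003) (nat_lit 0x10800400301141fe007)) .nil))) (.cD (nat_lit 80) (.kA true (nat_lit 0x801802800100400400e00b008002002)) (.cD (nat_lit 128) (.kc (nat_lit 192) (nat_lit 0xf001001)) (.cD (nat_lit 144) (.kc (nat_lit 208) (nat_lit 0xb001001)) (.cD (nat_lit 192) (.kA true (nat_lit 0x801803800100400400e001008002002)) (.cD (nat_lit 208) (.kA true (nat_lit 0x801803000100400400e005008002002)) .nil)))))))) (.cD (nat_lit 448) (.kF (nat_lit 448) (nat_lit 0x11001004001004002002)) (.cD (nat_lit 464) (.kF (nat_lit 464) (nat_lit 0x11001004001004002002)) .nil))))))))) (.cD (nat_lit 32) (.dfs (nat_lit 58) (nat_lit 4098) (nat_lit 4098) (nat_lit 4097) (nat_lit 4097) (nat_lit 0) (nat_lit 0) (nat_lit 3) (nat_lit 0) (nat_lit 0) (nat_lit 0) (nat_lit 1) (nat_lit 0) (nat_lit 1) (nat_lit 0) (nat_lit 1) (nat_lit 0x1000000010000000100000001000000010000000100000001000000010000000000000000000000000000000000000000000000000000000000000000) (.cD (nat_lit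 256) (.kc (nat_lit 144) (nat_lit 0x5001001)) (.cD (nat_lit 288) (.kc (nat_lit 128) (nat_lit 0x7001001)) (.cD (nat_lit 320) (.kF (nat_lit 320) (nat_lit 0x11001004001004002002)) (.cD (nat_lit 352) (.kF (nat_lit 352) (nat_lit 0x11001004001004002002)) (.cD (nat_lit 384) (.kF (nat_lit 32) (nat_lit 0xc40040000020010010c4004000002004002004)) (.cD (nat_lit 416) (.kF (nat_lit 32) (nat_lit 0xc40040000020030011c2102000002004002004)) (.cD (nat_lit 448) (.kF (nat_lit 448) (nat_lit 0x11001004001004002002)) (.cD (nat_lit 480) (.kF (nat_lit 480) (nat_lit 0x11001004001004002002)) .nil))))))))) (.cD (nat_lit 64) (.kF (nat_lit 64) (nat_lit 0x8001004001002002002)) (.cD (nat_lit 80) (.kF (nat_lit 80) (nat_lit 0x8001004001002002002)) (.cD (nat_lit 96) (.kF (nat_lit 96) (nat_lit 0x8001004001002002002)) (.cD (nat_lit 128) (.dfs (nat_lit 58) (nat_lit 4098) (nat_lit 4098) (nat_lit 4097) (nat_lit 4097) (nat_lit 0) (nat_lit 0) (nat_lit 3) (nat_lit 0) (nat_lit 0) (nat_lit 0) (nat_lit 1) (nat_lit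 0) (nat_lit 0x1020010) (nat_lit 0x20010) (nat_lit 0x1001110000120001150000160) (nat_lit 0x10000000000000001000000010001000100000001000100010000000000000000000000000000000000000000000000000000000000000000) (.cD (nat_lit 256) (.kc (nat_lit 144) (nat_lit 0x5001001)) (.cD (nat_lit 272) (.dfs (nat_lit 64) (nat_lit 4100) (nat_lit 4100) (nat_lit 0x1002001) (nat_lit 0x1002001) (nat_lit 0) (nat_lit 0) (nat_lit 3) (nat_lit 0) (nat_lit 0) (nat_lit 0) (nat_lit 1) (nat_lit 0) (nat_lit 1) (nat_lit 0) (nat_lit 1) (nat_lit 0x10001000000000001000100000000000100010000000000010000) (.cD (nat_lit 16) (.kc (nat_lit 208) (nat_lit 0xb001001)) (.cD (nat_lit 64) (.kA true (nat_lit 0x1000803000100400a004005008002002)) (.cD (nat_lit 80) (.dfs (nat_lit 7) (nat_lit 4100) (nat_lit 4106) (nat_lit 1) (nat_lit 1) (nat_lit 0) (nat_lit 0) (nat_lit 1) (nat_lit 4224) (nat_lit 0x1000800400200100080c40520c1) (nat_lit 0) (nat_lit 1) (nat_lit 0) (nat_lit 1) (nat_lit 0) (nat_lit 1) (nat_lit 0) .nil) (.cD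 (nat_lit 128) (.kc (nat_lit 80) (nat_lit 0x5001001)) (.cD (nat_lit 144) (.kc (nat_lit 192) (nat_lit 0xf001001)) (.cD (nat_lit 192) (.kA true (nat_lit 0x1000803800100400a004001008002002)) (.cD (nat_lit 208) (.kA true (nat_lit 0x1000802800100400a00400b008002002)) .nil)))))))) (.cD (nat_lit 288) (.kF (nat_lit 128) (nat_lit 0xc40040000050060010a9101000002004002004)) (.cD (nat_lit 320) (.kF (nat_lit 320) (nat_lit 0x11001004001004002002)) (.cD (nat_lit 336) (.kF (nat_lit 336) (nat_lit 0x11001004001004002002)) (.cD (nat_lit 352) (.kF (nat_lit 352) (nat_lit 0x11001004001004002002)) (.cD (nat_lit 384) (.kc (nat_lit 128) (nat_lit 0x7001001)) (.cD (nat_lit 448) (.kF (nat_lit 448) (nat_lit 0x11001004001004002002)) .nil))))))))) (.cD (nat_lit 192) (.kF (nat_lit 192) (nat_lit 0x8001004001002002002)) .nil))))))))))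
theorem c479 : (chk [] [] p479).n x266 s479 = true := by decide +kernel
noncomputable def p480 : Pf := (.lft (nat_lit 0x80020040010002004008001005001) (nat_lit 0) (nat_lit 0x10e80e00c80c00a80a0088080) (nat_lit 0x80040020010008004062029) (.extn a32 (nat_lit 0x80040020010008004002001) (nat_lit 0x1010040020080) (nat_lit 2) (nat_lit 0) (nat_lit 0) (nat_lit 0) (nat_lit 0x1000000010000000100000001) (.cE (nat_lit 0) b80 (nat_lit 0) (.iso x250 s457 (nat_lit 0) (nat_lit 0x1100080040020010008004002001) (nat_lit 0x100080040020010008004002001) [(nat_lit 0x40020010008004002001005001)] (.cut (nat_lit 0))) (.iso x251 s458 (nat_lit 0) (nat_lit 0x1100080040020010008004002001) (nat_lit 0x100080040020010008004002001) [(nat_lit 0x40020010008004002001005001)] (.cut (nat_lit 1))) (.cE (nat_lit 32) b81 (nat_lit 0) (.cut (nat_lit 2)) (.iso x262 s475 (nat_lit 1) (nat_lit 0x1100080040020010008004002001) (nat_lit 0x100080040020010008004002001) [(nat_lit 0x40020010008004002001005001), (nat_lit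 0x40020010008004002001009001)] (.cut (nat_lit 3))) (.cE (nat_lit 64) b86 (nat_lit 0) (.iso x263 s476 (nat_lit 2) (nat_lit 0x1100080040020010008004002001) (nat_lit 0x100080040020010008004002001) [(nat_lit 0x40020010008004002001005001)] (.cut (nat_lit 4))) (.iso x264 s477 (nat_lit 2) (nat_lit 0x1100080040020010008004002001) (nat_lit 0x100080040020010008004002001) [(nat_lit 0x40020010008004002001005001)] (.cut (nat_lit 5))) (.cE (nat_lit 96) b87 (nat_lit 0) (.iso x265 s478 (nat_lit 3) (nat_lit 0x1100080040020010008004002001) (nat_lit 0x100080040020010008004002001) [(nat_lit 0x1000800400200100b001)] (.cut (nat_lit 6))) (.iso x266 s479 (nat_lit 3) (nat_lit 0x1100080040020010008004002001) (nat_lit 0x100080040020010008004002001) [(nat_lit 0x40020010008004002001005001), (nat_lit 0x40020010008004002001009001)] (.cut (nat_lit 7))) .nil))))))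
theorem c480 : (chk [(x250, s457), (x251, s458), (x252, s474), (x262, s475), (x263, s476), (x264, s477), (x265, s478), (x266, s479)] [g80, g81, g86, g87] p480).n x218 s480 = true := by decide +kernel
noncomputable def p481 : Pf := (.ext (nat_lit 1) (nat_lit 0x20040080100001001) (nat_lit 0x1200180100020004008050) (nat_lit 0xf4080060040178028024001001020010018002074070003002) (nat_lit 0x1800802007f) (nat_lit 4099) (nat_lit 4651) (nat_lit 0x7f02001000803c02e02d) (.dfs (nat_lit 3) (nat_lit 0x1008010020040) (nat_lit 0x100801002007f) (nat_lit 0x1004002001) (nat_lit 0x103c02e02d) (nat_lit 56) (nat_lit 0) (nat_lit 2) (nat_lit 1) (nat_lit 0x8010020040001001) (nat_lit 517) (nat_lit 1) (nat_lit 0) (nat_lit 1) (nat_lit 0) (nat_lit 1) (nat_lit 0) .nil))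
theorem c481 : (chk [] [] p481).n x267 s481 = true := by decide +kernel
noncomputable def p482 : Pf := (.ext (nat_lit 1) (nat_lit 0x20040080100001001) (nat_lit 0x1200180100020004008050) (nat_lit 0xf4080060040178028024001001020010018002074070003002) (nat_lit 0x1800802007f) (nat_lit 4099) (nat_lit 4651) (nat_lit 0x7f02001000803c02e02d) (.dfs (nat_lit 3) (nat_lit 0x1008010020040) (nat_lit 0x100801002007f) (nat_lit 0x1004002001) (nat_lit 0x103c02e02d) (nat_lit 56) (nat_lit 0) (nat_lit 2) (nat_lit 1) (nat_lit 0x8010020040001001) (nat_lit 517) (nat_lit 1) (nat_lit 0) (nat_lit 1) (nat_lit 0) (nat_lit 1) (nat_lit 0) .nil))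
theorem c482 : (chk [] [] p482).n x268 s482 = true := by decide +kernel
noncomputable def p483 : Pf := (.ext (nat_lit 1) (nat_lit 0) (nat_lit 0x1200180100020004008050) (nat_lit 0x1020010018002074070001001) (nat_lit 0x1800802007f) (nat_lit 4099) (nat_lit 4121) (nat_lit 0x7f02001000803c02e02d) (.dfs (nat_lit 3) (nat_lit 0x101800802007f) (nat_lit 0x1018008020040) (nat_lit 0x1040010004002001) (nat_lit 0x107f01003c02e02d) (nat_lit 8) (nat_lit 0) (nat_lit 2) (nat_lit 1) (nat_lit 0) (nat_lit 25) (nat_lit 1) (nat_lit 0) (nat_lit 1) (nat_lit 0) (nat_lit 1) (nat_lit 0) .nil))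
theorem c483 : (chk [] [] p483).n x269 s483 = true := by decide +kernel
noncomputable def p484 : Pf := (.ext (nat_lit 1) (nat_lit 0) (nat_lit 0x1200180100020004008050) (nat_lit 0x1020010018002074070001001) (nat_lit 0x1800802007f) (nat_lit 4099) (nat_lit 4121) (nat_lit 0x7f02001000803c02e02d) (.dfs (nat_lit 3) (nat_lit 0x101800802007f) (nat_lit 0x1018008020040) (nat_lit 0x1040010004002001) (nat_lit 0x107f01003c02e02d) (nat_lit 8) (nat_lit 0) (nat_lit 2) (nat_lit 1) (nat_lit 0) (nat_lit 25) (nat_lit 1) (nat_lit 0) (nat_lit 1) (nat_lit 0) (nat_lit 1) (nat_lit 0) .nil))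
theorem c484 : (chk [] [] p484).n x270 s484 = true := by decide +kernel
noncomputable def p485 : Pf := (.ext (nat_lit 1) (nat_lit 0) (nat_lit 0x1200180100020004008050) (nat_lit 0x1020010018002074070001001) (nat_lit 0x1800802007f) (nat_lit 4099) (nat_lit 4121) (nat_lit 0x7f02001000803c02e02d) (.dfs (nat_lit 3) (nat_lit 0x101800802007f) (nat_lit 0x1018008020040) (nat_lit 0x1040010004002001) (nat_lit 0x107f01003c02e02d) (nat_lit 40) (nat_lit 0) (nat_lit 2) (nat_lit 1) (nat_lit 0) (nat_lit 25) (nat_lit 1) (nat_lit 0) (nat_lit 1) (nat_lit 0) (nat_lit 1) (nat_lit 0) .nil))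
theorem c485 : (chk [] [] p485).n x271 s485 = true := by decide +kernel
noncomputable def p486 : Pf := (.ext (nat_lit 1) (nat_lit 0) (nat_lit 0x1200180100020004008050) (nat_lit 0x1020010018002074070001001) (nat_lit 0x1800802007f) (nat_lit 4099) (nat_lit 4121) (nat_lit 0x7f02001000803c02e02d) (.dfs (nat_lit 3) (nat_lit 0x101800802007f) (nat_lit 0x1018008020040) (nat_lit 0x1040010004002001) (nat_lit 0x107f01003c02e02d) (nat_lit 40) (nat_lit 0) (nat_lit 2) (nat_lit 1) (nat_lit 0) (nat_lit 25) (nat_lit 1) (nat_lit 0) (nat_lit 1) (nat_lit 0) (nat_lit 1) (nat_lit 0) .nil))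
theorem c486 : (chk [] [] p486).n x272 s486 = true := by decide +kernel
noncomputable def p487 : Pf := (.ext (nat_lit 1) (nat_lit 0) (nat_lit 0x102e1001800582ce3a6286) (nat_lit 0x1020010018002074070003100080040020010008004002002) (nat_lit 0x1800802007f) (nat_lit 4099) (nat_lit 4630) (nat_lit 0x2d02001000803705c07f) (.dfs (nat_lit 3) (nat_lit 0x101800802007f) (nat_lit 0x1018008020021) (nat_lit 0x1040010004002001) (nat_lit 0x102d01003705c07f) (nat_lit 3) (nat_lit 0) (nat_lit 2) (nat_lit 1) (nat_lit 0) (nat_lit 534) (nat_lit 1) (nat_lit 0) (nat_lit 1) (nat_lit 0) (nat_lit 1) (nat_lit 0) .nil))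
theorem c487 : (chk [] [] p487).n x273 s487 = true := by decide +kernel
noncomputable def p488 : Pf := (.ext (nat_lit 1) (nat_lit 0) (nat_lit 0x102e1001800582ce3a6286) (nat_lit 0x1020010018002074070003100080040020010008004002002) (nat_lit 0x1800802007f) (nat_lit 4099) (nat_lit 4630) (nat_lit 0x2d02001000803705c07f) (.dfs (nat_lit 3) (nat_lit 0x101800802007f) (nat_lit 0x1018008020021) (nat_lit 0x1040010004002001) (nat_lit 0x102d01003705c07f) (nat_lit 3) (nat_lit 0) (nat_lit 2) (nat_lit 1) (nat_lit 0) (nat_lit 534) (nat_lit 1) (nat_lit 0) (nat_lit 1) (nat_lit 0) (nat_lit 1) (nat_lit 0) .nil))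
theorem c488 : (chk [] [] p488).n x274 s488 = true := by decide +kernel
noncomputable def p489 : Pf := (.lft (nat_lit 0x4f0c008010e0341b707b1ad0560031000400c0005020001008010002001002) (nat_lit 13) (nat_lit 0x11d01c01901801501401101000f80e80b80a8078068038028) (nat_lit 0x1000800400200100080c4052041) (.extn a33 (nat_lit 0x100080040020010008004002001) (nat_lit 0x1020080040100) (nat_lit 2) (nat_lit 0) (nat_lit 0) (nat_lit 5) (nat_lit 0x2000000000000000200000000000000020000000000000002000) (.cE (nat_lit 13) b82 (nat_lit 0) (.cut (nat_lit 0)) (.cut (nat_lit 1)) (.cE (nat_lit 77) b83 (nat_lit 0) (.cut (nat_lit 2)) (.cut (nat_lit 3)) (.cE (nat_lit 141) b84 (nat_lit 0) (.cut (nat_lit 4)) (.cut (nat_lit 5)) (.cE (nat_lit 205) b85 (nat_lit 0) (.cut (nat_lit 6)) (.cut (nat_lit 7)) .nil))))))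
theorem c489 : (chk [(x267, s481), (x268, s482), (x269, s483), (x270, s484), (x271, s485), (x272, s486), (x273, s487), (x274, s488)] [] p489).n x252 s489 = true := by decide +kernel
noncomputable def p490 : Pf := (.ext (nat_lit 1) (nat_lit 0x20400c0100001001) (nat_lit 0x11000c0080010002004028) (nat_lit 0x1b70c00400421b30450b100105202001801001603d039005041001000001020010018002074070005004) (nat_lit 0x1801002001d) (nat_lit 0x1008001) (nat_lit 0x111201c) (nat_lit 0x7002001001807e00200103102001001806d073070) (.dfs (nat_lit 1) (nat_lit 0x1008010020040) (nat_lit 0x1018010020031) (nat_lit 0x1004002001) (nat_lit 0x106d073070) (nat_lit 48) (nat_lit 0) (nat_lit 2) (nat_lit 1) (nat_lit 0x8010020040001001) (nat_lit 11) (nat_lit 1) (nat_lit 0) (nat_lit 4140) (nat_lit 44) (nat_lit 0x100001c00005c) (nat_lit 0x100000000000000010000000) (.cD (nat_lit 28) (.dfs (nat_lit 8) (nat_lit 0x10770400600e9) (nat_lit 0x10f504006008f) (nat_lit 0x1080020010008004002001) (nat_lit 0x10e00200300fc0040020e3)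 (nat_lit 0) (nat_lit 0) (nat_lit 2) (nat_lit 0) (nat_lit 0) (nat_lit 10) (nat_lit 1) (nat_lit 0) (nat_lit 1) (nat_lit 0) (nat_lit 1) (nat_lit 0x40000000000000004000000000000000400000000000000040000000000000000000000000000000000000000000000000000000000000000000000000000000) (.cD (nat_lit 318) (.kS (nat_lit 0) (nat_lit 0x2e0800c001a002041001000002) (nat_lit 0x111317e05c) (nat_lit 0xe004002005010008004006001028010008029037024) (nat_lit 0x50400c01c00080011c600112104900002e0800c001a13213c0e9001003)) (.cD (nat_lit 382) (.kA false (nat_lit 0x2e0800c01d20010c50400c0004001029101000003)) (.cD (nat_lit 446) (.kA false (nat_lit 0xae0800c01d20010c50400c0004001029101000003)) (.cD (nat_lit 510) (.cut (nat_lit 0)) .nil))))) (.cD (nat_lit 92) (.dfs (nat_lit 8) (nat_lit 0x1017040060089) (nat_lit 0x10950400600ef) (nat_lit 0x1080020010008004002001) (nat_lit 0x10e00200300fc0040020e3) (nat_lit 0) (nat_lit 0) (nat_lit 2) (nat_lit 0) (nat_lit 0) (nat_lit 10) (nat_lit 1) (nat_lit 0) (nat_lit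 1) (nat_lit 0) (nat_lit 1) (nat_lit 0x40000000000000004000000000000000400000000000000040000000000000000000000000000000000000000000000000000000000000000000000000000000) (.cD (nat_lit 318) (.kA false (nat_lit 0xee0800c01120010c50400c00c4001041001000003)) (.cD (nat_lit 382) (.kS (nat_lit 1) (nat_lit 0xc0800400c10010020400c0100003002) (nat_lit 0x102c1c4058) (nat_lit 0x800400200301000800400e00103001000800d002019) (nat_lit 0x202001801d00802e05c00604100100000c0800400c10201080f8002003)) (.cD (nat_lit 446) (.kS (nat_lit 0) (nat_lit 0xee0800c00da002041001000002) (nat_lit 0x115317e09c) (nat_lit 0xe004002005010008004006001028010008029037024) (nat_lit 0x450400c01000080410420010910510000ee0800c00da1f213c069001003)) (.cD (nat_lit 510) (.kA false (nat_lit 0x6e0800c01120010c50400c00c4001041001000003)) .nil))))) .nil))))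
theorem c490 : (chk [(x252, s489)] [] p490).n x252 s490 = true := by decide +kernel
noncomputable def p491 : Pf := (.ext (nat_lit 0) (nat_lit 0) (nat_lit 0x1100040080020008001004010) (nat_lit 0x80040020010008002001027001001) (nat_lit 0x50060040048) (nat_lit 4098) (nat_lit 4131) (nat_lit 0xa10400200f30ca0fc043001) (.dfs (nat_lit 2) (nat_lit 0x1050060040048) (nat_lit 0x10b306004008a) (nat_lit 0x1080020010008004002001) (nat_lit 0x10a10200f30ca0fc043001) (nat_lit 65) (nat_lit 0) (nat_lit 2) (nat_lit 0) (nat_lit 0) (nat_lit 27) (nat_lit 1) (nat_lit 0) (nat_lit 1) (nat_lit 0) (nat_lit 1) (nat_lit 0x800000000000000080000000000000008000000000000000800000000) (.cD (nat_lit 35) (.cut (nat_lit 0)) (.cD (nat_lit 99) (.iso x252 s490 (nat_lit 0) (nat_lit 0x1100080040020010008004002041) (nat_lit 0x100080040020010008004002041) [(nat_lit 0x100080040020010088004002001001001), (nat_lit 0x40020010008004002001005001), (nat_lit 0x40020010008004002001007001)] (.cut (nat_lit 0))) (.cD (nat_lit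 163) (.kS (nat_lit 0) (nat_lit 0x20040080100001001) (nat_lit 0x11b01400010ec0a3) (nat_lit 0xe0040020050100080040060010280100080290370240600200100080040220210f904002005102903c0f6001) (nat_lit 0xa00c00800901621800080f4119002020040080100004010008002001002002)) (.cD (nat_lit 227) (.kS (nat_lit 0) (nat_lit 0x20040080100001001) (nat_lit 0x11b01400010ec0e3) (nat_lit 0xe0040020050100080040060010280100080290370240600200100080040220210f904002005102903c0f6001) (nat_lit 0xa00c00800901621800080f4199002020040080100004010008002001002002)) .nil))))))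
theorem c491 : (chk [(x252, s490)] [g81] p491).n x252 s491 = true := by decide +kernel
noncomputable def p492 : Pf := (.ext (nat_lit 0) (nat_lit 0) (nat_lit 0x1100040080020008015) (nat_lit 0x12010018014030033002041001000020010008004002001001003) (nat_lit 0x14018010012) (nat_lit 0x1004001) (nat_lit 0x1110001) (nat_lit 0x2801000801c00202f016010008014024027) (.dfs (nat_lit 1) (nat_lit 0x1014018010012) (nat_lit 0x1004018010034) (nat_lit 0x1020008004002001) (nat_lit 0x1016008014024027) (nat_lit 16) (nat_lit 0) (nat_lit 2) (nat_lit 0) (nat_lit 0) (nat_lit 1) (nat_lit 1) (nat_lit 0) (nat_lit 4128) (nat_lit 32) (nat_lit 0x1000001000081) (nat_lit 0x200000000000000000000000000000002) (.cD (nat_lit 1) (.dfs (nat_lit 4) (nat_lit 0x1028030020024) (nat_lit 0x1018030020024) (nat_lit 0x1040010008004002001) (nat_lit 0x105001003800405e07d) (nat_lit 48) (nat_lit 0) (nat_lit 2) (nat_lit 0) (nat_lit 0) (nat_lit 16) (nat_lit 1) (nat_lit 0) (nat_lit 1) (nat_lit 0) (nat_lit 1) (nat_lit 0x10000000000000001000000000000000100000000000000010000000000000000000000000000000000000000000000000000000000000000000000000000)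 (.cD (nat_lit 304) (.kA false (nat_lit 0x280300200480090b6020040087001052002000003)) (.cD (nat_lit 368) (.kA false (nat_lit 0x280300200480090f6060040071002052002000003)) (.cD (nat_lit 432) (.cut (nat_lit 0)) (.cD (nat_lit 496) (.kA true (nat_lit 0x6701003001700a052002000027020060080001003)) .nil))))) (.cD (nat_lit 129) (.dfs (nat_lit 4) (nat_lit 0x1028030020024) (nat_lit 0x1018030020024) (nat_lit 0x1040010008004002001) (nat_lit 0x105001003800405e07d) (nat_lit 48) (nat_lit 0) (nat_lit 2) (nat_lit 0) (nat_lit 0) (nat_lit 16) (nat_lit 1) (nat_lit 0) (nat_lit 1) (nat_lit 0) (nat_lit 1) (nat_lit 0x10000000000000001000000000000000100000000000000010000000000000000000000000000000000000000000000000000000000000000000000000000) (.cD (nat_lit 304) (.kA false (nat_lit 0x7a01002001700a0d60600400890021bb003000003)) (.cD (nat_lit 368) (.kA false (nat_lit 0x18030020048009096060040071002052002000003)) (.cD (nat_lit 432) (.kA true (nat_lit 0x59060020048001027020060080001002)) (.cD (nat_lit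 496) (.kA true (nat_lit 0x19060020048001027020060080001002)) .nil))))) .nil))))
theorem c492 : (chk [(x252, s491)] [] p492).n x252 s492 = true := by decide +kernel
noncomputable def p493 : Pf := (.ext (nat_lit 0) (nat_lit 0) (nat_lit 0x1100040080020008) (nat_lit 0x1400800400a019007052002000002) (nat_lit 0x400e008014) (nat_lit 4117) (nat_lit 4117) (nat_lit 0x700800400201e) (.dfs (nat_lit 21) (nat_lit 0x100400e008014) (nat_lit 0x100400e008003) (nat_lit 0x1010002001) (nat_lit 0x100700201e) (nat_lit 31) (nat_lit 0) (nat_lit 2) (nat_lit 0) (nat_lit 0) (nat_lit 21) (nat_lit 1) (nat_lit 0) (nat_lit 1) (nat_lit 0) (nat_lit 1) (nat_lit 0x20000000200000002000000020000000200000002000000020000000200000) (.cD (nat_lit 21) (.cut (nat_lit 0)) (.cD (nat_lit 53) (.kS (nat_lit 0) (nat_lit 0x401c0100340020c4004000002) (nat_lit 0x10481bd) (nat_lit 0x800400200301000800401901e) (nat_lit 0xc40040000040080100200020010010040c400000401c010034012027001004)) (.cD (nat_lit 85) (.kS (nat_lit 0)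 (nat_lit 0x801c010038002008008000002) (nat_lit 0x104817d) (nat_lit 0x800400200301000800401901e) (nat_lit 0x1c00401002401201100100400801002000200100100800800000801c01003801203f001004)) (.cD (nat_lit 117) (.kS (nat_lit 0) (nat_lit 0x401c0100340020c4004000002) (nat_lit 0x10481fd) (nat_lit 0x800400200301000800401901e) (nat_lit 0xc40040000040080100200020010010040c400000401c010034012037001004)) (.cD (nat_lit 149) (.kS (nat_lit 0) (nat_lit 0x401c0100340020c4004000002) (nat_lit 0x10481dd) (nat_lit 0x800400200301000800401901e) (nat_lit 0xc40040000040080100200020010010040c400000401c010034012033001004)) (.cD (nat_lit 181) (.iso x252 s492 (nat_lit 0) (nat_lit 0x1100080040020010008004002081) (nat_lit 0x100080040020010008004002081) [(nat_lit 0x20010008004002009001001), (nat_lit 0x40020010008004002001003001), (nat_lit 0x40020010008004002001005001), (nat_lit 0x40020010008004002001007001)] (.cut (nat_lit 0))) (.cD (nat_lit 213) (.kS (nat_lit 0) (nat_lit 0x401c0100340020c4004000002)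 (nat_lit 0x104819d) (nat_lit 0x800400200301000800401901e) (nat_lit 0xc40040000040080100200020010010040c400000401c010034012023001004)) (.cD (nat_lit 245) (.kS (nat_lit 0) (nat_lit 0x801c010038002008008000002) (nat_lit 0x104811d) (nat_lit 0x800400200301000800401901e) (nat_lit 0x1c00401002401201d00100400801002000200100100800800000801c01003801202b001004)) .nil))))))))))
theorem c493 : (chk [(x252, s492)] [g81] p493).n x252 s493 = true := by decide +kernel
noncomputable def p494 : Pf := (.lft (nat_lit 0x80020040010002004008001005001) (nat_lit 0) (nat_lit 0x10e80e00c80c00a80a0088080) (nat_lit 0x80040020010008004062029) (.extn a32 (nat_lit 0x80040020010008004002001) (nat_lit 0x1010040020080) (nat_lit 2) (nat_lit 0) (nat_lit 0) (nat_lit 0) (nat_lit 0x1000000010000000100000001) (.cE (nat_lit 0) b80 (nat_lit 0) (.cut (nat_lit 0)) (.cut (nat_lit 1)) (.cE (nat_lit 32) b81 (nat_lit 0) (.cut (nat_lit 2)) (.cut (nat_lit 3)) (.cE (nat_lit 64) b86 (nat_lit 0) (.cut (nat_lit 4)) (.cut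 (nat_lit 5)) (.cE (nat_lit 96) b87 (nat_lit 0) (.cut (nat_lit 6)) (.cut (nat_lit 7)) .nil))))))
theorem c494 : (chk [(x250, s457), (x251, s458), (x252, s493), (x262, s475), (x263, s476), (x264, s477), (x265, s478), (x266, s479)] [] p494).n x218 s494 = true := by decide +kernel
noncomputable def p495 : Pf := (.ext (nat_lit 1) (nat_lit 0x18010020001001001) (nat_lit 0x10720400160760fc048) (nat_lit 0x2702001800807900400208006002000200101c00404002001000805b02400206b030057047035049006004) (nat_lit 0xc00401002f) (nat_lit 4099) (nat_lit 4100) (nat_lit 0x3b010004008012001) (.dfs (nat_lit 3) (nat_lit 0x100c00401002f) (nat_lit 0x100c008010038) (nat_lit 0x1020008002001) (nat_lit 0x103b004012001) (nat_lit 12) (nat_lit 0) (nat_lit 2) (nat_lit 1) (nat_lit 0x18010020001003001) (nat_lit 4) (nat_lit 1) (nat_lit 0) (nat_lit 4104) (nat_lit 8) (nat_lit 0x100000c00002c) (nat_lit 0x100000001000) (.cD (nat_lit 12) (.iso x218 s494 (nat_lit 0) (nat_lit 0x1080040020010008004002001) (nat_lit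 0x80040020010008004002001) [(nat_lit 0x40020010008004002001001001), (nat_lit 0x40020010008004002001003001), (nat_lit 0x80040020010008004002001005001), (nat_lit 0x40020010008004002001007001), (nat_lit 0x10008004002001009001)] (.cut (nat_lit 1))) (.cD (nat_lit 44) (.cut (nat_lit 0)) .nil))))
theorem c495 : (chk [(x218, s480), (x218, s494)] [g79] p495).n x218 s495 = true := by decide +kernel
noncomputable def p496 : Pf := (.ext (nat_lit 1) (nat_lit 0x2020060080001001) (nat_lit 0x1034060040048016) (nat_lit 0x8006000202207c00101000800400200900704801003007904700306b030010057079003004) (nat_lit 0x4006008010) (nat_lit 0x1080001) (nat_lit 0x1015083) (nat_lit 0x1c00800400200901a008004002001) (.dfs (nat_lit 1) (nat_lit 0x1004006008010) (nat_lit 0x100400600801a) (nat_lit 0x1002001) (nat_lit 0x1002001) (nat_lit 10) (nat_lit 0) (nat_lit 2) (nat_lit 1) (nat_lit 0x2020060080003001) (nat_lit 131) (nat_lit 1) (nat_lit 0) (nat_lit 1) (nat_lit 0) (nat_lit 1) (nat_lit 0x80800000808000008080000080800000000000000000000000000000000)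 (.cD (nat_lit 131) (.dfs (nat_lit 128) (nat_lit 0x100800c010020) (nat_lit 0x100800c010038) (nat_lit 0x1004002001) (nat_lit 0x1004012005) (nat_lit 0) (nat_lit 0) (nat_lit 2) (nat_lit 1) (nat_lit 0x2020060080003001) (nat_lit 1) (nat_lit 1) (nat_lit 0) (nat_lit 1) (nat_lit 0) (nat_lit 1) (nat_lit 0x20200000202000002020000020200000) (.cD (nat_lit 21) (.kS (nat_lit 1) (nat_lit 0x10010000008018020007002002) (nat_lit 4348) (nat_lit 0x800400200d) (nat_lit 0x8010020021057001066006000008018020007079001010010000004)) (.cD (nat_lit 29) (.kS (nat_lit 1) (nat_lit 0x1000802007a001018010020001001002) (nat_lit 4276) (nat_lit 0x800400200d) (nat_lit 0x2900100000801802001706900201801002000100200201000802007a06f002004)) (.cD (nat_lit 53) (.kS (nat_lit 1) (nat_lit 0x801802002f002029001000002) (nat_lit 4244) (nat_lit 0x800400200d) (nat_lit 0x1000802004206f00101801002000100200100102900000801802002f041001004)) (.cD (nat_lit 61) (.kS (nat_lit 1) (nat_lit 0x8018020037002062002000002) (nat_lit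 4340) (nat_lit 0x800400200d) (nat_lit 0x1000802004a06f001018010020001002001002062000008018020037061001004)) (.cD (nat_lit 85) (.kS (nat_lit 1) (nat_lit 0x801802000f002029001000002) (nat_lit 4340) (nat_lit 0x800400200d) (nat_lit 0x1000802006206f00101801002000100200100102900000801802000f061001004)) (.cD (nat_lit 93) (.kS (nat_lit 1) (nat_lit 0x8018020017002062002000002) (nat_lit 4244) (nat_lit 0x800400200d) (nat_lit 0x1000802006a06f001018010020001002001002062000008018020017041001004)) (.cD (nat_lit 117) (.kS (nat_lit 1) (nat_lit 0x10010000008018020027002002) (nat_lit 4252) (nat_lit 0x800400200d) (nat_lit 0x8010020021057001066006000008018020027059001010010000004)) (.cD (nat_lit 125) (.kS (nat_lit 1) (nat_lit 0x1000802005a001018010020001001002) (nat_lit 4308) (nat_lit 0x800400200d) (nat_lit 0x2900100000801802003704900201801002000100200201000802005a06f002004)) .nil))))))))) (.cD (nat_lit 139) (.dfs (nat_lit 128) (nat_lit 0x100800c010020) (nat_lit 0x100800c010038) (nat_lit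 0x1004002001) (nat_lit 0x1004012005) (nat_lit 0) (nat_lit 0) (nat_lit 2) (nat_lit 1) (nat_lit 0x2020060080003001) (nat_lit 1) (nat_lit 1) (nat_lit 0) (nat_lit 1) (nat_lit 0) (nat_lit 1) (nat_lit 0x20200000202000002020000020200000) (.cD (nat_lit 21) (.kS (nat_lit 1) (nat_lit 0x801802001f002029001000002) (nat_lit 4284) (nat_lit 0x800400200d) (nat_lit 0x1000802007207700101801002000100200100102900000801802001f079001004)) (.cD (nat_lit 29) (.kS (nat_lit 1) (nat_lit 0x8018020007002062002000002) (nat_lit 4316) (nat_lit 0x800400200d) (nat_lit 0x1000802007a077001018010020001002001002062000008018020007059001004)) (.cD (nat_lit 53) (.kS (nat_lit 1) (nat_lit 0x10010000008018020037002002) (nat_lit 4244) (nat_lit 0x800400200d) (nat_lit 0x8010020021057001066006000008018020037041001010010000004)) (.cD (nat_lit 61) (.kS (nat_lit 1) (nat_lit 0x1000802004a001018010020001001002) (nat_lit 4252) (nat_lit 0x800400200d) (nat_lit 0x2900100000801802002705100201801002000100200201000802004a077002004))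 (.cD (nat_lit 85) (.kS (nat_lit 1) (nat_lit 0x10010000008018020017002002) (nat_lit 4340) (nat_lit 0x800400200d) (nat_lit 0x8010020021057001066006000008018020017061001010010000004)) (.cD (nat_lit 93) (.kS (nat_lit 1) (nat_lit 0x1000802006a001018010020001001002) (nat_lit 4348) (nat_lit 0x800400200d) (nat_lit 0x2900100000801802000707100201801002000100200201000802006a077002004)) (.cD (nat_lit 117) (.kS (nat_lit 1) (nat_lit 0x801802003f002029001000002) (nat_lit 4316) (nat_lit 0x800400200d) (nat_lit 0x1000802005207700101801002000100200100102900000801802003f059001004)) (.cD (nat_lit 125) (.kS (nat_lit 1) (nat_lit 0x8018020027002062002000002) (nat_lit 4284) (nat_lit 0x800400200d) (nat_lit 0x1000802005a077001018010020001002001002062000008018020027079001004)) .nil))))))))) (.cD (nat_lit 163) (.kS (nat_lit 1) (nat_lit 0x400c010020002004004000002020060080003003) (nat_lit 4201) (nat_lit 0x800400200b) (nat_lit 0x400400000400801002000100100400400000400c01002001d001004)) (.cD (nat_lit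 171) (.kS (nat_lit 1) (nat_lit 0x400c010020002004004000002020060080003003) (nat_lit 4129) (nat_lit 0x800400200b) (nat_lit 0x400400000400801002000100100400400000400c010020019001004)) (.cD (nat_lit 195) (.kS (nat_lit 1) (nat_lit 0x400c010020002004004000002020060080003003) (nat_lit 4105) (nat_lit 0x800400200b) (nat_lit 0x400400000400801002000100100400400000400c01002000d001004)) (.cD (nat_lit 203) (.kS (nat_lit 1) (nat_lit 0x400c010020002004004000002020060080003003) (nat_lit 4161) (nat_lit 0x800400200b) (nat_lit 0x400400000400801002000100100400400000400c010020009001004)) (.cD (nat_lit 227) (.dfs (nat_lit 128) (nat_lit 0x100800c010020) (nat_lit 0x100800c010038) (nat_lit 0x1004002001) (nat_lit 0x1004012005) (nat_lit 0) (nat_lit 0) (nat_lit 2) (nat_lit 1) (nat_lit 0x2020060080003001) (nat_lit 1) (nat_lit 1) (nat_lit 0) (nat_lit 1) (nat_lit 0) (nat_lit 1) (nat_lit 0x20200000202000002020000020200000) (.cD (nat_lit 21) (.cut (nat_lit 0)) (.cD (nat_lit 29) (.kS (nat_lit 1) (nat_lit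 0x1000802007a001018010020001001002) (nat_lit 4276) (nat_lit 0x800400200d) (nat_lit 0x2900100000801802003706900201801002000100200201000802007a04f002004)) (.cD (nat_lit 53) (.kS (nat_lit 1) (nat_lit 0x801802000f002029001000002) (nat_lit 4244) (nat_lit 0x800400200d) (nat_lit 0x1000802004204f00101801002000100200100102900000801802000f041001004)) (.cD (nat_lit 61) (.kS (nat_lit 1) (nat_lit 0x8018020017002062002000002) (nat_lit 4340) (nat_lit 0x800400200d) (nat_lit 0x1000802004a04f001018010020001002001002062000008018020017061001004)) (.cD (nat_lit 85) (.kS (nat_lit 1) (nat_lit 0x801802002f002029001000002) (nat_lit 4340) (nat_lit 0x800400200d) (nat_lit 0x1000802006204f00101801002000100200100102900000801802002f061001004)) (.cD (nat_lit 93) (.kS (nat_lit 1) (nat_lit 0x8018020037002062002000002) (nat_lit 4244) (nat_lit 0x800400200d) (nat_lit 0x1000802006a04f001018010020001002001002062000008018020037041001004)) (.cD (nat_lit 117) (.iso x218 s495 (nat_lit 0) (nat_lit 0x1080040020010008004002061)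 (nat_lit 0x80040020010008004002061) [(nat_lit 0x40020010008004022001001001), (nat_lit 0x80040020010008004002061003001), (nat_lit 0x40020010008004002001005001), (nat_lit 0x10008004002001007001)] (.cut (nat_lit 0))) (.cD (nat_lit 125) (.kS (nat_lit 1) (nat_lit 0x1000802005a001018010020001001002) (nat_lit 4308) (nat_lit 0x800400200d) (nat_lit 0x2900100000801802001704900201801002000100200201000802005a04f002004)) .nil))))))))) (.cD (nat_lit 235) (.dfs (nat_lit 128) (nat_lit 0x100800c010020) (nat_lit 0x100800c010038) (nat_lit 0x1004002001) (nat_lit 0x1004012005) (nat_lit 0) (nat_lit 0) (nat_lit 2) (nat_lit 1) (nat_lit 0x2020060080003001) (nat_lit 1) (nat_lit 1) (nat_lit 0) (nat_lit 1) (nat_lit 0) (nat_lit 1) (nat_lit 0x20200000202000002020000020200000) (.cD (nat_lit 21) (.kS (nat_lit 1) (nat_lit 0x801802003f002029001000002) (nat_lit 4284) (nat_lit 0x800400200d) (nat_lit 0x1000802007205700101801002000100200100102900000801802003f079001004)) (.cD (nat_lit 29) (.kS (nat_lit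 1) (nat_lit 0x8018020027002062002000002) (nat_lit 4316) (nat_lit 0x800400200d) (nat_lit 0x1000802007a057001018010020001002001002062000008018020027059001004)) (.cD (nat_lit 53) (.iso x218 s495 (nat_lit 0) (nat_lit 0x1080040020010008004002021) (nat_lit 0x80040020010008004002021) [(nat_lit 0x40020010008004032001001001), (nat_lit 0x80040020010008004002041003001), (nat_lit 0x40020010008004002001005001), (nat_lit 0x10008004002001007001)] (.cut (nat_lit 0))) (.cD (nat_lit 61) (.kS (nat_lit 1) (nat_lit 0x1000802004a001018010020001001002) (nat_lit 4252) (nat_lit 0x800400200d) (nat_lit 0x2900100000801802000705100201801002000100200201000802004a057002004)) (.cD (nat_lit 85) (.iso x218 s495 (nat_lit 0) (nat_lit 0x1080040020010008004002041) (nat_lit 0x80040020010008004002041) [(nat_lit 0x40020010008004012001001001), (nat_lit 0x80040020010008004002021003001), (nat_lit 0x40020010008004002001005001), (nat_lit 0x10008004002001007001)] (.cut (nat_lit 0))) (.cD (nat_lit 93) (.kS (nat_lit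 1) (nat_lit 0x1000802006a001018010020001001002) (nat_lit 4348) (nat_lit 0x800400200d) (nat_lit 0x2900100000801802002707100201801002000100200201000802006a057002004)) (.cD (nat_lit 117) (.kS (nat_lit 1) (nat_lit 0x801802001f002029001000002) (nat_lit 4316) (nat_lit 0x800400200d) (nat_lit 0x1000802005205700101801002000100200100102900000801802001f059001004)) (.cD (nat_lit 125) (.kS (nat_lit 1) (nat_lit 0x8018020007002062002000002) (nat_lit 4284) (nat_lit 0x800400200d) (nat_lit 0x1000802005a057001018010020001002001002062000008018020007079001004)) .nil))))))))) .nil))))))))))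
theorem c496 : (chk [(x218, s495)] [g79] p496).n x218 s496 = true := by decide +kernel
noncomputable def p497 : Pf := (.ext (nat_lit 1) (nat_lit 0x47010030017005001) (nat_lit 0x109f0600080480bc016) (nat_lit 0x6b03005704700504900504002001000807b02400108006002000200101c003027020018008079004001004) (nat_lit 0x400c01002f) (nat_lit 4100) (nat_lit 4107) (nat_lit 0x3b010004008012001) (.dfs (nat_lit 4) (nat_lit 0x100400c01002f) (nat_lit 0x100800c010038) (nat_lit 0x1020008002001) (nat_lit 0x103b004012001) (nat_lit 0) (nat_lit 0) (nat_lit 2) (nat_lit 1) (nat_lit 0x47010030017007001) (nat_lit 11) (nat_lit 1) (nat_lit 0) (nat_lit 4150) (nat_lit 54) (nat_lit 0x100001d00003d) (nat_lit 0x2000000020000000) (.cD (nat_lit 29) (.kS (nat_lit 1) (nat_lit 0x18008020076001029001000018010020001003003) (nat_lit 0x10f803a) (nat_lit 0x8004002003010008004012015) (nat_lit 0x2002201800d0050330020a706d000018008020076074042002003)) (.cD (nat_lit 61) (.kS (nat_lit 1) (nat_lit 0x20002018039002062002000018010020001003003)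 (nat_lit 0x102c0ce) (nat_lit 0x8004002003010008004012015) (nat_lit 0x1801002007007206400100606600002000201803902903f001003)) .nil))))
theorem c497 : (chk [] [] p497).n x218 s497 = true := by decide +kernel
noncomputable def p498 : Pf := (.ext (nat_lit 1) (nat_lit 0x2020060080001001) (nat_lit 0x1034060040048016) (nat_lit 0x8006000202207c00101000800400200900504801003007904700306b030010057079003004) (nat_lit 0x4006008010) (nat_lit 0x1080001) (nat_lit 0x1015083) (nat_lit 0x1c00800400200901a008004002001) (.dfs (nat_lit 1) (nat_lit 0x1004006008010) (nat_lit 0x100400600801a) (nat_lit 0x1002001) (nat_lit 0x1002001) (nat_lit 10) (nat_lit 0) (nat_lit 2) (nat_lit 1) (nat_lit 0x2020060080003001) (nat_lit 131) (nat_lit 1) (nat_lit 0) (nat_lit 1) (nat_lit 0) (nat_lit 1) (nat_lit 0x80800000808000008080000080800000000000000000000000000000000) (.cD (nat_lit 131) (.dfs (nat_lit 128) (nat_lit 0x100800c010020) (nat_lit 0x100800c010038) (nat_lit 0x1004002001) (nat_lit 0x1004012005) (nat_lit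 0) (nat_lit 0) (nat_lit 2) (nat_lit 1) (nat_lit 0x2020060080003001) (nat_lit 1) (nat_lit 1) (nat_lit 0) (nat_lit 1) (nat_lit 0) (nat_lit 1) (nat_lit 0x20200000202000002020000020200000) (.cD (nat_lit 21) (.kS (nat_lit 1) (nat_lit 0x10010000008018020007002002) (nat_lit 4348) (nat_lit 0x800400200d) (nat_lit 0x8010020021057001066006000008018020007079001010010000004)) (.cD (nat_lit 29) (.kS (nat_lit 1) (nat_lit 0x1000802007a001018010020001001002) (nat_lit 4276) (nat_lit 0x800400200d) (nat_lit 0x2900100000801802001706900201801002000100200201000802007a06f002004)) (.cD (nat_lit 53) (.kS (nat_lit 1) (nat_lit 0x801802002f002029001000002) (nat_lit 4244) (nat_lit 0x800400200d) (nat_lit 0x1000802004206f00101801002000100200100102900000801802002f041001004)) (.cD (nat_lit 61) (.kS (nat_lit 1) (nat_lit 0x8018020037002062002000002) (nat_lit 4340) (nat_lit 0x800400200d) (nat_lit 0x1000802004a06f001018010020001002001002062000008018020037061001004)) (.cD (nat_lit 85) (.kS (nat_lit 1)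 (nat_lit 0x801802000f002029001000002) (nat_lit 4340) (nat_lit 0x800400200d) (nat_lit 0x1000802006206f00101801002000100200100102900000801802000f061001004)) (.cD (nat_lit 93) (.kS (nat_lit 1) (nat_lit 0x8018020017002062002000002) (nat_lit 4244) (nat_lit 0x800400200d) (nat_lit 0x1000802006a06f001018010020001002001002062000008018020017041001004)) (.cD (nat_lit 117) (.kS (nat_lit 1) (nat_lit 0x10010000008018020027002002) (nat_lit 4252) (nat_lit 0x800400200d) (nat_lit 0x8010020021057001066006000008018020027059001010010000004)) (.cD (nat_lit 125) (.kS (nat_lit 1) (nat_lit 0x1000802005a001018010020001001002) (nat_lit 4308) (nat_lit 0x800400200d) (nat_lit 0x2900100000801802003704900201801002000100200201000802005a06f002004)) .nil))))))))) (.cD (nat_lit 139) (.dfs (nat_lit 128) (nat_lit 0x100800c010020) (nat_lit 0x100800c010038) (nat_lit 0x1004002001) (nat_lit 0x1004012005) (nat_lit 0) (nat_lit 0) (nat_lit 2) (nat_lit 1) (nat_lit 0x2020060080003001) (nat_lit 1) (nat_lit 1) (nat_lit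 0) (nat_lit 1) (nat_lit 0) (nat_lit 1) (nat_lit 0x20200000202000002020000020200000) (.cD (nat_lit 21) (.kS (nat_lit 1) (nat_lit 0x801802001f002029001000002) (nat_lit 4284) (nat_lit 0x800400200d) (nat_lit 0x1000802007207700101801002000100200100102900000801802001f079001004)) (.cD (nat_lit 29) (.kS (nat_lit 1) (nat_lit 0x8018020007002062002000002) (nat_lit 4316) (nat_lit 0x800400200d) (nat_lit 0x1000802007a077001018010020001002001002062000008018020007059001004)) (.cD (nat_lit 53) (.kS (nat_lit 1) (nat_lit 0x10010000008018020037002002) (nat_lit 4244) (nat_lit 0x800400200d) (nat_lit 0x8010020021057001066006000008018020037041001010010000004)) (.cD (nat_lit 61) (.kS (nat_lit 1) (nat_lit 0x1000802004a001018010020001001002) (nat_lit 4252) (nat_lit 0x800400200d) (nat_lit 0x2900100000801802002705100201801002000100200201000802004a077002004)) (.cD (nat_lit 85) (.kS (nat_lit 1) (nat_lit 0x10010000008018020017002002) (nat_lit 4340) (nat_lit 0x800400200d) (nat_lit 0x8010020021057001066006000008018020017061001010010000004))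 (.cD (nat_lit 93) (.kS (nat_lit 1) (nat_lit 0x1000802006a001018010020001001002) (nat_lit 4348) (nat_lit 0x800400200d) (nat_lit 0x2900100000801802000707100201801002000100200201000802006a077002004)) (.cD (nat_lit 117) (.kS (nat_lit 1) (nat_lit 0x801802003f002029001000002) (nat_lit 4316) (nat_lit 0x800400200d) (nat_lit 0x1000802005207700101801002000100200100102900000801802003f059001004)) (.cD (nat_lit 125) (.kS (nat_lit 1) (nat_lit 0x8018020027002062002000002) (nat_lit 4284) (nat_lit 0x800400200d) (nat_lit 0x1000802005a077001018010020001002001002062000008018020027079001004)) .nil))))))))) (.cD (nat_lit 163) (.kS (nat_lit 1) (nat_lit 0x400c010020002004004000002020060080003003) (nat_lit 4201) (nat_lit 0x800400200b) (nat_lit 0x400400000400801002000100100400400000400c01002001d001004)) (.cD (nat_lit 171) (.kS (nat_lit 1) (nat_lit 0x400c010020002004004000002020060080003003) (nat_lit 4129) (nat_lit 0x800400200b) (nat_lit 0x400400000400801002000100100400400000400c010020019001004))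 (.cD (nat_lit 195) (.kS (nat_lit 1) (nat_lit 0x400c010020002004004000002020060080003003) (nat_lit 4105) (nat_lit 0x800400200b) (nat_lit 0x400400000400801002000100100400400000400c01002000d001004)) (.cD (nat_lit 203) (.kS (nat_lit 1) (nat_lit 0x400c010020002004004000002020060080003003) (nat_lit 4161) (nat_lit 0x800400200b) (nat_lit 0x400400000400801002000100100400400000400c010020009001004)) (.cD (nat_lit 227) (.dfs (nat_lit 128) (nat_lit 0x100800c010020) (nat_lit 0x100800c010038) (nat_lit 0x1004002001) (nat_lit 0x1004012005) (nat_lit 0) (nat_lit 0) (nat_lit 2) (nat_lit 1) (nat_lit 0x2020060080003001) (nat_lit 1) (nat_lit 1) (nat_lit 0) (nat_lit 1) (nat_lit 0) (nat_lit 1) (nat_lit 0x20200000202000002020000020200000) (.cD (nat_lit 21) (.cut (nat_lit 0)) (.cD (nat_lit 29) (.kS (nat_lit 1) (nat_lit 0x1000802007a001018010020001001002) (nat_lit 4276) (nat_lit 0x800400200d) (nat_lit 0x2900100000801802003706900201801002000100200201000802007a04f002004)) (.cD (nat_lit 53) (.kS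 (nat_lit 1) (nat_lit 0x801802000f002029001000002) (nat_lit 4244) (nat_lit 0x800400200d) (nat_lit 0x1000802004204f00101801002000100200100102900000801802000f041001004)) (.cD (nat_lit 61) (.kS (nat_lit 1) (nat_lit 0x8018020017002062002000002) (nat_lit 4340) (nat_lit 0x800400200d) (nat_lit 0x1000802004a04f001018010020001002001002062000008018020017061001004)) (.cD (nat_lit 85) (.kS (nat_lit 1) (nat_lit 0x801802002f002029001000002) (nat_lit 4340) (nat_lit 0x800400200d) (nat_lit 0x1000802006204f00101801002000100200100102900000801802002f061001004)) (.cD (nat_lit 93) (.kS (nat_lit 1) (nat_lit 0x8018020037002062002000002) (nat_lit 4244) (nat_lit 0x800400200d) (nat_lit 0x1000802006a04f001018010020001002001002062000008018020037041001004)) (.cD (nat_lit 117) (.iso x218 s497 (nat_lit 0) (nat_lit 0x1080040020010008004002061) (nat_lit 0x80040020010008004002061) [(nat_lit 0x40020010008004022001001001), (nat_lit 0x80040020010008004002061003001), (nat_lit 0x40020010008004002001005001)]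 (.cut (nat_lit 0))) (.cD (nat_lit 125) (.kS (nat_lit 1) (nat_lit 0x1000802005a001018010020001001002) (nat_lit 4308) (nat_lit 0x800400200d) (nat_lit 0x2900100000801802001704900201801002000100200201000802005a04f002004)) .nil))))))))) (.cD (nat_lit 235) (.dfs (nat_lit 128) (nat_lit 0x100800c010020) (nat_lit 0x100800c010038) (nat_lit 0x1004002001) (nat_lit 0x1004012005) (nat_lit 0) (nat_lit 0) (nat_lit 2) (nat_lit 1) (nat_lit 0x2020060080003001) (nat_lit 1) (nat_lit 1) (nat_lit 0) (nat_lit 1) (nat_lit 0) (nat_lit 1) (nat_lit 0x20200000202000002020000020200000) (.cD (nat_lit 21) (.kS (nat_lit 1) (nat_lit 0x801802003f002029001000002) (nat_lit 4284) (nat_lit 0x800400200d) (nat_lit 0x1000802007205700101801002000100200100102900000801802003f079001004)) (.cD (nat_lit 29) (.kS (nat_lit 1) (nat_lit 0x8018020027002062002000002) (nat_lit 4316) (nat_lit 0x800400200d) (nat_lit 0x1000802007a057001018010020001002001002062000008018020027059001004)) (.cD (nat_lit 53) (.iso x218 s497 (nat_lit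 0) (nat_lit 0x1080040020010008004002021) (nat_lit 0x80040020010008004002021) [(nat_lit 0x40020010008004032001001001), (nat_lit 0x80040020010008004002041003001), (nat_lit 0x40020010008004002001005001)] (.cut (nat_lit 0))) (.cD (nat_lit 61) (.kS (nat_lit 1) (nat_lit 0x1000802004a001018010020001001002) (nat_lit 4252) (nat_lit 0x800400200d) (nat_lit 0x2900100000801802000705100201801002000100200201000802004a057002004)) (.cD (nat_lit 85) (.iso x218 s497 (nat_lit 0) (nat_lit 0x1080040020010008004002041) (nat_lit 0x80040020010008004002041) [(nat_lit 0x40020010008004012001001001), (nat_lit 0x80040020010008004002021003001), (nat_lit 0x40020010008004002001005001)] (.cut (nat_lit 0))) (.cD (nat_lit 93) (.kS (nat_lit 1) (nat_lit 0x1000802006a001018010020001001002) (nat_lit 4348) (nat_lit 0x800400200d) (nat_lit 0x2900100000801802002707100201801002000100200201000802006a057002004)) (.cD (nat_lit 117) (.kS (nat_lit 1) (nat_lit 0x801802001f002029001000002) (nat_lit 4316) (nat_lit 0x800400200d)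 (nat_lit 0x1000802005205700101801002000100200100102900000801802001f059001004)) (.cD (nat_lit 125) (.kS (nat_lit 1) (nat_lit 0x8018020007002062002000002) (nat_lit 4284) (nat_lit 0x800400200d) (nat_lit 0x1000802005a057001018010020001002001002062000008018020007079001004)) .nil))))))))) .nil))))))))))
theorem c498 : (chk [(x218, s497)] [g79] p498).n x218 s498 = true := by decide +kernel
noncomputable def p499 : Pf := (.ext (nat_lit 1) (nat_lit 0x2020060080001001) (nat_lit 0x1034060040048016) (nat_lit 0x8006000202207c00101000800400200900504801003007904700306b030010057079003004) (nat_lit 0x4006008010) (nat_lit 0x1080001) (nat_lit 0x1015083) (nat_lit 0x1c00800400200901a008004002001) (.dfs (nat_lit 1) (nat_lit 0x1004006008010) (nat_lit 0x100400600801a) (nat_lit 0x1002001) (nat_lit 0x1002001) (nat_lit 10) (nat_lit 0) (nat_lit 2) (nat_lit 1) (nat_lit 0x2020060080003001) (nat_lit 131) (nat_lit 1) (nat_lit 0) (nat_lit 1) (nat_lit 0) (nat_lit 1) (nat_lit 0x80800000808000008080000080800000000000000000000000000000000)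 (.cD (nat_lit 131) (.dfs (nat_lit 128) (nat_lit 0x100800c010020) (nat_lit 0x100800c010038) (nat_lit 0x1004002001) (nat_lit 0x1004012005) (nat_lit 0) (nat_lit 0) (nat_lit 2) (nat_lit 1) (nat_lit 0x2020060080003001) (nat_lit 1) (nat_lit 1) (nat_lit 0) (nat_lit 1) (nat_lit 0) (nat_lit 1) (nat_lit 0x20200000202000002020000020200000) (.cD (nat_lit 21) (.kS (nat_lit 1) (nat_lit 0x10010000008018020007002002) (nat_lit 4348) (nat_lit 0x800400200d) (nat_lit 0x8010020021057001066006000008018020007079001010010000004)) (.cD (nat_lit 29) (.kS (nat_lit 1) (nat_lit 0x1000802007a001018010020001001002) (nat_lit 4276) (nat_lit 0x800400200d) (nat_lit 0x2900100000801802001706900201801002000100200201000802007a06f002004)) (.cD (nat_lit 53) (.kS (nat_lit 1) (nat_lit 0x801802002f002029001000002) (nat_lit 4244) (nat_lit 0x800400200d) (nat_lit 0x1000802004206f00101801002000100200100102900000801802002f041001004)) (.cD (nat_lit 61) (.kS (nat_lit 1) (nat_lit 0x8018020037002062002000002) (nat_lit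 4340) (nat_lit 0x800400200d) (nat_lit 0x1000802004a06f001018010020001002001002062000008018020037061001004)) (.cD (nat_lit 85) (.kS (nat_lit 1) (nat_lit 0x801802000f002029001000002) (nat_lit 4340) (nat_lit 0x800400200d) (nat_lit 0x1000802006206f00101801002000100200100102900000801802000f061001004)) (.cD (nat_lit 93) (.kS (nat_lit 1) (nat_lit 0x8018020017002062002000002) (nat_lit 4244) (nat_lit 0x800400200d) (nat_lit 0x1000802006a06f001018010020001002001002062000008018020017041001004)) (.cD (nat_lit 117) (.kS (nat_lit 1) (nat_lit 0x10010000008018020027002002) (nat_lit 4252) (nat_lit 0x800400200d) (nat_lit 0x8010020021057001066006000008018020027059001010010000004)) (.cD (nat_lit 125) (.kS (nat_lit 1) (nat_lit 0x1000802005a001018010020001001002) (nat_lit 4308) (nat_lit 0x800400200d) (nat_lit 0x2900100000801802003704900201801002000100200201000802005a06f002004)) .nil))))))))) (.cD (nat_lit 139) (.dfs (nat_lit 128) (nat_lit 0x100800c010020) (nat_lit 0x100800c010038) (nat_lit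 0x1004002001) (nat_lit 0x1004012005) (nat_lit 0) (nat_lit 0) (nat_lit 2) (nat_lit 1) (nat_lit 0x2020060080003001) (nat_lit 1) (nat_lit 1) (nat_lit 0) (nat_lit 1) (nat_lit 0) (nat_lit 1) (nat_lit 0x20200000202000002020000020200000) (.cD (nat_lit 21) (.kS (nat_lit 1) (nat_lit 0x801802001f002029001000002) (nat_lit 4284) (nat_lit 0x800400200d) (nat_lit 0x1000802007207700101801002000100200100102900000801802001f079001004)) (.cD (nat_lit 29) (.kS (nat_lit 1) (nat_lit 0x8018020007002062002000002) (nat_lit 4316) (nat_lit 0x800400200d) (nat_lit 0x1000802007a077001018010020001002001002062000008018020007059001004)) (.cD (nat_lit 53) (.kS (nat_lit 1) (nat_lit 0x10010000008018020037002002) (nat_lit 4244) (nat_lit 0x800400200d) (nat_lit 0x8010020021057001066006000008018020037041001010010000004)) (.cD (nat_lit 61) (.kS (nat_lit 1) (nat_lit 0x1000802004a001018010020001001002) (nat_lit 4252) (nat_lit 0x800400200d) (nat_lit 0x2900100000801802002705100201801002000100200201000802004a077002004))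 (.cD (nat_lit 85) (.kS (nat_lit 1) (nat_lit 0x10010000008018020017002002) (nat_lit 4340) (nat_lit 0x800400200d) (nat_lit 0x8010020021057001066006000008018020017061001010010000004)) (.cD (nat_lit 93) (.kS (nat_lit 1) (nat_lit 0x1000802006a001018010020001001002) (nat_lit 4348) (nat_lit 0x800400200d) (nat_lit 0x2900100000801802000707100201801002000100200201000802006a077002004)) (.cD (nat_lit 117) (.kS (nat_lit 1) (nat_lit 0x801802003f002029001000002) (nat_lit 4316) (nat_lit 0x800400200d) (nat_lit 0x1000802005207700101801002000100200100102900000801802003f059001004)) (.cD (nat_lit 125) (.kS (nat_lit 1) (nat_lit 0x8018020027002062002000002) (nat_lit 4284) (nat_lit 0x800400200d) (nat_lit 0x1000802005a077001018010020001002001002062000008018020027079001004)) .nil))))))))) (.cD (nat_lit 163) (.kS (nat_lit 1) (nat_lit 0x400c010020002004004000002020060080003003) (nat_lit 4201) (nat_lit 0x800400200b) (nat_lit 0x400400000400801002000100100400400000400c01002001d001004)) (.cD (nat_lit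 171) (.kS (nat_lit 1) (nat_lit 0x400c010020002004004000002020060080003003) (nat_lit 4129) (nat_lit 0x800400200b) (nat_lit 0x400400000400801002000100100400400000400c010020019001004)) (.cD (nat_lit 195) (.kS (nat_lit 1) (nat_lit 0x400c010020002004004000002020060080003003) (nat_lit 4105) (nat_lit 0x800400200b) (nat_lit 0x400400000400801002000100100400400000400c01002000d001004)) (.cD (nat_lit 203) (.kS (nat_lit 1) (nat_lit 0x400c010020002004004000002020060080003003) (nat_lit 4161) (nat_lit 0x800400200b) (nat_lit 0x400400000400801002000100100400400000400c010020009001004)) (.cD (nat_lit 227) (.dfs (nat_lit 128) (nat_lit 0x100800c010020) (nat_lit 0x100800c010038) (nat_lit 0x1004002001) (nat_lit 0x1004012005) (nat_lit 0) (nat_lit 0) (nat_lit 2) (nat_lit 1) (nat_lit 0x2020060080003001) (nat_lit 1) (nat_lit 1) (nat_lit 0) (nat_lit 1) (nat_lit 0) (nat_lit 1) (nat_lit 0x20200000202000002020000020200000) (.cD (nat_lit 21) (.kS (nat_lit 1) (nat_lit 0x20220600740030080100200580010020200600a2003029001000004)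 (nat_lit 4234) (nat_lit 0x800400200d) (nat_lit 0x1000802003f06b0010200020600dd06100301001802001f0220020a706d0000020200600a200100400801002005804b00200202206007408a004007)) (.cD (nat_lit 29) (.kS (nat_lit 1) (nat_lit 0x1000802007a001018010020001001002) (nat_lit 4276) (nat_lit 0x800400200d) (nat_lit 0x2900100000801802003706900201801002000100200201000802007a04f002004)) (.cD (nat_lit 53) (.kS (nat_lit 1) (nat_lit 0x801802000f002029001000002) (nat_lit 4244) (nat_lit 0x800400200d) (nat_lit 0x1000802004204f00101801002000100200100102900000801802000f041001004)) (.cD (nat_lit 61) (.kS (nat_lit 1) (nat_lit 0x8018020017002062002000002) (nat_lit 4340) (nat_lit 0x800400200d) (nat_lit 0x1000802004a04f001018010020001002001002062000008018020017061001004)) (.cD (nat_lit 85) (.kS (nat_lit 1) (nat_lit 0x801802002f002029001000002) (nat_lit 4340) (nat_lit 0x800400200d) (nat_lit 0x1000802006204f00101801002000100200100102900000801802002f061001004)) (.cD (nat_lit 93) (.kS (nat_lit 1) (nat_lit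 0x8018020037002062002000002) (nat_lit 4244) (nat_lit 0x800400200d) (nat_lit 0x1000802006a04f001018010020001002001002062000008018020037041001004)) (.cD (nat_lit 117) (.kS (nat_lit 1) (nat_lit 0x20220600740030080100200580010020200600a2003029001000004) (nat_lit 4330) (nat_lit 0x800400200d) (nat_lit 0x1000802001f06b0010200020600bd06100301001802003f0220020a706d0000020200600a200100400801002005804b0020020220600740ea004007)) (.cD (nat_lit 125) (.kS (nat_lit 1) (nat_lit 0x1000802005a001018010020001001002) (nat_lit 4308) (nat_lit 0x800400200d) (nat_lit 0x2900100000801802001704900201801002000100200201000802005a04f002004)) .nil))))))))) (.cD (nat_lit 235) (.dfs (nat_lit 128) (nat_lit 0x100800c010020) (nat_lit 0x100800c010038) (nat_lit 0x1004002001) (nat_lit 0x1004012005) (nat_lit 0) (nat_lit 0) (nat_lit 2) (nat_lit 1) (nat_lit 0x2020060080003001) (nat_lit 1) (nat_lit 1) (nat_lit 0) (nat_lit 1) (nat_lit 0) (nat_lit 1) (nat_lit 0x20200000202000002020000020200000) (.cD (nat_lit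 21) (.kS (nat_lit 1) (nat_lit 0x801802003f002029001000002) (nat_lit 4284) (nat_lit 0x800400200d) (nat_lit 0x1000802007205700101801002000100200100102900000801802003f079001004)) (.cD (nat_lit 29) (.kS (nat_lit 1) (nat_lit 0x8018020027002062002000002) (nat_lit 4316) (nat_lit 0x800400200d) (nat_lit 0x1000802007a057001018010020001002001002062000008018020027059001004)) (.cD (nat_lit 53) (.kS (nat_lit 1) (nat_lit 0x20220600740030080100200580010020200600a2003029001000004) (nat_lit 4322) (nat_lit 0x800400200d) (nat_lit 0x1000802000f07300102000206009d04300301001802002f02a0020a706d0000020200600a200100400801002005804b0020020220600740c8004007)) (.cD (nat_lit 61) (.kS (nat_lit 1) (nat_lit 0x1000802004a001018010020001001002) (nat_lit 4252) (nat_lit 0x800400200d) (nat_lit 0x2900100000801802000705100201801002000100200201000802004a057002004)) (.cD (nat_lit 85) (.kS (nat_lit 1) (nat_lit 0x20220600740030080100200580010020200600a2003029001000004) (nat_lit 4226) (nat_lit 0x800400200d)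 (nat_lit 0x1000802002f0730010200020600fd04300301001802000f02a0020a706d0000020200600a200100400801002005804b0020020220600740a8004007)) (.cD (nat_lit 93) (.kS (nat_lit 1) (nat_lit 0x1000802006a001018010020001001002) (nat_lit 4348) (nat_lit 0x800400200d) (nat_lit 0x2900100000801802002707100201801002000100200201000802006a057002004)) (.cD (nat_lit 117) (.kS (nat_lit 1) (nat_lit 0x801802001f002029001000002) (nat_lit 4316) (nat_lit 0x800400200d) (nat_lit 0x1000802005205700101801002000100200100102900000801802001f059001004)) (.cD (nat_lit 125) (.kS (nat_lit 1) (nat_lit 0x8018020007002062002000002) (nat_lit 4284) (nat_lit 0x800400200d) (nat_lit 0x1000802005a057001018010020001002001002062000008018020007079001004)) .nil))))))))) .nil))))))))))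
theorem c499 : (chk [] [] p499).n x218 s499 = true := by decide +kernel
noncomputable def p500 : Pf := (.ext (nat_lit 0) (nat_lit 0) (nat_lit 0x1080020040010002004008) (nat_lit 0x2402003002802f04004900101702001004a002001047001002) (nat_lit 0x2801002002a) (nat_lit 4097) (nat_lit 4245) (nat_lit 0x5102001007d025066001) (.dfs (nat_lit 1) (nat_lit 0x102801002002a) (nat_lit 0x105d01002000b) (nat_lit 0x1040008004002001) (nat_lit 0x105107d025066001) (nat_lit 33) (nat_lit 0) (nat_lit 2) (nat_lit 0) (nat_lit 0) (nat_lit 15) (nat_lit 1) (nat_lit 0) (nat_lit 1) (nat_lit 0) (nat_lit 1) (nat_lit 0x20000000200000002000000020000000000000000000000000000000000000) (.cD (nat_lit 149) (.iso x218 s499 (nat_lit 0) (nat_lit 0x1080040020010008004002001) (nat_lit 0x80040020010008004002001) [(nat_lit 0x80040020010008004002001001001), (nat_lit 0x40020010008004002001003001), (nat_lit 0x10008004002001007001)] (.cut (nat_lit 3))) (.cD (nat_lit 181) (.iso x218 s498 (nat_lit 0) (nat_lit 0x1080040020010008004002001)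 (nat_lit 0x80040020010008004002001) [(nat_lit 0x80040020010008004002001001001), (nat_lit 0x40020010008004002001003001), (nat_lit 0x10008004002001007001)] (.cut (nat_lit 2))) (.cD (nat_lit 213) (.cut (nat_lit 1)) (.cD (nat_lit 245) (.cut (nat_lit 0)) .nil))))))
theorem c500 : (chk [(x218, s456), (x218, s496), (x218, s498), (x218, s499)] [g79] p500).n x218 s500 = true := by decide +kernel
noncomputable def p501 : Pf := (.ext (nat_lit 1) (nat_lit 0x79030010048002001) (nat_lit 0x1080060040008) (nat_lit 0x48010079049002010008004002003002) (nat_lit 0x2003004008) (nat_lit 4097) (nat_lit 4234) (nat_lit 0xb004002001) (.dfs (nat_lit 1) (nat_lit 0x1001002004008) (nat_lit 0x100100200400b) (nat_lit 1) (nat_lit 1) (nat_lit 7) (nat_lit 0) (nat_lit 2) (nat_lit 1) (nat_lit 0x1002004008001001) (nat_lit 138) (nat_lit 1) (nat_lit 0) (nat_lit 1) (nat_lit 0) (nat_lit 1) (nat_lit 0) .nil))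
theorem c501 : (chk [] [] p501).n x245 s501 = true := by decide +kernel
noncomputable def p502 : Pf := (.ext (nat_lit 1) (nat_lit 0x79030010048002001) (nat_lit 0x1080060040008) (nat_lit 0x48010079049002010008004002003002) (nat_lit 0x2003004008) (nat_lit 4097) (nat_lit 4234) (nat_lit 0xb004002001) (.dfs (nat_lit 1) (nat_lit 0x1001002004008) (nat_lit 0x100100200400b) (nat_lit 1) (nat_lit 1) (nat_lit 3) (nat_lit 0) (nat_lit 2) (nat_lit 1) (nat_lit 0x1002004008001001) (nat_lit 138) (nat_lit 1) (nat_lit 0) (nat_lit 1) (nat_lit 0) (nat_lit 1) (nat_lit 0) .nil))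
theorem c502 : (chk [] [] p502).n x246 s502 = true := by decide +kernel
noncomputable def p503 : Pf := (.ext (nat_lit 1) (nat_lit 0x79030010048002001) (nat_lit 0x1080060040008) (nat_lit 0x48010079049002010008004002003002) (nat_lit 0x2003004008) (nat_lit 4097) (nat_lit 4234) (nat_lit 0xb004002001) (.dfs (nat_lit 1) (nat_lit 0x1001002004008) (nat_lit 0x100100200400b) (nat_lit 1) (nat_lit 1) (nat_lit 3) (nat_lit 0) (nat_lit 2) (nat_lit 1) (nat_lit 0x1002004008001001) (nat_lit 138) (nat_lit 1) (nat_lit 0) (nat_lit 1) (nat_lit 0) (nat_lit 1) (nat_lit 0) .nil))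
theorem c503 : (chk [] [] p503).n x247 s503 = true := by decide +kernel
noncomputable def p504 : Pf := (.ext (nat_lit 1) (nat_lit 0x79030010048002001) (nat_lit 0x1080060040008) (nat_lit 0x48010079049002010008004002003002) (nat_lit 0x2003004008) (nat_lit 4097) (nat_lit 4234) (nat_lit 0xb004002001) (.dfs (nat_lit 1) (nat_lit 0x1001002004008) (nat_lit 0x100100200400b) (nat_lit 1) (nat_lit 1) (nat_lit 5) (nat_lit 0) (nat_lit 2) (nat_lit 1) (nat_lit 0x1002004008001001) (nat_lit 138) (nat_lit 1) (nat_lit 0) (nat_lit 1) (nat_lit 0) (nat_lit 1) (nat_lit 0) .nil))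
theorem c504 : (chk [] [] p504).n x248 s504 = true := by decide +kernel
noncomputable def p505 : Pf := (.ext (nat_lit 1) (nat_lit 0x79030010048002001) (nat_lit 0x1080060040008) (nat_lit 0x48010079049002010008004002003002) (nat_lit 0x2003004008) (nat_lit 4097) (nat_lit 4234) (nat_lit 0xb004002001) (.dfs (nat_lit 1) (nat_lit 0x1001002004008) (nat_lit 0x100100200400b) (nat_lit 1) (nat_lit 1) (nat_lit 5) (nat_lit 0) (nat_lit 2) (nat_lit 1) (nat_lit 0x1002004008001001) (nat_lit 138) (nat_lit 1) (nat_lit 0) (nat_lit 1) (nat_lit 0) (nat_lit 1) (nat_lit 0) .nil))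
theorem c505 : (chk [] [] p505).n x249 s505 = true := by decide +kernel
noncomputable def p506 : Pf := (.lft (nat_lit 0x40010020008001004002003001) (nat_lit 4) (nat_lit 0x1070060050040) (nat_lit 0x40020010008004002031) (.extn a31 (nat_lit 0x40020010008004002001) (nat_lit 0x1008020010040) (nat_lit 2) (nat_lit 0) (nat_lit 0) (nat_lit 4) (nat_lit 0x10001000100010) (.cE (nat_lit 4) b78 (nat_lit 0) (.iso x216 s454 (nat_lit 0) (nat_lit 0x1080040020010008004002001) (nat_lit 0x80040020010008004002001) [(nat_lit 0x40020010008004002001003001), (nat_lit 0x10008004002001009001)] (.cut (nat_lit 0))) (.iso x217 s455 (nat_lit 0) (nat_lit 0x1080040020010008004002001) (nat_lit 0x80040020010008004002001) [(nat_lit 0x40020010008004002001003001), (nat_lit 0x10008004002001009001)] (.cut (nat_lit 1))) (.cE (nat_lit 20) b79 (nat_lit 0) (.cut (nat_lit 2)) (.cut (nat_lit 3)) (.cE (nat_lit 36) b121 (nat_lit 0) (.cut (nat_lit 4)) (.cut (nat_lit 5)) (.cE (nat_lit 52) b122 (nat_lit 0) (.cut (nat_lit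 6)) (.cut (nat_lit 7)) .nil))))))
theorem c506 : (chk [(x216, s454), (x217, s455), (x218, s500), (x245, s501), (x246, s502), (x247, s503), (x248, s504), (x249, s505)] [g78] p506).n x215 s506 = true := by decide +kernel
noncomputable def p507 : Pf := (.ext (nat_lit 0) (nat_lit 0) (nat_lit 0x106401002007d053) (nat_lit 0x1400800e004015003031001000010008006004011004040020010008004002004) (nat_lit 0x200c008012) (nat_lit 0x1002001) (nat_lit 0x1044005) (nat_lit 0x1c00800400e00901400800400a005) (.dfs (nat_lit 1) (nat_lit 0x100200c008012) (nat_lit 0x100a00c00801e) (nat_lit 0x1010004001) (nat_lit 0x1014004005) (nat_lit 12) (nat_lit 0) (nat_lit 2) (nat_lit 0) (nat_lit 0) (nat_lit 5) (nat_lit 1) (nat_lit 0) (nat_lit 4104) (nat_lit 8) (nat_lit 0x100000d00002d) (nat_lit 0x200000002000) (.cD (nat_lit 13) (.dfs (nat_lit 2) (nat_lit 0x1004018010024) (nat_lit 0x101c018010024) (nat_lit 0x1020008002001) (nat_lit 0x1038008012001) (nat_lit 0) (nat_lit 0) (nat_lit 2) (nat_lit 0) (nat_lit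 0) (nat_lit 4) (nat_lit 1) (nat_lit 0) (nat_lit 1) (nat_lit 0) (nat_lit 1) (nat_lit 0x100010001000100000000000000000) (.cD (nat_lit 68) (.kA false (nat_lit 0xc00e00801000501006a02000100100600c00801100504a010020017001004)) (.cD (nat_lit 84) (.kA false (nat_lit 0xc00e00801000501006a02002100100600c00801900504a010020017001004)) (.cD (nat_lit 100) (.kA true (nat_lit 0x2101003005100306701003004000200e030010048004079030010048002004)) (.cD (nat_lit 116) (.kA true (nat_lit 0x2101003005100306701003004000202e030010048004059030010048002004)) .nil))))) (.cD (nat_lit 45) (.dfs (nat_lit 2) (nat_lit 0x1004018010024) (nat_lit 0x101c018010024) (nat_lit 0x1020008002001) (nat_lit 0x1038008012001) (nat_lit 0) (nat_lit 0) (nat_lit 2) (nat_lit 0) (nat_lit 0) (nat_lit 4) (nat_lit 1) (nat_lit 0) (nat_lit 1) (nat_lit 0) (nat_lit 1) (nat_lit 0x100010001000100000000000000000) (.cD (nat_lit 68) (.kA false (nat_lit 0x4a07a02001700200200600801500603803002000400107a010020007001031001000005)) (.cD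 (nat_lit 84) (.kA false (nat_lit 0x4a07a02001700200200600801d00603803002002400107a010020007001031001000005)) (.cD (nat_lit 100) (.cut (nat_lit 1)) (.cD (nat_lit 116) (.cut (nat_lit 0)) .nil))))) .nil))))
theorem c507 : (chk [(x215, s453), (x215, s506)] [] p507).n x215 s507 = true := by decide +kernel
noncomputable def p508 : Pf := (.ext (nat_lit 0) (nat_lit 0x4006008010002001) (nat_lit 0x1040010020008002) (nat_lit 0x1400800400a01900203100100001c00800a004019001002002000010008006004011002005) (nat_lit 0x400e008014) (nat_lit 0x1004001) (nat_lit 0x1004005) (nat_lit 0x1000800400600501400800400e001) (.dfs (nat_lit 1) (nat_lit 0x1002004008010) (nat_lit 0x100e004008014) (nat_lit 4097) (nat_lit 4097) (nat_lit 12) (nat_lit 0) (nat_lit 2) (nat_lit 0) (nat_lit 0x2004008010001001) (nat_lit 5) (nat_lit 1) (nat_lit 0) (nat_lit 4173) (nat_lit 77) (nat_lit 0x1000005000015) (nat_lit 0x200020) (.cD (nat_lit 5) (.dfs (nat_lit 4) (nat_lit 0x1004008010020) (nat_lit 0x100c008010020) (nat_lit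 0x1002001) (nat_lit 0x100a001) (nat_lit 0) (nat_lit 0) (nat_lit 2) (nat_lit 0) (nat_lit 0x4008010020001001) (nat_lit 4) (nat_lit 1) (nat_lit 0) (nat_lit 1) (nat_lit 0) (nat_lit 1) (nat_lit 0x10001000100010) (.cD (nat_lit 4) (.kA false (nat_lit 0x7b010020051001008010020040001002)) (.cD (nat_lit 20) (.kA true (nat_lit 0xa004008010008021010030071002002)) (.cD (nat_lit 36) (.kS (nat_lit 1) (nat_lit 0x2006008012006001010030040001002) (nat_lit 4159) (nat_lit 0x8004002003) (nat_lit 0x101103004102e00200200400801000100500101003004000e00200200600801200f005004)) (.cD (nat_lit 52) (.kA false (nat_lit 0xa00400801000307b010020041002002002000003)) .nil))))) (.cD (nat_lit 21) (.dfs (nat_lit 4) (nat_lit 0x1004008010020) (nat_lit 0x100c008010020) (nat_lit 0x1002001) (nat_lit 0x100a001) (nat_lit 0) (nat_lit 0) (nat_lit 2) (nat_lit 0) (nat_lit 0x4008010020001001) (nat_lit 4) (nat_lit 1) (nat_lit 0) (nat_lit 1) (nat_lit 0) (nat_lit 1) (nat_lit 0x10001000100010) (.cD (nat_lit 4) (.cut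 (nat_lit 0)) (.cD (nat_lit 20) (.kA false (nat_lit 0x7b010020071001008010020060001002002000003)) (.cD (nat_lit 36) (.kA false (nat_lit 0xa00400801000307b010020041002002)) (.cD (nat_lit 52) (.kA true (nat_lit 0xa00400801e007031010030061002002)) .nil))))) .nil))))
theorem c508 : (chk [(x215, s507)] [] p508).n x215 s508 = true := by decide +kernel
noncomputable def p509 : Pf := (.ext (nat_lit 0) (nat_lit 0) (nat_lit 0x104401002006d) (nat_lit 0x10008004002007010004002011001002) (nat_lit 0x2003004008) (nat_lit 4103) (nat_lit 4098) (nat_lit 0xc004002001) (.dfs (nat_lit 7) (nat_lit 0x1002003004008) (nat_lit 0x100200300400c) (nat_lit 4097) (nat_lit 4097) (nat_lit 4) (nat_lit 0) (nat_lit 2) (nat_lit 0) (nat_lit 0) (nat_lit 2) (nat_lit 1) (nat_lit 0) (nat_lit 4160) (nat_lit 64) (nat_lit 0x100004200004a00006200006a) (nat_lit 0x404000004040000000000000000) (.cD (nat_lit 66) (.cut (nat_lit 1)) (.cD (nat_lit 74) (.cut (nat_lit 0)) (.cD (nat_lit 98) (.kS (nat_lit 0) (nat_lit 0x2004008010009001)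 (nat_lit 4162) (nat_lit 0x8004002003) (nat_lit 0x400400000400200801000500100400400000400600801000100200200400801001500a005)) (.cD (nat_lit 106) (.kS (nat_lit 0) (nat_lit 0x2004008010009001) (nat_lit 4202) (nat_lit 0x8004002003) (nat_lit 0x400400000400200801000500100400400000400600801000100200200400801001700a005)) .nil))))))
theorem c509 : (chk [(x215, s398), (x215, s508)] [] p509).n x215 s509 = true := by decide +kernel
noncomputable def p510 : Pf := (.anc (nat_lit 68) (nat_lit 0x10004002002000002) (nat_lit 0x1009020010004) (.czp (nat_lit 64) (nat_lit 0) (nat_lit 0x1040020010008004) z6 (.dfs (nat_lit 4) (nat_lit 4097) (nat_lit 4097) (nat_lit 1) (nat_lit 1) (nat_lit 0) (nat_lit 0) (nat_lit 3) (nat_lit 0) (nat_lit 0) (nat_lit 0) (nat_lit 1) (nat_lit 0) (nat_lit 0x1008004) (nat_lit 32772) (nat_lit 0x1001004000008001014000018) (nat_lit 0x1000101110110) (.cD (nat_lit 4) (.dfs (nat_lit 16) (nat_lit 4098) (nat_lit 4098) (nat_lit 4097) (nat_lit 4097) (nat_lit 0) (nat_lit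 0) (nat_lit 3) (nat_lit 0) (nat_lit 0) (nat_lit 0) (nat_lit 1) (nat_lit 0) (nat_lit 1) (nat_lit 0) (nat_lit 1) (nat_lit 0x11001100110010) (.cD (nat_lit 4) (.kc (nat_lit 20) (nat_lit 0x3001001)) (.cD (nat_lit 16) (.dfs (nat_lit 32) (nat_lit 4100) (nat_lit 4100) (nat_lit 0x1002001) (nat_lit 0x1002001) (nat_lit 0) (nat_lit 0) (nat_lit 3) (nat_lit 0) (nat_lit 0) (nat_lit 0) (nat_lit 1) (nat_lit 0) (nat_lit 1) (nat_lit 0) (nat_lit 1) (nat_lit 0x11001100110010) (.cD (nat_lit 4) (.kc (nat_lit 36) (nat_lit 0x5001001)) (.cD (nat_lit 16) (.kc (nat_lit 48) (nat_lit 0x3001001)) (.cD (nat_lit 20) (.kc (nat_lit 52) (nat_lit 0x7001001)) (.cD (nat_lit 32) (.dfs (nat_lit 9) (nat_lit 0x1004001003008) (nat_lit 0x1005001003008) (nat_lit 4098) (nat_lit 4098) (nat_lit 0) (nat_lit 0) (nat_lit 2) (nat_lit 1) (nat_lit 0) (nat_lit 8) (nat_lit 1) (nat_lit 0) (nat_lit 4100) (nat_lit 4) (nat_lit 0x1000048000058) (nat_lit 0x10001000000000000000000) (.cD (nat_lit 72) (.cut (nat_lit 0)) (.cD (nat_lit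 88) (.iso x215 s509 (nat_lit 0) (nat_lit 0x1040020010008004012011) (nat_lit 0x40020010008004012011) [(nat_lit 0x10008004002005001001), (nat_lit 0x10008004002001003001), (nat_lit 0x1000800400200d005001), (nat_lit 0x10008004002009007001)] (.cut (nat_lit 0))) .nil))) (.cD (nat_lit 36) (.kA true (nat_lit 0x3100100000400100300d001031001000003)) (.cD (nat_lit 48) (.kA true (nat_lit 0x600800401000600400100300d001031001000003)) (.cD (nat_lit 52) (.kA true (nat_lit 0x5004003008001002004008014003031001000003)) .nil)))))))) (.cD (nat_lit 20) (.dfs (nat_lit 32) (nat_lit 4100) (nat_lit 4100) (nat_lit 0x1002001) (nat_lit 0x1002001) (nat_lit 0) (nat_lit 0) (nat_lit 3) (nat_lit 0) (nat_lit 0) (nat_lit 0) (nat_lit 1) (nat_lit 0) (nat_lit 1) (nat_lit 0) (nat_lit 1) (nat_lit 0x11001100110010) (.cD (nat_lit 4) (.kc (nat_lit 36) (nat_lit 0x5001001)) (.cD (nat_lit 16) (.kc (nat_lit 52) (nat_lit 0x7001001)) (.cD (nat_lit 20) (.kc (nat_lit 48) (nat_lit 0x3001001)) (.cD (nat_lit 32) (.kA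 true (nat_lit 0x5004003008001002004008014003031001000003)) (.cD (nat_lit 36) (.dfs (nat_lit 9) (nat_lit 4102) (nat_lit 4103) (nat_lit 1) (nat_lit 1) (nat_lit 0) (nat_lit 0) (nat_lit 1) (nat_lit 4112) (nat_lit 0x40020010008004002031) (nat_lit 0) (nat_lit 1) (nat_lit 0) (nat_lit 1) (nat_lit 0) (nat_lit 1) (nat_lit 0) .nil) (.cD (nat_lit 48) (.kA true (nat_lit 0x400300500800100400100300c001002)) (.cD (nat_lit 52) (.kA true (nat_lit 0x400700100800100400100300c001002)) .nil)))))))) (.cD (nat_lit 32) (.kF (nat_lit 16) (nat_lit 0x100400100c012006002002000003)) (.cD (nat_lit 36) (.kF (nat_lit 16) (nat_lit 0x100400100c012006002002000003)) (.cD (nat_lit 48) (.dfs (nat_lit 32) (nat_lit 4100) (nat_lit 4100) (nat_lit 0x1002001) (nat_lit 0x1002001) (nat_lit 0) (nat_lit 0) (nat_lit 3) (nat_lit 0) (nat_lit 0) (nat_lit 0) (nat_lit 1) (nat_lit 0) (nat_lit 1) (nat_lit 0) (nat_lit 1) (nat_lit 0x11001100110010) (.cD (nat_lit 4) (.kc (nat_lit 36) (nat_lit 0x5001001)) (.cD (nat_lit 16)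 (.kA true (nat_lit 0x400200100800100400100300c001002)) (.cD (nat_lit 20) (.kA true (nat_lit 0x400600500800100400100300c001002)) (.cD (nat_lit 32) (.kA true (nat_lit 0x5004003008001002004008014003031001000003)) (.cD (nat_lit 36) (.kA true (nat_lit 0x400500600800100400100300c001002)) (.cD (nat_lit 48) (.kc (nat_lit 48) (nat_lit 0x3001001)) (.cD (nat_lit 52) (.kc (nat_lit 52) (nat_lit 0x7001001)) .nil)))))))) (.cD (nat_lit 52) (.dfs (nat_lit 32) (nat_lit 4100) (nat_lit 4100) (nat_lit 0x1002001) (nat_lit 0x1002001) (nat_lit 0) (nat_lit 0) (nat_lit 3) (nat_lit 0) (nat_lit 0) (nat_lit 0) (nat_lit 1) (nat_lit 0) (nat_lit 1) (nat_lit 0) (nat_lit 1) (nat_lit 0x11001100110010) (.cD (nat_lit 4) (.kc (nat_lit 36) (nat_lit 0x5001001)) (.cD (nat_lit 16) (.kA true (nat_lit 0x400200500800100400100300c001002)) (.cD (nat_lit 20) (.kA true (nat_lit 0x400600100800100400100300c001002)) (.cD (nat_lit 32) (.kA true (nat_lit 0x5004003008001002004008014003031001000003)) (.cD (nat_lit 36)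 (.kA true (nat_lit 0x400500200800100400100300c001002)) (.cD (nat_lit 48) (.kc (nat_lit 52) (nat_lit 0x7001001)) (.cD (nat_lit 52) (.kc (nat_lit 48) (nat_lit 0x3001001)) .nil)))))))) .nil)))))))) (.cD (nat_lit 8) (.dfs (nat_lit 16) (nat_lit 4098) (nat_lit 4098) (nat_lit 4097) (nat_lit 4097) (nat_lit 0) (nat_lit 0) (nat_lit 3) (nat_lit 0) (nat_lit 0) (nat_lit 0) (nat_lit 1) (nat_lit 0) (nat_lit 1) (nat_lit 0) (nat_lit 1) (nat_lit 0x101010101010100) (.cD (nat_lit 8) (.kc (nat_lit 20) (nat_lit 0x3001001)) (.cD (nat_lit 16) (.dfs (nat_lit 32) (nat_lit 4100) (nat_lit 4100) (nat_lit 0x1002001) (nat_lit 0x1002001) (nat_lit 0) (nat_lit 0) (nat_lit 3) (nat_lit 0) (nat_lit 0) (nat_lit 0) (nat_lit 1) (nat_lit 0) (nat_lit 1) (nat_lit 0) (nat_lit 1) (nat_lit 0x101010101010100) (.cD (nat_lit 8) (.kc (nat_lit 36) (nat_lit 0x5001001)) (.cD (nat_lit 16) (.kc (nat_lit 48) (nat_lit 0x3001001)) (.cD (nat_lit 24) (.kc (nat_lit 52) (nat_lit 0x7001001)) (.cD (nat_lit 32) (.kA false (nat_lit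 0x300400200c00200e004008014007031001000003)) (.cD (nat_lit 40) (.kA false (nat_lit 0x3100100000300500200d002031001000003)) (.cD (nat_lit 48) (.kA false (nat_lit 0x200800c01000600500300200b002031001000003)) (.cD (nat_lit 56) (.kA false (nat_lit 0x500400200c00200e004008014007031001000003)) .nil)))))))) (.cD (nat_lit 24) (.dfs (nat_lit 32) (nat_lit 4100) (nat_lit 4100) (nat_lit 0x1002001) (nat_lit 0x1002001) (nat_lit 0) (nat_lit 0) (nat_lit 3) (nat_lit 0) (nat_lit 0) (nat_lit 0) (nat_lit 1) (nat_lit 0) (nat_lit 1) (nat_lit 0) (nat_lit 1) (nat_lit 0x101010101010100) (.cD (nat_lit 8) (.kc (nat_lit 36) (nat_lit 0x5001001)) (.cD (nat_lit 16) (.kc (nat_lit 52) (nat_lit 0x7001001)) (.cD (nat_lit 24) (.kc (nat_lit 48) (nat_lit 0x3001001)) (.cD (nat_lit 32) (.kA false (nat_lit 0x700400600c00200e004008014007031001000003)) (.cD (nat_lit 40) (.kA false (nat_lit 0x3100100000700500600d002031001000003)) (.cD (nat_lit 48) (.kA false (nat_lit 0x100400600c00200e004008014007031001000003))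 (.cD (nat_lit 56) (.kA false (nat_lit 0x400800a01000600100300600b002031001000003)) .nil)))))))) (.cD (nat_lit 32) (.kF (nat_lit 16) (nat_lit 0x100400100c012006002002000003)) (.cD (nat_lit 40) (.kF (nat_lit 16) (nat_lit 0x100400100c012006002002000003)) (.cD (nat_lit 48) (.kF (nat_lit 16) (nat_lit 0x3100100000e014008001006001003)) (.cD (nat_lit 56) (.kF (nat_lit 16) (nat_lit 0x3100100000a014008001006001003)) .nil)))))))) (.cD (nat_lit 16) (.kF (nat_lit 4) (nat_lit 0x2002000001003001002)) (.cD (nat_lit 20) (.kF (nat_lit 4) (nat_lit 0xe01e005001003001002)) (.cD (nat_lit 24) (.kF (nat_lit 4) (nat_lit 0x1002001002012006002002000003)) (.cD (nat_lit 32) (.dfs (nat_lit 16) (nat_lit 4098) (nat_lit 4098) (nat_lit 4097) (nat_lit 4097) (nat_lit 0) (nat_lit 0) (nat_lit 3) (nat_lit 0) (nat_lit 0) (nat_lit 0) (nat_lit 1) (nat_lit 0) (nat_lit 0x1008004) (nat_lit 32772) (nat_lit 0x1001004000008001014000018) (nat_lit 0x1000101110110) (.cD (nat_lit 4) (.kF (nat_lit 16) (nat_lit 0x31001000001006001002))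 (.cD (nat_lit 8) (.kF (nat_lit 16) (nat_lit 0x100400100c012006002002000003)) (.cD (nat_lit 16) (.dfs (nat_lit 32) (nat_lit 4100) (nat_lit 4100) (nat_lit 0x1002001) (nat_lit 0x1002001) (nat_lit 0) (nat_lit 0) (nat_lit 3) (nat_lit 0) (nat_lit 0) (nat_lit 0) (nat_lit 1) (nat_lit 0) (nat_lit 0x1008004) (nat_lit 32772) (nat_lit 0x1001004000008001014000018) (nat_lit 0x1000101110110) (.cD (nat_lit 4) (.kA true (nat_lit 0x100400600c002031001000002)) (.cD (nat_lit 8) (.kA false (nat_lit 0x700400200c002031001000002)) (.cD (nat_lit 16) (.kc (nat_lit 48) (nat_lit 0x3001001)) (.cD (nat_lit 20) (.kA true (nat_lit 0x300400600c002031001000002)) (.cD (nat_lit 24) (.kA false (nat_lit 0x500400200c002031001000002)) (.cD (nat_lit 32) (.kc (nat_lit 36) (nat_lit 0x5001001)) (.cD (nat_lit 48) (.kc (nat_lit 52) (nat_lit 0x7001001)) .nil)))))))) (.cD (nat_lit 20) (.dfs (nat_lit 32) (nat_lit 4100) (nat_lit 4100) (nat_lit 0x1002001) (nat_lit 0x1002001) (nat_lit 0) (nat_lit 0) (nat_lit 3) (nat_lit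 0) (nat_lit 0) (nat_lit 0) (nat_lit 1) (nat_lit 0) (nat_lit 1) (nat_lit 0) (nat_lit 1) (nat_lit 0x11001100110010) (.cD (nat_lit 4) (.kA true (nat_lit 0x100400700c002031001000002)) (.cD (nat_lit 16) (.kA true (nat_lit 0x300400500c002031001000002)) (.cD (nat_lit 20) (.kc (nat_lit 48) (nat_lit 0x3001001)) (.cD (nat_lit 32) (.kc (nat_lit 36) (nat_lit 0x5001001)) (.cD (nat_lit 36) (.dfs (nat_lit 9) (nat_lit 4100) (nat_lit 4101) (nat_lit 1) (nat_lit 1) (nat_lit 0) (nat_lit 0) (nat_lit 1) (nat_lit 4128) (nat_lit 0x40020010008004002031) (nat_lit 0) (nat_lit 1) (nat_lit 0) (nat_lit 1) (nat_lit 0) (nat_lit 1) (nat_lit 0) .nil) (.cD (nat_lit 48) (.kA true (nat_lit 0x700400100c002031001000002)) (.cD (nat_lit 52) (.kc (nat_lit 52) (nat_lit 0x7001001)) .nil)))))))) (.cD (nat_lit 24) (.kF (nat_lit 16) (nat_lit 0x31001000001006001002)) (.cD (nat_lit 32) (.kc (nat_lit 20) (nat_lit 0x3001001)) (.cD (nat_lit 48) (.dfs (nat_lit 32) (nat_lit 4100) (nat_lit 4100) (nat_lit 0x1002001) (nat_lit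 0x1002001) (nat_lit 0) (nat_lit 0) (nat_lit 3) (nat_lit 0) (nat_lit 0) (nat_lit 0) (nat_lit 1) (nat_lit 0) (nat_lit 0x1008004) (nat_lit 32772) (nat_lit 0x1001004000008001014000018) (nat_lit 0x1000101110110) (.cD (nat_lit 4) (.kA true (nat_lit 0x100400200c002031001000002)) (.cD (nat_lit 8) (.kA false (nat_lit 0x300400600c002031001000002)) (.cD (nat_lit 16) (.kc (nat_lit 52) (nat_lit 0x7001001)) (.cD (nat_lit 20) (.kA true (nat_lit 0x700400200c002031001000002)) (.cD (nat_lit 24) (.kA false (nat_lit 0x500400600c002031001000002)) (.cD (nat_lit 32) (.kc (nat_lit 36) (nat_lit 0x5001001)) (.cD (nat_lit 48) (.kc (nat_lit 48) (nat_lit 0x3001001)) .nil)))))))) .nil)))))))) (.cD (nat_lit 48) (.kF (nat_lit 4) (nat_lit 0x1002001002012006002002000003)) .nil))))))))))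
theorem c510 : (chk [(x215, s509)] [g68] p510).n x215 s510 = true := by decide +kernel
noncomputable def p511 : Pf := (.ext (nat_lit 1) (nat_lit 0) (nat_lit 0x1040030020004) (nat_lit 0x1002004008005001) (nat_lit 0x2003004008) (nat_lit 4107) (nat_lit 4107) (nat_lit 0xc004002001) (.dfs (nat_lit 11) (nat_lit 0x1002003004008) (nat_lit 0x100200300400c) (nat_lit 4097) (nat_lit 4097) (nat_lit 0) (nat_lit 0) (nat_lit 2) (nat_lit 1) (nat_lit 0) (nat_lit 11) (nat_lit 1) (nat_lit 0) (nat_lit 4160) (nat_lit 64) (nat_lit 0x100000b00000f00001b00001f) (nat_lit 0x88008800) (.cD (nat_lit 11) (.cut (nat_lit 0)) (.cD (nat_lit 15) (.iso x215 s510 (nat_lit 0) (nat_lit 0x1040020010008004012001) (nat_lit 0x40020010008004012001) [(nat_lit 0x1000800400200d001001), (nat_lit 0x1000800400200d003001), (nat_lit 0x10008004002009005001)] (.cut (nat_lit 0))) (.cD (nat_lit 27) (.kS (nat_lit 1) (nat_lit 0x2006008010002008008000002) (nat_lit 4111) (nat_lit 0x8004002003) (nat_lit 0x8008000002004008010001001008008000002006008010007001004))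 (.cD (nat_lit 31) (.kS (nat_lit 1) (nat_lit 0x2006008010002008008000002) (nat_lit 4139) (nat_lit 0x8004002003) (nat_lit 0x8008000002004008010001001008008000002006008010005001004)) .nil))))))
theorem c511 : (chk [(x215, s510)] [g68] p511).n x215 s511 = true := by decide +kernel
noncomputable def p512 : Pf := (.lft (nat_lit 0x20008018001004002003001) (nat_lit 0) (nat_lit 0x1028020) (nat_lit 0x20010008004002001) (.extn a22 (nat_lit 0x20010008004002001) (nat_lit 0x1004010008020) (nat_lit 2) (nat_lit 0) (nat_lit 0) (nat_lit 0) (nat_lit 0x1010101) (.cE (nat_lit 0) b65 (nat_lit 0) (.cut (nat_lit 0)) (.cut (nat_lit 1)) (.cE (nat_lit 8) b66 (nat_lit 0) (.cut (nat_lit 2)) (.cut (nat_lit 3)) (.cE (nat_lit 16) b67 (nat_lit 0) (.cut (nat_lit 4)) (.cut (nat_lit 5)) (.cE (nat_lit 24) b68 t68 (.cut (nat_lit 6)) (.cut (nat_lit 7)) .nil))))))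
theorem c512 : (chk [(x208, s391), (x209, s392), (x210, s393), (x211, s394), (x212, s395), (x213, s396), (x214, s397), (x215, s511)] [] p512).n x207 s512 = true := by decide +kernel
noncomputable def p513 : Pf := (.anc (nat_lit 68) (nat_lit 0x10002002002000002) (nat_lit 0x1009020010004) (.czp (nat_lit 64) (nat_lit 0) (nat_lit 0x1040020010008004) z6 (.dfs (nat_lit 4) (nat_lit 4097) (nat_lit 4097) (nat_lit 1) (nat_lit 1) (nat_lit 0) (nat_lit 0) (nat_lit 3) (nat_lit 0) (nat_lit 0) (nat_lit 0) (nat_lit 1) (nat_lit 0) (nat_lit 0x1008004) (nat_lit 32772) (nat_lit 0x1001004000008001014000018) (nat_lit 0x1000101110110) (.cD (nat_lit 4) (.dfs (nat_lit 16) (nat_lit 4098) (nat_lit 4098) (nat_lit 4097) (nat_lit 4097) (nat_lit 0) (nat_lit 0) (nat_lit 3) (nat_lit 0) (nat_lit 0) (nat_lit 0) (nat_lit 1) (nat_lit 0) (nat_lit 1) (nat_lit 0) (nat_lit 1) (nat_lit 0x11001100110010) (.cD (nat_lit 4) (.kc (nat_lit 20) (nat_lit 0x3001001)) (.cD (nat_lit 16) (.dfs (nat_lit 32) (nat_lit 4100)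 (nat_lit 4100) (nat_lit 0x1002001) (nat_lit 0x1002001) (nat_lit 0) (nat_lit 0) (nat_lit 3) (nat_lit 0) (nat_lit 0) (nat_lit 0) (nat_lit 1) (nat_lit 0) (nat_lit 1) (nat_lit 0) (nat_lit 1) (nat_lit 0x11001100110010) (.cD (nat_lit 4) (.kc (nat_lit 36) (nat_lit 0x5001001)) (.cD (nat_lit 16) (.kc (nat_lit 48) (nat_lit 0x3001001)) (.cD (nat_lit 20) (.kc (nat_lit 52) (nat_lit 0x7001001)) (.cD (nat_lit 32) (.dfs (nat_lit 9) (nat_lit 0x1004001003008) (nat_lit 0x1005001003008) (nat_lit 4098) (nat_lit 4098) (nat_lit 3) (nat_lit 0) (nat_lit 2) (nat_lit 1) (nat_lit 0) (nat_lit 8) (nat_lit 1) (nat_lit 0) (nat_lit 1) (nat_lit 0) (nat_lit 1) (nat_lit 0) .nil) (.cD (nat_lit 36) (.kA true (nat_lit 0x100100000400100300d001001001000003)) (.cD (nat_lit 48) (.kA true (nat_lit 0x600800401000400400100300d001001001000003)) (.cD (nat_lit 52) (.kA true (nat_lit 0x5004003008001008004002005007001001000003)) .nil)))))))) (.cD (nat_lit 20) (.dfs (nat_lit 32) (nat_lit 4100) (nat_lit 4100) (nat_lit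 0x1002001) (nat_lit 0x1002001) (nat_lit 0) (nat_lit 0) (nat_lit 3) (nat_lit 0) (nat_lit 0) (nat_lit 0) (nat_lit 1) (nat_lit 0) (nat_lit 1) (nat_lit 0) (nat_lit 1) (nat_lit 0x11001100110010) (.cD (nat_lit 4) (.kc (nat_lit 36) (nat_lit 0x5001001)) (.cD (nat_lit 16) (.kc (nat_lit 52) (nat_lit 0x7001001)) (.cD (nat_lit 20) (.kc (nat_lit 48) (nat_lit 0x3001001)) (.cD (nat_lit 32) (.kA true (nat_lit 0x5004003008001008004002005007001001000003)) (.cD (nat_lit 36) (.dfs (nat_lit 9) (nat_lit 4102) (nat_lit 4103) (nat_lit 1) (nat_lit 1) (nat_lit 3) (nat_lit 0) (nat_lit 1) (nat_lit 4112) (nat_lit 0x40020010008004002001) (nat_lit 0) (nat_lit 1) (nat_lit 0) (nat_lit 1) (nat_lit 0) (nat_lit 1) (nat_lit 0) .nil) (.cD (nat_lit 48) (.kA true (nat_lit 0x400300500800100400100300c001002)) (.cD (nat_lit 52) (.kA true (nat_lit 0x400700100800100400100300c001002)) .nil)))))))) (.cD (nat_lit 32) (.kF (nat_lit 16) (nat_lit 0x100400100c012004002002000003)) (.cD (nat_lit 36) (.kF (nat_lit 16)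 (nat_lit 0x100400100c012004002002000003)) (.cD (nat_lit 48) (.dfs (nat_lit 32) (nat_lit 4100) (nat_lit 4100) (nat_lit 0x1002001) (nat_lit 0x1002001) (nat_lit 0) (nat_lit 0) (nat_lit 3) (nat_lit 0) (nat_lit 0) (nat_lit 0) (nat_lit 1) (nat_lit 0) (nat_lit 1) (nat_lit 0) (nat_lit 1) (nat_lit 0x11001100110010) (.cD (nat_lit 4) (.kc (nat_lit 36) (nat_lit 0x5001001)) (.cD (nat_lit 16) (.kA true (nat_lit 0x400200100800100400100300c001002)) (.cD (nat_lit 20) (.kA true (nat_lit 0x400600500800100400100300c001002)) (.cD (nat_lit 32) (.kA true (nat_lit 0x5004003008001008004002005007001001000003)) (.cD (nat_lit 36) (.kA true (nat_lit 0x400500600800100400100300c001002)) (.cD (nat_lit 48) (.kc (nat_lit 48) (nat_lit 0x3001001)) (.cD (nat_lit 52) (.kc (nat_lit 52) (nat_lit 0x7001001)) .nil)))))))) (.cD (nat_lit 52) (.dfs (nat_lit 32) (nat_lit 4100) (nat_lit 4100) (nat_lit 0x1002001) (nat_lit 0x1002001) (nat_lit 0) (nat_lit 0) (nat_lit 3) (nat_lit 0) (nat_lit 0) (nat_lit 0) (nat_lit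 1) (nat_lit 0) (nat_lit 1) (nat_lit 0) (nat_lit 1) (nat_lit 0x11001100110010) (.cD (nat_lit 4) (.kc (nat_lit 36) (nat_lit 0x5001001)) (.cD (nat_lit 16) (.kA true (nat_lit 0x400200500800100400100300c001002)) (.cD (nat_lit 20) (.kA true (nat_lit 0x400600100800100400100300c001002)) (.cD (nat_lit 32) (.kA true (nat_lit 0x5004003008001008004002005007001001000003)) (.cD (nat_lit 36) (.kA true (nat_lit 0x400500200800100400100300c001002)) (.cD (nat_lit 48) (.kc (nat_lit 52) (nat_lit 0x7001001)) (.cD (nat_lit 52) (.kc (nat_lit 48) (nat_lit 0x3001001)) .nil)))))))) .nil)))))))) (.cD (nat_lit 8) (.dfs (nat_lit 16) (nat_lit 4098) (nat_lit 4098) (nat_lit 4097) (nat_lit 4097) (nat_lit 0) (nat_lit 0) (nat_lit 3) (nat_lit 0) (nat_lit 0) (nat_lit 0) (nat_lit 1) (nat_lit 0) (nat_lit 1) (nat_lit 0) (nat_lit 1) (nat_lit 0x101010101010100) (.cD (nat_lit 8) (.kc (nat_lit 20) (nat_lit 0x3001001)) (.cD (nat_lit 16) (.dfs (nat_lit 32) (nat_lit 4100) (nat_lit 4100) (nat_lit 0x1002001) (nat_lit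 0x1002001) (nat_lit 0) (nat_lit 0) (nat_lit 3) (nat_lit 0) (nat_lit 0) (nat_lit 0) (nat_lit 1) (nat_lit 0) (nat_lit 1) (nat_lit 0) (nat_lit 1) (nat_lit 0x101010101010100) (.cD (nat_lit 8) (.kc (nat_lit 36) (nat_lit 0x5001001)) (.cD (nat_lit 16) (.kc (nat_lit 48) (nat_lit 0x3001001)) (.cD (nat_lit 24) (.kc (nat_lit 52) (nat_lit 0x7001001)) (.cD (nat_lit 32) (.kA false (nat_lit 0x300400200c00200e004008014005001001000003)) (.cD (nat_lit 40) (.kA false (nat_lit 0x100100000300500200d002001001000003)) (.cD (nat_lit 48) (.kA false (nat_lit 0x200800c01000400500300200b002001001000003)) (.cD (nat_lit 56) (.kA false (nat_lit 0x500400200c00200e004008014005001001000003)) .nil)))))))) (.cD (nat_lit 24) (.dfs (nat_lit 32) (nat_lit 4100) (nat_lit 4100) (nat_lit 0x1002001) (nat_lit 0x1002001) (nat_lit 0) (nat_lit 0) (nat_lit 3) (nat_lit 0) (nat_lit 0) (nat_lit 0) (nat_lit 1) (nat_lit 0) (nat_lit 1) (nat_lit 0) (nat_lit 1) (nat_lit 0x101010101010100) (.cD (nat_lit 8) (.kc (nat_lit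 36) (nat_lit 0x5001001)) (.cD (nat_lit 16) (.kc (nat_lit 52) (nat_lit 0x7001001)) (.cD (nat_lit 24) (.kc (nat_lit 48) (nat_lit 0x3001001)) (.cD (nat_lit 32) (.kA false (nat_lit 0x700400600c00200e004008014005001001000003)) (.cD (nat_lit 40) (.kA false (nat_lit 0x100100000700500600d002001001000003)) (.cD (nat_lit 48) (.kA false (nat_lit 0x100400600c00200e004008014005001001000003)) (.cD (nat_lit 56) (.kA false (nat_lit 0x400800a01000400100300600b002001001000003)) .nil)))))))) (.cD (nat_lit 32) (.kF (nat_lit 16) (nat_lit 0x100400100c012004002002000003)) (.cD (nat_lit 40) (.kF (nat_lit 16) (nat_lit 0x100400100c012004002002000003)) (.cD (nat_lit 48) (.kF (nat_lit 16) (nat_lit 0x100100000e014006001006001003)) (.cD (nat_lit 56) (.kF (nat_lit 16) (nat_lit 0x100100000a014006001006001003)) .nil)))))))) (.cD (nat_lit 16) (.kF (nat_lit 4) (nat_lit 0x2002000001003001002)) (.cD (nat_lit 20) (.kF (nat_lit 4) (nat_lit 0xe01e003001003001002)) (.cD (nat_lit 24) (.kF (nat_lit 4) (nat_lit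 0x1002001002012004002002000003)) (.cD (nat_lit 32) (.dfs (nat_lit 16) (nat_lit 4098) (nat_lit 4098) (nat_lit 4097) (nat_lit 4097) (nat_lit 0) (nat_lit 0) (nat_lit 3) (nat_lit 0) (nat_lit 0) (nat_lit 0) (nat_lit 1) (nat_lit 0) (nat_lit 0x1008004) (nat_lit 32772) (nat_lit 0x1001004000008001014000018) (nat_lit 0x1000101110110) (.cD (nat_lit 4) (.kF (nat_lit 16) (nat_lit 0x1001000001006001002)) (.cD (nat_lit 8) (.kF (nat_lit 16) (nat_lit 0x100400100c012004002002000003)) (.cD (nat_lit 16) (.dfs (nat_lit 32) (nat_lit 4100) (nat_lit 4100) (nat_lit 0x1002001) (nat_lit 0x1002001) (nat_lit 0) (nat_lit 0) (nat_lit 3) (nat_lit 0) (nat_lit 0) (nat_lit 0) (nat_lit 1) (nat_lit 0) (nat_lit 0x1008004) (nat_lit 32772) (nat_lit 0x1001004000008001014000018) (nat_lit 0x1000101110110) (.cD (nat_lit 4) (.kA true (nat_lit 0x100400600c002001001000002)) (.cD (nat_lit 8) (.kA false (nat_lit 0x700400200c002001001000002)) (.cD (nat_lit 16) (.kc (nat_lit 48) (nat_lit 0x3001001)) (.cD (nat_lit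 20) (.kA true (nat_lit 0x300400600c002001001000002)) (.cD (nat_lit 24) (.kA false (nat_lit 0x500400200c002001001000002)) (.cD (nat_lit 32) (.kc (nat_lit 36) (nat_lit 0x5001001)) (.cD (nat_lit 48) (.kc (nat_lit 52) (nat_lit 0x7001001)) .nil)))))))) (.cD (nat_lit 20) (.dfs (nat_lit 32) (nat_lit 4100) (nat_lit 4100) (nat_lit 0x1002001) (nat_lit 0x1002001) (nat_lit 0) (nat_lit 0) (nat_lit 3) (nat_lit 0) (nat_lit 0) (nat_lit 0) (nat_lit 1) (nat_lit 0) (nat_lit 1) (nat_lit 0) (nat_lit 1) (nat_lit 0x11001100110010) (.cD (nat_lit 4) (.kA true (nat_lit 0x100400700c002001001000002)) (.cD (nat_lit 16) (.kA true (nat_lit 0x300400500c002001001000002)) (.cD (nat_lit 20) (.kc (nat_lit 48) (nat_lit 0x3001001)) (.cD (nat_lit 32) (.kc (nat_lit 36) (nat_lit 0x5001001)) (.cD (nat_lit 36) (.dfs (nat_lit 9) (nat_lit 4100) (nat_lit 4101) (nat_lit 1) (nat_lit 1) (nat_lit 3) (nat_lit 0) (nat_lit 1) (nat_lit 4128) (nat_lit 0x40020010008004002001) (nat_lit 0) (nat_lit 1) (nat_lit 0) (nat_lit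 1) (nat_lit 0) (nat_lit 1) (nat_lit 0) .nil) (.cD (nat_lit 48) (.kA true (nat_lit 0x700400100c002001001000002)) (.cD (nat_lit 52) (.kc (nat_lit 52) (nat_lit 0x7001001)) .nil)))))))) (.cD (nat_lit 24) (.kF (nat_lit 16) (nat_lit 0x1001000001006001002)) (.cD (nat_lit 32) (.kc (nat_lit 20) (nat_lit 0x3001001)) (.cD (nat_lit 48) (.dfs (nat_lit 32) (nat_lit 4100) (nat_lit 4100) (nat_lit 0x1002001) (nat_lit 0x1002001) (nat_lit 0) (nat_lit 0) (nat_lit 3) (nat_lit 0) (nat_lit 0) (nat_lit 0) (nat_lit 1) (nat_lit 0) (nat_lit 0x1008004) (nat_lit 32772) (nat_lit 0x1001004000008001014000018) (nat_lit 0x1000101110110) (.cD (nat_lit 4) (.kA true (nat_lit 0x100400200c002001001000002)) (.cD (nat_lit 8) (.kA false (nat_lit 0x300400600c002001001000002)) (.cD (nat_lit 16) (.kc (nat_lit 52) (nat_lit 0x7001001)) (.cD (nat_lit 20) (.kA true (nat_lit 0x700400200c002001001000002)) (.cD (nat_lit 24) (.kA false (nat_lit 0x500400600c002001001000002)) (.cD (nat_lit 32) (.kc (nat_lit 36) (nat_lit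 0x5001001)) (.cD (nat_lit 48) (.kc (nat_lit 48) (nat_lit 0x3001001)) .nil)))))))) .nil)))))))) (.cD (nat_lit 48) (.kF (nat_lit 4) (nat_lit 0x1002001002012004002002000003)) .nil))))))))))
theorem c513 : (chk [] [] p513).n x208 s513 = true := by decide +kernel
noncomputable def p514 : Pf := (.anc (nat_lit 68) (nat_lit 0x10002002002000002) (nat_lit 0x1009020010004) (.czp (nat_lit 64) (nat_lit 0) (nat_lit 0x1040020010008004) z6 (.dfs (nat_lit 4) (nat_lit 4097) (nat_lit 4097) (nat_lit 1) (nat_lit 1) (nat_lit 0) (nat_lit 0) (nat_lit 3) (nat_lit 0) (nat_lit 0) (nat_lit 0) (nat_lit 1) (nat_lit 0) (nat_lit 0x1008004) (nat_lit 32772) (nat_lit 0x1001004000008001014000018) (nat_lit 0x1000101110110) (.cD (nat_lit 4) (.dfs (nat_lit 16) (nat_lit 4098) (nat_lit 4098) (nat_lit 4097) (nat_lit 4097) (nat_lit 0) (nat_lit 0) (nat_lit 3) (nat_lit 0) (nat_lit 0) (nat_lit 0) (nat_lit 1) (nat_lit 0) (nat_lit 1) (nat_lit 0) (nat_lit 1) (nat_lit 0x11001100110010) (.cD (nat_lit 4) (.kc (nat_lit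 20) (nat_lit 0x3001001)) (.cD (nat_lit 16) (.dfs (nat_lit 32) (nat_lit 4100) (nat_lit 4100) (nat_lit 0x1002001) (nat_lit 0x1002001) (nat_lit 0) (nat_lit 0) (nat_lit 3) (nat_lit 0) (nat_lit 0) (nat_lit 0) (nat_lit 1) (nat_lit 0) (nat_lit 1) (nat_lit 0) (nat_lit 1) (nat_lit 0x11001100110010) (.cD (nat_lit 4) (.kc (nat_lit 36) (nat_lit 0x5001001)) (.cD (nat_lit 16) (.kc (nat_lit 48) (nat_lit 0x3001001)) (.cD (nat_lit 20) (.kc (nat_lit 52) (nat_lit 0x7001001)) (.cD (nat_lit 32) (.dfs (nat_lit 9) (nat_lit 0x1004001003008) (nat_lit 0x1005001003008) (nat_lit 4098) (nat_lit 4098) (nat_lit 3) (nat_lit 0) (nat_lit 2) (nat_lit 1) (nat_lit 0) (nat_lit 8) (nat_lit 1) (nat_lit 0) (nat_lit 1) (nat_lit 0) (nat_lit 1) (nat_lit 0) .nil) (.cD (nat_lit 36) (.kA true (nat_lit 0x100100000400100300d001001001000003)) (.cD (nat_lit 48) (.kA true (nat_lit 0x600800401000400400100300d001001001000003)) (.cD (nat_lit 52) (.kA true (nat_lit 0x5004003008001008004002005007001001000003)) .nil))))))))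 (.cD (nat_lit 20) (.dfs (nat_lit 32) (nat_lit 4100) (nat_lit 4100) (nat_lit 0x1002001) (nat_lit 0x1002001) (nat_lit 0) (nat_lit 0) (nat_lit 3) (nat_lit 0) (nat_lit 0) (nat_lit 0) (nat_lit 1) (nat_lit 0) (nat_lit 1) (nat_lit 0) (nat_lit 1) (nat_lit 0x11001100110010) (.cD (nat_lit 4) (.kc (nat_lit 36) (nat_lit 0x5001001)) (.cD (nat_lit 16) (.kc (nat_lit 52) (nat_lit 0x7001001)) (.cD (nat_lit 20) (.kc (nat_lit 48) (nat_lit 0x3001001)) (.cD (nat_lit 32) (.kA true (nat_lit 0x5004003008001008004002005007001001000003)) (.cD (nat_lit 36) (.dfs (nat_lit 9) (nat_lit 4102) (nat_lit 4103) (nat_lit 1) (nat_lit 1) (nat_lit 3) (nat_lit 0) (nat_lit 1) (nat_lit 4112) (nat_lit 0x40020010008004002001) (nat_lit 0) (nat_lit 1) (nat_lit 0) (nat_lit 1) (nat_lit 0) (nat_lit 1) (nat_lit 0) .nil) (.cD (nat_lit 48) (.kA true (nat_lit 0x400300500800100400100300c001002)) (.cD (nat_lit 52) (.kA true (nat_lit 0x400700100800100400100300c001002)) .nil)))))))) (.cD (nat_lit 32) (.kF (nat_lit 16) (nat_lit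 0x100400100c012004002002000003)) (.cD (nat_lit 36) (.kF (nat_lit 16) (nat_lit 0x100400100c012004002002000003)) (.cD (nat_lit 48) (.dfs (nat_lit 32) (nat_lit 4100) (nat_lit 4100) (nat_lit 0x1002001) (nat_lit 0x1002001) (nat_lit 0) (nat_lit 0) (nat_lit 3) (nat_lit 0) (nat_lit 0) (nat_lit 0) (nat_lit 1) (nat_lit 0) (nat_lit 1) (nat_lit 0) (nat_lit 1) (nat_lit 0x11001100110010) (.cD (nat_lit 4) (.kc (nat_lit 36) (nat_lit 0x5001001)) (.cD (nat_lit 16) (.kA true (nat_lit 0x400200100800100400100300c001002)) (.cD (nat_lit 20) (.kA true (nat_lit 0x400600500800100400100300c001002)) (.cD (nat_lit 32) (.kA true (nat_lit 0x5004003008001008004002005007001001000003)) (.cD (nat_lit 36) (.kA true (nat_lit 0x400500600800100400100300c001002)) (.cD (nat_lit 48) (.kc (nat_lit 48) (nat_lit 0x3001001)) (.cD (nat_lit 52) (.kc (nat_lit 52) (nat_lit 0x7001001)) .nil)))))))) (.cD (nat_lit 52) (.dfs (nat_lit 32) (nat_lit 4100) (nat_lit 4100) (nat_lit 0x1002001) (nat_lit 0x1002001) (nat_lit 0)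 (nat_lit 0) (nat_lit 3) (nat_lit 0) (nat_lit 0) (nat_lit 0) (nat_lit 1) (nat_lit 0) (nat_lit 1) (nat_lit 0) (nat_lit 1) (nat_lit 0x11001100110010) (.cD (nat_lit 4) (.kc (nat_lit 36) (nat_lit 0x5001001)) (.cD (nat_lit 16) (.kA true (nat_lit 0x400200500800100400100300c001002)) (.cD (nat_lit 20) (.kA true (nat_lit 0x400600100800100400100300c001002)) (.cD (nat_lit 32) (.kA true (nat_lit 0x5004003008001008004002005007001001000003)) (.cD (nat_lit 36) (.kA true (nat_lit 0x400500200800100400100300c001002)) (.cD (nat_lit 48) (.kc (nat_lit 52) (nat_lit 0x7001001)) (.cD (nat_lit 52) (.kc (nat_lit 48) (nat_lit 0x3001001)) .nil)))))))) .nil)))))))) (.cD (nat_lit 8) (.dfs (nat_lit 16) (nat_lit 4098) (nat_lit 4098) (nat_lit 4097) (nat_lit 4097) (nat_lit 0) (nat_lit 0) (nat_lit 3) (nat_lit 0) (nat_lit 0) (nat_lit 0) (nat_lit 1) (nat_lit 0) (nat_lit 1) (nat_lit 0) (nat_lit 1) (nat_lit 0x101010101010100) (.cD (nat_lit 8) (.kc (nat_lit 20) (nat_lit 0x3001001)) (.cD (nat_lit 16) (.dfs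 (nat_lit 32) (nat_lit 4100) (nat_lit 4100) (nat_lit 0x1002001) (nat_lit 0x1002001) (nat_lit 0) (nat_lit 0) (nat_lit 3) (nat_lit 0) (nat_lit 0) (nat_lit 0) (nat_lit 1) (nat_lit 0) (nat_lit 1) (nat_lit 0) (nat_lit 1) (nat_lit 0x101010101010100) (.cD (nat_lit 8) (.kc (nat_lit 36) (nat_lit 0x5001001)) (.cD (nat_lit 16) (.kc (nat_lit 48) (nat_lit 0x3001001)) (.cD (nat_lit 24) (.kc (nat_lit 52) (nat_lit 0x7001001)) (.cD (nat_lit 32) (.kA false (nat_lit 0x300400200c00200e004008014005001001000003)) (.cD (nat_lit 40) (.kA false (nat_lit 0x100100000300500200d002001001000003)) (.cD (nat_lit 48) (.kA false (nat_lit 0x200800c01000400500300200b002001001000003)) (.cD (nat_lit 56) (.kA false (nat_lit 0x500400200c00200e004008014005001001000003)) .nil)))))))) (.cD (nat_lit 24) (.dfs (nat_lit 32) (nat_lit 4100) (nat_lit 4100) (nat_lit 0x1002001) (nat_lit 0x1002001) (nat_lit 0) (nat_lit 0) (nat_lit 3) (nat_lit 0) (nat_lit 0) (nat_lit 0) (nat_lit 1) (nat_lit 0) (nat_lit 1) (nat_lit 0)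 (nat_lit 1) (nat_lit 0x101010101010100) (.cD (nat_lit 8) (.kc (nat_lit 36) (nat_lit 0x5001001)) (.cD (nat_lit 16) (.kc (nat_lit 52) (nat_lit 0x7001001)) (.cD (nat_lit 24) (.kc (nat_lit 48) (nat_lit 0x3001001)) (.cD (nat_lit 32) (.kA false (nat_lit 0x700400600c00200e004008014005001001000003)) (.cD (nat_lit 40) (.kA false (nat_lit 0x100100000700500600d002001001000003)) (.cD (nat_lit 48) (.kA false (nat_lit 0x100400600c00200e004008014005001001000003)) (.cD (nat_lit 56) (.kA false (nat_lit 0x400800a01000400100300600b002001001000003)) .nil)))))))) (.cD (nat_lit 32) (.kF (nat_lit 16) (nat_lit 0x100400100c012004002002000003)) (.cD (nat_lit 40) (.kF (nat_lit 16) (nat_lit 0x100400100c012004002002000003)) (.cD (nat_lit 48) (.kF (nat_lit 16) (nat_lit 0x100100000e014006001006001003)) (.cD (nat_lit 56) (.kF (nat_lit 16) (nat_lit 0x100100000a014006001006001003)) .nil)))))))) (.cD (nat_lit 16) (.kF (nat_lit 4) (nat_lit 0x2002000001003001002)) (.cD (nat_lit 20) (.kF (nat_lit 4) (nat_lit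 0xe01e003001003001002)) (.cD (nat_lit 24) (.kF (nat_lit 4) (nat_lit 0x1002001002012004002002000003)) (.cD (nat_lit 32) (.dfs (nat_lit 16) (nat_lit 4098) (nat_lit 4098) (nat_lit 4097) (nat_lit 4097) (nat_lit 0) (nat_lit 0) (nat_lit 3) (nat_lit 0) (nat_lit 0) (nat_lit 0) (nat_lit 1) (nat_lit 0) (nat_lit 0x1008004) (nat_lit 32772) (nat_lit 0x1001004000008001014000018) (nat_lit 0x1000101110110) (.cD (nat_lit 4) (.kF (nat_lit 16) (nat_lit 0x1001000001006001002)) (.cD (nat_lit 8) (.kF (nat_lit 16) (nat_lit 0x100400100c012004002002000003)) (.cD (nat_lit 16) (.dfs (nat_lit 32) (nat_lit 4100) (nat_lit 4100) (nat_lit 0x1002001) (nat_lit 0x1002001) (nat_lit 0) (nat_lit 0) (nat_lit 3) (nat_lit 0) (nat_lit 0) (nat_lit 0) (nat_lit 1) (nat_lit 0) (nat_lit 0x1008004) (nat_lit 32772) (nat_lit 0x1001004000008001014000018) (nat_lit 0x1000101110110) (.cD (nat_lit 4) (.kA true (nat_lit 0x100400600c002001001000002)) (.cD (nat_lit 8) (.kA false (nat_lit 0x700400200c002001001000002)) (.cD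 (nat_lit 16) (.kc (nat_lit 48) (nat_lit 0x3001001)) (.cD (nat_lit 20) (.kA true (nat_lit 0x300400600c002001001000002)) (.cD (nat_lit 24) (.kA false (nat_lit 0x500400200c002001001000002)) (.cD (nat_lit 32) (.kc (nat_lit 36) (nat_lit 0x5001001)) (.cD (nat_lit 48) (.kc (nat_lit 52) (nat_lit 0x7001001)) .nil)))))))) (.cD (nat_lit 20) (.dfs (nat_lit 32) (nat_lit 4100) (nat_lit 4100) (nat_lit 0x1002001) (nat_lit 0x1002001) (nat_lit 0) (nat_lit 0) (nat_lit 3) (nat_lit 0) (nat_lit 0) (nat_lit 0) (nat_lit 1) (nat_lit 0) (nat_lit 1) (nat_lit 0) (nat_lit 1) (nat_lit 0x11001100110010) (.cD (nat_lit 4) (.kA true (nat_lit 0x100400700c002001001000002)) (.cD (nat_lit 16) (.kA true (nat_lit 0x300400500c002001001000002)) (.cD (nat_lit 20) (.kc (nat_lit 48) (nat_lit 0x3001001)) (.cD (nat_lit 32) (.kc (nat_lit 36) (nat_lit 0x5001001)) (.cD (nat_lit 36) (.dfs (nat_lit 9) (nat_lit 4100) (nat_lit 4101) (nat_lit 1) (nat_lit 1) (nat_lit 3) (nat_lit 0) (nat_lit 1) (nat_lit 4128) (nat_lit 0x40020010008004002001)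 (nat_lit 0) (nat_lit 1) (nat_lit 0) (nat_lit 1) (nat_lit 0) (nat_lit 1) (nat_lit 0) .nil) (.cD (nat_lit 48) (.kA true (nat_lit 0x700400100c002001001000002)) (.cD (nat_lit 52) (.kc (nat_lit 52) (nat_lit 0x7001001)) .nil)))))))) (.cD (nat_lit 24) (.kF (nat_lit 16) (nat_lit 0x1001000001006001002)) (.cD (nat_lit 32) (.kc (nat_lit 20) (nat_lit 0x3001001)) (.cD (nat_lit 48) (.dfs (nat_lit 32) (nat_lit 4100) (nat_lit 4100) (nat_lit 0x1002001) (nat_lit 0x1002001) (nat_lit 0) (nat_lit 0) (nat_lit 3) (nat_lit 0) (nat_lit 0) (nat_lit 0) (nat_lit 1) (nat_lit 0) (nat_lit 0x1008004) (nat_lit 32772) (nat_lit 0x1001004000008001014000018) (nat_lit 0x1000101110110) (.cD (nat_lit 4) (.kA true (nat_lit 0x100400200c002001001000002)) (.cD (nat_lit 8) (.kA false (nat_lit 0x300400600c002001001000002)) (.cD (nat_lit 16) (.kc (nat_lit 52) (nat_lit 0x7001001)) (.cD (nat_lit 20) (.kA true (nat_lit 0x700400200c002001001000002)) (.cD (nat_lit 24) (.kA false (nat_lit 0x500400600c002001001000002))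 (.cD (nat_lit 32) (.kc (nat_lit 36) (nat_lit 0x5001001)) (.cD (nat_lit 48) (.kc (nat_lit 48) (nat_lit 0x3001001)) .nil)))))))) .nil)))))))) (.cD (nat_lit 48) (.kF (nat_lit 4) (nat_lit 0x1002001002012004002002000003)) .nil))))))))))
theorem c514 : (chk [] [] p514).n x209 s514 = true := by decide +kernel
noncomputable def p515 : Pf := (.anc (nat_lit 68) (nat_lit 0x10002002002000002) (nat_lit 0x1009020010004) (.czp (nat_lit 64) (nat_lit 0) (nat_lit 0x1040020010008004) z6 (.dfs (nat_lit 4) (nat_lit 4097) (nat_lit 4097) (nat_lit 1) (nat_lit 1) (nat_lit 0) (nat_lit 0) (nat_lit 3) (nat_lit 0) (nat_lit 0) (nat_lit 0) (nat_lit 1) (nat_lit 0) (nat_lit 0x1008004) (nat_lit 32772) (nat_lit 0x1001004000008001014000018) (nat_lit 0x1000101110110) (.cD (nat_lit 4) (.dfs (nat_lit 16) (nat_lit 4098) (nat_lit 4098) (nat_lit 4097) (nat_lit 4097) (nat_lit 0) (nat_lit 0) (nat_lit 3) (nat_lit 0) (nat_lit 0) (nat_lit 0) (nat_lit 1) (nat_lit 0) (nat_lit 1) (nat_lit 0) (nat_lit 1) (nat_lit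 0x11001100110010) (.cD (nat_lit 4) (.kc (nat_lit 20) (nat_lit 0x3001001)) (.cD (nat_lit 16) (.dfs (nat_lit 32) (nat_lit 4100) (nat_lit 4100) (nat_lit 0x1002001) (nat_lit 0x1002001) (nat_lit 0) (nat_lit 0) (nat_lit 3) (nat_lit 0) (nat_lit 0) (nat_lit 0) (nat_lit 1) (nat_lit 0) (nat_lit 1) (nat_lit 0) (nat_lit 1) (nat_lit 0x11001100110010) (.cD (nat_lit 4) (.kc (nat_lit 36) (nat_lit 0x5001001)) (.cD (nat_lit 16) (.kc (nat_lit 48) (nat_lit 0x3001001)) (.cD (nat_lit 20) (.kc (nat_lit 52) (nat_lit 0x7001001)) (.cD (nat_lit 32) (.dfs (nat_lit 9) (nat_lit 0x1004001003008) (nat_lit 0x1005001003008) (nat_lit 4098) (nat_lit 4098) (nat_lit 1) (nat_lit 0) (nat_lit 2) (nat_lit 1) (nat_lit 0) (nat_lit 8) (nat_lit 1) (nat_lit 0) (nat_lit 4100) (nat_lit 4) (nat_lit 0x100000c00001c) (nat_lit 0x10001000) (.cD (nat_lit 12) (.kA false (nat_lit 0xf00200401000100200200000d002004016002013003000004)) (.cD (nat_lit 28) (.kA false (nat_lit 0xb002004010001002002000009002004016002013003000004))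 .nil))) (.cD (nat_lit 36) (.kA true (nat_lit 0x1100100000400100300d001011001000003)) (.cD (nat_lit 48) (.kA true (nat_lit 0x600800401000400400100300d001011001000003)) (.cD (nat_lit 52) (.kA true (nat_lit 0x5004003008001008004002005007011001000003)) .nil)))))))) (.cD (nat_lit 20) (.dfs (nat_lit 32) (nat_lit 4100) (nat_lit 4100) (nat_lit 0x1002001) (nat_lit 0x1002001) (nat_lit 0) (nat_lit 0) (nat_lit 3) (nat_lit 0) (nat_lit 0) (nat_lit 0) (nat_lit 1) (nat_lit 0) (nat_lit 1) (nat_lit 0) (nat_lit 1) (nat_lit 0x11001100110010) (.cD (nat_lit 4) (.kc (nat_lit 36) (nat_lit 0x5001001)) (.cD (nat_lit 16) (.kc (nat_lit 52) (nat_lit 0x7001001)) (.cD (nat_lit 20) (.kc (nat_lit 48) (nat_lit 0x3001001)) (.cD (nat_lit 32) (.kA true (nat_lit 0x5004003008001008004002005007011001000003)) (.cD (nat_lit 36) (.dfs (nat_lit 9) (nat_lit 4102) (nat_lit 4103) (nat_lit 1) (nat_lit 1) (nat_lit 1) (nat_lit 0) (nat_lit 1) (nat_lit 4112) (nat_lit 0x40020010008004002011) (nat_lit 0) (nat_lit 1)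 (nat_lit 0) (nat_lit 1) (nat_lit 0) (nat_lit 1) (nat_lit 0) .nil) (.cD (nat_lit 48) (.kA true (nat_lit 0x400300500800100400100300c001002)) (.cD (nat_lit 52) (.kA true (nat_lit 0x400700100800100400100300c001002)) .nil)))))))) (.cD (nat_lit 32) (.kF (nat_lit 16) (nat_lit 0x100400100c012004002002000003)) (.cD (nat_lit 36) (.kF (nat_lit 16) (nat_lit 0x100400100c012004002002000003)) (.cD (nat_lit 48) (.dfs (nat_lit 32) (nat_lit 4100) (nat_lit 4100) (nat_lit 0x1002001) (nat_lit 0x1002001) (nat_lit 0) (nat_lit 0) (nat_lit 3) (nat_lit 0) (nat_lit 0) (nat_lit 0) (nat_lit 1) (nat_lit 0) (nat_lit 1) (nat_lit 0) (nat_lit 1) (nat_lit 0x11001100110010) (.cD (nat_lit 4) (.kc (nat_lit 36) (nat_lit 0x5001001)) (.cD (nat_lit 16) (.kA true (nat_lit 0x400200100800100400100300c001002)) (.cD (nat_lit 20) (.kA true (nat_lit 0x400600500800100400100300c001002)) (.cD (nat_lit 32) (.kA true (nat_lit 0x5004003008001008004002005007011001000003)) (.cD (nat_lit 36) (.kA true (nat_lit 0x400500600800100400100300c001002))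 (.cD (nat_lit 48) (.kc (nat_lit 48) (nat_lit 0x3001001)) (.cD (nat_lit 52) (.kc (nat_lit 52) (nat_lit 0x7001001)) .nil)))))))) (.cD (nat_lit 52) (.dfs (nat_lit 32) (nat_lit 4100) (nat_lit 4100) (nat_lit 0x1002001) (nat_lit 0x1002001) (nat_lit 0) (nat_lit 0) (nat_lit 3) (nat_lit 0) (nat_lit 0) (nat_lit 0) (nat_lit 1) (nat_lit 0) (nat_lit 1) (nat_lit 0) (nat_lit 1) (nat_lit 0x11001100110010) (.cD (nat_lit 4) (.kc (nat_lit 36) (nat_lit 0x5001001)) (.cD (nat_lit 16) (.kA true (nat_lit 0x400200500800100400100300c001002)) (.cD (nat_lit 20) (.kA true (nat_lit 0x400600100800100400100300c001002)) (.cD (nat_lit 32) (.kA true (nat_lit 0x5004003008001008004002005007011001000003)) (.cD (nat_lit 36) (.kA true (nat_lit 0x400500200800100400100300c001002)) (.cD (nat_lit 48) (.kc (nat_lit 52) (nat_lit 0x7001001)) (.cD (nat_lit 52) (.kc (nat_lit 48) (nat_lit 0x3001001)) .nil)))))))) .nil)))))))) (.cD (nat_lit 8) (.dfs (nat_lit 16) (nat_lit 4098) (nat_lit 4098) (nat_lit 4097) (nat_lit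 4097) (nat_lit 0) (nat_lit 0) (nat_lit 3) (nat_lit 0) (nat_lit 0) (nat_lit 0) (nat_lit 1) (nat_lit 0) (nat_lit 1) (nat_lit 0) (nat_lit 1) (nat_lit 0x101010101010100) (.cD (nat_lit 8) (.kc (nat_lit 20) (nat_lit 0x3001001)) (.cD (nat_lit 16) (.dfs (nat_lit 32) (nat_lit 4100) (nat_lit 4100) (nat_lit 0x1002001) (nat_lit 0x1002001) (nat_lit 0) (nat_lit 0) (nat_lit 3) (nat_lit 0) (nat_lit 0) (nat_lit 0) (nat_lit 1) (nat_lit 0) (nat_lit 1) (nat_lit 0) (nat_lit 1) (nat_lit 0x101010101010100) (.cD (nat_lit 8) (.kc (nat_lit 36) (nat_lit 0x5001001)) (.cD (nat_lit 16) (.kc (nat_lit 48) (nat_lit 0x3001001)) (.cD (nat_lit 24) (.kc (nat_lit 52) (nat_lit 0x7001001)) (.cD (nat_lit 32) (.kA false (nat_lit 0x300400200c00200e004008014005011001000003)) (.cD (nat_lit 40) (.kA false (nat_lit 0x1100100000300500200d002011001000003)) (.cD (nat_lit 48) (.kA false (nat_lit 0x200800c01000400500300200b002011001000003)) (.cD (nat_lit 56) (.kA false (nat_lit 0x500400200c00200e004008014005011001000003))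 .nil)))))))) (.cD (nat_lit 24) (.dfs (nat_lit 32) (nat_lit 4100) (nat_lit 4100) (nat_lit 0x1002001) (nat_lit 0x1002001) (nat_lit 0) (nat_lit 0) (nat_lit 3) (nat_lit 0) (nat_lit 0) (nat_lit 0) (nat_lit 1) (nat_lit 0) (nat_lit 1) (nat_lit 0) (nat_lit 1) (nat_lit 0x101010101010100) (.cD (nat_lit 8) (.kc (nat_lit 36) (nat_lit 0x5001001)) (.cD (nat_lit 16) (.kc (nat_lit 52) (nat_lit 0x7001001)) (.cD (nat_lit 24) (.kc (nat_lit 48) (nat_lit 0x3001001)) (.cD (nat_lit 32) (.kA false (nat_lit 0x700400600c00200e004008014005011001000003)) (.cD (nat_lit 40) (.kA false (nat_lit 0x1100100000700500600d002011001000003)) (.cD (nat_lit 48) (.kA false (nat_lit 0x100400600c00200e004008014005011001000003)) (.cD (nat_lit 56) (.kA false (nat_lit 0x400800a01000400100300600b002011001000003)) .nil)))))))) (.cD (nat_lit 32) (.kF (nat_lit 16) (nat_lit 0x100400100c012004002002000003)) (.cD (nat_lit 40) (.kF (nat_lit 16) (nat_lit 0x100400100c012004002002000003)) (.cD (nat_lit 48) (.kF (nat_lit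 16) (nat_lit 0x1100100000e014006001006001003)) (.cD (nat_lit 56) (.kF (nat_lit 16) (nat_lit 0x1100100000a014006001006001003)) .nil)))))))) (.cD (nat_lit 16) (.kF (nat_lit 4) (nat_lit 0x2002000001003001002)) (.cD (nat_lit 20) (.kF (nat_lit 4) (nat_lit 0xe01e003001003001002)) (.cD (nat_lit 24) (.kF (nat_lit 4) (nat_lit 0x1002001002012004002002000003)) (.cD (nat_lit 32) (.dfs (nat_lit 16) (nat_lit 4098) (nat_lit 4098) (nat_lit 4097) (nat_lit 4097) (nat_lit 0) (nat_lit 0) (nat_lit 3) (nat_lit 0) (nat_lit 0) (nat_lit 0) (nat_lit 1) (nat_lit 0) (nat_lit 0x1008004) (nat_lit 32772) (nat_lit 0x1001004000008001014000018) (nat_lit 0x1000101110110) (.cD (nat_lit 4) (.kF (nat_lit 16) (nat_lit 0x11001000001006001002)) (.cD (nat_lit 8) (.kF (nat_lit 16) (nat_lit 0x100400100c012004002002000003)) (.cD (nat_lit 16) (.dfs (nat_lit 32) (nat_lit 4100) (nat_lit 4100) (nat_lit 0x1002001) (nat_lit 0x1002001) (nat_lit 0) (nat_lit 0) (nat_lit 3) (nat_lit 0) (nat_lit 0) (nat_lit 0) (nat_lit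 1) (nat_lit 0) (nat_lit 0x1008004) (nat_lit 32772) (nat_lit 0x1001004000008001014000018) (nat_lit 0x1000101110110) (.cD (nat_lit 4) (.kA true (nat_lit 0x100400600c002011001000002)) (.cD (nat_lit 8) (.kA false (nat_lit 0x700400200c002011001000002)) (.cD (nat_lit 16) (.kc (nat_lit 48) (nat_lit 0x3001001)) (.cD (nat_lit 20) (.kA true (nat_lit 0x300400600c002011001000002)) (.cD (nat_lit 24) (.kA false (nat_lit 0x500400200c002011001000002)) (.cD (nat_lit 32) (.kc (nat_lit 36) (nat_lit 0x5001001)) (.cD (nat_lit 48) (.kc (nat_lit 52) (nat_lit 0x7001001)) .nil)))))))) (.cD (nat_lit 20) (.dfs (nat_lit 32) (nat_lit 4100) (nat_lit 4100) (nat_lit 0x1002001) (nat_lit 0x1002001) (nat_lit 0) (nat_lit 0) (nat_lit 3) (nat_lit 0) (nat_lit 0) (nat_lit 0) (nat_lit 1) (nat_lit 0) (nat_lit 1) (nat_lit 0) (nat_lit 1) (nat_lit 0x11001100110010) (.cD (nat_lit 4) (.kA true (nat_lit 0x100400700c002011001000002)) (.cD (nat_lit 16) (.kA true (nat_lit 0x300400500c002011001000002)) (.cD (nat_lit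 20) (.kc (nat_lit 48) (nat_lit 0x3001001)) (.cD (nat_lit 32) (.kc (nat_lit 36) (nat_lit 0x5001001)) (.cD (nat_lit 36) (.dfs (nat_lit 9) (nat_lit 4100) (nat_lit 4101) (nat_lit 1) (nat_lit 1) (nat_lit 1) (nat_lit 0) (nat_lit 1) (nat_lit 4128) (nat_lit 0x40020010008004002011) (nat_lit 0) (nat_lit 1) (nat_lit 0) (nat_lit 1) (nat_lit 0) (nat_lit 1) (nat_lit 0) .nil) (.cD (nat_lit 48) (.kA true (nat_lit 0x700400100c002011001000002)) (.cD (nat_lit 52) (.kc (nat_lit 52) (nat_lit 0x7001001)) .nil)))))))) (.cD (nat_lit 24) (.kF (nat_lit 16) (nat_lit 0x11001000001006001002)) (.cD (nat_lit 32) (.kc (nat_lit 20) (nat_lit 0x3001001)) (.cD (nat_lit 48) (.dfs (nat_lit 32) (nat_lit 4100) (nat_lit 4100) (nat_lit 0x1002001) (nat_lit 0x1002001) (nat_lit 0) (nat_lit 0) (nat_lit 3) (nat_lit 0) (nat_lit 0) (nat_lit 0) (nat_lit 1) (nat_lit 0) (nat_lit 0x1008004) (nat_lit 32772) (nat_lit 0x1001004000008001014000018) (nat_lit 0x1000101110110) (.cD (nat_lit 4) (.kA true (nat_lit 0x100400200c002011001000002))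 (.cD (nat_lit 8) (.kA false (nat_lit 0x300400600c002011001000002)) (.cD (nat_lit 16) (.kc (nat_lit 52) (nat_lit 0x7001001)) (.cD (nat_lit 20) (.kA true (nat_lit 0x700400200c002011001000002)) (.cD (nat_lit 24) (.kA false (nat_lit 0x500400600c002011001000002)) (.cD (nat_lit 32) (.kc (nat_lit 36) (nat_lit 0x5001001)) (.cD (nat_lit 48) (.kc (nat_lit 48) (nat_lit 0x3001001)) .nil)))))))) .nil)))))))) (.cD (nat_lit 48) (.kF (nat_lit 4) (nat_lit 0x1002001002012004002002000003)) .nil))))))))))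
theorem c515 : (chk [] [] p515).n x210 s515 = true := by decide +kernel
noncomputable def p516 : Pf := (.anc (nat_lit 72) (nat_lit 0x11001000014004002) (nat_lit 0x1003020010008) (.czp (nat_lit 64) (nat_lit 0) (nat_lit 0x1040020010008004) z6 (.dfs (nat_lit 8) (nat_lit 4097) (nat_lit 4097) (nat_lit 1) (nat_lit 1) (nat_lit 0) (nat_lit 0) (nat_lit 3) (nat_lit 0) (nat_lit 0) (nat_lit 0) (nat_lit 1) (nat_lit 0) (nat_lit 0x1008004) (nat_lit 32772) (nat_lit 0x1001004000008001014000018) (nat_lit 0x1000101110110) (.cD (nat_lit 4) (.dfs (nat_lit 16) (nat_lit 4098) (nat_lit 4098) (nat_lit 4097) (nat_lit 4097) (nat_lit 0) (nat_lit 0) (nat_lit 3) (nat_lit 0) (nat_lit 0) (nat_lit 0) (nat_lit 1) (nat_lit 0) (nat_lit 1) (nat_lit 0) (nat_lit 1) (nat_lit 0x11001100110010) (.cD (nat_lit 4) (.kc (nat_lit 24) (nat_lit 0x3001001)) (.cD (nat_lit 16) (.dfs (nat_lit 32) (nat_lit 4100) (nat_lit 4100) (nat_lit 0x1002001) (nat_lit 0x1002001) (nat_lit 0) (nat_lit 0) (nat_lit 3) (nat_lit 0) (nat_lit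 0) (nat_lit 0) (nat_lit 1) (nat_lit 0) (nat_lit 1) (nat_lit 0) (nat_lit 1) (nat_lit 0x11001100110010) (.cD (nat_lit 4) (.kc (nat_lit 40) (nat_lit 0x5001001)) (.cD (nat_lit 16) (.kc (nat_lit 48) (nat_lit 0x3001001)) (.cD (nat_lit 20) (.kc (nat_lit 56) (nat_lit 0x7001001)) (.cD (nat_lit 32) (.kA false (nat_lit 0x300400200800100e004008014005011001000003)) (.cD (nat_lit 36) (.kA false (nat_lit 0x1100100000700100200d001011001000003)) (.cD (nat_lit 48) (.kA false (nat_lit 0x200800c01000400700100200d001011001000003)) (.cD (nat_lit 52) (.kA false (nat_lit 0x300400200800100e004008014005011001000003)) .nil)))))))) (.cD (nat_lit 20) (.dfs (nat_lit 32) (nat_lit 4100) (nat_lit 4100) (nat_lit 0x1002001) (nat_lit 0x1002001) (nat_lit 0) (nat_lit 0) (nat_lit 3) (nat_lit 0) (nat_lit 0) (nat_lit 0) (nat_lit 1) (nat_lit 0) (nat_lit 1) (nat_lit 0) (nat_lit 1) (nat_lit 0x11001100110010) (.cD (nat_lit 4) (.kc (nat_lit 40) (nat_lit 0x5001001)) (.cD (nat_lit 16) (.kc (nat_lit 56) (nat_lit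 0x7001001)) (.cD (nat_lit 20) (.kc (nat_lit 48) (nat_lit 0x3001001)) (.cD (nat_lit 32) (.kA false (nat_lit 0x300400200800100e004008014005011001000003)) (.cD (nat_lit 36) (.kA false (nat_lit 0x1100100000700100200d001011001000003)) (.cD (nat_lit 48) (.kA false (nat_lit 0x400800a01000400700100200d001011001000003)) (.cD (nat_lit 52) (.kA false (nat_lit 0x300400200800100e004008014005011001000003)) .nil)))))))) (.cD (nat_lit 32) (.kF (nat_lit 16) (nat_lit 0x4010004002002000001006001003)) (.cD (nat_lit 36) (.kF (nat_lit 16) (nat_lit 0x11001000001007001002002000003)) (.cD (nat_lit 48) (.dfs (nat_lit 32) (nat_lit 4100) (nat_lit 4100) (nat_lit 0x1002001) (nat_lit 0x1002001) (nat_lit 0) (nat_lit 0) (nat_lit 3) (nat_lit 0) (nat_lit 0) (nat_lit 0) (nat_lit 1) (nat_lit 0) (nat_lit 1) (nat_lit 0) (nat_lit 1) (nat_lit 0x11001100110010) (.cD (nat_lit 4) (.kc (nat_lit 40) (nat_lit 0x5001001)) (.cD (nat_lit 16) (.kA false (nat_lit 0x600c00801e00300700100200d001011001000003)) (.cD (nat_lit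 20) (.kA false (nat_lit 0x200200000700100200d001011001000003)) (.cD (nat_lit 32) (.kA false (nat_lit 0x300400200800100e004008014005011001000003)) (.cD (nat_lit 36) (.kA false (nat_lit 0x1100100000700100200d001011001000003)) (.cD (nat_lit 48) (.kc (nat_lit 48) (nat_lit 0x3001001)) (.cD (nat_lit 52) (.kc (nat_lit 56) (nat_lit 0x7001001)) .nil)))))))) (.cD (nat_lit 52) (.dfs (nat_lit 32) (nat_lit 4100) (nat_lit 4100) (nat_lit 0x1002001) (nat_lit 0x1002001) (nat_lit 0) (nat_lit 0) (nat_lit 3) (nat_lit 0) (nat_lit 0) (nat_lit 0) (nat_lit 1) (nat_lit 0) (nat_lit 1) (nat_lit 0) (nat_lit 1) (nat_lit 0x11001100110010) (.cD (nat_lit 4) (.kc (nat_lit 40) (nat_lit 0x5001001)) (.cD (nat_lit 16) (.kA false (nat_lit 0x400c00a01e00300700100200d001011001000003)) (.cD (nat_lit 20) (.kA false (nat_lit 0x200200000700100200d001011001000003)) (.cD (nat_lit 32) (.kA false (nat_lit 0x300400200800100e004008014005011001000003)) (.cD (nat_lit 36) (.kA false (nat_lit 0x1100100000700100200d001011001000003))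 (.cD (nat_lit 48) (.kc (nat_lit 56) (nat_lit 0x7001001)) (.cD (nat_lit 52) (.kc (nat_lit 48) (nat_lit 0x3001001)) .nil)))))))) .nil)))))))) (.cD (nat_lit 8) (.dfs (nat_lit 16) (nat_lit 4098) (nat_lit 4098) (nat_lit 4097) (nat_lit 4097) (nat_lit 0) (nat_lit 0) (nat_lit 3) (nat_lit 0) (nat_lit 0) (nat_lit 0) (nat_lit 1) (nat_lit 0) (nat_lit 1) (nat_lit 0) (nat_lit 1) (nat_lit 0x101010101010100) (.cD (nat_lit 8) (.kc (nat_lit 24) (nat_lit 0x3001001)) (.cD (nat_lit 16) (.dfs (nat_lit 32) (nat_lit 4100) (nat_lit 4100) (nat_lit 0x1002001) (nat_lit 0x1002001) (nat_lit 0) (nat_lit 0) (nat_lit 3) (nat_lit 0) (nat_lit 0) (nat_lit 0) (nat_lit 1) (nat_lit 0) (nat_lit 1) (nat_lit 0) (nat_lit 1) (nat_lit 0x101010101010100) (.cD (nat_lit 8) (.kc (nat_lit 40) (nat_lit 0x5001001)) (.cD (nat_lit 16) (.kc (nat_lit 48) (nat_lit 0x3001001)) (.cD (nat_lit 24) (.kc (nat_lit 56) (nat_lit 0x7001001)) (.cD (nat_lit 32) (.kA false (nat_lit 0x300400200800100e004008014005011001000003)) (.cD (nat_lit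 40) (.kA false (nat_lit 0x1100100000700100200d001011001000003)) (.cD (nat_lit 48) (.dfs (nat_lit 3) (nat_lit 0x1004003002008) (nat_lit 0x1007003002008) (nat_lit 4097) (nat_lit 4097) (nat_lit 2) (nat_lit 0) (nat_lit 2) (nat_lit 0) (nat_lit 0) (nat_lit 4) (nat_lit 1) (nat_lit 0) (nat_lit 1) (nat_lit 0) (nat_lit 1) (nat_lit 0) .nil) (.cD (nat_lit 56) (.dfs (nat_lit 3) (nat_lit 4101) (nat_lit 4102) (nat_lit 1) (nat_lit 1) (nat_lit 2) (nat_lit 0) (nat_lit 1) (nat_lit 4144) (nat_lit 0x40020010008004002011) (nat_lit 0) (nat_lit 1) (nat_lit 0) (nat_lit 1) (nat_lit 0) (nat_lit 1) (nat_lit 0) .nil) .nil)))))))) (.cD (nat_lit 24) (.dfs (nat_lit 32) (nat_lit 4100) (nat_lit 4100) (nat_lit 0x1002001) (nat_lit 0x1002001) (nat_lit 0) (nat_lit 0) (nat_lit 3) (nat_lit 0) (nat_lit 0) (nat_lit 0) (nat_lit 1) (nat_lit 0) (nat_lit 1) (nat_lit 0) (nat_lit 1) (nat_lit 0x101010101010100) (.cD (nat_lit 8) (.kc (nat_lit 40) (nat_lit 0x5001001)) (.cD (nat_lit 16) (.kc (nat_lit 56) (nat_lit 0x7001001))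 (.cD (nat_lit 24) (.kc (nat_lit 48) (nat_lit 0x3001001)) (.cD (nat_lit 32) (.kA false (nat_lit 0x300400200800100e004008014005011001000003)) (.cD (nat_lit 40) (.kA false (nat_lit 0x1100100000700100200d001011001000003)) (.cD (nat_lit 48) (.kA false (nat_lit 0x300400200800100e004008014005011001000003)) (.cD (nat_lit 56) (.kA false (nat_lit 0x300400200800100e004008014005011001000003)) .nil)))))))) (.cD (nat_lit 32) (.kF (nat_lit 8) (nat_lit 0x3006002004004000002007001002002000004)) (.cD (nat_lit 40) (.kF (nat_lit 8) (nat_lit 0x11001000002007001002002000003)) (.cD (nat_lit 48) (.kF (nat_lit 16) (nat_lit 0x1100100000e014006001006001003)) (.cD (nat_lit 56) (.kF (nat_lit 16) (nat_lit 0x1100100000a014006001006001003)) .nil)))))))) (.cD (nat_lit 16) (.kF (nat_lit 8) (nat_lit 0x2002000001003001002)) (.cD (nat_lit 20) (.kF (nat_lit 8) (nat_lit 0xe01e003001003001002)) (.cD (nat_lit 24) (.kF (nat_lit 8) (nat_lit 0x11001000002014006011001000001003001004)) (.cD (nat_lit 32) (.dfs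 (nat_lit 16) (nat_lit 4098) (nat_lit 4098) (nat_lit 4097) (nat_lit 4097) (nat_lit 0) (nat_lit 0) (nat_lit 3) (nat_lit 0) (nat_lit 0) (nat_lit 0) (nat_lit 1) (nat_lit 0) (nat_lit 0x1008004) (nat_lit 32772) (nat_lit 0x1001004000008001014000018) (nat_lit 0x1000101110110) (.cD (nat_lit 4) (.kF (nat_lit 16) (nat_lit 0x11001000001006001002)) (.cD (nat_lit 8) (.kF (nat_lit 8) (nat_lit 0x11001000004016005002007001002002000004)) (.cD (nat_lit 16) (.dfs (nat_lit 32) (nat_lit 4100) (nat_lit 4100) (nat_lit 0x1002001) (nat_lit 0x1002001) (nat_lit 0) (nat_lit 0) (nat_lit 3) (nat_lit 0) (nat_lit 0) (nat_lit 0) (nat_lit 1) (nat_lit 0) (nat_lit 0x1008004) (nat_lit 32772) (nat_lit 0x1001004000008001014000018) (nat_lit 0x1000101110110) (.cD (nat_lit 4) (.kA false (nat_lit 0x1100100000400100200c001002)) (.cD (nat_lit 8) (.kA false (nat_lit 0x700400200c002011001000002)) (.cD (nat_lit 16) (.kc (nat_lit 48) (nat_lit 0x3001001)) (.cD (nat_lit 20) (.kA false (nat_lit 0x1100100000400100200c001002))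 (.cD (nat_lit 24) (.dfs (nat_lit 3) (nat_lit 4100) (nat_lit 4103) (nat_lit 1) (nat_lit 1) (nat_lit 2) (nat_lit 0) (nat_lit 1) (nat_lit 4128) (nat_lit 0x40020010008004002011) (nat_lit 0) (nat_lit 1) (nat_lit 0) (nat_lit 1) (nat_lit 0) (nat_lit 1) (nat_lit 0) .nil) (.cD (nat_lit 32) (.kc (nat_lit 40) (nat_lit 0x5001001)) (.cD (nat_lit 48) (.kc (nat_lit 56) (nat_lit 0x7001001)) .nil)))))))) (.cD (nat_lit 20) (.dfs (nat_lit 32) (nat_lit 4100) (nat_lit 4100) (nat_lit 0x1002001) (nat_lit 0x1002001) (nat_lit 0) (nat_lit 0) (nat_lit 3) (nat_lit 0) (nat_lit 0) (nat_lit 0) (nat_lit 1) (nat_lit 0) (nat_lit 1) (nat_lit 0) (nat_lit 1) (nat_lit 0x11001100110010) (.cD (nat_lit 4) (.kA false (nat_lit 0x1100100000400100200c001002)) (.cD (nat_lit 16) (.kA false (nat_lit 0x1100100000400100200c001002)) (.cD (nat_lit 20) (.kc (nat_lit 48) (nat_lit 0x3001001)) (.cD (nat_lit 32) (.kc (nat_lit 40) (nat_lit 0x5001001)) (.cD (nat_lit 36) (.kA false (nat_lit 0x1100100000400100200c001002)) (.cD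 (nat_lit 48) (.kA false (nat_lit 0x1100100000400100200c001002)) (.cD (nat_lit 52) (.kc (nat_lit 56) (nat_lit 0x7001001)) .nil)))))))) (.cD (nat_lit 24) (.kF (nat_lit 16) (nat_lit 0x11001000001006001002)) (.cD (nat_lit 32) (.kc (nat_lit 24) (nat_lit 0x3001001)) (.cD (nat_lit 48) (.dfs (nat_lit 32) (nat_lit 4100) (nat_lit 4100) (nat_lit 0x1002001) (nat_lit 0x1002001) (nat_lit 0) (nat_lit 0) (nat_lit 3) (nat_lit 0) (nat_lit 0) (nat_lit 0) (nat_lit 1) (nat_lit 0) (nat_lit 0x1008004) (nat_lit 32772) (nat_lit 0x1001004000008001014000018) (nat_lit 0x1000101110110) (.cD (nat_lit 4) (.kA false (nat_lit 0x1100100000400100200c001002)) (.cD (nat_lit 8) (.kA false (nat_lit 0x300400600c002011001000002)) (.cD (nat_lit 16) (.kc (nat_lit 56) (nat_lit 0x7001001)) (.cD (nat_lit 20) (.kA false (nat_lit 0x1100100000400100200c001002)) (.cD (nat_lit 24) (.kA false (nat_lit 0x500400600c002011001000002)) (.cD (nat_lit 32) (.kc (nat_lit 40) (nat_lit 0x5001001)) (.cD (nat_lit 48) (.kc (nat_lit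 48) (nat_lit 0x3001001)) .nil)))))))) .nil)))))))) (.cD (nat_lit 48) (.kF (nat_lit 8) (nat_lit 0x13003000001003001002)) .nil))))))))))
theorem c516 : (chk [] [] p516).n x211 s516 = true := by decide +kernel
noncomputable def p517 : Pf := (.anc (nat_lit 68) (nat_lit 0x10002002002000002) (nat_lit 0x1009020010004) (.czp (nat_lit 64) (nat_lit 0) (nat_lit 0x1040020010008004) z6 (.dfs (nat_lit 4) (nat_lit 4097) (nat_lit 4097) (nat_lit 1) (nat_lit 1) (nat_lit 0) (nat_lit 0) (nat_lit 3) (nat_lit 0) (nat_lit 0) (nat_lit 0) (nat_lit 1) (nat_lit 0) (nat_lit 0x1008004) (nat_lit 32772) (nat_lit 0x1001004000008001014000018) (nat_lit 0x1000101110110) (.cD (nat_lit 4) (.dfs (nat_lit 16) (nat_lit 4098) (nat_lit 4098) (nat_lit 4097) (nat_lit 4097) (nat_lit 0) (nat_lit 0) (nat_lit 3) (nat_lit 0) (nat_lit 0) (nat_lit 0) (nat_lit 1) (nat_lit 0) (nat_lit 1) (nat_lit 0) (nat_lit 1) (nat_lit 0x11001100110010) (.cD (nat_lit 4) (.kc (nat_lit 20) (nat_lit 0x3001001)) (.cD (nat_lit 16) (.dfs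 (nat_lit 32) (nat_lit 4100) (nat_lit 4100) (nat_lit 0x1002001) (nat_lit 0x1002001) (nat_lit 0) (nat_lit 0) (nat_lit 3) (nat_lit 0) (nat_lit 0) (nat_lit 0) (nat_lit 1) (nat_lit 0) (nat_lit 1) (nat_lit 0) (nat_lit 1) (nat_lit 0x11001100110010) (.cD (nat_lit 4) (.kc (nat_lit 36) (nat_lit 0x5001001)) (.cD (nat_lit 16) (.kc (nat_lit 48) (nat_lit 0x3001001)) (.cD (nat_lit 20) (.kc (nat_lit 52) (nat_lit 0x7001001)) (.cD (nat_lit 32) (.dfs (nat_lit 9) (nat_lit 0x1004001003008) (nat_lit 0x1005001003008) (nat_lit 4098) (nat_lit 4098) (nat_lit 2) (nat_lit 0) (nat_lit 2) (nat_lit 1) (nat_lit 0) (nat_lit 8) (nat_lit 1) (nat_lit 0) (nat_lit 1) (nat_lit 0) (nat_lit 1) (nat_lit 0) .nil) (.cD (nat_lit 36) (.kA true (nat_lit 0x2100100000400100300d001021001000003)) (.cD (nat_lit 48) (.kA true (nat_lit 0x600800401000400400100300d001021001000003)) (.cD (nat_lit 52) (.kA true (nat_lit 0x5004003008001008004002005007021001000003)) .nil)))))))) (.cD (nat_lit 20) (.dfs (nat_lit 32) (nat_lit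 4100) (nat_lit 4100) (nat_lit 0x1002001) (nat_lit 0x1002001) (nat_lit 0) (nat_lit 0) (nat_lit 3) (nat_lit 0) (nat_lit 0) (nat_lit 0) (nat_lit 1) (nat_lit 0) (nat_lit 1) (nat_lit 0) (nat_lit 1) (nat_lit 0x11001100110010) (.cD (nat_lit 4) (.kc (nat_lit 36) (nat_lit 0x5001001)) (.cD (nat_lit 16) (.kc (nat_lit 52) (nat_lit 0x7001001)) (.cD (nat_lit 20) (.kc (nat_lit 48) (nat_lit 0x3001001)) (.cD (nat_lit 32) (.kA true (nat_lit 0x5004003008001008004002005007021001000003)) (.cD (nat_lit 36) (.dfs (nat_lit 9) (nat_lit 4102) (nat_lit 4103) (nat_lit 1) (nat_lit 1) (nat_lit 2) (nat_lit 0) (nat_lit 1) (nat_lit 4112) (nat_lit 0x40020010008004002021) (nat_lit 0) (nat_lit 1) (nat_lit 0) (nat_lit 1) (nat_lit 0) (nat_lit 1) (nat_lit 0) .nil) (.cD (nat_lit 48) (.kA true (nat_lit 0x400300500800100400100300c001002)) (.cD (nat_lit 52) (.kA true (nat_lit 0x400700100800100400100300c001002)) .nil)))))))) (.cD (nat_lit 32) (.kF (nat_lit 16) (nat_lit 0x100400100c012004002002000003)) (.cD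 (nat_lit 36) (.kF (nat_lit 16) (nat_lit 0x100400100c012004002002000003)) (.cD (nat_lit 48) (.dfs (nat_lit 32) (nat_lit 4100) (nat_lit 4100) (nat_lit 0x1002001) (nat_lit 0x1002001) (nat_lit 0) (nat_lit 0) (nat_lit 3) (nat_lit 0) (nat_lit 0) (nat_lit 0) (nat_lit 1) (nat_lit 0) (nat_lit 1) (nat_lit 0) (nat_lit 1) (nat_lit 0x11001100110010) (.cD (nat_lit 4) (.kc (nat_lit 36) (nat_lit 0x5001001)) (.cD (nat_lit 16) (.kA true (nat_lit 0x400200100800100400100300c001002)) (.cD (nat_lit 20) (.kA true (nat_lit 0x400600500800100400100300c001002)) (.cD (nat_lit 32) (.kA true (nat_lit 0x5004003008001008004002005007021001000003)) (.cD (nat_lit 36) (.kA true (nat_lit 0x400500600800100400100300c001002)) (.cD (nat_lit 48) (.kc (nat_lit 48) (nat_lit 0x3001001)) (.cD (nat_lit 52) (.kc (nat_lit 52) (nat_lit 0x7001001)) .nil)))))))) (.cD (nat_lit 52) (.dfs (nat_lit 32) (nat_lit 4100) (nat_lit 4100) (nat_lit 0x1002001) (nat_lit 0x1002001) (nat_lit 0) (nat_lit 0) (nat_lit 3) (nat_lit 0)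 (nat_lit 0) (nat_lit 0) (nat_lit 1) (nat_lit 0) (nat_lit 1) (nat_lit 0) (nat_lit 1) (nat_lit 0x11001100110010) (.cD (nat_lit 4) (.kc (nat_lit 36) (nat_lit 0x5001001)) (.cD (nat_lit 16) (.kA true (nat_lit 0x400200500800100400100300c001002)) (.cD (nat_lit 20) (.kA true (nat_lit 0x400600100800100400100300c001002)) (.cD (nat_lit 32) (.kA true (nat_lit 0x5004003008001008004002005007021001000003)) (.cD (nat_lit 36) (.kA true (nat_lit 0x400500200800100400100300c001002)) (.cD (nat_lit 48) (.kc (nat_lit 52) (nat_lit 0x7001001)) (.cD (nat_lit 52) (.kc (nat_lit 48) (nat_lit 0x3001001)) .nil)))))))) .nil)))))))) (.cD (nat_lit 8) (.dfs (nat_lit 16) (nat_lit 4098) (nat_lit 4098) (nat_lit 4097) (nat_lit 4097) (nat_lit 0) (nat_lit 0) (nat_lit 3) (nat_lit 0) (nat_lit 0) (nat_lit 0) (nat_lit 1) (nat_lit 0) (nat_lit 1) (nat_lit 0) (nat_lit 1) (nat_lit 0x101010101010100) (.cD (nat_lit 8) (.kc (nat_lit 20) (nat_lit 0x3001001)) (.cD (nat_lit 16) (.dfs (nat_lit 32) (nat_lit 4100) (nat_lit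 4100) (nat_lit 0x1002001) (nat_lit 0x1002001) (nat_lit 0) (nat_lit 0) (nat_lit 3) (nat_lit 0) (nat_lit 0) (nat_lit 0) (nat_lit 1) (nat_lit 0) (nat_lit 1) (nat_lit 0) (nat_lit 1) (nat_lit 0x101010101010100) (.cD (nat_lit 8) (.kc (nat_lit 36) (nat_lit 0x5001001)) (.cD (nat_lit 16) (.kc (nat_lit 48) (nat_lit 0x3001001)) (.cD (nat_lit 24) (.kc (nat_lit 52) (nat_lit 0x7001001)) (.cD (nat_lit 32) (.kA false (nat_lit 0x300400200c00200e004008014005021001000003)) (.cD (nat_lit 40) (.kA false (nat_lit 0x2100100000300500200d002021001000003)) (.cD (nat_lit 48) (.kA false (nat_lit 0x200800c01000400500300200b002021001000003)) (.cD (nat_lit 56) (.kA false (nat_lit 0x500400200c00200e004008014005021001000003)) .nil)))))))) (.cD (nat_lit 24) (.dfs (nat_lit 32) (nat_lit 4100) (nat_lit 4100) (nat_lit 0x1002001) (nat_lit 0x1002001) (nat_lit 0) (nat_lit 0) (nat_lit 3) (nat_lit 0) (nat_lit 0) (nat_lit 0) (nat_lit 1) (nat_lit 0) (nat_lit 1) (nat_lit 0) (nat_lit 1) (nat_lit 0x101010101010100)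 (.cD (nat_lit 8) (.kc (nat_lit 36) (nat_lit 0x5001001)) (.cD (nat_lit 16) (.kc (nat_lit 52) (nat_lit 0x7001001)) (.cD (nat_lit 24) (.kc (nat_lit 48) (nat_lit 0x3001001)) (.cD (nat_lit 32) (.kA false (nat_lit 0x700400600c00200e004008014005021001000003)) (.cD (nat_lit 40) (.kA false (nat_lit 0x2100100000700500600d002021001000003)) (.cD (nat_lit 48) (.kA false (nat_lit 0x100400600c00200e004008014005021001000003)) (.cD (nat_lit 56) (.kA false (nat_lit 0x400800a01000400100300600b002021001000003)) .nil)))))))) (.cD (nat_lit 32) (.kF (nat_lit 16) (nat_lit 0x100400100c012004002002000003)) (.cD (nat_lit 40) (.kF (nat_lit 16) (nat_lit 0x100400100c012004002002000003)) (.cD (nat_lit 48) (.kF (nat_lit 16) (nat_lit 0x2100100000e014006001006001003)) (.cD (nat_lit 56) (.kF (nat_lit 16) (nat_lit 0x2100100000a014006001006001003)) .nil)))))))) (.cD (nat_lit 16) (.kF (nat_lit 4) (nat_lit 0x2002000001003001002)) (.cD (nat_lit 20) (.kF (nat_lit 4) (nat_lit 0xe01e003001003001002)) (.cD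 (nat_lit 24) (.kF (nat_lit 4) (nat_lit 0x1002001002012004002002000003)) (.cD (nat_lit 32) (.dfs (nat_lit 16) (nat_lit 4098) (nat_lit 4098) (nat_lit 4097) (nat_lit 4097) (nat_lit 0) (nat_lit 0) (nat_lit 3) (nat_lit 0) (nat_lit 0) (nat_lit 0) (nat_lit 1) (nat_lit 0) (nat_lit 0x1008004) (nat_lit 32772) (nat_lit 0x1001004000008001014000018) (nat_lit 0x1000101110110) (.cD (nat_lit 4) (.kF (nat_lit 16) (nat_lit 0x21001000001006001002)) (.cD (nat_lit 8) (.kF (nat_lit 16) (nat_lit 0x100400100c012004002002000003)) (.cD (nat_lit 16) (.dfs (nat_lit 32) (nat_lit 4100) (nat_lit 4100) (nat_lit 0x1002001) (nat_lit 0x1002001) (nat_lit 0) (nat_lit 0) (nat_lit 3) (nat_lit 0) (nat_lit 0) (nat_lit 0) (nat_lit 1) (nat_lit 0) (nat_lit 0x1008004) (nat_lit 32772) (nat_lit 0x1001004000008001014000018) (nat_lit 0x1000101110110) (.cD (nat_lit 4) (.kA true (nat_lit 0x100400600c002021001000002)) (.cD (nat_lit 8) (.kA false (nat_lit 0x700400200c002021001000002)) (.cD (nat_lit 16) (.kc (nat_lit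 48) (nat_lit 0x3001001)) (.cD (nat_lit 20) (.kA true (nat_lit 0x300400600c002021001000002)) (.cD (nat_lit 24) (.kA false (nat_lit 0x500400200c002021001000002)) (.cD (nat_lit 32) (.kc (nat_lit 36) (nat_lit 0x5001001)) (.cD (nat_lit 48) (.kc (nat_lit 52) (nat_lit 0x7001001)) .nil)))))))) (.cD (nat_lit 20) (.dfs (nat_lit 32) (nat_lit 4100) (nat_lit 4100) (nat_lit 0x1002001) (nat_lit 0x1002001) (nat_lit 0) (nat_lit 0) (nat_lit 3) (nat_lit 0) (nat_lit 0) (nat_lit 0) (nat_lit 1) (nat_lit 0) (nat_lit 1) (nat_lit 0) (nat_lit 1) (nat_lit 0x11001100110010) (.cD (nat_lit 4) (.kA true (nat_lit 0x100400700c002021001000002)) (.cD (nat_lit 16) (.kA true (nat_lit 0x300400500c002021001000002)) (.cD (nat_lit 20) (.kc (nat_lit 48) (nat_lit 0x3001001)) (.cD (nat_lit 32) (.kc (nat_lit 36) (nat_lit 0x5001001)) (.cD (nat_lit 36) (.dfs (nat_lit 9) (nat_lit 4100) (nat_lit 4101) (nat_lit 1) (nat_lit 1) (nat_lit 2) (nat_lit 0) (nat_lit 1) (nat_lit 4128) (nat_lit 0x40020010008004002021) (nat_lit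 0) (nat_lit 1) (nat_lit 0) (nat_lit 1) (nat_lit 0) (nat_lit 1) (nat_lit 0) .nil) (.cD (nat_lit 48) (.kA true (nat_lit 0x700400100c002021001000002)) (.cD (nat_lit 52) (.kc (nat_lit 52) (nat_lit 0x7001001)) .nil)))))))) (.cD (nat_lit 24) (.kF (nat_lit 16) (nat_lit 0x21001000001006001002)) (.cD (nat_lit 32) (.kc (nat_lit 20) (nat_lit 0x3001001)) (.cD (nat_lit 48) (.dfs (nat_lit 32) (nat_lit 4100) (nat_lit 4100) (nat_lit 0x1002001) (nat_lit 0x1002001) (nat_lit 0) (nat_lit 0) (nat_lit 3) (nat_lit 0) (nat_lit 0) (nat_lit 0) (nat_lit 1) (nat_lit 0) (nat_lit 0x1008004) (nat_lit 32772) (nat_lit 0x1001004000008001014000018) (nat_lit 0x1000101110110) (.cD (nat_lit 4) (.kA true (nat_lit 0x100400200c002021001000002)) (.cD (nat_lit 8) (.kA false (nat_lit 0x300400600c002021001000002)) (.cD (nat_lit 16) (.kc (nat_lit 52) (nat_lit 0x7001001)) (.cD (nat_lit 20) (.kA true (nat_lit 0x700400200c002021001000002)) (.cD (nat_lit 24) (.kA false (nat_lit 0x500400600c002021001000002)) (.cD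 (nat_lit 32) (.kc (nat_lit 36) (nat_lit 0x5001001)) (.cD (nat_lit 48) (.kc (nat_lit 48) (nat_lit 0x3001001)) .nil)))))))) .nil)))))))) (.cD (nat_lit 48) (.kF (nat_lit 4) (nat_lit 0x1002001002012004002002000003)) .nil))))))))))
theorem c517 : (chk [] [] p517).n x212 s517 = true := by decide +kernel
noncomputable def p518 : Pf := (.anc (nat_lit 68) (nat_lit 0x10002002002000002) (nat_lit 0x1009020010004) (.czp (nat_lit 64) (nat_lit 0) (nat_lit 0x1040020010008004) z6 (.dfs (nat_lit 4) (nat_lit 4097) (nat_lit 4097) (nat_lit 1) (nat_lit 1) (nat_lit 0) (nat_lit 0) (nat_lit 3) (nat_lit 0) (nat_lit 0) (nat_lit 0) (nat_lit 1) (nat_lit 0) (nat_lit 0x1008004) (nat_lit 32772) (nat_lit 0x1001004000008001014000018) (nat_lit 0x1000101110110) (.cD (nat_lit 4) (.dfs (nat_lit 16) (nat_lit 4098) (nat_lit 4098) (nat_lit 4097) (nat_lit 4097) (nat_lit 0) (nat_lit 0) (nat_lit 3) (nat_lit 0) (nat_lit 0) (nat_lit 0) (nat_lit 1) (nat_lit 0) (nat_lit 1) (nat_lit 0) (nat_lit 1) (nat_lit 0x11001100110010)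 (.cD (nat_lit 4) (.kc (nat_lit 20) (nat_lit 0x3001001)) (.cD (nat_lit 16) (.dfs (nat_lit 32) (nat_lit 4100) (nat_lit 4100) (nat_lit 0x1002001) (nat_lit 0x1002001) (nat_lit 0) (nat_lit 0) (nat_lit 3) (nat_lit 0) (nat_lit 0) (nat_lit 0) (nat_lit 1) (nat_lit 0) (nat_lit 1) (nat_lit 0) (nat_lit 1) (nat_lit 0x11001100110010) (.cD (nat_lit 4) (.kc (nat_lit 36) (nat_lit 0x5001001)) (.cD (nat_lit 16) (.kc (nat_lit 48) (nat_lit 0x3001001)) (.cD (nat_lit 20) (.kc (nat_lit 52) (nat_lit 0x7001001)) (.cD (nat_lit 32) (.dfs (nat_lit 9) (nat_lit 0x1004001003008) (nat_lit 0x1005001003008) (nat_lit 4098) (nat_lit 4098) (nat_lit 2) (nat_lit 0) (nat_lit 2) (nat_lit 1) (nat_lit 0) (nat_lit 8) (nat_lit 1) (nat_lit 0) (nat_lit 1) (nat_lit 0) (nat_lit 1) (nat_lit 0) .nil) (.cD (nat_lit 36) (.kA true (nat_lit 0x2100100000400100300d001021001000003)) (.cD (nat_lit 48) (.kA true (nat_lit 0x600800401000400400100300d001021001000003)) (.cD (nat_lit 52) (.kA true (nat_lit 0x5004003008001008004002005007021001000003))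 .nil)))))))) (.cD (nat_lit 20) (.dfs (nat_lit 32) (nat_lit 4100) (nat_lit 4100) (nat_lit 0x1002001) (nat_lit 0x1002001) (nat_lit 0) (nat_lit 0) (nat_lit 3) (nat_lit 0) (nat_lit 0) (nat_lit 0) (nat_lit 1) (nat_lit 0) (nat_lit 1) (nat_lit 0) (nat_lit 1) (nat_lit 0x11001100110010) (.cD (nat_lit 4) (.kc (nat_lit 36) (nat_lit 0x5001001)) (.cD (nat_lit 16) (.kc (nat_lit 52) (nat_lit 0x7001001)) (.cD (nat_lit 20) (.kc (nat_lit 48) (nat_lit 0x3001001)) (.cD (nat_lit 32) (.kA true (nat_lit 0x5004003008001008004002005007021001000003)) (.cD (nat_lit 36) (.dfs (nat_lit 9) (nat_lit 4102) (nat_lit 4103) (nat_lit 1) (nat_lit 1) (nat_lit 2) (nat_lit 0) (nat_lit 1) (nat_lit 4112) (nat_lit 0x40020010008004002021) (nat_lit 0) (nat_lit 1) (nat_lit 0) (nat_lit 1) (nat_lit 0) (nat_lit 1) (nat_lit 0) .nil) (.cD (nat_lit 48) (.kA true (nat_lit 0x400300500800100400100300c001002)) (.cD (nat_lit 52) (.kA true (nat_lit 0x400700100800100400100300c001002)) .nil)))))))) (.cD (nat_lit 32) (.kF (nat_lit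 16) (nat_lit 0x100400100c012004002002000003)) (.cD (nat_lit 36) (.kF (nat_lit 16) (nat_lit 0x100400100c012004002002000003)) (.cD (nat_lit 48) (.dfs (nat_lit 32) (nat_lit 4100) (nat_lit 4100) (nat_lit 0x1002001) (nat_lit 0x1002001) (nat_lit 0) (nat_lit 0) (nat_lit 3) (nat_lit 0) (nat_lit 0) (nat_lit 0) (nat_lit 1) (nat_lit 0) (nat_lit 1) (nat_lit 0) (nat_lit 1) (nat_lit 0x11001100110010) (.cD (nat_lit 4) (.kc (nat_lit 36) (nat_lit 0x5001001)) (.cD (nat_lit 16) (.kA true (nat_lit 0x400200100800100400100300c001002)) (.cD (nat_lit 20) (.kA true (nat_lit 0x400600500800100400100300c001002)) (.cD (nat_lit 32) (.kA true (nat_lit 0x5004003008001008004002005007021001000003)) (.cD (nat_lit 36) (.kA true (nat_lit 0x400500600800100400100300c001002)) (.cD (nat_lit 48) (.kc (nat_lit 48) (nat_lit 0x3001001)) (.cD (nat_lit 52) (.kc (nat_lit 52) (nat_lit 0x7001001)) .nil)))))))) (.cD (nat_lit 52) (.dfs (nat_lit 32) (nat_lit 4100) (nat_lit 4100) (nat_lit 0x1002001) (nat_lit 0x1002001)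 (nat_lit 0) (nat_lit 0) (nat_lit 3) (nat_lit 0) (nat_lit 0) (nat_lit 0) (nat_lit 1) (nat_lit 0) (nat_lit 1) (nat_lit 0) (nat_lit 1) (nat_lit 0x11001100110010) (.cD (nat_lit 4) (.kc (nat_lit 36) (nat_lit 0x5001001)) (.cD (nat_lit 16) (.kA true (nat_lit 0x400200500800100400100300c001002)) (.cD (nat_lit 20) (.kA true (nat_lit 0x400600100800100400100300c001002)) (.cD (nat_lit 32) (.kA true (nat_lit 0x5004003008001008004002005007021001000003)) (.cD (nat_lit 36) (.kA true (nat_lit 0x400500200800100400100300c001002)) (.cD (nat_lit 48) (.kc (nat_lit 52) (nat_lit 0x7001001)) (.cD (nat_lit 52) (.kc (nat_lit 48) (nat_lit 0x3001001)) .nil)))))))) .nil)))))))) (.cD (nat_lit 8) (.dfs (nat_lit 16) (nat_lit 4098) (nat_lit 4098) (nat_lit 4097) (nat_lit 4097) (nat_lit 0) (nat_lit 0) (nat_lit 3) (nat_lit 0) (nat_lit 0) (nat_lit 0) (nat_lit 1) (nat_lit 0) (nat_lit 1) (nat_lit 0) (nat_lit 1) (nat_lit 0x101010101010100) (.cD (nat_lit 8) (.kc (nat_lit 20) (nat_lit 0x3001001)) (.cD (nat_lit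 16) (.dfs (nat_lit 32) (nat_lit 4100) (nat_lit 4100) (nat_lit 0x1002001) (nat_lit 0x1002001) (nat_lit 0) (nat_lit 0) (nat_lit 3) (nat_lit 0) (nat_lit 0) (nat_lit 0) (nat_lit 1) (nat_lit 0) (nat_lit 1) (nat_lit 0) (nat_lit 1) (nat_lit 0x101010101010100) (.cD (nat_lit 8) (.kc (nat_lit 36) (nat_lit 0x5001001)) (.cD (nat_lit 16) (.kc (nat_lit 48) (nat_lit 0x3001001)) (.cD (nat_lit 24) (.kc (nat_lit 52) (nat_lit 0x7001001)) (.cD (nat_lit 32) (.kA false (nat_lit 0x300400200c00200e004008014005021001000003)) (.cD (nat_lit 40) (.kA false (nat_lit 0x2100100000300500200d002021001000003)) (.cD (nat_lit 48) (.kA false (nat_lit 0x200800c01000400500300200b002021001000003)) (.cD (nat_lit 56) (.kA false (nat_lit 0x500400200c00200e004008014005021001000003)) .nil)))))))) (.cD (nat_lit 24) (.dfs (nat_lit 32) (nat_lit 4100) (nat_lit 4100) (nat_lit 0x1002001) (nat_lit 0x1002001) (nat_lit 0) (nat_lit 0) (nat_lit 3) (nat_lit 0) (nat_lit 0) (nat_lit 0) (nat_lit 1) (nat_lit 0) (nat_lit 1)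 (nat_lit 0) (nat_lit 1) (nat_lit 0x101010101010100) (.cD (nat_lit 8) (.kc (nat_lit 36) (nat_lit 0x5001001)) (.cD (nat_lit 16) (.kc (nat_lit 52) (nat_lit 0x7001001)) (.cD (nat_lit 24) (.kc (nat_lit 48) (nat_lit 0x3001001)) (.cD (nat_lit 32) (.kA false (nat_lit 0x700400600c00200e004008014005021001000003)) (.cD (nat_lit 40) (.kA false (nat_lit 0x2100100000700500600d002021001000003)) (.cD (nat_lit 48) (.kA false (nat_lit 0x100400600c00200e004008014005021001000003)) (.cD (nat_lit 56) (.kA false (nat_lit 0x400800a01000400100300600b002021001000003)) .nil)))))))) (.cD (nat_lit 32) (.kF (nat_lit 16) (nat_lit 0x100400100c012004002002000003)) (.cD (nat_lit 40) (.kF (nat_lit 16) (nat_lit 0x100400100c012004002002000003)) (.cD (nat_lit 48) (.kF (nat_lit 16) (nat_lit 0x2100100000e014006001006001003)) (.cD (nat_lit 56) (.kF (nat_lit 16) (nat_lit 0x2100100000a014006001006001003)) .nil)))))))) (.cD (nat_lit 16) (.kF (nat_lit 4) (nat_lit 0x2002000001003001002)) (.cD (nat_lit 20) (.kF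 (nat_lit 4) (nat_lit 0xe01e003001003001002)) (.cD (nat_lit 24) (.kF (nat_lit 4) (nat_lit 0x1002001002012004002002000003)) (.cD (nat_lit 32) (.dfs (nat_lit 16) (nat_lit 4098) (nat_lit 4098) (nat_lit 4097) (nat_lit 4097) (nat_lit 0) (nat_lit 0) (nat_lit 3) (nat_lit 0) (nat_lit 0) (nat_lit 0) (nat_lit 1) (nat_lit 0) (nat_lit 0x1008004) (nat_lit 32772) (nat_lit 0x1001004000008001014000018) (nat_lit 0x1000101110110) (.cD (nat_lit 4) (.kF (nat_lit 16) (nat_lit 0x21001000001006001002)) (.cD (nat_lit 8) (.kF (nat_lit 16) (nat_lit 0x100400100c012004002002000003)) (.cD (nat_lit 16) (.dfs (nat_lit 32) (nat_lit 4100) (nat_lit 4100) (nat_lit 0x1002001) (nat_lit 0x1002001) (nat_lit 0) (nat_lit 0) (nat_lit 3) (nat_lit 0) (nat_lit 0) (nat_lit 0) (nat_lit 1) (nat_lit 0) (nat_lit 0x1008004) (nat_lit 32772) (nat_lit 0x1001004000008001014000018) (nat_lit 0x1000101110110) (.cD (nat_lit 4) (.kA true (nat_lit 0x100400600c002021001000002)) (.cD (nat_lit 8) (.kA false (nat_lit 0x700400200c002021001000002))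 (.cD (nat_lit 16) (.kc (nat_lit 48) (nat_lit 0x3001001)) (.cD (nat_lit 20) (.kA true (nat_lit 0x300400600c002021001000002)) (.cD (nat_lit 24) (.kA false (nat_lit 0x500400200c002021001000002)) (.cD (nat_lit 32) (.kc (nat_lit 36) (nat_lit 0x5001001)) (.cD (nat_lit 48) (.kc (nat_lit 52) (nat_lit 0x7001001)) .nil)))))))) (.cD (nat_lit 20) (.dfs (nat_lit 32) (nat_lit 4100) (nat_lit 4100) (nat_lit 0x1002001) (nat_lit 0x1002001) (nat_lit 0) (nat_lit 0) (nat_lit 3) (nat_lit 0) (nat_lit 0) (nat_lit 0) (nat_lit 1) (nat_lit 0) (nat_lit 1) (nat_lit 0) (nat_lit 1) (nat_lit 0x11001100110010) (.cD (nat_lit 4) (.kA true (nat_lit 0x100400700c002021001000002)) (.cD (nat_lit 16) (.kA true (nat_lit 0x300400500c002021001000002)) (.cD (nat_lit 20) (.kc (nat_lit 48) (nat_lit 0x3001001)) (.cD (nat_lit 32) (.kc (nat_lit 36) (nat_lit 0x5001001)) (.cD (nat_lit 36) (.dfs (nat_lit 9) (nat_lit 4100) (nat_lit 4101) (nat_lit 1) (nat_lit 1) (nat_lit 2) (nat_lit 0) (nat_lit 1) (nat_lit 4128) (nat_lit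 0x40020010008004002021) (nat_lit 0) (nat_lit 1) (nat_lit 0) (nat_lit 1) (nat_lit 0) (nat_lit 1) (nat_lit 0) .nil) (.cD (nat_lit 48) (.kA true (nat_lit 0x700400100c002021001000002)) (.cD (nat_lit 52) (.kc (nat_lit 52) (nat_lit 0x7001001)) .nil)))))))) (.cD (nat_lit 24) (.kF (nat_lit 16) (nat_lit 0x21001000001006001002)) (.cD (nat_lit 32) (.kc (nat_lit 20) (nat_lit 0x3001001)) (.cD (nat_lit 48) (.dfs (nat_lit 32) (nat_lit 4100) (nat_lit 4100) (nat_lit 0x1002001) (nat_lit 0x1002001) (nat_lit 0) (nat_lit 0) (nat_lit 3) (nat_lit 0) (nat_lit 0) (nat_lit 0) (nat_lit 1) (nat_lit 0) (nat_lit 0x1008004) (nat_lit 32772) (nat_lit 0x1001004000008001014000018) (nat_lit 0x1000101110110) (.cD (nat_lit 4) (.kA true (nat_lit 0x100400200c002021001000002)) (.cD (nat_lit 8) (.kA false (nat_lit 0x300400600c002021001000002)) (.cD (nat_lit 16) (.kc (nat_lit 52) (nat_lit 0x7001001)) (.cD (nat_lit 20) (.kA true (nat_lit 0x700400200c002021001000002)) (.cD (nat_lit 24) (.kA false (nat_lit 0x500400600c002021001000002))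 (.cD (nat_lit 32) (.kc (nat_lit 36) (nat_lit 0x5001001)) (.cD (nat_lit 48) (.kc (nat_lit 48) (nat_lit 0x3001001)) .nil)))))))) .nil)))))))) (.cD (nat_lit 48) (.kF (nat_lit 4) (nat_lit 0x1002001002012004002002000003)) .nil))))))))))
theorem c518 : (chk [] [] p518).n x213 s518 = true := by decide +kernel
noncomputable def p519 : Pf := (.anc (nat_lit 68) (nat_lit 0x10002002002000002) (nat_lit 0x1009020010004) (.czp (nat_lit 64) (nat_lit 0) (nat_lit 0x1040020010008004) z6 (.dfs (nat_lit 4) (nat_lit 4097) (nat_lit 4097) (nat_lit 1) (nat_lit 1) (nat_lit 0) (nat_lit 0) (nat_lit 3) (nat_lit 0) (nat_lit 0) (nat_lit 0) (nat_lit 1) (nat_lit 0) (nat_lit 0x1008004) (nat_lit 32772) (nat_lit 0x1001004000008001014000018) (nat_lit 0x1000101110110) (.cD (nat_lit 4) (.dfs (nat_lit 16) (nat_lit 4098) (nat_lit 4098) (nat_lit 4097) (nat_lit 4097) (nat_lit 0) (nat_lit 0) (nat_lit 3) (nat_lit 0) (nat_lit 0) (nat_lit 0) (nat_lit 1) (nat_lit 0) (nat_lit 1) (nat_lit 0) (nat_lit 1) (nat_lit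 0x11001100110010) (.cD (nat_lit 4) (.kc (nat_lit 20) (nat_lit 0x3001001)) (.cD (nat_lit 16) (.dfs (nat_lit 32) (nat_lit 4100) (nat_lit 4100) (nat_lit 0x1002001) (nat_lit 0x1002001) (nat_lit 0) (nat_lit 0) (nat_lit 3) (nat_lit 0) (nat_lit 0) (nat_lit 0) (nat_lit 1) (nat_lit 0) (nat_lit 1) (nat_lit 0) (nat_lit 1) (nat_lit 0x11001100110010) (.cD (nat_lit 4) (.kc (nat_lit 36) (nat_lit 0x5001001)) (.cD (nat_lit 16) (.kc (nat_lit 48) (nat_lit 0x3001001)) (.cD (nat_lit 20) (.kc (nat_lit 52) (nat_lit 0x7001001)) (.cD (nat_lit 32) (.dfs (nat_lit 9) (nat_lit 0x1004001003008) (nat_lit 0x1005001003008) (nat_lit 4098) (nat_lit 4098) (nat_lit 0) (nat_lit 0) (nat_lit 2) (nat_lit 1) (nat_lit 0) (nat_lit 8) (nat_lit 1) (nat_lit 0) (nat_lit 4100) (nat_lit 4) (nat_lit 0x1000008000018) (nat_lit 0x1000100) (.cD (nat_lit 8) (.kA false (nat_lit 0x7002004010001002002000007002004016002033003000004)) (.cD (nat_lit 24) (.kA false (nat_lit 0x3002004010001002002000003002004016002033003000004))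 .nil))) (.cD (nat_lit 36) (.kA true (nat_lit 0x3100100000400100300d001031001000003)) (.cD (nat_lit 48) (.kA true (nat_lit 0x600800401000400400100300d001031001000003)) (.cD (nat_lit 52) (.kA true (nat_lit 0x5004003008001008004002005007031001000003)) .nil)))))))) (.cD (nat_lit 20) (.dfs (nat_lit 32) (nat_lit 4100) (nat_lit 4100) (nat_lit 0x1002001) (nat_lit 0x1002001) (nat_lit 0) (nat_lit 0) (nat_lit 3) (nat_lit 0) (nat_lit 0) (nat_lit 0) (nat_lit 1) (nat_lit 0) (nat_lit 1) (nat_lit 0) (nat_lit 1) (nat_lit 0x11001100110010) (.cD (nat_lit 4) (.kc (nat_lit 36) (nat_lit 0x5001001)) (.cD (nat_lit 16) (.kc (nat_lit 52) (nat_lit 0x7001001)) (.cD (nat_lit 20) (.kc (nat_lit 48) (nat_lit 0x3001001)) (.cD (nat_lit 32) (.kA true (nat_lit 0x5004003008001008004002005007031001000003)) (.cD (nat_lit 36) (.dfs (nat_lit 9) (nat_lit 4102) (nat_lit 4103) (nat_lit 1) (nat_lit 1) (nat_lit 0) (nat_lit 0) (nat_lit 1) (nat_lit 4112) (nat_lit 0x40020010008004002031) (nat_lit 0) (nat_lit 1)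 (nat_lit 0) (nat_lit 1) (nat_lit 0) (nat_lit 1) (nat_lit 0) .nil) (.cD (nat_lit 48) (.kA true (nat_lit 0x400300500800100400100300c001002)) (.cD (nat_lit 52) (.kA true (nat_lit 0x400700100800100400100300c001002)) .nil)))))))) (.cD (nat_lit 32) (.kF (nat_lit 16) (nat_lit 0x100400100c012004002002000003)) (.cD (nat_lit 36) (.kF (nat_lit 16) (nat_lit 0x100400100c012004002002000003)) (.cD (nat_lit 48) (.dfs (nat_lit 32) (nat_lit 4100) (nat_lit 4100) (nat_lit 0x1002001) (nat_lit 0x1002001) (nat_lit 0) (nat_lit 0) (nat_lit 3) (nat_lit 0) (nat_lit 0) (nat_lit 0) (nat_lit 1) (nat_lit 0) (nat_lit 1) (nat_lit 0) (nat_lit 1) (nat_lit 0x11001100110010) (.cD (nat_lit 4) (.kc (nat_lit 36) (nat_lit 0x5001001)) (.cD (nat_lit 16) (.kA true (nat_lit 0x400200100800100400100300c001002)) (.cD (nat_lit 20) (.kA true (nat_lit 0x400600500800100400100300c001002)) (.cD (nat_lit 32) (.kA true (nat_lit 0x5004003008001008004002005007031001000003)) (.cD (nat_lit 36) (.kA true (nat_lit 0x400500600800100400100300c001002))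 (.cD (nat_lit 48) (.kc (nat_lit 48) (nat_lit 0x3001001)) (.cD (nat_lit 52) (.kc (nat_lit 52) (nat_lit 0x7001001)) .nil)))))))) (.cD (nat_lit 52) (.dfs (nat_lit 32) (nat_lit 4100) (nat_lit 4100) (nat_lit 0x1002001) (nat_lit 0x1002001) (nat_lit 0) (nat_lit 0) (nat_lit 3) (nat_lit 0) (nat_lit 0) (nat_lit 0) (nat_lit 1) (nat_lit 0) (nat_lit 1) (nat_lit 0) (nat_lit 1) (nat_lit 0x11001100110010) (.cD (nat_lit 4) (.kc (nat_lit 36) (nat_lit 0x5001001)) (.cD (nat_lit 16) (.kA true (nat_lit 0x400200500800100400100300c001002)) (.cD (nat_lit 20) (.kA true (nat_lit 0x400600100800100400100300c001002)) (.cD (nat_lit 32) (.kA true (nat_lit 0x5004003008001008004002005007031001000003)) (.cD (nat_lit 36) (.kA true (nat_lit 0x400500200800100400100300c001002)) (.cD (nat_lit 48) (.kc (nat_lit 52) (nat_lit 0x7001001)) (.cD (nat_lit 52) (.kc (nat_lit 48) (nat_lit 0x3001001)) .nil)))))))) .nil)))))))) (.cD (nat_lit 8) (.dfs (nat_lit 16) (nat_lit 4098) (nat_lit 4098) (nat_lit 4097) (nat_lit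 4097) (nat_lit 0) (nat_lit 0) (nat_lit 3) (nat_lit 0) (nat_lit 0) (nat_lit 0) (nat_lit 1) (nat_lit 0) (nat_lit 1) (nat_lit 0) (nat_lit 1) (nat_lit 0x101010101010100) (.cD (nat_lit 8) (.kc (nat_lit 20) (nat_lit 0x3001001)) (.cD (nat_lit 16) (.dfs (nat_lit 32) (nat_lit 4100) (nat_lit 4100) (nat_lit 0x1002001) (nat_lit 0x1002001) (nat_lit 0) (nat_lit 0) (nat_lit 3) (nat_lit 0) (nat_lit 0) (nat_lit 0) (nat_lit 1) (nat_lit 0) (nat_lit 1) (nat_lit 0) (nat_lit 1) (nat_lit 0x101010101010100) (.cD (nat_lit 8) (.kc (nat_lit 36) (nat_lit 0x5001001)) (.cD (nat_lit 16) (.kc (nat_lit 48) (nat_lit 0x3001001)) (.cD (nat_lit 24) (.kc (nat_lit 52) (nat_lit 0x7001001)) (.cD (nat_lit 32) (.kA false (nat_lit 0x300400200c00200e004008014005031001000003)) (.cD (nat_lit 40) (.kA false (nat_lit 0x3100100000300500200d002031001000003)) (.cD (nat_lit 48) (.kA false (nat_lit 0x200800c01000400500300200b002031001000003)) (.cD (nat_lit 56) (.kA false (nat_lit 0x500400200c00200e004008014005031001000003))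 .nil)))))))) (.cD (nat_lit 24) (.dfs (nat_lit 32) (nat_lit 4100) (nat_lit 4100) (nat_lit 0x1002001) (nat_lit 0x1002001) (nat_lit 0) (nat_lit 0) (nat_lit 3) (nat_lit 0) (nat_lit 0) (nat_lit 0) (nat_lit 1) (nat_lit 0) (nat_lit 1) (nat_lit 0) (nat_lit 1) (nat_lit 0x101010101010100) (.cD (nat_lit 8) (.kc (nat_lit 36) (nat_lit 0x5001001)) (.cD (nat_lit 16) (.kc (nat_lit 52) (nat_lit 0x7001001)) (.cD (nat_lit 24) (.kc (nat_lit 48) (nat_lit 0x3001001)) (.cD (nat_lit 32) (.kA false (nat_lit 0x700400600c00200e004008014005031001000003)) (.cD (nat_lit 40) (.kA false (nat_lit 0x3100100000700500600d002031001000003)) (.cD (nat_lit 48) (.kA false (nat_lit 0x100400600c00200e004008014005031001000003)) (.cD (nat_lit 56) (.kA false (nat_lit 0x400800a01000400100300600b002031001000003)) .nil)))))))) (.cD (nat_lit 32) (.kF (nat_lit 16) (nat_lit 0x100400100c012004002002000003)) (.cD (nat_lit 40) (.kF (nat_lit 16) (nat_lit 0x100400100c012004002002000003)) (.cD (nat_lit 48) (.kF (nat_lit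 16) (nat_lit 0x3100100000e014006001006001003)) (.cD (nat_lit 56) (.kF (nat_lit 16) (nat_lit 0x3100100000a014006001006001003)) .nil)))))))) (.cD (nat_lit 16) (.kF (nat_lit 4) (nat_lit 0x2002000001003001002)) (.cD (nat_lit 20) (.kF (nat_lit 4) (nat_lit 0xe01e003001003001002)) (.cD (nat_lit 24) (.kF (nat_lit 4) (nat_lit 0x1002001002012004002002000003)) (.cD (nat_lit 32) (.dfs (nat_lit 16) (nat_lit 4098) (nat_lit 4098) (nat_lit 4097) (nat_lit 4097) (nat_lit 0) (nat_lit 0) (nat_lit 3) (nat_lit 0) (nat_lit 0) (nat_lit 0) (nat_lit 1) (nat_lit 0) (nat_lit 0x1008004) (nat_lit 32772) (nat_lit 0x1001004000008001014000018) (nat_lit 0x1000101110110) (.cD (nat_lit 4) (.kF (nat_lit 16) (nat_lit 0x31001000001006001002)) (.cD (nat_lit 8) (.kF (nat_lit 16) (nat_lit 0x100400100c012004002002000003)) (.cD (nat_lit 16) (.dfs (nat_lit 32) (nat_lit 4100) (nat_lit 4100) (nat_lit 0x1002001) (nat_lit 0x1002001) (nat_lit 0) (nat_lit 0) (nat_lit 3) (nat_lit 0) (nat_lit 0) (nat_lit 0) (nat_lit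 1) (nat_lit 0) (nat_lit 0x1008004) (nat_lit 32772) (nat_lit 0x1001004000008001014000018) (nat_lit 0x1000101110110) (.cD (nat_lit 4) (.kA true (nat_lit 0x100400600c002031001000002)) (.cD (nat_lit 8) (.kA false (nat_lit 0x700400200c002031001000002)) (.cD (nat_lit 16) (.kc (nat_lit 48) (nat_lit 0x3001001)) (.cD (nat_lit 20) (.kA true (nat_lit 0x300400600c002031001000002)) (.cD (nat_lit 24) (.kA false (nat_lit 0x500400200c002031001000002)) (.cD (nat_lit 32) (.kc (nat_lit 36) (nat_lit 0x5001001)) (.cD (nat_lit 48) (.kc (nat_lit 52) (nat_lit 0x7001001)) .nil)))))))) (.cD (nat_lit 20) (.dfs (nat_lit 32) (nat_lit 4100) (nat_lit 4100) (nat_lit 0x1002001) (nat_lit 0x1002001) (nat_lit 0) (nat_lit 0) (nat_lit 3) (nat_lit 0) (nat_lit 0) (nat_lit 0) (nat_lit 1) (nat_lit 0) (nat_lit 1) (nat_lit 0) (nat_lit 1) (nat_lit 0x11001100110010) (.cD (nat_lit 4) (.kA true (nat_lit 0x100400700c002031001000002)) (.cD (nat_lit 16) (.kA true (nat_lit 0x300400500c002031001000002)) (.cD (nat_lit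 20) (.kc (nat_lit 48) (nat_lit 0x3001001)) (.cD (nat_lit 32) (.kc (nat_lit 36) (nat_lit 0x5001001)) (.cD (nat_lit 36) (.dfs (nat_lit 9) (nat_lit 4100) (nat_lit 4101) (nat_lit 1) (nat_lit 1) (nat_lit 0) (nat_lit 0) (nat_lit 1) (nat_lit 4128) (nat_lit 0x40020010008004002031) (nat_lit 0) (nat_lit 1) (nat_lit 0) (nat_lit 1) (nat_lit 0) (nat_lit 1) (nat_lit 0) .nil) (.cD (nat_lit 48) (.kA true (nat_lit 0x700400100c002031001000002)) (.cD (nat_lit 52) (.kc (nat_lit 52) (nat_lit 0x7001001)) .nil)))))))) (.cD (nat_lit 24) (.kF (nat_lit 16) (nat_lit 0x31001000001006001002)) (.cD (nat_lit 32) (.kc (nat_lit 20) (nat_lit 0x3001001)) (.cD (nat_lit 48) (.dfs (nat_lit 32) (nat_lit 4100) (nat_lit 4100) (nat_lit 0x1002001) (nat_lit 0x1002001) (nat_lit 0) (nat_lit 0) (nat_lit 3) (nat_lit 0) (nat_lit 0) (nat_lit 0) (nat_lit 1) (nat_lit 0) (nat_lit 0x1008004) (nat_lit 32772) (nat_lit 0x1001004000008001014000018) (nat_lit 0x1000101110110) (.cD (nat_lit 4) (.kA true (nat_lit 0x100400200c002031001000002))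 (.cD (nat_lit 8) (.kA false (nat_lit 0x300400600c002031001000002)) (.cD (nat_lit 16) (.kc (nat_lit 52) (nat_lit 0x7001001)) (.cD (nat_lit 20) (.kA true (nat_lit 0x700400200c002031001000002)) (.cD (nat_lit 24) (.kA false (nat_lit 0x500400600c002031001000002)) (.cD (nat_lit 32) (.kc (nat_lit 36) (nat_lit 0x5001001)) (.cD (nat_lit 48) (.kc (nat_lit 48) (nat_lit 0x3001001)) .nil)))))))) .nil)))))))) (.cD (nat_lit 48) (.kF (nat_lit 4) (nat_lit 0x1002001002012004002002000003)) .nil))))))))))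
theorem c519 : (chk [] [] p519).n x214 s519 = true := by decide +kernel
noncomputable def p520 : Pf := (.ext (nat_lit 0) (nat_lit 0x8010020040001001) (nat_lit 0x1080020040010) (nat_lit 0x10008006004004001) (nat_lit 0x7001004009) (nat_lit 0x100a004) (nat_lit 0x100d00e) (nat_lit 0xa00400200500c004002001) (.dfs (nat_lit 4) (nat_lit 0x1001002004008) (nat_lit 0x100100200400c) (nat_lit 1) (nat_lit 1) (nat_lit 0) (nat_lit 0) (nat_lit 2) (nat_lit 0) (nat_lit 0x1002004008001001) (nat_lit 14) (nat_lit 1) (nat_lit 0) (nat_lit 4232) (nat_lit 136) (nat_lit 0x100001c00005c0000860000c6) (nat_lit 0x40000000000000004000000000100000000000000010000000) (.cD (nat_lit 28) (.kA false (nat_lit 0x100100001001802003400400200c00800d001001001000004)) (.cD (nat_lit 92) (.kA false (nat_lit 0x100100000c00a00800d002018030020024003077009000004)) (.cD (nat_lit 134) (.kA false (nat_lit 0x100100000400200801b00500400400000200c00800d001001001000005)) (.cD (nat_lit 198) (.dfs (nat_lit 10) (nat_lit 0x1002004008010)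 (nat_lit 0x100a004008014) (nat_lit 4097) (nat_lit 4101) (nat_lit 12) (nat_lit 0) (nat_lit 2) (nat_lit 0) (nat_lit 0x2004008010001001) (nat_lit 13) (nat_lit 1) (nat_lit 0) (nat_lit 1) (nat_lit 0) (nat_lit 1) (nat_lit 0) .nil) .nil))))))
theorem c520 : (chk [] [] p520).n x275 s520 = true := by decide +kernel
noncomputable def p521 : Pf := (.ext (nat_lit 0) (nat_lit 0x8010020040001001) (nat_lit 0x1080020040010) (nat_lit 0x10008006004004001) (nat_lit 0x7001004009) (nat_lit 0x100a004) (nat_lit 0x100d00e) (nat_lit 0xa00400200500c004002001) (.dfs (nat_lit 4) (nat_lit 0x1001002004008) (nat_lit 0x100100200400c) (nat_lit 1) (nat_lit 1) (nat_lit 0) (nat_lit 0) (nat_lit 2) (nat_lit 0) (nat_lit 0x1002004008001001) (nat_lit 14) (nat_lit 1) (nat_lit 0) (nat_lit 4232) (nat_lit 136) (nat_lit 0x100001c00005c0000860000c6) (nat_lit 0x40000000000000004000000000100000000000000010000000) (.cD (nat_lit 28) (.kA false (nat_lit 0x100100001001802003400400200c00800d001001001000004)) (.cD (nat_lit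 92) (.kA false (nat_lit 0x100100000c00a00800d002018030020024003077009000004)) (.cD (nat_lit 134) (.kA false (nat_lit 0x100100000400200801b00500400400000200c00800d001001001000005)) (.cD (nat_lit 198) (.dfs (nat_lit 10) (nat_lit 0x1002004008010) (nat_lit 0x100a004008014) (nat_lit 4097) (nat_lit 4101) (nat_lit 12) (nat_lit 0) (nat_lit 2) (nat_lit 0) (nat_lit 0x2004008010001001) (nat_lit 13) (nat_lit 1) (nat_lit 0) (nat_lit 1) (nat_lit 0) (nat_lit 1) (nat_lit 0) .nil) .nil))))))
theorem c521 : (chk [] [] p521).n x276 s521 = true := by decide +kernel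
noncomputable def p522 : Pf := (.lft (nat_lit 0x701002004a057001002001001) (nat_lit 0) (nat_lit 0x1070060050040) (nat_lit 0x40020010008004002031) (.extn a30 (nat_lit 0x40020010008004002001) (nat_lit 0x1008020010040) (nat_lit 2) (nat_lit 0) (nat_lit 0) (nat_lit 0) (nat_lit 65537) (.cE (nat_lit 0) b76 (nat_lit 0) (.cut (nat_lit 0)) (.cut (nat_lit 1)) (.cE (nat_lit 16) (nat_lit 0x2d07106d03100607a07600a02507906503900e07207e00203d06107d02101606a06601a03506907502901e06206e01201d04105d00103604a04603a01504905500903e04204e03200d05104d01102605a05602a00505904501902e05205e02203f05306f00301405807403803705b06700b01c05007c03002f04307f01300404806402802704b07701b00c04006c02000f06305f03302406804400800706b05703b02c06004c00001f07304f02303407805401801707b04702b03c07005c010) (nat_lit 0) (.iso x275 s520 (nat_lit 0) (nat_lit 0x1080040020010008004002041) (nat_lit 0x80040020010008004002041) [(nat_lit 0x40020010008004002001005001), (nat_lit 0x10008004002001007001)] (.cut (nat_lit 0))) (.iso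 x276 s521 (nat_lit 0) (nat_lit 0x1080040020010008004002041) (nat_lit 0x80040020010008004002041) [(nat_lit 0x40020010008004002001005001), (nat_lit 0x10008004002001007001)] (.cut (nat_lit 1))) .nil))))
theorem c522 : (chk [(x275, s520), (x276, s521)] [g76] p522).n x215 s522 = true := by decide +kernel
noncomputable def p523 : Pf := (.ext (nat_lit 0) (nat_lit 0x8010020040001001) (nat_lit 0x106401002007d073) (nat_lit 0x4802003000800c00101400800e004011003031001000010008006004015004040020010008004002005) (nat_lit 0x200c008012) (nat_lit 0x1002001) (nat_lit 0x100d001) (nat_lit 0x1c00800400e00901400800400a005) (.dfs (nat_lit 1) (nat_lit 0x100200c008012) (nat_lit 0x100a00c00801e) (nat_lit 0x1010004001) (nat_lit 0x1014004005) (nat_lit 12) (nat_lit 0) (nat_lit 2) (nat_lit 0) (nat_lit 0x8010020040003001) (nat_lit 1) (nat_lit 1) (nat_lit 0) (nat_lit 4173) (nat_lit 77) (nat_lit 0x100004c00006c) (nat_lit 0x1000000010000000000000000000) (.cD (nat_lit 76) (.dfs (nat_lit 2) (nat_lit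 0x1004018010024) (nat_lit 0x101c018010024) (nat_lit 0x1020008002001) (nat_lit 0x1038008012001) (nat_lit 0) (nat_lit 0) (nat_lit 2) (nat_lit 0) (nat_lit 0x8010020040003001) (nat_lit 4) (nat_lit 1) (nat_lit 0) (nat_lit 1) (nat_lit 0) (nat_lit 1) (nat_lit 0x10001000100010000000000000000) (.cD (nat_lit 64) (.kA false (nat_lit 0x7a06a02000100100a00c00801500500803002002400304a010020007001004)) (.cD (nat_lit 80) (.kA false (nat_lit 0x7a06a02002100100a00c00801d00500803002000400304a010020007001004)) (.cD (nat_lit 96) (.cut (nat_lit 0)) (.cD (nat_lit 112) (.iso x215 s522 (nat_lit 0) (nat_lit 0x1040020010008004012001) (nat_lit 0x40020010008004012001) [(nat_lit 0x40020010008024002021001001), (nat_lit 0x40020010008024002001003001), (nat_lit 0x10008004002009005001)] (.cut (nat_lit 0))) .nil))))) (.cD (nat_lit 108) (.dfs (nat_lit 2) (nat_lit 0x1004018010024) (nat_lit 0x101c018010024) (nat_lit 0x1020008002001) (nat_lit 0x1038008012001) (nat_lit 0) (nat_lit 0) (nat_lit 2) (nat_lit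 0) (nat_lit 0x8010020040003001) (nat_lit 4) (nat_lit 1) (nat_lit 0) (nat_lit 1) (nat_lit 0) (nat_lit 1) (nat_lit 0x10001000100010000000000000000) (.cD (nat_lit 64) (.kA false (nat_lit 0x1006a02000100100600c00801500504b03002005600404a010020027001002002000005)) (.cD (nat_lit 80) (.kA false (nat_lit 0x1006a02002100100600c00801d00504b03002007600404a010020027001002002000005)) (.cD (nat_lit 96) (.kA true (nat_lit 0x59030010031001004004000057010030007001003)) (.cD (nat_lit 112) (.kA true (nat_lit 0x79030010011001004004000057010030007001003)) .nil))))) .nil))))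
theorem c523 : (chk [(x215, s522)] [g68] p523).n x215 s523 = true := by decide +kernel
noncomputable def p524 : Pf := (.ext (nat_lit 0) (nat_lit 0x4006008010002001) (nat_lit 0x1040010020008002) (nat_lit 0x1400800400a01d00203100100001c00800a00401d001002002000010008006004015002005) (nat_lit 0x400e008014) (nat_lit 0x1004001) (nat_lit 0x1004005) (nat_lit 0x1000800400600501400800400e001) (.dfs (nat_lit 1) (nat_lit 0x1002004008010) (nat_lit 0x100e004008014) (nat_lit 4097) (nat_lit 4097) (nat_lit 12) (nat_lit 0) (nat_lit 2) (nat_lit 0) (nat_lit 0x2004008010001001) (nat_lit 5) (nat_lit 1) (nat_lit 0) (nat_lit 4173) (nat_lit 77) (nat_lit 0x1000005000015) (nat_lit 0x200020) (.cD (nat_lit 5) (.dfs (nat_lit 4) (nat_lit 0x1004008010020) (nat_lit 0x100c008010020) (nat_lit 0x1002001) (nat_lit 0x100a001) (nat_lit 0) (nat_lit 0) (nat_lit 2) (nat_lit 0) (nat_lit 0x4008010020001001) (nat_lit 4) (nat_lit 1) (nat_lit 0) (nat_lit 1) (nat_lit 0) (nat_lit 1) (nat_lit 0x10001000100010) (.cD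 (nat_lit 4) (.kA false (nat_lit 0x7b010020051001008010020040001002)) (.cD (nat_lit 20) (.kA true (nat_lit 0xa004008010008021010030071002002)) (.cD (nat_lit 36) (.cut (nat_lit 0)) (.cD (nat_lit 52) (.kA false (nat_lit 0xa00400801000307b010020041002002002000003)) .nil))))) (.cD (nat_lit 21) (.dfs (nat_lit 4) (nat_lit 0x1004008010020) (nat_lit 0x100c008010020) (nat_lit 0x1002001) (nat_lit 0x100a001) (nat_lit 0) (nat_lit 0) (nat_lit 2) (nat_lit 0) (nat_lit 0x4008010020001001) (nat_lit 4) (nat_lit 1) (nat_lit 0) (nat_lit 1) (nat_lit 0) (nat_lit 1) (nat_lit 0x10001000100010) (.cD (nat_lit 4) (.kS (nat_lit 1) (nat_lit 0x2004008016005001010030040001002) (nat_lit 4143) (nat_lit 0x8004002003) (nat_lit 0x3100100000200400801000100500101003004000e002002004008016005006004)) (.cD (nat_lit 20) (.kA false (nat_lit 0x7b010020071001008010020060001002002000003)) (.cD (nat_lit 36) (.kA false (nat_lit 0xa00400801000307b010020041002002)) (.cD (nat_lit 52) (.kA true (nat_lit 0xa00400801e007031010030061002002))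 .nil))))) .nil))))
theorem c524 : (chk [(x215, s523)] [] p524).n x215 s524 = true := by decide +kernel
noncomputable def p525 : Pf := (.ext (nat_lit 0) (nat_lit 0x4006008010002001) (nat_lit 0x1040010020008002) (nat_lit 0x1400800400a01900203100100001c00800a004019001002002000010008006004011002005) (nat_lit 0x400e008014) (nat_lit 0x1004001) (nat_lit 0x1004005) (nat_lit 0x1000800400600501400800400e001) (.dfs (nat_lit 1) (nat_lit 0x1002004008010) (nat_lit 0x100e004008014) (nat_lit 4097) (nat_lit 4097) (nat_lit 12) (nat_lit 0) (nat_lit 2) (nat_lit 0) (nat_lit 0x2004008010001001) (nat_lit 5) (nat_lit 1) (nat_lit 0) (nat_lit 4173) (nat_lit 77) (nat_lit 0x1000005000015) (nat_lit 0x200020) (.cD (nat_lit 5) (.dfs (nat_lit 4) (nat_lit 0x1004008010020) (nat_lit 0x100c008010020) (nat_lit 0x1002001) (nat_lit 0x100a001) (nat_lit 0) (nat_lit 0) (nat_lit 2) (nat_lit 0) (nat_lit 0x4008010020001001) (nat_lit 4) (nat_lit 1) (nat_lit 0) (nat_lit 1) (nat_lit 0) (nat_lit 1) (nat_lit 0x10001000100010)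 (.cD (nat_lit 4) (.kA false (nat_lit 0x7b010020051001008010020040001002)) (.cD (nat_lit 20) (.kA true (nat_lit 0xa004008010008021010030071002002)) (.cD (nat_lit 36) (.kS (nat_lit 1) (nat_lit 0x2006008012006001010030040001002) (nat_lit 4159) (nat_lit 0x8004002003) (nat_lit 0x101103004102e00200200400801000100500101003004000e00200200600801200f005004)) (.cD (nat_lit 52) (.kA false (nat_lit 0xa00400801000307b010020041002002002000003)) .nil))))) (.cD (nat_lit 21) (.dfs (nat_lit 4) (nat_lit 0x1004008010020) (nat_lit 0x100c008010020) (nat_lit 0x1002001) (nat_lit 0x100a001) (nat_lit 0) (nat_lit 0) (nat_lit 2) (nat_lit 0) (nat_lit 0x4008010020001001) (nat_lit 4) (nat_lit 1) (nat_lit 0) (nat_lit 1) (nat_lit 0) (nat_lit 1) (nat_lit 0x10001000100010) (.cD (nat_lit 4) (.kS (nat_lit 1) (nat_lit 0x2004008010007001) (nat_lit 4110) (nat_lit 0x8004002007) (nat_lit 0x1101003006000c001002002000002004008010001008003)) (.cD (nat_lit 20) (.kA false (nat_lit 0x7b010020071001008010020060001002002000003))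 (.cD (nat_lit 36) (.kA false (nat_lit 0xa00400801000307b010020041002002)) (.cD (nat_lit 52) (.kA true (nat_lit 0xa00400801e007031010030061002002)) .nil))))) .nil))))
theorem c525 : (chk [] [] p525).n x215 s525 = true := by decide +kernel
noncomputable def p526 : Pf := (.ext (nat_lit 0) (nat_lit 0) (nat_lit 0x104401002006d) (nat_lit 0x10008004002007010004002011001002) (nat_lit 0x2003004008) (nat_lit 4103) (nat_lit 4098) (nat_lit 0xc004002001) (.dfs (nat_lit 7) (nat_lit 0x1002003004008) (nat_lit 0x100200300400c) (nat_lit 4097) (nat_lit 4097) (nat_lit 4) (nat_lit 0) (nat_lit 2) (nat_lit 0) (nat_lit 0) (nat_lit 2) (nat_lit 1) (nat_lit 0) (nat_lit 4160) (nat_lit 64) (nat_lit 0x100004200004a00006200006a) (nat_lit 0x404000004040000000000000000) (.cD (nat_lit 66) (.cut (nat_lit 1)) (.cD (nat_lit 74) (.cut (nat_lit 0)) (.cD (nat_lit 98) (.kS (nat_lit 0) (nat_lit 0x2004008010009001) (nat_lit 4162) (nat_lit 0x8004002003) (nat_lit 0x400400000400200801000500100400400000400600801000100200200400801001500a005))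 (.cD (nat_lit 106) (.kS (nat_lit 0) (nat_lit 0x2004008010009001) (nat_lit 4202) (nat_lit 0x8004002003) (nat_lit 0x400400000400200801000500100400400000400600801000100200200400801001700a005)) .nil))))))
theorem c526 : (chk [(x215, s524), (x215, s525)] [] p526).n x215 s526 = true := by decide +kernel
noncomputable def p527 : Pf := (.anc (nat_lit 68) (nat_lit 0x10004002002000002) (nat_lit 0x1009020010004) (.czp (nat_lit 64) (nat_lit 0) (nat_lit 0x1040020010008004) z6 (.dfs (nat_lit 4) (nat_lit 4097) (nat_lit 4097) (nat_lit 1) (nat_lit 1) (nat_lit 0) (nat_lit 0) (nat_lit 3) (nat_lit 0) (nat_lit 0) (nat_lit 0) (nat_lit 1) (nat_lit 0) (nat_lit 0x1008004) (nat_lit 32772) (nat_lit 0x1001004000008001014000018) (nat_lit 0x1000101110110) (.cD (nat_lit 4) (.dfs (nat_lit 16) (nat_lit 4098) (nat_lit 4098) (nat_lit 4097) (nat_lit 4097) (nat_lit 0) (nat_lit 0) (nat_lit 3) (nat_lit 0) (nat_lit 0) (nat_lit 0) (nat_lit 1) (nat_lit 0) (nat_lit 1) (nat_lit 0) (nat_lit 1) (nat_lit 0x11001100110010)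 (.cD (nat_lit 4) (.kc (nat_lit 20) (nat_lit 0x3001001)) (.cD (nat_lit 16) (.dfs (nat_lit 32) (nat_lit 4100) (nat_lit 4100) (nat_lit 0x1002001) (nat_lit 0x1002001) (nat_lit 0) (nat_lit 0) (nat_lit 3) (nat_lit 0) (nat_lit 0) (nat_lit 0) (nat_lit 1) (nat_lit 0) (nat_lit 1) (nat_lit 0) (nat_lit 1) (nat_lit 0x11001100110010) (.cD (nat_lit 4) (.kc (nat_lit 36) (nat_lit 0x5001001)) (.cD (nat_lit 16) (.kc (nat_lit 48) (nat_lit 0x3001001)) (.cD (nat_lit 20) (.kc (nat_lit 52) (nat_lit 0x7001001)) (.cD (nat_lit 32) (.dfs (nat_lit 9) (nat_lit 0x1004001003008) (nat_lit 0x1005001003008) (nat_lit 4098) (nat_lit 4098) (nat_lit 0) (nat_lit 0) (nat_lit 2) (nat_lit 1) (nat_lit 0) (nat_lit 8) (nat_lit 1) (nat_lit 0) (nat_lit 4100) (nat_lit 4) (nat_lit 0x1000048000058) (nat_lit 0x10001000000000000000000) (.cD (nat_lit 72) (.cut (nat_lit 0)) (.cD (nat_lit 88) (.iso x215 s526 (nat_lit 0) (nat_lit 0x1040020010008004012011) (nat_lit 0x40020010008004012011) [(nat_lit 0x10008004002005001001),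 (nat_lit 0x10008004002001003001), (nat_lit 0x1000800400200d005001), (nat_lit 0x10008004002009007001)] (.cut (nat_lit 0))) .nil))) (.cD (nat_lit 36) (.kA true (nat_lit 0x3100100000400100300d001031001000003)) (.cD (nat_lit 48) (.kA true (nat_lit 0x600800401000600400100300d001031001000003)) (.cD (nat_lit 52) (.kA true (nat_lit 0x5004003008001002004008014003031001000003)) .nil)))))))) (.cD (nat_lit 20) (.dfs (nat_lit 32) (nat_lit 4100) (nat_lit 4100) (nat_lit 0x1002001) (nat_lit 0x1002001) (nat_lit 0) (nat_lit 0) (nat_lit 3) (nat_lit 0) (nat_lit 0) (nat_lit 0) (nat_lit 1) (nat_lit 0) (nat_lit 1) (nat_lit 0) (nat_lit 1) (nat_lit 0x11001100110010) (.cD (nat_lit 4) (.kc (nat_lit 36) (nat_lit 0x5001001)) (.cD (nat_lit 16) (.kc (nat_lit 52) (nat_lit 0x7001001)) (.cD (nat_lit 20) (.kc (nat_lit 48) (nat_lit 0x3001001)) (.cD (nat_lit 32) (.kA true (nat_lit 0x5004003008001002004008014003031001000003)) (.cD (nat_lit 36) (.dfs (nat_lit 9) (nat_lit 4102) (nat_lit 4103) (nat_lit 1)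 (nat_lit 1) (nat_lit 0) (nat_lit 0) (nat_lit 1) (nat_lit 4112) (nat_lit 0x40020010008004002031) (nat_lit 0) (nat_lit 1) (nat_lit 0) (nat_lit 1) (nat_lit 0) (nat_lit 1) (nat_lit 0) .nil) (.cD (nat_lit 48) (.kA true (nat_lit 0x400300500800100400100300c001002)) (.cD (nat_lit 52) (.kA true (nat_lit 0x400700100800100400100300c001002)) .nil)))))))) (.cD (nat_lit 32) (.kF (nat_lit 16) (nat_lit 0x100400100c012006002002000003)) (.cD (nat_lit 36) (.kF (nat_lit 16) (nat_lit 0x100400100c012006002002000003)) (.cD (nat_lit 48) (.dfs (nat_lit 32) (nat_lit 4100) (nat_lit 4100) (nat_lit 0x1002001) (nat_lit 0x1002001) (nat_lit 0) (nat_lit 0) (nat_lit 3) (nat_lit 0) (nat_lit 0) (nat_lit 0) (nat_lit 1) (nat_lit 0) (nat_lit 1) (nat_lit 0) (nat_lit 1) (nat_lit 0x11001100110010) (.cD (nat_lit 4) (.kc (nat_lit 36) (nat_lit 0x5001001)) (.cD (nat_lit 16) (.kA true (nat_lit 0x400200100800100400100300c001002)) (.cD (nat_lit 20) (.kA true (nat_lit 0x400600500800100400100300c001002)) (.cD (nat_lit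 32) (.kA true (nat_lit 0x5004003008001002004008014003031001000003)) (.cD (nat_lit 36) (.kA true (nat_lit 0x400500600800100400100300c001002)) (.cD (nat_lit 48) (.kc (nat_lit 48) (nat_lit 0x3001001)) (.cD (nat_lit 52) (.kc (nat_lit 52) (nat_lit 0x7001001)) .nil)))))))) (.cD (nat_lit 52) (.dfs (nat_lit 32) (nat_lit 4100) (nat_lit 4100) (nat_lit 0x1002001) (nat_lit 0x1002001) (nat_lit 0) (nat_lit 0) (nat_lit 3) (nat_lit 0) (nat_lit 0) (nat_lit 0) (nat_lit 1) (nat_lit 0) (nat_lit 1) (nat_lit 0) (nat_lit 1) (nat_lit 0x11001100110010) (.cD (nat_lit 4) (.kc (nat_lit 36) (nat_lit 0x5001001)) (.cD (nat_lit 16) (.kA true (nat_lit 0x400200500800100400100300c001002)) (.cD (nat_lit 20) (.kA true (nat_lit 0x400600100800100400100300c001002)) (.cD (nat_lit 32) (.kA true (nat_lit 0x5004003008001002004008014003031001000003)) (.cD (nat_lit 36) (.kA true (nat_lit 0x400500200800100400100300c001002)) (.cD (nat_lit 48) (.kc (nat_lit 52) (nat_lit 0x7001001)) (.cD (nat_lit 52) (.kc (nat_lit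 48) (nat_lit 0x3001001)) .nil)))))))) .nil)))))))) (.cD (nat_lit 8) (.dfs (nat_lit 16) (nat_lit 4098) (nat_lit 4098) (nat_lit 4097) (nat_lit 4097) (nat_lit 0) (nat_lit 0) (nat_lit 3) (nat_lit 0) (nat_lit 0) (nat_lit 0) (nat_lit 1) (nat_lit 0) (nat_lit 1) (nat_lit 0) (nat_lit 1) (nat_lit 0x101010101010100) (.cD (nat_lit 8) (.kc (nat_lit 20) (nat_lit 0x3001001)) (.cD (nat_lit 16) (.dfs (nat_lit 32) (nat_lit 4100) (nat_lit 4100) (nat_lit 0x1002001) (nat_lit 0x1002001) (nat_lit 0) (nat_lit 0) (nat_lit 3) (nat_lit 0) (nat_lit 0) (nat_lit 0) (nat_lit 1) (nat_lit 0) (nat_lit 1) (nat_lit 0) (nat_lit 1) (nat_lit 0x101010101010100) (.cD (nat_lit 8) (.kc (nat_lit 36) (nat_lit 0x5001001)) (.cD (nat_lit 16) (.kc (nat_lit 48) (nat_lit 0x3001001)) (.cD (nat_lit 24) (.kc (nat_lit 52) (nat_lit 0x7001001)) (.cD (nat_lit 32) (.kA false (nat_lit 0x300400200c00200e004008014007031001000003)) (.cD (nat_lit 40) (.kA false (nat_lit 0x3100100000300500200d002031001000003)) (.cD (nat_lit 48)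 (.kA false (nat_lit 0x200800c01000600500300200b002031001000003)) (.cD (nat_lit 56) (.kA false (nat_lit 0x500400200c00200e004008014007031001000003)) .nil)))))))) (.cD (nat_lit 24) (.dfs (nat_lit 32) (nat_lit 4100) (nat_lit 4100) (nat_lit 0x1002001) (nat_lit 0x1002001) (nat_lit 0) (nat_lit 0) (nat_lit 3) (nat_lit 0) (nat_lit 0) (nat_lit 0) (nat_lit 1) (nat_lit 0) (nat_lit 1) (nat_lit 0) (nat_lit 1) (nat_lit 0x101010101010100) (.cD (nat_lit 8) (.kc (nat_lit 36) (nat_lit 0x5001001)) (.cD (nat_lit 16) (.kc (nat_lit 52) (nat_lit 0x7001001)) (.cD (nat_lit 24) (.kc (nat_lit 48) (nat_lit 0x3001001)) (.cD (nat_lit 32) (.kA false (nat_lit 0x700400600c00200e004008014007031001000003)) (.cD (nat_lit 40) (.kA false (nat_lit 0x3100100000700500600d002031001000003)) (.cD (nat_lit 48) (.kA false (nat_lit 0x100400600c00200e004008014007031001000003)) (.cD (nat_lit 56) (.kA false (nat_lit 0x400800a01000600100300600b002031001000003)) .nil)))))))) (.cD (nat_lit 32) (.kF (nat_lit 16) (nat_lit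 0x100400100c012006002002000003)) (.cD (nat_lit 40) (.kF (nat_lit 16) (nat_lit 0x100400100c012006002002000003)) (.cD (nat_lit 48) (.kF (nat_lit 16) (nat_lit 0x3100100000e014008001006001003)) (.cD (nat_lit 56) (.kF (nat_lit 16) (nat_lit 0x3100100000a014008001006001003)) .nil)))))))) (.cD (nat_lit 16) (.kF (nat_lit 4) (nat_lit 0x2002000001003001002)) (.cD (nat_lit 20) (.kF (nat_lit 4) (nat_lit 0xe01e005001003001002)) (.cD (nat_lit 24) (.kF (nat_lit 4) (nat_lit 0x1002001002012006002002000003)) (.cD (nat_lit 32) (.dfs (nat_lit 16) (nat_lit 4098) (nat_lit 4098) (nat_lit 4097) (nat_lit 4097) (nat_lit 0) (nat_lit 0) (nat_lit 3) (nat_lit 0) (nat_lit 0) (nat_lit 0) (nat_lit 1) (nat_lit 0) (nat_lit 0x1008004) (nat_lit 32772) (nat_lit 0x1001004000008001014000018) (nat_lit 0x1000101110110) (.cD (nat_lit 4) (.kF (nat_lit 16) (nat_lit 0x31001000001006001002)) (.cD (nat_lit 8) (.kF (nat_lit 16) (nat_lit 0x100400100c012006002002000003)) (.cD (nat_lit 16) (.dfs (nat_lit 32) (nat_lit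 4100) (nat_lit 4100) (nat_lit 0x1002001) (nat_lit 0x1002001) (nat_lit 0) (nat_lit 0) (nat_lit 3) (nat_lit 0) (nat_lit 0) (nat_lit 0) (nat_lit 1) (nat_lit 0) (nat_lit 0x1008004) (nat_lit 32772) (nat_lit 0x1001004000008001014000018) (nat_lit 0x1000101110110) (.cD (nat_lit 4) (.kA true (nat_lit 0x100400600c002031001000002)) (.cD (nat_lit 8) (.kA false (nat_lit 0x700400200c002031001000002)) (.cD (nat_lit 16) (.kc (nat_lit 48) (nat_lit 0x3001001)) (.cD (nat_lit 20) (.kA true (nat_lit 0x300400600c002031001000002)) (.cD (nat_lit 24) (.kA false (nat_lit 0x500400200c002031001000002)) (.cD (nat_lit 32) (.kc (nat_lit 36) (nat_lit 0x5001001)) (.cD (nat_lit 48) (.kc (nat_lit 52) (nat_lit 0x7001001)) .nil)))))))) (.cD (nat_lit 20) (.dfs (nat_lit 32) (nat_lit 4100) (nat_lit 4100) (nat_lit 0x1002001) (nat_lit 0x1002001) (nat_lit 0) (nat_lit 0) (nat_lit 3) (nat_lit 0) (nat_lit 0) (nat_lit 0) (nat_lit 1) (nat_lit 0) (nat_lit 1) (nat_lit 0) (nat_lit 1) (nat_lit 0x11001100110010) (.cD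 (nat_lit 4) (.kA true (nat_lit 0x100400700c002031001000002)) (.cD (nat_lit 16) (.kA true (nat_lit 0x300400500c002031001000002)) (.cD (nat_lit 20) (.kc (nat_lit 48) (nat_lit 0x3001001)) (.cD (nat_lit 32) (.kc (nat_lit 36) (nat_lit 0x5001001)) (.cD (nat_lit 36) (.dfs (nat_lit 9) (nat_lit 4100) (nat_lit 4101) (nat_lit 1) (nat_lit 1) (nat_lit 0) (nat_lit 0) (nat_lit 1) (nat_lit 4128) (nat_lit 0x40020010008004002031) (nat_lit 0) (nat_lit 1) (nat_lit 0) (nat_lit 1) (nat_lit 0) (nat_lit 1) (nat_lit 0) .nil) (.cD (nat_lit 48) (.kA true (nat_lit 0x700400100c002031001000002)) (.cD (nat_lit 52) (.kc (nat_lit 52) (nat_lit 0x7001001)) .nil)))))))) (.cD (nat_lit 24) (.kF (nat_lit 16) (nat_lit 0x31001000001006001002)) (.cD (nat_lit 32) (.kc (nat_lit 20) (nat_lit 0x3001001)) (.cD (nat_lit 48) (.dfs (nat_lit 32) (nat_lit 4100) (nat_lit 4100) (nat_lit 0x1002001) (nat_lit 0x1002001) (nat_lit 0) (nat_lit 0) (nat_lit 3) (nat_lit 0) (nat_lit 0) (nat_lit 0) (nat_lit 1) (nat_lit 0) (nat_lit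 0x1008004) (nat_lit 32772) (nat_lit 0x1001004000008001014000018) (nat_lit 0x1000101110110) (.cD (nat_lit 4) (.kA true (nat_lit 0x100400200c002031001000002)) (.cD (nat_lit 8) (.kA false (nat_lit 0x300400600c002031001000002)) (.cD (nat_lit 16) (.kc (nat_lit 52) (nat_lit 0x7001001)) (.cD (nat_lit 20) (.kA true (nat_lit 0x700400200c002031001000002)) (.cD (nat_lit 24) (.kA false (nat_lit 0x500400600c002031001000002)) (.cD (nat_lit 32) (.kc (nat_lit 36) (nat_lit 0x5001001)) (.cD (nat_lit 48) (.kc (nat_lit 48) (nat_lit 0x3001001)) .nil)))))))) .nil)))))))) (.cD (nat_lit 48) (.kF (nat_lit 4) (nat_lit 0x1002001002012006002002000003)) .nil))))))))))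
theorem c527 : (chk [(x215, s526)] [g68] p527).n x215 s527 = true := by decide +kernel

end Cfsg.Lib.D8.T0O
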