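import Cfsg.Agent.Lib.D8.T.T0OG0

/-! Certificates (generated, helper29). -/

set_option maxRecDepth 100000
set_option Elab.async false

namespace Cfsg.Lib.D8.T0O

universe u

noncomputable def p528 : Pf := (.ext (nat_lit 1) (nat_lit 0) (nat_lit 0x1040030020004) (nat_lit 0x1002004008005001) (nat_lit 0x2003004008) (nat_lit 4107) (nat_lit 4107) (nat_lit 0xc004002001) (.dfs (nat_lit 11) (nat_lit 0x1002003004008) (nat_lit 0x100200300400c) (nat_lit 4097) (nat_lit 4097) (nat_lit 0) (nat_lit 0) (nat_lit 2) (nat_lit 1) (nat_lit 0) (nat_lit 11) (nat_lit 1) (nat_lit 0) (nat_lit 4160) (nat_lit 64) (nat_lit 0x100000b00000f00001b00001f) (nat_lit 0x88008800) (.cD (nat_lit 11) (.cut (nat_lit 0)) (.cD (nat_lit 15) (.iso x215 s527 (nat_lit 0) (nat_lit 0x1040020010008004012001) (nat_lit 0x40020010008004012001) [(nat_lit 0x1000800400200d001001), (nat_lit 0x1000800400200d003001), (nat_lit 0x10008004002009005001)] (.cut (nat_lit 0))) (.cD (nat_lit 27) (.kS (nat_lit 1) (nat_lit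 0x2006008010002008008000002) (nat_lit 4111) (nat_lit 0x8004002003) (nat_lit 0x8008000002004008010001001008008000002006008010007001004)) (.cD (nat_lit 31) (.kS (nat_lit 1) (nat_lit 0x2006008010002008008000002) (nat_lit 4139) (nat_lit 0x8004002003) (nat_lit 0x8008000002004008010001001008008000002006008010005001004)) .nil))))))
theorem c528 : (chk [(x215, s527)] [g68] p528).n x215 s528 = true := by decide +kernel
noncomputable def p529 : Pf := (.lft (nat_lit 0x20008018001004002003001) (nat_lit 0) (nat_lit 0x1028020) (nat_lit 0x20010008004002001) (.extn a22 (nat_lit 0x20010008004002001) (nat_lit 0x1004010008020) (nat_lit 2) (nat_lit 0) (nat_lit 0) (nat_lit 0) (nat_lit 0x1010101) (.cE (nat_lit 0) b65 (nat_lit 0) (.cut (nat_lit 0)) (.cut (nat_lit 1)) (.cE (nat_lit 8) b66 (nat_lit 0) (.cut (nat_lit 2)) (.cut (nat_lit 3)) (.cE (nat_lit 16) b67 (nat_lit 0) (.cut (nat_lit 4)) (.cut (nat_lit 5)) (.cE (nat_lit 24) b68 t68 (.cut (nat_lit 6)) (.cut (nat_lit 7)) .nil))))))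
theorem c529 : (chk [(x208, s513), (x209, s514), (x210, s515), (x211, s516), (x212, s517), (x213, s518), (x214, s519), (x215, s528)] [] p529).n x207 s529 = true := by decide +kernel
noncomputable def p530 : Pf := (.ext (nat_lit 1) (nat_lit 0) (nat_lit 0x1020018010002) (nat_lit 0x700200c008005001001000001002004008005003) (nat_lit 0x300200400f) (nat_lit 4101) (nat_lit 4101) (nat_lit 0xe004002001) (.dfs (nat_lit 5) (nat_lit 0x100300200400f) (nat_lit 0x1003002004009) (nat_lit 0x1008001) (nat_lit 0x100e001) (nat_lit 0) (nat_lit 0) (nat_lit 2) (nat_lit 1) (nat_lit 0) (nat_lit 5) (nat_lit 1) (nat_lit 0) (nat_lit 4128) (nat_lit 32) (nat_lit 0x1000005000007000015000017) (nat_lit 0xa000a0) (.cD (nat_lit 5) (.kS (nat_lit 1) (nat_lit 0x4008010020003001) (nat_lit 4125) (nat_lit 0x8004002007) (nat_lit 0x600400801a001001002004008010001001004008010020003004003)) (.cD (nat_lit 7) (.cut (nat_lit 1)) (.cD (nat_lit 21) (.kS (nat_lit 1) (nat_lit 0x4008010020003001) (nat_lit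 4125) (nat_lit 0x8004002007) (nat_lit 0x600400801a005001002004008010001001004008010020003004003)) (.cD (nat_lit 23) (.cut (nat_lit 0)) .nil))))))
theorem c530 : (chk [(x207, s512), (x207, s529)] [] p530).n x207 s530 = true := by decide +kernel
noncomputable def p531 : Pf := (.anc (nat_lit 68) (nat_lit 0x10002002002000002) (nat_lit 0x1009020010004) (.czp (nat_lit 64) (nat_lit 0) (nat_lit 0x1040020010008004) z6 (.dfs (nat_lit 4) (nat_lit 4097) (nat_lit 4097) (nat_lit 1) (nat_lit 1) (nat_lit 0) (nat_lit 0) (nat_lit 3) (nat_lit 0) (nat_lit 0) (nat_lit 0) (nat_lit 1) (nat_lit 0) (nat_lit 0x1008004) (nat_lit 32772) (nat_lit 0x1001004000008001014000018) (nat_lit 0x1000101110110) (.cD (nat_lit 4) (.dfs (nat_lit 16) (nat_lit 4098) (nat_lit 4098) (nat_lit 4097) (nat_lit 4097) (nat_lit 0) (nat_lit 0) (nat_lit 3) (nat_lit 0) (nat_lit 0) (nat_lit 0) (nat_lit 1) (nat_lit 0) (nat_lit 1) (nat_lit 0) (nat_lit 1) (nat_lit 0x11001100110010) (.cD (nat_lit 4) (.kc (nat_lit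 20) (nat_lit 0x3001001)) (.cD (nat_lit 16) (.dfs (nat_lit 32) (nat_lit 4100) (nat_lit 4100) (nat_lit 0x1002001) (nat_lit 0x1002001) (nat_lit 0) (nat_lit 0) (nat_lit 3) (nat_lit 0) (nat_lit 0) (nat_lit 0) (nat_lit 1) (nat_lit 0) (nat_lit 1) (nat_lit 0) (nat_lit 1) (nat_lit 0x11001100110010) (.cD (nat_lit 4) (.kc (nat_lit 36) (nat_lit 0x5001001)) (.cD (nat_lit 16) (.kc (nat_lit 48) (nat_lit 0x3001001)) (.cD (nat_lit 20) (.kc (nat_lit 52) (nat_lit 0x7001001)) (.cD (nat_lit 32) (.dfs (nat_lit 9) (nat_lit 0x1004001003008) (nat_lit 0x1005001003008) (nat_lit 4098) (nat_lit 4098) (nat_lit 2) (nat_lit 0) (nat_lit 2) (nat_lit 1) (nat_lit 0) (nat_lit 8) (nat_lit 1) (nat_lit 0) (nat_lit 1) (nat_lit 0) (nat_lit 1) (nat_lit 0) .nil) (.cD (nat_lit 36) (.kA true (nat_lit 0x100100000400100300d001001001000003)) (.cD (nat_lit 48) (.kA true (nat_lit 0x600800401000400400100300d001001001000003)) (.cD (nat_lit 52) (.kA true (nat_lit 0x5004003008001008004002005007001001000003))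 .nil)))))))) (.cD (nat_lit 20) (.dfs (nat_lit 32) (nat_lit 4100) (nat_lit 4100) (nat_lit 0x1002001) (nat_lit 0x1002001) (nat_lit 0) (nat_lit 0) (nat_lit 3) (nat_lit 0) (nat_lit 0) (nat_lit 0) (nat_lit 1) (nat_lit 0) (nat_lit 1) (nat_lit 0) (nat_lit 1) (nat_lit 0x11001100110010) (.cD (nat_lit 4) (.kc (nat_lit 36) (nat_lit 0x5001001)) (.cD (nat_lit 16) (.kc (nat_lit 52) (nat_lit 0x7001001)) (.cD (nat_lit 20) (.kc (nat_lit 48) (nat_lit 0x3001001)) (.cD (nat_lit 32) (.kA true (nat_lit 0x5004003008001008004002005007001001000003)) (.cD (nat_lit 36) (.dfs (nat_lit 9) (nat_lit 4102) (nat_lit 4103) (nat_lit 1) (nat_lit 1) (nat_lit 2) (nat_lit 0) (nat_lit 1) (nat_lit 4112) (nat_lit 0x40020010008004002001) (nat_lit 0) (nat_lit 1) (nat_lit 0) (nat_lit 1) (nat_lit 0) (nat_lit 1) (nat_lit 0) .nil) (.cD (nat_lit 48) (.kA true (nat_lit 0x400300500800100400100300c001002)) (.cD (nat_lit 52) (.kA true (nat_lit 0x400700100800100400100300c001002)) .nil)))))))) (.cD (nat_lit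 32) (.kF (nat_lit 16) (nat_lit 0x100400100c012004002002000003)) (.cD (nat_lit 36) (.kF (nat_lit 16) (nat_lit 0x100400100c012004002002000003)) (.cD (nat_lit 48) (.dfs (nat_lit 32) (nat_lit 4100) (nat_lit 4100) (nat_lit 0x1002001) (nat_lit 0x1002001) (nat_lit 0) (nat_lit 0) (nat_lit 3) (nat_lit 0) (nat_lit 0) (nat_lit 0) (nat_lit 1) (nat_lit 0) (nat_lit 1) (nat_lit 0) (nat_lit 1) (nat_lit 0x11001100110010) (.cD (nat_lit 4) (.kc (nat_lit 36) (nat_lit 0x5001001)) (.cD (nat_lit 16) (.kA true (nat_lit 0x400200100800100400100300c001002)) (.cD (nat_lit 20) (.kA true (nat_lit 0x400600500800100400100300c001002)) (.cD (nat_lit 32) (.kA true (nat_lit 0x5004003008001008004002005007001001000003)) (.cD (nat_lit 36) (.kA true (nat_lit 0x400500600800100400100300c001002)) (.cD (nat_lit 48) (.kc (nat_lit 48) (nat_lit 0x3001001)) (.cD (nat_lit 52) (.kc (nat_lit 52) (nat_lit 0x7001001)) .nil)))))))) (.cD (nat_lit 52) (.dfs (nat_lit 32) (nat_lit 4100) (nat_lit 4100) (nat_lit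 0x1002001) (nat_lit 0x1002001) (nat_lit 0) (nat_lit 0) (nat_lit 3) (nat_lit 0) (nat_lit 0) (nat_lit 0) (nat_lit 1) (nat_lit 0) (nat_lit 1) (nat_lit 0) (nat_lit 1) (nat_lit 0x11001100110010) (.cD (nat_lit 4) (.kc (nat_lit 36) (nat_lit 0x5001001)) (.cD (nat_lit 16) (.kA true (nat_lit 0x400200500800100400100300c001002)) (.cD (nat_lit 20) (.kA true (nat_lit 0x400600100800100400100300c001002)) (.cD (nat_lit 32) (.kA true (nat_lit 0x5004003008001008004002005007001001000003)) (.cD (nat_lit 36) (.kA true (nat_lit 0x400500200800100400100300c001002)) (.cD (nat_lit 48) (.kc (nat_lit 52) (nat_lit 0x7001001)) (.cD (nat_lit 52) (.kc (nat_lit 48) (nat_lit 0x3001001)) .nil)))))))) .nil)))))))) (.cD (nat_lit 8) (.dfs (nat_lit 16) (nat_lit 4098) (nat_lit 4098) (nat_lit 4097) (nat_lit 4097) (nat_lit 0) (nat_lit 0) (nat_lit 3) (nat_lit 0) (nat_lit 0) (nat_lit 0) (nat_lit 1) (nat_lit 0) (nat_lit 1) (nat_lit 0) (nat_lit 1) (nat_lit 0x101010101010100) (.cD (nat_lit 8) (.kc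 (nat_lit 20) (nat_lit 0x3001001)) (.cD (nat_lit 16) (.dfs (nat_lit 32) (nat_lit 4100) (nat_lit 4100) (nat_lit 0x1002001) (nat_lit 0x1002001) (nat_lit 0) (nat_lit 0) (nat_lit 3) (nat_lit 0) (nat_lit 0) (nat_lit 0) (nat_lit 1) (nat_lit 0) (nat_lit 1) (nat_lit 0) (nat_lit 1) (nat_lit 0x101010101010100) (.cD (nat_lit 8) (.kc (nat_lit 36) (nat_lit 0x5001001)) (.cD (nat_lit 16) (.kc (nat_lit 48) (nat_lit 0x3001001)) (.cD (nat_lit 24) (.kc (nat_lit 52) (nat_lit 0x7001001)) (.cD (nat_lit 32) (.kA false (nat_lit 0x700400200c00200a004008014005001001000003)) (.cD (nat_lit 40) (.kA false (nat_lit 0x100100000600500200d002001001000003)) (.cD (nat_lit 48) (.kA false (nat_lit 0xa00800c01000400600300200b002001001000003)) (.cD (nat_lit 56) (.kA false (nat_lit 0x100400200c00200a004008014005001001000003)) .nil)))))))) (.cD (nat_lit 24) (.dfs (nat_lit 32) (nat_lit 4100) (nat_lit 4100) (nat_lit 0x1002001) (nat_lit 0x1002001) (nat_lit 0) (nat_lit 0) (nat_lit 3) (nat_lit 0)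 (nat_lit 0) (nat_lit 0) (nat_lit 1) (nat_lit 0) (nat_lit 1) (nat_lit 0) (nat_lit 1) (nat_lit 0x101010101010100) (.cD (nat_lit 8) (.kc (nat_lit 36) (nat_lit 0x5001001)) (.cD (nat_lit 16) (.kc (nat_lit 52) (nat_lit 0x7001001)) (.cD (nat_lit 24) (.kc (nat_lit 48) (nat_lit 0x3001001)) (.cD (nat_lit 32) (.kA false (nat_lit 0x300400600c00200a004008014005001001000003)) (.cD (nat_lit 40) (.kA false (nat_lit 0x100100000200500600d002001001000003)) (.cD (nat_lit 48) (.kA false (nat_lit 0x500400600c00200a004008014005001001000003)) (.cD (nat_lit 56) (.kA false (nat_lit 0xc00800a01000400200300600b002001001000003)) .nil)))))))) (.cD (nat_lit 32) (.kF (nat_lit 16) (nat_lit 0x100400100c012004002002000003)) (.cD (nat_lit 40) (.kF (nat_lit 16) (nat_lit 0x100400100c012004002002000003)) (.cD (nat_lit 48) (.kF (nat_lit 16) (nat_lit 0x100100000e014006001006001003)) (.cD (nat_lit 56) (.kF (nat_lit 16) (nat_lit 0x100100000a014006001006001003)) .nil)))))))) (.cD (nat_lit 16) (.kF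 (nat_lit 4) (nat_lit 0x2002000001003001002)) (.cD (nat_lit 20) (.kF (nat_lit 4) (nat_lit 0xe01e003001003001002)) (.cD (nat_lit 24) (.kF (nat_lit 4) (nat_lit 0x1002001002012004002002000003)) (.cD (nat_lit 32) (.dfs (nat_lit 16) (nat_lit 4098) (nat_lit 4098) (nat_lit 4097) (nat_lit 4097) (nat_lit 0) (nat_lit 0) (nat_lit 3) (nat_lit 0) (nat_lit 0) (nat_lit 0) (nat_lit 1) (nat_lit 0) (nat_lit 0x1008004) (nat_lit 32772) (nat_lit 0x1001004000008001014000018) (nat_lit 0x1000101110110) (.cD (nat_lit 4) (.kF (nat_lit 16) (nat_lit 0x1001000001006001002)) (.cD (nat_lit 8) (.kF (nat_lit 16) (nat_lit 0x100400100c012004002002000003)) (.cD (nat_lit 16) (.dfs (nat_lit 32) (nat_lit 4100) (nat_lit 4100) (nat_lit 0x1002001) (nat_lit 0x1002001) (nat_lit 0) (nat_lit 0) (nat_lit 3) (nat_lit 0) (nat_lit 0) (nat_lit 0) (nat_lit 1) (nat_lit 0) (nat_lit 0x1008004) (nat_lit 32772) (nat_lit 0x1001004000008001014000018) (nat_lit 0x1000101110110) (.cD (nat_lit 4) (.kA true (nat_lit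 0x100400600c002001001000002)) (.cD (nat_lit 8) (.kA false (nat_lit 0x300400200c002001001000002)) (.cD (nat_lit 16) (.kc (nat_lit 48) (nat_lit 0x3001001)) (.cD (nat_lit 20) (.kA true (nat_lit 0x300400600c002001001000002)) (.cD (nat_lit 24) (.kA false (nat_lit 0x100400200c002001001000002)) (.cD (nat_lit 32) (.kc (nat_lit 36) (nat_lit 0x5001001)) (.cD (nat_lit 48) (.kc (nat_lit 52) (nat_lit 0x7001001)) .nil)))))))) (.cD (nat_lit 20) (.dfs (nat_lit 32) (nat_lit 4100) (nat_lit 4100) (nat_lit 0x1002001) (nat_lit 0x1002001) (nat_lit 0) (nat_lit 0) (nat_lit 3) (nat_lit 0) (nat_lit 0) (nat_lit 0) (nat_lit 1) (nat_lit 0) (nat_lit 1) (nat_lit 0) (nat_lit 1) (nat_lit 0x11001100110010) (.cD (nat_lit 4) (.kA true (nat_lit 0x100400700c002001001000002)) (.cD (nat_lit 16) (.kA true (nat_lit 0x300400500c002001001000002)) (.cD (nat_lit 20) (.kc (nat_lit 48) (nat_lit 0x3001001)) (.cD (nat_lit 32) (.kc (nat_lit 36) (nat_lit 0x5001001)) (.cD (nat_lit 36) (.dfs (nat_lit 9)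 (nat_lit 4100) (nat_lit 4101) (nat_lit 1) (nat_lit 1) (nat_lit 2) (nat_lit 0) (nat_lit 1) (nat_lit 4128) (nat_lit 0x40020010008004002001) (nat_lit 0) (nat_lit 1) (nat_lit 0) (nat_lit 1) (nat_lit 0) (nat_lit 1) (nat_lit 0) .nil) (.cD (nat_lit 48) (.kA true (nat_lit 0x700400100c002001001000002)) (.cD (nat_lit 52) (.kc (nat_lit 52) (nat_lit 0x7001001)) .nil)))))))) (.cD (nat_lit 24) (.kF (nat_lit 16) (nat_lit 0x1001000001006001002)) (.cD (nat_lit 32) (.kc (nat_lit 20) (nat_lit 0x3001001)) (.cD (nat_lit 48) (.dfs (nat_lit 32) (nat_lit 4100) (nat_lit 4100) (nat_lit 0x1002001) (nat_lit 0x1002001) (nat_lit 0) (nat_lit 0) (nat_lit 3) (nat_lit 0) (nat_lit 0) (nat_lit 0) (nat_lit 1) (nat_lit 0) (nat_lit 0x1008004) (nat_lit 32772) (nat_lit 0x1001004000008001014000018) (nat_lit 0x1000101110110) (.cD (nat_lit 4) (.kA true (nat_lit 0x100400200c002001001000002)) (.cD (nat_lit 8) (.kA false (nat_lit 0x700400600c002001001000002)) (.cD (nat_lit 16) (.kc (nat_lit 52) (nat_lit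 0x7001001)) (.cD (nat_lit 20) (.kA true (nat_lit 0x700400200c002001001000002)) (.cD (nat_lit 24) (.kA false (nat_lit 0x100400600c002001001000002)) (.cD (nat_lit 32) (.kc (nat_lit 36) (nat_lit 0x5001001)) (.cD (nat_lit 48) (.kc (nat_lit 48) (nat_lit 0x3001001)) .nil)))))))) .nil)))))))) (.cD (nat_lit 48) (.kF (nat_lit 4) (nat_lit 0x1002001002012004002002000003)) .nil))))))))))
theorem c531 : (chk [] [] p531).n x277 s531 = true := by decide +kernel
noncomputable def p532 : Pf := (.anc (nat_lit 68) (nat_lit 0x10002002002000002) (nat_lit 0x1009020010004) (.czp (nat_lit 64) (nat_lit 0) (nat_lit 0x1040020010008004) z6 (.dfs (nat_lit 4) (nat_lit 4097) (nat_lit 4097) (nat_lit 1) (nat_lit 1) (nat_lit 0) (nat_lit 0) (nat_lit 3) (nat_lit 0) (nat_lit 0) (nat_lit 0) (nat_lit 1) (nat_lit 0) (nat_lit 0x1008004) (nat_lit 32772) (nat_lit 0x1001004000008001014000018) (nat_lit 0x1000101110110) (.cD (nat_lit 4) (.dfs (nat_lit 16) (nat_lit 4098) (nat_lit 4098) (nat_lit 4097)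 (nat_lit 4097) (nat_lit 0) (nat_lit 0) (nat_lit 3) (nat_lit 0) (nat_lit 0) (nat_lit 0) (nat_lit 1) (nat_lit 0) (nat_lit 1) (nat_lit 0) (nat_lit 1) (nat_lit 0x11001100110010) (.cD (nat_lit 4) (.kc (nat_lit 20) (nat_lit 0x3001001)) (.cD (nat_lit 16) (.dfs (nat_lit 32) (nat_lit 4100) (nat_lit 4100) (nat_lit 0x1002001) (nat_lit 0x1002001) (nat_lit 0) (nat_lit 0) (nat_lit 3) (nat_lit 0) (nat_lit 0) (nat_lit 0) (nat_lit 1) (nat_lit 0) (nat_lit 1) (nat_lit 0) (nat_lit 1) (nat_lit 0x11001100110010) (.cD (nat_lit 4) (.kc (nat_lit 36) (nat_lit 0x5001001)) (.cD (nat_lit 16) (.kc (nat_lit 48) (nat_lit 0x3001001)) (.cD (nat_lit 20) (.kc (nat_lit 52) (nat_lit 0x7001001)) (.cD (nat_lit 32) (.dfs (nat_lit 9) (nat_lit 0x1004001003008) (nat_lit 0x1005001003008) (nat_lit 4098) (nat_lit 4098) (nat_lit 2) (nat_lit 0) (nat_lit 2) (nat_lit 1) (nat_lit 0) (nat_lit 8) (nat_lit 1) (nat_lit 0) (nat_lit 1) (nat_lit 0) (nat_lit 1) (nat_lit 0) .nil) (.cD (nat_lit 36) (.kA true (nat_lit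 0x100100000400100300d001001001000003)) (.cD (nat_lit 48) (.kA true (nat_lit 0x600800401000400400100300d001001001000003)) (.cD (nat_lit 52) (.kA true (nat_lit 0x5004003008001008004002005007001001000003)) .nil)))))))) (.cD (nat_lit 20) (.dfs (nat_lit 32) (nat_lit 4100) (nat_lit 4100) (nat_lit 0x1002001) (nat_lit 0x1002001) (nat_lit 0) (nat_lit 0) (nat_lit 3) (nat_lit 0) (nat_lit 0) (nat_lit 0) (nat_lit 1) (nat_lit 0) (nat_lit 1) (nat_lit 0) (nat_lit 1) (nat_lit 0x11001100110010) (.cD (nat_lit 4) (.kc (nat_lit 36) (nat_lit 0x5001001)) (.cD (nat_lit 16) (.kc (nat_lit 52) (nat_lit 0x7001001)) (.cD (nat_lit 20) (.kc (nat_lit 48) (nat_lit 0x3001001)) (.cD (nat_lit 32) (.kA true (nat_lit 0x5004003008001008004002005007001001000003)) (.cD (nat_lit 36) (.dfs (nat_lit 9) (nat_lit 4102) (nat_lit 4103) (nat_lit 1) (nat_lit 1) (nat_lit 2) (nat_lit 0) (nat_lit 1) (nat_lit 4112) (nat_lit 0x40020010008004002001) (nat_lit 0) (nat_lit 1) (nat_lit 0) (nat_lit 1) (nat_lit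 0) (nat_lit 1) (nat_lit 0) .nil) (.cD (nat_lit 48) (.kA true (nat_lit 0x400300500800100400100300c001002)) (.cD (nat_lit 52) (.kA true (nat_lit 0x400700100800100400100300c001002)) .nil)))))))) (.cD (nat_lit 32) (.kF (nat_lit 16) (nat_lit 0x100400100c012004002002000003)) (.cD (nat_lit 36) (.kF (nat_lit 16) (nat_lit 0x100400100c012004002002000003)) (.cD (nat_lit 48) (.dfs (nat_lit 32) (nat_lit 4100) (nat_lit 4100) (nat_lit 0x1002001) (nat_lit 0x1002001) (nat_lit 0) (nat_lit 0) (nat_lit 3) (nat_lit 0) (nat_lit 0) (nat_lit 0) (nat_lit 1) (nat_lit 0) (nat_lit 1) (nat_lit 0) (nat_lit 1) (nat_lit 0x11001100110010) (.cD (nat_lit 4) (.kc (nat_lit 36) (nat_lit 0x5001001)) (.cD (nat_lit 16) (.kA true (nat_lit 0x400200100800100400100300c001002)) (.cD (nat_lit 20) (.kA true (nat_lit 0x400600500800100400100300c001002)) (.cD (nat_lit 32) (.kA true (nat_lit 0x5004003008001008004002005007001001000003)) (.cD (nat_lit 36) (.kA true (nat_lit 0x400500600800100400100300c001002))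 (.cD (nat_lit 48) (.kc (nat_lit 48) (nat_lit 0x3001001)) (.cD (nat_lit 52) (.kc (nat_lit 52) (nat_lit 0x7001001)) .nil)))))))) (.cD (nat_lit 52) (.dfs (nat_lit 32) (nat_lit 4100) (nat_lit 4100) (nat_lit 0x1002001) (nat_lit 0x1002001) (nat_lit 0) (nat_lit 0) (nat_lit 3) (nat_lit 0) (nat_lit 0) (nat_lit 0) (nat_lit 1) (nat_lit 0) (nat_lit 1) (nat_lit 0) (nat_lit 1) (nat_lit 0x11001100110010) (.cD (nat_lit 4) (.kc (nat_lit 36) (nat_lit 0x5001001)) (.cD (nat_lit 16) (.kA true (nat_lit 0x400200500800100400100300c001002)) (.cD (nat_lit 20) (.kA true (nat_lit 0x400600100800100400100300c001002)) (.cD (nat_lit 32) (.kA true (nat_lit 0x5004003008001008004002005007001001000003)) (.cD (nat_lit 36) (.kA true (nat_lit 0x400500200800100400100300c001002)) (.cD (nat_lit 48) (.kc (nat_lit 52) (nat_lit 0x7001001)) (.cD (nat_lit 52) (.kc (nat_lit 48) (nat_lit 0x3001001)) .nil)))))))) .nil)))))))) (.cD (nat_lit 8) (.dfs (nat_lit 16) (nat_lit 4098) (nat_lit 4098) (nat_lit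 4097) (nat_lit 4097) (nat_lit 0) (nat_lit 0) (nat_lit 3) (nat_lit 0) (nat_lit 0) (nat_lit 0) (nat_lit 1) (nat_lit 0) (nat_lit 1) (nat_lit 0) (nat_lit 1) (nat_lit 0x101010101010100) (.cD (nat_lit 8) (.kc (nat_lit 20) (nat_lit 0x3001001)) (.cD (nat_lit 16) (.dfs (nat_lit 32) (nat_lit 4100) (nat_lit 4100) (nat_lit 0x1002001) (nat_lit 0x1002001) (nat_lit 0) (nat_lit 0) (nat_lit 3) (nat_lit 0) (nat_lit 0) (nat_lit 0) (nat_lit 1) (nat_lit 0) (nat_lit 1) (nat_lit 0) (nat_lit 1) (nat_lit 0x101010101010100) (.cD (nat_lit 8) (.kc (nat_lit 36) (nat_lit 0x5001001)) (.cD (nat_lit 16) (.kc (nat_lit 48) (nat_lit 0x3001001)) (.cD (nat_lit 24) (.kc (nat_lit 52) (nat_lit 0x7001001)) (.cD (nat_lit 32) (.kA false (nat_lit 0x700400200c00200a004008014005001001000003)) (.cD (nat_lit 40) (.kA false (nat_lit 0x100100000600500200d002001001000003)) (.cD (nat_lit 48) (.kA false (nat_lit 0xa00800c01000400600300200b002001001000003)) (.cD (nat_lit 56) (.kA false (nat_lit 0x100400200c00200a004008014005001001000003))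 .nil)))))))) (.cD (nat_lit 24) (.dfs (nat_lit 32) (nat_lit 4100) (nat_lit 4100) (nat_lit 0x1002001) (nat_lit 0x1002001) (nat_lit 0) (nat_lit 0) (nat_lit 3) (nat_lit 0) (nat_lit 0) (nat_lit 0) (nat_lit 1) (nat_lit 0) (nat_lit 1) (nat_lit 0) (nat_lit 1) (nat_lit 0x101010101010100) (.cD (nat_lit 8) (.kc (nat_lit 36) (nat_lit 0x5001001)) (.cD (nat_lit 16) (.kc (nat_lit 52) (nat_lit 0x7001001)) (.cD (nat_lit 24) (.kc (nat_lit 48) (nat_lit 0x3001001)) (.cD (nat_lit 32) (.kA false (nat_lit 0x300400600c00200a004008014005001001000003)) (.cD (nat_lit 40) (.kA false (nat_lit 0x100100000200500600d002001001000003)) (.cD (nat_lit 48) (.kA false (nat_lit 0x500400600c00200a004008014005001001000003)) (.cD (nat_lit 56) (.kA false (nat_lit 0xc00800a01000400200300600b002001001000003)) .nil)))))))) (.cD (nat_lit 32) (.kF (nat_lit 16) (nat_lit 0x100400100c012004002002000003)) (.cD (nat_lit 40) (.kF (nat_lit 16) (nat_lit 0x100400100c012004002002000003)) (.cD (nat_lit 48) (.kF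 (nat_lit 16) (nat_lit 0x100100000e014006001006001003)) (.cD (nat_lit 56) (.kF (nat_lit 16) (nat_lit 0x100100000a014006001006001003)) .nil)))))))) (.cD (nat_lit 16) (.kF (nat_lit 4) (nat_lit 0x2002000001003001002)) (.cD (nat_lit 20) (.kF (nat_lit 4) (nat_lit 0xe01e003001003001002)) (.cD (nat_lit 24) (.kF (nat_lit 4) (nat_lit 0x1002001002012004002002000003)) (.cD (nat_lit 32) (.dfs (nat_lit 16) (nat_lit 4098) (nat_lit 4098) (nat_lit 4097) (nat_lit 4097) (nat_lit 0) (nat_lit 0) (nat_lit 3) (nat_lit 0) (nat_lit 0) (nat_lit 0) (nat_lit 1) (nat_lit 0) (nat_lit 0x1008004) (nat_lit 32772) (nat_lit 0x1001004000008001014000018) (nat_lit 0x1000101110110) (.cD (nat_lit 4) (.kF (nat_lit 16) (nat_lit 0x1001000001006001002)) (.cD (nat_lit 8) (.kF (nat_lit 16) (nat_lit 0x100400100c012004002002000003)) (.cD (nat_lit 16) (.dfs (nat_lit 32) (nat_lit 4100) (nat_lit 4100) (nat_lit 0x1002001) (nat_lit 0x1002001) (nat_lit 0) (nat_lit 0) (nat_lit 3) (nat_lit 0) (nat_lit 0) (nat_lit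 0) (nat_lit 1) (nat_lit 0) (nat_lit 0x1008004) (nat_lit 32772) (nat_lit 0x1001004000008001014000018) (nat_lit 0x1000101110110) (.cD (nat_lit 4) (.kA true (nat_lit 0x100400600c002001001000002)) (.cD (nat_lit 8) (.kA false (nat_lit 0x300400200c002001001000002)) (.cD (nat_lit 16) (.kc (nat_lit 48) (nat_lit 0x3001001)) (.cD (nat_lit 20) (.kA true (nat_lit 0x300400600c002001001000002)) (.cD (nat_lit 24) (.kA false (nat_lit 0x100400200c002001001000002)) (.cD (nat_lit 32) (.kc (nat_lit 36) (nat_lit 0x5001001)) (.cD (nat_lit 48) (.kc (nat_lit 52) (nat_lit 0x7001001)) .nil)))))))) (.cD (nat_lit 20) (.dfs (nat_lit 32) (nat_lit 4100) (nat_lit 4100) (nat_lit 0x1002001) (nat_lit 0x1002001) (nat_lit 0) (nat_lit 0) (nat_lit 3) (nat_lit 0) (nat_lit 0) (nat_lit 0) (nat_lit 1) (nat_lit 0) (nat_lit 1) (nat_lit 0) (nat_lit 1) (nat_lit 0x11001100110010) (.cD (nat_lit 4) (.kA true (nat_lit 0x100400700c002001001000002)) (.cD (nat_lit 16) (.kA true (nat_lit 0x300400500c002001001000002))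 (.cD (nat_lit 20) (.kc (nat_lit 48) (nat_lit 0x3001001)) (.cD (nat_lit 32) (.kc (nat_lit 36) (nat_lit 0x5001001)) (.cD (nat_lit 36) (.dfs (nat_lit 9) (nat_lit 4100) (nat_lit 4101) (nat_lit 1) (nat_lit 1) (nat_lit 2) (nat_lit 0) (nat_lit 1) (nat_lit 4128) (nat_lit 0x40020010008004002001) (nat_lit 0) (nat_lit 1) (nat_lit 0) (nat_lit 1) (nat_lit 0) (nat_lit 1) (nat_lit 0) .nil) (.cD (nat_lit 48) (.kA true (nat_lit 0x700400100c002001001000002)) (.cD (nat_lit 52) (.kc (nat_lit 52) (nat_lit 0x7001001)) .nil)))))))) (.cD (nat_lit 24) (.kF (nat_lit 16) (nat_lit 0x1001000001006001002)) (.cD (nat_lit 32) (.kc (nat_lit 20) (nat_lit 0x3001001)) (.cD (nat_lit 48) (.dfs (nat_lit 32) (nat_lit 4100) (nat_lit 4100) (nat_lit 0x1002001) (nat_lit 0x1002001) (nat_lit 0) (nat_lit 0) (nat_lit 3) (nat_lit 0) (nat_lit 0) (nat_lit 0) (nat_lit 1) (nat_lit 0) (nat_lit 0x1008004) (nat_lit 32772) (nat_lit 0x1001004000008001014000018) (nat_lit 0x1000101110110) (.cD (nat_lit 4) (.kA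 true (nat_lit 0x100400200c002001001000002)) (.cD (nat_lit 8) (.kA false (nat_lit 0x700400600c002001001000002)) (.cD (nat_lit 16) (.kc (nat_lit 52) (nat_lit 0x7001001)) (.cD (nat_lit 20) (.kA true (nat_lit 0x700400200c002001001000002)) (.cD (nat_lit 24) (.kA false (nat_lit 0x100400600c002001001000002)) (.cD (nat_lit 32) (.kc (nat_lit 36) (nat_lit 0x5001001)) (.cD (nat_lit 48) (.kc (nat_lit 48) (nat_lit 0x3001001)) .nil)))))))) .nil)))))))) (.cD (nat_lit 48) (.kF (nat_lit 4) (nat_lit 0x1002001002012004002002000003)) .nil))))))))))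
theorem c532 : (chk [] [] p532).n x278 s532 = true := by decide +kernel
noncomputable def p533 : Pf := (.anc (nat_lit 68) (nat_lit 0x10002002002000002) (nat_lit 0x1009020010004) (.czp (nat_lit 64) (nat_lit 0) (nat_lit 0x1040020010008004) z6 (.dfs (nat_lit 4) (nat_lit 4097) (nat_lit 4097) (nat_lit 1) (nat_lit 1) (nat_lit 0) (nat_lit 0) (nat_lit 3) (nat_lit 0) (nat_lit 0) (nat_lit 0) (nat_lit 1) (nat_lit 0) (nat_lit 0x1008004) (nat_lit 32772) (nat_lit 0x1001004000008001014000018) (nat_lit 0x1000101110110) (.cD (nat_lit 4) (.dfs (nat_lit 16) (nat_lit 4098) (nat_lit 4098) (nat_lit 4097) (nat_lit 4097) (nat_lit 0) (nat_lit 0) (nat_lit 3) (nat_lit 0) (nat_lit 0) (nat_lit 0) (nat_lit 1) (nat_lit 0) (nat_lit 1) (nat_lit 0) (nat_lit 1) (nat_lit 0x11001100110010) (.cD (nat_lit 4) (.kc (nat_lit 20) (nat_lit 0x3001001)) (.cD (nat_lit 16) (.dfs (nat_lit 32) (nat_lit 4100) (nat_lit 4100) (nat_lit 0x1002001) (nat_lit 0x1002001) (nat_lit 0) (nat_lit 0) (nat_lit 3) (nat_lit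 0) (nat_lit 0) (nat_lit 0) (nat_lit 1) (nat_lit 0) (nat_lit 1) (nat_lit 0) (nat_lit 1) (nat_lit 0x11001100110010) (.cD (nat_lit 4) (.kc (nat_lit 36) (nat_lit 0x5001001)) (.cD (nat_lit 16) (.kc (nat_lit 48) (nat_lit 0x3001001)) (.cD (nat_lit 20) (.kc (nat_lit 52) (nat_lit 0x7001001)) (.cD (nat_lit 32) (.dfs (nat_lit 9) (nat_lit 0x1004001003008) (nat_lit 0x1005001003008) (nat_lit 4098) (nat_lit 4098) (nat_lit 0) (nat_lit 0) (nat_lit 2) (nat_lit 1) (nat_lit 0) (nat_lit 8) (nat_lit 1) (nat_lit 0) (nat_lit 4100) (nat_lit 4) (nat_lit 0x1000008000018) (nat_lit 0x1000100) (.cD (nat_lit 8) (.kA false (nat_lit 0x5002004010001002002000005002004016002013003000004)) (.cD (nat_lit 24) (.kA false (nat_lit 0x1002004010001002002000001002004016002013003000004)) .nil))) (.cD (nat_lit 36) (.kA true (nat_lit 0x1100100000400100300d001011001000003)) (.cD (nat_lit 48) (.kA true (nat_lit 0x600800401000400400100300d001011001000003)) (.cD (nat_lit 52) (.kA true (nat_lit 0x5004003008001008004002005007011001000003))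 .nil)))))))) (.cD (nat_lit 20) (.dfs (nat_lit 32) (nat_lit 4100) (nat_lit 4100) (nat_lit 0x1002001) (nat_lit 0x1002001) (nat_lit 0) (nat_lit 0) (nat_lit 3) (nat_lit 0) (nat_lit 0) (nat_lit 0) (nat_lit 1) (nat_lit 0) (nat_lit 1) (nat_lit 0) (nat_lit 1) (nat_lit 0x11001100110010) (.cD (nat_lit 4) (.kc (nat_lit 36) (nat_lit 0x5001001)) (.cD (nat_lit 16) (.kc (nat_lit 52) (nat_lit 0x7001001)) (.cD (nat_lit 20) (.kc (nat_lit 48) (nat_lit 0x3001001)) (.cD (nat_lit 32) (.kA true (nat_lit 0x5004003008001008004002005007011001000003)) (.cD (nat_lit 36) (.dfs (nat_lit 9) (nat_lit 4102) (nat_lit 4103) (nat_lit 1) (nat_lit 1) (nat_lit 0) (nat_lit 0) (nat_lit 1) (nat_lit 4112) (nat_lit 0x40020010008004002011) (nat_lit 0) (nat_lit 1) (nat_lit 0) (nat_lit 1) (nat_lit 0) (nat_lit 1) (nat_lit 0) .nil) (.cD (nat_lit 48) (.kA true (nat_lit 0x400300500800100400100300c001002)) (.cD (nat_lit 52) (.kA true (nat_lit 0x400700100800100400100300c001002)) .nil)))))))) (.cD (nat_lit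 32) (.kF (nat_lit 16) (nat_lit 0x100400100c012004002002000003)) (.cD (nat_lit 36) (.kF (nat_lit 16) (nat_lit 0x100400100c012004002002000003)) (.cD (nat_lit 48) (.dfs (nat_lit 32) (nat_lit 4100) (nat_lit 4100) (nat_lit 0x1002001) (nat_lit 0x1002001) (nat_lit 0) (nat_lit 0) (nat_lit 3) (nat_lit 0) (nat_lit 0) (nat_lit 0) (nat_lit 1) (nat_lit 0) (nat_lit 1) (nat_lit 0) (nat_lit 1) (nat_lit 0x11001100110010) (.cD (nat_lit 4) (.kc (nat_lit 36) (nat_lit 0x5001001)) (.cD (nat_lit 16) (.kA true (nat_lit 0x400200100800100400100300c001002)) (.cD (nat_lit 20) (.kA true (nat_lit 0x400600500800100400100300c001002)) (.cD (nat_lit 32) (.kA true (nat_lit 0x5004003008001008004002005007011001000003)) (.cD (nat_lit 36) (.kA true (nat_lit 0x400500600800100400100300c001002)) (.cD (nat_lit 48) (.kc (nat_lit 48) (nat_lit 0x3001001)) (.cD (nat_lit 52) (.kc (nat_lit 52) (nat_lit 0x7001001)) .nil)))))))) (.cD (nat_lit 52) (.dfs (nat_lit 32) (nat_lit 4100) (nat_lit 4100) (nat_lit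 0x1002001) (nat_lit 0x1002001) (nat_lit 0) (nat_lit 0) (nat_lit 3) (nat_lit 0) (nat_lit 0) (nat_lit 0) (nat_lit 1) (nat_lit 0) (nat_lit 1) (nat_lit 0) (nat_lit 1) (nat_lit 0x11001100110010) (.cD (nat_lit 4) (.kc (nat_lit 36) (nat_lit 0x5001001)) (.cD (nat_lit 16) (.kA true (nat_lit 0x400200500800100400100300c001002)) (.cD (nat_lit 20) (.kA true (nat_lit 0x400600100800100400100300c001002)) (.cD (nat_lit 32) (.kA true (nat_lit 0x5004003008001008004002005007011001000003)) (.cD (nat_lit 36) (.kA true (nat_lit 0x400500200800100400100300c001002)) (.cD (nat_lit 48) (.kc (nat_lit 52) (nat_lit 0x7001001)) (.cD (nat_lit 52) (.kc (nat_lit 48) (nat_lit 0x3001001)) .nil)))))))) .nil)))))))) (.cD (nat_lit 8) (.dfs (nat_lit 16) (nat_lit 4098) (nat_lit 4098) (nat_lit 4097) (nat_lit 4097) (nat_lit 0) (nat_lit 0) (nat_lit 3) (nat_lit 0) (nat_lit 0) (nat_lit 0) (nat_lit 1) (nat_lit 0) (nat_lit 1) (nat_lit 0) (nat_lit 1) (nat_lit 0x101010101010100) (.cD (nat_lit 8) (.kc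 (nat_lit 20) (nat_lit 0x3001001)) (.cD (nat_lit 16) (.dfs (nat_lit 32) (nat_lit 4100) (nat_lit 4100) (nat_lit 0x1002001) (nat_lit 0x1002001) (nat_lit 0) (nat_lit 0) (nat_lit 3) (nat_lit 0) (nat_lit 0) (nat_lit 0) (nat_lit 1) (nat_lit 0) (nat_lit 1) (nat_lit 0) (nat_lit 1) (nat_lit 0x101010101010100) (.cD (nat_lit 8) (.kc (nat_lit 36) (nat_lit 0x5001001)) (.cD (nat_lit 16) (.kc (nat_lit 48) (nat_lit 0x3001001)) (.cD (nat_lit 24) (.kc (nat_lit 52) (nat_lit 0x7001001)) (.cD (nat_lit 32) (.kA false (nat_lit 0x700400200c00200a004008014005011001000003)) (.cD (nat_lit 40) (.kA false (nat_lit 0x1100100000600500200d002011001000003)) (.cD (nat_lit 48) (.kA false (nat_lit 0xa00800c01000400600300200b002011001000003)) (.cD (nat_lit 56) (.kA false (nat_lit 0x100400200c00200a004008014005011001000003)) .nil)))))))) (.cD (nat_lit 24) (.dfs (nat_lit 32) (nat_lit 4100) (nat_lit 4100) (nat_lit 0x1002001) (nat_lit 0x1002001) (nat_lit 0) (nat_lit 0) (nat_lit 3) (nat_lit 0)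 (nat_lit 0) (nat_lit 0) (nat_lit 1) (nat_lit 0) (nat_lit 1) (nat_lit 0) (nat_lit 1) (nat_lit 0x101010101010100) (.cD (nat_lit 8) (.kc (nat_lit 36) (nat_lit 0x5001001)) (.cD (nat_lit 16) (.kc (nat_lit 52) (nat_lit 0x7001001)) (.cD (nat_lit 24) (.kc (nat_lit 48) (nat_lit 0x3001001)) (.cD (nat_lit 32) (.kA false (nat_lit 0x300400600c00200a004008014005011001000003)) (.cD (nat_lit 40) (.kA false (nat_lit 0x1100100000200500600d002011001000003)) (.cD (nat_lit 48) (.kA false (nat_lit 0x500400600c00200a004008014005011001000003)) (.cD (nat_lit 56) (.kA false (nat_lit 0xc00800a01000400200300600b002011001000003)) .nil)))))))) (.cD (nat_lit 32) (.kF (nat_lit 16) (nat_lit 0x100400100c012004002002000003)) (.cD (nat_lit 40) (.kF (nat_lit 16) (nat_lit 0x100400100c012004002002000003)) (.cD (nat_lit 48) (.kF (nat_lit 16) (nat_lit 0x1100100000e014006001006001003)) (.cD (nat_lit 56) (.kF (nat_lit 16) (nat_lit 0x1100100000a014006001006001003)) .nil)))))))) (.cD (nat_lit 16)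 (.kF (nat_lit 4) (nat_lit 0x2002000001003001002)) (.cD (nat_lit 20) (.kF (nat_lit 4) (nat_lit 0xe01e003001003001002)) (.cD (nat_lit 24) (.kF (nat_lit 4) (nat_lit 0x1002001002012004002002000003)) (.cD (nat_lit 32) (.dfs (nat_lit 16) (nat_lit 4098) (nat_lit 4098) (nat_lit 4097) (nat_lit 4097) (nat_lit 0) (nat_lit 0) (nat_lit 3) (nat_lit 0) (nat_lit 0) (nat_lit 0) (nat_lit 1) (nat_lit 0) (nat_lit 0x1008004) (nat_lit 32772) (nat_lit 0x1001004000008001014000018) (nat_lit 0x1000101110110) (.cD (nat_lit 4) (.kF (nat_lit 16) (nat_lit 0x11001000001006001002)) (.cD (nat_lit 8) (.kF (nat_lit 16) (nat_lit 0x100400100c012004002002000003)) (.cD (nat_lit 16) (.dfs (nat_lit 32) (nat_lit 4100) (nat_lit 4100) (nat_lit 0x1002001) (nat_lit 0x1002001) (nat_lit 0) (nat_lit 0) (nat_lit 3) (nat_lit 0) (nat_lit 0) (nat_lit 0) (nat_lit 1) (nat_lit 0) (nat_lit 0x1008004) (nat_lit 32772) (nat_lit 0x1001004000008001014000018) (nat_lit 0x1000101110110) (.cD (nat_lit 4) (.kA true (nat_lit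 0x100400600c002011001000002)) (.cD (nat_lit 8) (.kA false (nat_lit 0x300400200c002011001000002)) (.cD (nat_lit 16) (.kc (nat_lit 48) (nat_lit 0x3001001)) (.cD (nat_lit 20) (.kA true (nat_lit 0x300400600c002011001000002)) (.cD (nat_lit 24) (.kA false (nat_lit 0x100400200c002011001000002)) (.cD (nat_lit 32) (.kc (nat_lit 36) (nat_lit 0x5001001)) (.cD (nat_lit 48) (.kc (nat_lit 52) (nat_lit 0x7001001)) .nil)))))))) (.cD (nat_lit 20) (.dfs (nat_lit 32) (nat_lit 4100) (nat_lit 4100) (nat_lit 0x1002001) (nat_lit 0x1002001) (nat_lit 0) (nat_lit 0) (nat_lit 3) (nat_lit 0) (nat_lit 0) (nat_lit 0) (nat_lit 1) (nat_lit 0) (nat_lit 1) (nat_lit 0) (nat_lit 1) (nat_lit 0x11001100110010) (.cD (nat_lit 4) (.kA true (nat_lit 0x100400700c002011001000002)) (.cD (nat_lit 16) (.kA true (nat_lit 0x300400500c002011001000002)) (.cD (nat_lit 20) (.kc (nat_lit 48) (nat_lit 0x3001001)) (.cD (nat_lit 32) (.kc (nat_lit 36) (nat_lit 0x5001001)) (.cD (nat_lit 36) (.dfs (nat_lit 9)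 (nat_lit 4100) (nat_lit 4101) (nat_lit 1) (nat_lit 1) (nat_lit 0) (nat_lit 0) (nat_lit 1) (nat_lit 4128) (nat_lit 0x40020010008004002011) (nat_lit 0) (nat_lit 1) (nat_lit 0) (nat_lit 1) (nat_lit 0) (nat_lit 1) (nat_lit 0) .nil) (.cD (nat_lit 48) (.kA true (nat_lit 0x700400100c002011001000002)) (.cD (nat_lit 52) (.kc (nat_lit 52) (nat_lit 0x7001001)) .nil)))))))) (.cD (nat_lit 24) (.kF (nat_lit 16) (nat_lit 0x11001000001006001002)) (.cD (nat_lit 32) (.kc (nat_lit 20) (nat_lit 0x3001001)) (.cD (nat_lit 48) (.dfs (nat_lit 32) (nat_lit 4100) (nat_lit 4100) (nat_lit 0x1002001) (nat_lit 0x1002001) (nat_lit 0) (nat_lit 0) (nat_lit 3) (nat_lit 0) (nat_lit 0) (nat_lit 0) (nat_lit 1) (nat_lit 0) (nat_lit 0x1008004) (nat_lit 32772) (nat_lit 0x1001004000008001014000018) (nat_lit 0x1000101110110) (.cD (nat_lit 4) (.kA true (nat_lit 0x100400200c002011001000002)) (.cD (nat_lit 8) (.kA false (nat_lit 0x700400600c002011001000002)) (.cD (nat_lit 16) (.kc (nat_lit 52) (nat_lit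 0x7001001)) (.cD (nat_lit 20) (.kA true (nat_lit 0x700400200c002011001000002)) (.cD (nat_lit 24) (.kA false (nat_lit 0x100400600c002011001000002)) (.cD (nat_lit 32) (.kc (nat_lit 36) (nat_lit 0x5001001)) (.cD (nat_lit 48) (.kc (nat_lit 48) (nat_lit 0x3001001)) .nil)))))))) .nil)))))))) (.cD (nat_lit 48) (.kF (nat_lit 4) (nat_lit 0x1002001002012004002002000003)) .nil))))))))))
theorem c533 : (chk [] [] p533).n x279 s533 = true := by decide +kernel
noncomputable def p534 : Pf := (.anc (nat_lit 72) (nat_lit 0x11001000014004002) (nat_lit 0x1007020010008) (.czp (nat_lit 64) (nat_lit 0) (nat_lit 0x1040020010008004) z6 (.dfs (nat_lit 8) (nat_lit 4097) (nat_lit 4097) (nat_lit 1) (nat_lit 1) (nat_lit 0) (nat_lit 0) (nat_lit 3) (nat_lit 0) (nat_lit 0) (nat_lit 0) (nat_lit 1) (nat_lit 0) (nat_lit 0x1008004) (nat_lit 32772) (nat_lit 0x1001004000008001014000018) (nat_lit 0x1000101110110) (.cD (nat_lit 4) (.dfs (nat_lit 16) (nat_lit 4098) (nat_lit 4098) (nat_lit 4097)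 (nat_lit 4097) (nat_lit 0) (nat_lit 0) (nat_lit 3) (nat_lit 0) (nat_lit 0) (nat_lit 0) (nat_lit 1) (nat_lit 0) (nat_lit 1) (nat_lit 0) (nat_lit 1) (nat_lit 0x11001100110010) (.cD (nat_lit 4) (.kc (nat_lit 24) (nat_lit 0x3001001)) (.cD (nat_lit 16) (.dfs (nat_lit 32) (nat_lit 4100) (nat_lit 4100) (nat_lit 0x1002001) (nat_lit 0x1002001) (nat_lit 0) (nat_lit 0) (nat_lit 3) (nat_lit 0) (nat_lit 0) (nat_lit 0) (nat_lit 1) (nat_lit 0) (nat_lit 1) (nat_lit 0) (nat_lit 1) (nat_lit 0x11001100110010) (.cD (nat_lit 4) (.kc (nat_lit 40) (nat_lit 0x5001001)) (.cD (nat_lit 16) (.kc (nat_lit 48) (nat_lit 0x3001001)) (.cD (nat_lit 20) (.kc (nat_lit 56) (nat_lit 0x7001001)) (.cD (nat_lit 32) (.kA false (nat_lit 0x700400200800100a004008014005011001000003)) (.cD (nat_lit 36) (.kA false (nat_lit 0x1100100000600100200d001011001000003)) (.cD (nat_lit 48) (.kA false (nat_lit 0xa00800c01000400600100200d001011001000003)) (.cD (nat_lit 52) (.kA false (nat_lit 0x700400200800100a004008014005011001000003))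 .nil)))))))) (.cD (nat_lit 20) (.dfs (nat_lit 32) (nat_lit 4100) (nat_lit 4100) (nat_lit 0x1002001) (nat_lit 0x1002001) (nat_lit 0) (nat_lit 0) (nat_lit 3) (nat_lit 0) (nat_lit 0) (nat_lit 0) (nat_lit 1) (nat_lit 0) (nat_lit 1) (nat_lit 0) (nat_lit 1) (nat_lit 0x11001100110010) (.cD (nat_lit 4) (.kc (nat_lit 40) (nat_lit 0x5001001)) (.cD (nat_lit 16) (.kc (nat_lit 56) (nat_lit 0x7001001)) (.cD (nat_lit 20) (.kc (nat_lit 48) (nat_lit 0x3001001)) (.cD (nat_lit 32) (.kA false (nat_lit 0x700400200800100a004008014005011001000003)) (.cD (nat_lit 36) (.kA false (nat_lit 0x1100100000600100200d001011001000003)) (.cD (nat_lit 48) (.kA false (nat_lit 0xc00800a01000400600100200d001011001000003)) (.cD (nat_lit 52) (.kA false (nat_lit 0x700400200800100a004008014005011001000003)) .nil)))))))) (.cD (nat_lit 32) (.kF (nat_lit 16) (nat_lit 0x4010004002002000001006001003)) (.cD (nat_lit 36) (.kF (nat_lit 16) (nat_lit 0x11001000001007001002002000003)) (.cD (nat_lit 48) (.dfs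 (nat_lit 32) (nat_lit 4100) (nat_lit 4100) (nat_lit 0x1002001) (nat_lit 0x1002001) (nat_lit 0) (nat_lit 0) (nat_lit 3) (nat_lit 0) (nat_lit 0) (nat_lit 0) (nat_lit 1) (nat_lit 0) (nat_lit 1) (nat_lit 0) (nat_lit 1) (nat_lit 0x11001100110010) (.cD (nat_lit 4) (.kc (nat_lit 40) (nat_lit 0x5001001)) (.cD (nat_lit 16) (.kA false (nat_lit 0xa00c00801e00300600100200d001011001000003)) (.cD (nat_lit 20) (.kA false (nat_lit 0x200200000600100200d001011001000003)) (.cD (nat_lit 32) (.kA false (nat_lit 0x700400200800100a004008014005011001000003)) (.cD (nat_lit 36) (.kA false (nat_lit 0x1100100000600100200d001011001000003)) (.cD (nat_lit 48) (.kc (nat_lit 48) (nat_lit 0x3001001)) (.cD (nat_lit 52) (.kc (nat_lit 56) (nat_lit 0x7001001)) .nil)))))))) (.cD (nat_lit 52) (.dfs (nat_lit 32) (nat_lit 4100) (nat_lit 4100) (nat_lit 0x1002001) (nat_lit 0x1002001) (nat_lit 0) (nat_lit 0) (nat_lit 3) (nat_lit 0) (nat_lit 0) (nat_lit 0) (nat_lit 1) (nat_lit 0) (nat_lit 1) (nat_lit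 0) (nat_lit 1) (nat_lit 0x11001100110010) (.cD (nat_lit 4) (.kc (nat_lit 40) (nat_lit 0x5001001)) (.cD (nat_lit 16) (.kA false (nat_lit 0x800c00a01e00300600100200d001011001000003)) (.cD (nat_lit 20) (.kA false (nat_lit 0x200200000600100200d001011001000003)) (.cD (nat_lit 32) (.kA false (nat_lit 0x700400200800100a004008014005011001000003)) (.cD (nat_lit 36) (.kA false (nat_lit 0x1100100000600100200d001011001000003)) (.cD (nat_lit 48) (.kc (nat_lit 56) (nat_lit 0x7001001)) (.cD (nat_lit 52) (.kc (nat_lit 48) (nat_lit 0x3001001)) .nil)))))))) .nil)))))))) (.cD (nat_lit 8) (.dfs (nat_lit 16) (nat_lit 4098) (nat_lit 4098) (nat_lit 4097) (nat_lit 4097) (nat_lit 0) (nat_lit 0) (nat_lit 3) (nat_lit 0) (nat_lit 0) (nat_lit 0) (nat_lit 1) (nat_lit 0) (nat_lit 1) (nat_lit 0) (nat_lit 1) (nat_lit 0x101010101010100) (.cD (nat_lit 8) (.kc (nat_lit 24) (nat_lit 0x3001001)) (.cD (nat_lit 16) (.dfs (nat_lit 32) (nat_lit 4100) (nat_lit 4100) (nat_lit 0x1002001) (nat_lit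 0x1002001) (nat_lit 0) (nat_lit 0) (nat_lit 3) (nat_lit 0) (nat_lit 0) (nat_lit 0) (nat_lit 1) (nat_lit 0) (nat_lit 1) (nat_lit 0) (nat_lit 1) (nat_lit 0x101010101010100) (.cD (nat_lit 8) (.kc (nat_lit 40) (nat_lit 0x5001001)) (.cD (nat_lit 16) (.kc (nat_lit 48) (nat_lit 0x3001001)) (.cD (nat_lit 24) (.kc (nat_lit 56) (nat_lit 0x7001001)) (.cD (nat_lit 32) (.kA false (nat_lit 0x700400200800100a004008014005011001000003)) (.cD (nat_lit 40) (.kA false (nat_lit 0x1100100000600100200d001011001000003)) (.cD (nat_lit 48) (.dfs (nat_lit 7) (nat_lit 0x1004003002008) (nat_lit 0x1007003002008) (nat_lit 4097) (nat_lit 4097) (nat_lit 3) (nat_lit 0) (nat_lit 2) (nat_lit 0) (nat_lit 0) (nat_lit 4) (nat_lit 1) (nat_lit 0) (nat_lit 4104) (nat_lit 8) (nat_lit 0x100000c00001c) (nat_lit 0x10001000) (.cD (nat_lit 12) (.kA true (nat_lit 0xd006002010001011001000009006002016002011001000004)) (.cD (nat_lit 28) (.kA true (nat_lit 0x900600201000101100100000d006002016002011001000004))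 .nil))) (.cD (nat_lit 56) (.dfs (nat_lit 7) (nat_lit 4101) (nat_lit 4102) (nat_lit 1) (nat_lit 1) (nat_lit 3) (nat_lit 0) (nat_lit 1) (nat_lit 4144) (nat_lit 0x40020010008004002011) (nat_lit 0) (nat_lit 1) (nat_lit 0) (nat_lit 1) (nat_lit 0) (nat_lit 1) (nat_lit 0) .nil) .nil)))))))) (.cD (nat_lit 24) (.dfs (nat_lit 32) (nat_lit 4100) (nat_lit 4100) (nat_lit 0x1002001) (nat_lit 0x1002001) (nat_lit 0) (nat_lit 0) (nat_lit 3) (nat_lit 0) (nat_lit 0) (nat_lit 0) (nat_lit 1) (nat_lit 0) (nat_lit 1) (nat_lit 0) (nat_lit 1) (nat_lit 0x101010101010100) (.cD (nat_lit 8) (.kc (nat_lit 40) (nat_lit 0x5001001)) (.cD (nat_lit 16) (.kc (nat_lit 56) (nat_lit 0x7001001)) (.cD (nat_lit 24) (.kc (nat_lit 48) (nat_lit 0x3001001)) (.cD (nat_lit 32) (.kA false (nat_lit 0x700400200800100a004008014005011001000003)) (.cD (nat_lit 40) (.kA false (nat_lit 0x1100100000600100200d001011001000003)) (.cD (nat_lit 48) (.kA false (nat_lit 0x700400200800100a004008014005011001000003))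 (.cD (nat_lit 56) (.kA false (nat_lit 0x700400200800100a004008014005011001000003)) .nil)))))))) (.cD (nat_lit 32) (.kF (nat_lit 8) (nat_lit 0x3006002004004000002007001002002000004)) (.cD (nat_lit 40) (.kF (nat_lit 8) (nat_lit 0x11001000002007001002002000003)) (.cD (nat_lit 48) (.kF (nat_lit 16) (nat_lit 0x1100100000e014006001006001003)) (.cD (nat_lit 56) (.kF (nat_lit 16) (nat_lit 0x1100100000a014006001006001003)) .nil)))))))) (.cD (nat_lit 16) (.kF (nat_lit 8) (nat_lit 0x2002000001003001002)) (.cD (nat_lit 20) (.kF (nat_lit 8) (nat_lit 0xe01e003001003001002)) (.cD (nat_lit 24) (.kF (nat_lit 8) (nat_lit 0x11001000002016005011001000001003001004)) (.cD (nat_lit 32) (.dfs (nat_lit 16) (nat_lit 4098) (nat_lit 4098) (nat_lit 4097) (nat_lit 4097) (nat_lit 0) (nat_lit 0) (nat_lit 3) (nat_lit 0) (nat_lit 0) (nat_lit 0) (nat_lit 1) (nat_lit 0) (nat_lit 0x1008004) (nat_lit 32772) (nat_lit 0x1001004000008001014000018) (nat_lit 0x1000101110110) (.cD (nat_lit 4) (.kF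 (nat_lit 16) (nat_lit 0x11001000001006001002)) (.cD (nat_lit 8) (.kF (nat_lit 8) (nat_lit 0x11001000004016005002007001002002000004)) (.cD (nat_lit 16) (.dfs (nat_lit 32) (nat_lit 4100) (nat_lit 4100) (nat_lit 0x1002001) (nat_lit 0x1002001) (nat_lit 0) (nat_lit 0) (nat_lit 3) (nat_lit 0) (nat_lit 0) (nat_lit 0) (nat_lit 1) (nat_lit 0) (nat_lit 0x1008004) (nat_lit 32772) (nat_lit 0x1001004000008001014000018) (nat_lit 0x1000101110110) (.cD (nat_lit 4) (.kA false (nat_lit 0x1100100000400100200c001002)) (.cD (nat_lit 8) (.kA false (nat_lit 0x300400200c002011001000002)) (.cD (nat_lit 16) (.kc (nat_lit 48) (nat_lit 0x3001001)) (.cD (nat_lit 20) (.kA false (nat_lit 0x1100100000400100200c001002)) (.cD (nat_lit 24) (.dfs (nat_lit 7) (nat_lit 4100) (nat_lit 4103) (nat_lit 1) (nat_lit 1) (nat_lit 3) (nat_lit 0) (nat_lit 1) (nat_lit 4128) (nat_lit 0x40020010008004002011) (nat_lit 0) (nat_lit 1) (nat_lit 0) (nat_lit 1) (nat_lit 0) (nat_lit 1) (nat_lit 0) .nil) (.cD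 (nat_lit 32) (.kc (nat_lit 40) (nat_lit 0x5001001)) (.cD (nat_lit 48) (.kc (nat_lit 56) (nat_lit 0x7001001)) .nil)))))))) (.cD (nat_lit 20) (.dfs (nat_lit 32) (nat_lit 4100) (nat_lit 4100) (nat_lit 0x1002001) (nat_lit 0x1002001) (nat_lit 0) (nat_lit 0) (nat_lit 3) (nat_lit 0) (nat_lit 0) (nat_lit 0) (nat_lit 1) (nat_lit 0) (nat_lit 1) (nat_lit 0) (nat_lit 1) (nat_lit 0x11001100110010) (.cD (nat_lit 4) (.kA false (nat_lit 0x1100100000400100200c001002)) (.cD (nat_lit 16) (.kA false (nat_lit 0x1100100000400100200c001002)) (.cD (nat_lit 20) (.kc (nat_lit 48) (nat_lit 0x3001001)) (.cD (nat_lit 32) (.kc (nat_lit 40) (nat_lit 0x5001001)) (.cD (nat_lit 36) (.kA false (nat_lit 0x1100100000400100200c001002)) (.cD (nat_lit 48) (.kA false (nat_lit 0x1100100000400100200c001002)) (.cD (nat_lit 52) (.kc (nat_lit 56) (nat_lit 0x7001001)) .nil)))))))) (.cD (nat_lit 24) (.kF (nat_lit 16) (nat_lit 0x11001000001006001002)) (.cD (nat_lit 32) (.kc (nat_lit 24) (nat_lit 0x3001001))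 (.cD (nat_lit 48) (.dfs (nat_lit 32) (nat_lit 4100) (nat_lit 4100) (nat_lit 0x1002001) (nat_lit 0x1002001) (nat_lit 0) (nat_lit 0) (nat_lit 3) (nat_lit 0) (nat_lit 0) (nat_lit 0) (nat_lit 1) (nat_lit 0) (nat_lit 0x1008004) (nat_lit 32772) (nat_lit 0x1001004000008001014000018) (nat_lit 0x1000101110110) (.cD (nat_lit 4) (.kA false (nat_lit 0x1100100000400100200c001002)) (.cD (nat_lit 8) (.kA false (nat_lit 0x700400600c002011001000002)) (.cD (nat_lit 16) (.kc (nat_lit 56) (nat_lit 0x7001001)) (.cD (nat_lit 20) (.kA false (nat_lit 0x1100100000400100200c001002)) (.cD (nat_lit 24) (.kA false (nat_lit 0x100400600c002011001000002)) (.cD (nat_lit 32) (.kc (nat_lit 40) (nat_lit 0x5001001)) (.cD (nat_lit 48) (.kc (nat_lit 48) (nat_lit 0x3001001)) .nil)))))))) .nil)))))))) (.cD (nat_lit 48) (.kF (nat_lit 8) (nat_lit 0x13003000001003001002)) .nil))))))))))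
theorem c534 : (chk [] [] p534).n x280 s534 = true := by decide +kernel
noncomputable def p535 : Pf := (.anc (nat_lit 68) (nat_lit 0x10002002002000002) (nat_lit 0x1009020010004) (.czp (nat_lit 64) (nat_lit 0) (nat_lit 0x1040020010008004) z6 (.dfs (nat_lit 4) (nat_lit 4097) (nat_lit 4097) (nat_lit 1) (nat_lit 1) (nat_lit 0) (nat_lit 0) (nat_lit 3) (nat_lit 0) (nat_lit 0) (nat_lit 0) (nat_lit 1) (nat_lit 0) (nat_lit 0x1008004) (nat_lit 32772) (nat_lit 0x1001004000008001014000018) (nat_lit 0x1000101110110) (.cD (nat_lit 4) (.dfs (nat_lit 16) (nat_lit 4098) (nat_lit 4098) (nat_lit 4097) (nat_lit 4097) (nat_lit 0) (nat_lit 0) (nat_lit 3) (nat_lit 0) (nat_lit 0) (nat_lit 0) (nat_lit 1) (nat_lit 0) (nat_lit 1) (nat_lit 0) (nat_lit 1) (nat_lit 0x11001100110010) (.cD (nat_lit 4) (.kc (nat_lit 20) (nat_lit 0x3001001)) (.cD (nat_lit 16) (.dfs (nat_lit 32) (nat_lit 4100) (nat_lit 4100) (nat_lit 0x1002001) (nat_lit 0x1002001) (nat_lit 0) (nat_lit 0) (nat_lit 3) (nat_lit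 0) (nat_lit 0) (nat_lit 0) (nat_lit 1) (nat_lit 0) (nat_lit 1) (nat_lit 0) (nat_lit 1) (nat_lit 0x11001100110010) (.cD (nat_lit 4) (.kc (nat_lit 36) (nat_lit 0x5001001)) (.cD (nat_lit 16) (.kc (nat_lit 48) (nat_lit 0x3001001)) (.cD (nat_lit 20) (.kc (nat_lit 52) (nat_lit 0x7001001)) (.cD (nat_lit 32) (.dfs (nat_lit 9) (nat_lit 0x1004001003008) (nat_lit 0x1005001003008) (nat_lit 4098) (nat_lit 4098) (nat_lit 3) (nat_lit 0) (nat_lit 2) (nat_lit 1) (nat_lit 0) (nat_lit 8) (nat_lit 1) (nat_lit 0) (nat_lit 1) (nat_lit 0) (nat_lit 1) (nat_lit 0) .nil) (.cD (nat_lit 36) (.kA true (nat_lit 0x2100100000400100300d001021001000003)) (.cD (nat_lit 48) (.kA true (nat_lit 0x600800401000400400100300d001021001000003)) (.cD (nat_lit 52) (.kA true (nat_lit 0x5004003008001008004002005007021001000003)) .nil)))))))) (.cD (nat_lit 20) (.dfs (nat_lit 32) (nat_lit 4100) (nat_lit 4100) (nat_lit 0x1002001) (nat_lit 0x1002001) (nat_lit 0) (nat_lit 0) (nat_lit 3) (nat_lit 0) (nat_lit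 0) (nat_lit 0) (nat_lit 1) (nat_lit 0) (nat_lit 1) (nat_lit 0) (nat_lit 1) (nat_lit 0x11001100110010) (.cD (nat_lit 4) (.kc (nat_lit 36) (nat_lit 0x5001001)) (.cD (nat_lit 16) (.kc (nat_lit 52) (nat_lit 0x7001001)) (.cD (nat_lit 20) (.kc (nat_lit 48) (nat_lit 0x3001001)) (.cD (nat_lit 32) (.kA true (nat_lit 0x5004003008001008004002005007021001000003)) (.cD (nat_lit 36) (.dfs (nat_lit 9) (nat_lit 4102) (nat_lit 4103) (nat_lit 1) (nat_lit 1) (nat_lit 3) (nat_lit 0) (nat_lit 1) (nat_lit 4112) (nat_lit 0x40020010008004002021) (nat_lit 0) (nat_lit 1) (nat_lit 0) (nat_lit 1) (nat_lit 0) (nat_lit 1) (nat_lit 0) .nil) (.cD (nat_lit 48) (.kA true (nat_lit 0x400300500800100400100300c001002)) (.cD (nat_lit 52) (.kA true (nat_lit 0x400700100800100400100300c001002)) .nil)))))))) (.cD (nat_lit 32) (.kF (nat_lit 16) (nat_lit 0x100400100c012004002002000003)) (.cD (nat_lit 36) (.kF (nat_lit 16) (nat_lit 0x100400100c012004002002000003)) (.cD (nat_lit 48) (.dfs (nat_lit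 32) (nat_lit 4100) (nat_lit 4100) (nat_lit 0x1002001) (nat_lit 0x1002001) (nat_lit 0) (nat_lit 0) (nat_lit 3) (nat_lit 0) (nat_lit 0) (nat_lit 0) (nat_lit 1) (nat_lit 0) (nat_lit 1) (nat_lit 0) (nat_lit 1) (nat_lit 0x11001100110010) (.cD (nat_lit 4) (.kc (nat_lit 36) (nat_lit 0x5001001)) (.cD (nat_lit 16) (.kA true (nat_lit 0x400200100800100400100300c001002)) (.cD (nat_lit 20) (.kA true (nat_lit 0x400600500800100400100300c001002)) (.cD (nat_lit 32) (.kA true (nat_lit 0x5004003008001008004002005007021001000003)) (.cD (nat_lit 36) (.kA true (nat_lit 0x400500600800100400100300c001002)) (.cD (nat_lit 48) (.kc (nat_lit 48) (nat_lit 0x3001001)) (.cD (nat_lit 52) (.kc (nat_lit 52) (nat_lit 0x7001001)) .nil)))))))) (.cD (nat_lit 52) (.dfs (nat_lit 32) (nat_lit 4100) (nat_lit 4100) (nat_lit 0x1002001) (nat_lit 0x1002001) (nat_lit 0) (nat_lit 0) (nat_lit 3) (nat_lit 0) (nat_lit 0) (nat_lit 0) (nat_lit 1) (nat_lit 0) (nat_lit 1) (nat_lit 0) (nat_lit 1) (nat_lit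 0x11001100110010) (.cD (nat_lit 4) (.kc (nat_lit 36) (nat_lit 0x5001001)) (.cD (nat_lit 16) (.kA true (nat_lit 0x400200500800100400100300c001002)) (.cD (nat_lit 20) (.kA true (nat_lit 0x400600100800100400100300c001002)) (.cD (nat_lit 32) (.kA true (nat_lit 0x5004003008001008004002005007021001000003)) (.cD (nat_lit 36) (.kA true (nat_lit 0x400500200800100400100300c001002)) (.cD (nat_lit 48) (.kc (nat_lit 52) (nat_lit 0x7001001)) (.cD (nat_lit 52) (.kc (nat_lit 48) (nat_lit 0x3001001)) .nil)))))))) .nil)))))))) (.cD (nat_lit 8) (.dfs (nat_lit 16) (nat_lit 4098) (nat_lit 4098) (nat_lit 4097) (nat_lit 4097) (nat_lit 0) (nat_lit 0) (nat_lit 3) (nat_lit 0) (nat_lit 0) (nat_lit 0) (nat_lit 1) (nat_lit 0) (nat_lit 1) (nat_lit 0) (nat_lit 1) (nat_lit 0x101010101010100) (.cD (nat_lit 8) (.kc (nat_lit 20) (nat_lit 0x3001001)) (.cD (nat_lit 16) (.dfs (nat_lit 32) (nat_lit 4100) (nat_lit 4100) (nat_lit 0x1002001) (nat_lit 0x1002001) (nat_lit 0) (nat_lit 0) (nat_lit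 3) (nat_lit 0) (nat_lit 0) (nat_lit 0) (nat_lit 1) (nat_lit 0) (nat_lit 1) (nat_lit 0) (nat_lit 1) (nat_lit 0x101010101010100) (.cD (nat_lit 8) (.kc (nat_lit 36) (nat_lit 0x5001001)) (.cD (nat_lit 16) (.kc (nat_lit 48) (nat_lit 0x3001001)) (.cD (nat_lit 24) (.kc (nat_lit 52) (nat_lit 0x7001001)) (.cD (nat_lit 32) (.kA false (nat_lit 0x700400200c00200a004008014005021001000003)) (.cD (nat_lit 40) (.kA false (nat_lit 0x2100100000600500200d002021001000003)) (.cD (nat_lit 48) (.kA false (nat_lit 0xa00800c01000400600300200b002021001000003)) (.cD (nat_lit 56) (.kA false (nat_lit 0x100400200c00200a004008014005021001000003)) .nil)))))))) (.cD (nat_lit 24) (.dfs (nat_lit 32) (nat_lit 4100) (nat_lit 4100) (nat_lit 0x1002001) (nat_lit 0x1002001) (nat_lit 0) (nat_lit 0) (nat_lit 3) (nat_lit 0) (nat_lit 0) (nat_lit 0) (nat_lit 1) (nat_lit 0) (nat_lit 1) (nat_lit 0) (nat_lit 1) (nat_lit 0x101010101010100) (.cD (nat_lit 8) (.kc (nat_lit 36) (nat_lit 0x5001001)) (.cD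 (nat_lit 16) (.kc (nat_lit 52) (nat_lit 0x7001001)) (.cD (nat_lit 24) (.kc (nat_lit 48) (nat_lit 0x3001001)) (.cD (nat_lit 32) (.kA false (nat_lit 0x300400600c00200a004008014005021001000003)) (.cD (nat_lit 40) (.kA false (nat_lit 0x2100100000200500600d002021001000003)) (.cD (nat_lit 48) (.kA false (nat_lit 0x500400600c00200a004008014005021001000003)) (.cD (nat_lit 56) (.kA false (nat_lit 0xc00800a01000400200300600b002021001000003)) .nil)))))))) (.cD (nat_lit 32) (.kF (nat_lit 16) (nat_lit 0x100400100c012004002002000003)) (.cD (nat_lit 40) (.kF (nat_lit 16) (nat_lit 0x100400100c012004002002000003)) (.cD (nat_lit 48) (.kF (nat_lit 16) (nat_lit 0x2100100000e014006001006001003)) (.cD (nat_lit 56) (.kF (nat_lit 16) (nat_lit 0x2100100000a014006001006001003)) .nil)))))))) (.cD (nat_lit 16) (.kF (nat_lit 4) (nat_lit 0x2002000001003001002)) (.cD (nat_lit 20) (.kF (nat_lit 4) (nat_lit 0xe01e003001003001002)) (.cD (nat_lit 24) (.kF (nat_lit 4) (nat_lit 0x1002001002012004002002000003))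 (.cD (nat_lit 32) (.dfs (nat_lit 16) (nat_lit 4098) (nat_lit 4098) (nat_lit 4097) (nat_lit 4097) (nat_lit 0) (nat_lit 0) (nat_lit 3) (nat_lit 0) (nat_lit 0) (nat_lit 0) (nat_lit 1) (nat_lit 0) (nat_lit 0x1008004) (nat_lit 32772) (nat_lit 0x1001004000008001014000018) (nat_lit 0x1000101110110) (.cD (nat_lit 4) (.kF (nat_lit 16) (nat_lit 0x21001000001006001002)) (.cD (nat_lit 8) (.kF (nat_lit 16) (nat_lit 0x100400100c012004002002000003)) (.cD (nat_lit 16) (.dfs (nat_lit 32) (nat_lit 4100) (nat_lit 4100) (nat_lit 0x1002001) (nat_lit 0x1002001) (nat_lit 0) (nat_lit 0) (nat_lit 3) (nat_lit 0) (nat_lit 0) (nat_lit 0) (nat_lit 1) (nat_lit 0) (nat_lit 0x1008004) (nat_lit 32772) (nat_lit 0x1001004000008001014000018) (nat_lit 0x1000101110110) (.cD (nat_lit 4) (.kA true (nat_lit 0x100400600c002021001000002)) (.cD (nat_lit 8) (.kA false (nat_lit 0x300400200c002021001000002)) (.cD (nat_lit 16) (.kc (nat_lit 48) (nat_lit 0x3001001)) (.cD (nat_lit 20) (.kA true (nat_lit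 0x300400600c002021001000002)) (.cD (nat_lit 24) (.kA false (nat_lit 0x100400200c002021001000002)) (.cD (nat_lit 32) (.kc (nat_lit 36) (nat_lit 0x5001001)) (.cD (nat_lit 48) (.kc (nat_lit 52) (nat_lit 0x7001001)) .nil)))))))) (.cD (nat_lit 20) (.dfs (nat_lit 32) (nat_lit 4100) (nat_lit 4100) (nat_lit 0x1002001) (nat_lit 0x1002001) (nat_lit 0) (nat_lit 0) (nat_lit 3) (nat_lit 0) (nat_lit 0) (nat_lit 0) (nat_lit 1) (nat_lit 0) (nat_lit 1) (nat_lit 0) (nat_lit 1) (nat_lit 0x11001100110010) (.cD (nat_lit 4) (.kA true (nat_lit 0x100400700c002021001000002)) (.cD (nat_lit 16) (.kA true (nat_lit 0x300400500c002021001000002)) (.cD (nat_lit 20) (.kc (nat_lit 48) (nat_lit 0x3001001)) (.cD (nat_lit 32) (.kc (nat_lit 36) (nat_lit 0x5001001)) (.cD (nat_lit 36) (.dfs (nat_lit 9) (nat_lit 4100) (nat_lit 4101) (nat_lit 1) (nat_lit 1) (nat_lit 3) (nat_lit 0) (nat_lit 1) (nat_lit 4128) (nat_lit 0x40020010008004002021) (nat_lit 0) (nat_lit 1) (nat_lit 0) (nat_lit 1) (nat_lit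 0) (nat_lit 1) (nat_lit 0) .nil) (.cD (nat_lit 48) (.kA true (nat_lit 0x700400100c002021001000002)) (.cD (nat_lit 52) (.kc (nat_lit 52) (nat_lit 0x7001001)) .nil)))))))) (.cD (nat_lit 24) (.kF (nat_lit 16) (nat_lit 0x21001000001006001002)) (.cD (nat_lit 32) (.kc (nat_lit 20) (nat_lit 0x3001001)) (.cD (nat_lit 48) (.dfs (nat_lit 32) (nat_lit 4100) (nat_lit 4100) (nat_lit 0x1002001) (nat_lit 0x1002001) (nat_lit 0) (nat_lit 0) (nat_lit 3) (nat_lit 0) (nat_lit 0) (nat_lit 0) (nat_lit 1) (nat_lit 0) (nat_lit 0x1008004) (nat_lit 32772) (nat_lit 0x1001004000008001014000018) (nat_lit 0x1000101110110) (.cD (nat_lit 4) (.kA true (nat_lit 0x100400200c002021001000002)) (.cD (nat_lit 8) (.kA false (nat_lit 0x700400600c002021001000002)) (.cD (nat_lit 16) (.kc (nat_lit 52) (nat_lit 0x7001001)) (.cD (nat_lit 20) (.kA true (nat_lit 0x700400200c002021001000002)) (.cD (nat_lit 24) (.kA false (nat_lit 0x100400600c002021001000002)) (.cD (nat_lit 32) (.kc (nat_lit 36) (nat_lit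 0x5001001)) (.cD (nat_lit 48) (.kc (nat_lit 48) (nat_lit 0x3001001)) .nil)))))))) .nil)))))))) (.cD (nat_lit 48) (.kF (nat_lit 4) (nat_lit 0x1002001002012004002002000003)) .nil))))))))))
theorem c535 : (chk [] [] p535).n x281 s535 = true := by decide +kernel
noncomputable def p536 : Pf := (.anc (nat_lit 68) (nat_lit 0x10002002002000002) (nat_lit 0x1009020010004) (.czp (nat_lit 64) (nat_lit 0) (nat_lit 0x1040020010008004) z6 (.dfs (nat_lit 4) (nat_lit 4097) (nat_lit 4097) (nat_lit 1) (nat_lit 1) (nat_lit 0) (nat_lit 0) (nat_lit 3) (nat_lit 0) (nat_lit 0) (nat_lit 0) (nat_lit 1) (nat_lit 0) (nat_lit 0x1008004) (nat_lit 32772) (nat_lit 0x1001004000008001014000018) (nat_lit 0x1000101110110) (.cD (nat_lit 4) (.dfs (nat_lit 16) (nat_lit 4098) (nat_lit 4098) (nat_lit 4097) (nat_lit 4097) (nat_lit 0) (nat_lit 0) (nat_lit 3) (nat_lit 0) (nat_lit 0) (nat_lit 0) (nat_lit 1) (nat_lit 0) (nat_lit 1) (nat_lit 0) (nat_lit 1) (nat_lit 0x11001100110010) (.cD (nat_lit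 4) (.kc (nat_lit 20) (nat_lit 0x3001001)) (.cD (nat_lit 16) (.dfs (nat_lit 32) (nat_lit 4100) (nat_lit 4100) (nat_lit 0x1002001) (nat_lit 0x1002001) (nat_lit 0) (nat_lit 0) (nat_lit 3) (nat_lit 0) (nat_lit 0) (nat_lit 0) (nat_lit 1) (nat_lit 0) (nat_lit 1) (nat_lit 0) (nat_lit 1) (nat_lit 0x11001100110010) (.cD (nat_lit 4) (.kc (nat_lit 36) (nat_lit 0x5001001)) (.cD (nat_lit 16) (.kc (nat_lit 48) (nat_lit 0x3001001)) (.cD (nat_lit 20) (.kc (nat_lit 52) (nat_lit 0x7001001)) (.cD (nat_lit 32) (.dfs (nat_lit 9) (nat_lit 0x1004001003008) (nat_lit 0x1005001003008) (nat_lit 4098) (nat_lit 4098) (nat_lit 3) (nat_lit 0) (nat_lit 2) (nat_lit 1) (nat_lit 0) (nat_lit 8) (nat_lit 1) (nat_lit 0) (nat_lit 1) (nat_lit 0) (nat_lit 1) (nat_lit 0) .nil) (.cD (nat_lit 36) (.kA true (nat_lit 0x2100100000400100300d001021001000003)) (.cD (nat_lit 48) (.kA true (nat_lit 0x600800401000400400100300d001021001000003)) (.cD (nat_lit 52) (.kA true (nat_lit 0x5004003008001008004002005007021001000003))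 .nil)))))))) (.cD (nat_lit 20) (.dfs (nat_lit 32) (nat_lit 4100) (nat_lit 4100) (nat_lit 0x1002001) (nat_lit 0x1002001) (nat_lit 0) (nat_lit 0) (nat_lit 3) (nat_lit 0) (nat_lit 0) (nat_lit 0) (nat_lit 1) (nat_lit 0) (nat_lit 1) (nat_lit 0) (nat_lit 1) (nat_lit 0x11001100110010) (.cD (nat_lit 4) (.kc (nat_lit 36) (nat_lit 0x5001001)) (.cD (nat_lit 16) (.kc (nat_lit 52) (nat_lit 0x7001001)) (.cD (nat_lit 20) (.kc (nat_lit 48) (nat_lit 0x3001001)) (.cD (nat_lit 32) (.kA true (nat_lit 0x5004003008001008004002005007021001000003)) (.cD (nat_lit 36) (.dfs (nat_lit 9) (nat_lit 4102) (nat_lit 4103) (nat_lit 1) (nat_lit 1) (nat_lit 3) (nat_lit 0) (nat_lit 1) (nat_lit 4112) (nat_lit 0x40020010008004002021) (nat_lit 0) (nat_lit 1) (nat_lit 0) (nat_lit 1) (nat_lit 0) (nat_lit 1) (nat_lit 0) .nil) (.cD (nat_lit 48) (.kA true (nat_lit 0x400300500800100400100300c001002)) (.cD (nat_lit 52) (.kA true (nat_lit 0x400700100800100400100300c001002)) .nil)))))))) (.cD (nat_lit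 32) (.kF (nat_lit 16) (nat_lit 0x100400100c012004002002000003)) (.cD (nat_lit 36) (.kF (nat_lit 16) (nat_lit 0x100400100c012004002002000003)) (.cD (nat_lit 48) (.dfs (nat_lit 32) (nat_lit 4100) (nat_lit 4100) (nat_lit 0x1002001) (nat_lit 0x1002001) (nat_lit 0) (nat_lit 0) (nat_lit 3) (nat_lit 0) (nat_lit 0) (nat_lit 0) (nat_lit 1) (nat_lit 0) (nat_lit 1) (nat_lit 0) (nat_lit 1) (nat_lit 0x11001100110010) (.cD (nat_lit 4) (.kc (nat_lit 36) (nat_lit 0x5001001)) (.cD (nat_lit 16) (.kA true (nat_lit 0x400200100800100400100300c001002)) (.cD (nat_lit 20) (.kA true (nat_lit 0x400600500800100400100300c001002)) (.cD (nat_lit 32) (.kA true (nat_lit 0x5004003008001008004002005007021001000003)) (.cD (nat_lit 36) (.kA true (nat_lit 0x400500600800100400100300c001002)) (.cD (nat_lit 48) (.kc (nat_lit 48) (nat_lit 0x3001001)) (.cD (nat_lit 52) (.kc (nat_lit 52) (nat_lit 0x7001001)) .nil)))))))) (.cD (nat_lit 52) (.dfs (nat_lit 32) (nat_lit 4100) (nat_lit 4100) (nat_lit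 0x1002001) (nat_lit 0x1002001) (nat_lit 0) (nat_lit 0) (nat_lit 3) (nat_lit 0) (nat_lit 0) (nat_lit 0) (nat_lit 1) (nat_lit 0) (nat_lit 1) (nat_lit 0) (nat_lit 1) (nat_lit 0x11001100110010) (.cD (nat_lit 4) (.kc (nat_lit 36) (nat_lit 0x5001001)) (.cD (nat_lit 16) (.kA true (nat_lit 0x400200500800100400100300c001002)) (.cD (nat_lit 20) (.kA true (nat_lit 0x400600100800100400100300c001002)) (.cD (nat_lit 32) (.kA true (nat_lit 0x5004003008001008004002005007021001000003)) (.cD (nat_lit 36) (.kA true (nat_lit 0x400500200800100400100300c001002)) (.cD (nat_lit 48) (.kc (nat_lit 52) (nat_lit 0x7001001)) (.cD (nat_lit 52) (.kc (nat_lit 48) (nat_lit 0x3001001)) .nil)))))))) .nil)))))))) (.cD (nat_lit 8) (.dfs (nat_lit 16) (nat_lit 4098) (nat_lit 4098) (nat_lit 4097) (nat_lit 4097) (nat_lit 0) (nat_lit 0) (nat_lit 3) (nat_lit 0) (nat_lit 0) (nat_lit 0) (nat_lit 1) (nat_lit 0) (nat_lit 1) (nat_lit 0) (nat_lit 1) (nat_lit 0x101010101010100) (.cD (nat_lit 8) (.kc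 (nat_lit 20) (nat_lit 0x3001001)) (.cD (nat_lit 16) (.dfs (nat_lit 32) (nat_lit 4100) (nat_lit 4100) (nat_lit 0x1002001) (nat_lit 0x1002001) (nat_lit 0) (nat_lit 0) (nat_lit 3) (nat_lit 0) (nat_lit 0) (nat_lit 0) (nat_lit 1) (nat_lit 0) (nat_lit 1) (nat_lit 0) (nat_lit 1) (nat_lit 0x101010101010100) (.cD (nat_lit 8) (.kc (nat_lit 36) (nat_lit 0x5001001)) (.cD (nat_lit 16) (.kc (nat_lit 48) (nat_lit 0x3001001)) (.cD (nat_lit 24) (.kc (nat_lit 52) (nat_lit 0x7001001)) (.cD (nat_lit 32) (.kA false (nat_lit 0x700400200c00200a004008014005021001000003)) (.cD (nat_lit 40) (.kA false (nat_lit 0x2100100000600500200d002021001000003)) (.cD (nat_lit 48) (.kA false (nat_lit 0xa00800c01000400600300200b002021001000003)) (.cD (nat_lit 56) (.kA false (nat_lit 0x100400200c00200a004008014005021001000003)) .nil)))))))) (.cD (nat_lit 24) (.dfs (nat_lit 32) (nat_lit 4100) (nat_lit 4100) (nat_lit 0x1002001) (nat_lit 0x1002001) (nat_lit 0) (nat_lit 0) (nat_lit 3) (nat_lit 0)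 (nat_lit 0) (nat_lit 0) (nat_lit 1) (nat_lit 0) (nat_lit 1) (nat_lit 0) (nat_lit 1) (nat_lit 0x101010101010100) (.cD (nat_lit 8) (.kc (nat_lit 36) (nat_lit 0x5001001)) (.cD (nat_lit 16) (.kc (nat_lit 52) (nat_lit 0x7001001)) (.cD (nat_lit 24) (.kc (nat_lit 48) (nat_lit 0x3001001)) (.cD (nat_lit 32) (.kA false (nat_lit 0x300400600c00200a004008014005021001000003)) (.cD (nat_lit 40) (.kA false (nat_lit 0x2100100000200500600d002021001000003)) (.cD (nat_lit 48) (.kA false (nat_lit 0x500400600c00200a004008014005021001000003)) (.cD (nat_lit 56) (.kA false (nat_lit 0xc00800a01000400200300600b002021001000003)) .nil)))))))) (.cD (nat_lit 32) (.kF (nat_lit 16) (nat_lit 0x100400100c012004002002000003)) (.cD (nat_lit 40) (.kF (nat_lit 16) (nat_lit 0x100400100c012004002002000003)) (.cD (nat_lit 48) (.kF (nat_lit 16) (nat_lit 0x2100100000e014006001006001003)) (.cD (nat_lit 56) (.kF (nat_lit 16) (nat_lit 0x2100100000a014006001006001003)) .nil)))))))) (.cD (nat_lit 16)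 (.kF (nat_lit 4) (nat_lit 0x2002000001003001002)) (.cD (nat_lit 20) (.kF (nat_lit 4) (nat_lit 0xe01e003001003001002)) (.cD (nat_lit 24) (.kF (nat_lit 4) (nat_lit 0x1002001002012004002002000003)) (.cD (nat_lit 32) (.dfs (nat_lit 16) (nat_lit 4098) (nat_lit 4098) (nat_lit 4097) (nat_lit 4097) (nat_lit 0) (nat_lit 0) (nat_lit 3) (nat_lit 0) (nat_lit 0) (nat_lit 0) (nat_lit 1) (nat_lit 0) (nat_lit 0x1008004) (nat_lit 32772) (nat_lit 0x1001004000008001014000018) (nat_lit 0x1000101110110) (.cD (nat_lit 4) (.kF (nat_lit 16) (nat_lit 0x21001000001006001002)) (.cD (nat_lit 8) (.kF (nat_lit 16) (nat_lit 0x100400100c012004002002000003)) (.cD (nat_lit 16) (.dfs (nat_lit 32) (nat_lit 4100) (nat_lit 4100) (nat_lit 0x1002001) (nat_lit 0x1002001) (nat_lit 0) (nat_lit 0) (nat_lit 3) (nat_lit 0) (nat_lit 0) (nat_lit 0) (nat_lit 1) (nat_lit 0) (nat_lit 0x1008004) (nat_lit 32772) (nat_lit 0x1001004000008001014000018) (nat_lit 0x1000101110110) (.cD (nat_lit 4) (.kA true (nat_lit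 0x100400600c002021001000002)) (.cD (nat_lit 8) (.kA false (nat_lit 0x300400200c002021001000002)) (.cD (nat_lit 16) (.kc (nat_lit 48) (nat_lit 0x3001001)) (.cD (nat_lit 20) (.kA true (nat_lit 0x300400600c002021001000002)) (.cD (nat_lit 24) (.kA false (nat_lit 0x100400200c002021001000002)) (.cD (nat_lit 32) (.kc (nat_lit 36) (nat_lit 0x5001001)) (.cD (nat_lit 48) (.kc (nat_lit 52) (nat_lit 0x7001001)) .nil)))))))) (.cD (nat_lit 20) (.dfs (nat_lit 32) (nat_lit 4100) (nat_lit 4100) (nat_lit 0x1002001) (nat_lit 0x1002001) (nat_lit 0) (nat_lit 0) (nat_lit 3) (nat_lit 0) (nat_lit 0) (nat_lit 0) (nat_lit 1) (nat_lit 0) (nat_lit 1) (nat_lit 0) (nat_lit 1) (nat_lit 0x11001100110010) (.cD (nat_lit 4) (.kA true (nat_lit 0x100400700c002021001000002)) (.cD (nat_lit 16) (.kA true (nat_lit 0x300400500c002021001000002)) (.cD (nat_lit 20) (.kc (nat_lit 48) (nat_lit 0x3001001)) (.cD (nat_lit 32) (.kc (nat_lit 36) (nat_lit 0x5001001)) (.cD (nat_lit 36) (.dfs (nat_lit 9)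 (nat_lit 4100) (nat_lit 4101) (nat_lit 1) (nat_lit 1) (nat_lit 3) (nat_lit 0) (nat_lit 1) (nat_lit 4128) (nat_lit 0x40020010008004002021) (nat_lit 0) (nat_lit 1) (nat_lit 0) (nat_lit 1) (nat_lit 0) (nat_lit 1) (nat_lit 0) .nil) (.cD (nat_lit 48) (.kA true (nat_lit 0x700400100c002021001000002)) (.cD (nat_lit 52) (.kc (nat_lit 52) (nat_lit 0x7001001)) .nil)))))))) (.cD (nat_lit 24) (.kF (nat_lit 16) (nat_lit 0x21001000001006001002)) (.cD (nat_lit 32) (.kc (nat_lit 20) (nat_lit 0x3001001)) (.cD (nat_lit 48) (.dfs (nat_lit 32) (nat_lit 4100) (nat_lit 4100) (nat_lit 0x1002001) (nat_lit 0x1002001) (nat_lit 0) (nat_lit 0) (nat_lit 3) (nat_lit 0) (nat_lit 0) (nat_lit 0) (nat_lit 1) (nat_lit 0) (nat_lit 0x1008004) (nat_lit 32772) (nat_lit 0x1001004000008001014000018) (nat_lit 0x1000101110110) (.cD (nat_lit 4) (.kA true (nat_lit 0x100400200c002021001000002)) (.cD (nat_lit 8) (.kA false (nat_lit 0x700400600c002021001000002)) (.cD (nat_lit 16) (.kc (nat_lit 52) (nat_lit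 0x7001001)) (.cD (nat_lit 20) (.kA true (nat_lit 0x700400200c002021001000002)) (.cD (nat_lit 24) (.kA false (nat_lit 0x100400600c002021001000002)) (.cD (nat_lit 32) (.kc (nat_lit 36) (nat_lit 0x5001001)) (.cD (nat_lit 48) (.kc (nat_lit 48) (nat_lit 0x3001001)) .nil)))))))) .nil)))))))) (.cD (nat_lit 48) (.kF (nat_lit 4) (nat_lit 0x1002001002012004002002000003)) .nil))))))))))
theorem c536 : (chk [] [] p536).n x282 s536 = true := by decide +kernel
noncomputable def p537 : Pf := (.anc (nat_lit 68) (nat_lit 0x10002002002000002) (nat_lit 0x1009020010004) (.czp (nat_lit 64) (nat_lit 0) (nat_lit 0x1040020010008004) z6 (.dfs (nat_lit 4) (nat_lit 4097) (nat_lit 4097) (nat_lit 1) (nat_lit 1) (nat_lit 0) (nat_lit 0) (nat_lit 3) (nat_lit 0) (nat_lit 0) (nat_lit 0) (nat_lit 1) (nat_lit 0) (nat_lit 0x1008004) (nat_lit 32772) (nat_lit 0x1001004000008001014000018) (nat_lit 0x1000101110110) (.cD (nat_lit 4) (.dfs (nat_lit 16) (nat_lit 4098) (nat_lit 4098) (nat_lit 4097)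 (nat_lit 4097) (nat_lit 0) (nat_lit 0) (nat_lit 3) (nat_lit 0) (nat_lit 0) (nat_lit 0) (nat_lit 1) (nat_lit 0) (nat_lit 1) (nat_lit 0) (nat_lit 1) (nat_lit 0x11001100110010) (.cD (nat_lit 4) (.kc (nat_lit 20) (nat_lit 0x3001001)) (.cD (nat_lit 16) (.dfs (nat_lit 32) (nat_lit 4100) (nat_lit 4100) (nat_lit 0x1002001) (nat_lit 0x1002001) (nat_lit 0) (nat_lit 0) (nat_lit 3) (nat_lit 0) (nat_lit 0) (nat_lit 0) (nat_lit 1) (nat_lit 0) (nat_lit 1) (nat_lit 0) (nat_lit 1) (nat_lit 0x11001100110010) (.cD (nat_lit 4) (.kc (nat_lit 36) (nat_lit 0x5001001)) (.cD (nat_lit 16) (.kc (nat_lit 48) (nat_lit 0x3001001)) (.cD (nat_lit 20) (.kc (nat_lit 52) (nat_lit 0x7001001)) (.cD (nat_lit 32) (.dfs (nat_lit 9) (nat_lit 0x1004001003008) (nat_lit 0x1005001003008) (nat_lit 4098) (nat_lit 4098) (nat_lit 1) (nat_lit 0) (nat_lit 2) (nat_lit 1) (nat_lit 0) (nat_lit 8) (nat_lit 1) (nat_lit 0) (nat_lit 4100) (nat_lit 4) (nat_lit 0x100000c00001c) (nat_lit 0x10001000) (.cD (nat_lit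 12) (.kA false (nat_lit 0xd00200401000100200200000f002004016002033003000004)) (.cD (nat_lit 28) (.kA false (nat_lit 0x900200401000100200200000b002004016002033003000004)) .nil))) (.cD (nat_lit 36) (.kA true (nat_lit 0x3100100000400100300d001031001000003)) (.cD (nat_lit 48) (.kA true (nat_lit 0x600800401000400400100300d001031001000003)) (.cD (nat_lit 52) (.kA true (nat_lit 0x5004003008001008004002005007031001000003)) .nil)))))))) (.cD (nat_lit 20) (.dfs (nat_lit 32) (nat_lit 4100) (nat_lit 4100) (nat_lit 0x1002001) (nat_lit 0x1002001) (nat_lit 0) (nat_lit 0) (nat_lit 3) (nat_lit 0) (nat_lit 0) (nat_lit 0) (nat_lit 1) (nat_lit 0) (nat_lit 1) (nat_lit 0) (nat_lit 1) (nat_lit 0x11001100110010) (.cD (nat_lit 4) (.kc (nat_lit 36) (nat_lit 0x5001001)) (.cD (nat_lit 16) (.kc (nat_lit 52) (nat_lit 0x7001001)) (.cD (nat_lit 20) (.kc (nat_lit 48) (nat_lit 0x3001001)) (.cD (nat_lit 32) (.kA true (nat_lit 0x5004003008001008004002005007031001000003)) (.cD (nat_lit 36)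 (.dfs (nat_lit 9) (nat_lit 4102) (nat_lit 4103) (nat_lit 1) (nat_lit 1) (nat_lit 1) (nat_lit 0) (nat_lit 1) (nat_lit 4112) (nat_lit 0x40020010008004002031) (nat_lit 0) (nat_lit 1) (nat_lit 0) (nat_lit 1) (nat_lit 0) (nat_lit 1) (nat_lit 0) .nil) (.cD (nat_lit 48) (.kA true (nat_lit 0x400300500800100400100300c001002)) (.cD (nat_lit 52) (.kA true (nat_lit 0x400700100800100400100300c001002)) .nil)))))))) (.cD (nat_lit 32) (.kF (nat_lit 16) (nat_lit 0x100400100c012004002002000003)) (.cD (nat_lit 36) (.kF (nat_lit 16) (nat_lit 0x100400100c012004002002000003)) (.cD (nat_lit 48) (.dfs (nat_lit 32) (nat_lit 4100) (nat_lit 4100) (nat_lit 0x1002001) (nat_lit 0x1002001) (nat_lit 0) (nat_lit 0) (nat_lit 3) (nat_lit 0) (nat_lit 0) (nat_lit 0) (nat_lit 1) (nat_lit 0) (nat_lit 1) (nat_lit 0) (nat_lit 1) (nat_lit 0x11001100110010) (.cD (nat_lit 4) (.kc (nat_lit 36) (nat_lit 0x5001001)) (.cD (nat_lit 16) (.kA true (nat_lit 0x400200100800100400100300c001002)) (.cD (nat_lit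 20) (.kA true (nat_lit 0x400600500800100400100300c001002)) (.cD (nat_lit 32) (.kA true (nat_lit 0x5004003008001008004002005007031001000003)) (.cD (nat_lit 36) (.kA true (nat_lit 0x400500600800100400100300c001002)) (.cD (nat_lit 48) (.kc (nat_lit 48) (nat_lit 0x3001001)) (.cD (nat_lit 52) (.kc (nat_lit 52) (nat_lit 0x7001001)) .nil)))))))) (.cD (nat_lit 52) (.dfs (nat_lit 32) (nat_lit 4100) (nat_lit 4100) (nat_lit 0x1002001) (nat_lit 0x1002001) (nat_lit 0) (nat_lit 0) (nat_lit 3) (nat_lit 0) (nat_lit 0) (nat_lit 0) (nat_lit 1) (nat_lit 0) (nat_lit 1) (nat_lit 0) (nat_lit 1) (nat_lit 0x11001100110010) (.cD (nat_lit 4) (.kc (nat_lit 36) (nat_lit 0x5001001)) (.cD (nat_lit 16) (.kA true (nat_lit 0x400200500800100400100300c001002)) (.cD (nat_lit 20) (.kA true (nat_lit 0x400600100800100400100300c001002)) (.cD (nat_lit 32) (.kA true (nat_lit 0x5004003008001008004002005007031001000003)) (.cD (nat_lit 36) (.kA true (nat_lit 0x400500200800100400100300c001002)) (.cD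 (nat_lit 48) (.kc (nat_lit 52) (nat_lit 0x7001001)) (.cD (nat_lit 52) (.kc (nat_lit 48) (nat_lit 0x3001001)) .nil)))))))) .nil)))))))) (.cD (nat_lit 8) (.dfs (nat_lit 16) (nat_lit 4098) (nat_lit 4098) (nat_lit 4097) (nat_lit 4097) (nat_lit 0) (nat_lit 0) (nat_lit 3) (nat_lit 0) (nat_lit 0) (nat_lit 0) (nat_lit 1) (nat_lit 0) (nat_lit 1) (nat_lit 0) (nat_lit 1) (nat_lit 0x101010101010100) (.cD (nat_lit 8) (.kc (nat_lit 20) (nat_lit 0x3001001)) (.cD (nat_lit 16) (.dfs (nat_lit 32) (nat_lit 4100) (nat_lit 4100) (nat_lit 0x1002001) (nat_lit 0x1002001) (nat_lit 0) (nat_lit 0) (nat_lit 3) (nat_lit 0) (nat_lit 0) (nat_lit 0) (nat_lit 1) (nat_lit 0) (nat_lit 1) (nat_lit 0) (nat_lit 1) (nat_lit 0x101010101010100) (.cD (nat_lit 8) (.kc (nat_lit 36) (nat_lit 0x5001001)) (.cD (nat_lit 16) (.kc (nat_lit 48) (nat_lit 0x3001001)) (.cD (nat_lit 24) (.kc (nat_lit 52) (nat_lit 0x7001001)) (.cD (nat_lit 32) (.kA false (nat_lit 0x700400200c00200a004008014005031001000003))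 (.cD (nat_lit 40) (.kA false (nat_lit 0x3100100000600500200d002031001000003)) (.cD (nat_lit 48) (.kA false (nat_lit 0xa00800c01000400600300200b002031001000003)) (.cD (nat_lit 56) (.kA false (nat_lit 0x100400200c00200a004008014005031001000003)) .nil)))))))) (.cD (nat_lit 24) (.dfs (nat_lit 32) (nat_lit 4100) (nat_lit 4100) (nat_lit 0x1002001) (nat_lit 0x1002001) (nat_lit 0) (nat_lit 0) (nat_lit 3) (nat_lit 0) (nat_lit 0) (nat_lit 0) (nat_lit 1) (nat_lit 0) (nat_lit 1) (nat_lit 0) (nat_lit 1) (nat_lit 0x101010101010100) (.cD (nat_lit 8) (.kc (nat_lit 36) (nat_lit 0x5001001)) (.cD (nat_lit 16) (.kc (nat_lit 52) (nat_lit 0x7001001)) (.cD (nat_lit 24) (.kc (nat_lit 48) (nat_lit 0x3001001)) (.cD (nat_lit 32) (.kA false (nat_lit 0x300400600c00200a004008014005031001000003)) (.cD (nat_lit 40) (.kA false (nat_lit 0x3100100000200500600d002031001000003)) (.cD (nat_lit 48) (.kA false (nat_lit 0x500400600c00200a004008014005031001000003)) (.cD (nat_lit 56) (.kA false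 (nat_lit 0xc00800a01000400200300600b002031001000003)) .nil)))))))) (.cD (nat_lit 32) (.kF (nat_lit 16) (nat_lit 0x100400100c012004002002000003)) (.cD (nat_lit 40) (.kF (nat_lit 16) (nat_lit 0x100400100c012004002002000003)) (.cD (nat_lit 48) (.kF (nat_lit 16) (nat_lit 0x3100100000e014006001006001003)) (.cD (nat_lit 56) (.kF (nat_lit 16) (nat_lit 0x3100100000a014006001006001003)) .nil)))))))) (.cD (nat_lit 16) (.kF (nat_lit 4) (nat_lit 0x2002000001003001002)) (.cD (nat_lit 20) (.kF (nat_lit 4) (nat_lit 0xe01e003001003001002)) (.cD (nat_lit 24) (.kF (nat_lit 4) (nat_lit 0x1002001002012004002002000003)) (.cD (nat_lit 32) (.dfs (nat_lit 16) (nat_lit 4098) (nat_lit 4098) (nat_lit 4097) (nat_lit 4097) (nat_lit 0) (nat_lit 0) (nat_lit 3) (nat_lit 0) (nat_lit 0) (nat_lit 0) (nat_lit 1) (nat_lit 0) (nat_lit 0x1008004) (nat_lit 32772) (nat_lit 0x1001004000008001014000018) (nat_lit 0x1000101110110) (.cD (nat_lit 4) (.kF (nat_lit 16) (nat_lit 0x31001000001006001002))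 (.cD (nat_lit 8) (.kF (nat_lit 16) (nat_lit 0x100400100c012004002002000003)) (.cD (nat_lit 16) (.dfs (nat_lit 32) (nat_lit 4100) (nat_lit 4100) (nat_lit 0x1002001) (nat_lit 0x1002001) (nat_lit 0) (nat_lit 0) (nat_lit 3) (nat_lit 0) (nat_lit 0) (nat_lit 0) (nat_lit 1) (nat_lit 0) (nat_lit 0x1008004) (nat_lit 32772) (nat_lit 0x1001004000008001014000018) (nat_lit 0x1000101110110) (.cD (nat_lit 4) (.kA true (nat_lit 0x100400600c002031001000002)) (.cD (nat_lit 8) (.kA false (nat_lit 0x300400200c002031001000002)) (.cD (nat_lit 16) (.kc (nat_lit 48) (nat_lit 0x3001001)) (.cD (nat_lit 20) (.kA true (nat_lit 0x300400600c002031001000002)) (.cD (nat_lit 24) (.kA false (nat_lit 0x100400200c002031001000002)) (.cD (nat_lit 32) (.kc (nat_lit 36) (nat_lit 0x5001001)) (.cD (nat_lit 48) (.kc (nat_lit 52) (nat_lit 0x7001001)) .nil)))))))) (.cD (nat_lit 20) (.dfs (nat_lit 32) (nat_lit 4100) (nat_lit 4100) (nat_lit 0x1002001) (nat_lit 0x1002001) (nat_lit 0) (nat_lit 0) (nat_lit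 3) (nat_lit 0) (nat_lit 0) (nat_lit 0) (nat_lit 1) (nat_lit 0) (nat_lit 1) (nat_lit 0) (nat_lit 1) (nat_lit 0x11001100110010) (.cD (nat_lit 4) (.kA true (nat_lit 0x100400700c002031001000002)) (.cD (nat_lit 16) (.kA true (nat_lit 0x300400500c002031001000002)) (.cD (nat_lit 20) (.kc (nat_lit 48) (nat_lit 0x3001001)) (.cD (nat_lit 32) (.kc (nat_lit 36) (nat_lit 0x5001001)) (.cD (nat_lit 36) (.dfs (nat_lit 9) (nat_lit 4100) (nat_lit 4101) (nat_lit 1) (nat_lit 1) (nat_lit 1) (nat_lit 0) (nat_lit 1) (nat_lit 4128) (nat_lit 0x40020010008004002031) (nat_lit 0) (nat_lit 1) (nat_lit 0) (nat_lit 1) (nat_lit 0) (nat_lit 1) (nat_lit 0) .nil) (.cD (nat_lit 48) (.kA true (nat_lit 0x700400100c002031001000002)) (.cD (nat_lit 52) (.kc (nat_lit 52) (nat_lit 0x7001001)) .nil)))))))) (.cD (nat_lit 24) (.kF (nat_lit 16) (nat_lit 0x31001000001006001002)) (.cD (nat_lit 32) (.kc (nat_lit 20) (nat_lit 0x3001001)) (.cD (nat_lit 48) (.dfs (nat_lit 32) (nat_lit 4100) (nat_lit 4100)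 (nat_lit 0x1002001) (nat_lit 0x1002001) (nat_lit 0) (nat_lit 0) (nat_lit 3) (nat_lit 0) (nat_lit 0) (nat_lit 0) (nat_lit 1) (nat_lit 0) (nat_lit 0x1008004) (nat_lit 32772) (nat_lit 0x1001004000008001014000018) (nat_lit 0x1000101110110) (.cD (nat_lit 4) (.kA true (nat_lit 0x100400200c002031001000002)) (.cD (nat_lit 8) (.kA false (nat_lit 0x700400600c002031001000002)) (.cD (nat_lit 16) (.kc (nat_lit 52) (nat_lit 0x7001001)) (.cD (nat_lit 20) (.kA true (nat_lit 0x700400200c002031001000002)) (.cD (nat_lit 24) (.kA false (nat_lit 0x100400600c002031001000002)) (.cD (nat_lit 32) (.kc (nat_lit 36) (nat_lit 0x5001001)) (.cD (nat_lit 48) (.kc (nat_lit 48) (nat_lit 0x3001001)) .nil)))))))) .nil)))))))) (.cD (nat_lit 48) (.kF (nat_lit 4) (nat_lit 0x1002001002012004002002000003)) .nil))))))))))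
theorem c537 : (chk [] [] p537).n x283 s537 = true := by decide +kernel
noncomputable def p538 : Pf := (.anc (nat_lit 72) (nat_lit 0x31001000014004002) (nat_lit 0x1007020010008) (.czp (nat_lit 64) (nat_lit 0) (nat_lit 0x1040020010008004) z6 (.dfs (nat_lit 8) (nat_lit 4097) (nat_lit 4097) (nat_lit 1) (nat_lit 1) (nat_lit 0) (nat_lit 0) (nat_lit 3) (nat_lit 0) (nat_lit 0) (nat_lit 0) (nat_lit 1) (nat_lit 0) (nat_lit 0x1008004) (nat_lit 32772) (nat_lit 0x1001004000008001014000018) (nat_lit 0x1000101110110) (.cD (nat_lit 4) (.dfs (nat_lit 16) (nat_lit 4098) (nat_lit 4098) (nat_lit 4097) (nat_lit 4097) (nat_lit 0) (nat_lit 0) (nat_lit 3) (nat_lit 0) (nat_lit 0) (nat_lit 0) (nat_lit 1) (nat_lit 0) (nat_lit 1) (nat_lit 0) (nat_lit 1) (nat_lit 0x11001100110010) (.cD (nat_lit 4) (.kc (nat_lit 24) (nat_lit 0x3001001)) (.cD (nat_lit 16) (.dfs (nat_lit 32) (nat_lit 4100) (nat_lit 4100) (nat_lit 0x1002001) (nat_lit 0x1002001) (nat_lit 0) (nat_lit 0) (nat_lit 3) (nat_lit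 0) (nat_lit 0) (nat_lit 0) (nat_lit 1) (nat_lit 0) (nat_lit 1) (nat_lit 0) (nat_lit 1) (nat_lit 0x11001100110010) (.cD (nat_lit 4) (.kc (nat_lit 40) (nat_lit 0x5001001)) (.cD (nat_lit 16) (.kc (nat_lit 48) (nat_lit 0x3001001)) (.cD (nat_lit 20) (.kc (nat_lit 56) (nat_lit 0x7001001)) (.cD (nat_lit 32) (.kA false (nat_lit 0x700400200800100a004008014005031001000003)) (.cD (nat_lit 36) (.kA false (nat_lit 0x3100100000600100200d001031001000003)) (.cD (nat_lit 48) (.kA false (nat_lit 0xa00800c01000400600100200d001031001000003)) (.cD (nat_lit 52) (.kA false (nat_lit 0x700400200800100a004008014005031001000003)) .nil)))))))) (.cD (nat_lit 20) (.dfs (nat_lit 32) (nat_lit 4100) (nat_lit 4100) (nat_lit 0x1002001) (nat_lit 0x1002001) (nat_lit 0) (nat_lit 0) (nat_lit 3) (nat_lit 0) (nat_lit 0) (nat_lit 0) (nat_lit 1) (nat_lit 0) (nat_lit 1) (nat_lit 0) (nat_lit 1) (nat_lit 0x11001100110010) (.cD (nat_lit 4) (.kc (nat_lit 40) (nat_lit 0x5001001)) (.cD (nat_lit 16) (.kc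 (nat_lit 56) (nat_lit 0x7001001)) (.cD (nat_lit 20) (.kc (nat_lit 48) (nat_lit 0x3001001)) (.cD (nat_lit 32) (.kA false (nat_lit 0x700400200800100a004008014005031001000003)) (.cD (nat_lit 36) (.kA false (nat_lit 0x3100100000600100200d001031001000003)) (.cD (nat_lit 48) (.kA false (nat_lit 0xc00800a01000400600100200d001031001000003)) (.cD (nat_lit 52) (.kA false (nat_lit 0x700400200800100a004008014005031001000003)) .nil)))))))) (.cD (nat_lit 32) (.kF (nat_lit 16) (nat_lit 0x4010004002002000001006001003)) (.cD (nat_lit 36) (.kF (nat_lit 16) (nat_lit 0x31001000001007001002002000003)) (.cD (nat_lit 48) (.dfs (nat_lit 32) (nat_lit 4100) (nat_lit 4100) (nat_lit 0x1002001) (nat_lit 0x1002001) (nat_lit 0) (nat_lit 0) (nat_lit 3) (nat_lit 0) (nat_lit 0) (nat_lit 0) (nat_lit 1) (nat_lit 0) (nat_lit 1) (nat_lit 0) (nat_lit 1) (nat_lit 0x11001100110010) (.cD (nat_lit 4) (.kc (nat_lit 40) (nat_lit 0x5001001)) (.cD (nat_lit 16) (.kA false (nat_lit 0xa00c00801e00300600100200d001031001000003))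 (.cD (nat_lit 20) (.kA false (nat_lit 0x200200000600100200d001031001000003)) (.cD (nat_lit 32) (.kA false (nat_lit 0x700400200800100a004008014005031001000003)) (.cD (nat_lit 36) (.kA false (nat_lit 0x3100100000600100200d001031001000003)) (.cD (nat_lit 48) (.kc (nat_lit 48) (nat_lit 0x3001001)) (.cD (nat_lit 52) (.kc (nat_lit 56) (nat_lit 0x7001001)) .nil)))))))) (.cD (nat_lit 52) (.dfs (nat_lit 32) (nat_lit 4100) (nat_lit 4100) (nat_lit 0x1002001) (nat_lit 0x1002001) (nat_lit 0) (nat_lit 0) (nat_lit 3) (nat_lit 0) (nat_lit 0) (nat_lit 0) (nat_lit 1) (nat_lit 0) (nat_lit 1) (nat_lit 0) (nat_lit 1) (nat_lit 0x11001100110010) (.cD (nat_lit 4) (.kc (nat_lit 40) (nat_lit 0x5001001)) (.cD (nat_lit 16) (.kA false (nat_lit 0x800c00a01e00300600100200d001031001000003)) (.cD (nat_lit 20) (.kA false (nat_lit 0x200200000600100200d001031001000003)) (.cD (nat_lit 32) (.kA false (nat_lit 0x700400200800100a004008014005031001000003)) (.cD (nat_lit 36) (.kA false (nat_lit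 0x3100100000600100200d001031001000003)) (.cD (nat_lit 48) (.kc (nat_lit 56) (nat_lit 0x7001001)) (.cD (nat_lit 52) (.kc (nat_lit 48) (nat_lit 0x3001001)) .nil)))))))) .nil)))))))) (.cD (nat_lit 8) (.dfs (nat_lit 16) (nat_lit 4098) (nat_lit 4098) (nat_lit 4097) (nat_lit 4097) (nat_lit 0) (nat_lit 0) (nat_lit 3) (nat_lit 0) (nat_lit 0) (nat_lit 0) (nat_lit 1) (nat_lit 0) (nat_lit 1) (nat_lit 0) (nat_lit 1) (nat_lit 0x101010101010100) (.cD (nat_lit 8) (.kc (nat_lit 24) (nat_lit 0x3001001)) (.cD (nat_lit 16) (.dfs (nat_lit 32) (nat_lit 4100) (nat_lit 4100) (nat_lit 0x1002001) (nat_lit 0x1002001) (nat_lit 0) (nat_lit 0) (nat_lit 3) (nat_lit 0) (nat_lit 0) (nat_lit 0) (nat_lit 1) (nat_lit 0) (nat_lit 1) (nat_lit 0) (nat_lit 1) (nat_lit 0x101010101010100) (.cD (nat_lit 8) (.kc (nat_lit 40) (nat_lit 0x5001001)) (.cD (nat_lit 16) (.kc (nat_lit 48) (nat_lit 0x3001001)) (.cD (nat_lit 24) (.kc (nat_lit 56) (nat_lit 0x7001001)) (.cD (nat_lit 32) (.kA false (nat_lit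 0x700400200800100a004008014005031001000003)) (.cD (nat_lit 40) (.kA false (nat_lit 0x3100100000600100200d001031001000003)) (.cD (nat_lit 48) (.dfs (nat_lit 7) (nat_lit 0x1004003002008) (nat_lit 0x1007003002008) (nat_lit 4097) (nat_lit 4097) (nat_lit 2) (nat_lit 0) (nat_lit 2) (nat_lit 0) (nat_lit 0) (nat_lit 4) (nat_lit 1) (nat_lit 0) (nat_lit 1) (nat_lit 0) (nat_lit 1) (nat_lit 0) .nil) (.cD (nat_lit 56) (.dfs (nat_lit 7) (nat_lit 4101) (nat_lit 4102) (nat_lit 1) (nat_lit 1) (nat_lit 2) (nat_lit 0) (nat_lit 1) (nat_lit 4144) (nat_lit 0x40020010008004002031) (nat_lit 0) (nat_lit 1) (nat_lit 0) (nat_lit 1) (nat_lit 0) (nat_lit 1) (nat_lit 0) .nil) .nil)))))))) (.cD (nat_lit 24) (.dfs (nat_lit 32) (nat_lit 4100) (nat_lit 4100) (nat_lit 0x1002001) (nat_lit 0x1002001) (nat_lit 0) (nat_lit 0) (nat_lit 3) (nat_lit 0) (nat_lit 0) (nat_lit 0) (nat_lit 1) (nat_lit 0) (nat_lit 1) (nat_lit 0) (nat_lit 1) (nat_lit 0x101010101010100) (.cD (nat_lit 8) (.kc (nat_lit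 40) (nat_lit 0x5001001)) (.cD (nat_lit 16) (.kc (nat_lit 56) (nat_lit 0x7001001)) (.cD (nat_lit 24) (.kc (nat_lit 48) (nat_lit 0x3001001)) (.cD (nat_lit 32) (.kA false (nat_lit 0x700400200800100a004008014005031001000003)) (.cD (nat_lit 40) (.kA false (nat_lit 0x3100100000600100200d001031001000003)) (.cD (nat_lit 48) (.kA false (nat_lit 0x700400200800100a004008014005031001000003)) (.cD (nat_lit 56) (.kA false (nat_lit 0x700400200800100a004008014005031001000003)) .nil)))))))) (.cD (nat_lit 32) (.kF (nat_lit 8) (nat_lit 0x3006002004004000002007001002002000004)) (.cD (nat_lit 40) (.kF (nat_lit 8) (nat_lit 0x31001000002007001002002000003)) (.cD (nat_lit 48) (.kF (nat_lit 16) (nat_lit 0x3100100000e014006001006001003)) (.cD (nat_lit 56) (.kF (nat_lit 16) (nat_lit 0x3100100000a014006001006001003)) .nil)))))))) (.cD (nat_lit 16) (.kF (nat_lit 8) (nat_lit 0x2002000001003001002)) (.cD (nat_lit 20) (.kF (nat_lit 8) (nat_lit 0xe01e003001003001002)) (.cD (nat_lit 24)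 (.kF (nat_lit 8) (nat_lit 0x31001000002016005031001000001003001004)) (.cD (nat_lit 32) (.dfs (nat_lit 16) (nat_lit 4098) (nat_lit 4098) (nat_lit 4097) (nat_lit 4097) (nat_lit 0) (nat_lit 0) (nat_lit 3) (nat_lit 0) (nat_lit 0) (nat_lit 0) (nat_lit 1) (nat_lit 0) (nat_lit 0x1008004) (nat_lit 32772) (nat_lit 0x1001004000008001014000018) (nat_lit 0x1000101110110) (.cD (nat_lit 4) (.kF (nat_lit 16) (nat_lit 0x31001000001006001002)) (.cD (nat_lit 8) (.kF (nat_lit 8) (nat_lit 0x31001000004016005002007001002002000004)) (.cD (nat_lit 16) (.dfs (nat_lit 32) (nat_lit 4100) (nat_lit 4100) (nat_lit 0x1002001) (nat_lit 0x1002001) (nat_lit 0) (nat_lit 0) (nat_lit 3) (nat_lit 0) (nat_lit 0) (nat_lit 0) (nat_lit 1) (nat_lit 0) (nat_lit 0x1008004) (nat_lit 32772) (nat_lit 0x1001004000008001014000018) (nat_lit 0x1000101110110) (.cD (nat_lit 4) (.kA false (nat_lit 0x3100100000400100200c001002)) (.cD (nat_lit 8) (.kA false (nat_lit 0x300400200c002031001000002)) (.cD (nat_lit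 16) (.kc (nat_lit 48) (nat_lit 0x3001001)) (.cD (nat_lit 20) (.kA false (nat_lit 0x3100100000400100200c001002)) (.cD (nat_lit 24) (.dfs (nat_lit 7) (nat_lit 4100) (nat_lit 4103) (nat_lit 1) (nat_lit 1) (nat_lit 2) (nat_lit 0) (nat_lit 1) (nat_lit 4128) (nat_lit 0x40020010008004002031) (nat_lit 0) (nat_lit 1) (nat_lit 0) (nat_lit 1) (nat_lit 0) (nat_lit 1) (nat_lit 0) .nil) (.cD (nat_lit 32) (.kc (nat_lit 40) (nat_lit 0x5001001)) (.cD (nat_lit 48) (.kc (nat_lit 56) (nat_lit 0x7001001)) .nil)))))))) (.cD (nat_lit 20) (.dfs (nat_lit 32) (nat_lit 4100) (nat_lit 4100) (nat_lit 0x1002001) (nat_lit 0x1002001) (nat_lit 0) (nat_lit 0) (nat_lit 3) (nat_lit 0) (nat_lit 0) (nat_lit 0) (nat_lit 1) (nat_lit 0) (nat_lit 1) (nat_lit 0) (nat_lit 1) (nat_lit 0x11001100110010) (.cD (nat_lit 4) (.kA false (nat_lit 0x3100100000400100200c001002)) (.cD (nat_lit 16) (.kA false (nat_lit 0x3100100000400100200c001002)) (.cD (nat_lit 20) (.kc (nat_lit 48) (nat_lit 0x3001001)) (.cD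 (nat_lit 32) (.kc (nat_lit 40) (nat_lit 0x5001001)) (.cD (nat_lit 36) (.kA false (nat_lit 0x3100100000400100200c001002)) (.cD (nat_lit 48) (.kA false (nat_lit 0x3100100000400100200c001002)) (.cD (nat_lit 52) (.kc (nat_lit 56) (nat_lit 0x7001001)) .nil)))))))) (.cD (nat_lit 24) (.kF (nat_lit 16) (nat_lit 0x31001000001006001002)) (.cD (nat_lit 32) (.kc (nat_lit 24) (nat_lit 0x3001001)) (.cD (nat_lit 48) (.dfs (nat_lit 32) (nat_lit 4100) (nat_lit 4100) (nat_lit 0x1002001) (nat_lit 0x1002001) (nat_lit 0) (nat_lit 0) (nat_lit 3) (nat_lit 0) (nat_lit 0) (nat_lit 0) (nat_lit 1) (nat_lit 0) (nat_lit 0x1008004) (nat_lit 32772) (nat_lit 0x1001004000008001014000018) (nat_lit 0x1000101110110) (.cD (nat_lit 4) (.kA false (nat_lit 0x3100100000400100200c001002)) (.cD (nat_lit 8) (.kA false (nat_lit 0x700400600c002031001000002)) (.cD (nat_lit 16) (.kc (nat_lit 56) (nat_lit 0x7001001)) (.cD (nat_lit 20) (.kA false (nat_lit 0x3100100000400100200c001002)) (.cD (nat_lit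 24) (.kA false (nat_lit 0x100400600c002031001000002)) (.cD (nat_lit 32) (.kc (nat_lit 40) (nat_lit 0x5001001)) (.cD (nat_lit 48) (.kc (nat_lit 48) (nat_lit 0x3001001)) .nil)))))))) .nil)))))))) (.cD (nat_lit 48) (.kF (nat_lit 8) (nat_lit 0x33003000001003001002)) .nil))))))))))
theorem c538 : (chk [] [] p538).n x284 s538 = true := by decide +kernel
noncomputable def p539 : Pf := (.lft (nat_lit 0x20008018001004002003001) (nat_lit 0) (nat_lit 0x1028020) (nat_lit 0x20010008004002001) (.extn a21 (nat_lit 0x20010008004002001) (nat_lit 0x1004010008020) (nat_lit 2) (nat_lit 0) (nat_lit 0) (nat_lit 0) (nat_lit 0x1010101) (.cE (nat_lit 0) b61 (nat_lit 0) (.cut (nat_lit 0)) (.cut (nat_lit 1)) (.cE (nat_lit 8) b62 (nat_lit 0) (.cut (nat_lit 2)) (.cut (nat_lit 3)) (.cE (nat_lit 16) b63 (nat_lit 0) (.cut (nat_lit 4)) (.cut (nat_lit 5)) (.cE (nat_lit 24) b64 (nat_lit 0) (.cut (nat_lit 6)) (.cut (nat_lit 7)) .nil))))))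
theorem c539 : (chk [(x277, s531), (x278, s532), (x279, s533), (x280, s534), (x281, s535), (x282, s536), (x283, s537), (x284, s538)] [] p539).n x207 s539 = true := by decide +kernel
noncomputable def p540 : Pf := (.anc (nat_lit 68) (nat_lit 0x10002002002000002) (nat_lit 0x1009020010004) (.czp (nat_lit 64) (nat_lit 0) (nat_lit 0x1040020010008004) z6 (.dfs (nat_lit 4) (nat_lit 4097) (nat_lit 4097) (nat_lit 1) (nat_lit 1) (nat_lit 0) (nat_lit 0) (nat_lit 3) (nat_lit 0) (nat_lit 0) (nat_lit 0) (nat_lit 1) (nat_lit 0) (nat_lit 0x1008004) (nat_lit 32772) (nat_lit 0x1001004000008001014000018) (nat_lit 0x1000101110110) (.cD (nat_lit 4) (.dfs (nat_lit 16) (nat_lit 4098) (nat_lit 4098) (nat_lit 4097) (nat_lit 4097) (nat_lit 0) (nat_lit 0) (nat_lit 3) (nat_lit 0) (nat_lit 0) (nat_lit 0) (nat_lit 1) (nat_lit 0) (nat_lit 1) (nat_lit 0) (nat_lit 1) (nat_lit 0x11001100110010) (.cD (nat_lit 4) (.kc (nat_lit 20) (nat_lit 0x3001001)) (.cD (nat_lit 16) (.dfs (nat_lit 32)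 (nat_lit 4100) (nat_lit 4100) (nat_lit 0x1002001) (nat_lit 0x1002001) (nat_lit 0) (nat_lit 0) (nat_lit 3) (nat_lit 0) (nat_lit 0) (nat_lit 0) (nat_lit 1) (nat_lit 0) (nat_lit 1) (nat_lit 0) (nat_lit 1) (nat_lit 0x11001100110010) (.cD (nat_lit 4) (.kc (nat_lit 36) (nat_lit 0x5001001)) (.cD (nat_lit 16) (.kc (nat_lit 48) (nat_lit 0x3001001)) (.cD (nat_lit 20) (.kc (nat_lit 52) (nat_lit 0x7001001)) (.cD (nat_lit 32) (.dfs (nat_lit 9) (nat_lit 0x1004001003008) (nat_lit 0x1005001003008) (nat_lit 4098) (nat_lit 4098) (nat_lit 2) (nat_lit 0) (nat_lit 2) (nat_lit 1) (nat_lit 0) (nat_lit 8) (nat_lit 1) (nat_lit 0) (nat_lit 1) (nat_lit 0) (nat_lit 1) (nat_lit 0) .nil) (.cD (nat_lit 36) (.kA true (nat_lit 0x100100000400100300d001001001000003)) (.cD (nat_lit 48) (.kA true (nat_lit 0x600800401000400400100300d001001001000003)) (.cD (nat_lit 52) (.kA true (nat_lit 0x5004003008001008004002005007001001000003)) .nil)))))))) (.cD (nat_lit 20) (.dfs (nat_lit 32) (nat_lit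 4100) (nat_lit 4100) (nat_lit 0x1002001) (nat_lit 0x1002001) (nat_lit 0) (nat_lit 0) (nat_lit 3) (nat_lit 0) (nat_lit 0) (nat_lit 0) (nat_lit 1) (nat_lit 0) (nat_lit 1) (nat_lit 0) (nat_lit 1) (nat_lit 0x11001100110010) (.cD (nat_lit 4) (.kc (nat_lit 36) (nat_lit 0x5001001)) (.cD (nat_lit 16) (.kc (nat_lit 52) (nat_lit 0x7001001)) (.cD (nat_lit 20) (.kc (nat_lit 48) (nat_lit 0x3001001)) (.cD (nat_lit 32) (.kA true (nat_lit 0x5004003008001008004002005007001001000003)) (.cD (nat_lit 36) (.dfs (nat_lit 9) (nat_lit 4102) (nat_lit 4103) (nat_lit 1) (nat_lit 1) (nat_lit 2) (nat_lit 0) (nat_lit 1) (nat_lit 4112) (nat_lit 0x40020010008004002001) (nat_lit 0) (nat_lit 1) (nat_lit 0) (nat_lit 1) (nat_lit 0) (nat_lit 1) (nat_lit 0) .nil) (.cD (nat_lit 48) (.kA true (nat_lit 0x400300500800100400100300c001002)) (.cD (nat_lit 52) (.kA true (nat_lit 0x400700100800100400100300c001002)) .nil)))))))) (.cD (nat_lit 32) (.kF (nat_lit 16) (nat_lit 0x100400100c012004002002000003))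 (.cD (nat_lit 36) (.kF (nat_lit 16) (nat_lit 0x100400100c012004002002000003)) (.cD (nat_lit 48) (.dfs (nat_lit 32) (nat_lit 4100) (nat_lit 4100) (nat_lit 0x1002001) (nat_lit 0x1002001) (nat_lit 0) (nat_lit 0) (nat_lit 3) (nat_lit 0) (nat_lit 0) (nat_lit 0) (nat_lit 1) (nat_lit 0) (nat_lit 1) (nat_lit 0) (nat_lit 1) (nat_lit 0x11001100110010) (.cD (nat_lit 4) (.kc (nat_lit 36) (nat_lit 0x5001001)) (.cD (nat_lit 16) (.kA true (nat_lit 0x400200100800100400100300c001002)) (.cD (nat_lit 20) (.kA true (nat_lit 0x400600500800100400100300c001002)) (.cD (nat_lit 32) (.kA true (nat_lit 0x5004003008001008004002005007001001000003)) (.cD (nat_lit 36) (.kA true (nat_lit 0x400500600800100400100300c001002)) (.cD (nat_lit 48) (.kc (nat_lit 48) (nat_lit 0x3001001)) (.cD (nat_lit 52) (.kc (nat_lit 52) (nat_lit 0x7001001)) .nil)))))))) (.cD (nat_lit 52) (.dfs (nat_lit 32) (nat_lit 4100) (nat_lit 4100) (nat_lit 0x1002001) (nat_lit 0x1002001) (nat_lit 0) (nat_lit 0) (nat_lit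 3) (nat_lit 0) (nat_lit 0) (nat_lit 0) (nat_lit 1) (nat_lit 0) (nat_lit 1) (nat_lit 0) (nat_lit 1) (nat_lit 0x11001100110010) (.cD (nat_lit 4) (.kc (nat_lit 36) (nat_lit 0x5001001)) (.cD (nat_lit 16) (.kA true (nat_lit 0x400200500800100400100300c001002)) (.cD (nat_lit 20) (.kA true (nat_lit 0x400600100800100400100300c001002)) (.cD (nat_lit 32) (.kA true (nat_lit 0x5004003008001008004002005007001001000003)) (.cD (nat_lit 36) (.kA true (nat_lit 0x400500200800100400100300c001002)) (.cD (nat_lit 48) (.kc (nat_lit 52) (nat_lit 0x7001001)) (.cD (nat_lit 52) (.kc (nat_lit 48) (nat_lit 0x3001001)) .nil)))))))) .nil)))))))) (.cD (nat_lit 8) (.dfs (nat_lit 16) (nat_lit 4098) (nat_lit 4098) (nat_lit 4097) (nat_lit 4097) (nat_lit 0) (nat_lit 0) (nat_lit 3) (nat_lit 0) (nat_lit 0) (nat_lit 0) (nat_lit 1) (nat_lit 0) (nat_lit 1) (nat_lit 0) (nat_lit 1) (nat_lit 0x101010101010100) (.cD (nat_lit 8) (.kc (nat_lit 20) (nat_lit 0x3001001)) (.cD (nat_lit 16) (.dfs (nat_lit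 32) (nat_lit 4100) (nat_lit 4100) (nat_lit 0x1002001) (nat_lit 0x1002001) (nat_lit 0) (nat_lit 0) (nat_lit 3) (nat_lit 0) (nat_lit 0) (nat_lit 0) (nat_lit 1) (nat_lit 0) (nat_lit 1) (nat_lit 0) (nat_lit 1) (nat_lit 0x101010101010100) (.cD (nat_lit 8) (.kc (nat_lit 36) (nat_lit 0x5001001)) (.cD (nat_lit 16) (.kc (nat_lit 48) (nat_lit 0x3001001)) (.cD (nat_lit 24) (.kc (nat_lit 52) (nat_lit 0x7001001)) (.cD (nat_lit 32) (.kA false (nat_lit 0x700400200c00200a004008014005001001000003)) (.cD (nat_lit 40) (.kA false (nat_lit 0x100100000600500200d002001001000003)) (.cD (nat_lit 48) (.kA false (nat_lit 0xa00800c01000400600300200b002001001000003)) (.cD (nat_lit 56) (.kA false (nat_lit 0x100400200c00200a004008014005001001000003)) .nil)))))))) (.cD (nat_lit 24) (.dfs (nat_lit 32) (nat_lit 4100) (nat_lit 4100) (nat_lit 0x1002001) (nat_lit 0x1002001) (nat_lit 0) (nat_lit 0) (nat_lit 3) (nat_lit 0) (nat_lit 0) (nat_lit 0) (nat_lit 1) (nat_lit 0) (nat_lit 1) (nat_lit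 0) (nat_lit 1) (nat_lit 0x101010101010100) (.cD (nat_lit 8) (.kc (nat_lit 36) (nat_lit 0x5001001)) (.cD (nat_lit 16) (.kc (nat_lit 52) (nat_lit 0x7001001)) (.cD (nat_lit 24) (.kc (nat_lit 48) (nat_lit 0x3001001)) (.cD (nat_lit 32) (.kA false (nat_lit 0x300400600c00200a004008014005001001000003)) (.cD (nat_lit 40) (.kA false (nat_lit 0x100100000200500600d002001001000003)) (.cD (nat_lit 48) (.kA false (nat_lit 0x500400600c00200a004008014005001001000003)) (.cD (nat_lit 56) (.kA false (nat_lit 0xc00800a01000400200300600b002001001000003)) .nil)))))))) (.cD (nat_lit 32) (.kF (nat_lit 16) (nat_lit 0x100400100c012004002002000003)) (.cD (nat_lit 40) (.kF (nat_lit 16) (nat_lit 0x100400100c012004002002000003)) (.cD (nat_lit 48) (.kF (nat_lit 16) (nat_lit 0x100100000e014006001006001003)) (.cD (nat_lit 56) (.kF (nat_lit 16) (nat_lit 0x100100000a014006001006001003)) .nil)))))))) (.cD (nat_lit 16) (.kF (nat_lit 4) (nat_lit 0x2002000001003001002)) (.cD (nat_lit 20) (.kF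 (nat_lit 4) (nat_lit 0xe01e003001003001002)) (.cD (nat_lit 24) (.kF (nat_lit 4) (nat_lit 0x1002001002012004002002000003)) (.cD (nat_lit 32) (.dfs (nat_lit 16) (nat_lit 4098) (nat_lit 4098) (nat_lit 4097) (nat_lit 4097) (nat_lit 0) (nat_lit 0) (nat_lit 3) (nat_lit 0) (nat_lit 0) (nat_lit 0) (nat_lit 1) (nat_lit 0) (nat_lit 0x1008004) (nat_lit 32772) (nat_lit 0x1001004000008001014000018) (nat_lit 0x1000101110110) (.cD (nat_lit 4) (.kF (nat_lit 16) (nat_lit 0x1001000001006001002)) (.cD (nat_lit 8) (.kF (nat_lit 16) (nat_lit 0x100400100c012004002002000003)) (.cD (nat_lit 16) (.dfs (nat_lit 32) (nat_lit 4100) (nat_lit 4100) (nat_lit 0x1002001) (nat_lit 0x1002001) (nat_lit 0) (nat_lit 0) (nat_lit 3) (nat_lit 0) (nat_lit 0) (nat_lit 0) (nat_lit 1) (nat_lit 0) (nat_lit 0x1008004) (nat_lit 32772) (nat_lit 0x1001004000008001014000018) (nat_lit 0x1000101110110) (.cD (nat_lit 4) (.kA true (nat_lit 0x100400600c002001001000002)) (.cD (nat_lit 8) (.kA false (nat_lit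 0x300400200c002001001000002)) (.cD (nat_lit 16) (.kc (nat_lit 48) (nat_lit 0x3001001)) (.cD (nat_lit 20) (.kA true (nat_lit 0x300400600c002001001000002)) (.cD (nat_lit 24) (.kA false (nat_lit 0x100400200c002001001000002)) (.cD (nat_lit 32) (.kc (nat_lit 36) (nat_lit 0x5001001)) (.cD (nat_lit 48) (.kc (nat_lit 52) (nat_lit 0x7001001)) .nil)))))))) (.cD (nat_lit 20) (.dfs (nat_lit 32) (nat_lit 4100) (nat_lit 4100) (nat_lit 0x1002001) (nat_lit 0x1002001) (nat_lit 0) (nat_lit 0) (nat_lit 3) (nat_lit 0) (nat_lit 0) (nat_lit 0) (nat_lit 1) (nat_lit 0) (nat_lit 1) (nat_lit 0) (nat_lit 1) (nat_lit 0x11001100110010) (.cD (nat_lit 4) (.kA true (nat_lit 0x100400700c002001001000002)) (.cD (nat_lit 16) (.kA true (nat_lit 0x300400500c002001001000002)) (.cD (nat_lit 20) (.kc (nat_lit 48) (nat_lit 0x3001001)) (.cD (nat_lit 32) (.kc (nat_lit 36) (nat_lit 0x5001001)) (.cD (nat_lit 36) (.dfs (nat_lit 9) (nat_lit 4100) (nat_lit 4101) (nat_lit 1) (nat_lit 1) (nat_lit 2) (nat_lit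 0) (nat_lit 1) (nat_lit 4128) (nat_lit 0x40020010008004002001) (nat_lit 0) (nat_lit 1) (nat_lit 0) (nat_lit 1) (nat_lit 0) (nat_lit 1) (nat_lit 0) .nil) (.cD (nat_lit 48) (.kA true (nat_lit 0x700400100c002001001000002)) (.cD (nat_lit 52) (.kc (nat_lit 52) (nat_lit 0x7001001)) .nil)))))))) (.cD (nat_lit 24) (.kF (nat_lit 16) (nat_lit 0x1001000001006001002)) (.cD (nat_lit 32) (.kc (nat_lit 20) (nat_lit 0x3001001)) (.cD (nat_lit 48) (.dfs (nat_lit 32) (nat_lit 4100) (nat_lit 4100) (nat_lit 0x1002001) (nat_lit 0x1002001) (nat_lit 0) (nat_lit 0) (nat_lit 3) (nat_lit 0) (nat_lit 0) (nat_lit 0) (nat_lit 1) (nat_lit 0) (nat_lit 0x1008004) (nat_lit 32772) (nat_lit 0x1001004000008001014000018) (nat_lit 0x1000101110110) (.cD (nat_lit 4) (.kA true (nat_lit 0x100400200c002001001000002)) (.cD (nat_lit 8) (.kA false (nat_lit 0x700400600c002001001000002)) (.cD (nat_lit 16) (.kc (nat_lit 52) (nat_lit 0x7001001)) (.cD (nat_lit 20) (.kA true (nat_lit 0x700400200c002001001000002))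 (.cD (nat_lit 24) (.kA false (nat_lit 0x100400600c002001001000002)) (.cD (nat_lit 32) (.kc (nat_lit 36) (nat_lit 0x5001001)) (.cD (nat_lit 48) (.kc (nat_lit 48) (nat_lit 0x3001001)) .nil)))))))) .nil)))))))) (.cD (nat_lit 48) (.kF (nat_lit 4) (nat_lit 0x1002001002012004002002000003)) .nil))))))))))
theorem c540 : (chk [] [] p540).n x277 s540 = true := by decide +kernel
noncomputable def p541 : Pf := (.anc (nat_lit 68) (nat_lit 0x10002002002000002) (nat_lit 0x1009020010004) (.czp (nat_lit 64) (nat_lit 0) (nat_lit 0x1040020010008004) z6 (.dfs (nat_lit 4) (nat_lit 4097) (nat_lit 4097) (nat_lit 1) (nat_lit 1) (nat_lit 0) (nat_lit 0) (nat_lit 3) (nat_lit 0) (nat_lit 0) (nat_lit 0) (nat_lit 1) (nat_lit 0) (nat_lit 0x1008004) (nat_lit 32772) (nat_lit 0x1001004000008001014000018) (nat_lit 0x1000101110110) (.cD (nat_lit 4) (.dfs (nat_lit 16) (nat_lit 4098) (nat_lit 4098) (nat_lit 4097) (nat_lit 4097) (nat_lit 0) (nat_lit 0) (nat_lit 3) (nat_lit 0) (nat_lit 0)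 (nat_lit 0) (nat_lit 1) (nat_lit 0) (nat_lit 1) (nat_lit 0) (nat_lit 1) (nat_lit 0x11001100110010) (.cD (nat_lit 4) (.kc (nat_lit 20) (nat_lit 0x3001001)) (.cD (nat_lit 16) (.dfs (nat_lit 32) (nat_lit 4100) (nat_lit 4100) (nat_lit 0x1002001) (nat_lit 0x1002001) (nat_lit 0) (nat_lit 0) (nat_lit 3) (nat_lit 0) (nat_lit 0) (nat_lit 0) (nat_lit 1) (nat_lit 0) (nat_lit 1) (nat_lit 0) (nat_lit 1) (nat_lit 0x11001100110010) (.cD (nat_lit 4) (.kc (nat_lit 36) (nat_lit 0x5001001)) (.cD (nat_lit 16) (.kc (nat_lit 48) (nat_lit 0x3001001)) (.cD (nat_lit 20) (.kc (nat_lit 52) (nat_lit 0x7001001)) (.cD (nat_lit 32) (.dfs (nat_lit 9) (nat_lit 0x1004001003008) (nat_lit 0x1005001003008) (nat_lit 4098) (nat_lit 4098) (nat_lit 2) (nat_lit 0) (nat_lit 2) (nat_lit 1) (nat_lit 0) (nat_lit 8) (nat_lit 1) (nat_lit 0) (nat_lit 1) (nat_lit 0) (nat_lit 1) (nat_lit 0) .nil) (.cD (nat_lit 36) (.kA true (nat_lit 0x100100000400100300d001001001000003)) (.cD (nat_lit 48) (.kA true (nat_lit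 0x600800401000400400100300d001001001000003)) (.cD (nat_lit 52) (.kA true (nat_lit 0x5004003008001008004002005007001001000003)) .nil)))))))) (.cD (nat_lit 20) (.dfs (nat_lit 32) (nat_lit 4100) (nat_lit 4100) (nat_lit 0x1002001) (nat_lit 0x1002001) (nat_lit 0) (nat_lit 0) (nat_lit 3) (nat_lit 0) (nat_lit 0) (nat_lit 0) (nat_lit 1) (nat_lit 0) (nat_lit 1) (nat_lit 0) (nat_lit 1) (nat_lit 0x11001100110010) (.cD (nat_lit 4) (.kc (nat_lit 36) (nat_lit 0x5001001)) (.cD (nat_lit 16) (.kc (nat_lit 52) (nat_lit 0x7001001)) (.cD (nat_lit 20) (.kc (nat_lit 48) (nat_lit 0x3001001)) (.cD (nat_lit 32) (.kA true (nat_lit 0x5004003008001008004002005007001001000003)) (.cD (nat_lit 36) (.dfs (nat_lit 9) (nat_lit 4102) (nat_lit 4103) (nat_lit 1) (nat_lit 1) (nat_lit 2) (nat_lit 0) (nat_lit 1) (nat_lit 4112) (nat_lit 0x40020010008004002001) (nat_lit 0) (nat_lit 1) (nat_lit 0) (nat_lit 1) (nat_lit 0) (nat_lit 1) (nat_lit 0) .nil) (.cD (nat_lit 48) (.kA true (nat_lit 0x400300500800100400100300c001002))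 (.cD (nat_lit 52) (.kA true (nat_lit 0x400700100800100400100300c001002)) .nil)))))))) (.cD (nat_lit 32) (.kF (nat_lit 16) (nat_lit 0x100400100c012004002002000003)) (.cD (nat_lit 36) (.kF (nat_lit 16) (nat_lit 0x100400100c012004002002000003)) (.cD (nat_lit 48) (.dfs (nat_lit 32) (nat_lit 4100) (nat_lit 4100) (nat_lit 0x1002001) (nat_lit 0x1002001) (nat_lit 0) (nat_lit 0) (nat_lit 3) (nat_lit 0) (nat_lit 0) (nat_lit 0) (nat_lit 1) (nat_lit 0) (nat_lit 1) (nat_lit 0) (nat_lit 1) (nat_lit 0x11001100110010) (.cD (nat_lit 4) (.kc (nat_lit 36) (nat_lit 0x5001001)) (.cD (nat_lit 16) (.kA true (nat_lit 0x400200100800100400100300c001002)) (.cD (nat_lit 20) (.kA true (nat_lit 0x400600500800100400100300c001002)) (.cD (nat_lit 32) (.kA true (nat_lit 0x5004003008001008004002005007001001000003)) (.cD (nat_lit 36) (.kA true (nat_lit 0x400500600800100400100300c001002)) (.cD (nat_lit 48) (.kc (nat_lit 48) (nat_lit 0x3001001)) (.cD (nat_lit 52) (.kc (nat_lit 52) (nat_lit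 0x7001001)) .nil)))))))) (.cD (nat_lit 52) (.dfs (nat_lit 32) (nat_lit 4100) (nat_lit 4100) (nat_lit 0x1002001) (nat_lit 0x1002001) (nat_lit 0) (nat_lit 0) (nat_lit 3) (nat_lit 0) (nat_lit 0) (nat_lit 0) (nat_lit 1) (nat_lit 0) (nat_lit 1) (nat_lit 0) (nat_lit 1) (nat_lit 0x11001100110010) (.cD (nat_lit 4) (.kc (nat_lit 36) (nat_lit 0x5001001)) (.cD (nat_lit 16) (.kA true (nat_lit 0x400200500800100400100300c001002)) (.cD (nat_lit 20) (.kA true (nat_lit 0x400600100800100400100300c001002)) (.cD (nat_lit 32) (.kA true (nat_lit 0x5004003008001008004002005007001001000003)) (.cD (nat_lit 36) (.kA true (nat_lit 0x400500200800100400100300c001002)) (.cD (nat_lit 48) (.kc (nat_lit 52) (nat_lit 0x7001001)) (.cD (nat_lit 52) (.kc (nat_lit 48) (nat_lit 0x3001001)) .nil)))))))) .nil)))))))) (.cD (nat_lit 8) (.dfs (nat_lit 16) (nat_lit 4098) (nat_lit 4098) (nat_lit 4097) (nat_lit 4097) (nat_lit 0) (nat_lit 0) (nat_lit 3) (nat_lit 0) (nat_lit 0) (nat_lit 0) (nat_lit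 1) (nat_lit 0) (nat_lit 1) (nat_lit 0) (nat_lit 1) (nat_lit 0x101010101010100) (.cD (nat_lit 8) (.kc (nat_lit 20) (nat_lit 0x3001001)) (.cD (nat_lit 16) (.dfs (nat_lit 32) (nat_lit 4100) (nat_lit 4100) (nat_lit 0x1002001) (nat_lit 0x1002001) (nat_lit 0) (nat_lit 0) (nat_lit 3) (nat_lit 0) (nat_lit 0) (nat_lit 0) (nat_lit 1) (nat_lit 0) (nat_lit 1) (nat_lit 0) (nat_lit 1) (nat_lit 0x101010101010100) (.cD (nat_lit 8) (.kc (nat_lit 36) (nat_lit 0x5001001)) (.cD (nat_lit 16) (.kc (nat_lit 48) (nat_lit 0x3001001)) (.cD (nat_lit 24) (.kc (nat_lit 52) (nat_lit 0x7001001)) (.cD (nat_lit 32) (.kA false (nat_lit 0x700400200c00200a004008014005001001000003)) (.cD (nat_lit 40) (.kA false (nat_lit 0x100100000600500200d002001001000003)) (.cD (nat_lit 48) (.kA false (nat_lit 0xa00800c01000400600300200b002001001000003)) (.cD (nat_lit 56) (.kA false (nat_lit 0x100400200c00200a004008014005001001000003)) .nil)))))))) (.cD (nat_lit 24) (.dfs (nat_lit 32) (nat_lit 4100) (nat_lit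 4100) (nat_lit 0x1002001) (nat_lit 0x1002001) (nat_lit 0) (nat_lit 0) (nat_lit 3) (nat_lit 0) (nat_lit 0) (nat_lit 0) (nat_lit 1) (nat_lit 0) (nat_lit 1) (nat_lit 0) (nat_lit 1) (nat_lit 0x101010101010100) (.cD (nat_lit 8) (.kc (nat_lit 36) (nat_lit 0x5001001)) (.cD (nat_lit 16) (.kc (nat_lit 52) (nat_lit 0x7001001)) (.cD (nat_lit 24) (.kc (nat_lit 48) (nat_lit 0x3001001)) (.cD (nat_lit 32) (.kA false (nat_lit 0x300400600c00200a004008014005001001000003)) (.cD (nat_lit 40) (.kA false (nat_lit 0x100100000200500600d002001001000003)) (.cD (nat_lit 48) (.kA false (nat_lit 0x500400600c00200a004008014005001001000003)) (.cD (nat_lit 56) (.kA false (nat_lit 0xc00800a01000400200300600b002001001000003)) .nil)))))))) (.cD (nat_lit 32) (.kF (nat_lit 16) (nat_lit 0x100400100c012004002002000003)) (.cD (nat_lit 40) (.kF (nat_lit 16) (nat_lit 0x100400100c012004002002000003)) (.cD (nat_lit 48) (.kF (nat_lit 16) (nat_lit 0x100100000e014006001006001003)) (.cD (nat_lit 56)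 (.kF (nat_lit 16) (nat_lit 0x100100000a014006001006001003)) .nil)))))))) (.cD (nat_lit 16) (.kF (nat_lit 4) (nat_lit 0x2002000001003001002)) (.cD (nat_lit 20) (.kF (nat_lit 4) (nat_lit 0xe01e003001003001002)) (.cD (nat_lit 24) (.kF (nat_lit 4) (nat_lit 0x1002001002012004002002000003)) (.cD (nat_lit 32) (.dfs (nat_lit 16) (nat_lit 4098) (nat_lit 4098) (nat_lit 4097) (nat_lit 4097) (nat_lit 0) (nat_lit 0) (nat_lit 3) (nat_lit 0) (nat_lit 0) (nat_lit 0) (nat_lit 1) (nat_lit 0) (nat_lit 0x1008004) (nat_lit 32772) (nat_lit 0x1001004000008001014000018) (nat_lit 0x1000101110110) (.cD (nat_lit 4) (.kF (nat_lit 16) (nat_lit 0x1001000001006001002)) (.cD (nat_lit 8) (.kF (nat_lit 16) (nat_lit 0x100400100c012004002002000003)) (.cD (nat_lit 16) (.dfs (nat_lit 32) (nat_lit 4100) (nat_lit 4100) (nat_lit 0x1002001) (nat_lit 0x1002001) (nat_lit 0) (nat_lit 0) (nat_lit 3) (nat_lit 0) (nat_lit 0) (nat_lit 0) (nat_lit 1) (nat_lit 0) (nat_lit 0x1008004) (nat_lit 32772) (nat_lit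 0x1001004000008001014000018) (nat_lit 0x1000101110110) (.cD (nat_lit 4) (.kA true (nat_lit 0x100400600c002001001000002)) (.cD (nat_lit 8) (.kA false (nat_lit 0x300400200c002001001000002)) (.cD (nat_lit 16) (.kc (nat_lit 48) (nat_lit 0x3001001)) (.cD (nat_lit 20) (.kA true (nat_lit 0x300400600c002001001000002)) (.cD (nat_lit 24) (.kA false (nat_lit 0x100400200c002001001000002)) (.cD (nat_lit 32) (.kc (nat_lit 36) (nat_lit 0x5001001)) (.cD (nat_lit 48) (.kc (nat_lit 52) (nat_lit 0x7001001)) .nil)))))))) (.cD (nat_lit 20) (.dfs (nat_lit 32) (nat_lit 4100) (nat_lit 4100) (nat_lit 0x1002001) (nat_lit 0x1002001) (nat_lit 0) (nat_lit 0) (nat_lit 3) (nat_lit 0) (nat_lit 0) (nat_lit 0) (nat_lit 1) (nat_lit 0) (nat_lit 1) (nat_lit 0) (nat_lit 1) (nat_lit 0x11001100110010) (.cD (nat_lit 4) (.kA true (nat_lit 0x100400700c002001001000002)) (.cD (nat_lit 16) (.kA true (nat_lit 0x300400500c002001001000002)) (.cD (nat_lit 20) (.kc (nat_lit 48) (nat_lit 0x3001001)) (.cD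 (nat_lit 32) (.kc (nat_lit 36) (nat_lit 0x5001001)) (.cD (nat_lit 36) (.dfs (nat_lit 9) (nat_lit 4100) (nat_lit 4101) (nat_lit 1) (nat_lit 1) (nat_lit 2) (nat_lit 0) (nat_lit 1) (nat_lit 4128) (nat_lit 0x40020010008004002001) (nat_lit 0) (nat_lit 1) (nat_lit 0) (nat_lit 1) (nat_lit 0) (nat_lit 1) (nat_lit 0) .nil) (.cD (nat_lit 48) (.kA true (nat_lit 0x700400100c002001001000002)) (.cD (nat_lit 52) (.kc (nat_lit 52) (nat_lit 0x7001001)) .nil)))))))) (.cD (nat_lit 24) (.kF (nat_lit 16) (nat_lit 0x1001000001006001002)) (.cD (nat_lit 32) (.kc (nat_lit 20) (nat_lit 0x3001001)) (.cD (nat_lit 48) (.dfs (nat_lit 32) (nat_lit 4100) (nat_lit 4100) (nat_lit 0x1002001) (nat_lit 0x1002001) (nat_lit 0) (nat_lit 0) (nat_lit 3) (nat_lit 0) (nat_lit 0) (nat_lit 0) (nat_lit 1) (nat_lit 0) (nat_lit 0x1008004) (nat_lit 32772) (nat_lit 0x1001004000008001014000018) (nat_lit 0x1000101110110) (.cD (nat_lit 4) (.kA true (nat_lit 0x100400200c002001001000002)) (.cD (nat_lit 8)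 (.kA false (nat_lit 0x700400600c002001001000002)) (.cD (nat_lit 16) (.kc (nat_lit 52) (nat_lit 0x7001001)) (.cD (nat_lit 20) (.kA true (nat_lit 0x700400200c002001001000002)) (.cD (nat_lit 24) (.kA false (nat_lit 0x100400600c002001001000002)) (.cD (nat_lit 32) (.kc (nat_lit 36) (nat_lit 0x5001001)) (.cD (nat_lit 48) (.kc (nat_lit 48) (nat_lit 0x3001001)) .nil)))))))) .nil)))))))) (.cD (nat_lit 48) (.kF (nat_lit 4) (nat_lit 0x1002001002012004002002000003)) .nil))))))))))
theorem c541 : (chk [] [] p541).n x278 s541 = true := by decide +kernel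
noncomputable def p542 : Pf := (.anc (nat_lit 68) (nat_lit 0x10002002002000002) (nat_lit 0x1009020010004) (.czp (nat_lit 64) (nat_lit 0) (nat_lit 0x1040020010008004) z6 (.dfs (nat_lit 4) (nat_lit 4097) (nat_lit 4097) (nat_lit 1) (nat_lit 1) (nat_lit 0) (nat_lit 0) (nat_lit 3) (nat_lit 0) (nat_lit 0) (nat_lit 0) (nat_lit 1) (nat_lit 0) (nat_lit 0x1008004) (nat_lit 32772) (nat_lit 0x1001004000008001014000018) (nat_lit 0x1000101110110) (.cD (nat_lit 4) (.dfs (nat_lit 16) (nat_lit 4098) (nat_lit 4098) (nat_lit 4097) (nat_lit 4097) (nat_lit 0) (nat_lit 0) (nat_lit 3) (nat_lit 0) (nat_lit 0) (nat_lit 0) (nat_lit 1) (nat_lit 0) (nat_lit 1) (nat_lit 0) (nat_lit 1) (nat_lit 0x11001100110010) (.cD (nat_lit 4) (.kc (nat_lit 20) (nat_lit 0x3001001)) (.cD (nat_lit 16) (.dfs (nat_lit 32) (nat_lit 4100) (nat_lit 4100) (nat_lit 0x1002001) (nat_lit 0x1002001) (nat_lit 0) (nat_lit 0) (nat_lit 3) (nat_lit 0) (nat_lit 0) (nat_lit 0) (nat_lit 1) (nat_lit 0) (nat_lit 1) (nat_lit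 0) (nat_lit 1) (nat_lit 0x11001100110010) (.cD (nat_lit 4) (.kc (nat_lit 36) (nat_lit 0x5001001)) (.cD (nat_lit 16) (.kc (nat_lit 48) (nat_lit 0x3001001)) (.cD (nat_lit 20) (.kc (nat_lit 52) (nat_lit 0x7001001)) (.cD (nat_lit 32) (.dfs (nat_lit 9) (nat_lit 0x1004001003008) (nat_lit 0x1005001003008) (nat_lit 4098) (nat_lit 4098) (nat_lit 0) (nat_lit 0) (nat_lit 2) (nat_lit 1) (nat_lit 0) (nat_lit 8) (nat_lit 1) (nat_lit 0) (nat_lit 4100) (nat_lit 4) (nat_lit 0x1000008000018) (nat_lit 0x1000100) (.cD (nat_lit 8) (.kA false (nat_lit 0x5002004010001002002000005002004016002013003000004)) (.cD (nat_lit 24) (.kA false (nat_lit 0x1002004010001002002000001002004016002013003000004)) .nil))) (.cD (nat_lit 36) (.kA true (nat_lit 0x1100100000400100300d001011001000003)) (.cD (nat_lit 48) (.kA true (nat_lit 0x600800401000400400100300d001011001000003)) (.cD (nat_lit 52) (.kA true (nat_lit 0x5004003008001008004002005007011001000003)) .nil)))))))) (.cD (nat_lit 20) (.dfs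 (nat_lit 32) (nat_lit 4100) (nat_lit 4100) (nat_lit 0x1002001) (nat_lit 0x1002001) (nat_lit 0) (nat_lit 0) (nat_lit 3) (nat_lit 0) (nat_lit 0) (nat_lit 0) (nat_lit 1) (nat_lit 0) (nat_lit 1) (nat_lit 0) (nat_lit 1) (nat_lit 0x11001100110010) (.cD (nat_lit 4) (.kc (nat_lit 36) (nat_lit 0x5001001)) (.cD (nat_lit 16) (.kc (nat_lit 52) (nat_lit 0x7001001)) (.cD (nat_lit 20) (.kc (nat_lit 48) (nat_lit 0x3001001)) (.cD (nat_lit 32) (.kA true (nat_lit 0x5004003008001008004002005007011001000003)) (.cD (nat_lit 36) (.dfs (nat_lit 9) (nat_lit 4102) (nat_lit 4103) (nat_lit 1) (nat_lit 1) (nat_lit 0) (nat_lit 0) (nat_lit 1) (nat_lit 4112) (nat_lit 0x40020010008004002011) (nat_lit 0) (nat_lit 1) (nat_lit 0) (nat_lit 1) (nat_lit 0) (nat_lit 1) (nat_lit 0) .nil) (.cD (nat_lit 48) (.kA true (nat_lit 0x400300500800100400100300c001002)) (.cD (nat_lit 52) (.kA true (nat_lit 0x400700100800100400100300c001002)) .nil)))))))) (.cD (nat_lit 32) (.kF (nat_lit 16) (nat_lit 0x100400100c012004002002000003))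 (.cD (nat_lit 36) (.kF (nat_lit 16) (nat_lit 0x100400100c012004002002000003)) (.cD (nat_lit 48) (.dfs (nat_lit 32) (nat_lit 4100) (nat_lit 4100) (nat_lit 0x1002001) (nat_lit 0x1002001) (nat_lit 0) (nat_lit 0) (nat_lit 3) (nat_lit 0) (nat_lit 0) (nat_lit 0) (nat_lit 1) (nat_lit 0) (nat_lit 1) (nat_lit 0) (nat_lit 1) (nat_lit 0x11001100110010) (.cD (nat_lit 4) (.kc (nat_lit 36) (nat_lit 0x5001001)) (.cD (nat_lit 16) (.kA true (nat_lit 0x400200100800100400100300c001002)) (.cD (nat_lit 20) (.kA true (nat_lit 0x400600500800100400100300c001002)) (.cD (nat_lit 32) (.kA true (nat_lit 0x5004003008001008004002005007011001000003)) (.cD (nat_lit 36) (.kA true (nat_lit 0x400500600800100400100300c001002)) (.cD (nat_lit 48) (.kc (nat_lit 48) (nat_lit 0x3001001)) (.cD (nat_lit 52) (.kc (nat_lit 52) (nat_lit 0x7001001)) .nil)))))))) (.cD (nat_lit 52) (.dfs (nat_lit 32) (nat_lit 4100) (nat_lit 4100) (nat_lit 0x1002001) (nat_lit 0x1002001) (nat_lit 0) (nat_lit 0) (nat_lit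 3) (nat_lit 0) (nat_lit 0) (nat_lit 0) (nat_lit 1) (nat_lit 0) (nat_lit 1) (nat_lit 0) (nat_lit 1) (nat_lit 0x11001100110010) (.cD (nat_lit 4) (.kc (nat_lit 36) (nat_lit 0x5001001)) (.cD (nat_lit 16) (.kA true (nat_lit 0x400200500800100400100300c001002)) (.cD (nat_lit 20) (.kA true (nat_lit 0x400600100800100400100300c001002)) (.cD (nat_lit 32) (.kA true (nat_lit 0x5004003008001008004002005007011001000003)) (.cD (nat_lit 36) (.kA true (nat_lit 0x400500200800100400100300c001002)) (.cD (nat_lit 48) (.kc (nat_lit 52) (nat_lit 0x7001001)) (.cD (nat_lit 52) (.kc (nat_lit 48) (nat_lit 0x3001001)) .nil)))))))) .nil)))))))) (.cD (nat_lit 8) (.dfs (nat_lit 16) (nat_lit 4098) (nat_lit 4098) (nat_lit 4097) (nat_lit 4097) (nat_lit 0) (nat_lit 0) (nat_lit 3) (nat_lit 0) (nat_lit 0) (nat_lit 0) (nat_lit 1) (nat_lit 0) (nat_lit 1) (nat_lit 0) (nat_lit 1) (nat_lit 0x101010101010100) (.cD (nat_lit 8) (.kc (nat_lit 20) (nat_lit 0x3001001)) (.cD (nat_lit 16) (.dfs (nat_lit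 32) (nat_lit 4100) (nat_lit 4100) (nat_lit 0x1002001) (nat_lit 0x1002001) (nat_lit 0) (nat_lit 0) (nat_lit 3) (nat_lit 0) (nat_lit 0) (nat_lit 0) (nat_lit 1) (nat_lit 0) (nat_lit 1) (nat_lit 0) (nat_lit 1) (nat_lit 0x101010101010100) (.cD (nat_lit 8) (.kc (nat_lit 36) (nat_lit 0x5001001)) (.cD (nat_lit 16) (.kc (nat_lit 48) (nat_lit 0x3001001)) (.cD (nat_lit 24) (.kc (nat_lit 52) (nat_lit 0x7001001)) (.cD (nat_lit 32) (.kA false (nat_lit 0x700400200c00200a004008014005011001000003)) (.cD (nat_lit 40) (.kA false (nat_lit 0x1100100000600500200d002011001000003)) (.cD (nat_lit 48) (.kA false (nat_lit 0xa00800c01000400600300200b002011001000003)) (.cD (nat_lit 56) (.kA false (nat_lit 0x100400200c00200a004008014005011001000003)) .nil)))))))) (.cD (nat_lit 24) (.dfs (nat_lit 32) (nat_lit 4100) (nat_lit 4100) (nat_lit 0x1002001) (nat_lit 0x1002001) (nat_lit 0) (nat_lit 0) (nat_lit 3) (nat_lit 0) (nat_lit 0) (nat_lit 0) (nat_lit 1) (nat_lit 0) (nat_lit 1) (nat_lit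 0) (nat_lit 1) (nat_lit 0x101010101010100) (.cD (nat_lit 8) (.kc (nat_lit 36) (nat_lit 0x5001001)) (.cD (nat_lit 16) (.kc (nat_lit 52) (nat_lit 0x7001001)) (.cD (nat_lit 24) (.kc (nat_lit 48) (nat_lit 0x3001001)) (.cD (nat_lit 32) (.kA false (nat_lit 0x300400600c00200a004008014005011001000003)) (.cD (nat_lit 40) (.kA false (nat_lit 0x1100100000200500600d002011001000003)) (.cD (nat_lit 48) (.kA false (nat_lit 0x500400600c00200a004008014005011001000003)) (.cD (nat_lit 56) (.kA false (nat_lit 0xc00800a01000400200300600b002011001000003)) .nil)))))))) (.cD (nat_lit 32) (.kF (nat_lit 16) (nat_lit 0x100400100c012004002002000003)) (.cD (nat_lit 40) (.kF (nat_lit 16) (nat_lit 0x100400100c012004002002000003)) (.cD (nat_lit 48) (.kF (nat_lit 16) (nat_lit 0x1100100000e014006001006001003)) (.cD (nat_lit 56) (.kF (nat_lit 16) (nat_lit 0x1100100000a014006001006001003)) .nil)))))))) (.cD (nat_lit 16) (.kF (nat_lit 4) (nat_lit 0x2002000001003001002)) (.cD (nat_lit 20)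 (.kF (nat_lit 4) (nat_lit 0xe01e003001003001002)) (.cD (nat_lit 24) (.kF (nat_lit 4) (nat_lit 0x1002001002012004002002000003)) (.cD (nat_lit 32) (.dfs (nat_lit 16) (nat_lit 4098) (nat_lit 4098) (nat_lit 4097) (nat_lit 4097) (nat_lit 0) (nat_lit 0) (nat_lit 3) (nat_lit 0) (nat_lit 0) (nat_lit 0) (nat_lit 1) (nat_lit 0) (nat_lit 0x1008004) (nat_lit 32772) (nat_lit 0x1001004000008001014000018) (nat_lit 0x1000101110110) (.cD (nat_lit 4) (.kF (nat_lit 16) (nat_lit 0x11001000001006001002)) (.cD (nat_lit 8) (.kF (nat_lit 16) (nat_lit 0x100400100c012004002002000003)) (.cD (nat_lit 16) (.dfs (nat_lit 32) (nat_lit 4100) (nat_lit 4100) (nat_lit 0x1002001) (nat_lit 0x1002001) (nat_lit 0) (nat_lit 0) (nat_lit 3) (nat_lit 0) (nat_lit 0) (nat_lit 0) (nat_lit 1) (nat_lit 0) (nat_lit 0x1008004) (nat_lit 32772) (nat_lit 0x1001004000008001014000018) (nat_lit 0x1000101110110) (.cD (nat_lit 4) (.kA true (nat_lit 0x100400600c002011001000002)) (.cD (nat_lit 8) (.kA false (nat_lit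 0x300400200c002011001000002)) (.cD (nat_lit 16) (.kc (nat_lit 48) (nat_lit 0x3001001)) (.cD (nat_lit 20) (.kA true (nat_lit 0x300400600c002011001000002)) (.cD (nat_lit 24) (.kA false (nat_lit 0x100400200c002011001000002)) (.cD (nat_lit 32) (.kc (nat_lit 36) (nat_lit 0x5001001)) (.cD (nat_lit 48) (.kc (nat_lit 52) (nat_lit 0x7001001)) .nil)))))))) (.cD (nat_lit 20) (.dfs (nat_lit 32) (nat_lit 4100) (nat_lit 4100) (nat_lit 0x1002001) (nat_lit 0x1002001) (nat_lit 0) (nat_lit 0) (nat_lit 3) (nat_lit 0) (nat_lit 0) (nat_lit 0) (nat_lit 1) (nat_lit 0) (nat_lit 1) (nat_lit 0) (nat_lit 1) (nat_lit 0x11001100110010) (.cD (nat_lit 4) (.kA true (nat_lit 0x100400700c002011001000002)) (.cD (nat_lit 16) (.kA true (nat_lit 0x300400500c002011001000002)) (.cD (nat_lit 20) (.kc (nat_lit 48) (nat_lit 0x3001001)) (.cD (nat_lit 32) (.kc (nat_lit 36) (nat_lit 0x5001001)) (.cD (nat_lit 36) (.dfs (nat_lit 9) (nat_lit 4100) (nat_lit 4101) (nat_lit 1) (nat_lit 1) (nat_lit 0) (nat_lit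 0) (nat_lit 1) (nat_lit 4128) (nat_lit 0x40020010008004002011) (nat_lit 0) (nat_lit 1) (nat_lit 0) (nat_lit 1) (nat_lit 0) (nat_lit 1) (nat_lit 0) .nil) (.cD (nat_lit 48) (.kA true (nat_lit 0x700400100c002011001000002)) (.cD (nat_lit 52) (.kc (nat_lit 52) (nat_lit 0x7001001)) .nil)))))))) (.cD (nat_lit 24) (.kF (nat_lit 16) (nat_lit 0x11001000001006001002)) (.cD (nat_lit 32) (.kc (nat_lit 20) (nat_lit 0x3001001)) (.cD (nat_lit 48) (.dfs (nat_lit 32) (nat_lit 4100) (nat_lit 4100) (nat_lit 0x1002001) (nat_lit 0x1002001) (nat_lit 0) (nat_lit 0) (nat_lit 3) (nat_lit 0) (nat_lit 0) (nat_lit 0) (nat_lit 1) (nat_lit 0) (nat_lit 0x1008004) (nat_lit 32772) (nat_lit 0x1001004000008001014000018) (nat_lit 0x1000101110110) (.cD (nat_lit 4) (.kA true (nat_lit 0x100400200c002011001000002)) (.cD (nat_lit 8) (.kA false (nat_lit 0x700400600c002011001000002)) (.cD (nat_lit 16) (.kc (nat_lit 52) (nat_lit 0x7001001)) (.cD (nat_lit 20) (.kA true (nat_lit 0x700400200c002011001000002))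 (.cD (nat_lit 24) (.kA false (nat_lit 0x100400600c002011001000002)) (.cD (nat_lit 32) (.kc (nat_lit 36) (nat_lit 0x5001001)) (.cD (nat_lit 48) (.kc (nat_lit 48) (nat_lit 0x3001001)) .nil)))))))) .nil)))))))) (.cD (nat_lit 48) (.kF (nat_lit 4) (nat_lit 0x1002001002012004002002000003)) .nil))))))))))
theorem c542 : (chk [] [] p542).n x279 s542 = true := by decide +kernel
noncomputable def p543 : Pf := (.anc (nat_lit 72) (nat_lit 0x11001000014004002) (nat_lit 0x1007020010008) (.czp (nat_lit 64) (nat_lit 0) (nat_lit 0x1040020010008004) z6 (.dfs (nat_lit 8) (nat_lit 4097) (nat_lit 4097) (nat_lit 1) (nat_lit 1) (nat_lit 0) (nat_lit 0) (nat_lit 3) (nat_lit 0) (nat_lit 0) (nat_lit 0) (nat_lit 1) (nat_lit 0) (nat_lit 0x1008004) (nat_lit 32772) (nat_lit 0x1001004000008001014000018) (nat_lit 0x1000101110110) (.cD (nat_lit 4) (.dfs (nat_lit 16) (nat_lit 4098) (nat_lit 4098) (nat_lit 4097) (nat_lit 4097) (nat_lit 0) (nat_lit 0) (nat_lit 3) (nat_lit 0) (nat_lit 0)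 (nat_lit 0) (nat_lit 1) (nat_lit 0) (nat_lit 1) (nat_lit 0) (nat_lit 1) (nat_lit 0x11001100110010) (.cD (nat_lit 4) (.kc (nat_lit 24) (nat_lit 0x3001001)) (.cD (nat_lit 16) (.dfs (nat_lit 32) (nat_lit 4100) (nat_lit 4100) (nat_lit 0x1002001) (nat_lit 0x1002001) (nat_lit 0) (nat_lit 0) (nat_lit 3) (nat_lit 0) (nat_lit 0) (nat_lit 0) (nat_lit 1) (nat_lit 0) (nat_lit 1) (nat_lit 0) (nat_lit 1) (nat_lit 0x11001100110010) (.cD (nat_lit 4) (.kc (nat_lit 40) (nat_lit 0x5001001)) (.cD (nat_lit 16) (.kc (nat_lit 48) (nat_lit 0x3001001)) (.cD (nat_lit 20) (.kc (nat_lit 56) (nat_lit 0x7001001)) (.cD (nat_lit 32) (.kA false (nat_lit 0x700400200800100a004008014005011001000003)) (.cD (nat_lit 36) (.kA false (nat_lit 0x1100100000600100200d001011001000003)) (.cD (nat_lit 48) (.kA false (nat_lit 0xa00800c01000400600100200d001011001000003)) (.cD (nat_lit 52) (.kA false (nat_lit 0x700400200800100a004008014005011001000003)) .nil)))))))) (.cD (nat_lit 20) (.dfs (nat_lit 32)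 (nat_lit 4100) (nat_lit 4100) (nat_lit 0x1002001) (nat_lit 0x1002001) (nat_lit 0) (nat_lit 0) (nat_lit 3) (nat_lit 0) (nat_lit 0) (nat_lit 0) (nat_lit 1) (nat_lit 0) (nat_lit 1) (nat_lit 0) (nat_lit 1) (nat_lit 0x11001100110010) (.cD (nat_lit 4) (.kc (nat_lit 40) (nat_lit 0x5001001)) (.cD (nat_lit 16) (.kc (nat_lit 56) (nat_lit 0x7001001)) (.cD (nat_lit 20) (.kc (nat_lit 48) (nat_lit 0x3001001)) (.cD (nat_lit 32) (.kA false (nat_lit 0x700400200800100a004008014005011001000003)) (.cD (nat_lit 36) (.kA false (nat_lit 0x1100100000600100200d001011001000003)) (.cD (nat_lit 48) (.kA false (nat_lit 0xc00800a01000400600100200d001011001000003)) (.cD (nat_lit 52) (.kA false (nat_lit 0x700400200800100a004008014005011001000003)) .nil)))))))) (.cD (nat_lit 32) (.kF (nat_lit 16) (nat_lit 0x4010004002002000001006001003)) (.cD (nat_lit 36) (.kF (nat_lit 16) (nat_lit 0x11001000001007001002002000003)) (.cD (nat_lit 48) (.dfs (nat_lit 32) (nat_lit 4100) (nat_lit 4100) (nat_lit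 0x1002001) (nat_lit 0x1002001) (nat_lit 0) (nat_lit 0) (nat_lit 3) (nat_lit 0) (nat_lit 0) (nat_lit 0) (nat_lit 1) (nat_lit 0) (nat_lit 1) (nat_lit 0) (nat_lit 1) (nat_lit 0x11001100110010) (.cD (nat_lit 4) (.kc (nat_lit 40) (nat_lit 0x5001001)) (.cD (nat_lit 16) (.kA false (nat_lit 0xa00c00801e00300600100200d001011001000003)) (.cD (nat_lit 20) (.kA false (nat_lit 0x200200000600100200d001011001000003)) (.cD (nat_lit 32) (.kA false (nat_lit 0x700400200800100a004008014005011001000003)) (.cD (nat_lit 36) (.kA false (nat_lit 0x1100100000600100200d001011001000003)) (.cD (nat_lit 48) (.kc (nat_lit 48) (nat_lit 0x3001001)) (.cD (nat_lit 52) (.kc (nat_lit 56) (nat_lit 0x7001001)) .nil)))))))) (.cD (nat_lit 52) (.dfs (nat_lit 32) (nat_lit 4100) (nat_lit 4100) (nat_lit 0x1002001) (nat_lit 0x1002001) (nat_lit 0) (nat_lit 0) (nat_lit 3) (nat_lit 0) (nat_lit 0) (nat_lit 0) (nat_lit 1) (nat_lit 0) (nat_lit 1) (nat_lit 0) (nat_lit 1) (nat_lit 0x11001100110010) (.cD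 (nat_lit 4) (.kc (nat_lit 40) (nat_lit 0x5001001)) (.cD (nat_lit 16) (.kA false (nat_lit 0x800c00a01e00300600100200d001011001000003)) (.cD (nat_lit 20) (.kA false (nat_lit 0x200200000600100200d001011001000003)) (.cD (nat_lit 32) (.kA false (nat_lit 0x700400200800100a004008014005011001000003)) (.cD (nat_lit 36) (.kA false (nat_lit 0x1100100000600100200d001011001000003)) (.cD (nat_lit 48) (.kc (nat_lit 56) (nat_lit 0x7001001)) (.cD (nat_lit 52) (.kc (nat_lit 48) (nat_lit 0x3001001)) .nil)))))))) .nil)))))))) (.cD (nat_lit 8) (.dfs (nat_lit 16) (nat_lit 4098) (nat_lit 4098) (nat_lit 4097) (nat_lit 4097) (nat_lit 0) (nat_lit 0) (nat_lit 3) (nat_lit 0) (nat_lit 0) (nat_lit 0) (nat_lit 1) (nat_lit 0) (nat_lit 1) (nat_lit 0) (nat_lit 1) (nat_lit 0x101010101010100) (.cD (nat_lit 8) (.kc (nat_lit 24) (nat_lit 0x3001001)) (.cD (nat_lit 16) (.dfs (nat_lit 32) (nat_lit 4100) (nat_lit 4100) (nat_lit 0x1002001) (nat_lit 0x1002001) (nat_lit 0) (nat_lit 0) (nat_lit 3)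 (nat_lit 0) (nat_lit 0) (nat_lit 0) (nat_lit 1) (nat_lit 0) (nat_lit 1) (nat_lit 0) (nat_lit 1) (nat_lit 0x101010101010100) (.cD (nat_lit 8) (.kc (nat_lit 40) (nat_lit 0x5001001)) (.cD (nat_lit 16) (.kc (nat_lit 48) (nat_lit 0x3001001)) (.cD (nat_lit 24) (.kc (nat_lit 56) (nat_lit 0x7001001)) (.cD (nat_lit 32) (.kA false (nat_lit 0x700400200800100a004008014005011001000003)) (.cD (nat_lit 40) (.kA false (nat_lit 0x1100100000600100200d001011001000003)) (.cD (nat_lit 48) (.dfs (nat_lit 7) (nat_lit 0x1004003002008) (nat_lit 0x1007003002008) (nat_lit 4097) (nat_lit 4097) (nat_lit 3) (nat_lit 0) (nat_lit 2) (nat_lit 0) (nat_lit 0) (nat_lit 4) (nat_lit 1) (nat_lit 0) (nat_lit 4104) (nat_lit 8) (nat_lit 0x100000c00001c) (nat_lit 0x10001000) (.cD (nat_lit 12) (.kA true (nat_lit 0xd006002010001011001000009006002016002011001000004)) (.cD (nat_lit 28) (.kA true (nat_lit 0x900600201000101100100000d006002016002011001000004)) .nil))) (.cD (nat_lit 56) (.dfs (nat_lit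 7) (nat_lit 4101) (nat_lit 4102) (nat_lit 1) (nat_lit 1) (nat_lit 3) (nat_lit 0) (nat_lit 1) (nat_lit 4144) (nat_lit 0x40020010008004002011) (nat_lit 0) (nat_lit 1) (nat_lit 0) (nat_lit 1) (nat_lit 0) (nat_lit 1) (nat_lit 0) .nil) .nil)))))))) (.cD (nat_lit 24) (.dfs (nat_lit 32) (nat_lit 4100) (nat_lit 4100) (nat_lit 0x1002001) (nat_lit 0x1002001) (nat_lit 0) (nat_lit 0) (nat_lit 3) (nat_lit 0) (nat_lit 0) (nat_lit 0) (nat_lit 1) (nat_lit 0) (nat_lit 1) (nat_lit 0) (nat_lit 1) (nat_lit 0x101010101010100) (.cD (nat_lit 8) (.kc (nat_lit 40) (nat_lit 0x5001001)) (.cD (nat_lit 16) (.kc (nat_lit 56) (nat_lit 0x7001001)) (.cD (nat_lit 24) (.kc (nat_lit 48) (nat_lit 0x3001001)) (.cD (nat_lit 32) (.kA false (nat_lit 0x700400200800100a004008014005011001000003)) (.cD (nat_lit 40) (.kA false (nat_lit 0x1100100000600100200d001011001000003)) (.cD (nat_lit 48) (.kA false (nat_lit 0x700400200800100a004008014005011001000003)) (.cD (nat_lit 56) (.kA false (nat_lit 0x700400200800100a004008014005011001000003))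 .nil)))))))) (.cD (nat_lit 32) (.kF (nat_lit 8) (nat_lit 0x3006002004004000002007001002002000004)) (.cD (nat_lit 40) (.kF (nat_lit 8) (nat_lit 0x11001000002007001002002000003)) (.cD (nat_lit 48) (.kF (nat_lit 16) (nat_lit 0x1100100000e014006001006001003)) (.cD (nat_lit 56) (.kF (nat_lit 16) (nat_lit 0x1100100000a014006001006001003)) .nil)))))))) (.cD (nat_lit 16) (.kF (nat_lit 8) (nat_lit 0x2002000001003001002)) (.cD (nat_lit 20) (.kF (nat_lit 8) (nat_lit 0xe01e003001003001002)) (.cD (nat_lit 24) (.kF (nat_lit 8) (nat_lit 0x11001000002016005011001000001003001004)) (.cD (nat_lit 32) (.dfs (nat_lit 16) (nat_lit 4098) (nat_lit 4098) (nat_lit 4097) (nat_lit 4097) (nat_lit 0) (nat_lit 0) (nat_lit 3) (nat_lit 0) (nat_lit 0) (nat_lit 0) (nat_lit 1) (nat_lit 0) (nat_lit 0x1008004) (nat_lit 32772) (nat_lit 0x1001004000008001014000018) (nat_lit 0x1000101110110) (.cD (nat_lit 4) (.kF (nat_lit 16) (nat_lit 0x11001000001006001002)) (.cD (nat_lit 8) (.kF (nat_lit 8)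 (nat_lit 0x11001000004016005002007001002002000004)) (.cD (nat_lit 16) (.dfs (nat_lit 32) (nat_lit 4100) (nat_lit 4100) (nat_lit 0x1002001) (nat_lit 0x1002001) (nat_lit 0) (nat_lit 0) (nat_lit 3) (nat_lit 0) (nat_lit 0) (nat_lit 0) (nat_lit 1) (nat_lit 0) (nat_lit 0x1008004) (nat_lit 32772) (nat_lit 0x1001004000008001014000018) (nat_lit 0x1000101110110) (.cD (nat_lit 4) (.kA false (nat_lit 0x1100100000400100200c001002)) (.cD (nat_lit 8) (.kA false (nat_lit 0x300400200c002011001000002)) (.cD (nat_lit 16) (.kc (nat_lit 48) (nat_lit 0x3001001)) (.cD (nat_lit 20) (.kA false (nat_lit 0x1100100000400100200c001002)) (.cD (nat_lit 24) (.dfs (nat_lit 7) (nat_lit 4100) (nat_lit 4103) (nat_lit 1) (nat_lit 1) (nat_lit 3) (nat_lit 0) (nat_lit 1) (nat_lit 4128) (nat_lit 0x40020010008004002011) (nat_lit 0) (nat_lit 1) (nat_lit 0) (nat_lit 1) (nat_lit 0) (nat_lit 1) (nat_lit 0) .nil) (.cD (nat_lit 32) (.kc (nat_lit 40) (nat_lit 0x5001001)) (.cD (nat_lit 48) (.kc (nat_lit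 56) (nat_lit 0x7001001)) .nil)))))))) (.cD (nat_lit 20) (.dfs (nat_lit 32) (nat_lit 4100) (nat_lit 4100) (nat_lit 0x1002001) (nat_lit 0x1002001) (nat_lit 0) (nat_lit 0) (nat_lit 3) (nat_lit 0) (nat_lit 0) (nat_lit 0) (nat_lit 1) (nat_lit 0) (nat_lit 1) (nat_lit 0) (nat_lit 1) (nat_lit 0x11001100110010) (.cD (nat_lit 4) (.kA false (nat_lit 0x1100100000400100200c001002)) (.cD (nat_lit 16) (.kA false (nat_lit 0x1100100000400100200c001002)) (.cD (nat_lit 20) (.kc (nat_lit 48) (nat_lit 0x3001001)) (.cD (nat_lit 32) (.kc (nat_lit 40) (nat_lit 0x5001001)) (.cD (nat_lit 36) (.kA false (nat_lit 0x1100100000400100200c001002)) (.cD (nat_lit 48) (.kA false (nat_lit 0x1100100000400100200c001002)) (.cD (nat_lit 52) (.kc (nat_lit 56) (nat_lit 0x7001001)) .nil)))))))) (.cD (nat_lit 24) (.kF (nat_lit 16) (nat_lit 0x11001000001006001002)) (.cD (nat_lit 32) (.kc (nat_lit 24) (nat_lit 0x3001001)) (.cD (nat_lit 48) (.dfs (nat_lit 32) (nat_lit 4100) (nat_lit 4100) (nat_lit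 0x1002001) (nat_lit 0x1002001) (nat_lit 0) (nat_lit 0) (nat_lit 3) (nat_lit 0) (nat_lit 0) (nat_lit 0) (nat_lit 1) (nat_lit 0) (nat_lit 0x1008004) (nat_lit 32772) (nat_lit 0x1001004000008001014000018) (nat_lit 0x1000101110110) (.cD (nat_lit 4) (.kA false (nat_lit 0x1100100000400100200c001002)) (.cD (nat_lit 8) (.kA false (nat_lit 0x700400600c002011001000002)) (.cD (nat_lit 16) (.kc (nat_lit 56) (nat_lit 0x7001001)) (.cD (nat_lit 20) (.kA false (nat_lit 0x1100100000400100200c001002)) (.cD (nat_lit 24) (.kA false (nat_lit 0x100400600c002011001000002)) (.cD (nat_lit 32) (.kc (nat_lit 40) (nat_lit 0x5001001)) (.cD (nat_lit 48) (.kc (nat_lit 48) (nat_lit 0x3001001)) .nil)))))))) .nil)))))))) (.cD (nat_lit 48) (.kF (nat_lit 8) (nat_lit 0x13003000001003001002)) .nil))))))))))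
theorem c543 : (chk [] [] p543).n x280 s543 = true := by decide +kernel
noncomputable def p544 : Pf := (.anc (nat_lit 68) (nat_lit 0x10002002002000002) (nat_lit 0x1009020010004) (.czp (nat_lit 64) (nat_lit 0) (nat_lit 0x1040020010008004) z6 (.dfs (nat_lit 4) (nat_lit 4097) (nat_lit 4097) (nat_lit 1) (nat_lit 1) (nat_lit 0) (nat_lit 0) (nat_lit 3) (nat_lit 0) (nat_lit 0) (nat_lit 0) (nat_lit 1) (nat_lit 0) (nat_lit 0x1008004) (nat_lit 32772) (nat_lit 0x1001004000008001014000018) (nat_lit 0x1000101110110) (.cD (nat_lit 4) (.dfs (nat_lit 16) (nat_lit 4098) (nat_lit 4098) (nat_lit 4097) (nat_lit 4097) (nat_lit 0) (nat_lit 0) (nat_lit 3) (nat_lit 0) (nat_lit 0) (nat_lit 0) (nat_lit 1) (nat_lit 0) (nat_lit 1) (nat_lit 0) (nat_lit 1) (nat_lit 0x11001100110010) (.cD (nat_lit 4) (.kc (nat_lit 20) (nat_lit 0x3001001)) (.cD (nat_lit 16) (.dfs (nat_lit 32) (nat_lit 4100) (nat_lit 4100) (nat_lit 0x1002001) (nat_lit 0x1002001) (nat_lit 0) (nat_lit 0) (nat_lit 3) (nat_lit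 0) (nat_lit 0) (nat_lit 0) (nat_lit 1) (nat_lit 0) (nat_lit 1) (nat_lit 0) (nat_lit 1) (nat_lit 0x11001100110010) (.cD (nat_lit 4) (.kc (nat_lit 36) (nat_lit 0x5001001)) (.cD (nat_lit 16) (.kc (nat_lit 48) (nat_lit 0x3001001)) (.cD (nat_lit 20) (.kc (nat_lit 52) (nat_lit 0x7001001)) (.cD (nat_lit 32) (.dfs (nat_lit 9) (nat_lit 0x1004001003008) (nat_lit 0x1005001003008) (nat_lit 4098) (nat_lit 4098) (nat_lit 3) (nat_lit 0) (nat_lit 2) (nat_lit 1) (nat_lit 0) (nat_lit 8) (nat_lit 1) (nat_lit 0) (nat_lit 1) (nat_lit 0) (nat_lit 1) (nat_lit 0) .nil) (.cD (nat_lit 36) (.kA true (nat_lit 0x2100100000400100300d001021001000003)) (.cD (nat_lit 48) (.kA true (nat_lit 0x600800401000400400100300d001021001000003)) (.cD (nat_lit 52) (.kA true (nat_lit 0x5004003008001008004002005007021001000003)) .nil)))))))) (.cD (nat_lit 20) (.dfs (nat_lit 32) (nat_lit 4100) (nat_lit 4100) (nat_lit 0x1002001) (nat_lit 0x1002001) (nat_lit 0) (nat_lit 0) (nat_lit 3) (nat_lit 0) (nat_lit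 0) (nat_lit 0) (nat_lit 1) (nat_lit 0) (nat_lit 1) (nat_lit 0) (nat_lit 1) (nat_lit 0x11001100110010) (.cD (nat_lit 4) (.kc (nat_lit 36) (nat_lit 0x5001001)) (.cD (nat_lit 16) (.kc (nat_lit 52) (nat_lit 0x7001001)) (.cD (nat_lit 20) (.kc (nat_lit 48) (nat_lit 0x3001001)) (.cD (nat_lit 32) (.kA true (nat_lit 0x5004003008001008004002005007021001000003)) (.cD (nat_lit 36) (.dfs (nat_lit 9) (nat_lit 4102) (nat_lit 4103) (nat_lit 1) (nat_lit 1) (nat_lit 3) (nat_lit 0) (nat_lit 1) (nat_lit 4112) (nat_lit 0x40020010008004002021) (nat_lit 0) (nat_lit 1) (nat_lit 0) (nat_lit 1) (nat_lit 0) (nat_lit 1) (nat_lit 0) .nil) (.cD (nat_lit 48) (.kA true (nat_lit 0x400300500800100400100300c001002)) (.cD (nat_lit 52) (.kA true (nat_lit 0x400700100800100400100300c001002)) .nil)))))))) (.cD (nat_lit 32) (.kF (nat_lit 16) (nat_lit 0x100400100c012004002002000003)) (.cD (nat_lit 36) (.kF (nat_lit 16) (nat_lit 0x100400100c012004002002000003)) (.cD (nat_lit 48) (.dfs (nat_lit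 32) (nat_lit 4100) (nat_lit 4100) (nat_lit 0x1002001) (nat_lit 0x1002001) (nat_lit 0) (nat_lit 0) (nat_lit 3) (nat_lit 0) (nat_lit 0) (nat_lit 0) (nat_lit 1) (nat_lit 0) (nat_lit 1) (nat_lit 0) (nat_lit 1) (nat_lit 0x11001100110010) (.cD (nat_lit 4) (.kc (nat_lit 36) (nat_lit 0x5001001)) (.cD (nat_lit 16) (.kA true (nat_lit 0x400200100800100400100300c001002)) (.cD (nat_lit 20) (.kA true (nat_lit 0x400600500800100400100300c001002)) (.cD (nat_lit 32) (.kA true (nat_lit 0x5004003008001008004002005007021001000003)) (.cD (nat_lit 36) (.kA true (nat_lit 0x400500600800100400100300c001002)) (.cD (nat_lit 48) (.kc (nat_lit 48) (nat_lit 0x3001001)) (.cD (nat_lit 52) (.kc (nat_lit 52) (nat_lit 0x7001001)) .nil)))))))) (.cD (nat_lit 52) (.dfs (nat_lit 32) (nat_lit 4100) (nat_lit 4100) (nat_lit 0x1002001) (nat_lit 0x1002001) (nat_lit 0) (nat_lit 0) (nat_lit 3) (nat_lit 0) (nat_lit 0) (nat_lit 0) (nat_lit 1) (nat_lit 0) (nat_lit 1) (nat_lit 0) (nat_lit 1) (nat_lit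 0x11001100110010) (.cD (nat_lit 4) (.kc (nat_lit 36) (nat_lit 0x5001001)) (.cD (nat_lit 16) (.kA true (nat_lit 0x400200500800100400100300c001002)) (.cD (nat_lit 20) (.kA true (nat_lit 0x400600100800100400100300c001002)) (.cD (nat_lit 32) (.kA true (nat_lit 0x5004003008001008004002005007021001000003)) (.cD (nat_lit 36) (.kA true (nat_lit 0x400500200800100400100300c001002)) (.cD (nat_lit 48) (.kc (nat_lit 52) (nat_lit 0x7001001)) (.cD (nat_lit 52) (.kc (nat_lit 48) (nat_lit 0x3001001)) .nil)))))))) .nil)))))))) (.cD (nat_lit 8) (.dfs (nat_lit 16) (nat_lit 4098) (nat_lit 4098) (nat_lit 4097) (nat_lit 4097) (nat_lit 0) (nat_lit 0) (nat_lit 3) (nat_lit 0) (nat_lit 0) (nat_lit 0) (nat_lit 1) (nat_lit 0) (nat_lit 1) (nat_lit 0) (nat_lit 1) (nat_lit 0x101010101010100) (.cD (nat_lit 8) (.kc (nat_lit 20) (nat_lit 0x3001001)) (.cD (nat_lit 16) (.dfs (nat_lit 32) (nat_lit 4100) (nat_lit 4100) (nat_lit 0x1002001) (nat_lit 0x1002001) (nat_lit 0) (nat_lit 0) (nat_lit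 3) (nat_lit 0) (nat_lit 0) (nat_lit 0) (nat_lit 1) (nat_lit 0) (nat_lit 1) (nat_lit 0) (nat_lit 1) (nat_lit 0x101010101010100) (.cD (nat_lit 8) (.kc (nat_lit 36) (nat_lit 0x5001001)) (.cD (nat_lit 16) (.kc (nat_lit 48) (nat_lit 0x3001001)) (.cD (nat_lit 24) (.kc (nat_lit 52) (nat_lit 0x7001001)) (.cD (nat_lit 32) (.kA false (nat_lit 0x700400200c00200a004008014005021001000003)) (.cD (nat_lit 40) (.kA false (nat_lit 0x2100100000600500200d002021001000003)) (.cD (nat_lit 48) (.kA false (nat_lit 0xa00800c01000400600300200b002021001000003)) (.cD (nat_lit 56) (.kA false (nat_lit 0x100400200c00200a004008014005021001000003)) .nil)))))))) (.cD (nat_lit 24) (.dfs (nat_lit 32) (nat_lit 4100) (nat_lit 4100) (nat_lit 0x1002001) (nat_lit 0x1002001) (nat_lit 0) (nat_lit 0) (nat_lit 3) (nat_lit 0) (nat_lit 0) (nat_lit 0) (nat_lit 1) (nat_lit 0) (nat_lit 1) (nat_lit 0) (nat_lit 1) (nat_lit 0x101010101010100) (.cD (nat_lit 8) (.kc (nat_lit 36) (nat_lit 0x5001001)) (.cD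 (nat_lit 16) (.kc (nat_lit 52) (nat_lit 0x7001001)) (.cD (nat_lit 24) (.kc (nat_lit 48) (nat_lit 0x3001001)) (.cD (nat_lit 32) (.kA false (nat_lit 0x300400600c00200a004008014005021001000003)) (.cD (nat_lit 40) (.kA false (nat_lit 0x2100100000200500600d002021001000003)) (.cD (nat_lit 48) (.kA false (nat_lit 0x500400600c00200a004008014005021001000003)) (.cD (nat_lit 56) (.kA false (nat_lit 0xc00800a01000400200300600b002021001000003)) .nil)))))))) (.cD (nat_lit 32) (.kF (nat_lit 16) (nat_lit 0x100400100c012004002002000003)) (.cD (nat_lit 40) (.kF (nat_lit 16) (nat_lit 0x100400100c012004002002000003)) (.cD (nat_lit 48) (.kF (nat_lit 16) (nat_lit 0x2100100000e014006001006001003)) (.cD (nat_lit 56) (.kF (nat_lit 16) (nat_lit 0x2100100000a014006001006001003)) .nil)))))))) (.cD (nat_lit 16) (.kF (nat_lit 4) (nat_lit 0x2002000001003001002)) (.cD (nat_lit 20) (.kF (nat_lit 4) (nat_lit 0xe01e003001003001002)) (.cD (nat_lit 24) (.kF (nat_lit 4) (nat_lit 0x1002001002012004002002000003))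 (.cD (nat_lit 32) (.dfs (nat_lit 16) (nat_lit 4098) (nat_lit 4098) (nat_lit 4097) (nat_lit 4097) (nat_lit 0) (nat_lit 0) (nat_lit 3) (nat_lit 0) (nat_lit 0) (nat_lit 0) (nat_lit 1) (nat_lit 0) (nat_lit 0x1008004) (nat_lit 32772) (nat_lit 0x1001004000008001014000018) (nat_lit 0x1000101110110) (.cD (nat_lit 4) (.kF (nat_lit 16) (nat_lit 0x21001000001006001002)) (.cD (nat_lit 8) (.kF (nat_lit 16) (nat_lit 0x100400100c012004002002000003)) (.cD (nat_lit 16) (.dfs (nat_lit 32) (nat_lit 4100) (nat_lit 4100) (nat_lit 0x1002001) (nat_lit 0x1002001) (nat_lit 0) (nat_lit 0) (nat_lit 3) (nat_lit 0) (nat_lit 0) (nat_lit 0) (nat_lit 1) (nat_lit 0) (nat_lit 0x1008004) (nat_lit 32772) (nat_lit 0x1001004000008001014000018) (nat_lit 0x1000101110110) (.cD (nat_lit 4) (.kA true (nat_lit 0x100400600c002021001000002)) (.cD (nat_lit 8) (.kA false (nat_lit 0x300400200c002021001000002)) (.cD (nat_lit 16) (.kc (nat_lit 48) (nat_lit 0x3001001)) (.cD (nat_lit 20) (.kA true (nat_lit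 0x300400600c002021001000002)) (.cD (nat_lit 24) (.kA false (nat_lit 0x100400200c002021001000002)) (.cD (nat_lit 32) (.kc (nat_lit 36) (nat_lit 0x5001001)) (.cD (nat_lit 48) (.kc (nat_lit 52) (nat_lit 0x7001001)) .nil)))))))) (.cD (nat_lit 20) (.dfs (nat_lit 32) (nat_lit 4100) (nat_lit 4100) (nat_lit 0x1002001) (nat_lit 0x1002001) (nat_lit 0) (nat_lit 0) (nat_lit 3) (nat_lit 0) (nat_lit 0) (nat_lit 0) (nat_lit 1) (nat_lit 0) (nat_lit 1) (nat_lit 0) (nat_lit 1) (nat_lit 0x11001100110010) (.cD (nat_lit 4) (.kA true (nat_lit 0x100400700c002021001000002)) (.cD (nat_lit 16) (.kA true (nat_lit 0x300400500c002021001000002)) (.cD (nat_lit 20) (.kc (nat_lit 48) (nat_lit 0x3001001)) (.cD (nat_lit 32) (.kc (nat_lit 36) (nat_lit 0x5001001)) (.cD (nat_lit 36) (.dfs (nat_lit 9) (nat_lit 4100) (nat_lit 4101) (nat_lit 1) (nat_lit 1) (nat_lit 3) (nat_lit 0) (nat_lit 1) (nat_lit 4128) (nat_lit 0x40020010008004002021) (nat_lit 0) (nat_lit 1) (nat_lit 0) (nat_lit 1) (nat_lit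 0) (nat_lit 1) (nat_lit 0) .nil) (.cD (nat_lit 48) (.kA true (nat_lit 0x700400100c002021001000002)) (.cD (nat_lit 52) (.kc (nat_lit 52) (nat_lit 0x7001001)) .nil)))))))) (.cD (nat_lit 24) (.kF (nat_lit 16) (nat_lit 0x21001000001006001002)) (.cD (nat_lit 32) (.kc (nat_lit 20) (nat_lit 0x3001001)) (.cD (nat_lit 48) (.dfs (nat_lit 32) (nat_lit 4100) (nat_lit 4100) (nat_lit 0x1002001) (nat_lit 0x1002001) (nat_lit 0) (nat_lit 0) (nat_lit 3) (nat_lit 0) (nat_lit 0) (nat_lit 0) (nat_lit 1) (nat_lit 0) (nat_lit 0x1008004) (nat_lit 32772) (nat_lit 0x1001004000008001014000018) (nat_lit 0x1000101110110) (.cD (nat_lit 4) (.kA true (nat_lit 0x100400200c002021001000002)) (.cD (nat_lit 8) (.kA false (nat_lit 0x700400600c002021001000002)) (.cD (nat_lit 16) (.kc (nat_lit 52) (nat_lit 0x7001001)) (.cD (nat_lit 20) (.kA true (nat_lit 0x700400200c002021001000002)) (.cD (nat_lit 24) (.kA false (nat_lit 0x100400600c002021001000002)) (.cD (nat_lit 32) (.kc (nat_lit 36) (nat_lit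 0x5001001)) (.cD (nat_lit 48) (.kc (nat_lit 48) (nat_lit 0x3001001)) .nil)))))))) .nil)))))))) (.cD (nat_lit 48) (.kF (nat_lit 4) (nat_lit 0x1002001002012004002002000003)) .nil))))))))))
theorem c544 : (chk [] [] p544).n x281 s544 = true := by decide +kernel
noncomputable def p545 : Pf := (.anc (nat_lit 68) (nat_lit 0x10002002002000002) (nat_lit 0x1009020010004) (.czp (nat_lit 64) (nat_lit 0) (nat_lit 0x1040020010008004) z6 (.dfs (nat_lit 4) (nat_lit 4097) (nat_lit 4097) (nat_lit 1) (nat_lit 1) (nat_lit 0) (nat_lit 0) (nat_lit 3) (nat_lit 0) (nat_lit 0) (nat_lit 0) (nat_lit 1) (nat_lit 0) (nat_lit 0x1008004) (nat_lit 32772) (nat_lit 0x1001004000008001014000018) (nat_lit 0x1000101110110) (.cD (nat_lit 4) (.dfs (nat_lit 16) (nat_lit 4098) (nat_lit 4098) (nat_lit 4097) (nat_lit 4097) (nat_lit 0) (nat_lit 0) (nat_lit 3) (nat_lit 0) (nat_lit 0) (nat_lit 0) (nat_lit 1) (nat_lit 0) (nat_lit 1) (nat_lit 0) (nat_lit 1) (nat_lit 0x11001100110010) (.cD (nat_lit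 4) (.kc (nat_lit 20) (nat_lit 0x3001001)) (.cD (nat_lit 16) (.dfs (nat_lit 32) (nat_lit 4100) (nat_lit 4100) (nat_lit 0x1002001) (nat_lit 0x1002001) (nat_lit 0) (nat_lit 0) (nat_lit 3) (nat_lit 0) (nat_lit 0) (nat_lit 0) (nat_lit 1) (nat_lit 0) (nat_lit 1) (nat_lit 0) (nat_lit 1) (nat_lit 0x11001100110010) (.cD (nat_lit 4) (.kc (nat_lit 36) (nat_lit 0x5001001)) (.cD (nat_lit 16) (.kc (nat_lit 48) (nat_lit 0x3001001)) (.cD (nat_lit 20) (.kc (nat_lit 52) (nat_lit 0x7001001)) (.cD (nat_lit 32) (.dfs (nat_lit 9) (nat_lit 0x1004001003008) (nat_lit 0x1005001003008) (nat_lit 4098) (nat_lit 4098) (nat_lit 3) (nat_lit 0) (nat_lit 2) (nat_lit 1) (nat_lit 0) (nat_lit 8) (nat_lit 1) (nat_lit 0) (nat_lit 1) (nat_lit 0) (nat_lit 1) (nat_lit 0) .nil) (.cD (nat_lit 36) (.kA true (nat_lit 0x2100100000400100300d001021001000003)) (.cD (nat_lit 48) (.kA true (nat_lit 0x600800401000400400100300d001021001000003)) (.cD (nat_lit 52) (.kA true (nat_lit 0x5004003008001008004002005007021001000003))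 .nil)))))))) (.cD (nat_lit 20) (.dfs (nat_lit 32) (nat_lit 4100) (nat_lit 4100) (nat_lit 0x1002001) (nat_lit 0x1002001) (nat_lit 0) (nat_lit 0) (nat_lit 3) (nat_lit 0) (nat_lit 0) (nat_lit 0) (nat_lit 1) (nat_lit 0) (nat_lit 1) (nat_lit 0) (nat_lit 1) (nat_lit 0x11001100110010) (.cD (nat_lit 4) (.kc (nat_lit 36) (nat_lit 0x5001001)) (.cD (nat_lit 16) (.kc (nat_lit 52) (nat_lit 0x7001001)) (.cD (nat_lit 20) (.kc (nat_lit 48) (nat_lit 0x3001001)) (.cD (nat_lit 32) (.kA true (nat_lit 0x5004003008001008004002005007021001000003)) (.cD (nat_lit 36) (.dfs (nat_lit 9) (nat_lit 4102) (nat_lit 4103) (nat_lit 1) (nat_lit 1) (nat_lit 3) (nat_lit 0) (nat_lit 1) (nat_lit 4112) (nat_lit 0x40020010008004002021) (nat_lit 0) (nat_lit 1) (nat_lit 0) (nat_lit 1) (nat_lit 0) (nat_lit 1) (nat_lit 0) .nil) (.cD (nat_lit 48) (.kA true (nat_lit 0x400300500800100400100300c001002)) (.cD (nat_lit 52) (.kA true (nat_lit 0x400700100800100400100300c001002)) .nil)))))))) (.cD (nat_lit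 32) (.kF (nat_lit 16) (nat_lit 0x100400100c012004002002000003)) (.cD (nat_lit 36) (.kF (nat_lit 16) (nat_lit 0x100400100c012004002002000003)) (.cD (nat_lit 48) (.dfs (nat_lit 32) (nat_lit 4100) (nat_lit 4100) (nat_lit 0x1002001) (nat_lit 0x1002001) (nat_lit 0) (nat_lit 0) (nat_lit 3) (nat_lit 0) (nat_lit 0) (nat_lit 0) (nat_lit 1) (nat_lit 0) (nat_lit 1) (nat_lit 0) (nat_lit 1) (nat_lit 0x11001100110010) (.cD (nat_lit 4) (.kc (nat_lit 36) (nat_lit 0x5001001)) (.cD (nat_lit 16) (.kA true (nat_lit 0x400200100800100400100300c001002)) (.cD (nat_lit 20) (.kA true (nat_lit 0x400600500800100400100300c001002)) (.cD (nat_lit 32) (.kA true (nat_lit 0x5004003008001008004002005007021001000003)) (.cD (nat_lit 36) (.kA true (nat_lit 0x400500600800100400100300c001002)) (.cD (nat_lit 48) (.kc (nat_lit 48) (nat_lit 0x3001001)) (.cD (nat_lit 52) (.kc (nat_lit 52) (nat_lit 0x7001001)) .nil)))))))) (.cD (nat_lit 52) (.dfs (nat_lit 32) (nat_lit 4100) (nat_lit 4100) (nat_lit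 0x1002001) (nat_lit 0x1002001) (nat_lit 0) (nat_lit 0) (nat_lit 3) (nat_lit 0) (nat_lit 0) (nat_lit 0) (nat_lit 1) (nat_lit 0) (nat_lit 1) (nat_lit 0) (nat_lit 1) (nat_lit 0x11001100110010) (.cD (nat_lit 4) (.kc (nat_lit 36) (nat_lit 0x5001001)) (.cD (nat_lit 16) (.kA true (nat_lit 0x400200500800100400100300c001002)) (.cD (nat_lit 20) (.kA true (nat_lit 0x400600100800100400100300c001002)) (.cD (nat_lit 32) (.kA true (nat_lit 0x5004003008001008004002005007021001000003)) (.cD (nat_lit 36) (.kA true (nat_lit 0x400500200800100400100300c001002)) (.cD (nat_lit 48) (.kc (nat_lit 52) (nat_lit 0x7001001)) (.cD (nat_lit 52) (.kc (nat_lit 48) (nat_lit 0x3001001)) .nil)))))))) .nil)))))))) (.cD (nat_lit 8) (.dfs (nat_lit 16) (nat_lit 4098) (nat_lit 4098) (nat_lit 4097) (nat_lit 4097) (nat_lit 0) (nat_lit 0) (nat_lit 3) (nat_lit 0) (nat_lit 0) (nat_lit 0) (nat_lit 1) (nat_lit 0) (nat_lit 1) (nat_lit 0) (nat_lit 1) (nat_lit 0x101010101010100) (.cD (nat_lit 8) (.kc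 (nat_lit 20) (nat_lit 0x3001001)) (.cD (nat_lit 16) (.dfs (nat_lit 32) (nat_lit 4100) (nat_lit 4100) (nat_lit 0x1002001) (nat_lit 0x1002001) (nat_lit 0) (nat_lit 0) (nat_lit 3) (nat_lit 0) (nat_lit 0) (nat_lit 0) (nat_lit 1) (nat_lit 0) (nat_lit 1) (nat_lit 0) (nat_lit 1) (nat_lit 0x101010101010100) (.cD (nat_lit 8) (.kc (nat_lit 36) (nat_lit 0x5001001)) (.cD (nat_lit 16) (.kc (nat_lit 48) (nat_lit 0x3001001)) (.cD (nat_lit 24) (.kc (nat_lit 52) (nat_lit 0x7001001)) (.cD (nat_lit 32) (.kA false (nat_lit 0x700400200c00200a004008014005021001000003)) (.cD (nat_lit 40) (.kA false (nat_lit 0x2100100000600500200d002021001000003)) (.cD (nat_lit 48) (.kA false (nat_lit 0xa00800c01000400600300200b002021001000003)) (.cD (nat_lit 56) (.kA false (nat_lit 0x100400200c00200a004008014005021001000003)) .nil)))))))) (.cD (nat_lit 24) (.dfs (nat_lit 32) (nat_lit 4100) (nat_lit 4100) (nat_lit 0x1002001) (nat_lit 0x1002001) (nat_lit 0) (nat_lit 0) (nat_lit 3) (nat_lit 0)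 (nat_lit 0) (nat_lit 0) (nat_lit 1) (nat_lit 0) (nat_lit 1) (nat_lit 0) (nat_lit 1) (nat_lit 0x101010101010100) (.cD (nat_lit 8) (.kc (nat_lit 36) (nat_lit 0x5001001)) (.cD (nat_lit 16) (.kc (nat_lit 52) (nat_lit 0x7001001)) (.cD (nat_lit 24) (.kc (nat_lit 48) (nat_lit 0x3001001)) (.cD (nat_lit 32) (.kA false (nat_lit 0x300400600c00200a004008014005021001000003)) (.cD (nat_lit 40) (.kA false (nat_lit 0x2100100000200500600d002021001000003)) (.cD (nat_lit 48) (.kA false (nat_lit 0x500400600c00200a004008014005021001000003)) (.cD (nat_lit 56) (.kA false (nat_lit 0xc00800a01000400200300600b002021001000003)) .nil)))))))) (.cD (nat_lit 32) (.kF (nat_lit 16) (nat_lit 0x100400100c012004002002000003)) (.cD (nat_lit 40) (.kF (nat_lit 16) (nat_lit 0x100400100c012004002002000003)) (.cD (nat_lit 48) (.kF (nat_lit 16) (nat_lit 0x2100100000e014006001006001003)) (.cD (nat_lit 56) (.kF (nat_lit 16) (nat_lit 0x2100100000a014006001006001003)) .nil)))))))) (.cD (nat_lit 16)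 (.kF (nat_lit 4) (nat_lit 0x2002000001003001002)) (.cD (nat_lit 20) (.kF (nat_lit 4) (nat_lit 0xe01e003001003001002)) (.cD (nat_lit 24) (.kF (nat_lit 4) (nat_lit 0x1002001002012004002002000003)) (.cD (nat_lit 32) (.dfs (nat_lit 16) (nat_lit 4098) (nat_lit 4098) (nat_lit 4097) (nat_lit 4097) (nat_lit 0) (nat_lit 0) (nat_lit 3) (nat_lit 0) (nat_lit 0) (nat_lit 0) (nat_lit 1) (nat_lit 0) (nat_lit 0x1008004) (nat_lit 32772) (nat_lit 0x1001004000008001014000018) (nat_lit 0x1000101110110) (.cD (nat_lit 4) (.kF (nat_lit 16) (nat_lit 0x21001000001006001002)) (.cD (nat_lit 8) (.kF (nat_lit 16) (nat_lit 0x100400100c012004002002000003)) (.cD (nat_lit 16) (.dfs (nat_lit 32) (nat_lit 4100) (nat_lit 4100) (nat_lit 0x1002001) (nat_lit 0x1002001) (nat_lit 0) (nat_lit 0) (nat_lit 3) (nat_lit 0) (nat_lit 0) (nat_lit 0) (nat_lit 1) (nat_lit 0) (nat_lit 0x1008004) (nat_lit 32772) (nat_lit 0x1001004000008001014000018) (nat_lit 0x1000101110110) (.cD (nat_lit 4) (.kA true (nat_lit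 0x100400600c002021001000002)) (.cD (nat_lit 8) (.kA false (nat_lit 0x300400200c002021001000002)) (.cD (nat_lit 16) (.kc (nat_lit 48) (nat_lit 0x3001001)) (.cD (nat_lit 20) (.kA true (nat_lit 0x300400600c002021001000002)) (.cD (nat_lit 24) (.kA false (nat_lit 0x100400200c002021001000002)) (.cD (nat_lit 32) (.kc (nat_lit 36) (nat_lit 0x5001001)) (.cD (nat_lit 48) (.kc (nat_lit 52) (nat_lit 0x7001001)) .nil)))))))) (.cD (nat_lit 20) (.dfs (nat_lit 32) (nat_lit 4100) (nat_lit 4100) (nat_lit 0x1002001) (nat_lit 0x1002001) (nat_lit 0) (nat_lit 0) (nat_lit 3) (nat_lit 0) (nat_lit 0) (nat_lit 0) (nat_lit 1) (nat_lit 0) (nat_lit 1) (nat_lit 0) (nat_lit 1) (nat_lit 0x11001100110010) (.cD (nat_lit 4) (.kA true (nat_lit 0x100400700c002021001000002)) (.cD (nat_lit 16) (.kA true (nat_lit 0x300400500c002021001000002)) (.cD (nat_lit 20) (.kc (nat_lit 48) (nat_lit 0x3001001)) (.cD (nat_lit 32) (.kc (nat_lit 36) (nat_lit 0x5001001)) (.cD (nat_lit 36) (.dfs (nat_lit 9)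 (nat_lit 4100) (nat_lit 4101) (nat_lit 1) (nat_lit 1) (nat_lit 3) (nat_lit 0) (nat_lit 1) (nat_lit 4128) (nat_lit 0x40020010008004002021) (nat_lit 0) (nat_lit 1) (nat_lit 0) (nat_lit 1) (nat_lit 0) (nat_lit 1) (nat_lit 0) .nil) (.cD (nat_lit 48) (.kA true (nat_lit 0x700400100c002021001000002)) (.cD (nat_lit 52) (.kc (nat_lit 52) (nat_lit 0x7001001)) .nil)))))))) (.cD (nat_lit 24) (.kF (nat_lit 16) (nat_lit 0x21001000001006001002)) (.cD (nat_lit 32) (.kc (nat_lit 20) (nat_lit 0x3001001)) (.cD (nat_lit 48) (.dfs (nat_lit 32) (nat_lit 4100) (nat_lit 4100) (nat_lit 0x1002001) (nat_lit 0x1002001) (nat_lit 0) (nat_lit 0) (nat_lit 3) (nat_lit 0) (nat_lit 0) (nat_lit 0) (nat_lit 1) (nat_lit 0) (nat_lit 0x1008004) (nat_lit 32772) (nat_lit 0x1001004000008001014000018) (nat_lit 0x1000101110110) (.cD (nat_lit 4) (.kA true (nat_lit 0x100400200c002021001000002)) (.cD (nat_lit 8) (.kA false (nat_lit 0x700400600c002021001000002)) (.cD (nat_lit 16) (.kc (nat_lit 52) (nat_lit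 0x7001001)) (.cD (nat_lit 20) (.kA true (nat_lit 0x700400200c002021001000002)) (.cD (nat_lit 24) (.kA false (nat_lit 0x100400600c002021001000002)) (.cD (nat_lit 32) (.kc (nat_lit 36) (nat_lit 0x5001001)) (.cD (nat_lit 48) (.kc (nat_lit 48) (nat_lit 0x3001001)) .nil)))))))) .nil)))))))) (.cD (nat_lit 48) (.kF (nat_lit 4) (nat_lit 0x1002001002012004002002000003)) .nil))))))))))
theorem c545 : (chk [] [] p545).n x282 s545 = true := by decide +kernel
noncomputable def p546 : Pf := (.anc (nat_lit 68) (nat_lit 0x10002002002000002) (nat_lit 0x1009020010004) (.czp (nat_lit 64) (nat_lit 0) (nat_lit 0x1040020010008004) z6 (.dfs (nat_lit 4) (nat_lit 4097) (nat_lit 4097) (nat_lit 1) (nat_lit 1) (nat_lit 0) (nat_lit 0) (nat_lit 3) (nat_lit 0) (nat_lit 0) (nat_lit 0) (nat_lit 1) (nat_lit 0) (nat_lit 0x1008004) (nat_lit 32772) (nat_lit 0x1001004000008001014000018) (nat_lit 0x1000101110110) (.cD (nat_lit 4) (.dfs (nat_lit 16) (nat_lit 4098) (nat_lit 4098) (nat_lit 4097)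 (nat_lit 4097) (nat_lit 0) (nat_lit 0) (nat_lit 3) (nat_lit 0) (nat_lit 0) (nat_lit 0) (nat_lit 1) (nat_lit 0) (nat_lit 1) (nat_lit 0) (nat_lit 1) (nat_lit 0x11001100110010) (.cD (nat_lit 4) (.kc (nat_lit 20) (nat_lit 0x3001001)) (.cD (nat_lit 16) (.dfs (nat_lit 32) (nat_lit 4100) (nat_lit 4100) (nat_lit 0x1002001) (nat_lit 0x1002001) (nat_lit 0) (nat_lit 0) (nat_lit 3) (nat_lit 0) (nat_lit 0) (nat_lit 0) (nat_lit 1) (nat_lit 0) (nat_lit 1) (nat_lit 0) (nat_lit 1) (nat_lit 0x11001100110010) (.cD (nat_lit 4) (.kc (nat_lit 36) (nat_lit 0x5001001)) (.cD (nat_lit 16) (.kc (nat_lit 48) (nat_lit 0x3001001)) (.cD (nat_lit 20) (.kc (nat_lit 52) (nat_lit 0x7001001)) (.cD (nat_lit 32) (.dfs (nat_lit 9) (nat_lit 0x1004001003008) (nat_lit 0x1005001003008) (nat_lit 4098) (nat_lit 4098) (nat_lit 1) (nat_lit 0) (nat_lit 2) (nat_lit 1) (nat_lit 0) (nat_lit 8) (nat_lit 1) (nat_lit 0) (nat_lit 4100) (nat_lit 4) (nat_lit 0x100000c00001c) (nat_lit 0x10001000) (.cD (nat_lit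 12) (.kA false (nat_lit 0xd00200401000100200200000f002004016002033003000004)) (.cD (nat_lit 28) (.kA false (nat_lit 0x900200401000100200200000b002004016002033003000004)) .nil))) (.cD (nat_lit 36) (.kA true (nat_lit 0x3100100000400100300d001031001000003)) (.cD (nat_lit 48) (.kA true (nat_lit 0x600800401000400400100300d001031001000003)) (.cD (nat_lit 52) (.kA true (nat_lit 0x5004003008001008004002005007031001000003)) .nil)))))))) (.cD (nat_lit 20) (.dfs (nat_lit 32) (nat_lit 4100) (nat_lit 4100) (nat_lit 0x1002001) (nat_lit 0x1002001) (nat_lit 0) (nat_lit 0) (nat_lit 3) (nat_lit 0) (nat_lit 0) (nat_lit 0) (nat_lit 1) (nat_lit 0) (nat_lit 1) (nat_lit 0) (nat_lit 1) (nat_lit 0x11001100110010) (.cD (nat_lit 4) (.kc (nat_lit 36) (nat_lit 0x5001001)) (.cD (nat_lit 16) (.kc (nat_lit 52) (nat_lit 0x7001001)) (.cD (nat_lit 20) (.kc (nat_lit 48) (nat_lit 0x3001001)) (.cD (nat_lit 32) (.kA true (nat_lit 0x5004003008001008004002005007031001000003)) (.cD (nat_lit 36)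 (.dfs (nat_lit 9) (nat_lit 4102) (nat_lit 4103) (nat_lit 1) (nat_lit 1) (nat_lit 1) (nat_lit 0) (nat_lit 1) (nat_lit 4112) (nat_lit 0x40020010008004002031) (nat_lit 0) (nat_lit 1) (nat_lit 0) (nat_lit 1) (nat_lit 0) (nat_lit 1) (nat_lit 0) .nil) (.cD (nat_lit 48) (.kA true (nat_lit 0x400300500800100400100300c001002)) (.cD (nat_lit 52) (.kA true (nat_lit 0x400700100800100400100300c001002)) .nil)))))))) (.cD (nat_lit 32) (.kF (nat_lit 16) (nat_lit 0x100400100c012004002002000003)) (.cD (nat_lit 36) (.kF (nat_lit 16) (nat_lit 0x100400100c012004002002000003)) (.cD (nat_lit 48) (.dfs (nat_lit 32) (nat_lit 4100) (nat_lit 4100) (nat_lit 0x1002001) (nat_lit 0x1002001) (nat_lit 0) (nat_lit 0) (nat_lit 3) (nat_lit 0) (nat_lit 0) (nat_lit 0) (nat_lit 1) (nat_lit 0) (nat_lit 1) (nat_lit 0) (nat_lit 1) (nat_lit 0x11001100110010) (.cD (nat_lit 4) (.kc (nat_lit 36) (nat_lit 0x5001001)) (.cD (nat_lit 16) (.kA true (nat_lit 0x400200100800100400100300c001002)) (.cD (nat_lit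 20) (.kA true (nat_lit 0x400600500800100400100300c001002)) (.cD (nat_lit 32) (.kA true (nat_lit 0x5004003008001008004002005007031001000003)) (.cD (nat_lit 36) (.kA true (nat_lit 0x400500600800100400100300c001002)) (.cD (nat_lit 48) (.kc (nat_lit 48) (nat_lit 0x3001001)) (.cD (nat_lit 52) (.kc (nat_lit 52) (nat_lit 0x7001001)) .nil)))))))) (.cD (nat_lit 52) (.dfs (nat_lit 32) (nat_lit 4100) (nat_lit 4100) (nat_lit 0x1002001) (nat_lit 0x1002001) (nat_lit 0) (nat_lit 0) (nat_lit 3) (nat_lit 0) (nat_lit 0) (nat_lit 0) (nat_lit 1) (nat_lit 0) (nat_lit 1) (nat_lit 0) (nat_lit 1) (nat_lit 0x11001100110010) (.cD (nat_lit 4) (.kc (nat_lit 36) (nat_lit 0x5001001)) (.cD (nat_lit 16) (.kA true (nat_lit 0x400200500800100400100300c001002)) (.cD (nat_lit 20) (.kA true (nat_lit 0x400600100800100400100300c001002)) (.cD (nat_lit 32) (.kA true (nat_lit 0x5004003008001008004002005007031001000003)) (.cD (nat_lit 36) (.kA true (nat_lit 0x400500200800100400100300c001002)) (.cD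 (nat_lit 48) (.kc (nat_lit 52) (nat_lit 0x7001001)) (.cD (nat_lit 52) (.kc (nat_lit 48) (nat_lit 0x3001001)) .nil)))))))) .nil)))))))) (.cD (nat_lit 8) (.dfs (nat_lit 16) (nat_lit 4098) (nat_lit 4098) (nat_lit 4097) (nat_lit 4097) (nat_lit 0) (nat_lit 0) (nat_lit 3) (nat_lit 0) (nat_lit 0) (nat_lit 0) (nat_lit 1) (nat_lit 0) (nat_lit 1) (nat_lit 0) (nat_lit 1) (nat_lit 0x101010101010100) (.cD (nat_lit 8) (.kc (nat_lit 20) (nat_lit 0x3001001)) (.cD (nat_lit 16) (.dfs (nat_lit 32) (nat_lit 4100) (nat_lit 4100) (nat_lit 0x1002001) (nat_lit 0x1002001) (nat_lit 0) (nat_lit 0) (nat_lit 3) (nat_lit 0) (nat_lit 0) (nat_lit 0) (nat_lit 1) (nat_lit 0) (nat_lit 1) (nat_lit 0) (nat_lit 1) (nat_lit 0x101010101010100) (.cD (nat_lit 8) (.kc (nat_lit 36) (nat_lit 0x5001001)) (.cD (nat_lit 16) (.kc (nat_lit 48) (nat_lit 0x3001001)) (.cD (nat_lit 24) (.kc (nat_lit 52) (nat_lit 0x7001001)) (.cD (nat_lit 32) (.kA false (nat_lit 0x700400200c00200a004008014005031001000003))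 (.cD (nat_lit 40) (.kA false (nat_lit 0x3100100000600500200d002031001000003)) (.cD (nat_lit 48) (.kA false (nat_lit 0xa00800c01000400600300200b002031001000003)) (.cD (nat_lit 56) (.kA false (nat_lit 0x100400200c00200a004008014005031001000003)) .nil)))))))) (.cD (nat_lit 24) (.dfs (nat_lit 32) (nat_lit 4100) (nat_lit 4100) (nat_lit 0x1002001) (nat_lit 0x1002001) (nat_lit 0) (nat_lit 0) (nat_lit 3) (nat_lit 0) (nat_lit 0) (nat_lit 0) (nat_lit 1) (nat_lit 0) (nat_lit 1) (nat_lit 0) (nat_lit 1) (nat_lit 0x101010101010100) (.cD (nat_lit 8) (.kc (nat_lit 36) (nat_lit 0x5001001)) (.cD (nat_lit 16) (.kc (nat_lit 52) (nat_lit 0x7001001)) (.cD (nat_lit 24) (.kc (nat_lit 48) (nat_lit 0x3001001)) (.cD (nat_lit 32) (.kA false (nat_lit 0x300400600c00200a004008014005031001000003)) (.cD (nat_lit 40) (.kA false (nat_lit 0x3100100000200500600d002031001000003)) (.cD (nat_lit 48) (.kA false (nat_lit 0x500400600c00200a004008014005031001000003)) (.cD (nat_lit 56) (.kA false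 (nat_lit 0xc00800a01000400200300600b002031001000003)) .nil)))))))) (.cD (nat_lit 32) (.kF (nat_lit 16) (nat_lit 0x100400100c012004002002000003)) (.cD (nat_lit 40) (.kF (nat_lit 16) (nat_lit 0x100400100c012004002002000003)) (.cD (nat_lit 48) (.kF (nat_lit 16) (nat_lit 0x3100100000e014006001006001003)) (.cD (nat_lit 56) (.kF (nat_lit 16) (nat_lit 0x3100100000a014006001006001003)) .nil)))))))) (.cD (nat_lit 16) (.kF (nat_lit 4) (nat_lit 0x2002000001003001002)) (.cD (nat_lit 20) (.kF (nat_lit 4) (nat_lit 0xe01e003001003001002)) (.cD (nat_lit 24) (.kF (nat_lit 4) (nat_lit 0x1002001002012004002002000003)) (.cD (nat_lit 32) (.dfs (nat_lit 16) (nat_lit 4098) (nat_lit 4098) (nat_lit 4097) (nat_lit 4097) (nat_lit 0) (nat_lit 0) (nat_lit 3) (nat_lit 0) (nat_lit 0) (nat_lit 0) (nat_lit 1) (nat_lit 0) (nat_lit 0x1008004) (nat_lit 32772) (nat_lit 0x1001004000008001014000018) (nat_lit 0x1000101110110) (.cD (nat_lit 4) (.kF (nat_lit 16) (nat_lit 0x31001000001006001002))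 (.cD (nat_lit 8) (.kF (nat_lit 16) (nat_lit 0x100400100c012004002002000003)) (.cD (nat_lit 16) (.dfs (nat_lit 32) (nat_lit 4100) (nat_lit 4100) (nat_lit 0x1002001) (nat_lit 0x1002001) (nat_lit 0) (nat_lit 0) (nat_lit 3) (nat_lit 0) (nat_lit 0) (nat_lit 0) (nat_lit 1) (nat_lit 0) (nat_lit 0x1008004) (nat_lit 32772) (nat_lit 0x1001004000008001014000018) (nat_lit 0x1000101110110) (.cD (nat_lit 4) (.kA true (nat_lit 0x100400600c002031001000002)) (.cD (nat_lit 8) (.kA false (nat_lit 0x300400200c002031001000002)) (.cD (nat_lit 16) (.kc (nat_lit 48) (nat_lit 0x3001001)) (.cD (nat_lit 20) (.kA true (nat_lit 0x300400600c002031001000002)) (.cD (nat_lit 24) (.kA false (nat_lit 0x100400200c002031001000002)) (.cD (nat_lit 32) (.kc (nat_lit 36) (nat_lit 0x5001001)) (.cD (nat_lit 48) (.kc (nat_lit 52) (nat_lit 0x7001001)) .nil)))))))) (.cD (nat_lit 20) (.dfs (nat_lit 32) (nat_lit 4100) (nat_lit 4100) (nat_lit 0x1002001) (nat_lit 0x1002001) (nat_lit 0) (nat_lit 0) (nat_lit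 3) (nat_lit 0) (nat_lit 0) (nat_lit 0) (nat_lit 1) (nat_lit 0) (nat_lit 1) (nat_lit 0) (nat_lit 1) (nat_lit 0x11001100110010) (.cD (nat_lit 4) (.kA true (nat_lit 0x100400700c002031001000002)) (.cD (nat_lit 16) (.kA true (nat_lit 0x300400500c002031001000002)) (.cD (nat_lit 20) (.kc (nat_lit 48) (nat_lit 0x3001001)) (.cD (nat_lit 32) (.kc (nat_lit 36) (nat_lit 0x5001001)) (.cD (nat_lit 36) (.dfs (nat_lit 9) (nat_lit 4100) (nat_lit 4101) (nat_lit 1) (nat_lit 1) (nat_lit 1) (nat_lit 0) (nat_lit 1) (nat_lit 4128) (nat_lit 0x40020010008004002031) (nat_lit 0) (nat_lit 1) (nat_lit 0) (nat_lit 1) (nat_lit 0) (nat_lit 1) (nat_lit 0) .nil) (.cD (nat_lit 48) (.kA true (nat_lit 0x700400100c002031001000002)) (.cD (nat_lit 52) (.kc (nat_lit 52) (nat_lit 0x7001001)) .nil)))))))) (.cD (nat_lit 24) (.kF (nat_lit 16) (nat_lit 0x31001000001006001002)) (.cD (nat_lit 32) (.kc (nat_lit 20) (nat_lit 0x3001001)) (.cD (nat_lit 48) (.dfs (nat_lit 32) (nat_lit 4100) (nat_lit 4100)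 (nat_lit 0x1002001) (nat_lit 0x1002001) (nat_lit 0) (nat_lit 0) (nat_lit 3) (nat_lit 0) (nat_lit 0) (nat_lit 0) (nat_lit 1) (nat_lit 0) (nat_lit 0x1008004) (nat_lit 32772) (nat_lit 0x1001004000008001014000018) (nat_lit 0x1000101110110) (.cD (nat_lit 4) (.kA true (nat_lit 0x100400200c002031001000002)) (.cD (nat_lit 8) (.kA false (nat_lit 0x700400600c002031001000002)) (.cD (nat_lit 16) (.kc (nat_lit 52) (nat_lit 0x7001001)) (.cD (nat_lit 20) (.kA true (nat_lit 0x700400200c002031001000002)) (.cD (nat_lit 24) (.kA false (nat_lit 0x100400600c002031001000002)) (.cD (nat_lit 32) (.kc (nat_lit 36) (nat_lit 0x5001001)) (.cD (nat_lit 48) (.kc (nat_lit 48) (nat_lit 0x3001001)) .nil)))))))) .nil)))))))) (.cD (nat_lit 48) (.kF (nat_lit 4) (nat_lit 0x1002001002012004002002000003)) .nil))))))))))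
theorem c546 : (chk [] [] p546).n x283 s546 = true := by decide +kernel
noncomputable def p547 : Pf := (.anc (nat_lit 72) (nat_lit 0x31001000014004002) (nat_lit 0x1007020010008) (.czp (nat_lit 64) (nat_lit 0) (nat_lit 0x1040020010008004) z6 (.dfs (nat_lit 8) (nat_lit 4097) (nat_lit 4097) (nat_lit 1) (nat_lit 1) (nat_lit 0) (nat_lit 0) (nat_lit 3) (nat_lit 0) (nat_lit 0) (nat_lit 0) (nat_lit 1) (nat_lit 0) (nat_lit 0x1008004) (nat_lit 32772) (nat_lit 0x1001004000008001014000018) (nat_lit 0x1000101110110) (.cD (nat_lit 4) (.dfs (nat_lit 16) (nat_lit 4098) (nat_lit 4098) (nat_lit 4097) (nat_lit 4097) (nat_lit 0) (nat_lit 0) (nat_lit 3) (nat_lit 0) (nat_lit 0) (nat_lit 0) (nat_lit 1) (nat_lit 0) (nat_lit 1) (nat_lit 0) (nat_lit 1) (nat_lit 0x11001100110010) (.cD (nat_lit 4) (.kc (nat_lit 24) (nat_lit 0x3001001)) (.cD (nat_lit 16) (.dfs (nat_lit 32) (nat_lit 4100) (nat_lit 4100) (nat_lit 0x1002001) (nat_lit 0x1002001) (nat_lit 0) (nat_lit 0) (nat_lit 3) (nat_lit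 0) (nat_lit 0) (nat_lit 0) (nat_lit 1) (nat_lit 0) (nat_lit 1) (nat_lit 0) (nat_lit 1) (nat_lit 0x11001100110010) (.cD (nat_lit 4) (.kc (nat_lit 40) (nat_lit 0x5001001)) (.cD (nat_lit 16) (.kc (nat_lit 48) (nat_lit 0x3001001)) (.cD (nat_lit 20) (.kc (nat_lit 56) (nat_lit 0x7001001)) (.cD (nat_lit 32) (.kA false (nat_lit 0x700400200800100a004008014005031001000003)) (.cD (nat_lit 36) (.kA false (nat_lit 0x3100100000600100200d001031001000003)) (.cD (nat_lit 48) (.kA false (nat_lit 0xa00800c01000400600100200d001031001000003)) (.cD (nat_lit 52) (.kA false (nat_lit 0x700400200800100a004008014005031001000003)) .nil)))))))) (.cD (nat_lit 20) (.dfs (nat_lit 32) (nat_lit 4100) (nat_lit 4100) (nat_lit 0x1002001) (nat_lit 0x1002001) (nat_lit 0) (nat_lit 0) (nat_lit 3) (nat_lit 0) (nat_lit 0) (nat_lit 0) (nat_lit 1) (nat_lit 0) (nat_lit 1) (nat_lit 0) (nat_lit 1) (nat_lit 0x11001100110010) (.cD (nat_lit 4) (.kc (nat_lit 40) (nat_lit 0x5001001)) (.cD (nat_lit 16) (.kc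 (nat_lit 56) (nat_lit 0x7001001)) (.cD (nat_lit 20) (.kc (nat_lit 48) (nat_lit 0x3001001)) (.cD (nat_lit 32) (.kA false (nat_lit 0x700400200800100a004008014005031001000003)) (.cD (nat_lit 36) (.kA false (nat_lit 0x3100100000600100200d001031001000003)) (.cD (nat_lit 48) (.kA false (nat_lit 0xc00800a01000400600100200d001031001000003)) (.cD (nat_lit 52) (.kA false (nat_lit 0x700400200800100a004008014005031001000003)) .nil)))))))) (.cD (nat_lit 32) (.kF (nat_lit 16) (nat_lit 0x4010004002002000001006001003)) (.cD (nat_lit 36) (.kF (nat_lit 16) (nat_lit 0x31001000001007001002002000003)) (.cD (nat_lit 48) (.dfs (nat_lit 32) (nat_lit 4100) (nat_lit 4100) (nat_lit 0x1002001) (nat_lit 0x1002001) (nat_lit 0) (nat_lit 0) (nat_lit 3) (nat_lit 0) (nat_lit 0) (nat_lit 0) (nat_lit 1) (nat_lit 0) (nat_lit 1) (nat_lit 0) (nat_lit 1) (nat_lit 0x11001100110010) (.cD (nat_lit 4) (.kc (nat_lit 40) (nat_lit 0x5001001)) (.cD (nat_lit 16) (.kA false (nat_lit 0xa00c00801e00300600100200d001031001000003))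 (.cD (nat_lit 20) (.kA false (nat_lit 0x200200000600100200d001031001000003)) (.cD (nat_lit 32) (.kA false (nat_lit 0x700400200800100a004008014005031001000003)) (.cD (nat_lit 36) (.kA false (nat_lit 0x3100100000600100200d001031001000003)) (.cD (nat_lit 48) (.kc (nat_lit 48) (nat_lit 0x3001001)) (.cD (nat_lit 52) (.kc (nat_lit 56) (nat_lit 0x7001001)) .nil)))))))) (.cD (nat_lit 52) (.dfs (nat_lit 32) (nat_lit 4100) (nat_lit 4100) (nat_lit 0x1002001) (nat_lit 0x1002001) (nat_lit 0) (nat_lit 0) (nat_lit 3) (nat_lit 0) (nat_lit 0) (nat_lit 0) (nat_lit 1) (nat_lit 0) (nat_lit 1) (nat_lit 0) (nat_lit 1) (nat_lit 0x11001100110010) (.cD (nat_lit 4) (.kc (nat_lit 40) (nat_lit 0x5001001)) (.cD (nat_lit 16) (.kA false (nat_lit 0x800c00a01e00300600100200d001031001000003)) (.cD (nat_lit 20) (.kA false (nat_lit 0x200200000600100200d001031001000003)) (.cD (nat_lit 32) (.kA false (nat_lit 0x700400200800100a004008014005031001000003)) (.cD (nat_lit 36) (.kA false (nat_lit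 0x3100100000600100200d001031001000003)) (.cD (nat_lit 48) (.kc (nat_lit 56) (nat_lit 0x7001001)) (.cD (nat_lit 52) (.kc (nat_lit 48) (nat_lit 0x3001001)) .nil)))))))) .nil)))))))) (.cD (nat_lit 8) (.dfs (nat_lit 16) (nat_lit 4098) (nat_lit 4098) (nat_lit 4097) (nat_lit 4097) (nat_lit 0) (nat_lit 0) (nat_lit 3) (nat_lit 0) (nat_lit 0) (nat_lit 0) (nat_lit 1) (nat_lit 0) (nat_lit 1) (nat_lit 0) (nat_lit 1) (nat_lit 0x101010101010100) (.cD (nat_lit 8) (.kc (nat_lit 24) (nat_lit 0x3001001)) (.cD (nat_lit 16) (.dfs (nat_lit 32) (nat_lit 4100) (nat_lit 4100) (nat_lit 0x1002001) (nat_lit 0x1002001) (nat_lit 0) (nat_lit 0) (nat_lit 3) (nat_lit 0) (nat_lit 0) (nat_lit 0) (nat_lit 1) (nat_lit 0) (nat_lit 1) (nat_lit 0) (nat_lit 1) (nat_lit 0x101010101010100) (.cD (nat_lit 8) (.kc (nat_lit 40) (nat_lit 0x5001001)) (.cD (nat_lit 16) (.kc (nat_lit 48) (nat_lit 0x3001001)) (.cD (nat_lit 24) (.kc (nat_lit 56) (nat_lit 0x7001001)) (.cD (nat_lit 32) (.kA false (nat_lit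 0x700400200800100a004008014005031001000003)) (.cD (nat_lit 40) (.kA false (nat_lit 0x3100100000600100200d001031001000003)) (.cD (nat_lit 48) (.dfs (nat_lit 7) (nat_lit 0x1004003002008) (nat_lit 0x1007003002008) (nat_lit 4097) (nat_lit 4097) (nat_lit 2) (nat_lit 0) (nat_lit 2) (nat_lit 0) (nat_lit 0) (nat_lit 4) (nat_lit 1) (nat_lit 0) (nat_lit 1) (nat_lit 0) (nat_lit 1) (nat_lit 0) .nil) (.cD (nat_lit 56) (.dfs (nat_lit 7) (nat_lit 4101) (nat_lit 4102) (nat_lit 1) (nat_lit 1) (nat_lit 2) (nat_lit 0) (nat_lit 1) (nat_lit 4144) (nat_lit 0x40020010008004002031) (nat_lit 0) (nat_lit 1) (nat_lit 0) (nat_lit 1) (nat_lit 0) (nat_lit 1) (nat_lit 0) .nil) .nil)))))))) (.cD (nat_lit 24) (.dfs (nat_lit 32) (nat_lit 4100) (nat_lit 4100) (nat_lit 0x1002001) (nat_lit 0x1002001) (nat_lit 0) (nat_lit 0) (nat_lit 3) (nat_lit 0) (nat_lit 0) (nat_lit 0) (nat_lit 1) (nat_lit 0) (nat_lit 1) (nat_lit 0) (nat_lit 1) (nat_lit 0x101010101010100) (.cD (nat_lit 8) (.kc (nat_lit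 40) (nat_lit 0x5001001)) (.cD (nat_lit 16) (.kc (nat_lit 56) (nat_lit 0x7001001)) (.cD (nat_lit 24) (.kc (nat_lit 48) (nat_lit 0x3001001)) (.cD (nat_lit 32) (.kA false (nat_lit 0x700400200800100a004008014005031001000003)) (.cD (nat_lit 40) (.kA false (nat_lit 0x3100100000600100200d001031001000003)) (.cD (nat_lit 48) (.kA false (nat_lit 0x700400200800100a004008014005031001000003)) (.cD (nat_lit 56) (.kA false (nat_lit 0x700400200800100a004008014005031001000003)) .nil)))))))) (.cD (nat_lit 32) (.kF (nat_lit 8) (nat_lit 0x3006002004004000002007001002002000004)) (.cD (nat_lit 40) (.kF (nat_lit 8) (nat_lit 0x31001000002007001002002000003)) (.cD (nat_lit 48) (.kF (nat_lit 16) (nat_lit 0x3100100000e014006001006001003)) (.cD (nat_lit 56) (.kF (nat_lit 16) (nat_lit 0x3100100000a014006001006001003)) .nil)))))))) (.cD (nat_lit 16) (.kF (nat_lit 8) (nat_lit 0x2002000001003001002)) (.cD (nat_lit 20) (.kF (nat_lit 8) (nat_lit 0xe01e003001003001002)) (.cD (nat_lit 24)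 (.kF (nat_lit 8) (nat_lit 0x31001000002016005031001000001003001004)) (.cD (nat_lit 32) (.dfs (nat_lit 16) (nat_lit 4098) (nat_lit 4098) (nat_lit 4097) (nat_lit 4097) (nat_lit 0) (nat_lit 0) (nat_lit 3) (nat_lit 0) (nat_lit 0) (nat_lit 0) (nat_lit 1) (nat_lit 0) (nat_lit 0x1008004) (nat_lit 32772) (nat_lit 0x1001004000008001014000018) (nat_lit 0x1000101110110) (.cD (nat_lit 4) (.kF (nat_lit 16) (nat_lit 0x31001000001006001002)) (.cD (nat_lit 8) (.kF (nat_lit 8) (nat_lit 0x31001000004016005002007001002002000004)) (.cD (nat_lit 16) (.dfs (nat_lit 32) (nat_lit 4100) (nat_lit 4100) (nat_lit 0x1002001) (nat_lit 0x1002001) (nat_lit 0) (nat_lit 0) (nat_lit 3) (nat_lit 0) (nat_lit 0) (nat_lit 0) (nat_lit 1) (nat_lit 0) (nat_lit 0x1008004) (nat_lit 32772) (nat_lit 0x1001004000008001014000018) (nat_lit 0x1000101110110) (.cD (nat_lit 4) (.kA false (nat_lit 0x3100100000400100200c001002)) (.cD (nat_lit 8) (.kA false (nat_lit 0x300400200c002031001000002)) (.cD (nat_lit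 16) (.kc (nat_lit 48) (nat_lit 0x3001001)) (.cD (nat_lit 20) (.kA false (nat_lit 0x3100100000400100200c001002)) (.cD (nat_lit 24) (.dfs (nat_lit 7) (nat_lit 4100) (nat_lit 4103) (nat_lit 1) (nat_lit 1) (nat_lit 2) (nat_lit 0) (nat_lit 1) (nat_lit 4128) (nat_lit 0x40020010008004002031) (nat_lit 0) (nat_lit 1) (nat_lit 0) (nat_lit 1) (nat_lit 0) (nat_lit 1) (nat_lit 0) .nil) (.cD (nat_lit 32) (.kc (nat_lit 40) (nat_lit 0x5001001)) (.cD (nat_lit 48) (.kc (nat_lit 56) (nat_lit 0x7001001)) .nil)))))))) (.cD (nat_lit 20) (.dfs (nat_lit 32) (nat_lit 4100) (nat_lit 4100) (nat_lit 0x1002001) (nat_lit 0x1002001) (nat_lit 0) (nat_lit 0) (nat_lit 3) (nat_lit 0) (nat_lit 0) (nat_lit 0) (nat_lit 1) (nat_lit 0) (nat_lit 1) (nat_lit 0) (nat_lit 1) (nat_lit 0x11001100110010) (.cD (nat_lit 4) (.kA false (nat_lit 0x3100100000400100200c001002)) (.cD (nat_lit 16) (.kA false (nat_lit 0x3100100000400100200c001002)) (.cD (nat_lit 20) (.kc (nat_lit 48) (nat_lit 0x3001001)) (.cD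 (nat_lit 32) (.kc (nat_lit 40) (nat_lit 0x5001001)) (.cD (nat_lit 36) (.kA false (nat_lit 0x3100100000400100200c001002)) (.cD (nat_lit 48) (.kA false (nat_lit 0x3100100000400100200c001002)) (.cD (nat_lit 52) (.kc (nat_lit 56) (nat_lit 0x7001001)) .nil)))))))) (.cD (nat_lit 24) (.kF (nat_lit 16) (nat_lit 0x31001000001006001002)) (.cD (nat_lit 32) (.kc (nat_lit 24) (nat_lit 0x3001001)) (.cD (nat_lit 48) (.dfs (nat_lit 32) (nat_lit 4100) (nat_lit 4100) (nat_lit 0x1002001) (nat_lit 0x1002001) (nat_lit 0) (nat_lit 0) (nat_lit 3) (nat_lit 0) (nat_lit 0) (nat_lit 0) (nat_lit 1) (nat_lit 0) (nat_lit 0x1008004) (nat_lit 32772) (nat_lit 0x1001004000008001014000018) (nat_lit 0x1000101110110) (.cD (nat_lit 4) (.kA false (nat_lit 0x3100100000400100200c001002)) (.cD (nat_lit 8) (.kA false (nat_lit 0x700400600c002031001000002)) (.cD (nat_lit 16) (.kc (nat_lit 56) (nat_lit 0x7001001)) (.cD (nat_lit 20) (.kA false (nat_lit 0x3100100000400100200c001002)) (.cD (nat_lit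 24) (.kA false (nat_lit 0x100400600c002031001000002)) (.cD (nat_lit 32) (.kc (nat_lit 40) (nat_lit 0x5001001)) (.cD (nat_lit 48) (.kc (nat_lit 48) (nat_lit 0x3001001)) .nil)))))))) .nil)))))))) (.cD (nat_lit 48) (.kF (nat_lit 8) (nat_lit 0x33003000001003001002)) .nil))))))))))
theorem c547 : (chk [] [] p547).n x284 s547 = true := by decide +kernel
noncomputable def p548 : Pf := (.lft (nat_lit 0x20008018001004002003001) (nat_lit 0) (nat_lit 0x1028020) (nat_lit 0x20010008004002001) (.extn a21 (nat_lit 0x20010008004002001) (nat_lit 0x1004010008020) (nat_lit 2) (nat_lit 0) (nat_lit 0) (nat_lit 0) (nat_lit 0x1010101) (.cE (nat_lit 0) b61 (nat_lit 0) (.cut (nat_lit 0)) (.cut (nat_lit 1)) (.cE (nat_lit 8) b62 (nat_lit 0) (.cut (nat_lit 2)) (.cut (nat_lit 3)) (.cE (nat_lit 16) b63 (nat_lit 0) (.cut (nat_lit 4)) (.cut (nat_lit 5)) (.cE (nat_lit 24) b64 (nat_lit 0) (.cut (nat_lit 6)) (.cut (nat_lit 7)) .nil))))))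
theorem c548 : (chk [(x277, s540), (x278, s541), (x279, s542), (x280, s543), (x281, s544), (x282, s545), (x283, s546), (x284, s547)] [] p548).n x207 s548 = true := by decide +kernel
noncomputable def p549 : Pf := (.ext (nat_lit 1) (nat_lit 0) (nat_lit 0x1020018010002) (nat_lit 0x700200c008005001001000001002004008005003) (nat_lit 0x300200400f) (nat_lit 4101) (nat_lit 4101) (nat_lit 0xe004002001) (.dfs (nat_lit 5) (nat_lit 0x100300200400f) (nat_lit 0x1003002004009) (nat_lit 0x1008001) (nat_lit 0x100e001) (nat_lit 0) (nat_lit 0) (nat_lit 2) (nat_lit 1) (nat_lit 0) (nat_lit 5) (nat_lit 1) (nat_lit 0) (nat_lit 4128) (nat_lit 32) (nat_lit 0x1000005000007000015000017) (nat_lit 0xa000a0) (.cD (nat_lit 5) (.cut (nat_lit 1)) (.cD (nat_lit 7) (.kS (nat_lit 1) (nat_lit 0x4008010020003001) (nat_lit 4109) (nat_lit 0x8004002007) (nat_lit 0x600400801a007001002004008010001001004008010020003004003)) (.cD (nat_lit 21) (.cut (nat_lit 0)) (.cD (nat_lit 23) (.kS (nat_lit 1)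 (nat_lit 0x4008010020003001) (nat_lit 4109) (nat_lit 0x8004002007) (nat_lit 0x600400801a003001002004008010001001004008010020003004003)) .nil))))))
theorem c549 : (chk [(x207, s539), (x207, s548)] [] p549).n x207 s549 = true := by decide +kernel
noncomputable def p550 : Pf := (.ext (nat_lit 1) (nat_lit 0) (nat_lit 0x1020018010002) (nat_lit 0x12006002001001001) (nat_lit 0x100200400a) (nat_lit 0x1004001) (nat_lit 0x1004001) (nat_lit 0x800400200300e004002003) (.dfs (nat_lit 1) (nat_lit 0x100100200400a) (nat_lit 0x100300200400c) (nat_lit 4104) (nat_lit 4110) (nat_lit 0) (nat_lit 0) (nat_lit 2) (nat_lit 1) (nat_lit 0) (nat_lit 1) (nat_lit 1) (nat_lit 0) (nat_lit 0x1038002) (nat_lit 0x38002) (nat_lit 0x1000001001001001011) (nat_lit 2) (.cD (nat_lit 1) (.dfs (nat_lit 4) (nat_lit 0x1002004008014) (nat_lit 0x1006004008014) (nat_lit 0x1010001) (nat_lit 0x1010001) (nat_lit 0) (nat_lit 0) (nat_lit 2) (nat_lit 1) (nat_lit 0) (nat_lit 4) (nat_lit 1) (nat_lit 0) (nat_lit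 1) (nat_lit 0) (nat_lit 1) (nat_lit 0x10101010) (.cD (nat_lit 4) (.kA false (nat_lit 0x8002004010003001008018020001002)) (.cD (nat_lit 12) (.cut (nat_lit 1)) (.cD (nat_lit 20) (.kA false (nat_lit 0xa002004010003001008018020001002)) (.cD (nat_lit 28) (.cut (nat_lit 0)) .nil))))) .nil)))
theorem c550 : (chk [(x207, s530), (x207, s549)] [] p550).n x207 s550 = true := by decide +kernel
noncomputable def p551 : Pf := (.ext (nat_lit 1) (nat_lit 0) (nat_lit 0x1040030020004) (nat_lit 0x1002004008001001) (nat_lit 0x2003004008) (nat_lit 4107) (nat_lit 4107) (nat_lit 0xc004002001) (.dfs (nat_lit 11) (nat_lit 0x1002003004008) (nat_lit 0x100200300400c) (nat_lit 4097) (nat_lit 4097) (nat_lit 2) (nat_lit 0) (nat_lit 2) (nat_lit 1) (nat_lit 0) (nat_lit 11) (nat_lit 1) (nat_lit 0) (nat_lit 1) (nat_lit 0) (nat_lit 1) (nat_lit 0) .nil))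
theorem c551 : (chk [] [] p551).n x285 s551 = true := by decide +kernel
noncomputable def p552 : Pf := (.anc (nat_lit 68) (nat_lit 0x10002002002000002) (nat_lit 0x1009020010004) (.czp (nat_lit 64) (nat_lit 0) (nat_lit 0x1040020010008004) z6 (.dfs (nat_lit 4) (nat_lit 4097) (nat_lit 4097) (nat_lit 1) (nat_lit 1) (nat_lit 0) (nat_lit 0) (nat_lit 3) (nat_lit 0) (nat_lit 0) (nat_lit 0) (nat_lit 1) (nat_lit 0) (nat_lit 0x1008004) (nat_lit 32772) (nat_lit 0x1001004000008001014000018) (nat_lit 0x1000101110110) (.cD (nat_lit 4) (.dfs (nat_lit 16) (nat_lit 4098) (nat_lit 4098) (nat_lit 4097) (nat_lit 4097) (nat_lit 0) (nat_lit 0) (nat_lit 3) (nat_lit 0) (nat_lit 0) (nat_lit 0) (nat_lit 1) (nat_lit 0) (nat_lit 1) (nat_lit 0) (nat_lit 1) (nat_lit 0x11001100110010) (.cD (nat_lit 4) (.kc (nat_lit 20) (nat_lit 0x3001001)) (.cD (nat_lit 16) (.dfs (nat_lit 32) (nat_lit 4100) (nat_lit 4100) (nat_lit 0x1002001) (nat_lit 0x1002001) (nat_lit 0) (nat_lit 0) (nat_lit 3) (nat_lit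 0) (nat_lit 0) (nat_lit 0) (nat_lit 1) (nat_lit 0) (nat_lit 1) (nat_lit 0) (nat_lit 1) (nat_lit 0x11001100110010) (.cD (nat_lit 4) (.kc (nat_lit 36) (nat_lit 0x5001001)) (.cD (nat_lit 16) (.kc (nat_lit 48) (nat_lit 0x3001001)) (.cD (nat_lit 20) (.kc (nat_lit 52) (nat_lit 0x7001001)) (.cD (nat_lit 32) (.dfs (nat_lit 9) (nat_lit 0x1004001003008) (nat_lit 0x1005001003008) (nat_lit 4098) (nat_lit 4098) (nat_lit 1) (nat_lit 0) (nat_lit 2) (nat_lit 1) (nat_lit 0) (nat_lit 8) (nat_lit 1) (nat_lit 0) (nat_lit 4100) (nat_lit 4) (nat_lit 0x100004c00005c) (nat_lit 0x100010000000000000000000) (.cD (nat_lit 76) (.kb (nat_lit 13) (nat_lit 0x100100001400600b001003) (nat_lit 0x1020010008044006003)) (.cD (nat_lit 92) (.kb (nat_lit 29) (nat_lit 0x100100001400600f001003) (nat_lit 0x1020010008044006003)) .nil))) (.cD (nat_lit 36) (.kA true (nat_lit 0x100100000400100300d001001001000003)) (.cD (nat_lit 48) (.kA true (nat_lit 0x600800401000400400100300d001001001000003)) (.cD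 (nat_lit 52) (.kA true (nat_lit 0x5004003008001008004002005007001001000003)) .nil)))))))) (.cD (nat_lit 20) (.dfs (nat_lit 32) (nat_lit 4100) (nat_lit 4100) (nat_lit 0x1002001) (nat_lit 0x1002001) (nat_lit 0) (nat_lit 0) (nat_lit 3) (nat_lit 0) (nat_lit 0) (nat_lit 0) (nat_lit 1) (nat_lit 0) (nat_lit 1) (nat_lit 0) (nat_lit 1) (nat_lit 0x11001100110010) (.cD (nat_lit 4) (.kc (nat_lit 36) (nat_lit 0x5001001)) (.cD (nat_lit 16) (.kc (nat_lit 52) (nat_lit 0x7001001)) (.cD (nat_lit 20) (.kc (nat_lit 48) (nat_lit 0x3001001)) (.cD (nat_lit 32) (.kA true (nat_lit 0x5004003008001008004002005007001001000003)) (.cD (nat_lit 36) (.dfs (nat_lit 9) (nat_lit 4102) (nat_lit 4103) (nat_lit 1) (nat_lit 1) (nat_lit 1) (nat_lit 0) (nat_lit 1) (nat_lit 4112) (nat_lit 0x40020010008004002001) (nat_lit 0) (nat_lit 1) (nat_lit 0) (nat_lit 1) (nat_lit 0) (nat_lit 1) (nat_lit 0) .nil) (.cD (nat_lit 48) (.kA true (nat_lit 0x400300500800100400100300c001002)) (.cD (nat_lit 52) (.kA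 true (nat_lit 0x400700100800100400100300c001002)) .nil)))))))) (.cD (nat_lit 32) (.kF (nat_lit 16) (nat_lit 0x100400100c012004002002000003)) (.cD (nat_lit 36) (.kF (nat_lit 16) (nat_lit 0x100400100c012004002002000003)) (.cD (nat_lit 48) (.dfs (nat_lit 32) (nat_lit 4100) (nat_lit 4100) (nat_lit 0x1002001) (nat_lit 0x1002001) (nat_lit 0) (nat_lit 0) (nat_lit 3) (nat_lit 0) (nat_lit 0) (nat_lit 0) (nat_lit 1) (nat_lit 0) (nat_lit 1) (nat_lit 0) (nat_lit 1) (nat_lit 0x11001100110010) (.cD (nat_lit 4) (.kc (nat_lit 36) (nat_lit 0x5001001)) (.cD (nat_lit 16) (.kA true (nat_lit 0x400200100800100400100300c001002)) (.cD (nat_lit 20) (.kA true (nat_lit 0x400600500800100400100300c001002)) (.cD (nat_lit 32) (.kA true (nat_lit 0x5004003008001008004002005007001001000003)) (.cD (nat_lit 36) (.kA true (nat_lit 0x400500600800100400100300c001002)) (.cD (nat_lit 48) (.kc (nat_lit 48) (nat_lit 0x3001001)) (.cD (nat_lit 52) (.kc (nat_lit 52) (nat_lit 0x7001001)) .nil))))))))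 (.cD (nat_lit 52) (.dfs (nat_lit 32) (nat_lit 4100) (nat_lit 4100) (nat_lit 0x1002001) (nat_lit 0x1002001) (nat_lit 0) (nat_lit 0) (nat_lit 3) (nat_lit 0) (nat_lit 0) (nat_lit 0) (nat_lit 1) (nat_lit 0) (nat_lit 1) (nat_lit 0) (nat_lit 1) (nat_lit 0x11001100110010) (.cD (nat_lit 4) (.kc (nat_lit 36) (nat_lit 0x5001001)) (.cD (nat_lit 16) (.kA true (nat_lit 0x400200500800100400100300c001002)) (.cD (nat_lit 20) (.kA true (nat_lit 0x400600100800100400100300c001002)) (.cD (nat_lit 32) (.kA true (nat_lit 0x5004003008001008004002005007001001000003)) (.cD (nat_lit 36) (.kA true (nat_lit 0x400500200800100400100300c001002)) (.cD (nat_lit 48) (.kc (nat_lit 52) (nat_lit 0x7001001)) (.cD (nat_lit 52) (.kc (nat_lit 48) (nat_lit 0x3001001)) .nil)))))))) .nil)))))))) (.cD (nat_lit 8) (.dfs (nat_lit 16) (nat_lit 4098) (nat_lit 4098) (nat_lit 4097) (nat_lit 4097) (nat_lit 0) (nat_lit 0) (nat_lit 3) (nat_lit 0) (nat_lit 0) (nat_lit 0) (nat_lit 1) (nat_lit 0) (nat_lit 1)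 (nat_lit 0) (nat_lit 1) (nat_lit 0x101010101010100) (.cD (nat_lit 8) (.kc (nat_lit 20) (nat_lit 0x3001001)) (.cD (nat_lit 16) (.dfs (nat_lit 32) (nat_lit 4100) (nat_lit 4100) (nat_lit 0x1002001) (nat_lit 0x1002001) (nat_lit 0) (nat_lit 0) (nat_lit 3) (nat_lit 0) (nat_lit 0) (nat_lit 0) (nat_lit 1) (nat_lit 0) (nat_lit 1) (nat_lit 0) (nat_lit 1) (nat_lit 0x101010101010100) (.cD (nat_lit 8) (.kc (nat_lit 36) (nat_lit 0x5001001)) (.cD (nat_lit 16) (.kc (nat_lit 48) (nat_lit 0x3001001)) (.cD (nat_lit 24) (.kc (nat_lit 52) (nat_lit 0x7001001)) (.cD (nat_lit 32) (.kA false (nat_lit 0x100400200c002006004008014005001001000003)) (.cD (nat_lit 40) (.kA false (nat_lit 0x100100000100500200d002001001000003)) (.cD (nat_lit 48) (.kA false (nat_lit 0xe00800c01000400700300200b002001001000003)) (.cD (nat_lit 56) (.kA false (nat_lit 0x700400200c002006004008014005001001000003)) .nil)))))))) (.cD (nat_lit 24) (.dfs (nat_lit 32) (nat_lit 4100) (nat_lit 4100) (nat_lit 0x1002001)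 (nat_lit 0x1002001) (nat_lit 0) (nat_lit 0) (nat_lit 3) (nat_lit 0) (nat_lit 0) (nat_lit 0) (nat_lit 1) (nat_lit 0) (nat_lit 1) (nat_lit 0) (nat_lit 1) (nat_lit 0x101010101010100) (.cD (nat_lit 8) (.kc (nat_lit 36) (nat_lit 0x5001001)) (.cD (nat_lit 16) (.kc (nat_lit 52) (nat_lit 0x7001001)) (.cD (nat_lit 24) (.kc (nat_lit 48) (nat_lit 0x3001001)) (.cD (nat_lit 32) (.kA false (nat_lit 0x100400600c002006004008014005001001000003)) (.cD (nat_lit 40) (.kA false (nat_lit 0x100100000100500600d002001001000003)) (.cD (nat_lit 48) (.kA false (nat_lit 0x700400600c002006004008014005001001000003)) (.cD (nat_lit 56) (.kA false (nat_lit 0xe00800a01000400700300600b002001001000003)) .nil)))))))) (.cD (nat_lit 32) (.kF (nat_lit 16) (nat_lit 0x100400100c012004002002000003)) (.cD (nat_lit 40) (.kF (nat_lit 16) (nat_lit 0x100400100c012004002002000003)) (.cD (nat_lit 48) (.dfs (nat_lit 32) (nat_lit 4100) (nat_lit 4100) (nat_lit 0x1002001) (nat_lit 0x1002001) (nat_lit 0) (nat_lit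 0) (nat_lit 3) (nat_lit 0) (nat_lit 0) (nat_lit 0) (nat_lit 1) (nat_lit 0) (nat_lit 1) (nat_lit 0) (nat_lit 1) (nat_lit 0x101010101010100) (.cD (nat_lit 8) (.kc (nat_lit 36) (nat_lit 0x5001001)) (.cD (nat_lit 16) (.kA false (nat_lit 0xe00800401000400700300100b002001001000003)) (.cD (nat_lit 24) (.kA false (nat_lit 0x700400500c002006004008014005001001000003)) (.cD (nat_lit 32) (.kA false (nat_lit 0x100400300c002006004008014005001001000003)) (.cD (nat_lit 40) (.kA false (nat_lit 0x100100000100500700d002001001000003)) (.cD (nat_lit 48) (.kc (nat_lit 48) (nat_lit 0x3001001)) (.cD (nat_lit 56) (.kc (nat_lit 52) (nat_lit 0x7001001)) .nil)))))))) (.cD (nat_lit 56) (.dfs (nat_lit 32) (nat_lit 4100) (nat_lit 4100) (nat_lit 0x1002001) (nat_lit 0x1002001) (nat_lit 0) (nat_lit 0) (nat_lit 3) (nat_lit 0) (nat_lit 0) (nat_lit 0) (nat_lit 1) (nat_lit 0) (nat_lit 1) (nat_lit 0) (nat_lit 1) (nat_lit 0x101010101010100) (.cD (nat_lit 8) (.kc (nat_lit 36) (nat_lit 0x5001001))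 (.cD (nat_lit 16) (.kA false (nat_lit 0x700400100c002006004008014005001001000003)) (.cD (nat_lit 24) (.kA false (nat_lit 0xe00800201000400700300500b002001001000003)) (.cD (nat_lit 32) (.kA false (nat_lit 0x100400700c002006004008014005001001000003)) (.cD (nat_lit 40) (.kA false (nat_lit 0x100100000100500300d002001001000003)) (.cD (nat_lit 48) (.kc (nat_lit 52) (nat_lit 0x7001001)) (.cD (nat_lit 56) (.kc (nat_lit 48) (nat_lit 0x3001001)) .nil)))))))) .nil)))))))) (.cD (nat_lit 16) (.kF (nat_lit 4) (nat_lit 0x2002000001003001002)) (.cD (nat_lit 20) (.kF (nat_lit 4) (nat_lit 0xe01e003001003001002)) (.cD (nat_lit 24) (.kF (nat_lit 4) (nat_lit 0x1002001002012004002002000003)) (.cD (nat_lit 32) (.dfs (nat_lit 16) (nat_lit 4098) (nat_lit 4098) (nat_lit 4097) (nat_lit 4097) (nat_lit 0) (nat_lit 0) (nat_lit 3) (nat_lit 0) (nat_lit 0) (nat_lit 0) (nat_lit 1) (nat_lit 0) (nat_lit 0x1008004) (nat_lit 32772) (nat_lit 0x1001004000008001014000018) (nat_lit 0x1000101110110)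 (.cD (nat_lit 4) (.kF (nat_lit 16) (nat_lit 0x1001000001006001002)) (.cD (nat_lit 8) (.kF (nat_lit 16) (nat_lit 0x1001000001006001002)) (.cD (nat_lit 16) (.dfs (nat_lit 32) (nat_lit 4100) (nat_lit 4100) (nat_lit 0x1002001) (nat_lit 0x1002001) (nat_lit 0) (nat_lit 0) (nat_lit 3) (nat_lit 0) (nat_lit 0) (nat_lit 0) (nat_lit 1) (nat_lit 0) (nat_lit 0x1008004) (nat_lit 32772) (nat_lit 0x1001004000008001014000018) (nat_lit 0x1000101110110) (.cD (nat_lit 4) (.kA true (nat_lit 0x100400600c002001001000002)) (.cD (nat_lit 8) (.kA false (nat_lit 0x500400200c002001001000002)) (.cD (nat_lit 16) (.kc (nat_lit 48) (nat_lit 0x3001001)) (.cD (nat_lit 20) (.kA true (nat_lit 0x300400600c002001001000002)) (.cD (nat_lit 24) (.kA false (nat_lit 0x700400200c002001001000002)) (.cD (nat_lit 32) (.kc (nat_lit 36) (nat_lit 0x5001001)) (.cD (nat_lit 48) (.kc (nat_lit 52) (nat_lit 0x7001001)) .nil)))))))) (.cD (nat_lit 20) (.dfs (nat_lit 32) (nat_lit 4100) (nat_lit 4100) (nat_lit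 0x1002001) (nat_lit 0x1002001) (nat_lit 0) (nat_lit 0) (nat_lit 3) (nat_lit 0) (nat_lit 0) (nat_lit 0) (nat_lit 1) (nat_lit 0) (nat_lit 1) (nat_lit 0) (nat_lit 1) (nat_lit 0x11001100110010) (.cD (nat_lit 4) (.kA true (nat_lit 0x100400700c002001001000002)) (.cD (nat_lit 16) (.kA true (nat_lit 0x300400500c002001001000002)) (.cD (nat_lit 20) (.kc (nat_lit 48) (nat_lit 0x3001001)) (.cD (nat_lit 32) (.kc (nat_lit 36) (nat_lit 0x5001001)) (.cD (nat_lit 36) (.dfs (nat_lit 9) (nat_lit 4100) (nat_lit 4101) (nat_lit 1) (nat_lit 1) (nat_lit 1) (nat_lit 0) (nat_lit 1) (nat_lit 4128) (nat_lit 0x40020010008004002001) (nat_lit 0) (nat_lit 1) (nat_lit 0) (nat_lit 1) (nat_lit 0) (nat_lit 1) (nat_lit 0) .nil) (.cD (nat_lit 48) (.kA true (nat_lit 0x700400100c002001001000002)) (.cD (nat_lit 52) (.kc (nat_lit 52) (nat_lit 0x7001001)) .nil)))))))) (.cD (nat_lit 24) (.dfs (nat_lit 32) (nat_lit 4100) (nat_lit 4100) (nat_lit 0x1002001) (nat_lit 0x1002001) (nat_lit 0) (nat_lit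 0) (nat_lit 3) (nat_lit 0) (nat_lit 0) (nat_lit 0) (nat_lit 1) (nat_lit 0) (nat_lit 1) (nat_lit 0) (nat_lit 1) (nat_lit 0x101010101010100) (.cD (nat_lit 8) (.kA false (nat_lit 0x500400300c002001001000002)) (.cD (nat_lit 16) (.kA false (nat_lit 0x700400100c002001001000002)) (.cD (nat_lit 24) (.kc (nat_lit 48) (nat_lit 0x3001001)) (.cD (nat_lit 32) (.kc (nat_lit 36) (nat_lit 0x5001001)) (.cD (nat_lit 40) (.kA false (nat_lit 0x100400700c002001001000002)) (.cD (nat_lit 48) (.kA false (nat_lit 0x300400500c002001001000002)) (.cD (nat_lit 56) (.kc (nat_lit 52) (nat_lit 0x7001001)) .nil)))))))) (.cD (nat_lit 32) (.kc (nat_lit 20) (nat_lit 0x3001001)) (.cD (nat_lit 48) (.dfs (nat_lit 32) (nat_lit 4100) (nat_lit 4100) (nat_lit 0x1002001) (nat_lit 0x1002001) (nat_lit 0) (nat_lit 0) (nat_lit 3) (nat_lit 0) (nat_lit 0) (nat_lit 0) (nat_lit 1) (nat_lit 0) (nat_lit 0x1008004) (nat_lit 32772) (nat_lit 0x1001004000008001014000018) (nat_lit 0x1000101110110) (.cD (nat_lit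 4) (.kA true (nat_lit 0x100400200c002001001000002)) (.cD (nat_lit 8) (.kA false (nat_lit 0x500400600c002001001000002)) (.cD (nat_lit 16) (.kc (nat_lit 52) (nat_lit 0x7001001)) (.cD (nat_lit 20) (.kA true (nat_lit 0x700400200c002001001000002)) (.cD (nat_lit 24) (.kA false (nat_lit 0x300400600c002001001000002)) (.cD (nat_lit 32) (.kc (nat_lit 36) (nat_lit 0x5001001)) (.cD (nat_lit 48) (.kc (nat_lit 48) (nat_lit 0x3001001)) .nil)))))))) .nil)))))))) (.cD (nat_lit 48) (.kF (nat_lit 4) (nat_lit 0x1002001002012004002002000003)) .nil))))))))))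
theorem c552 : (chk [] [] p552).n x286 s552 = true := by decide +kernel
noncomputable def p553 : Pf := (.anc (nat_lit 68) (nat_lit 0x10002002002000002) (nat_lit 0x1009020010004) (.czp (nat_lit 64) (nat_lit 0) (nat_lit 0x1040020010008004) z6 (.dfs (nat_lit 4) (nat_lit 4097) (nat_lit 4097) (nat_lit 1) (nat_lit 1) (nat_lit 0) (nat_lit 0) (nat_lit 3) (nat_lit 0) (nat_lit 0) (nat_lit 0) (nat_lit 1) (nat_lit 0) (nat_lit 0x1008004) (nat_lit 32772) (nat_lit 0x1001004000008001014000018) (nat_lit 0x1000101110110) (.cD (nat_lit 4) (.dfs (nat_lit 16) (nat_lit 4098) (nat_lit 4098) (nat_lit 4097) (nat_lit 4097) (nat_lit 0) (nat_lit 0) (nat_lit 3) (nat_lit 0) (nat_lit 0) (nat_lit 0) (nat_lit 1) (nat_lit 0) (nat_lit 1) (nat_lit 0) (nat_lit 1) (nat_lit 0x11001100110010) (.cD (nat_lit 4) (.kc (nat_lit 20) (nat_lit 0x3001001)) (.cD (nat_lit 16) (.dfs (nat_lit 32) (nat_lit 4100) (nat_lit 4100) (nat_lit 0x1002001) (nat_lit 0x1002001) (nat_lit 0) (nat_lit 0) (nat_lit 3) (nat_lit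 0) (nat_lit 0) (nat_lit 0) (nat_lit 1) (nat_lit 0) (nat_lit 1) (nat_lit 0) (nat_lit 1) (nat_lit 0x11001100110010) (.cD (nat_lit 4) (.kc (nat_lit 36) (nat_lit 0x5001001)) (.cD (nat_lit 16) (.kc (nat_lit 48) (nat_lit 0x3001001)) (.cD (nat_lit 20) (.kc (nat_lit 52) (nat_lit 0x7001001)) (.cD (nat_lit 32) (.dfs (nat_lit 9) (nat_lit 0x1004001003008) (nat_lit 0x1005001003008) (nat_lit 4098) (nat_lit 4098) (nat_lit 3) (nat_lit 0) (nat_lit 2) (nat_lit 1) (nat_lit 0) (nat_lit 8) (nat_lit 1) (nat_lit 0) (nat_lit 1) (nat_lit 0) (nat_lit 1) (nat_lit 0) .nil) (.cD (nat_lit 36) (.kA true (nat_lit 0x1100100000400100300d001011001000003)) (.cD (nat_lit 48) (.kA true (nat_lit 0x600800401000400400100300d001011001000003)) (.cD (nat_lit 52) (.kA true (nat_lit 0x5004003008001008004002005007011001000003)) .nil)))))))) (.cD (nat_lit 20) (.dfs (nat_lit 32) (nat_lit 4100) (nat_lit 4100) (nat_lit 0x1002001) (nat_lit 0x1002001) (nat_lit 0) (nat_lit 0) (nat_lit 3) (nat_lit 0) (nat_lit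 0) (nat_lit 0) (nat_lit 1) (nat_lit 0) (nat_lit 1) (nat_lit 0) (nat_lit 1) (nat_lit 0x11001100110010) (.cD (nat_lit 4) (.kc (nat_lit 36) (nat_lit 0x5001001)) (.cD (nat_lit 16) (.kc (nat_lit 52) (nat_lit 0x7001001)) (.cD (nat_lit 20) (.kc (nat_lit 48) (nat_lit 0x3001001)) (.cD (nat_lit 32) (.kA true (nat_lit 0x5004003008001008004002005007011001000003)) (.cD (nat_lit 36) (.dfs (nat_lit 9) (nat_lit 4102) (nat_lit 4103) (nat_lit 1) (nat_lit 1) (nat_lit 3) (nat_lit 0) (nat_lit 1) (nat_lit 4112) (nat_lit 0x40020010008004002011) (nat_lit 0) (nat_lit 1) (nat_lit 0) (nat_lit 1) (nat_lit 0) (nat_lit 1) (nat_lit 0) .nil) (.cD (nat_lit 48) (.kA true (nat_lit 0x400300500800100400100300c001002)) (.cD (nat_lit 52) (.kA true (nat_lit 0x400700100800100400100300c001002)) .nil)))))))) (.cD (nat_lit 32) (.kF (nat_lit 16) (nat_lit 0x100400100c012004002002000003)) (.cD (nat_lit 36) (.kF (nat_lit 16) (nat_lit 0x100400100c012004002002000003)) (.cD (nat_lit 48) (.dfs (nat_lit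 32) (nat_lit 4100) (nat_lit 4100) (nat_lit 0x1002001) (nat_lit 0x1002001) (nat_lit 0) (nat_lit 0) (nat_lit 3) (nat_lit 0) (nat_lit 0) (nat_lit 0) (nat_lit 1) (nat_lit 0) (nat_lit 1) (nat_lit 0) (nat_lit 1) (nat_lit 0x11001100110010) (.cD (nat_lit 4) (.kc (nat_lit 36) (nat_lit 0x5001001)) (.cD (nat_lit 16) (.kA true (nat_lit 0x400200100800100400100300c001002)) (.cD (nat_lit 20) (.kA true (nat_lit 0x400600500800100400100300c001002)) (.cD (nat_lit 32) (.kA true (nat_lit 0x5004003008001008004002005007011001000003)) (.cD (nat_lit 36) (.kA true (nat_lit 0x400500600800100400100300c001002)) (.cD (nat_lit 48) (.kc (nat_lit 48) (nat_lit 0x3001001)) (.cD (nat_lit 52) (.kc (nat_lit 52) (nat_lit 0x7001001)) .nil)))))))) (.cD (nat_lit 52) (.dfs (nat_lit 32) (nat_lit 4100) (nat_lit 4100) (nat_lit 0x1002001) (nat_lit 0x1002001) (nat_lit 0) (nat_lit 0) (nat_lit 3) (nat_lit 0) (nat_lit 0) (nat_lit 0) (nat_lit 1) (nat_lit 0) (nat_lit 1) (nat_lit 0) (nat_lit 1) (nat_lit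 0x11001100110010) (.cD (nat_lit 4) (.kc (nat_lit 36) (nat_lit 0x5001001)) (.cD (nat_lit 16) (.kA true (nat_lit 0x400200500800100400100300c001002)) (.cD (nat_lit 20) (.kA true (nat_lit 0x400600100800100400100300c001002)) (.cD (nat_lit 32) (.kA true (nat_lit 0x5004003008001008004002005007011001000003)) (.cD (nat_lit 36) (.kA true (nat_lit 0x400500200800100400100300c001002)) (.cD (nat_lit 48) (.kc (nat_lit 52) (nat_lit 0x7001001)) (.cD (nat_lit 52) (.kc (nat_lit 48) (nat_lit 0x3001001)) .nil)))))))) .nil)))))))) (.cD (nat_lit 8) (.dfs (nat_lit 16) (nat_lit 4098) (nat_lit 4098) (nat_lit 4097) (nat_lit 4097) (nat_lit 0) (nat_lit 0) (nat_lit 3) (nat_lit 0) (nat_lit 0) (nat_lit 0) (nat_lit 1) (nat_lit 0) (nat_lit 1) (nat_lit 0) (nat_lit 1) (nat_lit 0x101010101010100) (.cD (nat_lit 8) (.kc (nat_lit 20) (nat_lit 0x3001001)) (.cD (nat_lit 16) (.dfs (nat_lit 32) (nat_lit 4100) (nat_lit 4100) (nat_lit 0x1002001) (nat_lit 0x1002001) (nat_lit 0) (nat_lit 0) (nat_lit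 3) (nat_lit 0) (nat_lit 0) (nat_lit 0) (nat_lit 1) (nat_lit 0) (nat_lit 1) (nat_lit 0) (nat_lit 1) (nat_lit 0x101010101010100) (.cD (nat_lit 8) (.kc (nat_lit 36) (nat_lit 0x5001001)) (.cD (nat_lit 16) (.kc (nat_lit 48) (nat_lit 0x3001001)) (.cD (nat_lit 24) (.kc (nat_lit 52) (nat_lit 0x7001001)) (.cD (nat_lit 32) (.kA false (nat_lit 0x100400200c002006004008014005011001000003)) (.cD (nat_lit 40) (.kA false (nat_lit 0x1100100000100500200d002011001000003)) (.cD (nat_lit 48) (.kA false (nat_lit 0xe00800c01000400700300200b002011001000003)) (.cD (nat_lit 56) (.kA false (nat_lit 0x700400200c002006004008014005011001000003)) .nil)))))))) (.cD (nat_lit 24) (.dfs (nat_lit 32) (nat_lit 4100) (nat_lit 4100) (nat_lit 0x1002001) (nat_lit 0x1002001) (nat_lit 0) (nat_lit 0) (nat_lit 3) (nat_lit 0) (nat_lit 0) (nat_lit 0) (nat_lit 1) (nat_lit 0) (nat_lit 1) (nat_lit 0) (nat_lit 1) (nat_lit 0x101010101010100) (.cD (nat_lit 8) (.kc (nat_lit 36) (nat_lit 0x5001001)) (.cD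 (nat_lit 16) (.kc (nat_lit 52) (nat_lit 0x7001001)) (.cD (nat_lit 24) (.kc (nat_lit 48) (nat_lit 0x3001001)) (.cD (nat_lit 32) (.kA false (nat_lit 0x100400600c002006004008014005011001000003)) (.cD (nat_lit 40) (.kA false (nat_lit 0x1100100000100500600d002011001000003)) (.cD (nat_lit 48) (.kA false (nat_lit 0x700400600c002006004008014005011001000003)) (.cD (nat_lit 56) (.kA false (nat_lit 0xe00800a01000400700300600b002011001000003)) .nil)))))))) (.cD (nat_lit 32) (.kF (nat_lit 16) (nat_lit 0x100400100c012004002002000003)) (.cD (nat_lit 40) (.kF (nat_lit 16) (nat_lit 0x100400100c012004002002000003)) (.cD (nat_lit 48) (.dfs (nat_lit 32) (nat_lit 4100) (nat_lit 4100) (nat_lit 0x1002001) (nat_lit 0x1002001) (nat_lit 0) (nat_lit 0) (nat_lit 3) (nat_lit 0) (nat_lit 0) (nat_lit 0) (nat_lit 1) (nat_lit 0) (nat_lit 1) (nat_lit 0) (nat_lit 1) (nat_lit 0x101010101010100) (.cD (nat_lit 8) (.kc (nat_lit 36) (nat_lit 0x5001001)) (.cD (nat_lit 16) (.kA false (nat_lit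 0xe00800401000400700300100b002011001000003)) (.cD (nat_lit 24) (.kA false (nat_lit 0x700400500c002006004008014005011001000003)) (.cD (nat_lit 32) (.kA false (nat_lit 0x100400300c002006004008014005011001000003)) (.cD (nat_lit 40) (.kA false (nat_lit 0x1100100000100500700d002011001000003)) (.cD (nat_lit 48) (.kc (nat_lit 48) (nat_lit 0x3001001)) (.cD (nat_lit 56) (.kc (nat_lit 52) (nat_lit 0x7001001)) .nil)))))))) (.cD (nat_lit 56) (.dfs (nat_lit 32) (nat_lit 4100) (nat_lit 4100) (nat_lit 0x1002001) (nat_lit 0x1002001) (nat_lit 0) (nat_lit 0) (nat_lit 3) (nat_lit 0) (nat_lit 0) (nat_lit 0) (nat_lit 1) (nat_lit 0) (nat_lit 1) (nat_lit 0) (nat_lit 1) (nat_lit 0x101010101010100) (.cD (nat_lit 8) (.kc (nat_lit 36) (nat_lit 0x5001001)) (.cD (nat_lit 16) (.kA false (nat_lit 0x700400100c002006004008014005011001000003)) (.cD (nat_lit 24) (.kA false (nat_lit 0xe00800201000400700300500b002011001000003)) (.cD (nat_lit 32) (.kA false (nat_lit 0x100400700c002006004008014005011001000003))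 (.cD (nat_lit 40) (.kA false (nat_lit 0x1100100000100500300d002011001000003)) (.cD (nat_lit 48) (.kc (nat_lit 52) (nat_lit 0x7001001)) (.cD (nat_lit 56) (.kc (nat_lit 48) (nat_lit 0x3001001)) .nil)))))))) .nil)))))))) (.cD (nat_lit 16) (.kF (nat_lit 4) (nat_lit 0x2002000001003001002)) (.cD (nat_lit 20) (.kF (nat_lit 4) (nat_lit 0xe01e003001003001002)) (.cD (nat_lit 24) (.kF (nat_lit 4) (nat_lit 0x1002001002012004002002000003)) (.cD (nat_lit 32) (.dfs (nat_lit 16) (nat_lit 4098) (nat_lit 4098) (nat_lit 4097) (nat_lit 4097) (nat_lit 0) (nat_lit 0) (nat_lit 3) (nat_lit 0) (nat_lit 0) (nat_lit 0) (nat_lit 1) (nat_lit 0) (nat_lit 0x1008004) (nat_lit 32772) (nat_lit 0x1001004000008001014000018) (nat_lit 0x1000101110110) (.cD (nat_lit 4) (.kF (nat_lit 16) (nat_lit 0x11001000001006001002)) (.cD (nat_lit 8) (.kF (nat_lit 16) (nat_lit 0x11001000001006001002)) (.cD (nat_lit 16) (.dfs (nat_lit 32) (nat_lit 4100) (nat_lit 4100) (nat_lit 0x1002001) (nat_lit 0x1002001)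 (nat_lit 0) (nat_lit 0) (nat_lit 3) (nat_lit 0) (nat_lit 0) (nat_lit 0) (nat_lit 1) (nat_lit 0) (nat_lit 0x1008004) (nat_lit 32772) (nat_lit 0x1001004000008001014000018) (nat_lit 0x1000101110110) (.cD (nat_lit 4) (.kA true (nat_lit 0x100400600c002011001000002)) (.cD (nat_lit 8) (.kA false (nat_lit 0x500400200c002011001000002)) (.cD (nat_lit 16) (.kc (nat_lit 48) (nat_lit 0x3001001)) (.cD (nat_lit 20) (.kA true (nat_lit 0x300400600c002011001000002)) (.cD (nat_lit 24) (.kA false (nat_lit 0x700400200c002011001000002)) (.cD (nat_lit 32) (.kc (nat_lit 36) (nat_lit 0x5001001)) (.cD (nat_lit 48) (.kc (nat_lit 52) (nat_lit 0x7001001)) .nil)))))))) (.cD (nat_lit 20) (.dfs (nat_lit 32) (nat_lit 4100) (nat_lit 4100) (nat_lit 0x1002001) (nat_lit 0x1002001) (nat_lit 0) (nat_lit 0) (nat_lit 3) (nat_lit 0) (nat_lit 0) (nat_lit 0) (nat_lit 1) (nat_lit 0) (nat_lit 1) (nat_lit 0) (nat_lit 1) (nat_lit 0x11001100110010) (.cD (nat_lit 4) (.kA true (nat_lit 0x100400700c002011001000002))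 (.cD (nat_lit 16) (.kA true (nat_lit 0x300400500c002011001000002)) (.cD (nat_lit 20) (.kc (nat_lit 48) (nat_lit 0x3001001)) (.cD (nat_lit 32) (.kc (nat_lit 36) (nat_lit 0x5001001)) (.cD (nat_lit 36) (.dfs (nat_lit 9) (nat_lit 4100) (nat_lit 4101) (nat_lit 1) (nat_lit 1) (nat_lit 3) (nat_lit 0) (nat_lit 1) (nat_lit 4128) (nat_lit 0x40020010008004002011) (nat_lit 0) (nat_lit 1) (nat_lit 0) (nat_lit 1) (nat_lit 0) (nat_lit 1) (nat_lit 0) .nil) (.cD (nat_lit 48) (.kA true (nat_lit 0x700400100c002011001000002)) (.cD (nat_lit 52) (.kc (nat_lit 52) (nat_lit 0x7001001)) .nil)))))))) (.cD (nat_lit 24) (.dfs (nat_lit 32) (nat_lit 4100) (nat_lit 4100) (nat_lit 0x1002001) (nat_lit 0x1002001) (nat_lit 0) (nat_lit 0) (nat_lit 3) (nat_lit 0) (nat_lit 0) (nat_lit 0) (nat_lit 1) (nat_lit 0) (nat_lit 1) (nat_lit 0) (nat_lit 1) (nat_lit 0x101010101010100) (.cD (nat_lit 8) (.kA false (nat_lit 0x500400300c002011001000002)) (.cD (nat_lit 16) (.kA false (nat_lit 0x700400100c002011001000002))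 (.cD (nat_lit 24) (.kc (nat_lit 48) (nat_lit 0x3001001)) (.cD (nat_lit 32) (.kc (nat_lit 36) (nat_lit 0x5001001)) (.cD (nat_lit 40) (.kA false (nat_lit 0x100400700c002011001000002)) (.cD (nat_lit 48) (.kA false (nat_lit 0x300400500c002011001000002)) (.cD (nat_lit 56) (.kc (nat_lit 52) (nat_lit 0x7001001)) .nil)))))))) (.cD (nat_lit 32) (.kc (nat_lit 20) (nat_lit 0x3001001)) (.cD (nat_lit 48) (.dfs (nat_lit 32) (nat_lit 4100) (nat_lit 4100) (nat_lit 0x1002001) (nat_lit 0x1002001) (nat_lit 0) (nat_lit 0) (nat_lit 3) (nat_lit 0) (nat_lit 0) (nat_lit 0) (nat_lit 1) (nat_lit 0) (nat_lit 0x1008004) (nat_lit 32772) (nat_lit 0x1001004000008001014000018) (nat_lit 0x1000101110110) (.cD (nat_lit 4) (.kA true (nat_lit 0x100400200c002011001000002)) (.cD (nat_lit 8) (.kA false (nat_lit 0x500400600c002011001000002)) (.cD (nat_lit 16) (.kc (nat_lit 52) (nat_lit 0x7001001)) (.cD (nat_lit 20) (.kA true (nat_lit 0x700400200c002011001000002)) (.cD (nat_lit 24) (.kA false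 (nat_lit 0x300400600c002011001000002)) (.cD (nat_lit 32) (.kc (nat_lit 36) (nat_lit 0x5001001)) (.cD (nat_lit 48) (.kc (nat_lit 48) (nat_lit 0x3001001)) .nil)))))))) .nil)))))))) (.cD (nat_lit 48) (.kF (nat_lit 4) (nat_lit 0x1002001002012004002002000003)) .nil))))))))))
theorem c553 : (chk [] [] p553).n x287 s553 = true := by decide +kernel
noncomputable def p554 : Pf := (.anc (nat_lit 68) (nat_lit 0x10002002002000002) (nat_lit 0x1009020010004) (.czp (nat_lit 64) (nat_lit 0) (nat_lit 0x1040020010008004) z6 (.dfs (nat_lit 4) (nat_lit 4097) (nat_lit 4097) (nat_lit 1) (nat_lit 1) (nat_lit 0) (nat_lit 0) (nat_lit 3) (nat_lit 0) (nat_lit 0) (nat_lit 0) (nat_lit 1) (nat_lit 0) (nat_lit 0x1008004) (nat_lit 32772) (nat_lit 0x1001004000008001014000018) (nat_lit 0x1000101110110) (.cD (nat_lit 4) (.dfs (nat_lit 16) (nat_lit 4098) (nat_lit 4098) (nat_lit 4097) (nat_lit 4097) (nat_lit 0) (nat_lit 0) (nat_lit 3) (nat_lit 0) (nat_lit 0) (nat_lit 0) (nat_lit 1) (nat_lit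 0) (nat_lit 1) (nat_lit 0) (nat_lit 1) (nat_lit 0x11001100110010) (.cD (nat_lit 4) (.kc (nat_lit 20) (nat_lit 0x3001001)) (.cD (nat_lit 16) (.dfs (nat_lit 32) (nat_lit 4100) (nat_lit 4100) (nat_lit 0x1002001) (nat_lit 0x1002001) (nat_lit 0) (nat_lit 0) (nat_lit 3) (nat_lit 0) (nat_lit 0) (nat_lit 0) (nat_lit 1) (nat_lit 0) (nat_lit 1) (nat_lit 0) (nat_lit 1) (nat_lit 0x11001100110010) (.cD (nat_lit 4) (.kc (nat_lit 36) (nat_lit 0x5001001)) (.cD (nat_lit 16) (.kc (nat_lit 48) (nat_lit 0x3001001)) (.cD (nat_lit 20) (.kc (nat_lit 52) (nat_lit 0x7001001)) (.cD (nat_lit 32) (.dfs (nat_lit 9) (nat_lit 0x1004001003008) (nat_lit 0x1005001003008) (nat_lit 4098) (nat_lit 4098) (nat_lit 3) (nat_lit 0) (nat_lit 2) (nat_lit 1) (nat_lit 0) (nat_lit 8) (nat_lit 1) (nat_lit 0) (nat_lit 1) (nat_lit 0) (nat_lit 1) (nat_lit 0) .nil) (.cD (nat_lit 36) (.kA true (nat_lit 0x1100100000400100300d001011001000003)) (.cD (nat_lit 48) (.kA true (nat_lit 0x600800401000400400100300d001011001000003))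 (.cD (nat_lit 52) (.kA true (nat_lit 0x5004003008001008004002005007011001000003)) .nil)))))))) (.cD (nat_lit 20) (.dfs (nat_lit 32) (nat_lit 4100) (nat_lit 4100) (nat_lit 0x1002001) (nat_lit 0x1002001) (nat_lit 0) (nat_lit 0) (nat_lit 3) (nat_lit 0) (nat_lit 0) (nat_lit 0) (nat_lit 1) (nat_lit 0) (nat_lit 1) (nat_lit 0) (nat_lit 1) (nat_lit 0x11001100110010) (.cD (nat_lit 4) (.kc (nat_lit 36) (nat_lit 0x5001001)) (.cD (nat_lit 16) (.kc (nat_lit 52) (nat_lit 0x7001001)) (.cD (nat_lit 20) (.kc (nat_lit 48) (nat_lit 0x3001001)) (.cD (nat_lit 32) (.kA true (nat_lit 0x5004003008001008004002005007011001000003)) (.cD (nat_lit 36) (.dfs (nat_lit 9) (nat_lit 4102) (nat_lit 4103) (nat_lit 1) (nat_lit 1) (nat_lit 3) (nat_lit 0) (nat_lit 1) (nat_lit 4112) (nat_lit 0x40020010008004002011) (nat_lit 0) (nat_lit 1) (nat_lit 0) (nat_lit 1) (nat_lit 0) (nat_lit 1) (nat_lit 0) .nil) (.cD (nat_lit 48) (.kA true (nat_lit 0x400300500800100400100300c001002)) (.cD (nat_lit 52)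 (.kA true (nat_lit 0x400700100800100400100300c001002)) .nil)))))))) (.cD (nat_lit 32) (.kF (nat_lit 16) (nat_lit 0x100400100c012004002002000003)) (.cD (nat_lit 36) (.kF (nat_lit 16) (nat_lit 0x100400100c012004002002000003)) (.cD (nat_lit 48) (.dfs (nat_lit 32) (nat_lit 4100) (nat_lit 4100) (nat_lit 0x1002001) (nat_lit 0x1002001) (nat_lit 0) (nat_lit 0) (nat_lit 3) (nat_lit 0) (nat_lit 0) (nat_lit 0) (nat_lit 1) (nat_lit 0) (nat_lit 1) (nat_lit 0) (nat_lit 1) (nat_lit 0x11001100110010) (.cD (nat_lit 4) (.kc (nat_lit 36) (nat_lit 0x5001001)) (.cD (nat_lit 16) (.kA true (nat_lit 0x400200100800100400100300c001002)) (.cD (nat_lit 20) (.kA true (nat_lit 0x400600500800100400100300c001002)) (.cD (nat_lit 32) (.kA true (nat_lit 0x5004003008001008004002005007011001000003)) (.cD (nat_lit 36) (.kA true (nat_lit 0x400500600800100400100300c001002)) (.cD (nat_lit 48) (.kc (nat_lit 48) (nat_lit 0x3001001)) (.cD (nat_lit 52) (.kc (nat_lit 52) (nat_lit 0x7001001)) .nil))))))))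 (.cD (nat_lit 52) (.dfs (nat_lit 32) (nat_lit 4100) (nat_lit 4100) (nat_lit 0x1002001) (nat_lit 0x1002001) (nat_lit 0) (nat_lit 0) (nat_lit 3) (nat_lit 0) (nat_lit 0) (nat_lit 0) (nat_lit 1) (nat_lit 0) (nat_lit 1) (nat_lit 0) (nat_lit 1) (nat_lit 0x11001100110010) (.cD (nat_lit 4) (.kc (nat_lit 36) (nat_lit 0x5001001)) (.cD (nat_lit 16) (.kA true (nat_lit 0x400200500800100400100300c001002)) (.cD (nat_lit 20) (.kA true (nat_lit 0x400600100800100400100300c001002)) (.cD (nat_lit 32) (.kA true (nat_lit 0x5004003008001008004002005007011001000003)) (.cD (nat_lit 36) (.kA true (nat_lit 0x400500200800100400100300c001002)) (.cD (nat_lit 48) (.kc (nat_lit 52) (nat_lit 0x7001001)) (.cD (nat_lit 52) (.kc (nat_lit 48) (nat_lit 0x3001001)) .nil)))))))) .nil)))))))) (.cD (nat_lit 8) (.dfs (nat_lit 16) (nat_lit 4098) (nat_lit 4098) (nat_lit 4097) (nat_lit 4097) (nat_lit 0) (nat_lit 0) (nat_lit 3) (nat_lit 0) (nat_lit 0) (nat_lit 0) (nat_lit 1) (nat_lit 0) (nat_lit 1)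 (nat_lit 0) (nat_lit 1) (nat_lit 0x101010101010100) (.cD (nat_lit 8) (.kc (nat_lit 20) (nat_lit 0x3001001)) (.cD (nat_lit 16) (.dfs (nat_lit 32) (nat_lit 4100) (nat_lit 4100) (nat_lit 0x1002001) (nat_lit 0x1002001) (nat_lit 0) (nat_lit 0) (nat_lit 3) (nat_lit 0) (nat_lit 0) (nat_lit 0) (nat_lit 1) (nat_lit 0) (nat_lit 1) (nat_lit 0) (nat_lit 1) (nat_lit 0x101010101010100) (.cD (nat_lit 8) (.kc (nat_lit 36) (nat_lit 0x5001001)) (.cD (nat_lit 16) (.kc (nat_lit 48) (nat_lit 0x3001001)) (.cD (nat_lit 24) (.kc (nat_lit 52) (nat_lit 0x7001001)) (.cD (nat_lit 32) (.kA false (nat_lit 0x100400200c002006004008014005011001000003)) (.cD (nat_lit 40) (.kA false (nat_lit 0x1100100000100500200d002011001000003)) (.cD (nat_lit 48) (.kA false (nat_lit 0xe00800c01000400700300200b002011001000003)) (.cD (nat_lit 56) (.kA false (nat_lit 0x700400200c002006004008014005011001000003)) .nil)))))))) (.cD (nat_lit 24) (.dfs (nat_lit 32) (nat_lit 4100) (nat_lit 4100) (nat_lit 0x1002001)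 (nat_lit 0x1002001) (nat_lit 0) (nat_lit 0) (nat_lit 3) (nat_lit 0) (nat_lit 0) (nat_lit 0) (nat_lit 1) (nat_lit 0) (nat_lit 1) (nat_lit 0) (nat_lit 1) (nat_lit 0x101010101010100) (.cD (nat_lit 8) (.kc (nat_lit 36) (nat_lit 0x5001001)) (.cD (nat_lit 16) (.kc (nat_lit 52) (nat_lit 0x7001001)) (.cD (nat_lit 24) (.kc (nat_lit 48) (nat_lit 0x3001001)) (.cD (nat_lit 32) (.kA false (nat_lit 0x100400600c002006004008014005011001000003)) (.cD (nat_lit 40) (.kA false (nat_lit 0x1100100000100500600d002011001000003)) (.cD (nat_lit 48) (.kA false (nat_lit 0x700400600c002006004008014005011001000003)) (.cD (nat_lit 56) (.kA false (nat_lit 0xe00800a01000400700300600b002011001000003)) .nil)))))))) (.cD (nat_lit 32) (.kF (nat_lit 16) (nat_lit 0x100400100c012004002002000003)) (.cD (nat_lit 40) (.kF (nat_lit 16) (nat_lit 0x100400100c012004002002000003)) (.cD (nat_lit 48) (.dfs (nat_lit 32) (nat_lit 4100) (nat_lit 4100) (nat_lit 0x1002001) (nat_lit 0x1002001) (nat_lit 0)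 (nat_lit 0) (nat_lit 3) (nat_lit 0) (nat_lit 0) (nat_lit 0) (nat_lit 1) (nat_lit 0) (nat_lit 1) (nat_lit 0) (nat_lit 1) (nat_lit 0x101010101010100) (.cD (nat_lit 8) (.kc (nat_lit 36) (nat_lit 0x5001001)) (.cD (nat_lit 16) (.kA false (nat_lit 0xe00800401000400700300100b002011001000003)) (.cD (nat_lit 24) (.kA false (nat_lit 0x700400500c002006004008014005011001000003)) (.cD (nat_lit 32) (.kA false (nat_lit 0x100400300c002006004008014005011001000003)) (.cD (nat_lit 40) (.kA false (nat_lit 0x1100100000100500700d002011001000003)) (.cD (nat_lit 48) (.kc (nat_lit 48) (nat_lit 0x3001001)) (.cD (nat_lit 56) (.kc (nat_lit 52) (nat_lit 0x7001001)) .nil)))))))) (.cD (nat_lit 56) (.dfs (nat_lit 32) (nat_lit 4100) (nat_lit 4100) (nat_lit 0x1002001) (nat_lit 0x1002001) (nat_lit 0) (nat_lit 0) (nat_lit 3) (nat_lit 0) (nat_lit 0) (nat_lit 0) (nat_lit 1) (nat_lit 0) (nat_lit 1) (nat_lit 0) (nat_lit 1) (nat_lit 0x101010101010100) (.cD (nat_lit 8) (.kc (nat_lit 36) (nat_lit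 0x5001001)) (.cD (nat_lit 16) (.kA false (nat_lit 0x700400100c002006004008014005011001000003)) (.cD (nat_lit 24) (.kA false (nat_lit 0xe00800201000400700300500b002011001000003)) (.cD (nat_lit 32) (.kA false (nat_lit 0x100400700c002006004008014005011001000003)) (.cD (nat_lit 40) (.kA false (nat_lit 0x1100100000100500300d002011001000003)) (.cD (nat_lit 48) (.kc (nat_lit 52) (nat_lit 0x7001001)) (.cD (nat_lit 56) (.kc (nat_lit 48) (nat_lit 0x3001001)) .nil)))))))) .nil)))))))) (.cD (nat_lit 16) (.kF (nat_lit 4) (nat_lit 0x2002000001003001002)) (.cD (nat_lit 20) (.kF (nat_lit 4) (nat_lit 0xe01e003001003001002)) (.cD (nat_lit 24) (.kF (nat_lit 4) (nat_lit 0x1002001002012004002002000003)) (.cD (nat_lit 32) (.dfs (nat_lit 16) (nat_lit 4098) (nat_lit 4098) (nat_lit 4097) (nat_lit 4097) (nat_lit 0) (nat_lit 0) (nat_lit 3) (nat_lit 0) (nat_lit 0) (nat_lit 0) (nat_lit 1) (nat_lit 0) (nat_lit 0x1008004) (nat_lit 32772) (nat_lit 0x1001004000008001014000018) (nat_lit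 0x1000101110110) (.cD (nat_lit 4) (.kF (nat_lit 16) (nat_lit 0x11001000001006001002)) (.cD (nat_lit 8) (.kF (nat_lit 16) (nat_lit 0x11001000001006001002)) (.cD (nat_lit 16) (.dfs (nat_lit 32) (nat_lit 4100) (nat_lit 4100) (nat_lit 0x1002001) (nat_lit 0x1002001) (nat_lit 0) (nat_lit 0) (nat_lit 3) (nat_lit 0) (nat_lit 0) (nat_lit 0) (nat_lit 1) (nat_lit 0) (nat_lit 0x1008004) (nat_lit 32772) (nat_lit 0x1001004000008001014000018) (nat_lit 0x1000101110110) (.cD (nat_lit 4) (.kA true (nat_lit 0x100400600c002011001000002)) (.cD (nat_lit 8) (.kA false (nat_lit 0x500400200c002011001000002)) (.cD (nat_lit 16) (.kc (nat_lit 48) (nat_lit 0x3001001)) (.cD (nat_lit 20) (.kA true (nat_lit 0x300400600c002011001000002)) (.cD (nat_lit 24) (.kA false (nat_lit 0x700400200c002011001000002)) (.cD (nat_lit 32) (.kc (nat_lit 36) (nat_lit 0x5001001)) (.cD (nat_lit 48) (.kc (nat_lit 52) (nat_lit 0x7001001)) .nil)))))))) (.cD (nat_lit 20) (.dfs (nat_lit 32) (nat_lit 4100) (nat_lit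 4100) (nat_lit 0x1002001) (nat_lit 0x1002001) (nat_lit 0) (nat_lit 0) (nat_lit 3) (nat_lit 0) (nat_lit 0) (nat_lit 0) (nat_lit 1) (nat_lit 0) (nat_lit 1) (nat_lit 0) (nat_lit 1) (nat_lit 0x11001100110010) (.cD (nat_lit 4) (.kA true (nat_lit 0x100400700c002011001000002)) (.cD (nat_lit 16) (.kA true (nat_lit 0x300400500c002011001000002)) (.cD (nat_lit 20) (.kc (nat_lit 48) (nat_lit 0x3001001)) (.cD (nat_lit 32) (.kc (nat_lit 36) (nat_lit 0x5001001)) (.cD (nat_lit 36) (.dfs (nat_lit 9) (nat_lit 4100) (nat_lit 4101) (nat_lit 1) (nat_lit 1) (nat_lit 3) (nat_lit 0) (nat_lit 1) (nat_lit 4128) (nat_lit 0x40020010008004002011) (nat_lit 0) (nat_lit 1) (nat_lit 0) (nat_lit 1) (nat_lit 0) (nat_lit 1) (nat_lit 0) .nil) (.cD (nat_lit 48) (.kA true (nat_lit 0x700400100c002011001000002)) (.cD (nat_lit 52) (.kc (nat_lit 52) (nat_lit 0x7001001)) .nil)))))))) (.cD (nat_lit 24) (.dfs (nat_lit 32) (nat_lit 4100) (nat_lit 4100) (nat_lit 0x1002001) (nat_lit 0x1002001) (nat_lit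 0) (nat_lit 0) (nat_lit 3) (nat_lit 0) (nat_lit 0) (nat_lit 0) (nat_lit 1) (nat_lit 0) (nat_lit 1) (nat_lit 0) (nat_lit 1) (nat_lit 0x101010101010100) (.cD (nat_lit 8) (.kA false (nat_lit 0x500400300c002011001000002)) (.cD (nat_lit 16) (.kA false (nat_lit 0x700400100c002011001000002)) (.cD (nat_lit 24) (.kc (nat_lit 48) (nat_lit 0x3001001)) (.cD (nat_lit 32) (.kc (nat_lit 36) (nat_lit 0x5001001)) (.cD (nat_lit 40) (.kA false (nat_lit 0x100400700c002011001000002)) (.cD (nat_lit 48) (.kA false (nat_lit 0x300400500c002011001000002)) (.cD (nat_lit 56) (.kc (nat_lit 52) (nat_lit 0x7001001)) .nil)))))))) (.cD (nat_lit 32) (.kc (nat_lit 20) (nat_lit 0x3001001)) (.cD (nat_lit 48) (.dfs (nat_lit 32) (nat_lit 4100) (nat_lit 4100) (nat_lit 0x1002001) (nat_lit 0x1002001) (nat_lit 0) (nat_lit 0) (nat_lit 3) (nat_lit 0) (nat_lit 0) (nat_lit 0) (nat_lit 1) (nat_lit 0) (nat_lit 0x1008004) (nat_lit 32772) (nat_lit 0x1001004000008001014000018) (nat_lit 0x1000101110110)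 (.cD (nat_lit 4) (.kA true (nat_lit 0x100400200c002011001000002)) (.cD (nat_lit 8) (.kA false (nat_lit 0x500400600c002011001000002)) (.cD (nat_lit 16) (.kc (nat_lit 52) (nat_lit 0x7001001)) (.cD (nat_lit 20) (.kA true (nat_lit 0x700400200c002011001000002)) (.cD (nat_lit 24) (.kA false (nat_lit 0x300400600c002011001000002)) (.cD (nat_lit 32) (.kc (nat_lit 36) (nat_lit 0x5001001)) (.cD (nat_lit 48) (.kc (nat_lit 48) (nat_lit 0x3001001)) .nil)))))))) .nil)))))))) (.cD (nat_lit 48) (.kF (nat_lit 4) (nat_lit 0x1002001002012004002002000003)) .nil))))))))))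
theorem c554 : (chk [] [] p554).n x288 s554 = true := by decide +kernel
noncomputable def p555 : Pf := (.ext (nat_lit 1) (nat_lit 0x4006008010002001) (nat_lit 0x104003002000400b) (nat_lit 0x1e00800400200d00200200200001000800200400d00102100100001000800600400d002005) (nat_lit 0x400600801e) (nat_lit 0x1002001) (nat_lit 0x1006005) (nat_lit 0x1c008004006001014008004002005) (.dfs (nat_lit 1) (nat_lit 0x1002004008010) (nat_lit 0x1002004008014) (nat_lit 4097) (nat_lit 4101) (nat_lit 4) (nat_lit 0) (nat_lit 2) (nat_lit 1) (nat_lit 0x2004008010001001) (nat_lit 5) (nat_lit 1) (nat_lit 0) (nat_lit 1) (nat_lit 0) (nat_lit 1) (nat_lit 0x1020102010201020) (.cD (nat_lit 5) (.kS (nat_lit 1) (nat_lit 0xc008010020001008008000002) (nat_lit 0x1025032) (nat_lit 0x800400200501000800400e009) (nat_lit 0x400400000400801002000100b00100800800000c00801002000900b002004)) (.cD (nat_lit 12) (.dfs (nat_lit 2) (nat_lit 0x1004008010020) (nat_lit 0x100c008010038) (nat_lit 0x1002001) (nat_lit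 0x1002001) (nat_lit 0) (nat_lit 0) (nat_lit 2) (nat_lit 1) (nat_lit 0x4008010020001001) (nat_lit 6) (nat_lit 1) (nat_lit 0) (nat_lit 4105) (nat_lit 9) (nat_lit 0x100000f00001f) (nat_lit 0x80008000) (.cD (nat_lit 15) (.kS (nat_lit 0) (nat_lit 0x2501003004d002004004000002) (nat_lit 0x101d01e038) (nat_lit 0xc004002005010008004006001030010008004002011) (nat_lit 0x2801003007200f01c00500101701003004000200100800100400400002501003004d02d03e037001004)) (.cD (nat_lit 31) (.kS (nat_lit 0) (nat_lit 0x2002000017010030040001002) (nat_lit 0x102c03f009) (nat_lit 0xc004002005010008004006001030010008004002011) (nat_lit 0x801003004200f00c01500200501003007d01d02e007002017010030040002001008002002002000004)) .nil))) (.cD (nat_lit 21) (.kS (nat_lit 1) (nat_lit 0xc008010020001008008000002) (nat_lit 0x1035022) (nat_lit 0x800400200501000800400e009) (nat_lit 0x400400000400801002000100b00100800800000c00801002000900b002004)) (.cD (nat_lit 28) (.dfs (nat_lit 2) (nat_lit 0x1004008010020)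 (nat_lit 0x100c008010038) (nat_lit 0x1002001) (nat_lit 0x1002001) (nat_lit 0) (nat_lit 0) (nat_lit 2) (nat_lit 1) (nat_lit 0x4008010020001001) (nat_lit 6) (nat_lit 1) (nat_lit 0) (nat_lit 4105) (nat_lit 9) (nat_lit 0x100000f00001f) (nat_lit 0x80008000) (.cD (nat_lit 15) (.kA false (nat_lit 0x1501003004d001018010030042001017010030070001002002000004)) (.cD (nat_lit 31) (.kA false (nat_lit 0x2501003007d001028010030072001017010030040001003)) .nil))) (.cD (nat_lit 37) (.kS (nat_lit 1) (nat_lit 0xc008010020001008008000002) (nat_lit 0x1005012) (nat_lit 0x800400200501000800400e009) (nat_lit 0x400400000400801002000100b00100800800000c00801002000900b002004)) (.cD (nat_lit 44) (.dfs (nat_lit 2) (nat_lit 0x1004008010020) (nat_lit 0x100c008010038) (nat_lit 0x1002001) (nat_lit 0x1002001) (nat_lit 0) (nat_lit 0) (nat_lit 2) (nat_lit 1) (nat_lit 0x4008010020001001) (nat_lit 6) (nat_lit 1) (nat_lit 0) (nat_lit 4105) (nat_lit 9) (nat_lit 0x100000f00001f) (nat_lit 0x80008000)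 (.cD (nat_lit 15) (.kS (nat_lit 0) (nat_lit 0x21001000017010030040001002) (nat_lit 0x100c02f) (nat_lit 0xc004002005010008004006001) (nat_lit 0x3801003006201f01c00203501003004d02d03e002017010030040002001002001021000004)) (.cD (nat_lit 31) (.kS (nat_lit 0) (nat_lit 0x8010030072001017010030040001002) (nat_lit 0x100d00e) (nat_lit 0xc004002005010008004006001) (nat_lit 0x200200000501003007d01d03e00201701003004000200100200801003007201f02c002004)) .nil))) (.cD (nat_lit 53) (.kS (nat_lit 1) (nat_lit 0xc008010020001008008000002) (nat_lit 0x1015002) (nat_lit 0x800400200501000800400e009) (nat_lit 0x400400000400801002000100b00100800800000c00801002000900b002004)) (.cD (nat_lit 60) (.dfs (nat_lit 2) (nat_lit 0x1004008010020) (nat_lit 0x100c008010038) (nat_lit 0x1002001) (nat_lit 0x1002001) (nat_lit 0) (nat_lit 0) (nat_lit 2) (nat_lit 1) (nat_lit 0x4008010020001001) (nat_lit 6) (nat_lit 1) (nat_lit 0) (nat_lit 4105) (nat_lit 9) (nat_lit 0x100000f00001f) (nat_lit 0x80008000)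 (.cD (nat_lit 15) (.kA false (nat_lit 0x501003004d001002002000008010030072001017010030040001004)) (.cD (nat_lit 31) (.kA false (nat_lit 0x2501003007d001028010030062001007010030050001021001000004)) .nil))) .nil))))))))))
theorem c555 : (chk [] [] p555).n x289 s555 = true := by decide +kernel
noncomputable def p556 : Pf := (.ext (nat_lit 1) (nat_lit 0x3801003004300100f01002004a003002) (nat_lit 0x1080060040008) (nat_lit 0x4b03002801000104702003a010004010008006004006003) (nat_lit 0x300100400f) (nat_lit 4098) (nat_lit 4110) (nat_lit 0xa004002001) (.dfs (nat_lit 2) (nat_lit 0x1001002004008) (nat_lit 0x100100200400a) (nat_lit 1) (nat_lit 1) (nat_lit 2) (nat_lit 0) (nat_lit 2) (nat_lit 1) (nat_lit 0x1002004008001001) (nat_lit 14) (nat_lit 1) (nat_lit 0) (nat_lit 4227) (nat_lit 131) (nat_lit 0x100008d00009d0000ad0000bd) (nat_lit 0x200020002000200000000000000000000000000000000000) (.cD (nat_lit 141) (.kA false (nat_lit 0x2f02003006800500a00800c01d00204200200000a00400c01d00102f010030068006005))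 (.cD (nat_lit 157) (.kA false (nat_lit 0x2f02003006800500a00800c01d00200800800000a00400c01d00102f010030068006005)) (.cD (nat_lit 173) (.kA false (nat_lit 0x2f02003006800500a00800c01d00204200200000a00400c01d00102f010030068006005)) (.cD (nat_lit 189) (.kA false (nat_lit 0x2f02003006800500a00800c01d00200800800000a00400c01d00102f010030068006005)) .nil))))))
theorem c556 : (chk [] [] p556).n x290 s556 = true := by decide +kernel
noncomputable def p557 : Pf := (.ext (nat_lit 0) (nat_lit 0) (nat_lit 0x1080020040010014) (nat_lit 0x10008004002003005001) (nat_lit 0x4006008010) (nat_lit 0x1009003) (nat_lit 0x100a009) (nat_lit 0x16008004002007012008004002003) (.dfs (nat_lit 3) (nat_lit 0x1004006008010) (nat_lit 0x1004006008012) (nat_lit 0x1002001) (nat_lit 0x1002003) (nat_lit 2) (nat_lit 0) (nat_lit 2) (nat_lit 0) (nat_lit 0) (nat_lit 9) (nat_lit 1) (nat_lit 0) (nat_lit 1) (nat_lit 0) (nat_lit 1) (nat_lit 0x2000200020002000200020002000200) (.cD (nat_lit 9) (.kS (nat_lit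 0) (nat_lit 0x400c01002800204b001000002) (nat_lit 0x1043054) (nat_lit 0x8004002009010008004006011) (nat_lit 0x4200200000400801002000100600100104b00000400c01002800900a001004)) (.cD (nat_lit 25) (.dfs (nat_lit 9) (nat_lit 0x100800c010020) (nat_lit 0x100800c01002c) (nat_lit 0x1004002001) (nat_lit 0x100400e001) (nat_lit 12) (nat_lit 0) (nat_lit 2) (nat_lit 0) (nat_lit 0) (nat_lit 10) (nat_lit 1) (nat_lit 0) (nat_lit 1) (nat_lit 0) (nat_lit 1) (nat_lit 0x4000400040004000400040004000400) (.cD (nat_lit 10) (.kS (nat_lit 0) (nat_lit 0x10018020040002001) (nat_lit 0x101a044) (nat_lit 0x8004002009010008004006011) (nat_lit 0x1800802004000900400100801002004000200c00101001802004001301c001003)) (.cD (nat_lit 26) (.kS (nat_lit 0) (nat_lit 0x801802005000204b001000002) (nat_lit 0x100305404a) (nat_lit 0x8004002009010008004006011020010008034002031) (nat_lit 0x4200200000801002004000200c00100100104b00000801802005000201400b001004)) (.cD (nat_lit 42) (.kS (nat_lit 0) (nat_lit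 0x10018020040002001) (nat_lit 0x103a044) (nat_lit 0x8004002009010008004006011) (nat_lit 0x1800802004000900400100801002004000200c00101001802004003301c001003)) (.cD (nat_lit 58) (.kS (nat_lit 0) (nat_lit 0x801802005000204b001000002) (nat_lit 0x100305406a) (nat_lit 0x8004002009010008004006011020010008034002031) (nat_lit 0x4200200000801002004000200c00100100104b00000801802005000201402b001004)) (.cD (nat_lit 74) (.kS (nat_lit 0) (nat_lit 0x801802005000204b001000002) (nat_lit 0x100305405a) (nat_lit 0x8004002009010008004006011020010008034002031) (nat_lit 0x4200200000801002004000200c00100100104b000008018020050002014003001004)) (.cD (nat_lit 90) (.cut (nat_lit 0)) (.cD (nat_lit 106) (.kS (nat_lit 0) (nat_lit 0x801802005000204b001000002) (nat_lit 0x100305407a) (nat_lit 0x8004002009010008004006011020010008034002031) (nat_lit 0x4200200000801002004000200c00100100104b000008018020050002014023001004)) (.cD (nat_lit 122) (.iso x290 s556 (nat_lit 0) (nat_lit 0x1080040020010008004002021)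 (nat_lit 0x80040020010008004002021) [(nat_lit 0x40020010008004022021001001), (nat_lit 0x40020010008004002001003001), (nat_lit 0x10008004002001005001)] (.cut (nat_lit 0))) .nil))))))))) (.cD (nat_lit 41) (.kS (nat_lit 0) (nat_lit 0x400c01002800204b001000002) (nat_lit 0x1063054) (nat_lit 0x8004002009010008004006011) (nat_lit 0x4200200000400801002000100600100104b00000400c01002801900a001004)) (.cD (nat_lit 57) (.dfs (nat_lit 9) (nat_lit 0x100800c010020) (nat_lit 0x100800c01002c) (nat_lit 0x1004002001) (nat_lit 0x100400e001) (nat_lit 12) (nat_lit 0) (nat_lit 2) (nat_lit 0) (nat_lit 0) (nat_lit 10) (nat_lit 1) (nat_lit 0) (nat_lit 1) (nat_lit 0) (nat_lit 1) (nat_lit 0x4000400040004000400040004000400) (.cD (nat_lit 10) (.kS (nat_lit 0) (nat_lit 0x801802005000204b001000002) (nat_lit 0x102305402a) (nat_lit 0x8004002009010008004006011020010008034002031) (nat_lit 0x4200200000801002004000200c00100100104b00000801802005002201403b001004)) (.cD (nat_lit 26) (.kS (nat_lit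 0) (nat_lit 0x801802005000204b001000002) (nat_lit 0x102305406a) (nat_lit 0x8004002009010008004006011020010008034002031) (nat_lit 0x4200200000801002004000200c00100100104b00000801802005002201402b001004)) (.cD (nat_lit 42) (.kS (nat_lit 0) (nat_lit 0x801802005000204b001000002) (nat_lit 0x102305400a) (nat_lit 0x8004002009010008004006011020010008034002031) (nat_lit 0x4200200000801002004000200c00100100104b00000801802005002201401b001004)) (.cD (nat_lit 58) (.kS (nat_lit 0) (nat_lit 0x801802005000204b001000002) (nat_lit 0x102305404a) (nat_lit 0x8004002009010008004006011020010008034002031) (nat_lit 0x4200200000801002004000200c00100100104b00000801802005002201400b001004)) (.cD (nat_lit 74) (.kS (nat_lit 0) (nat_lit 0x801802005000204b001000002) (nat_lit 0x102305407a) (nat_lit 0x8004002009010008004006011020010008034002031) (nat_lit 0x4200200000801002004000200c00100100104b000008018020050022014023001004)) (.cD (nat_lit 90) (.kS (nat_lit 0) (nat_lit 0x801802005000204b001000002)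 (nat_lit 0x102305403a) (nat_lit 0x8004002009010008004006011020010008034002031) (nat_lit 0x4200200000801002004000200c00100100104b000008018020050022014033001004)) (.cD (nat_lit 106) (.kS (nat_lit 0) (nat_lit 0x801802005000204b001000002) (nat_lit 0x102305405a) (nat_lit 0x8004002009010008004006011020010008034002031) (nat_lit 0x4200200000801002004000200c00100100104b000008018020050022014003001004)) (.cD (nat_lit 122) (.kS (nat_lit 0) (nat_lit 0x801802005000204b001000002) (nat_lit 0x102305401a) (nat_lit 0x8004002009010008004006011020010008034002031) (nat_lit 0x4200200000801002004000200c00100100104b000008018020050022014013001004)) .nil))))))))) (.cD (nat_lit 73) (.dfs (nat_lit 9) (nat_lit 0x100800c010020) (nat_lit 0x100800c01002c) (nat_lit 0x1004002001) (nat_lit 0x100400e001) (nat_lit 12) (nat_lit 0) (nat_lit 2) (nat_lit 0) (nat_lit 0) (nat_lit 10) (nat_lit 1) (nat_lit 0) (nat_lit 1) (nat_lit 0) (nat_lit 1) (nat_lit 0x4000400040004000400040004000400) (.cD (nat_lit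 10) (.kS (nat_lit 0) (nat_lit 0x801802005000204b001000002) (nat_lit 0x101305401a) (nat_lit 0x8004002009010008004006011020010008034002031) (nat_lit 0x4200200000801002004000200c00100100104b00000801802005000a014013001004)) (.cD (nat_lit 26) (.kS (nat_lit 0) (nat_lit 0x10018020040002001) (nat_lit 0x104a044) (nat_lit 0x8004002009010008004006011) (nat_lit 0x1800802004001100400100801002004000200c00101001802004000b01c001003)) (.cD (nat_lit 42) (.kS (nat_lit 0) (nat_lit 0x801802005000204b001000002) (nat_lit 0x101305403a) (nat_lit 0x8004002009010008004006011020010008034002031) (nat_lit 0x4200200000801002004000200c00100100104b00000801802005000a014033001004)) (.cD (nat_lit 58) (.kS (nat_lit 0) (nat_lit 0x10018020040002001) (nat_lit 0x106a044) (nat_lit 0x8004002009010008004006011) (nat_lit 0x1800802004001100400100801002004000200c00101001802004002b01c001003)) (.cD (nat_lit 74) (.iso x290 s556 (nat_lit 0) (nat_lit 0x1080040020010008004002041) (nat_lit 0x80040020010008004002041)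 [(nat_lit 0x40020010008004012011001001), (nat_lit 0x40020010008004002001003001), (nat_lit 0x10008004002001005001)] (.cut (nat_lit 0))) (.cD (nat_lit 90) (.kS (nat_lit 0) (nat_lit 0x801802005000204b001000002) (nat_lit 0x101305400a) (nat_lit 0x8004002009010008004006011020010008034002031) (nat_lit 0x4200200000801002004000200c00100100104b00000801802005000a01401b001004)) (.cD (nat_lit 106) (.iso x290 s556 (nat_lit 0) (nat_lit 0x1080040020010008004002061) (nat_lit 0x80040020010008004002061) [(nat_lit 0x40020010008004032031001001), (nat_lit 0x40020010008004002001003001), (nat_lit 0x10008004002001005001)] (.cut (nat_lit 0))) (.cD (nat_lit 122) (.kS (nat_lit 0) (nat_lit 0x801802005000204b001000002) (nat_lit 0x101305402a) (nat_lit 0x8004002009010008004006011020010008034002031) (nat_lit 0x4200200000801002004000200c00100100104b00000801802005000a01403b001004)) .nil))))))))) (.cD (nat_lit 89) (.kS (nat_lit 0) (nat_lit 0x400c01002800204b001000002) (nat_lit 0x1053054)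 (nat_lit 0x8004002009010008004006011) (nat_lit 0x4200200000400801002000100600100104b00000400c01002800d00a001004)) (.cD (nat_lit 105) (.dfs (nat_lit 9) (nat_lit 0x100800c010020) (nat_lit 0x100800c01002c) (nat_lit 0x1004002001) (nat_lit 0x100400e001) (nat_lit 12) (nat_lit 0) (nat_lit 2) (nat_lit 0) (nat_lit 0) (nat_lit 10) (nat_lit 1) (nat_lit 0) (nat_lit 1) (nat_lit 0) (nat_lit 1) (nat_lit 0x4000400040004000400040004000400) (.cD (nat_lit 10) (.kS (nat_lit 0) (nat_lit 0x801802005000204b001000002) (nat_lit 0x103305403a) (nat_lit 0x8004002009010008004006011020010008034002031) (nat_lit 0x4200200000801002004000200c00100100104b00000801802005002a014033001004)) (.cD (nat_lit 26) (.kS (nat_lit 0) (nat_lit 0x801802005000204b001000002) (nat_lit 0x103305407a) (nat_lit 0x8004002009010008004006011020010008034002031) (nat_lit 0x4200200000801002004000200c00100100104b00000801802005002a014023001004)) (.cD (nat_lit 42) (.kS (nat_lit 0) (nat_lit 0x801802005000204b001000002)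 (nat_lit 0x103305401a) (nat_lit 0x8004002009010008004006011020010008034002031) (nat_lit 0x4200200000801002004000200c00100100104b00000801802005002a014013001004)) (.cD (nat_lit 58) (.kS (nat_lit 0) (nat_lit 0x801802005000204b001000002) (nat_lit 0x103305405a) (nat_lit 0x8004002009010008004006011020010008034002031) (nat_lit 0x4200200000801002004000200c00100100104b00000801802005002a014003001004)) (.cD (nat_lit 74) (.kS (nat_lit 0) (nat_lit 0x801802005000204b001000002) (nat_lit 0x103305406a) (nat_lit 0x8004002009010008004006011020010008034002031) (nat_lit 0x4200200000801002004000200c00100100104b00000801802005002a01402b001004)) (.cD (nat_lit 90) (.kS (nat_lit 0) (nat_lit 0x801802005000204b001000002) (nat_lit 0x103305402a) (nat_lit 0x8004002009010008004006011020010008034002031) (nat_lit 0x4200200000801002004000200c00100100104b00000801802005002a01403b001004)) (.cD (nat_lit 106) (.kS (nat_lit 0) (nat_lit 0x801802005000204b001000002) (nat_lit 0x103305404a) (nat_lit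 0x8004002009010008004006011020010008034002031) (nat_lit 0x4200200000801002004000200c00100100104b00000801802005002a01400b001004)) (.cD (nat_lit 122) (.kS (nat_lit 0) (nat_lit 0x801802005000204b001000002) (nat_lit 0x103305400a) (nat_lit 0x8004002009010008004006011020010008034002031) (nat_lit 0x4200200000801002004000200c00100100104b00000801802005002a01401b001004)) .nil))))))))) (.cD (nat_lit 121) (.kS (nat_lit 0) (nat_lit 0x400c01002800204b001000002) (nat_lit 0x1073054) (nat_lit 0x8004002009010008004006011) (nat_lit 0x4200200000400801002000100600100104b00000400c01002801d00a001004)) .nil))))))))))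
theorem c557 : (chk [(x290, s556)] [g56] p557).n x290 s557 = true := by decide +kernel
noncomputable def p558 : Pf := (.ext (nat_lit 0) (nat_lit 0x2f010030068002001) (nat_lit 0x1080020040010) (nat_lit 0x6803002f03f002010008004002003002) (nat_lit 0x2003004008) (nat_lit 0x1009004) (nat_lit 0x1002016) (nat_lit 0xb00400200100c004002001) (.dfs (nat_lit 4) (nat_lit 0x1001002004008) (nat_lit 0x100100200400c) (nat_lit 1) (nat_lit 1) (nat_lit 0) (nat_lit 0) (nat_lit 2) (nat_lit 0) (nat_lit 0x1002004008001001) (nat_lit 22) (nat_lit 1) (nat_lit 0) (nat_lit 4226) (nat_lit 130) (nat_lit 0x100001600001e00005600005e) (nat_lit 0x404000000000000040400000) (.cD (nat_lit 22) (.dfs (nat_lit 9) (nat_lit 0x1002004008010) (nat_lit 0x1002004008016) (nat_lit 4097) (nat_lit 4103) (nat_lit 6) (nat_lit 0) (nat_lit 2) (nat_lit 0) (nat_lit 0x2004008010001001) (nat_lit 2) (nat_lit 1) (nat_lit 0) (nat_lit 1) (nat_lit 0) (nat_lit 1) (nat_lit 0) .nil) (.cD (nat_lit 30) (.kS (nat_lit 0)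 (nat_lit 0x2004008010005001) (nat_lit 4116) (nat_lit 0x8004002003) (nat_lit 0x3f02f030068016003002004008010001001002004008010001006003)) (.cD (nat_lit 86) (.kS (nat_lit 0) (nat_lit 0x2004008010005001) (nat_lit 4116) (nat_lit 0x8004002003) (nat_lit 0x3f02f030068009003002004008010001001002004008010001006003)) (.cD (nat_lit 94) (.kS (nat_lit 0) (nat_lit 0x2004008010005001) (nat_lit 4116) (nat_lit 0x8004002003) (nat_lit 0x3f02f030068006003002004008010001001002004008010001006003)) .nil))))))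
theorem c558 : (chk [] [] p558).n x291 s558 = true := by decide +kernel
noncomputable def p559 : Pf := (.ext (nat_lit 0) (nat_lit 0x2f010030068002001) (nat_lit 0x1080020040010) (nat_lit 0x6803002f03f002010008004002003002) (nat_lit 0x2003004008) (nat_lit 0x1009004) (nat_lit 0x1002016) (nat_lit 0xb00400200100c004002001) (.dfs (nat_lit 4) (nat_lit 0x1001002004008) (nat_lit 0x100100200400c) (nat_lit 1) (nat_lit 1) (nat_lit 0) (nat_lit 0) (nat_lit 2) (nat_lit 0) (nat_lit 0x1002004008001001) (nat_lit 22) (nat_lit 1) (nat_lit 0) (nat_lit 4226) (nat_lit 130) (nat_lit 0x100001600001e00005600005e) (nat_lit 0x404000000000000040400000) (.cD (nat_lit 22) (.dfs (nat_lit 9) (nat_lit 0x1002004008010) (nat_lit 0x1002004008016) (nat_lit 4097) (nat_lit 4103) (nat_lit 14) (nat_lit 0) (nat_lit 2) (nat_lit 0) (nat_lit 0x2004008010001001) (nat_lit 2) (nat_lit 1) (nat_lit 0) (nat_lit 1) (nat_lit 0) (nat_lit 1) (nat_lit 0) .nil) (.cD (nat_lit 30) (.kS (nat_lit 0) (nat_lit 0x2004008010005001)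 (nat_lit 4116) (nat_lit 0x8004002003) (nat_lit 0x3f02f030068016003002004008010001001002004008010001006003)) (.cD (nat_lit 86) (.kS (nat_lit 0) (nat_lit 0x2004008010005001) (nat_lit 4116) (nat_lit 0x8004002003) (nat_lit 0x3f02f030068009003002004008010001001002004008010001006003)) (.cD (nat_lit 94) (.kS (nat_lit 0) (nat_lit 0x2004008010005001) (nat_lit 4116) (nat_lit 0x8004002003) (nat_lit 0x3f02f030068006003002004008010001001002004008010001006003)) .nil))))))
theorem c559 : (chk [] [] p559).n x292 s559 = true := by decide +kernel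
noncomputable def p560 : Pf := (.ext (nat_lit 0) (nat_lit 0x2f010030068002001) (nat_lit 0x1080020040010) (nat_lit 0x6803002f03f002010008004002003002) (nat_lit 0x2003004008) (nat_lit 0x1009004) (nat_lit 0x1002016) (nat_lit 0xb00400200100c004002001) (.dfs (nat_lit 4) (nat_lit 0x1001002004008) (nat_lit 0x100100200400c) (nat_lit 1) (nat_lit 1) (nat_lit 0) (nat_lit 0) (nat_lit 2) (nat_lit 0) (nat_lit 0x1002004008001001) (nat_lit 22) (nat_lit 1) (nat_lit 0) (nat_lit 4226) (nat_lit 130) (nat_lit 0x100001600001e00005600005e) (nat_lit 0x404000000000000040400000) (.cD (nat_lit 22) (.dfs (nat_lit 9) (nat_lit 0x1002004008010) (nat_lit 0x1002004008016) (nat_lit 4097) (nat_lit 4103) (nat_lit 14) (nat_lit 0) (nat_lit 2) (nat_lit 0) (nat_lit 0x2004008010001001) (nat_lit 2) (nat_lit 1) (nat_lit 0) (nat_lit 1) (nat_lit 0) (nat_lit 1) (nat_lit 0) .nil) (.cD (nat_lit 30) (.kS (nat_lit 0) (nat_lit 0x2004008010005001) (nat_lit 4116) (nat_lit 0x8004002003) (nat_lit 0x3f02f030068016003002004008010001001002004008010001006003))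 (.cD (nat_lit 86) (.kS (nat_lit 0) (nat_lit 0x2004008010005001) (nat_lit 4116) (nat_lit 0x8004002003) (nat_lit 0x3f02f030068009003002004008010001001002004008010001006003)) (.cD (nat_lit 94) (.kS (nat_lit 0) (nat_lit 0x2004008010005001) (nat_lit 4116) (nat_lit 0x8004002003) (nat_lit 0x3f02f030068006003002004008010001001002004008010001006003)) .nil))))))
theorem c560 : (chk [] [] p560).n x293 s560 = true := by decide +kernel
noncomputable def p561 : Pf := (.ext (nat_lit 0) (nat_lit 0x2f010030068002001) (nat_lit 0x1080020040010) (nat_lit 0x6803002f03f002010008004002003002) (nat_lit 0x2003004008) (nat_lit 0x1009004) (nat_lit 0x1002016) (nat_lit 0xb00400200100c004002001) (.dfs (nat_lit 4) (nat_lit 0x1001002004008) (nat_lit 0x100100200400c) (nat_lit 1) (nat_lit 1) (nat_lit 0) (nat_lit 0) (nat_lit 2) (nat_lit 0) (nat_lit 0x1002004008001001) (nat_lit 22) (nat_lit 1) (nat_lit 0) (nat_lit 4226) (nat_lit 130) (nat_lit 0x100001600001e00005600005e) (nat_lit 0x404000000000000040400000)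 (.cD (nat_lit 22) (.dfs (nat_lit 9) (nat_lit 0x1002004008010) (nat_lit 0x1002004008016) (nat_lit 4097) (nat_lit 4103) (nat_lit 2) (nat_lit 0) (nat_lit 2) (nat_lit 0) (nat_lit 0x2004008010001001) (nat_lit 2) (nat_lit 1) (nat_lit 0) (nat_lit 1) (nat_lit 0) (nat_lit 1) (nat_lit 0) .nil) (.cD (nat_lit 30) (.kS (nat_lit 0) (nat_lit 0x2004008010005001) (nat_lit 4116) (nat_lit 0x8004002003) (nat_lit 0x3f02f030068016003002004008010001001002004008010001006003)) (.cD (nat_lit 86) (.kS (nat_lit 0) (nat_lit 0x2004008010005001) (nat_lit 4116) (nat_lit 0x8004002003) (nat_lit 0x3f02f030068009003002004008010001001002004008010001006003)) (.cD (nat_lit 94) (.kS (nat_lit 0) (nat_lit 0x2004008010005001) (nat_lit 4116) (nat_lit 0x8004002003) (nat_lit 0x3f02f030068006003002004008010001001002004008010001006003)) .nil))))))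
theorem c561 : (chk [] [] p561).n x294 s561 = true := by decide +kernel
noncomputable def p562 : Pf := (.ext (nat_lit 0) (nat_lit 0x2f010030068002001) (nat_lit 0x1080020040010) (nat_lit 0x6803002f03f002010008004002003002) (nat_lit 0x2003004008) (nat_lit 0x1009004) (nat_lit 0x1002016) (nat_lit 0xb00400200100c004002001) (.dfs (nat_lit 4) (nat_lit 0x1001002004008) (nat_lit 0x100100200400c) (nat_lit 1) (nat_lit 1) (nat_lit 0) (nat_lit 0) (nat_lit 2) (nat_lit 0) (nat_lit 0x1002004008001001) (nat_lit 22) (nat_lit 1) (nat_lit 0) (nat_lit 4226) (nat_lit 130) (nat_lit 0x100001600001e00005600005e) (nat_lit 0x404000000000000040400000) (.cD (nat_lit 22) (.dfs (nat_lit 9) (nat_lit 0x1002004008010) (nat_lit 0x1002004008016) (nat_lit 4097) (nat_lit 4103) (nat_lit 2) (nat_lit 0) (nat_lit 2) (nat_lit 0) (nat_lit 0x2004008010001001) (nat_lit 2) (nat_lit 1) (nat_lit 0) (nat_lit 1) (nat_lit 0) (nat_lit 1) (nat_lit 0) .nil) (.cD (nat_lit 30) (.kS (nat_lit 0) (nat_lit 0x2004008010005001)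 (nat_lit 4116) (nat_lit 0x8004002003) (nat_lit 0x3f02f030068016003002004008010001001002004008010001006003)) (.cD (nat_lit 86) (.kS (nat_lit 0) (nat_lit 0x2004008010005001) (nat_lit 4116) (nat_lit 0x8004002003) (nat_lit 0x3f02f030068009003002004008010001001002004008010001006003)) (.cD (nat_lit 94) (.kS (nat_lit 0) (nat_lit 0x2004008010005001) (nat_lit 4116) (nat_lit 0x8004002003) (nat_lit 0x3f02f030068006003002004008010001001002004008010001006003)) .nil))))))
theorem c562 : (chk [] [] p562).n x295 s562 = true := by decide +kernel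
noncomputable def p563 : Pf := (.ext (nat_lit 0) (nat_lit 0x2f010030068002001) (nat_lit 0x1080020040010) (nat_lit 0x6803002f03f002010008004002003002) (nat_lit 0x2003004008) (nat_lit 0x1009004) (nat_lit 0x1002016) (nat_lit 0xb00400200100c004002001) (.dfs (nat_lit 4) (nat_lit 0x1001002004008) (nat_lit 0x100100200400c) (nat_lit 1) (nat_lit 1) (nat_lit 0) (nat_lit 0) (nat_lit 2) (nat_lit 0) (nat_lit 0x1002004008001001) (nat_lit 22) (nat_lit 1) (nat_lit 0) (nat_lit 4226) (nat_lit 130) (nat_lit 0x100001600001e00005600005e) (nat_lit 0x404000000000000040400000) (.cD (nat_lit 22) (.dfs (nat_lit 9) (nat_lit 0x1002004008010) (nat_lit 0x1002004008016) (nat_lit 4097) (nat_lit 4103) (nat_lit 10) (nat_lit 0) (nat_lit 2) (nat_lit 0) (nat_lit 0x2004008010001001) (nat_lit 2) (nat_lit 1) (nat_lit 0) (nat_lit 1) (nat_lit 0) (nat_lit 1) (nat_lit 0) .nil) (.cD (nat_lit 30) (.kS (nat_lit 0) (nat_lit 0x2004008010005001) (nat_lit 4116) (nat_lit 0x8004002003) (nat_lit 0x3f02f030068016003002004008010001001002004008010001006003))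 (.cD (nat_lit 86) (.kS (nat_lit 0) (nat_lit 0x2004008010005001) (nat_lit 4116) (nat_lit 0x8004002003) (nat_lit 0x3f02f030068009003002004008010001001002004008010001006003)) (.cD (nat_lit 94) (.kS (nat_lit 0) (nat_lit 0x2004008010005001) (nat_lit 4116) (nat_lit 0x8004002003) (nat_lit 0x3f02f030068006003002004008010001001002004008010001006003)) .nil))))))
theorem c563 : (chk [] [] p563).n x296 s563 = true := by decide +kernel
noncomputable def p564 : Pf := (.ext (nat_lit 0) (nat_lit 0x2f010030068002001) (nat_lit 0x1080020040010) (nat_lit 0x6803002f03f002010008004002003002) (nat_lit 0x2003004008) (nat_lit 0x1009004) (nat_lit 0x1002016) (nat_lit 0xb00400200100c004002001) (.dfs (nat_lit 4) (nat_lit 0x1001002004008) (nat_lit 0x100100200400c) (nat_lit 1) (nat_lit 1) (nat_lit 0) (nat_lit 0) (nat_lit 2) (nat_lit 0) (nat_lit 0x1002004008001001) (nat_lit 22) (nat_lit 1) (nat_lit 0) (nat_lit 4226) (nat_lit 130) (nat_lit 0x100001600001e00005600005e) (nat_lit 0x404000000000000040400000)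 (.cD (nat_lit 22) (.dfs (nat_lit 9) (nat_lit 0x1002004008010) (nat_lit 0x1002004008016) (nat_lit 4097) (nat_lit 4103) (nat_lit 10) (nat_lit 0) (nat_lit 2) (nat_lit 0) (nat_lit 0x2004008010001001) (nat_lit 2) (nat_lit 1) (nat_lit 0) (nat_lit 1) (nat_lit 0) (nat_lit 1) (nat_lit 0) .nil) (.cD (nat_lit 30) (.kS (nat_lit 0) (nat_lit 0x2004008010005001) (nat_lit 4116) (nat_lit 0x8004002003) (nat_lit 0x3f02f030068016003002004008010001001002004008010001006003)) (.cD (nat_lit 86) (.kS (nat_lit 0) (nat_lit 0x2004008010005001) (nat_lit 4116) (nat_lit 0x8004002003) (nat_lit 0x3f02f030068009003002004008010001001002004008010001006003)) (.cD (nat_lit 94) (.kS (nat_lit 0) (nat_lit 0x2004008010005001) (nat_lit 4116) (nat_lit 0x8004002003) (nat_lit 0x3f02f030068006003002004008010001001002004008010001006003)) .nil))))))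
theorem c564 : (chk [] [] p564).n x297 s564 = true := by decide +kernel
noncomputable def p565 : Pf := (.lft (nat_lit 0x40010020008001004002003001) (nat_lit 5) (nat_lit 0x1070060050040) (nat_lit 0x40020010008004002021) (.extn a20 (nat_lit 0x40020010008004002001) (nat_lit 0x1008020010040) (nat_lit 2) (nat_lit 0) (nat_lit 0) (nat_lit 5) (nat_lit 0x20002000200020) (.cE (nat_lit 5) b56 (nat_lit 0) (.cut (nat_lit 0)) (.cut (nat_lit 1)) (.cE (nat_lit 21) b57 (nat_lit 0) (.cut (nat_lit 2)) (.cut (nat_lit 3)) (.cE (nat_lit 37) b58 (nat_lit 0) (.cut (nat_lit 4)) (.cut (nat_lit 5)) (.cE (nat_lit 53) b59 (nat_lit 0) (.cut (nat_lit 6)) (.cut (nat_lit 7)) .nil))))))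
theorem c565 : (chk [(x290, s557), (x291, s558), (x292, s559), (x293, s560), (x294, s561), (x295, s562), (x296, s563), (x297, s564)] [] p565).n x289 s565 = true := by decide +kernel
noncomputable def p566 : Pf := (.ext (nat_lit 1) (nat_lit 0x1801003006300100f01002004a003002) (nat_lit 0x1080060040008) (nat_lit 0x6b03000801000107702000a010004010008006004006003) (nat_lit 0x300100400a) (nat_lit 4098) (nat_lit 4105) (nat_lit 0xa004002001) (.dfs (nat_lit 2) (nat_lit 0x1001002004008) (nat_lit 0x100100200400a) (nat_lit 1) (nat_lit 1) (nat_lit 2) (nat_lit 0) (nat_lit 2) (nat_lit 1) (nat_lit 0x1002004008001001) (nat_lit 9) (nat_lit 1) (nat_lit 0) (nat_lit 4227) (nat_lit 131) (nat_lit 0x1000009000019000029000039) (nat_lit 0x200020002000200) (.cD (nat_lit 9) (.kA false (nat_lit 0x1000f02004a00600600400c01300100400400000f01003007700604b001000005)) (.cD (nat_lit 25) (.kA false (nat_lit 0x1000f02004a00600600400c01100101f010030058006004004000004)) (.cD (nat_lit 41) (.kA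 false (nat_lit 0x1f00f02004a00600200400c01900100f010030078006042002000004)) (.cD (nat_lit 57) (.kA false (nat_lit 0x1f00f02004a00600200400c01b00100f01003007700604b001000004)) .nil))))))
theorem c566 : (chk [] [] p566).n x290 s566 = true := by decide +kernel
noncomputable def p567 : Pf := (.ext (nat_lit 0) (nat_lit 0) (nat_lit 0x1080020040010014) (nat_lit 0x10008004002003005001) (nat_lit 0x4006008010) (nat_lit 0x1009003) (nat_lit 0x100a009) (nat_lit 0x16008004002007012008004002003) (.dfs (nat_lit 3) (nat_lit 0x1004006008010) (nat_lit 0x1004006008012) (nat_lit 0x1002001) (nat_lit 0x1002003) (nat_lit 2) (nat_lit 0) (nat_lit 2) (nat_lit 0) (nat_lit 0) (nat_lit 9) (nat_lit 1) (nat_lit 0) (nat_lit 1) (nat_lit 0) (nat_lit 1) (nat_lit 0x2000200020002000200020002000200) (.cD (nat_lit 9) (.kS (nat_lit 0) (nat_lit 0x400c01002800204b001000002) (nat_lit 0x1043054) (nat_lit 0x8004002009010008004006011) (nat_lit 0x4200200000400801002000100600100104b00000400c01002800900a001004))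 (.cD (nat_lit 25) (.dfs (nat_lit 9) (nat_lit 0x100800c010020) (nat_lit 0x100800c01002c) (nat_lit 0x1004002001) (nat_lit 0x100400e001) (nat_lit 12) (nat_lit 0) (nat_lit 2) (nat_lit 0) (nat_lit 0) (nat_lit 10) (nat_lit 1) (nat_lit 0) (nat_lit 1) (nat_lit 0) (nat_lit 1) (nat_lit 0x4000400040004000400040004000400) (.cD (nat_lit 10) (.kS (nat_lit 0) (nat_lit 0x10018020040002001) (nat_lit 0x101a044) (nat_lit 0x8004002009010008004006011) (nat_lit 0x1800802004000900400100801002004000200c00101001802004001301c001003)) (.cD (nat_lit 26) (.kS (nat_lit 0) (nat_lit 0x801802005000204b001000002) (nat_lit 0x100305404a) (nat_lit 0x8004002009010008004006011020010008034002031) (nat_lit 0x4200200000801002004000200c00100100104b00000801802005000201400b001004)) (.cD (nat_lit 42) (.kS (nat_lit 0) (nat_lit 0x10018020040002001) (nat_lit 0x103a044) (nat_lit 0x8004002009010008004006011) (nat_lit 0x1800802004000900400100801002004000200c00101001802004003301c001003)) (.cD (nat_lit 58)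 (.kS (nat_lit 0) (nat_lit 0x801802005000204b001000002) (nat_lit 0x100305406a) (nat_lit 0x8004002009010008004006011020010008034002031) (nat_lit 0x4200200000801002004000200c00100100104b00000801802005000201402b001004)) (.cD (nat_lit 74) (.kS (nat_lit 0) (nat_lit 0x801802005000204b001000002) (nat_lit 0x100305405a) (nat_lit 0x8004002009010008004006011020010008034002031) (nat_lit 0x4200200000801002004000200c00100100104b000008018020050002014003001004)) (.cD (nat_lit 90) (.cut (nat_lit 0)) (.cD (nat_lit 106) (.kS (nat_lit 0) (nat_lit 0x801802005000204b001000002) (nat_lit 0x100305407a) (nat_lit 0x8004002009010008004006011020010008034002031) (nat_lit 0x4200200000801002004000200c00100100104b000008018020050002014023001004)) (.cD (nat_lit 122) (.iso x290 s566 (nat_lit 0) (nat_lit 0x1080040020010008004002021) (nat_lit 0x80040020010008004002021) [(nat_lit 0x40020010008004022021001001), (nat_lit 0x40020010008004002001003001), (nat_lit 0x10008004002001005001)] (.cut (nat_lit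 0))) .nil))))))))) (.cD (nat_lit 41) (.kS (nat_lit 0) (nat_lit 0x400c01002800204b001000002) (nat_lit 0x1063054) (nat_lit 0x8004002009010008004006011) (nat_lit 0x4200200000400801002000100600100104b00000400c01002801900a001004)) (.cD (nat_lit 57) (.dfs (nat_lit 9) (nat_lit 0x100800c010020) (nat_lit 0x100800c01002c) (nat_lit 0x1004002001) (nat_lit 0x100400e001) (nat_lit 12) (nat_lit 0) (nat_lit 2) (nat_lit 0) (nat_lit 0) (nat_lit 10) (nat_lit 1) (nat_lit 0) (nat_lit 1) (nat_lit 0) (nat_lit 1) (nat_lit 0x4000400040004000400040004000400) (.cD (nat_lit 10) (.kS (nat_lit 0) (nat_lit 0x801802005000204b001000002) (nat_lit 0x102305402a) (nat_lit 0x8004002009010008004006011020010008034002031) (nat_lit 0x4200200000801002004000200c00100100104b00000801802005002201403b001004)) (.cD (nat_lit 26) (.kS (nat_lit 0) (nat_lit 0x801802005000204b001000002) (nat_lit 0x102305406a) (nat_lit 0x8004002009010008004006011020010008034002031) (nat_lit 0x4200200000801002004000200c00100100104b00000801802005002201402b001004))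 (.cD (nat_lit 42) (.kS (nat_lit 0) (nat_lit 0x801802005000204b001000002) (nat_lit 0x102305400a) (nat_lit 0x8004002009010008004006011020010008034002031) (nat_lit 0x4200200000801002004000200c00100100104b00000801802005002201401b001004)) (.cD (nat_lit 58) (.kS (nat_lit 0) (nat_lit 0x801802005000204b001000002) (nat_lit 0x102305404a) (nat_lit 0x8004002009010008004006011020010008034002031) (nat_lit 0x4200200000801002004000200c00100100104b00000801802005002201400b001004)) (.cD (nat_lit 74) (.kS (nat_lit 0) (nat_lit 0x801802005000204b001000002) (nat_lit 0x102305407a) (nat_lit 0x8004002009010008004006011020010008034002031) (nat_lit 0x4200200000801002004000200c00100100104b000008018020050022014023001004)) (.cD (nat_lit 90) (.kS (nat_lit 0) (nat_lit 0x801802005000204b001000002) (nat_lit 0x102305403a) (nat_lit 0x8004002009010008004006011020010008034002031) (nat_lit 0x4200200000801002004000200c00100100104b000008018020050022014033001004)) (.cD (nat_lit 106) (.kS (nat_lit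 0) (nat_lit 0x801802005000204b001000002) (nat_lit 0x102305405a) (nat_lit 0x8004002009010008004006011020010008034002031) (nat_lit 0x4200200000801002004000200c00100100104b000008018020050022014003001004)) (.cD (nat_lit 122) (.kS (nat_lit 0) (nat_lit 0x801802005000204b001000002) (nat_lit 0x102305401a) (nat_lit 0x8004002009010008004006011020010008034002031) (nat_lit 0x4200200000801002004000200c00100100104b000008018020050022014013001004)) .nil))))))))) (.cD (nat_lit 73) (.dfs (nat_lit 9) (nat_lit 0x100800c010020) (nat_lit 0x100800c01002c) (nat_lit 0x1004002001) (nat_lit 0x100400e001) (nat_lit 12) (nat_lit 0) (nat_lit 2) (nat_lit 0) (nat_lit 0) (nat_lit 10) (nat_lit 1) (nat_lit 0) (nat_lit 1) (nat_lit 0) (nat_lit 1) (nat_lit 0x4000400040004000400040004000400) (.cD (nat_lit 10) (.kS (nat_lit 0) (nat_lit 0x801802005000204b001000002) (nat_lit 0x101305401a) (nat_lit 0x8004002009010008004006011020010008034002031) (nat_lit 0x4200200000801002004000200c00100100104b00000801802005000a014013001004))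 (.cD (nat_lit 26) (.kS (nat_lit 0) (nat_lit 0x10018020040002001) (nat_lit 0x104a044) (nat_lit 0x8004002009010008004006011) (nat_lit 0x1800802004001100400100801002004000200c00101001802004000b01c001003)) (.cD (nat_lit 42) (.kS (nat_lit 0) (nat_lit 0x801802005000204b001000002) (nat_lit 0x101305403a) (nat_lit 0x8004002009010008004006011020010008034002031) (nat_lit 0x4200200000801002004000200c00100100104b00000801802005000a014033001004)) (.cD (nat_lit 58) (.kS (nat_lit 0) (nat_lit 0x10018020040002001) (nat_lit 0x106a044) (nat_lit 0x8004002009010008004006011) (nat_lit 0x1800802004001100400100801002004000200c00101001802004002b01c001003)) (.cD (nat_lit 74) (.iso x290 s566 (nat_lit 0) (nat_lit 0x1080040020010008004002041) (nat_lit 0x80040020010008004002041) [(nat_lit 0x40020010008004012011001001), (nat_lit 0x40020010008004002001003001), (nat_lit 0x10008004002001005001)] (.cut (nat_lit 0))) (.cD (nat_lit 90) (.kS (nat_lit 0) (nat_lit 0x801802005000204b001000002)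 (nat_lit 0x101305400a) (nat_lit 0x8004002009010008004006011020010008034002031) (nat_lit 0x4200200000801002004000200c00100100104b00000801802005000a01401b001004)) (.cD (nat_lit 106) (.iso x290 s566 (nat_lit 0) (nat_lit 0x1080040020010008004002061) (nat_lit 0x80040020010008004002061) [(nat_lit 0x40020010008004032031001001), (nat_lit 0x40020010008004002001003001), (nat_lit 0x10008004002001005001)] (.cut (nat_lit 0))) (.cD (nat_lit 122) (.kS (nat_lit 0) (nat_lit 0x801802005000204b001000002) (nat_lit 0x101305402a) (nat_lit 0x8004002009010008004006011020010008034002031) (nat_lit 0x4200200000801002004000200c00100100104b00000801802005000a01403b001004)) .nil))))))))) (.cD (nat_lit 89) (.kS (nat_lit 0) (nat_lit 0x400c01002800204b001000002) (nat_lit 0x1053054) (nat_lit 0x8004002009010008004006011) (nat_lit 0x4200200000400801002000100600100104b00000400c01002800d00a001004)) (.cD (nat_lit 105) (.dfs (nat_lit 9) (nat_lit 0x100800c010020) (nat_lit 0x100800c01002c) (nat_lit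 0x1004002001) (nat_lit 0x100400e001) (nat_lit 12) (nat_lit 0) (nat_lit 2) (nat_lit 0) (nat_lit 0) (nat_lit 10) (nat_lit 1) (nat_lit 0) (nat_lit 1) (nat_lit 0) (nat_lit 1) (nat_lit 0x4000400040004000400040004000400) (.cD (nat_lit 10) (.kS (nat_lit 0) (nat_lit 0x801802005000204b001000002) (nat_lit 0x103305403a) (nat_lit 0x8004002009010008004006011020010008034002031) (nat_lit 0x4200200000801002004000200c00100100104b00000801802005002a014033001004)) (.cD (nat_lit 26) (.kS (nat_lit 0) (nat_lit 0x801802005000204b001000002) (nat_lit 0x103305407a) (nat_lit 0x8004002009010008004006011020010008034002031) (nat_lit 0x4200200000801002004000200c00100100104b00000801802005002a014023001004)) (.cD (nat_lit 42) (.kS (nat_lit 0) (nat_lit 0x801802005000204b001000002) (nat_lit 0x103305401a) (nat_lit 0x8004002009010008004006011020010008034002031) (nat_lit 0x4200200000801002004000200c00100100104b00000801802005002a014013001004)) (.cD (nat_lit 58) (.kS (nat_lit 0) (nat_lit 0x801802005000204b001000002)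 (nat_lit 0x103305405a) (nat_lit 0x8004002009010008004006011020010008034002031) (nat_lit 0x4200200000801002004000200c00100100104b00000801802005002a014003001004)) (.cD (nat_lit 74) (.kS (nat_lit 0) (nat_lit 0x801802005000204b001000002) (nat_lit 0x103305406a) (nat_lit 0x8004002009010008004006011020010008034002031) (nat_lit 0x4200200000801002004000200c00100100104b00000801802005002a01402b001004)) (.cD (nat_lit 90) (.kS (nat_lit 0) (nat_lit 0x801802005000204b001000002) (nat_lit 0x103305402a) (nat_lit 0x8004002009010008004006011020010008034002031) (nat_lit 0x4200200000801002004000200c00100100104b00000801802005002a01403b001004)) (.cD (nat_lit 106) (.kS (nat_lit 0) (nat_lit 0x801802005000204b001000002) (nat_lit 0x103305404a) (nat_lit 0x8004002009010008004006011020010008034002031) (nat_lit 0x4200200000801002004000200c00100100104b00000801802005002a01400b001004)) (.cD (nat_lit 122) (.kS (nat_lit 0) (nat_lit 0x801802005000204b001000002) (nat_lit 0x103305400a) (nat_lit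 0x8004002009010008004006011020010008034002031) (nat_lit 0x4200200000801002004000200c00100100104b00000801802005002a01401b001004)) .nil))))))))) (.cD (nat_lit 121) (.kS (nat_lit 0) (nat_lit 0x400c01002800204b001000002) (nat_lit 0x1073054) (nat_lit 0x8004002009010008004006011) (nat_lit 0x4200200000400801002000100600100104b00000400c01002801d00a001004)) .nil))))))))))
theorem c567 : (chk [(x290, s566)] [g56] p567).n x290 s567 = true := by decide +kernel
noncomputable def p568 : Pf := (.ext (nat_lit 0) (nat_lit 0x1f010030068002001) (nat_lit 0x1080020040010) (nat_lit 0x6803001f00f002010008004002003002) (nat_lit 0x2003004008) (nat_lit 0x1009004) (nat_lit 0x1002016) (nat_lit 0xb00400200100c004002001) (.dfs (nat_lit 4) (nat_lit 0x1001002004008) (nat_lit 0x100100200400c) (nat_lit 1) (nat_lit 1) (nat_lit 0) (nat_lit 0) (nat_lit 2) (nat_lit 0) (nat_lit 0x1002004008001001) (nat_lit 22) (nat_lit 1) (nat_lit 0) (nat_lit 4226) (nat_lit 130) (nat_lit 0x100001600001e00005600005e)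 (nat_lit 0x404000000000000040400000) (.cD (nat_lit 22) (.dfs (nat_lit 9) (nat_lit 0x1002004008010) (nat_lit 0x1002004008016) (nat_lit 4097) (nat_lit 4103) (nat_lit 6) (nat_lit 0) (nat_lit 2) (nat_lit 0) (nat_lit 0x2004008010001001) (nat_lit 2) (nat_lit 1) (nat_lit 0) (nat_lit 1) (nat_lit 0) (nat_lit 1) (nat_lit 0) .nil) (.cD (nat_lit 30) (.kS (nat_lit 0) (nat_lit 0x2004008010005001) (nat_lit 4116) (nat_lit 0x8004002003) (nat_lit 0xf01f030068016003002004008010001001002004008010001006003)) (.cD (nat_lit 86) (.kS (nat_lit 0) (nat_lit 0x2004008010005001) (nat_lit 4116) (nat_lit 0x8004002003) (nat_lit 0xf01f030068009003002004008010001001002004008010001006003)) (.cD (nat_lit 94) (.kS (nat_lit 0) (nat_lit 0x2004008010005001) (nat_lit 4116) (nat_lit 0x8004002003) (nat_lit 0xf01f030068006003002004008010001001002004008010001006003)) .nil))))))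
theorem c568 : (chk [] [] p568).n x291 s568 = true := by decide +kernel
noncomputable def p569 : Pf := (.ext (nat_lit 0) (nat_lit 0x1f010030068002001) (nat_lit 0x1080020040010) (nat_lit 0x6803001f00f002010008004002003002) (nat_lit 0x2003004008) (nat_lit 0x1009004) (nat_lit 0x1002016) (nat_lit 0xb00400200100c004002001) (.dfs (nat_lit 4) (nat_lit 0x1001002004008) (nat_lit 0x100100200400c) (nat_lit 1) (nat_lit 1) (nat_lit 0) (nat_lit 0) (nat_lit 2) (nat_lit 0) (nat_lit 0x1002004008001001) (nat_lit 22) (nat_lit 1) (nat_lit 0) (nat_lit 4226) (nat_lit 130) (nat_lit 0x100001600001e00005600005e) (nat_lit 0x404000000000000040400000) (.cD (nat_lit 22) (.dfs (nat_lit 9) (nat_lit 0x1002004008010) (nat_lit 0x1002004008016) (nat_lit 4097) (nat_lit 4103) (nat_lit 14) (nat_lit 0) (nat_lit 2) (nat_lit 0) (nat_lit 0x2004008010001001) (nat_lit 2) (nat_lit 1) (nat_lit 0) (nat_lit 1) (nat_lit 0) (nat_lit 1) (nat_lit 0) .nil) (.cD (nat_lit 30) (.kS (nat_lit 0) (nat_lit 0x2004008010005001)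 (nat_lit 4116) (nat_lit 0x8004002003) (nat_lit 0xf01f030068016003002004008010001001002004008010001006003)) (.cD (nat_lit 86) (.kS (nat_lit 0) (nat_lit 0x2004008010005001) (nat_lit 4116) (nat_lit 0x8004002003) (nat_lit 0xf01f030068009003002004008010001001002004008010001006003)) (.cD (nat_lit 94) (.kS (nat_lit 0) (nat_lit 0x2004008010005001) (nat_lit 4116) (nat_lit 0x8004002003) (nat_lit 0xf01f030068006003002004008010001001002004008010001006003)) .nil))))))
theorem c569 : (chk [] [] p569).n x292 s569 = true := by decide +kernel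
noncomputable def p570 : Pf := (.ext (nat_lit 0) (nat_lit 0x1f010030068002001) (nat_lit 0x1080020040010) (nat_lit 0x6803001f00f002010008004002003002) (nat_lit 0x2003004008) (nat_lit 0x1009004) (nat_lit 0x1002016) (nat_lit 0xb00400200100c004002001) (.dfs (nat_lit 4) (nat_lit 0x1001002004008) (nat_lit 0x100100200400c) (nat_lit 1) (nat_lit 1) (nat_lit 0) (nat_lit 0) (nat_lit 2) (nat_lit 0) (nat_lit 0x1002004008001001) (nat_lit 22) (nat_lit 1) (nat_lit 0) (nat_lit 4226) (nat_lit 130) (nat_lit 0x100001600001e00005600005e) (nat_lit 0x404000000000000040400000) (.cD (nat_lit 22) (.dfs (nat_lit 9) (nat_lit 0x1002004008010) (nat_lit 0x1002004008016) (nat_lit 4097) (nat_lit 4103) (nat_lit 14) (nat_lit 0) (nat_lit 2) (nat_lit 0) (nat_lit 0x2004008010001001) (nat_lit 2) (nat_lit 1) (nat_lit 0) (nat_lit 1) (nat_lit 0) (nat_lit 1) (nat_lit 0) .nil) (.cD (nat_lit 30) (.kS (nat_lit 0) (nat_lit 0x2004008010005001) (nat_lit 4116) (nat_lit 0x8004002003) (nat_lit 0xf01f030068016003002004008010001001002004008010001006003))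 (.cD (nat_lit 86) (.kS (nat_lit 0) (nat_lit 0x2004008010005001) (nat_lit 4116) (nat_lit 0x8004002003) (nat_lit 0xf01f030068009003002004008010001001002004008010001006003)) (.cD (nat_lit 94) (.kS (nat_lit 0) (nat_lit 0x2004008010005001) (nat_lit 4116) (nat_lit 0x8004002003) (nat_lit 0xf01f030068006003002004008010001001002004008010001006003)) .nil))))))
theorem c570 : (chk [] [] p570).n x293 s570 = true := by decide +kernel
noncomputable def p571 : Pf := (.ext (nat_lit 0) (nat_lit 0x1f010030068002001) (nat_lit 0x1080020040010) (nat_lit 0x6803001f00f002010008004002003002) (nat_lit 0x2003004008) (nat_lit 0x1009004) (nat_lit 0x1002016) (nat_lit 0xb00400200100c004002001) (.dfs (nat_lit 4) (nat_lit 0x1001002004008) (nat_lit 0x100100200400c) (nat_lit 1) (nat_lit 1) (nat_lit 0) (nat_lit 0) (nat_lit 2) (nat_lit 0) (nat_lit 0x1002004008001001) (nat_lit 22) (nat_lit 1) (nat_lit 0) (nat_lit 4226) (nat_lit 130) (nat_lit 0x100001600001e00005600005e) (nat_lit 0x404000000000000040400000)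 (.cD (nat_lit 22) (.dfs (nat_lit 9) (nat_lit 0x1002004008010) (nat_lit 0x1002004008016) (nat_lit 4097) (nat_lit 4103) (nat_lit 2) (nat_lit 0) (nat_lit 2) (nat_lit 0) (nat_lit 0x2004008010001001) (nat_lit 2) (nat_lit 1) (nat_lit 0) (nat_lit 1) (nat_lit 0) (nat_lit 1) (nat_lit 0) .nil) (.cD (nat_lit 30) (.kS (nat_lit 0) (nat_lit 0x2004008010005001) (nat_lit 4116) (nat_lit 0x8004002003) (nat_lit 0xf01f030068016003002004008010001001002004008010001006003)) (.cD (nat_lit 86) (.kS (nat_lit 0) (nat_lit 0x2004008010005001) (nat_lit 4116) (nat_lit 0x8004002003) (nat_lit 0xf01f030068009003002004008010001001002004008010001006003)) (.cD (nat_lit 94) (.kS (nat_lit 0) (nat_lit 0x2004008010005001) (nat_lit 4116) (nat_lit 0x8004002003) (nat_lit 0xf01f030068006003002004008010001001002004008010001006003)) .nil))))))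
theorem c571 : (chk [] [] p571).n x294 s571 = true := by decide +kernel
noncomputable def p572 : Pf := (.ext (nat_lit 0) (nat_lit 0x1f010030068002001) (nat_lit 0x1080020040010) (nat_lit 0x6803001f00f002010008004002003002) (nat_lit 0x2003004008) (nat_lit 0x1009004) (nat_lit 0x1002016) (nat_lit 0xb00400200100c004002001) (.dfs (nat_lit 4) (nat_lit 0x1001002004008) (nat_lit 0x100100200400c) (nat_lit 1) (nat_lit 1) (nat_lit 0) (nat_lit 0) (nat_lit 2) (nat_lit 0) (nat_lit 0x1002004008001001) (nat_lit 22) (nat_lit 1) (nat_lit 0) (nat_lit 4226) (nat_lit 130) (nat_lit 0x100001600001e00005600005e) (nat_lit 0x404000000000000040400000) (.cD (nat_lit 22) (.dfs (nat_lit 9) (nat_lit 0x1002004008010) (nat_lit 0x1002004008016) (nat_lit 4097) (nat_lit 4103) (nat_lit 2) (nat_lit 0) (nat_lit 2) (nat_lit 0) (nat_lit 0x2004008010001001) (nat_lit 2) (nat_lit 1) (nat_lit 0) (nat_lit 1) (nat_lit 0) (nat_lit 1) (nat_lit 0) .nil) (.cD (nat_lit 30) (.kS (nat_lit 0) (nat_lit 0x2004008010005001)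 (nat_lit 4116) (nat_lit 0x8004002003) (nat_lit 0xf01f030068016003002004008010001001002004008010001006003)) (.cD (nat_lit 86) (.kS (nat_lit 0) (nat_lit 0x2004008010005001) (nat_lit 4116) (nat_lit 0x8004002003) (nat_lit 0xf01f030068009003002004008010001001002004008010001006003)) (.cD (nat_lit 94) (.kS (nat_lit 0) (nat_lit 0x2004008010005001) (nat_lit 4116) (nat_lit 0x8004002003) (nat_lit 0xf01f030068006003002004008010001001002004008010001006003)) .nil))))))
theorem c572 : (chk [] [] p572).n x295 s572 = true := by decide +kernel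
noncomputable def p573 : Pf := (.ext (nat_lit 0) (nat_lit 0x1f010030068002001) (nat_lit 0x1080020040010) (nat_lit 0x6803001f00f002010008004002003002) (nat_lit 0x2003004008) (nat_lit 0x1009004) (nat_lit 0x1002016) (nat_lit 0xb00400200100c004002001) (.dfs (nat_lit 4) (nat_lit 0x1001002004008) (nat_lit 0x100100200400c) (nat_lit 1) (nat_lit 1) (nat_lit 0) (nat_lit 0) (nat_lit 2) (nat_lit 0) (nat_lit 0x1002004008001001) (nat_lit 22) (nat_lit 1) (nat_lit 0) (nat_lit 4226) (nat_lit 130) (nat_lit 0x100001600001e00005600005e) (nat_lit 0x404000000000000040400000) (.cD (nat_lit 22) (.dfs (nat_lit 9) (nat_lit 0x1002004008010) (nat_lit 0x1002004008016) (nat_lit 4097) (nat_lit 4103) (nat_lit 10) (nat_lit 0) (nat_lit 2) (nat_lit 0) (nat_lit 0x2004008010001001) (nat_lit 2) (nat_lit 1) (nat_lit 0) (nat_lit 1) (nat_lit 0) (nat_lit 1) (nat_lit 0) .nil) (.cD (nat_lit 30) (.kS (nat_lit 0) (nat_lit 0x2004008010005001) (nat_lit 4116) (nat_lit 0x8004002003) (nat_lit 0xf01f030068016003002004008010001001002004008010001006003))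 (.cD (nat_lit 86) (.kS (nat_lit 0) (nat_lit 0x2004008010005001) (nat_lit 4116) (nat_lit 0x8004002003) (nat_lit 0xf01f030068009003002004008010001001002004008010001006003)) (.cD (nat_lit 94) (.kS (nat_lit 0) (nat_lit 0x2004008010005001) (nat_lit 4116) (nat_lit 0x8004002003) (nat_lit 0xf01f030068006003002004008010001001002004008010001006003)) .nil))))))
theorem c573 : (chk [] [] p573).n x296 s573 = true := by decide +kernel
noncomputable def p574 : Pf := (.ext (nat_lit 0) (nat_lit 0x1f010030068002001) (nat_lit 0x1080020040010) (nat_lit 0x6803001f00f002010008004002003002) (nat_lit 0x2003004008) (nat_lit 0x1009004) (nat_lit 0x1002016) (nat_lit 0xb00400200100c004002001) (.dfs (nat_lit 4) (nat_lit 0x1001002004008) (nat_lit 0x100100200400c) (nat_lit 1) (nat_lit 1) (nat_lit 0) (nat_lit 0) (nat_lit 2) (nat_lit 0) (nat_lit 0x1002004008001001) (nat_lit 22) (nat_lit 1) (nat_lit 0) (nat_lit 4226) (nat_lit 130) (nat_lit 0x100001600001e00005600005e) (nat_lit 0x404000000000000040400000)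 (.cD (nat_lit 22) (.dfs (nat_lit 9) (nat_lit 0x1002004008010) (nat_lit 0x1002004008016) (nat_lit 4097) (nat_lit 4103) (nat_lit 10) (nat_lit 0) (nat_lit 2) (nat_lit 0) (nat_lit 0x2004008010001001) (nat_lit 2) (nat_lit 1) (nat_lit 0) (nat_lit 1) (nat_lit 0) (nat_lit 1) (nat_lit 0) .nil) (.cD (nat_lit 30) (.kS (nat_lit 0) (nat_lit 0x2004008010005001) (nat_lit 4116) (nat_lit 0x8004002003) (nat_lit 0xf01f030068016003002004008010001001002004008010001006003)) (.cD (nat_lit 86) (.kS (nat_lit 0) (nat_lit 0x2004008010005001) (nat_lit 4116) (nat_lit 0x8004002003) (nat_lit 0xf01f030068009003002004008010001001002004008010001006003)) (.cD (nat_lit 94) (.kS (nat_lit 0) (nat_lit 0x2004008010005001) (nat_lit 4116) (nat_lit 0x8004002003) (nat_lit 0xf01f030068006003002004008010001001002004008010001006003)) .nil))))))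
theorem c574 : (chk [] [] p574).n x297 s574 = true := by decide +kernel
noncomputable def p575 : Pf := (.lft (nat_lit 0x40010020008001004002003001) (nat_lit 5) (nat_lit 0x1070060050040) (nat_lit 0x40020010008004002021) (.extn a20 (nat_lit 0x40020010008004002001) (nat_lit 0x1008020010040) (nat_lit 2) (nat_lit 0) (nat_lit 0) (nat_lit 5) (nat_lit 0x20002000200020) (.cE (nat_lit 5) b56 (nat_lit 0) (.cut (nat_lit 0)) (.cut (nat_lit 1)) (.cE (nat_lit 21) b57 (nat_lit 0) (.cut (nat_lit 2)) (.cut (nat_lit 3)) (.cE (nat_lit 37) b58 (nat_lit 0) (.cut (nat_lit 4)) (.cut (nat_lit 5)) (.cE (nat_lit 53) b59 (nat_lit 0) (.cut (nat_lit 6)) (.cut (nat_lit 7)) .nil))))))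
theorem c575 : (chk [(x290, s567), (x291, s568), (x292, s569), (x293, s570), (x294, s571), (x295, s572), (x296, s573), (x297, s574)] [] p575).n x289 s575 = true := by decide +kernel
noncomputable def p576 : Pf := (.ext (nat_lit 1) (nat_lit 0) (nat_lit 0x104803002002902e) (nat_lit 0x1c00800600400500300200200001000800600400100404003001000100e002004) (nat_lit 0x200400801a) (nat_lit 0x1002001) (nat_lit 0x100a009) (nat_lit 0x1c008004002005010008004006005) (.dfs (nat_lit 1) (nat_lit 0x100200400801a) (nat_lit 0x100600400801e) (nat_lit 0x1010001) (nat_lit 0x1010005) (nat_lit 4) (nat_lit 0) (nat_lit 2) (nat_lit 1) (nat_lit 0) (nat_lit 9) (nat_lit 1) (nat_lit 0) (nat_lit 4100) (nat_lit 4) (nat_lit 0x100000d00001d) (nat_lit 0x20002000) (.cD (nat_lit 13) (.dfs (nat_lit 2) (nat_lit 0x1004008010034) (nat_lit 0x100400801002c) (nat_lit 0x1020002001) (nat_lit 0x103800a001) (nat_lit 0) (nat_lit 0) (nat_lit 2) (nat_lit 1) (nat_lit 0) (nat_lit 10) (nat_lit 1) (nat_lit 0)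 (nat_lit 1) (nat_lit 0) (nat_lit 1) (nat_lit 0x4000400040004000) (.cD (nat_lit 14) (.cut (nat_lit 1)) (.cD (nat_lit 30) (.kA false (nat_lit 0x1f01003006800101801003006d00101a01003005a001021001000004)) (.cD (nat_lit 46) (.kS (nat_lit 0) (nat_lit 0xf010030058002002002000002) (nat_lit 0x100c00f) (nat_lit 0xc004002005010008004006001) (nat_lit 0x801003007d01700400100a01003004a00200100100200200000f010030058015016001004)) (.cD (nat_lit 62) (.kA false (nat_lit 0xf01003006800100801003007d00100a01003004a001003)) .nil))))) (.cD (nat_lit 29) (.dfs (nat_lit 2) (nat_lit 0x1004008010034) (nat_lit 0x100400801002c) (nat_lit 0x1020002001) (nat_lit 0x103800a001) (nat_lit 0) (nat_lit 0) (nat_lit 2) (nat_lit 1) (nat_lit 0) (nat_lit 10) (nat_lit 1) (nat_lit 0) (nat_lit 1) (nat_lit 0) (nat_lit 1) (nat_lit 0x4000400040004000) (.cD (nat_lit 14) (.cut (nat_lit 0)) (.cD (nat_lit 30) (.kA false (nat_lit 0x3f01003006800103801003006d00100200200000a01003004a001004)) (.cD (nat_lit 46)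 (.kS (nat_lit 0) (nat_lit 0x3f010030068002001) (nat_lit 0x100c01f) (nat_lit 0xc004002005010008004006001) (nat_lit 0x3801003004d02700400100a01003004a00200100103f010030068015026001003)) (.cD (nat_lit 62) (.kA false (nat_lit 0x3f01003006800103801003007d00100a01003007a001002002000004)) .nil))))) .nil))))
theorem c576 : (chk [(x289, s565), (x289, s575)] [] p576).n x289 s576 = true := by decide +kernel
noncomputable def p577 : Pf := (.ext (nat_lit 0) (nat_lit 0) (nat_lit 0x1040010020008002) (nat_lit 0x14008006002007003021001000010008004002001003003) (nat_lit 0x6004008016) (nat_lit 0x1004001) (nat_lit 0x1001004) (nat_lit 0x10008004006005014008004006001) (.dfs (nat_lit 1) (nat_lit 0x1006004008016) (nat_lit 0x1002004008016) (nat_lit 0x1010002001) (nat_lit 0x1014006001) (nat_lit 4) (nat_lit 0) (nat_lit 2) (nat_lit 0) (nat_lit 0) (nat_lit 4) (nat_lit 1) (nat_lit 0) (nat_lit 4104) (nat_lit 8) (nat_lit 0x100000c00001c) (nat_lit 0x10001000) (.cD (nat_lit 12) (.dfs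 (nat_lit 4) (nat_lit 0x100c00801002c) (nat_lit 0x1004008010024) (nat_lit 0x1020004002001) (nat_lit 0x102000c00a001) (nat_lit 0) (nat_lit 0) (nat_lit 2) (nat_lit 0) (nat_lit 0) (nat_lit 1) (nat_lit 1) (nat_lit 0) (nat_lit 1) (nat_lit 0) (nat_lit 1) (nat_lit 0x200020002000200) (.cD (nat_lit 9) (.kS (nat_lit 1) (nat_lit 0xa01a03007200200200400801c003002002000001010030040001004) (nat_lit 4135) (nat_lit 0x8004002003) (nat_lit 0x200200000200600801600300400a01003004801700100200200000200400801c00500400a01a030072007001006)) (.cD (nat_lit 25) (.kA true (nat_lit 0xe004008010003001010030040001002)) (.cD (nat_lit 41) (.cut (nat_lit 0)) (.cD (nat_lit 57) (.kA true (nat_lit 0xa004008010003001010030040001002)) .nil))))) (.cD (nat_lit 28) (.kA true (nat_lit 0xa00400801000301d008018024002021001000003)) .nil))))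
theorem c577 : (chk [(x289, s576)] [] p577).n x289 s577 = true := by decide +kernel
noncomputable def p578 : Pf := (.ext (nat_lit 1) (nat_lit 0) (nat_lit 0x1048030020009) (nat_lit 0x10008004002003010006002009001002) (nat_lit 0x2003004008) (nat_lit 4103) (nat_lit 4107) (nat_lit 0xc004002001) (.dfs (nat_lit 7) (nat_lit 0x1002003004008) (nat_lit 0x100200300400c) (nat_lit 4097) (nat_lit 4097) (nat_lit 0) (nat_lit 0) (nat_lit 2) (nat_lit 1) (nat_lit 0) (nat_lit 11) (nat_lit 1) (nat_lit 0) (nat_lit 4160) (nat_lit 64) (nat_lit 0x100000b00000f00001b00001f) (nat_lit 0x88008800) (.cD (nat_lit 11) (.cut (nat_lit 1)) (.cD (nat_lit 15) (.kS (nat_lit 1) (nat_lit 0x2004008010005001) (nat_lit 4155) (nat_lit 0x8004002003) (nat_lit 0x8008000004002008010001001021001000004006008010001002002004008010007006005)) (.cD (nat_lit 27) (.kS (nat_lit 1) (nat_lit 0x2004008010005001) (nat_lit 4111) (nat_lit 0x8004002003) (nat_lit 0x800800000400200801000100102100100000400600801000100200200400801000d006005))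 (.cD (nat_lit 31) (.cut (nat_lit 0)) .nil))))))
theorem c578 : (chk [(x289, s555), (x289, s577)] [] p578).n x289 s578 = true := by decide +kernel
noncomputable def p579 : Pf := (.anc (nat_lit 72) (nat_lit 0x21001000014006002) (nat_lit 0x1001020010008) (.czp (nat_lit 64) (nat_lit 0) (nat_lit 0x1040020010008004) z6 (.dfs (nat_lit 8) (nat_lit 4097) (nat_lit 4097) (nat_lit 1) (nat_lit 1) (nat_lit 0) (nat_lit 0) (nat_lit 3) (nat_lit 0) (nat_lit 0) (nat_lit 0) (nat_lit 1) (nat_lit 0) (nat_lit 0x1008004) (nat_lit 32772) (nat_lit 0x1001004000008001014000018) (nat_lit 0x1000101110110) (.cD (nat_lit 4) (.dfs (nat_lit 16) (nat_lit 4098) (nat_lit 4098) (nat_lit 4097) (nat_lit 4097) (nat_lit 0) (nat_lit 0) (nat_lit 3) (nat_lit 0) (nat_lit 0) (nat_lit 0) (nat_lit 1) (nat_lit 0) (nat_lit 1) (nat_lit 0) (nat_lit 1) (nat_lit 0x11001100110010) (.cD (nat_lit 4) (.kc (nat_lit 24) (nat_lit 0x3001001)) (.cD (nat_lit 16) (.dfs (nat_lit 32) (nat_lit 4100) (nat_lit 4100) (nat_lit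 0x1002001) (nat_lit 0x1002001) (nat_lit 0) (nat_lit 0) (nat_lit 3) (nat_lit 0) (nat_lit 0) (nat_lit 0) (nat_lit 1) (nat_lit 0) (nat_lit 1) (nat_lit 0) (nat_lit 1) (nat_lit 0x11001100110010) (.cD (nat_lit 4) (.kc (nat_lit 40) (nat_lit 0x5001001)) (.cD (nat_lit 16) (.kc (nat_lit 48) (nat_lit 0x3001001)) (.cD (nat_lit 20) (.kc (nat_lit 56) (nat_lit 0x7001001)) (.cD (nat_lit 32) (.kA false (nat_lit 0x1004002008001006004008014007021001000003)) (.cD (nat_lit 36) (.kA false (nat_lit 0x2100100000500100200d001021001000003)) (.cD (nat_lit 48) (.kA false (nat_lit 0xe00800c01000600500100200d001021001000003)) (.cD (nat_lit 52) (.kA false (nat_lit 0x1004002008001006004008014007021001000003)) .nil)))))))) (.cD (nat_lit 20) (.dfs (nat_lit 32) (nat_lit 4100) (nat_lit 4100) (nat_lit 0x1002001) (nat_lit 0x1002001) (nat_lit 0) (nat_lit 0) (nat_lit 3) (nat_lit 0) (nat_lit 0) (nat_lit 0) (nat_lit 1) (nat_lit 0) (nat_lit 1) (nat_lit 0) (nat_lit 1) (nat_lit 0x11001100110010)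 (.cD (nat_lit 4) (.kc (nat_lit 40) (nat_lit 0x5001001)) (.cD (nat_lit 16) (.kc (nat_lit 56) (nat_lit 0x7001001)) (.cD (nat_lit 20) (.kc (nat_lit 48) (nat_lit 0x3001001)) (.cD (nat_lit 32) (.kA false (nat_lit 0x1004002008001006004008014007021001000003)) (.cD (nat_lit 36) (.kA false (nat_lit 0x2100100000500100200d001021001000003)) (.cD (nat_lit 48) (.kA false (nat_lit 0xe00800a01000600500100200d001021001000003)) (.cD (nat_lit 52) (.kA false (nat_lit 0x1004002008001006004008014007021001000003)) .nil)))))))) (.cD (nat_lit 32) (.kF (nat_lit 16) (nat_lit 0x4010006002002000001006001003)) (.cD (nat_lit 36) (.kF (nat_lit 16) (nat_lit 0x21001000001007001002002000003)) (.cD (nat_lit 48) (.dfs (nat_lit 32) (nat_lit 4100) (nat_lit 4100) (nat_lit 0x1002001) (nat_lit 0x1002001) (nat_lit 0) (nat_lit 0) (nat_lit 3) (nat_lit 0) (nat_lit 0) (nat_lit 0) (nat_lit 1) (nat_lit 0) (nat_lit 1) (nat_lit 0) (nat_lit 1) (nat_lit 0x11001100110010) (.cD (nat_lit 4) (.kc (nat_lit 40)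 (nat_lit 0x5001001)) (.cD (nat_lit 16) (.kA false (nat_lit 0xe00c00801e00500500100200d001021001000003)) (.cD (nat_lit 20) (.kA false (nat_lit 0x200200000500100200d001021001000003)) (.cD (nat_lit 32) (.kA false (nat_lit 0x1004002008001006004008014007021001000003)) (.cD (nat_lit 36) (.kA false (nat_lit 0x2100100000500100200d001021001000003)) (.cD (nat_lit 48) (.kc (nat_lit 48) (nat_lit 0x3001001)) (.cD (nat_lit 52) (.kc (nat_lit 56) (nat_lit 0x7001001)) .nil)))))))) (.cD (nat_lit 52) (.dfs (nat_lit 32) (nat_lit 4100) (nat_lit 4100) (nat_lit 0x1002001) (nat_lit 0x1002001) (nat_lit 0) (nat_lit 0) (nat_lit 3) (nat_lit 0) (nat_lit 0) (nat_lit 0) (nat_lit 1) (nat_lit 0) (nat_lit 1) (nat_lit 0) (nat_lit 1) (nat_lit 0x11001100110010) (.cD (nat_lit 4) (.kc (nat_lit 40) (nat_lit 0x5001001)) (.cD (nat_lit 16) (.kA false (nat_lit 0xe00c00a01e00500500100200d001021001000003)) (.cD (nat_lit 20) (.kA false (nat_lit 0x200200000500100200d001021001000003)) (.cD (nat_lit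 32) (.kA false (nat_lit 0x1004002008001006004008014007021001000003)) (.cD (nat_lit 36) (.kA false (nat_lit 0x2100100000500100200d001021001000003)) (.cD (nat_lit 48) (.kc (nat_lit 56) (nat_lit 0x7001001)) (.cD (nat_lit 52) (.kc (nat_lit 48) (nat_lit 0x3001001)) .nil)))))))) .nil)))))))) (.cD (nat_lit 8) (.dfs (nat_lit 16) (nat_lit 4098) (nat_lit 4098) (nat_lit 4097) (nat_lit 4097) (nat_lit 0) (nat_lit 0) (nat_lit 3) (nat_lit 0) (nat_lit 0) (nat_lit 0) (nat_lit 1) (nat_lit 0) (nat_lit 1) (nat_lit 0) (nat_lit 1) (nat_lit 0x101010101010100) (.cD (nat_lit 8) (.kc (nat_lit 24) (nat_lit 0x3001001)) (.cD (nat_lit 16) (.dfs (nat_lit 32) (nat_lit 4100) (nat_lit 4100) (nat_lit 0x1002001) (nat_lit 0x1002001) (nat_lit 0) (nat_lit 0) (nat_lit 3) (nat_lit 0) (nat_lit 0) (nat_lit 0) (nat_lit 1) (nat_lit 0) (nat_lit 1) (nat_lit 0) (nat_lit 1) (nat_lit 0x101010101010100) (.cD (nat_lit 8) (.kc (nat_lit 40) (nat_lit 0x5001001)) (.cD (nat_lit 16) (.kc (nat_lit 48) (nat_lit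 0x3001001)) (.cD (nat_lit 24) (.kc (nat_lit 56) (nat_lit 0x7001001)) (.cD (nat_lit 32) (.dfs (nat_lit 1) (nat_lit 0x1004001002008) (nat_lit 0x1005001002008) (nat_lit 1) (nat_lit 1) (nat_lit 1) (nat_lit 0) (nat_lit 2) (nat_lit 0) (nat_lit 0) (nat_lit 4) (nat_lit 1) (nat_lit 0) (nat_lit 4104) (nat_lit 8) (nat_lit 0x100000c00001c) (nat_lit 0x10001000) (.cD (nat_lit 12) (.iso x289 s578 (nat_lit 0) (nat_lit 0x1040020010008004002001) (nat_lit 0x40020010008004002001) [(nat_lit 0x10008004002001001001), (nat_lit 0x10008004002001003001), (nat_lit 0x10008004002001007001)] (.cut (nat_lit 0))) (.cD (nat_lit 28) (.iso x289 s578 (nat_lit 0) (nat_lit 0x1040020010008004012011) (nat_lit 0x40020010008004012011) [(nat_lit 0x10008004002005001001), (nat_lit 0x10008004002001003001), (nat_lit 0x10008004002009007001)] (.cut (nat_lit 0))) .nil))) (.cD (nat_lit 40) (.dfs (nat_lit 1) (nat_lit 4101) (nat_lit 4100) (nat_lit 1) (nat_lit 1) (nat_lit 1) (nat_lit 0) (nat_lit 1) (nat_lit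 4128) (nat_lit 0x40020010008004002021) (nat_lit 0) (nat_lit 1) (nat_lit 0) (nat_lit 1) (nat_lit 0) (nat_lit 1) (nat_lit 0) .nil) (.cD (nat_lit 48) (.kA false (nat_lit 0x1004002008001006004008014007021001000003)) (.cD (nat_lit 56) (.kA false (nat_lit 0x1004002008001006004008014007021001000003)) .nil)))))))) (.cD (nat_lit 24) (.dfs (nat_lit 32) (nat_lit 4100) (nat_lit 4100) (nat_lit 0x1002001) (nat_lit 0x1002001) (nat_lit 0) (nat_lit 0) (nat_lit 3) (nat_lit 0) (nat_lit 0) (nat_lit 0) (nat_lit 1) (nat_lit 0) (nat_lit 1) (nat_lit 0) (nat_lit 1) (nat_lit 0x101010101010100) (.cD (nat_lit 8) (.kc (nat_lit 40) (nat_lit 0x5001001)) (.cD (nat_lit 16) (.kc (nat_lit 56) (nat_lit 0x7001001)) (.cD (nat_lit 24) (.kc (nat_lit 48) (nat_lit 0x3001001)) (.cD (nat_lit 32) (.kA false (nat_lit 0x1004002008001006004008014007021001000003)) (.cD (nat_lit 40) (.kA false (nat_lit 0x2100100000500100200d001021001000003)) (.cD (nat_lit 48) (.kA false (nat_lit 0x1004002008001006004008014007021001000003))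 (.cD (nat_lit 56) (.kA false (nat_lit 0x1004002008001006004008014007021001000003)) .nil)))))))) (.cD (nat_lit 32) (.kF (nat_lit 8) (nat_lit 0x3006002021001000002006001003)) (.cD (nat_lit 40) (.kF (nat_lit 16) (nat_lit 0x21001000001007001002002000003)) (.cD (nat_lit 48) (.dfs (nat_lit 32) (nat_lit 4100) (nat_lit 4100) (nat_lit 0x1002001) (nat_lit 0x1002001) (nat_lit 0) (nat_lit 0) (nat_lit 3) (nat_lit 0) (nat_lit 0) (nat_lit 0) (nat_lit 1) (nat_lit 0) (nat_lit 1) (nat_lit 0) (nat_lit 1) (nat_lit 0x101010101010100) (.cD (nat_lit 8) (.kc (nat_lit 40) (nat_lit 0x5001001)) (.cD (nat_lit 16) (.kA false (nat_lit 0x400200300800100400100200c001002)) (.cD (nat_lit 24) (.kA false (nat_lit 0x400600300800100400100200c001002)) (.cD (nat_lit 32) (.kA false (nat_lit 0x1004002008001006004008014007021001000003)) (.cD (nat_lit 40) (.kA false (nat_lit 0x400500300800100400100200c001002)) (.cD (nat_lit 48) (.kc (nat_lit 48) (nat_lit 0x3001001)) (.cD (nat_lit 56) (.kc (nat_lit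 56) (nat_lit 0x7001001)) .nil)))))))) (.cD (nat_lit 56) (.dfs (nat_lit 32) (nat_lit 4100) (nat_lit 4100) (nat_lit 0x1002001) (nat_lit 0x1002001) (nat_lit 0) (nat_lit 0) (nat_lit 3) (nat_lit 0) (nat_lit 0) (nat_lit 0) (nat_lit 1) (nat_lit 0) (nat_lit 1) (nat_lit 0) (nat_lit 1) (nat_lit 0x101010101010100) (.cD (nat_lit 8) (.kc (nat_lit 40) (nat_lit 0x5001001)) (.cD (nat_lit 16) (.kA false (nat_lit 0x400200700800100400100200c001002)) (.cD (nat_lit 24) (.kA false (nat_lit 0x400600700800100400100200c001002)) (.cD (nat_lit 32) (.kA false (nat_lit 0x1004002008001006004008014007021001000003)) (.cD (nat_lit 40) (.kA false (nat_lit 0x400500700800100400100200c001002)) (.cD (nat_lit 48) (.kc (nat_lit 56) (nat_lit 0x7001001)) (.cD (nat_lit 56) (.kc (nat_lit 48) (nat_lit 0x3001001)) .nil)))))))) .nil)))))))) (.cD (nat_lit 16) (.kF (nat_lit 8) (nat_lit 0x2002000001003001002)) (.cD (nat_lit 20) (.kF (nat_lit 8) (nat_lit 0xe01e005001003001002)) (.cD (nat_lit 24) (.kF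 (nat_lit 8) (nat_lit 0x2100100000c014008002002000001003001004)) (.cD (nat_lit 32) (.dfs (nat_lit 16) (nat_lit 4098) (nat_lit 4098) (nat_lit 4097) (nat_lit 4097) (nat_lit 0) (nat_lit 0) (nat_lit 3) (nat_lit 0) (nat_lit 0) (nat_lit 0) (nat_lit 1) (nat_lit 0) (nat_lit 0x1008004) (nat_lit 32772) (nat_lit 0x1001004000008001014000018) (nat_lit 0x1000101110110) (.cD (nat_lit 4) (.kF (nat_lit 16) (nat_lit 0x21001000001006001002)) (.cD (nat_lit 8) (.kF (nat_lit 16) (nat_lit 0x21001000001006001002)) (.cD (nat_lit 16) (.dfs (nat_lit 32) (nat_lit 4100) (nat_lit 4100) (nat_lit 0x1002001) (nat_lit 0x1002001) (nat_lit 0) (nat_lit 0) (nat_lit 3) (nat_lit 0) (nat_lit 0) (nat_lit 0) (nat_lit 1) (nat_lit 0) (nat_lit 0x1008004) (nat_lit 32772) (nat_lit 0x1001004000008001014000018) (nat_lit 0x1000101110110) (.cD (nat_lit 4) (.kA false (nat_lit 0x2100100000400100200c001002)) (.cD (nat_lit 8) (.dfs (nat_lit 1) (nat_lit 4100) (nat_lit 4101) (nat_lit 1) (nat_lit 1) (nat_lit 1)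 (nat_lit 0) (nat_lit 1) (nat_lit 4128) (nat_lit 0x40020010008004002021) (nat_lit 0) (nat_lit 1) (nat_lit 0) (nat_lit 1) (nat_lit 0) (nat_lit 1) (nat_lit 0) .nil) (.cD (nat_lit 16) (.kc (nat_lit 48) (nat_lit 0x3001001)) (.cD (nat_lit 20) (.kA false (nat_lit 0x2100100000400100200c001002)) (.cD (nat_lit 24) (.kA false (nat_lit 0x700400200c002021001000002)) (.cD (nat_lit 32) (.kc (nat_lit 40) (nat_lit 0x5001001)) (.cD (nat_lit 48) (.kc (nat_lit 56) (nat_lit 0x7001001)) .nil)))))))) (.cD (nat_lit 20) (.dfs (nat_lit 32) (nat_lit 4100) (nat_lit 4100) (nat_lit 0x1002001) (nat_lit 0x1002001) (nat_lit 0) (nat_lit 0) (nat_lit 3) (nat_lit 0) (nat_lit 0) (nat_lit 0) (nat_lit 1) (nat_lit 0) (nat_lit 1) (nat_lit 0) (nat_lit 1) (nat_lit 0x11001100110010) (.cD (nat_lit 4) (.kA false (nat_lit 0x2100100000400100200c001002)) (.cD (nat_lit 16) (.kA false (nat_lit 0x2100100000400100200c001002)) (.cD (nat_lit 20) (.kc (nat_lit 48) (nat_lit 0x3001001)) (.cD (nat_lit 32) (.kc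 (nat_lit 40) (nat_lit 0x5001001)) (.cD (nat_lit 36) (.kA false (nat_lit 0x2100100000400100200c001002)) (.cD (nat_lit 48) (.kA false (nat_lit 0x2100100000400100200c001002)) (.cD (nat_lit 52) (.kc (nat_lit 56) (nat_lit 0x7001001)) .nil)))))))) (.cD (nat_lit 24) (.dfs (nat_lit 32) (nat_lit 4100) (nat_lit 4100) (nat_lit 0x1002001) (nat_lit 0x1002001) (nat_lit 0) (nat_lit 0) (nat_lit 3) (nat_lit 0) (nat_lit 0) (nat_lit 0) (nat_lit 1) (nat_lit 0) (nat_lit 1) (nat_lit 0) (nat_lit 1) (nat_lit 0x101010101010100) (.cD (nat_lit 8) (.kA false (nat_lit 0x500400300c002021001000002)) (.cD (nat_lit 16) (.kA false (nat_lit 0x700400100c002021001000002)) (.cD (nat_lit 24) (.kc (nat_lit 48) (nat_lit 0x3001001)) (.cD (nat_lit 32) (.kc (nat_lit 40) (nat_lit 0x5001001)) (.cD (nat_lit 40) (.kA false (nat_lit 0x100400700c002021001000002)) (.cD (nat_lit 48) (.kA false (nat_lit 0x300400500c002021001000002)) (.cD (nat_lit 56) (.kc (nat_lit 56) (nat_lit 0x7001001)) .nil)))))))) (.cD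 (nat_lit 32) (.kc (nat_lit 24) (nat_lit 0x3001001)) (.cD (nat_lit 48) (.dfs (nat_lit 32) (nat_lit 4100) (nat_lit 4100) (nat_lit 0x1002001) (nat_lit 0x1002001) (nat_lit 0) (nat_lit 0) (nat_lit 3) (nat_lit 0) (nat_lit 0) (nat_lit 0) (nat_lit 1) (nat_lit 0) (nat_lit 0x1008004) (nat_lit 32772) (nat_lit 0x1001004000008001014000018) (nat_lit 0x1000101110110) (.cD (nat_lit 4) (.kA false (nat_lit 0x2100100000400100200c001002)) (.cD (nat_lit 8) (.kA false (nat_lit 0x500400600c002021001000002)) (.cD (nat_lit 16) (.kc (nat_lit 56) (nat_lit 0x7001001)) (.cD (nat_lit 20) (.kA false (nat_lit 0x2100100000400100200c001002)) (.cD (nat_lit 24) (.kA false (nat_lit 0x300400600c002021001000002)) (.cD (nat_lit 32) (.kc (nat_lit 40) (nat_lit 0x5001001)) (.cD (nat_lit 48) (.kc (nat_lit 48) (nat_lit 0x3001001)) .nil)))))))) .nil)))))))) (.cD (nat_lit 48) (.kF (nat_lit 8) (nat_lit 0x23003000001003001002)) .nil))))))))))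
theorem c579 : (chk [(x289, s578)] [g55] p579).n x289 s579 = true := by decide +kernel
noncomputable def p580 : Pf := (.ext (nat_lit 1) (nat_lit 0) (nat_lit 0x1040030020004) (nat_lit 0x1002004008005001) (nat_lit 0x2003004008) (nat_lit 4107) (nat_lit 4107) (nat_lit 0xc004002001) (.dfs (nat_lit 11) (nat_lit 0x1002003004008) (nat_lit 0x100200300400c) (nat_lit 4097) (nat_lit 4097) (nat_lit 0) (nat_lit 0) (nat_lit 2) (nat_lit 1) (nat_lit 0) (nat_lit 11) (nat_lit 1) (nat_lit 0) (nat_lit 4160) (nat_lit 64) (nat_lit 0x100000b00000f00001b00001f) (nat_lit 0x88008800) (.cD (nat_lit 11) (.kS (nat_lit 1) (nat_lit 0x2006008010002008008000002) (nat_lit 4111) (nat_lit 0x8004002003) (nat_lit 0x8008000002004008010001001008008000002006008010007001004)) (.cD (nat_lit 15) (.kS (nat_lit 1) (nat_lit 0x2006008010002008008000002) (nat_lit 4139) (nat_lit 0x8004002003) (nat_lit 0x8008000002004008010001001008008000002006008010005001004)) (.cD (nat_lit 27) (.cut (nat_lit 0)) (.cD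 (nat_lit 31) (.iso x289 s579 (nat_lit 0) (nat_lit 0x1040020010008004012001) (nat_lit 0x40020010008004012001) [(nat_lit 0x1000800400200d001001), (nat_lit 0x1000800400200d003001), (nat_lit 0x10008004002009005001)] (.cut (nat_lit 0))) .nil))))))
theorem c580 : (chk [(x289, s579)] [g55] p580).n x289 s580 = true := by decide +kernel
noncomputable def p581 : Pf := (.anc (nat_lit 68) (nat_lit 0x10002002002000002) (nat_lit 0x1009020010004) (.czp (nat_lit 64) (nat_lit 0) (nat_lit 0x1040020010008004) z6 (.dfs (nat_lit 4) (nat_lit 4097) (nat_lit 4097) (nat_lit 1) (nat_lit 1) (nat_lit 0) (nat_lit 0) (nat_lit 3) (nat_lit 0) (nat_lit 0) (nat_lit 0) (nat_lit 1) (nat_lit 0) (nat_lit 0x1008004) (nat_lit 32772) (nat_lit 0x1001004000008001014000018) (nat_lit 0x1000101110110) (.cD (nat_lit 4) (.dfs (nat_lit 16) (nat_lit 4098) (nat_lit 4098) (nat_lit 4097) (nat_lit 4097) (nat_lit 0) (nat_lit 0) (nat_lit 3) (nat_lit 0) (nat_lit 0) (nat_lit 0) (nat_lit 1) (nat_lit 0) (nat_lit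 1) (nat_lit 0) (nat_lit 1) (nat_lit 0x11001100110010) (.cD (nat_lit 4) (.kc (nat_lit 20) (nat_lit 0x3001001)) (.cD (nat_lit 16) (.dfs (nat_lit 32) (nat_lit 4100) (nat_lit 4100) (nat_lit 0x1002001) (nat_lit 0x1002001) (nat_lit 0) (nat_lit 0) (nat_lit 3) (nat_lit 0) (nat_lit 0) (nat_lit 0) (nat_lit 1) (nat_lit 0) (nat_lit 1) (nat_lit 0) (nat_lit 1) (nat_lit 0x11001100110010) (.cD (nat_lit 4) (.kc (nat_lit 36) (nat_lit 0x5001001)) (.cD (nat_lit 16) (.kc (nat_lit 48) (nat_lit 0x3001001)) (.cD (nat_lit 20) (.kc (nat_lit 52) (nat_lit 0x7001001)) (.cD (nat_lit 32) (.dfs (nat_lit 9) (nat_lit 0x1004001003008) (nat_lit 0x1005001003008) (nat_lit 4098) (nat_lit 4098) (nat_lit 0) (nat_lit 0) (nat_lit 2) (nat_lit 1) (nat_lit 0) (nat_lit 8) (nat_lit 1) (nat_lit 0) (nat_lit 4100) (nat_lit 4) (nat_lit 0x1000048000058) (nat_lit 0x10001000000000000000000) (.cD (nat_lit 72) (.kb (nat_lit 9) (nat_lit 0x1021000014006001001003) (nat_lit 0x102001004800c002005)) (.cD (nat_lit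 88) (.kb (nat_lit 25) (nat_lit 0x1021000014006005001003) (nat_lit 0x102001004800c002005)) .nil))) (.cD (nat_lit 36) (.kA true (nat_lit 0x2100100000400100300d001021001000003)) (.cD (nat_lit 48) (.kA true (nat_lit 0x600800401000400400100300d001021001000003)) (.cD (nat_lit 52) (.kA true (nat_lit 0x5004003008001008004002005007021001000003)) .nil)))))))) (.cD (nat_lit 20) (.dfs (nat_lit 32) (nat_lit 4100) (nat_lit 4100) (nat_lit 0x1002001) (nat_lit 0x1002001) (nat_lit 0) (nat_lit 0) (nat_lit 3) (nat_lit 0) (nat_lit 0) (nat_lit 0) (nat_lit 1) (nat_lit 0) (nat_lit 1) (nat_lit 0) (nat_lit 1) (nat_lit 0x11001100110010) (.cD (nat_lit 4) (.kc (nat_lit 36) (nat_lit 0x5001001)) (.cD (nat_lit 16) (.kc (nat_lit 52) (nat_lit 0x7001001)) (.cD (nat_lit 20) (.kc (nat_lit 48) (nat_lit 0x3001001)) (.cD (nat_lit 32) (.kA true (nat_lit 0x5004003008001008004002005007021001000003)) (.cD (nat_lit 36) (.dfs (nat_lit 9) (nat_lit 4102) (nat_lit 4103) (nat_lit 1) (nat_lit 1) (nat_lit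 0) (nat_lit 0) (nat_lit 1) (nat_lit 4112) (nat_lit 0x40020010008004002021) (nat_lit 0) (nat_lit 1) (nat_lit 0) (nat_lit 1) (nat_lit 0) (nat_lit 1) (nat_lit 0) .nil) (.cD (nat_lit 48) (.kA true (nat_lit 0x400300500800100400100300c001002)) (.cD (nat_lit 52) (.kA true (nat_lit 0x400700100800100400100300c001002)) .nil)))))))) (.cD (nat_lit 32) (.kF (nat_lit 16) (nat_lit 0x100400100c012004002002000003)) (.cD (nat_lit 36) (.kF (nat_lit 16) (nat_lit 0x100400100c012004002002000003)) (.cD (nat_lit 48) (.dfs (nat_lit 32) (nat_lit 4100) (nat_lit 4100) (nat_lit 0x1002001) (nat_lit 0x1002001) (nat_lit 0) (nat_lit 0) (nat_lit 3) (nat_lit 0) (nat_lit 0) (nat_lit 0) (nat_lit 1) (nat_lit 0) (nat_lit 1) (nat_lit 0) (nat_lit 1) (nat_lit 0x11001100110010) (.cD (nat_lit 4) (.kc (nat_lit 36) (nat_lit 0x5001001)) (.cD (nat_lit 16) (.kA true (nat_lit 0x400200100800100400100300c001002)) (.cD (nat_lit 20) (.kA true (nat_lit 0x400600500800100400100300c001002)) (.cD (nat_lit 32)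 (.kA true (nat_lit 0x5004003008001008004002005007021001000003)) (.cD (nat_lit 36) (.kA true (nat_lit 0x400500600800100400100300c001002)) (.cD (nat_lit 48) (.kc (nat_lit 48) (nat_lit 0x3001001)) (.cD (nat_lit 52) (.kc (nat_lit 52) (nat_lit 0x7001001)) .nil)))))))) (.cD (nat_lit 52) (.dfs (nat_lit 32) (nat_lit 4100) (nat_lit 4100) (nat_lit 0x1002001) (nat_lit 0x1002001) (nat_lit 0) (nat_lit 0) (nat_lit 3) (nat_lit 0) (nat_lit 0) (nat_lit 0) (nat_lit 1) (nat_lit 0) (nat_lit 1) (nat_lit 0) (nat_lit 1) (nat_lit 0x11001100110010) (.cD (nat_lit 4) (.kc (nat_lit 36) (nat_lit 0x5001001)) (.cD (nat_lit 16) (.kA true (nat_lit 0x400200500800100400100300c001002)) (.cD (nat_lit 20) (.kA true (nat_lit 0x400600100800100400100300c001002)) (.cD (nat_lit 32) (.kA true (nat_lit 0x5004003008001008004002005007021001000003)) (.cD (nat_lit 36) (.kA true (nat_lit 0x400500200800100400100300c001002)) (.cD (nat_lit 48) (.kc (nat_lit 52) (nat_lit 0x7001001)) (.cD (nat_lit 52) (.kc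 (nat_lit 48) (nat_lit 0x3001001)) .nil)))))))) .nil)))))))) (.cD (nat_lit 8) (.dfs (nat_lit 16) (nat_lit 4098) (nat_lit 4098) (nat_lit 4097) (nat_lit 4097) (nat_lit 0) (nat_lit 0) (nat_lit 3) (nat_lit 0) (nat_lit 0) (nat_lit 0) (nat_lit 1) (nat_lit 0) (nat_lit 1) (nat_lit 0) (nat_lit 1) (nat_lit 0x101010101010100) (.cD (nat_lit 8) (.kc (nat_lit 20) (nat_lit 0x3001001)) (.cD (nat_lit 16) (.dfs (nat_lit 32) (nat_lit 4100) (nat_lit 4100) (nat_lit 0x1002001) (nat_lit 0x1002001) (nat_lit 0) (nat_lit 0) (nat_lit 3) (nat_lit 0) (nat_lit 0) (nat_lit 0) (nat_lit 1) (nat_lit 0) (nat_lit 1) (nat_lit 0) (nat_lit 1) (nat_lit 0x101010101010100) (.cD (nat_lit 8) (.kc (nat_lit 36) (nat_lit 0x5001001)) (.cD (nat_lit 16) (.kc (nat_lit 48) (nat_lit 0x3001001)) (.cD (nat_lit 24) (.kc (nat_lit 52) (nat_lit 0x7001001)) (.cD (nat_lit 32) (.kA false (nat_lit 0x100400200c002006004008014005021001000003)) (.cD (nat_lit 40) (.kA false (nat_lit 0x2100100000100500200d002021001000003))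 (.cD (nat_lit 48) (.kA false (nat_lit 0xe00800c01000400700300200b002021001000003)) (.cD (nat_lit 56) (.kA false (nat_lit 0x700400200c002006004008014005021001000003)) .nil)))))))) (.cD (nat_lit 24) (.dfs (nat_lit 32) (nat_lit 4100) (nat_lit 4100) (nat_lit 0x1002001) (nat_lit 0x1002001) (nat_lit 0) (nat_lit 0) (nat_lit 3) (nat_lit 0) (nat_lit 0) (nat_lit 0) (nat_lit 1) (nat_lit 0) (nat_lit 1) (nat_lit 0) (nat_lit 1) (nat_lit 0x101010101010100) (.cD (nat_lit 8) (.kc (nat_lit 36) (nat_lit 0x5001001)) (.cD (nat_lit 16) (.kc (nat_lit 52) (nat_lit 0x7001001)) (.cD (nat_lit 24) (.kc (nat_lit 48) (nat_lit 0x3001001)) (.cD (nat_lit 32) (.kA false (nat_lit 0x100400600c002006004008014005021001000003)) (.cD (nat_lit 40) (.kA false (nat_lit 0x2100100000100500600d002021001000003)) (.cD (nat_lit 48) (.kA false (nat_lit 0x700400600c002006004008014005021001000003)) (.cD (nat_lit 56) (.kA false (nat_lit 0xe00800a01000400700300600b002021001000003)) .nil)))))))) (.cD (nat_lit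 32) (.kF (nat_lit 16) (nat_lit 0x100400100c012004002002000003)) (.cD (nat_lit 40) (.kF (nat_lit 16) (nat_lit 0x100400100c012004002002000003)) (.cD (nat_lit 48) (.dfs (nat_lit 32) (nat_lit 4100) (nat_lit 4100) (nat_lit 0x1002001) (nat_lit 0x1002001) (nat_lit 0) (nat_lit 0) (nat_lit 3) (nat_lit 0) (nat_lit 0) (nat_lit 0) (nat_lit 1) (nat_lit 0) (nat_lit 1) (nat_lit 0) (nat_lit 1) (nat_lit 0x101010101010100) (.cD (nat_lit 8) (.kc (nat_lit 36) (nat_lit 0x5001001)) (.cD (nat_lit 16) (.kA false (nat_lit 0xe00800401000400700300100b002021001000003)) (.cD (nat_lit 24) (.kA false (nat_lit 0x700400500c002006004008014005021001000003)) (.cD (nat_lit 32) (.kA false (nat_lit 0x100400300c002006004008014005021001000003)) (.cD (nat_lit 40) (.kA false (nat_lit 0x2100100000100500700d002021001000003)) (.cD (nat_lit 48) (.kc (nat_lit 48) (nat_lit 0x3001001)) (.cD (nat_lit 56) (.kc (nat_lit 52) (nat_lit 0x7001001)) .nil)))))))) (.cD (nat_lit 56) (.dfs (nat_lit 32) (nat_lit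 4100) (nat_lit 4100) (nat_lit 0x1002001) (nat_lit 0x1002001) (nat_lit 0) (nat_lit 0) (nat_lit 3) (nat_lit 0) (nat_lit 0) (nat_lit 0) (nat_lit 1) (nat_lit 0) (nat_lit 1) (nat_lit 0) (nat_lit 1) (nat_lit 0x101010101010100) (.cD (nat_lit 8) (.kc (nat_lit 36) (nat_lit 0x5001001)) (.cD (nat_lit 16) (.kA false (nat_lit 0x700400100c002006004008014005021001000003)) (.cD (nat_lit 24) (.kA false (nat_lit 0xe00800201000400700300500b002021001000003)) (.cD (nat_lit 32) (.kA false (nat_lit 0x100400700c002006004008014005021001000003)) (.cD (nat_lit 40) (.kA false (nat_lit 0x2100100000100500300d002021001000003)) (.cD (nat_lit 48) (.kc (nat_lit 52) (nat_lit 0x7001001)) (.cD (nat_lit 56) (.kc (nat_lit 48) (nat_lit 0x3001001)) .nil)))))))) .nil)))))))) (.cD (nat_lit 16) (.kF (nat_lit 4) (nat_lit 0x2002000001003001002)) (.cD (nat_lit 20) (.kF (nat_lit 4) (nat_lit 0xe01e003001003001002)) (.cD (nat_lit 24) (.kF (nat_lit 4) (nat_lit 0x1002001002012004002002000003)) (.cD (nat_lit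 32) (.dfs (nat_lit 16) (nat_lit 4098) (nat_lit 4098) (nat_lit 4097) (nat_lit 4097) (nat_lit 0) (nat_lit 0) (nat_lit 3) (nat_lit 0) (nat_lit 0) (nat_lit 0) (nat_lit 1) (nat_lit 0) (nat_lit 0x1008004) (nat_lit 32772) (nat_lit 0x1001004000008001014000018) (nat_lit 0x1000101110110) (.cD (nat_lit 4) (.kF (nat_lit 16) (nat_lit 0x21001000001006001002)) (.cD (nat_lit 8) (.kF (nat_lit 16) (nat_lit 0x21001000001006001002)) (.cD (nat_lit 16) (.dfs (nat_lit 32) (nat_lit 4100) (nat_lit 4100) (nat_lit 0x1002001) (nat_lit 0x1002001) (nat_lit 0) (nat_lit 0) (nat_lit 3) (nat_lit 0) (nat_lit 0) (nat_lit 0) (nat_lit 1) (nat_lit 0) (nat_lit 0x1008004) (nat_lit 32772) (nat_lit 0x1001004000008001014000018) (nat_lit 0x1000101110110) (.cD (nat_lit 4) (.kA true (nat_lit 0x100400600c002021001000002)) (.cD (nat_lit 8) (.kA false (nat_lit 0x500400200c002021001000002)) (.cD (nat_lit 16) (.kc (nat_lit 48) (nat_lit 0x3001001)) (.cD (nat_lit 20) (.kA true (nat_lit 0x300400600c002021001000002))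 (.cD (nat_lit 24) (.kA false (nat_lit 0x700400200c002021001000002)) (.cD (nat_lit 32) (.kc (nat_lit 36) (nat_lit 0x5001001)) (.cD (nat_lit 48) (.kc (nat_lit 52) (nat_lit 0x7001001)) .nil)))))))) (.cD (nat_lit 20) (.dfs (nat_lit 32) (nat_lit 4100) (nat_lit 4100) (nat_lit 0x1002001) (nat_lit 0x1002001) (nat_lit 0) (nat_lit 0) (nat_lit 3) (nat_lit 0) (nat_lit 0) (nat_lit 0) (nat_lit 1) (nat_lit 0) (nat_lit 1) (nat_lit 0) (nat_lit 1) (nat_lit 0x11001100110010) (.cD (nat_lit 4) (.kA true (nat_lit 0x100400700c002021001000002)) (.cD (nat_lit 16) (.kA true (nat_lit 0x300400500c002021001000002)) (.cD (nat_lit 20) (.kc (nat_lit 48) (nat_lit 0x3001001)) (.cD (nat_lit 32) (.kc (nat_lit 36) (nat_lit 0x5001001)) (.cD (nat_lit 36) (.dfs (nat_lit 9) (nat_lit 4100) (nat_lit 4101) (nat_lit 1) (nat_lit 1) (nat_lit 0) (nat_lit 0) (nat_lit 1) (nat_lit 4128) (nat_lit 0x40020010008004002021) (nat_lit 0) (nat_lit 1) (nat_lit 0) (nat_lit 1) (nat_lit 0) (nat_lit 1) (nat_lit 0)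 .nil) (.cD (nat_lit 48) (.kA true (nat_lit 0x700400100c002021001000002)) (.cD (nat_lit 52) (.kc (nat_lit 52) (nat_lit 0x7001001)) .nil)))))))) (.cD (nat_lit 24) (.dfs (nat_lit 32) (nat_lit 4100) (nat_lit 4100) (nat_lit 0x1002001) (nat_lit 0x1002001) (nat_lit 0) (nat_lit 0) (nat_lit 3) (nat_lit 0) (nat_lit 0) (nat_lit 0) (nat_lit 1) (nat_lit 0) (nat_lit 1) (nat_lit 0) (nat_lit 1) (nat_lit 0x101010101010100) (.cD (nat_lit 8) (.kA false (nat_lit 0x500400300c002021001000002)) (.cD (nat_lit 16) (.kA false (nat_lit 0x700400100c002021001000002)) (.cD (nat_lit 24) (.kc (nat_lit 48) (nat_lit 0x3001001)) (.cD (nat_lit 32) (.kc (nat_lit 36) (nat_lit 0x5001001)) (.cD (nat_lit 40) (.kA false (nat_lit 0x100400700c002021001000002)) (.cD (nat_lit 48) (.kA false (nat_lit 0x300400500c002021001000002)) (.cD (nat_lit 56) (.kc (nat_lit 52) (nat_lit 0x7001001)) .nil)))))))) (.cD (nat_lit 32) (.kc (nat_lit 20) (nat_lit 0x3001001)) (.cD (nat_lit 48) (.dfs (nat_lit 32) (nat_lit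 4100) (nat_lit 4100) (nat_lit 0x1002001) (nat_lit 0x1002001) (nat_lit 0) (nat_lit 0) (nat_lit 3) (nat_lit 0) (nat_lit 0) (nat_lit 0) (nat_lit 1) (nat_lit 0) (nat_lit 0x1008004) (nat_lit 32772) (nat_lit 0x1001004000008001014000018) (nat_lit 0x1000101110110) (.cD (nat_lit 4) (.kA true (nat_lit 0x100400200c002021001000002)) (.cD (nat_lit 8) (.kA false (nat_lit 0x500400600c002021001000002)) (.cD (nat_lit 16) (.kc (nat_lit 52) (nat_lit 0x7001001)) (.cD (nat_lit 20) (.kA true (nat_lit 0x700400200c002021001000002)) (.cD (nat_lit 24) (.kA false (nat_lit 0x300400600c002021001000002)) (.cD (nat_lit 32) (.kc (nat_lit 36) (nat_lit 0x5001001)) (.cD (nat_lit 48) (.kc (nat_lit 48) (nat_lit 0x3001001)) .nil)))))))) .nil)))))))) (.cD (nat_lit 48) (.kF (nat_lit 4) (nat_lit 0x1002001002012004002002000003)) .nil))))))))))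
theorem c581 : (chk [] [] p581).n x298 s581 = true := by decide +kernel
noncomputable def p582 : Pf := (.anc (nat_lit 68) (nat_lit 0x10002002002000002) (nat_lit 0x1009020010004) (.czp (nat_lit 64) (nat_lit 0) (nat_lit 0x1040020010008004) z6 (.dfs (nat_lit 4) (nat_lit 4097) (nat_lit 4097) (nat_lit 1) (nat_lit 1) (nat_lit 0) (nat_lit 0) (nat_lit 3) (nat_lit 0) (nat_lit 0) (nat_lit 0) (nat_lit 1) (nat_lit 0) (nat_lit 0x1008004) (nat_lit 32772) (nat_lit 0x1001004000008001014000018) (nat_lit 0x1000101110110) (.cD (nat_lit 4) (.dfs (nat_lit 16) (nat_lit 4098) (nat_lit 4098) (nat_lit 4097) (nat_lit 4097) (nat_lit 0) (nat_lit 0) (nat_lit 3) (nat_lit 0) (nat_lit 0) (nat_lit 0) (nat_lit 1) (nat_lit 0) (nat_lit 1) (nat_lit 0) (nat_lit 1) (nat_lit 0x11001100110010) (.cD (nat_lit 4) (.kc (nat_lit 20) (nat_lit 0x3001001)) (.cD (nat_lit 16) (.dfs (nat_lit 32) (nat_lit 4100) (nat_lit 4100) (nat_lit 0x1002001) (nat_lit 0x1002001) (nat_lit 0) (nat_lit 0) (nat_lit 3) (nat_lit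 0) (nat_lit 0) (nat_lit 0) (nat_lit 1) (nat_lit 0) (nat_lit 1) (nat_lit 0) (nat_lit 1) (nat_lit 0x11001100110010) (.cD (nat_lit 4) (.kc (nat_lit 36) (nat_lit 0x5001001)) (.cD (nat_lit 16) (.kc (nat_lit 48) (nat_lit 0x3001001)) (.cD (nat_lit 20) (.kc (nat_lit 52) (nat_lit 0x7001001)) (.cD (nat_lit 32) (.dfs (nat_lit 9) (nat_lit 0x1004001003008) (nat_lit 0x1005001003008) (nat_lit 4098) (nat_lit 4098) (nat_lit 2) (nat_lit 0) (nat_lit 2) (nat_lit 1) (nat_lit 0) (nat_lit 8) (nat_lit 1) (nat_lit 0) (nat_lit 1) (nat_lit 0) (nat_lit 1) (nat_lit 0) .nil) (.cD (nat_lit 36) (.kA true (nat_lit 0x3100100000400100300d001031001000003)) (.cD (nat_lit 48) (.kA true (nat_lit 0x600800401000400400100300d001031001000003)) (.cD (nat_lit 52) (.kA true (nat_lit 0x5004003008001008004002005007031001000003)) .nil)))))))) (.cD (nat_lit 20) (.dfs (nat_lit 32) (nat_lit 4100) (nat_lit 4100) (nat_lit 0x1002001) (nat_lit 0x1002001) (nat_lit 0) (nat_lit 0) (nat_lit 3) (nat_lit 0) (nat_lit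 0) (nat_lit 0) (nat_lit 1) (nat_lit 0) (nat_lit 1) (nat_lit 0) (nat_lit 1) (nat_lit 0x11001100110010) (.cD (nat_lit 4) (.kc (nat_lit 36) (nat_lit 0x5001001)) (.cD (nat_lit 16) (.kc (nat_lit 52) (nat_lit 0x7001001)) (.cD (nat_lit 20) (.kc (nat_lit 48) (nat_lit 0x3001001)) (.cD (nat_lit 32) (.kA true (nat_lit 0x5004003008001008004002005007031001000003)) (.cD (nat_lit 36) (.dfs (nat_lit 9) (nat_lit 4102) (nat_lit 4103) (nat_lit 1) (nat_lit 1) (nat_lit 2) (nat_lit 0) (nat_lit 1) (nat_lit 4112) (nat_lit 0x40020010008004002031) (nat_lit 0) (nat_lit 1) (nat_lit 0) (nat_lit 1) (nat_lit 0) (nat_lit 1) (nat_lit 0) .nil) (.cD (nat_lit 48) (.kA true (nat_lit 0x400300500800100400100300c001002)) (.cD (nat_lit 52) (.kA true (nat_lit 0x400700100800100400100300c001002)) .nil)))))))) (.cD (nat_lit 32) (.kF (nat_lit 16) (nat_lit 0x100400100c012004002002000003)) (.cD (nat_lit 36) (.kF (nat_lit 16) (nat_lit 0x100400100c012004002002000003)) (.cD (nat_lit 48) (.dfs (nat_lit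 32) (nat_lit 4100) (nat_lit 4100) (nat_lit 0x1002001) (nat_lit 0x1002001) (nat_lit 0) (nat_lit 0) (nat_lit 3) (nat_lit 0) (nat_lit 0) (nat_lit 0) (nat_lit 1) (nat_lit 0) (nat_lit 1) (nat_lit 0) (nat_lit 1) (nat_lit 0x11001100110010) (.cD (nat_lit 4) (.kc (nat_lit 36) (nat_lit 0x5001001)) (.cD (nat_lit 16) (.kA true (nat_lit 0x400200100800100400100300c001002)) (.cD (nat_lit 20) (.kA true (nat_lit 0x400600500800100400100300c001002)) (.cD (nat_lit 32) (.kA true (nat_lit 0x5004003008001008004002005007031001000003)) (.cD (nat_lit 36) (.kA true (nat_lit 0x400500600800100400100300c001002)) (.cD (nat_lit 48) (.kc (nat_lit 48) (nat_lit 0x3001001)) (.cD (nat_lit 52) (.kc (nat_lit 52) (nat_lit 0x7001001)) .nil)))))))) (.cD (nat_lit 52) (.dfs (nat_lit 32) (nat_lit 4100) (nat_lit 4100) (nat_lit 0x1002001) (nat_lit 0x1002001) (nat_lit 0) (nat_lit 0) (nat_lit 3) (nat_lit 0) (nat_lit 0) (nat_lit 0) (nat_lit 1) (nat_lit 0) (nat_lit 1) (nat_lit 0) (nat_lit 1) (nat_lit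 0x11001100110010) (.cD (nat_lit 4) (.kc (nat_lit 36) (nat_lit 0x5001001)) (.cD (nat_lit 16) (.kA true (nat_lit 0x400200500800100400100300c001002)) (.cD (nat_lit 20) (.kA true (nat_lit 0x400600100800100400100300c001002)) (.cD (nat_lit 32) (.kA true (nat_lit 0x5004003008001008004002005007031001000003)) (.cD (nat_lit 36) (.kA true (nat_lit 0x400500200800100400100300c001002)) (.cD (nat_lit 48) (.kc (nat_lit 52) (nat_lit 0x7001001)) (.cD (nat_lit 52) (.kc (nat_lit 48) (nat_lit 0x3001001)) .nil)))))))) .nil)))))))) (.cD (nat_lit 8) (.dfs (nat_lit 16) (nat_lit 4098) (nat_lit 4098) (nat_lit 4097) (nat_lit 4097) (nat_lit 0) (nat_lit 0) (nat_lit 3) (nat_lit 0) (nat_lit 0) (nat_lit 0) (nat_lit 1) (nat_lit 0) (nat_lit 1) (nat_lit 0) (nat_lit 1) (nat_lit 0x101010101010100) (.cD (nat_lit 8) (.kc (nat_lit 20) (nat_lit 0x3001001)) (.cD (nat_lit 16) (.dfs (nat_lit 32) (nat_lit 4100) (nat_lit 4100) (nat_lit 0x1002001) (nat_lit 0x1002001) (nat_lit 0) (nat_lit 0) (nat_lit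 3) (nat_lit 0) (nat_lit 0) (nat_lit 0) (nat_lit 1) (nat_lit 0) (nat_lit 1) (nat_lit 0) (nat_lit 1) (nat_lit 0x101010101010100) (.cD (nat_lit 8) (.kc (nat_lit 36) (nat_lit 0x5001001)) (.cD (nat_lit 16) (.kc (nat_lit 48) (nat_lit 0x3001001)) (.cD (nat_lit 24) (.kc (nat_lit 52) (nat_lit 0x7001001)) (.cD (nat_lit 32) (.kA false (nat_lit 0x100400200c002006004008014005031001000003)) (.cD (nat_lit 40) (.kA false (nat_lit 0x3100100000100500200d002031001000003)) (.cD (nat_lit 48) (.kA false (nat_lit 0xe00800c01000400700300200b002031001000003)) (.cD (nat_lit 56) (.kA false (nat_lit 0x700400200c002006004008014005031001000003)) .nil)))))))) (.cD (nat_lit 24) (.dfs (nat_lit 32) (nat_lit 4100) (nat_lit 4100) (nat_lit 0x1002001) (nat_lit 0x1002001) (nat_lit 0) (nat_lit 0) (nat_lit 3) (nat_lit 0) (nat_lit 0) (nat_lit 0) (nat_lit 1) (nat_lit 0) (nat_lit 1) (nat_lit 0) (nat_lit 1) (nat_lit 0x101010101010100) (.cD (nat_lit 8) (.kc (nat_lit 36) (nat_lit 0x5001001)) (.cD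 (nat_lit 16) (.kc (nat_lit 52) (nat_lit 0x7001001)) (.cD (nat_lit 24) (.kc (nat_lit 48) (nat_lit 0x3001001)) (.cD (nat_lit 32) (.kA false (nat_lit 0x100400600c002006004008014005031001000003)) (.cD (nat_lit 40) (.kA false (nat_lit 0x3100100000100500600d002031001000003)) (.cD (nat_lit 48) (.kA false (nat_lit 0x700400600c002006004008014005031001000003)) (.cD (nat_lit 56) (.kA false (nat_lit 0xe00800a01000400700300600b002031001000003)) .nil)))))))) (.cD (nat_lit 32) (.kF (nat_lit 16) (nat_lit 0x100400100c012004002002000003)) (.cD (nat_lit 40) (.kF (nat_lit 16) (nat_lit 0x100400100c012004002002000003)) (.cD (nat_lit 48) (.dfs (nat_lit 32) (nat_lit 4100) (nat_lit 4100) (nat_lit 0x1002001) (nat_lit 0x1002001) (nat_lit 0) (nat_lit 0) (nat_lit 3) (nat_lit 0) (nat_lit 0) (nat_lit 0) (nat_lit 1) (nat_lit 0) (nat_lit 1) (nat_lit 0) (nat_lit 1) (nat_lit 0x101010101010100) (.cD (nat_lit 8) (.kc (nat_lit 36) (nat_lit 0x5001001)) (.cD (nat_lit 16) (.kA false (nat_lit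 0xe00800401000400700300100b002031001000003)) (.cD (nat_lit 24) (.kA false (nat_lit 0x700400500c002006004008014005031001000003)) (.cD (nat_lit 32) (.kA false (nat_lit 0x100400300c002006004008014005031001000003)) (.cD (nat_lit 40) (.kA false (nat_lit 0x3100100000100500700d002031001000003)) (.cD (nat_lit 48) (.kc (nat_lit 48) (nat_lit 0x3001001)) (.cD (nat_lit 56) (.kc (nat_lit 52) (nat_lit 0x7001001)) .nil)))))))) (.cD (nat_lit 56) (.dfs (nat_lit 32) (nat_lit 4100) (nat_lit 4100) (nat_lit 0x1002001) (nat_lit 0x1002001) (nat_lit 0) (nat_lit 0) (nat_lit 3) (nat_lit 0) (nat_lit 0) (nat_lit 0) (nat_lit 1) (nat_lit 0) (nat_lit 1) (nat_lit 0) (nat_lit 1) (nat_lit 0x101010101010100) (.cD (nat_lit 8) (.kc (nat_lit 36) (nat_lit 0x5001001)) (.cD (nat_lit 16) (.kA false (nat_lit 0x700400100c002006004008014005031001000003)) (.cD (nat_lit 24) (.kA false (nat_lit 0xe00800201000400700300500b002031001000003)) (.cD (nat_lit 32) (.kA false (nat_lit 0x100400700c002006004008014005031001000003))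 (.cD (nat_lit 40) (.kA false (nat_lit 0x3100100000100500300d002031001000003)) (.cD (nat_lit 48) (.kc (nat_lit 52) (nat_lit 0x7001001)) (.cD (nat_lit 56) (.kc (nat_lit 48) (nat_lit 0x3001001)) .nil)))))))) .nil)))))))) (.cD (nat_lit 16) (.kF (nat_lit 4) (nat_lit 0x2002000001003001002)) (.cD (nat_lit 20) (.kF (nat_lit 4) (nat_lit 0xe01e003001003001002)) (.cD (nat_lit 24) (.kF (nat_lit 4) (nat_lit 0x1002001002012004002002000003)) (.cD (nat_lit 32) (.dfs (nat_lit 16) (nat_lit 4098) (nat_lit 4098) (nat_lit 4097) (nat_lit 4097) (nat_lit 0) (nat_lit 0) (nat_lit 3) (nat_lit 0) (nat_lit 0) (nat_lit 0) (nat_lit 1) (nat_lit 0) (nat_lit 0x1008004) (nat_lit 32772) (nat_lit 0x1001004000008001014000018) (nat_lit 0x1000101110110) (.cD (nat_lit 4) (.kF (nat_lit 16) (nat_lit 0x31001000001006001002)) (.cD (nat_lit 8) (.kF (nat_lit 16) (nat_lit 0x31001000001006001002)) (.cD (nat_lit 16) (.dfs (nat_lit 32) (nat_lit 4100) (nat_lit 4100) (nat_lit 0x1002001) (nat_lit 0x1002001)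 (nat_lit 0) (nat_lit 0) (nat_lit 3) (nat_lit 0) (nat_lit 0) (nat_lit 0) (nat_lit 1) (nat_lit 0) (nat_lit 0x1008004) (nat_lit 32772) (nat_lit 0x1001004000008001014000018) (nat_lit 0x1000101110110) (.cD (nat_lit 4) (.kA true (nat_lit 0x100400600c002031001000002)) (.cD (nat_lit 8) (.kA false (nat_lit 0x500400200c002031001000002)) (.cD (nat_lit 16) (.kc (nat_lit 48) (nat_lit 0x3001001)) (.cD (nat_lit 20) (.kA true (nat_lit 0x300400600c002031001000002)) (.cD (nat_lit 24) (.kA false (nat_lit 0x700400200c002031001000002)) (.cD (nat_lit 32) (.kc (nat_lit 36) (nat_lit 0x5001001)) (.cD (nat_lit 48) (.kc (nat_lit 52) (nat_lit 0x7001001)) .nil)))))))) (.cD (nat_lit 20) (.dfs (nat_lit 32) (nat_lit 4100) (nat_lit 4100) (nat_lit 0x1002001) (nat_lit 0x1002001) (nat_lit 0) (nat_lit 0) (nat_lit 3) (nat_lit 0) (nat_lit 0) (nat_lit 0) (nat_lit 1) (nat_lit 0) (nat_lit 1) (nat_lit 0) (nat_lit 1) (nat_lit 0x11001100110010) (.cD (nat_lit 4) (.kA true (nat_lit 0x100400700c002031001000002))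 (.cD (nat_lit 16) (.kA true (nat_lit 0x300400500c002031001000002)) (.cD (nat_lit 20) (.kc (nat_lit 48) (nat_lit 0x3001001)) (.cD (nat_lit 32) (.kc (nat_lit 36) (nat_lit 0x5001001)) (.cD (nat_lit 36) (.dfs (nat_lit 9) (nat_lit 4100) (nat_lit 4101) (nat_lit 1) (nat_lit 1) (nat_lit 2) (nat_lit 0) (nat_lit 1) (nat_lit 4128) (nat_lit 0x40020010008004002031) (nat_lit 0) (nat_lit 1) (nat_lit 0) (nat_lit 1) (nat_lit 0) (nat_lit 1) (nat_lit 0) .nil) (.cD (nat_lit 48) (.kA true (nat_lit 0x700400100c002031001000002)) (.cD (nat_lit 52) (.kc (nat_lit 52) (nat_lit 0x7001001)) .nil)))))))) (.cD (nat_lit 24) (.dfs (nat_lit 32) (nat_lit 4100) (nat_lit 4100) (nat_lit 0x1002001) (nat_lit 0x1002001) (nat_lit 0) (nat_lit 0) (nat_lit 3) (nat_lit 0) (nat_lit 0) (nat_lit 0) (nat_lit 1) (nat_lit 0) (nat_lit 1) (nat_lit 0) (nat_lit 1) (nat_lit 0x101010101010100) (.cD (nat_lit 8) (.kA false (nat_lit 0x500400300c002031001000002)) (.cD (nat_lit 16) (.kA false (nat_lit 0x700400100c002031001000002))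 (.cD (nat_lit 24) (.kc (nat_lit 48) (nat_lit 0x3001001)) (.cD (nat_lit 32) (.kc (nat_lit 36) (nat_lit 0x5001001)) (.cD (nat_lit 40) (.kA false (nat_lit 0x100400700c002031001000002)) (.cD (nat_lit 48) (.kA false (nat_lit 0x300400500c002031001000002)) (.cD (nat_lit 56) (.kc (nat_lit 52) (nat_lit 0x7001001)) .nil)))))))) (.cD (nat_lit 32) (.kc (nat_lit 20) (nat_lit 0x3001001)) (.cD (nat_lit 48) (.dfs (nat_lit 32) (nat_lit 4100) (nat_lit 4100) (nat_lit 0x1002001) (nat_lit 0x1002001) (nat_lit 0) (nat_lit 0) (nat_lit 3) (nat_lit 0) (nat_lit 0) (nat_lit 0) (nat_lit 1) (nat_lit 0) (nat_lit 0x1008004) (nat_lit 32772) (nat_lit 0x1001004000008001014000018) (nat_lit 0x1000101110110) (.cD (nat_lit 4) (.kA true (nat_lit 0x100400200c002031001000002)) (.cD (nat_lit 8) (.kA false (nat_lit 0x500400600c002031001000002)) (.cD (nat_lit 16) (.kc (nat_lit 52) (nat_lit 0x7001001)) (.cD (nat_lit 20) (.kA true (nat_lit 0x700400200c002031001000002)) (.cD (nat_lit 24) (.kA false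 (nat_lit 0x300400600c002031001000002)) (.cD (nat_lit 32) (.kc (nat_lit 36) (nat_lit 0x5001001)) (.cD (nat_lit 48) (.kc (nat_lit 48) (nat_lit 0x3001001)) .nil)))))))) .nil)))))))) (.cD (nat_lit 48) (.kF (nat_lit 4) (nat_lit 0x1002001002012004002002000003)) .nil))))))))))
theorem c582 : (chk [] [] p582).n x299 s582 = true := by decide +kernel
noncomputable def p583 : Pf := (.anc (nat_lit 68) (nat_lit 0x10002002002000002) (nat_lit 0x1009020010004) (.czp (nat_lit 64) (nat_lit 0) (nat_lit 0x1040020010008004) z6 (.dfs (nat_lit 4) (nat_lit 4097) (nat_lit 4097) (nat_lit 1) (nat_lit 1) (nat_lit 0) (nat_lit 0) (nat_lit 3) (nat_lit 0) (nat_lit 0) (nat_lit 0) (nat_lit 1) (nat_lit 0) (nat_lit 0x1008004) (nat_lit 32772) (nat_lit 0x1001004000008001014000018) (nat_lit 0x1000101110110) (.cD (nat_lit 4) (.dfs (nat_lit 16) (nat_lit 4098) (nat_lit 4098) (nat_lit 4097) (nat_lit 4097) (nat_lit 0) (nat_lit 0) (nat_lit 3) (nat_lit 0) (nat_lit 0) (nat_lit 0) (nat_lit 1) (nat_lit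 0) (nat_lit 1) (nat_lit 0) (nat_lit 1) (nat_lit 0x11001100110010) (.cD (nat_lit 4) (.kc (nat_lit 20) (nat_lit 0x3001001)) (.cD (nat_lit 16) (.dfs (nat_lit 32) (nat_lit 4100) (nat_lit 4100) (nat_lit 0x1002001) (nat_lit 0x1002001) (nat_lit 0) (nat_lit 0) (nat_lit 3) (nat_lit 0) (nat_lit 0) (nat_lit 0) (nat_lit 1) (nat_lit 0) (nat_lit 1) (nat_lit 0) (nat_lit 1) (nat_lit 0x11001100110010) (.cD (nat_lit 4) (.kc (nat_lit 36) (nat_lit 0x5001001)) (.cD (nat_lit 16) (.kc (nat_lit 48) (nat_lit 0x3001001)) (.cD (nat_lit 20) (.kc (nat_lit 52) (nat_lit 0x7001001)) (.cD (nat_lit 32) (.dfs (nat_lit 9) (nat_lit 0x1004001003008) (nat_lit 0x1005001003008) (nat_lit 4098) (nat_lit 4098) (nat_lit 2) (nat_lit 0) (nat_lit 2) (nat_lit 1) (nat_lit 0) (nat_lit 8) (nat_lit 1) (nat_lit 0) (nat_lit 1) (nat_lit 0) (nat_lit 1) (nat_lit 0) .nil) (.cD (nat_lit 36) (.kA true (nat_lit 0x3100100000400100300d001031001000003)) (.cD (nat_lit 48) (.kA true (nat_lit 0x600800401000400400100300d001031001000003))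 (.cD (nat_lit 52) (.kA true (nat_lit 0x5004003008001008004002005007031001000003)) .nil)))))))) (.cD (nat_lit 20) (.dfs (nat_lit 32) (nat_lit 4100) (nat_lit 4100) (nat_lit 0x1002001) (nat_lit 0x1002001) (nat_lit 0) (nat_lit 0) (nat_lit 3) (nat_lit 0) (nat_lit 0) (nat_lit 0) (nat_lit 1) (nat_lit 0) (nat_lit 1) (nat_lit 0) (nat_lit 1) (nat_lit 0x11001100110010) (.cD (nat_lit 4) (.kc (nat_lit 36) (nat_lit 0x5001001)) (.cD (nat_lit 16) (.kc (nat_lit 52) (nat_lit 0x7001001)) (.cD (nat_lit 20) (.kc (nat_lit 48) (nat_lit 0x3001001)) (.cD (nat_lit 32) (.kA true (nat_lit 0x5004003008001008004002005007031001000003)) (.cD (nat_lit 36) (.dfs (nat_lit 9) (nat_lit 4102) (nat_lit 4103) (nat_lit 1) (nat_lit 1) (nat_lit 2) (nat_lit 0) (nat_lit 1) (nat_lit 4112) (nat_lit 0x40020010008004002031) (nat_lit 0) (nat_lit 1) (nat_lit 0) (nat_lit 1) (nat_lit 0) (nat_lit 1) (nat_lit 0) .nil) (.cD (nat_lit 48) (.kA true (nat_lit 0x400300500800100400100300c001002)) (.cD (nat_lit 52)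 (.kA true (nat_lit 0x400700100800100400100300c001002)) .nil)))))))) (.cD (nat_lit 32) (.kF (nat_lit 16) (nat_lit 0x100400100c012004002002000003)) (.cD (nat_lit 36) (.kF (nat_lit 16) (nat_lit 0x100400100c012004002002000003)) (.cD (nat_lit 48) (.dfs (nat_lit 32) (nat_lit 4100) (nat_lit 4100) (nat_lit 0x1002001) (nat_lit 0x1002001) (nat_lit 0) (nat_lit 0) (nat_lit 3) (nat_lit 0) (nat_lit 0) (nat_lit 0) (nat_lit 1) (nat_lit 0) (nat_lit 1) (nat_lit 0) (nat_lit 1) (nat_lit 0x11001100110010) (.cD (nat_lit 4) (.kc (nat_lit 36) (nat_lit 0x5001001)) (.cD (nat_lit 16) (.kA true (nat_lit 0x400200100800100400100300c001002)) (.cD (nat_lit 20) (.kA true (nat_lit 0x400600500800100400100300c001002)) (.cD (nat_lit 32) (.kA true (nat_lit 0x5004003008001008004002005007031001000003)) (.cD (nat_lit 36) (.kA true (nat_lit 0x400500600800100400100300c001002)) (.cD (nat_lit 48) (.kc (nat_lit 48) (nat_lit 0x3001001)) (.cD (nat_lit 52) (.kc (nat_lit 52) (nat_lit 0x7001001)) .nil))))))))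 (.cD (nat_lit 52) (.dfs (nat_lit 32) (nat_lit 4100) (nat_lit 4100) (nat_lit 0x1002001) (nat_lit 0x1002001) (nat_lit 0) (nat_lit 0) (nat_lit 3) (nat_lit 0) (nat_lit 0) (nat_lit 0) (nat_lit 1) (nat_lit 0) (nat_lit 1) (nat_lit 0) (nat_lit 1) (nat_lit 0x11001100110010) (.cD (nat_lit 4) (.kc (nat_lit 36) (nat_lit 0x5001001)) (.cD (nat_lit 16) (.kA true (nat_lit 0x400200500800100400100300c001002)) (.cD (nat_lit 20) (.kA true (nat_lit 0x400600100800100400100300c001002)) (.cD (nat_lit 32) (.kA true (nat_lit 0x5004003008001008004002005007031001000003)) (.cD (nat_lit 36) (.kA true (nat_lit 0x400500200800100400100300c001002)) (.cD (nat_lit 48) (.kc (nat_lit 52) (nat_lit 0x7001001)) (.cD (nat_lit 52) (.kc (nat_lit 48) (nat_lit 0x3001001)) .nil)))))))) .nil)))))))) (.cD (nat_lit 8) (.dfs (nat_lit 16) (nat_lit 4098) (nat_lit 4098) (nat_lit 4097) (nat_lit 4097) (nat_lit 0) (nat_lit 0) (nat_lit 3) (nat_lit 0) (nat_lit 0) (nat_lit 0) (nat_lit 1) (nat_lit 0) (nat_lit 1)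 (nat_lit 0) (nat_lit 1) (nat_lit 0x101010101010100) (.cD (nat_lit 8) (.kc (nat_lit 20) (nat_lit 0x3001001)) (.cD (nat_lit 16) (.dfs (nat_lit 32) (nat_lit 4100) (nat_lit 4100) (nat_lit 0x1002001) (nat_lit 0x1002001) (nat_lit 0) (nat_lit 0) (nat_lit 3) (nat_lit 0) (nat_lit 0) (nat_lit 0) (nat_lit 1) (nat_lit 0) (nat_lit 1) (nat_lit 0) (nat_lit 1) (nat_lit 0x101010101010100) (.cD (nat_lit 8) (.kc (nat_lit 36) (nat_lit 0x5001001)) (.cD (nat_lit 16) (.kc (nat_lit 48) (nat_lit 0x3001001)) (.cD (nat_lit 24) (.kc (nat_lit 52) (nat_lit 0x7001001)) (.cD (nat_lit 32) (.kA false (nat_lit 0x100400200c002006004008014005031001000003)) (.cD (nat_lit 40) (.kA false (nat_lit 0x3100100000100500200d002031001000003)) (.cD (nat_lit 48) (.kA false (nat_lit 0xe00800c01000400700300200b002031001000003)) (.cD (nat_lit 56) (.kA false (nat_lit 0x700400200c002006004008014005031001000003)) .nil)))))))) (.cD (nat_lit 24) (.dfs (nat_lit 32) (nat_lit 4100) (nat_lit 4100) (nat_lit 0x1002001)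 (nat_lit 0x1002001) (nat_lit 0) (nat_lit 0) (nat_lit 3) (nat_lit 0) (nat_lit 0) (nat_lit 0) (nat_lit 1) (nat_lit 0) (nat_lit 1) (nat_lit 0) (nat_lit 1) (nat_lit 0x101010101010100) (.cD (nat_lit 8) (.kc (nat_lit 36) (nat_lit 0x5001001)) (.cD (nat_lit 16) (.kc (nat_lit 52) (nat_lit 0x7001001)) (.cD (nat_lit 24) (.kc (nat_lit 48) (nat_lit 0x3001001)) (.cD (nat_lit 32) (.kA false (nat_lit 0x100400600c002006004008014005031001000003)) (.cD (nat_lit 40) (.kA false (nat_lit 0x3100100000100500600d002031001000003)) (.cD (nat_lit 48) (.kA false (nat_lit 0x700400600c002006004008014005031001000003)) (.cD (nat_lit 56) (.kA false (nat_lit 0xe00800a01000400700300600b002031001000003)) .nil)))))))) (.cD (nat_lit 32) (.kF (nat_lit 16) (nat_lit 0x100400100c012004002002000003)) (.cD (nat_lit 40) (.kF (nat_lit 16) (nat_lit 0x100400100c012004002002000003)) (.cD (nat_lit 48) (.dfs (nat_lit 32) (nat_lit 4100) (nat_lit 4100) (nat_lit 0x1002001) (nat_lit 0x1002001) (nat_lit 0)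 (nat_lit 0) (nat_lit 3) (nat_lit 0) (nat_lit 0) (nat_lit 0) (nat_lit 1) (nat_lit 0) (nat_lit 1) (nat_lit 0) (nat_lit 1) (nat_lit 0x101010101010100) (.cD (nat_lit 8) (.kc (nat_lit 36) (nat_lit 0x5001001)) (.cD (nat_lit 16) (.kA false (nat_lit 0xe00800401000400700300100b002031001000003)) (.cD (nat_lit 24) (.kA false (nat_lit 0x700400500c002006004008014005031001000003)) (.cD (nat_lit 32) (.kA false (nat_lit 0x100400300c002006004008014005031001000003)) (.cD (nat_lit 40) (.kA false (nat_lit 0x3100100000100500700d002031001000003)) (.cD (nat_lit 48) (.kc (nat_lit 48) (nat_lit 0x3001001)) (.cD (nat_lit 56) (.kc (nat_lit 52) (nat_lit 0x7001001)) .nil)))))))) (.cD (nat_lit 56) (.dfs (nat_lit 32) (nat_lit 4100) (nat_lit 4100) (nat_lit 0x1002001) (nat_lit 0x1002001) (nat_lit 0) (nat_lit 0) (nat_lit 3) (nat_lit 0) (nat_lit 0) (nat_lit 0) (nat_lit 1) (nat_lit 0) (nat_lit 1) (nat_lit 0) (nat_lit 1) (nat_lit 0x101010101010100) (.cD (nat_lit 8) (.kc (nat_lit 36) (nat_lit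 0x5001001)) (.cD (nat_lit 16) (.kA false (nat_lit 0x700400100c002006004008014005031001000003)) (.cD (nat_lit 24) (.kA false (nat_lit 0xe00800201000400700300500b002031001000003)) (.cD (nat_lit 32) (.kA false (nat_lit 0x100400700c002006004008014005031001000003)) (.cD (nat_lit 40) (.kA false (nat_lit 0x3100100000100500300d002031001000003)) (.cD (nat_lit 48) (.kc (nat_lit 52) (nat_lit 0x7001001)) (.cD (nat_lit 56) (.kc (nat_lit 48) (nat_lit 0x3001001)) .nil)))))))) .nil)))))))) (.cD (nat_lit 16) (.kF (nat_lit 4) (nat_lit 0x2002000001003001002)) (.cD (nat_lit 20) (.kF (nat_lit 4) (nat_lit 0xe01e003001003001002)) (.cD (nat_lit 24) (.kF (nat_lit 4) (nat_lit 0x1002001002012004002002000003)) (.cD (nat_lit 32) (.dfs (nat_lit 16) (nat_lit 4098) (nat_lit 4098) (nat_lit 4097) (nat_lit 4097) (nat_lit 0) (nat_lit 0) (nat_lit 3) (nat_lit 0) (nat_lit 0) (nat_lit 0) (nat_lit 1) (nat_lit 0) (nat_lit 0x1008004) (nat_lit 32772) (nat_lit 0x1001004000008001014000018) (nat_lit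 0x1000101110110) (.cD (nat_lit 4) (.kF (nat_lit 16) (nat_lit 0x31001000001006001002)) (.cD (nat_lit 8) (.kF (nat_lit 16) (nat_lit 0x31001000001006001002)) (.cD (nat_lit 16) (.dfs (nat_lit 32) (nat_lit 4100) (nat_lit 4100) (nat_lit 0x1002001) (nat_lit 0x1002001) (nat_lit 0) (nat_lit 0) (nat_lit 3) (nat_lit 0) (nat_lit 0) (nat_lit 0) (nat_lit 1) (nat_lit 0) (nat_lit 0x1008004) (nat_lit 32772) (nat_lit 0x1001004000008001014000018) (nat_lit 0x1000101110110) (.cD (nat_lit 4) (.kA true (nat_lit 0x100400600c002031001000002)) (.cD (nat_lit 8) (.kA false (nat_lit 0x500400200c002031001000002)) (.cD (nat_lit 16) (.kc (nat_lit 48) (nat_lit 0x3001001)) (.cD (nat_lit 20) (.kA true (nat_lit 0x300400600c002031001000002)) (.cD (nat_lit 24) (.kA false (nat_lit 0x700400200c002031001000002)) (.cD (nat_lit 32) (.kc (nat_lit 36) (nat_lit 0x5001001)) (.cD (nat_lit 48) (.kc (nat_lit 52) (nat_lit 0x7001001)) .nil)))))))) (.cD (nat_lit 20) (.dfs (nat_lit 32) (nat_lit 4100) (nat_lit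 4100) (nat_lit 0x1002001) (nat_lit 0x1002001) (nat_lit 0) (nat_lit 0) (nat_lit 3) (nat_lit 0) (nat_lit 0) (nat_lit 0) (nat_lit 1) (nat_lit 0) (nat_lit 1) (nat_lit 0) (nat_lit 1) (nat_lit 0x11001100110010) (.cD (nat_lit 4) (.kA true (nat_lit 0x100400700c002031001000002)) (.cD (nat_lit 16) (.kA true (nat_lit 0x300400500c002031001000002)) (.cD (nat_lit 20) (.kc (nat_lit 48) (nat_lit 0x3001001)) (.cD (nat_lit 32) (.kc (nat_lit 36) (nat_lit 0x5001001)) (.cD (nat_lit 36) (.dfs (nat_lit 9) (nat_lit 4100) (nat_lit 4101) (nat_lit 1) (nat_lit 1) (nat_lit 2) (nat_lit 0) (nat_lit 1) (nat_lit 4128) (nat_lit 0x40020010008004002031) (nat_lit 0) (nat_lit 1) (nat_lit 0) (nat_lit 1) (nat_lit 0) (nat_lit 1) (nat_lit 0) .nil) (.cD (nat_lit 48) (.kA true (nat_lit 0x700400100c002031001000002)) (.cD (nat_lit 52) (.kc (nat_lit 52) (nat_lit 0x7001001)) .nil)))))))) (.cD (nat_lit 24) (.dfs (nat_lit 32) (nat_lit 4100) (nat_lit 4100) (nat_lit 0x1002001) (nat_lit 0x1002001) (nat_lit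 0) (nat_lit 0) (nat_lit 3) (nat_lit 0) (nat_lit 0) (nat_lit 0) (nat_lit 1) (nat_lit 0) (nat_lit 1) (nat_lit 0) (nat_lit 1) (nat_lit 0x101010101010100) (.cD (nat_lit 8) (.kA false (nat_lit 0x500400300c002031001000002)) (.cD (nat_lit 16) (.kA false (nat_lit 0x700400100c002031001000002)) (.cD (nat_lit 24) (.kc (nat_lit 48) (nat_lit 0x3001001)) (.cD (nat_lit 32) (.kc (nat_lit 36) (nat_lit 0x5001001)) (.cD (nat_lit 40) (.kA false (nat_lit 0x100400700c002031001000002)) (.cD (nat_lit 48) (.kA false (nat_lit 0x300400500c002031001000002)) (.cD (nat_lit 56) (.kc (nat_lit 52) (nat_lit 0x7001001)) .nil)))))))) (.cD (nat_lit 32) (.kc (nat_lit 20) (nat_lit 0x3001001)) (.cD (nat_lit 48) (.dfs (nat_lit 32) (nat_lit 4100) (nat_lit 4100) (nat_lit 0x1002001) (nat_lit 0x1002001) (nat_lit 0) (nat_lit 0) (nat_lit 3) (nat_lit 0) (nat_lit 0) (nat_lit 0) (nat_lit 1) (nat_lit 0) (nat_lit 0x1008004) (nat_lit 32772) (nat_lit 0x1001004000008001014000018) (nat_lit 0x1000101110110)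 (.cD (nat_lit 4) (.kA true (nat_lit 0x100400200c002031001000002)) (.cD (nat_lit 8) (.kA false (nat_lit 0x500400600c002031001000002)) (.cD (nat_lit 16) (.kc (nat_lit 52) (nat_lit 0x7001001)) (.cD (nat_lit 20) (.kA true (nat_lit 0x700400200c002031001000002)) (.cD (nat_lit 24) (.kA false (nat_lit 0x300400600c002031001000002)) (.cD (nat_lit 32) (.kc (nat_lit 36) (nat_lit 0x5001001)) (.cD (nat_lit 48) (.kc (nat_lit 48) (nat_lit 0x3001001)) .nil)))))))) .nil)))))))) (.cD (nat_lit 48) (.kF (nat_lit 4) (nat_lit 0x1002001002012004002002000003)) .nil))))))))))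
theorem c583 : (chk [] [] p583).n x300 s583 = true := by decide +kernel
noncomputable def p584 : Pf := (.lft (nat_lit 0x20008018001004002003001) (nat_lit 0) (nat_lit 0x1028020) (nat_lit 0x20010008004002001) (.extn a19 (nat_lit 0x20010008004002001) (nat_lit 0x1004010008020) (nat_lit 2) (nat_lit 0) (nat_lit 0) (nat_lit 0) (nat_lit 0x1010101) (.cE (nat_lit 0) b53 (nat_lit 0) (.iso x285 s551 (nat_lit 0) (nat_lit 0x1040020010008004002001) (nat_lit 0x40020010008004002001) [(nat_lit 0x8004002001009001)] (.cut (nat_lit 0))) (.cut (nat_lit 1)) (.cE (nat_lit 8) b54 (nat_lit 0) (.cut (nat_lit 2)) (.cut (nat_lit 3)) (.cE (nat_lit 16) b55 t55 (.cut (nat_lit 4)) (.cut (nat_lit 5)) (.cE (nat_lit 24) b60 (nat_lit 0) (.cut (nat_lit 6)) (.cut (nat_lit 7)) .nil))))))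
theorem c584 : (chk [(x285, s551), (x286, s552), (x287, s553), (x288, s554), (x289, s580), (x298, s581), (x299, s582), (x300, s583)] [g53] p584).n x207 s584 = true := by decide +kernel
noncomputable def p585 : Pf := (.anc (nat_lit 68) (nat_lit 0x10002002002000002) (nat_lit 0x1009020010004) (.czp (nat_lit 64) (nat_lit 0) (nat_lit 0x1040020010008004) z6 (.dfs (nat_lit 4) (nat_lit 4097) (nat_lit 4097) (nat_lit 1) (nat_lit 1) (nat_lit 0) (nat_lit 0) (nat_lit 3) (nat_lit 0) (nat_lit 0) (nat_lit 0) (nat_lit 1) (nat_lit 0) (nat_lit 0x1008004) (nat_lit 32772) (nat_lit 0x1001004000008001014000018) (nat_lit 0x1000101110110) (.cD (nat_lit 4) (.dfs (nat_lit 16) (nat_lit 4098) (nat_lit 4098) (nat_lit 4097) (nat_lit 4097) (nat_lit 0) (nat_lit 0) (nat_lit 3) (nat_lit 0) (nat_lit 0) (nat_lit 0) (nat_lit 1) (nat_lit 0) (nat_lit 1) (nat_lit 0) (nat_lit 1) (nat_lit 0x11001100110010) (.cD (nat_lit 4) (.kc (nat_lit 20) (nat_lit 0x3001001)) (.cD (nat_lit 16) (.dfs (nat_lit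 32) (nat_lit 4100) (nat_lit 4100) (nat_lit 0x1002001) (nat_lit 0x1002001) (nat_lit 0) (nat_lit 0) (nat_lit 3) (nat_lit 0) (nat_lit 0) (nat_lit 0) (nat_lit 1) (nat_lit 0) (nat_lit 1) (nat_lit 0) (nat_lit 1) (nat_lit 0x11001100110010) (.cD (nat_lit 4) (.kc (nat_lit 36) (nat_lit 0x5001001)) (.cD (nat_lit 16) (.kc (nat_lit 48) (nat_lit 0x3001001)) (.cD (nat_lit 20) (.kc (nat_lit 52) (nat_lit 0x7001001)) (.cD (nat_lit 32) (.dfs (nat_lit 9) (nat_lit 0x1004001003008) (nat_lit 0x1005001003008) (nat_lit 4098) (nat_lit 4098) (nat_lit 1) (nat_lit 0) (nat_lit 2) (nat_lit 1) (nat_lit 0) (nat_lit 8) (nat_lit 1) (nat_lit 0) (nat_lit 4100) (nat_lit 4) (nat_lit 0x100004c00005c) (nat_lit 0x100010000000000000000000) (.cD (nat_lit 76) (.kb (nat_lit 13) (nat_lit 0x100100001400600b001003) (nat_lit 0x1020010008044006003)) (.cD (nat_lit 92) (.kb (nat_lit 29) (nat_lit 0x100100001400600f001003) (nat_lit 0x1020010008044006003)) .nil))) (.cD (nat_lit 36) (.kA true (nat_lit 0x100100000400100300d001001001000003))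 (.cD (nat_lit 48) (.kA true (nat_lit 0x600800401000400400100300d001001001000003)) (.cD (nat_lit 52) (.kA true (nat_lit 0x5004003008001008004002005007001001000003)) .nil)))))))) (.cD (nat_lit 20) (.dfs (nat_lit 32) (nat_lit 4100) (nat_lit 4100) (nat_lit 0x1002001) (nat_lit 0x1002001) (nat_lit 0) (nat_lit 0) (nat_lit 3) (nat_lit 0) (nat_lit 0) (nat_lit 0) (nat_lit 1) (nat_lit 0) (nat_lit 1) (nat_lit 0) (nat_lit 1) (nat_lit 0x11001100110010) (.cD (nat_lit 4) (.kc (nat_lit 36) (nat_lit 0x5001001)) (.cD (nat_lit 16) (.kc (nat_lit 52) (nat_lit 0x7001001)) (.cD (nat_lit 20) (.kc (nat_lit 48) (nat_lit 0x3001001)) (.cD (nat_lit 32) (.kA true (nat_lit 0x5004003008001008004002005007001001000003)) (.cD (nat_lit 36) (.dfs (nat_lit 9) (nat_lit 4102) (nat_lit 4103) (nat_lit 1) (nat_lit 1) (nat_lit 1) (nat_lit 0) (nat_lit 1) (nat_lit 4112) (nat_lit 0x40020010008004002001) (nat_lit 0) (nat_lit 1) (nat_lit 0) (nat_lit 1) (nat_lit 0) (nat_lit 1) (nat_lit 0) .nil) (.cD (nat_lit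 48) (.kA true (nat_lit 0x400300500800100400100300c001002)) (.cD (nat_lit 52) (.kA true (nat_lit 0x400700100800100400100300c001002)) .nil)))))))) (.cD (nat_lit 32) (.kF (nat_lit 16) (nat_lit 0x100400100c012004002002000003)) (.cD (nat_lit 36) (.kF (nat_lit 16) (nat_lit 0x100400100c012004002002000003)) (.cD (nat_lit 48) (.dfs (nat_lit 32) (nat_lit 4100) (nat_lit 4100) (nat_lit 0x1002001) (nat_lit 0x1002001) (nat_lit 0) (nat_lit 0) (nat_lit 3) (nat_lit 0) (nat_lit 0) (nat_lit 0) (nat_lit 1) (nat_lit 0) (nat_lit 1) (nat_lit 0) (nat_lit 1) (nat_lit 0x11001100110010) (.cD (nat_lit 4) (.kc (nat_lit 36) (nat_lit 0x5001001)) (.cD (nat_lit 16) (.kA true (nat_lit 0x400200100800100400100300c001002)) (.cD (nat_lit 20) (.kA true (nat_lit 0x400600500800100400100300c001002)) (.cD (nat_lit 32) (.kA true (nat_lit 0x5004003008001008004002005007001001000003)) (.cD (nat_lit 36) (.kA true (nat_lit 0x400500600800100400100300c001002)) (.cD (nat_lit 48) (.kc (nat_lit 48) (nat_lit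 0x3001001)) (.cD (nat_lit 52) (.kc (nat_lit 52) (nat_lit 0x7001001)) .nil)))))))) (.cD (nat_lit 52) (.dfs (nat_lit 32) (nat_lit 4100) (nat_lit 4100) (nat_lit 0x1002001) (nat_lit 0x1002001) (nat_lit 0) (nat_lit 0) (nat_lit 3) (nat_lit 0) (nat_lit 0) (nat_lit 0) (nat_lit 1) (nat_lit 0) (nat_lit 1) (nat_lit 0) (nat_lit 1) (nat_lit 0x11001100110010) (.cD (nat_lit 4) (.kc (nat_lit 36) (nat_lit 0x5001001)) (.cD (nat_lit 16) (.kA true (nat_lit 0x400200500800100400100300c001002)) (.cD (nat_lit 20) (.kA true (nat_lit 0x400600100800100400100300c001002)) (.cD (nat_lit 32) (.kA true (nat_lit 0x5004003008001008004002005007001001000003)) (.cD (nat_lit 36) (.kA true (nat_lit 0x400500200800100400100300c001002)) (.cD (nat_lit 48) (.kc (nat_lit 52) (nat_lit 0x7001001)) (.cD (nat_lit 52) (.kc (nat_lit 48) (nat_lit 0x3001001)) .nil)))))))) .nil)))))))) (.cD (nat_lit 8) (.dfs (nat_lit 16) (nat_lit 4098) (nat_lit 4098) (nat_lit 4097) (nat_lit 4097) (nat_lit 0) (nat_lit 0)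 (nat_lit 3) (nat_lit 0) (nat_lit 0) (nat_lit 0) (nat_lit 1) (nat_lit 0) (nat_lit 1) (nat_lit 0) (nat_lit 1) (nat_lit 0x101010101010100) (.cD (nat_lit 8) (.kc (nat_lit 20) (nat_lit 0x3001001)) (.cD (nat_lit 16) (.dfs (nat_lit 32) (nat_lit 4100) (nat_lit 4100) (nat_lit 0x1002001) (nat_lit 0x1002001) (nat_lit 0) (nat_lit 0) (nat_lit 3) (nat_lit 0) (nat_lit 0) (nat_lit 0) (nat_lit 1) (nat_lit 0) (nat_lit 1) (nat_lit 0) (nat_lit 1) (nat_lit 0x101010101010100) (.cD (nat_lit 8) (.kc (nat_lit 36) (nat_lit 0x5001001)) (.cD (nat_lit 16) (.kc (nat_lit 48) (nat_lit 0x3001001)) (.cD (nat_lit 24) (.kc (nat_lit 52) (nat_lit 0x7001001)) (.cD (nat_lit 32) (.kA false (nat_lit 0x100400200c002006004008014005001001000003)) (.cD (nat_lit 40) (.kA false (nat_lit 0x100100000100500200d002001001000003)) (.cD (nat_lit 48) (.kA false (nat_lit 0xe00800c01000400700300200b002001001000003)) (.cD (nat_lit 56) (.kA false (nat_lit 0x700400200c002006004008014005001001000003)) .nil))))))))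 (.cD (nat_lit 24) (.dfs (nat_lit 32) (nat_lit 4100) (nat_lit 4100) (nat_lit 0x1002001) (nat_lit 0x1002001) (nat_lit 0) (nat_lit 0) (nat_lit 3) (nat_lit 0) (nat_lit 0) (nat_lit 0) (nat_lit 1) (nat_lit 0) (nat_lit 1) (nat_lit 0) (nat_lit 1) (nat_lit 0x101010101010100) (.cD (nat_lit 8) (.kc (nat_lit 36) (nat_lit 0x5001001)) (.cD (nat_lit 16) (.kc (nat_lit 52) (nat_lit 0x7001001)) (.cD (nat_lit 24) (.kc (nat_lit 48) (nat_lit 0x3001001)) (.cD (nat_lit 32) (.kA false (nat_lit 0x100400600c002006004008014005001001000003)) (.cD (nat_lit 40) (.kA false (nat_lit 0x100100000100500600d002001001000003)) (.cD (nat_lit 48) (.kA false (nat_lit 0x700400600c002006004008014005001001000003)) (.cD (nat_lit 56) (.kA false (nat_lit 0xe00800a01000400700300600b002001001000003)) .nil)))))))) (.cD (nat_lit 32) (.kF (nat_lit 16) (nat_lit 0x100400100c012004002002000003)) (.cD (nat_lit 40) (.kF (nat_lit 16) (nat_lit 0x100400100c012004002002000003)) (.cD (nat_lit 48) (.dfs (nat_lit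 32) (nat_lit 4100) (nat_lit 4100) (nat_lit 0x1002001) (nat_lit 0x1002001) (nat_lit 0) (nat_lit 0) (nat_lit 3) (nat_lit 0) (nat_lit 0) (nat_lit 0) (nat_lit 1) (nat_lit 0) (nat_lit 1) (nat_lit 0) (nat_lit 1) (nat_lit 0x101010101010100) (.cD (nat_lit 8) (.kc (nat_lit 36) (nat_lit 0x5001001)) (.cD (nat_lit 16) (.kA false (nat_lit 0xe00800401000400700300100b002001001000003)) (.cD (nat_lit 24) (.kA false (nat_lit 0x700400500c002006004008014005001001000003)) (.cD (nat_lit 32) (.kA false (nat_lit 0x100400300c002006004008014005001001000003)) (.cD (nat_lit 40) (.kA false (nat_lit 0x100100000100500700d002001001000003)) (.cD (nat_lit 48) (.kc (nat_lit 48) (nat_lit 0x3001001)) (.cD (nat_lit 56) (.kc (nat_lit 52) (nat_lit 0x7001001)) .nil)))))))) (.cD (nat_lit 56) (.dfs (nat_lit 32) (nat_lit 4100) (nat_lit 4100) (nat_lit 0x1002001) (nat_lit 0x1002001) (nat_lit 0) (nat_lit 0) (nat_lit 3) (nat_lit 0) (nat_lit 0) (nat_lit 0) (nat_lit 1) (nat_lit 0) (nat_lit 1) (nat_lit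 0) (nat_lit 1) (nat_lit 0x101010101010100) (.cD (nat_lit 8) (.kc (nat_lit 36) (nat_lit 0x5001001)) (.cD (nat_lit 16) (.kA false (nat_lit 0x700400100c002006004008014005001001000003)) (.cD (nat_lit 24) (.kA false (nat_lit 0xe00800201000400700300500b002001001000003)) (.cD (nat_lit 32) (.kA false (nat_lit 0x100400700c002006004008014005001001000003)) (.cD (nat_lit 40) (.kA false (nat_lit 0x100100000100500300d002001001000003)) (.cD (nat_lit 48) (.kc (nat_lit 52) (nat_lit 0x7001001)) (.cD (nat_lit 56) (.kc (nat_lit 48) (nat_lit 0x3001001)) .nil)))))))) .nil)))))))) (.cD (nat_lit 16) (.kF (nat_lit 4) (nat_lit 0x2002000001003001002)) (.cD (nat_lit 20) (.kF (nat_lit 4) (nat_lit 0xe01e003001003001002)) (.cD (nat_lit 24) (.kF (nat_lit 4) (nat_lit 0x1002001002012004002002000003)) (.cD (nat_lit 32) (.dfs (nat_lit 16) (nat_lit 4098) (nat_lit 4098) (nat_lit 4097) (nat_lit 4097) (nat_lit 0) (nat_lit 0) (nat_lit 3) (nat_lit 0) (nat_lit 0) (nat_lit 0) (nat_lit 1) (nat_lit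 0) (nat_lit 0x1008004) (nat_lit 32772) (nat_lit 0x1001004000008001014000018) (nat_lit 0x1000101110110) (.cD (nat_lit 4) (.kF (nat_lit 16) (nat_lit 0x1001000001006001002)) (.cD (nat_lit 8) (.kF (nat_lit 16) (nat_lit 0x1001000001006001002)) (.cD (nat_lit 16) (.dfs (nat_lit 32) (nat_lit 4100) (nat_lit 4100) (nat_lit 0x1002001) (nat_lit 0x1002001) (nat_lit 0) (nat_lit 0) (nat_lit 3) (nat_lit 0) (nat_lit 0) (nat_lit 0) (nat_lit 1) (nat_lit 0) (nat_lit 0x1008004) (nat_lit 32772) (nat_lit 0x1001004000008001014000018) (nat_lit 0x1000101110110) (.cD (nat_lit 4) (.kA true (nat_lit 0x100400600c002001001000002)) (.cD (nat_lit 8) (.kA false (nat_lit 0x500400200c002001001000002)) (.cD (nat_lit 16) (.kc (nat_lit 48) (nat_lit 0x3001001)) (.cD (nat_lit 20) (.kA true (nat_lit 0x300400600c002001001000002)) (.cD (nat_lit 24) (.kA false (nat_lit 0x700400200c002001001000002)) (.cD (nat_lit 32) (.kc (nat_lit 36) (nat_lit 0x5001001)) (.cD (nat_lit 48) (.kc (nat_lit 52) (nat_lit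 0x7001001)) .nil)))))))) (.cD (nat_lit 20) (.dfs (nat_lit 32) (nat_lit 4100) (nat_lit 4100) (nat_lit 0x1002001) (nat_lit 0x1002001) (nat_lit 0) (nat_lit 0) (nat_lit 3) (nat_lit 0) (nat_lit 0) (nat_lit 0) (nat_lit 1) (nat_lit 0) (nat_lit 1) (nat_lit 0) (nat_lit 1) (nat_lit 0x11001100110010) (.cD (nat_lit 4) (.kA true (nat_lit 0x100400700c002001001000002)) (.cD (nat_lit 16) (.kA true (nat_lit 0x300400500c002001001000002)) (.cD (nat_lit 20) (.kc (nat_lit 48) (nat_lit 0x3001001)) (.cD (nat_lit 32) (.kc (nat_lit 36) (nat_lit 0x5001001)) (.cD (nat_lit 36) (.dfs (nat_lit 9) (nat_lit 4100) (nat_lit 4101) (nat_lit 1) (nat_lit 1) (nat_lit 1) (nat_lit 0) (nat_lit 1) (nat_lit 4128) (nat_lit 0x40020010008004002001) (nat_lit 0) (nat_lit 1) (nat_lit 0) (nat_lit 1) (nat_lit 0) (nat_lit 1) (nat_lit 0) .nil) (.cD (nat_lit 48) (.kA true (nat_lit 0x700400100c002001001000002)) (.cD (nat_lit 52) (.kc (nat_lit 52) (nat_lit 0x7001001)) .nil)))))))) (.cD (nat_lit 24) (.dfs (nat_lit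 32) (nat_lit 4100) (nat_lit 4100) (nat_lit 0x1002001) (nat_lit 0x1002001) (nat_lit 0) (nat_lit 0) (nat_lit 3) (nat_lit 0) (nat_lit 0) (nat_lit 0) (nat_lit 1) (nat_lit 0) (nat_lit 1) (nat_lit 0) (nat_lit 1) (nat_lit 0x101010101010100) (.cD (nat_lit 8) (.kA false (nat_lit 0x500400300c002001001000002)) (.cD (nat_lit 16) (.kA false (nat_lit 0x700400100c002001001000002)) (.cD (nat_lit 24) (.kc (nat_lit 48) (nat_lit 0x3001001)) (.cD (nat_lit 32) (.kc (nat_lit 36) (nat_lit 0x5001001)) (.cD (nat_lit 40) (.kA false (nat_lit 0x100400700c002001001000002)) (.cD (nat_lit 48) (.kA false (nat_lit 0x300400500c002001001000002)) (.cD (nat_lit 56) (.kc (nat_lit 52) (nat_lit 0x7001001)) .nil)))))))) (.cD (nat_lit 32) (.kc (nat_lit 20) (nat_lit 0x3001001)) (.cD (nat_lit 48) (.dfs (nat_lit 32) (nat_lit 4100) (nat_lit 4100) (nat_lit 0x1002001) (nat_lit 0x1002001) (nat_lit 0) (nat_lit 0) (nat_lit 3) (nat_lit 0) (nat_lit 0) (nat_lit 0) (nat_lit 1) (nat_lit 0) (nat_lit 0x1008004)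 (nat_lit 32772) (nat_lit 0x1001004000008001014000018) (nat_lit 0x1000101110110) (.cD (nat_lit 4) (.kA true (nat_lit 0x100400200c002001001000002)) (.cD (nat_lit 8) (.kA false (nat_lit 0x500400600c002001001000002)) (.cD (nat_lit 16) (.kc (nat_lit 52) (nat_lit 0x7001001)) (.cD (nat_lit 20) (.kA true (nat_lit 0x700400200c002001001000002)) (.cD (nat_lit 24) (.kA false (nat_lit 0x300400600c002001001000002)) (.cD (nat_lit 32) (.kc (nat_lit 36) (nat_lit 0x5001001)) (.cD (nat_lit 48) (.kc (nat_lit 48) (nat_lit 0x3001001)) .nil)))))))) .nil)))))))) (.cD (nat_lit 48) (.kF (nat_lit 4) (nat_lit 0x1002001002012004002002000003)) .nil))))))))))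
theorem c585 : (chk [] [] p585).n x286 s585 = true := by decide +kernel
noncomputable def p586 : Pf := (.anc (nat_lit 68) (nat_lit 0x10002002002000002) (nat_lit 0x1009020010004) (.czp (nat_lit 64) (nat_lit 0) (nat_lit 0x1040020010008004) z6 (.dfs (nat_lit 4) (nat_lit 4097) (nat_lit 4097) (nat_lit 1) (nat_lit 1) (nat_lit 0) (nat_lit 0) (nat_lit 3) (nat_lit 0) (nat_lit 0) (nat_lit 0) (nat_lit 1) (nat_lit 0) (nat_lit 0x1008004) (nat_lit 32772) (nat_lit 0x1001004000008001014000018) (nat_lit 0x1000101110110) (.cD (nat_lit 4) (.dfs (nat_lit 16) (nat_lit 4098) (nat_lit 4098) (nat_lit 4097) (nat_lit 4097) (nat_lit 0) (nat_lit 0) (nat_lit 3) (nat_lit 0) (nat_lit 0) (nat_lit 0) (nat_lit 1) (nat_lit 0) (nat_lit 1) (nat_lit 0) (nat_lit 1) (nat_lit 0x11001100110010) (.cD (nat_lit 4) (.kc (nat_lit 20) (nat_lit 0x3001001)) (.cD (nat_lit 16) (.dfs (nat_lit 32) (nat_lit 4100) (nat_lit 4100) (nat_lit 0x1002001) (nat_lit 0x1002001) (nat_lit 0) (nat_lit 0) (nat_lit 3) (nat_lit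 0) (nat_lit 0) (nat_lit 0) (nat_lit 1) (nat_lit 0) (nat_lit 1) (nat_lit 0) (nat_lit 1) (nat_lit 0x11001100110010) (.cD (nat_lit 4) (.kc (nat_lit 36) (nat_lit 0x5001001)) (.cD (nat_lit 16) (.kc (nat_lit 48) (nat_lit 0x3001001)) (.cD (nat_lit 20) (.kc (nat_lit 52) (nat_lit 0x7001001)) (.cD (nat_lit 32) (.dfs (nat_lit 9) (nat_lit 0x1004001003008) (nat_lit 0x1005001003008) (nat_lit 4098) (nat_lit 4098) (nat_lit 3) (nat_lit 0) (nat_lit 2) (nat_lit 1) (nat_lit 0) (nat_lit 8) (nat_lit 1) (nat_lit 0) (nat_lit 1) (nat_lit 0) (nat_lit 1) (nat_lit 0) .nil) (.cD (nat_lit 36) (.kA true (nat_lit 0x1100100000400100300d001011001000003)) (.cD (nat_lit 48) (.kA true (nat_lit 0x600800401000400400100300d001011001000003)) (.cD (nat_lit 52) (.kA true (nat_lit 0x5004003008001008004002005007011001000003)) .nil)))))))) (.cD (nat_lit 20) (.dfs (nat_lit 32) (nat_lit 4100) (nat_lit 4100) (nat_lit 0x1002001) (nat_lit 0x1002001) (nat_lit 0) (nat_lit 0) (nat_lit 3) (nat_lit 0) (nat_lit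 0) (nat_lit 0) (nat_lit 1) (nat_lit 0) (nat_lit 1) (nat_lit 0) (nat_lit 1) (nat_lit 0x11001100110010) (.cD (nat_lit 4) (.kc (nat_lit 36) (nat_lit 0x5001001)) (.cD (nat_lit 16) (.kc (nat_lit 52) (nat_lit 0x7001001)) (.cD (nat_lit 20) (.kc (nat_lit 48) (nat_lit 0x3001001)) (.cD (nat_lit 32) (.kA true (nat_lit 0x5004003008001008004002005007011001000003)) (.cD (nat_lit 36) (.dfs (nat_lit 9) (nat_lit 4102) (nat_lit 4103) (nat_lit 1) (nat_lit 1) (nat_lit 3) (nat_lit 0) (nat_lit 1) (nat_lit 4112) (nat_lit 0x40020010008004002011) (nat_lit 0) (nat_lit 1) (nat_lit 0) (nat_lit 1) (nat_lit 0) (nat_lit 1) (nat_lit 0) .nil) (.cD (nat_lit 48) (.kA true (nat_lit 0x400300500800100400100300c001002)) (.cD (nat_lit 52) (.kA true (nat_lit 0x400700100800100400100300c001002)) .nil)))))))) (.cD (nat_lit 32) (.kF (nat_lit 16) (nat_lit 0x100400100c012004002002000003)) (.cD (nat_lit 36) (.kF (nat_lit 16) (nat_lit 0x100400100c012004002002000003)) (.cD (nat_lit 48) (.dfs (nat_lit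 32) (nat_lit 4100) (nat_lit 4100) (nat_lit 0x1002001) (nat_lit 0x1002001) (nat_lit 0) (nat_lit 0) (nat_lit 3) (nat_lit 0) (nat_lit 0) (nat_lit 0) (nat_lit 1) (nat_lit 0) (nat_lit 1) (nat_lit 0) (nat_lit 1) (nat_lit 0x11001100110010) (.cD (nat_lit 4) (.kc (nat_lit 36) (nat_lit 0x5001001)) (.cD (nat_lit 16) (.kA true (nat_lit 0x400200100800100400100300c001002)) (.cD (nat_lit 20) (.kA true (nat_lit 0x400600500800100400100300c001002)) (.cD (nat_lit 32) (.kA true (nat_lit 0x5004003008001008004002005007011001000003)) (.cD (nat_lit 36) (.kA true (nat_lit 0x400500600800100400100300c001002)) (.cD (nat_lit 48) (.kc (nat_lit 48) (nat_lit 0x3001001)) (.cD (nat_lit 52) (.kc (nat_lit 52) (nat_lit 0x7001001)) .nil)))))))) (.cD (nat_lit 52) (.dfs (nat_lit 32) (nat_lit 4100) (nat_lit 4100) (nat_lit 0x1002001) (nat_lit 0x1002001) (nat_lit 0) (nat_lit 0) (nat_lit 3) (nat_lit 0) (nat_lit 0) (nat_lit 0) (nat_lit 1) (nat_lit 0) (nat_lit 1) (nat_lit 0) (nat_lit 1) (nat_lit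 0x11001100110010) (.cD (nat_lit 4) (.kc (nat_lit 36) (nat_lit 0x5001001)) (.cD (nat_lit 16) (.kA true (nat_lit 0x400200500800100400100300c001002)) (.cD (nat_lit 20) (.kA true (nat_lit 0x400600100800100400100300c001002)) (.cD (nat_lit 32) (.kA true (nat_lit 0x5004003008001008004002005007011001000003)) (.cD (nat_lit 36) (.kA true (nat_lit 0x400500200800100400100300c001002)) (.cD (nat_lit 48) (.kc (nat_lit 52) (nat_lit 0x7001001)) (.cD (nat_lit 52) (.kc (nat_lit 48) (nat_lit 0x3001001)) .nil)))))))) .nil)))))))) (.cD (nat_lit 8) (.dfs (nat_lit 16) (nat_lit 4098) (nat_lit 4098) (nat_lit 4097) (nat_lit 4097) (nat_lit 0) (nat_lit 0) (nat_lit 3) (nat_lit 0) (nat_lit 0) (nat_lit 0) (nat_lit 1) (nat_lit 0) (nat_lit 1) (nat_lit 0) (nat_lit 1) (nat_lit 0x101010101010100) (.cD (nat_lit 8) (.kc (nat_lit 20) (nat_lit 0x3001001)) (.cD (nat_lit 16) (.dfs (nat_lit 32) (nat_lit 4100) (nat_lit 4100) (nat_lit 0x1002001) (nat_lit 0x1002001) (nat_lit 0) (nat_lit 0) (nat_lit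 3) (nat_lit 0) (nat_lit 0) (nat_lit 0) (nat_lit 1) (nat_lit 0) (nat_lit 1) (nat_lit 0) (nat_lit 1) (nat_lit 0x101010101010100) (.cD (nat_lit 8) (.kc (nat_lit 36) (nat_lit 0x5001001)) (.cD (nat_lit 16) (.kc (nat_lit 48) (nat_lit 0x3001001)) (.cD (nat_lit 24) (.kc (nat_lit 52) (nat_lit 0x7001001)) (.cD (nat_lit 32) (.kA false (nat_lit 0x100400200c002006004008014005011001000003)) (.cD (nat_lit 40) (.kA false (nat_lit 0x1100100000100500200d002011001000003)) (.cD (nat_lit 48) (.kA false (nat_lit 0xe00800c01000400700300200b002011001000003)) (.cD (nat_lit 56) (.kA false (nat_lit 0x700400200c002006004008014005011001000003)) .nil)))))))) (.cD (nat_lit 24) (.dfs (nat_lit 32) (nat_lit 4100) (nat_lit 4100) (nat_lit 0x1002001) (nat_lit 0x1002001) (nat_lit 0) (nat_lit 0) (nat_lit 3) (nat_lit 0) (nat_lit 0) (nat_lit 0) (nat_lit 1) (nat_lit 0) (nat_lit 1) (nat_lit 0) (nat_lit 1) (nat_lit 0x101010101010100) (.cD (nat_lit 8) (.kc (nat_lit 36) (nat_lit 0x5001001)) (.cD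 (nat_lit 16) (.kc (nat_lit 52) (nat_lit 0x7001001)) (.cD (nat_lit 24) (.kc (nat_lit 48) (nat_lit 0x3001001)) (.cD (nat_lit 32) (.kA false (nat_lit 0x100400600c002006004008014005011001000003)) (.cD (nat_lit 40) (.kA false (nat_lit 0x1100100000100500600d002011001000003)) (.cD (nat_lit 48) (.kA false (nat_lit 0x700400600c002006004008014005011001000003)) (.cD (nat_lit 56) (.kA false (nat_lit 0xe00800a01000400700300600b002011001000003)) .nil)))))))) (.cD (nat_lit 32) (.kF (nat_lit 16) (nat_lit 0x100400100c012004002002000003)) (.cD (nat_lit 40) (.kF (nat_lit 16) (nat_lit 0x100400100c012004002002000003)) (.cD (nat_lit 48) (.dfs (nat_lit 32) (nat_lit 4100) (nat_lit 4100) (nat_lit 0x1002001) (nat_lit 0x1002001) (nat_lit 0) (nat_lit 0) (nat_lit 3) (nat_lit 0) (nat_lit 0) (nat_lit 0) (nat_lit 1) (nat_lit 0) (nat_lit 1) (nat_lit 0) (nat_lit 1) (nat_lit 0x101010101010100) (.cD (nat_lit 8) (.kc (nat_lit 36) (nat_lit 0x5001001)) (.cD (nat_lit 16) (.kA false (nat_lit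 0xe00800401000400700300100b002011001000003)) (.cD (nat_lit 24) (.kA false (nat_lit 0x700400500c002006004008014005011001000003)) (.cD (nat_lit 32) (.kA false (nat_lit 0x100400300c002006004008014005011001000003)) (.cD (nat_lit 40) (.kA false (nat_lit 0x1100100000100500700d002011001000003)) (.cD (nat_lit 48) (.kc (nat_lit 48) (nat_lit 0x3001001)) (.cD (nat_lit 56) (.kc (nat_lit 52) (nat_lit 0x7001001)) .nil)))))))) (.cD (nat_lit 56) (.dfs (nat_lit 32) (nat_lit 4100) (nat_lit 4100) (nat_lit 0x1002001) (nat_lit 0x1002001) (nat_lit 0) (nat_lit 0) (nat_lit 3) (nat_lit 0) (nat_lit 0) (nat_lit 0) (nat_lit 1) (nat_lit 0) (nat_lit 1) (nat_lit 0) (nat_lit 1) (nat_lit 0x101010101010100) (.cD (nat_lit 8) (.kc (nat_lit 36) (nat_lit 0x5001001)) (.cD (nat_lit 16) (.kA false (nat_lit 0x700400100c002006004008014005011001000003)) (.cD (nat_lit 24) (.kA false (nat_lit 0xe00800201000400700300500b002011001000003)) (.cD (nat_lit 32) (.kA false (nat_lit 0x100400700c002006004008014005011001000003))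 (.cD (nat_lit 40) (.kA false (nat_lit 0x1100100000100500300d002011001000003)) (.cD (nat_lit 48) (.kc (nat_lit 52) (nat_lit 0x7001001)) (.cD (nat_lit 56) (.kc (nat_lit 48) (nat_lit 0x3001001)) .nil)))))))) .nil)))))))) (.cD (nat_lit 16) (.kF (nat_lit 4) (nat_lit 0x2002000001003001002)) (.cD (nat_lit 20) (.kF (nat_lit 4) (nat_lit 0xe01e003001003001002)) (.cD (nat_lit 24) (.kF (nat_lit 4) (nat_lit 0x1002001002012004002002000003)) (.cD (nat_lit 32) (.dfs (nat_lit 16) (nat_lit 4098) (nat_lit 4098) (nat_lit 4097) (nat_lit 4097) (nat_lit 0) (nat_lit 0) (nat_lit 3) (nat_lit 0) (nat_lit 0) (nat_lit 0) (nat_lit 1) (nat_lit 0) (nat_lit 0x1008004) (nat_lit 32772) (nat_lit 0x1001004000008001014000018) (nat_lit 0x1000101110110) (.cD (nat_lit 4) (.kF (nat_lit 16) (nat_lit 0x11001000001006001002)) (.cD (nat_lit 8) (.kF (nat_lit 16) (nat_lit 0x11001000001006001002)) (.cD (nat_lit 16) (.dfs (nat_lit 32) (nat_lit 4100) (nat_lit 4100) (nat_lit 0x1002001) (nat_lit 0x1002001)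 (nat_lit 0) (nat_lit 0) (nat_lit 3) (nat_lit 0) (nat_lit 0) (nat_lit 0) (nat_lit 1) (nat_lit 0) (nat_lit 0x1008004) (nat_lit 32772) (nat_lit 0x1001004000008001014000018) (nat_lit 0x1000101110110) (.cD (nat_lit 4) (.kA true (nat_lit 0x100400600c002011001000002)) (.cD (nat_lit 8) (.kA false (nat_lit 0x500400200c002011001000002)) (.cD (nat_lit 16) (.kc (nat_lit 48) (nat_lit 0x3001001)) (.cD (nat_lit 20) (.kA true (nat_lit 0x300400600c002011001000002)) (.cD (nat_lit 24) (.kA false (nat_lit 0x700400200c002011001000002)) (.cD (nat_lit 32) (.kc (nat_lit 36) (nat_lit 0x5001001)) (.cD (nat_lit 48) (.kc (nat_lit 52) (nat_lit 0x7001001)) .nil)))))))) (.cD (nat_lit 20) (.dfs (nat_lit 32) (nat_lit 4100) (nat_lit 4100) (nat_lit 0x1002001) (nat_lit 0x1002001) (nat_lit 0) (nat_lit 0) (nat_lit 3) (nat_lit 0) (nat_lit 0) (nat_lit 0) (nat_lit 1) (nat_lit 0) (nat_lit 1) (nat_lit 0) (nat_lit 1) (nat_lit 0x11001100110010) (.cD (nat_lit 4) (.kA true (nat_lit 0x100400700c002011001000002))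 (.cD (nat_lit 16) (.kA true (nat_lit 0x300400500c002011001000002)) (.cD (nat_lit 20) (.kc (nat_lit 48) (nat_lit 0x3001001)) (.cD (nat_lit 32) (.kc (nat_lit 36) (nat_lit 0x5001001)) (.cD (nat_lit 36) (.dfs (nat_lit 9) (nat_lit 4100) (nat_lit 4101) (nat_lit 1) (nat_lit 1) (nat_lit 3) (nat_lit 0) (nat_lit 1) (nat_lit 4128) (nat_lit 0x40020010008004002011) (nat_lit 0) (nat_lit 1) (nat_lit 0) (nat_lit 1) (nat_lit 0) (nat_lit 1) (nat_lit 0) .nil) (.cD (nat_lit 48) (.kA true (nat_lit 0x700400100c002011001000002)) (.cD (nat_lit 52) (.kc (nat_lit 52) (nat_lit 0x7001001)) .nil)))))))) (.cD (nat_lit 24) (.dfs (nat_lit 32) (nat_lit 4100) (nat_lit 4100) (nat_lit 0x1002001) (nat_lit 0x1002001) (nat_lit 0) (nat_lit 0) (nat_lit 3) (nat_lit 0) (nat_lit 0) (nat_lit 0) (nat_lit 1) (nat_lit 0) (nat_lit 1) (nat_lit 0) (nat_lit 1) (nat_lit 0x101010101010100) (.cD (nat_lit 8) (.kA false (nat_lit 0x500400300c002011001000002)) (.cD (nat_lit 16) (.kA false (nat_lit 0x700400100c002011001000002))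 (.cD (nat_lit 24) (.kc (nat_lit 48) (nat_lit 0x3001001)) (.cD (nat_lit 32) (.kc (nat_lit 36) (nat_lit 0x5001001)) (.cD (nat_lit 40) (.kA false (nat_lit 0x100400700c002011001000002)) (.cD (nat_lit 48) (.kA false (nat_lit 0x300400500c002011001000002)) (.cD (nat_lit 56) (.kc (nat_lit 52) (nat_lit 0x7001001)) .nil)))))))) (.cD (nat_lit 32) (.kc (nat_lit 20) (nat_lit 0x3001001)) (.cD (nat_lit 48) (.dfs (nat_lit 32) (nat_lit 4100) (nat_lit 4100) (nat_lit 0x1002001) (nat_lit 0x1002001) (nat_lit 0) (nat_lit 0) (nat_lit 3) (nat_lit 0) (nat_lit 0) (nat_lit 0) (nat_lit 1) (nat_lit 0) (nat_lit 0x1008004) (nat_lit 32772) (nat_lit 0x1001004000008001014000018) (nat_lit 0x1000101110110) (.cD (nat_lit 4) (.kA true (nat_lit 0x100400200c002011001000002)) (.cD (nat_lit 8) (.kA false (nat_lit 0x500400600c002011001000002)) (.cD (nat_lit 16) (.kc (nat_lit 52) (nat_lit 0x7001001)) (.cD (nat_lit 20) (.kA true (nat_lit 0x700400200c002011001000002)) (.cD (nat_lit 24) (.kA false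 (nat_lit 0x300400600c002011001000002)) (.cD (nat_lit 32) (.kc (nat_lit 36) (nat_lit 0x5001001)) (.cD (nat_lit 48) (.kc (nat_lit 48) (nat_lit 0x3001001)) .nil)))))))) .nil)))))))) (.cD (nat_lit 48) (.kF (nat_lit 4) (nat_lit 0x1002001002012004002002000003)) .nil))))))))))
theorem c586 : (chk [] [] p586).n x287 s586 = true := by decide +kernel
noncomputable def p587 : Pf := (.anc (nat_lit 68) (nat_lit 0x10002002002000002) (nat_lit 0x1009020010004) (.czp (nat_lit 64) (nat_lit 0) (nat_lit 0x1040020010008004) z6 (.dfs (nat_lit 4) (nat_lit 4097) (nat_lit 4097) (nat_lit 1) (nat_lit 1) (nat_lit 0) (nat_lit 0) (nat_lit 3) (nat_lit 0) (nat_lit 0) (nat_lit 0) (nat_lit 1) (nat_lit 0) (nat_lit 0x1008004) (nat_lit 32772) (nat_lit 0x1001004000008001014000018) (nat_lit 0x1000101110110) (.cD (nat_lit 4) (.dfs (nat_lit 16) (nat_lit 4098) (nat_lit 4098) (nat_lit 4097) (nat_lit 4097) (nat_lit 0) (nat_lit 0) (nat_lit 3) (nat_lit 0) (nat_lit 0) (nat_lit 0) (nat_lit 1) (nat_lit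 0) (nat_lit 1) (nat_lit 0) (nat_lit 1) (nat_lit 0x11001100110010) (.cD (nat_lit 4) (.kc (nat_lit 20) (nat_lit 0x3001001)) (.cD (nat_lit 16) (.dfs (nat_lit 32) (nat_lit 4100) (nat_lit 4100) (nat_lit 0x1002001) (nat_lit 0x1002001) (nat_lit 0) (nat_lit 0) (nat_lit 3) (nat_lit 0) (nat_lit 0) (nat_lit 0) (nat_lit 1) (nat_lit 0) (nat_lit 1) (nat_lit 0) (nat_lit 1) (nat_lit 0x11001100110010) (.cD (nat_lit 4) (.kc (nat_lit 36) (nat_lit 0x5001001)) (.cD (nat_lit 16) (.kc (nat_lit 48) (nat_lit 0x3001001)) (.cD (nat_lit 20) (.kc (nat_lit 52) (nat_lit 0x7001001)) (.cD (nat_lit 32) (.dfs (nat_lit 9) (nat_lit 0x1004001003008) (nat_lit 0x1005001003008) (nat_lit 4098) (nat_lit 4098) (nat_lit 3) (nat_lit 0) (nat_lit 2) (nat_lit 1) (nat_lit 0) (nat_lit 8) (nat_lit 1) (nat_lit 0) (nat_lit 1) (nat_lit 0) (nat_lit 1) (nat_lit 0) .nil) (.cD (nat_lit 36) (.kA true (nat_lit 0x1100100000400100300d001011001000003)) (.cD (nat_lit 48) (.kA true (nat_lit 0x600800401000400400100300d001011001000003))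 (.cD (nat_lit 52) (.kA true (nat_lit 0x5004003008001008004002005007011001000003)) .nil)))))))) (.cD (nat_lit 20) (.dfs (nat_lit 32) (nat_lit 4100) (nat_lit 4100) (nat_lit 0x1002001) (nat_lit 0x1002001) (nat_lit 0) (nat_lit 0) (nat_lit 3) (nat_lit 0) (nat_lit 0) (nat_lit 0) (nat_lit 1) (nat_lit 0) (nat_lit 1) (nat_lit 0) (nat_lit 1) (nat_lit 0x11001100110010) (.cD (nat_lit 4) (.kc (nat_lit 36) (nat_lit 0x5001001)) (.cD (nat_lit 16) (.kc (nat_lit 52) (nat_lit 0x7001001)) (.cD (nat_lit 20) (.kc (nat_lit 48) (nat_lit 0x3001001)) (.cD (nat_lit 32) (.kA true (nat_lit 0x5004003008001008004002005007011001000003)) (.cD (nat_lit 36) (.dfs (nat_lit 9) (nat_lit 4102) (nat_lit 4103) (nat_lit 1) (nat_lit 1) (nat_lit 3) (nat_lit 0) (nat_lit 1) (nat_lit 4112) (nat_lit 0x40020010008004002011) (nat_lit 0) (nat_lit 1) (nat_lit 0) (nat_lit 1) (nat_lit 0) (nat_lit 1) (nat_lit 0) .nil) (.cD (nat_lit 48) (.kA true (nat_lit 0x400300500800100400100300c001002)) (.cD (nat_lit 52)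 (.kA true (nat_lit 0x400700100800100400100300c001002)) .nil)))))))) (.cD (nat_lit 32) (.kF (nat_lit 16) (nat_lit 0x100400100c012004002002000003)) (.cD (nat_lit 36) (.kF (nat_lit 16) (nat_lit 0x100400100c012004002002000003)) (.cD (nat_lit 48) (.dfs (nat_lit 32) (nat_lit 4100) (nat_lit 4100) (nat_lit 0x1002001) (nat_lit 0x1002001) (nat_lit 0) (nat_lit 0) (nat_lit 3) (nat_lit 0) (nat_lit 0) (nat_lit 0) (nat_lit 1) (nat_lit 0) (nat_lit 1) (nat_lit 0) (nat_lit 1) (nat_lit 0x11001100110010) (.cD (nat_lit 4) (.kc (nat_lit 36) (nat_lit 0x5001001)) (.cD (nat_lit 16) (.kA true (nat_lit 0x400200100800100400100300c001002)) (.cD (nat_lit 20) (.kA true (nat_lit 0x400600500800100400100300c001002)) (.cD (nat_lit 32) (.kA true (nat_lit 0x5004003008001008004002005007011001000003)) (.cD (nat_lit 36) (.kA true (nat_lit 0x400500600800100400100300c001002)) (.cD (nat_lit 48) (.kc (nat_lit 48) (nat_lit 0x3001001)) (.cD (nat_lit 52) (.kc (nat_lit 52) (nat_lit 0x7001001)) .nil))))))))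 (.cD (nat_lit 52) (.dfs (nat_lit 32) (nat_lit 4100) (nat_lit 4100) (nat_lit 0x1002001) (nat_lit 0x1002001) (nat_lit 0) (nat_lit 0) (nat_lit 3) (nat_lit 0) (nat_lit 0) (nat_lit 0) (nat_lit 1) (nat_lit 0) (nat_lit 1) (nat_lit 0) (nat_lit 1) (nat_lit 0x11001100110010) (.cD (nat_lit 4) (.kc (nat_lit 36) (nat_lit 0x5001001)) (.cD (nat_lit 16) (.kA true (nat_lit 0x400200500800100400100300c001002)) (.cD (nat_lit 20) (.kA true (nat_lit 0x400600100800100400100300c001002)) (.cD (nat_lit 32) (.kA true (nat_lit 0x5004003008001008004002005007011001000003)) (.cD (nat_lit 36) (.kA true (nat_lit 0x400500200800100400100300c001002)) (.cD (nat_lit 48) (.kc (nat_lit 52) (nat_lit 0x7001001)) (.cD (nat_lit 52) (.kc (nat_lit 48) (nat_lit 0x3001001)) .nil)))))))) .nil)))))))) (.cD (nat_lit 8) (.dfs (nat_lit 16) (nat_lit 4098) (nat_lit 4098) (nat_lit 4097) (nat_lit 4097) (nat_lit 0) (nat_lit 0) (nat_lit 3) (nat_lit 0) (nat_lit 0) (nat_lit 0) (nat_lit 1) (nat_lit 0) (nat_lit 1)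 (nat_lit 0) (nat_lit 1) (nat_lit 0x101010101010100) (.cD (nat_lit 8) (.kc (nat_lit 20) (nat_lit 0x3001001)) (.cD (nat_lit 16) (.dfs (nat_lit 32) (nat_lit 4100) (nat_lit 4100) (nat_lit 0x1002001) (nat_lit 0x1002001) (nat_lit 0) (nat_lit 0) (nat_lit 3) (nat_lit 0) (nat_lit 0) (nat_lit 0) (nat_lit 1) (nat_lit 0) (nat_lit 1) (nat_lit 0) (nat_lit 1) (nat_lit 0x101010101010100) (.cD (nat_lit 8) (.kc (nat_lit 36) (nat_lit 0x5001001)) (.cD (nat_lit 16) (.kc (nat_lit 48) (nat_lit 0x3001001)) (.cD (nat_lit 24) (.kc (nat_lit 52) (nat_lit 0x7001001)) (.cD (nat_lit 32) (.kA false (nat_lit 0x100400200c002006004008014005011001000003)) (.cD (nat_lit 40) (.kA false (nat_lit 0x1100100000100500200d002011001000003)) (.cD (nat_lit 48) (.kA false (nat_lit 0xe00800c01000400700300200b002011001000003)) (.cD (nat_lit 56) (.kA false (nat_lit 0x700400200c002006004008014005011001000003)) .nil)))))))) (.cD (nat_lit 24) (.dfs (nat_lit 32) (nat_lit 4100) (nat_lit 4100) (nat_lit 0x1002001)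 (nat_lit 0x1002001) (nat_lit 0) (nat_lit 0) (nat_lit 3) (nat_lit 0) (nat_lit 0) (nat_lit 0) (nat_lit 1) (nat_lit 0) (nat_lit 1) (nat_lit 0) (nat_lit 1) (nat_lit 0x101010101010100) (.cD (nat_lit 8) (.kc (nat_lit 36) (nat_lit 0x5001001)) (.cD (nat_lit 16) (.kc (nat_lit 52) (nat_lit 0x7001001)) (.cD (nat_lit 24) (.kc (nat_lit 48) (nat_lit 0x3001001)) (.cD (nat_lit 32) (.kA false (nat_lit 0x100400600c002006004008014005011001000003)) (.cD (nat_lit 40) (.kA false (nat_lit 0x1100100000100500600d002011001000003)) (.cD (nat_lit 48) (.kA false (nat_lit 0x700400600c002006004008014005011001000003)) (.cD (nat_lit 56) (.kA false (nat_lit 0xe00800a01000400700300600b002011001000003)) .nil)))))))) (.cD (nat_lit 32) (.kF (nat_lit 16) (nat_lit 0x100400100c012004002002000003)) (.cD (nat_lit 40) (.kF (nat_lit 16) (nat_lit 0x100400100c012004002002000003)) (.cD (nat_lit 48) (.dfs (nat_lit 32) (nat_lit 4100) (nat_lit 4100) (nat_lit 0x1002001) (nat_lit 0x1002001) (nat_lit 0)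 (nat_lit 0) (nat_lit 3) (nat_lit 0) (nat_lit 0) (nat_lit 0) (nat_lit 1) (nat_lit 0) (nat_lit 1) (nat_lit 0) (nat_lit 1) (nat_lit 0x101010101010100) (.cD (nat_lit 8) (.kc (nat_lit 36) (nat_lit 0x5001001)) (.cD (nat_lit 16) (.kA false (nat_lit 0xe00800401000400700300100b002011001000003)) (.cD (nat_lit 24) (.kA false (nat_lit 0x700400500c002006004008014005011001000003)) (.cD (nat_lit 32) (.kA false (nat_lit 0x100400300c002006004008014005011001000003)) (.cD (nat_lit 40) (.kA false (nat_lit 0x1100100000100500700d002011001000003)) (.cD (nat_lit 48) (.kc (nat_lit 48) (nat_lit 0x3001001)) (.cD (nat_lit 56) (.kc (nat_lit 52) (nat_lit 0x7001001)) .nil)))))))) (.cD (nat_lit 56) (.dfs (nat_lit 32) (nat_lit 4100) (nat_lit 4100) (nat_lit 0x1002001) (nat_lit 0x1002001) (nat_lit 0) (nat_lit 0) (nat_lit 3) (nat_lit 0) (nat_lit 0) (nat_lit 0) (nat_lit 1) (nat_lit 0) (nat_lit 1) (nat_lit 0) (nat_lit 1) (nat_lit 0x101010101010100) (.cD (nat_lit 8) (.kc (nat_lit 36) (nat_lit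 0x5001001)) (.cD (nat_lit 16) (.kA false (nat_lit 0x700400100c002006004008014005011001000003)) (.cD (nat_lit 24) (.kA false (nat_lit 0xe00800201000400700300500b002011001000003)) (.cD (nat_lit 32) (.kA false (nat_lit 0x100400700c002006004008014005011001000003)) (.cD (nat_lit 40) (.kA false (nat_lit 0x1100100000100500300d002011001000003)) (.cD (nat_lit 48) (.kc (nat_lit 52) (nat_lit 0x7001001)) (.cD (nat_lit 56) (.kc (nat_lit 48) (nat_lit 0x3001001)) .nil)))))))) .nil)))))))) (.cD (nat_lit 16) (.kF (nat_lit 4) (nat_lit 0x2002000001003001002)) (.cD (nat_lit 20) (.kF (nat_lit 4) (nat_lit 0xe01e003001003001002)) (.cD (nat_lit 24) (.kF (nat_lit 4) (nat_lit 0x1002001002012004002002000003)) (.cD (nat_lit 32) (.dfs (nat_lit 16) (nat_lit 4098) (nat_lit 4098) (nat_lit 4097) (nat_lit 4097) (nat_lit 0) (nat_lit 0) (nat_lit 3) (nat_lit 0) (nat_lit 0) (nat_lit 0) (nat_lit 1) (nat_lit 0) (nat_lit 0x1008004) (nat_lit 32772) (nat_lit 0x1001004000008001014000018) (nat_lit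 0x1000101110110) (.cD (nat_lit 4) (.kF (nat_lit 16) (nat_lit 0x11001000001006001002)) (.cD (nat_lit 8) (.kF (nat_lit 16) (nat_lit 0x11001000001006001002)) (.cD (nat_lit 16) (.dfs (nat_lit 32) (nat_lit 4100) (nat_lit 4100) (nat_lit 0x1002001) (nat_lit 0x1002001) (nat_lit 0) (nat_lit 0) (nat_lit 3) (nat_lit 0) (nat_lit 0) (nat_lit 0) (nat_lit 1) (nat_lit 0) (nat_lit 0x1008004) (nat_lit 32772) (nat_lit 0x1001004000008001014000018) (nat_lit 0x1000101110110) (.cD (nat_lit 4) (.kA true (nat_lit 0x100400600c002011001000002)) (.cD (nat_lit 8) (.kA false (nat_lit 0x500400200c002011001000002)) (.cD (nat_lit 16) (.kc (nat_lit 48) (nat_lit 0x3001001)) (.cD (nat_lit 20) (.kA true (nat_lit 0x300400600c002011001000002)) (.cD (nat_lit 24) (.kA false (nat_lit 0x700400200c002011001000002)) (.cD (nat_lit 32) (.kc (nat_lit 36) (nat_lit 0x5001001)) (.cD (nat_lit 48) (.kc (nat_lit 52) (nat_lit 0x7001001)) .nil)))))))) (.cD (nat_lit 20) (.dfs (nat_lit 32) (nat_lit 4100) (nat_lit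 4100) (nat_lit 0x1002001) (nat_lit 0x1002001) (nat_lit 0) (nat_lit 0) (nat_lit 3) (nat_lit 0) (nat_lit 0) (nat_lit 0) (nat_lit 1) (nat_lit 0) (nat_lit 1) (nat_lit 0) (nat_lit 1) (nat_lit 0x11001100110010) (.cD (nat_lit 4) (.kA true (nat_lit 0x100400700c002011001000002)) (.cD (nat_lit 16) (.kA true (nat_lit 0x300400500c002011001000002)) (.cD (nat_lit 20) (.kc (nat_lit 48) (nat_lit 0x3001001)) (.cD (nat_lit 32) (.kc (nat_lit 36) (nat_lit 0x5001001)) (.cD (nat_lit 36) (.dfs (nat_lit 9) (nat_lit 4100) (nat_lit 4101) (nat_lit 1) (nat_lit 1) (nat_lit 3) (nat_lit 0) (nat_lit 1) (nat_lit 4128) (nat_lit 0x40020010008004002011) (nat_lit 0) (nat_lit 1) (nat_lit 0) (nat_lit 1) (nat_lit 0) (nat_lit 1) (nat_lit 0) .nil) (.cD (nat_lit 48) (.kA true (nat_lit 0x700400100c002011001000002)) (.cD (nat_lit 52) (.kc (nat_lit 52) (nat_lit 0x7001001)) .nil)))))))) (.cD (nat_lit 24) (.dfs (nat_lit 32) (nat_lit 4100) (nat_lit 4100) (nat_lit 0x1002001) (nat_lit 0x1002001) (nat_lit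 0) (nat_lit 0) (nat_lit 3) (nat_lit 0) (nat_lit 0) (nat_lit 0) (nat_lit 1) (nat_lit 0) (nat_lit 1) (nat_lit 0) (nat_lit 1) (nat_lit 0x101010101010100) (.cD (nat_lit 8) (.kA false (nat_lit 0x500400300c002011001000002)) (.cD (nat_lit 16) (.kA false (nat_lit 0x700400100c002011001000002)) (.cD (nat_lit 24) (.kc (nat_lit 48) (nat_lit 0x3001001)) (.cD (nat_lit 32) (.kc (nat_lit 36) (nat_lit 0x5001001)) (.cD (nat_lit 40) (.kA false (nat_lit 0x100400700c002011001000002)) (.cD (nat_lit 48) (.kA false (nat_lit 0x300400500c002011001000002)) (.cD (nat_lit 56) (.kc (nat_lit 52) (nat_lit 0x7001001)) .nil)))))))) (.cD (nat_lit 32) (.kc (nat_lit 20) (nat_lit 0x3001001)) (.cD (nat_lit 48) (.dfs (nat_lit 32) (nat_lit 4100) (nat_lit 4100) (nat_lit 0x1002001) (nat_lit 0x1002001) (nat_lit 0) (nat_lit 0) (nat_lit 3) (nat_lit 0) (nat_lit 0) (nat_lit 0) (nat_lit 1) (nat_lit 0) (nat_lit 0x1008004) (nat_lit 32772) (nat_lit 0x1001004000008001014000018) (nat_lit 0x1000101110110)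 (.cD (nat_lit 4) (.kA true (nat_lit 0x100400200c002011001000002)) (.cD (nat_lit 8) (.kA false (nat_lit 0x500400600c002011001000002)) (.cD (nat_lit 16) (.kc (nat_lit 52) (nat_lit 0x7001001)) (.cD (nat_lit 20) (.kA true (nat_lit 0x700400200c002011001000002)) (.cD (nat_lit 24) (.kA false (nat_lit 0x300400600c002011001000002)) (.cD (nat_lit 32) (.kc (nat_lit 36) (nat_lit 0x5001001)) (.cD (nat_lit 48) (.kc (nat_lit 48) (nat_lit 0x3001001)) .nil)))))))) .nil)))))))) (.cD (nat_lit 48) (.kF (nat_lit 4) (nat_lit 0x1002001002012004002002000003)) .nil))))))))))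
theorem c587 : (chk [] [] p587).n x288 s587 = true := by decide +kernel
noncomputable def p588 : Pf := (.anc (nat_lit 72) (nat_lit 0x21001000014006002) (nat_lit 0x1001020010008) (.czp (nat_lit 64) (nat_lit 0) (nat_lit 0x1040020010008004) z6 (.dfs (nat_lit 8) (nat_lit 4097) (nat_lit 4097) (nat_lit 1) (nat_lit 1) (nat_lit 0) (nat_lit 0) (nat_lit 3) (nat_lit 0) (nat_lit 0) (nat_lit 0) (nat_lit 1) (nat_lit 0) (nat_lit 0x1008004) (nat_lit 32772) (nat_lit 0x1001004000008001014000018) (nat_lit 0x1000101110110) (.cD (nat_lit 4) (.dfs (nat_lit 16) (nat_lit 4098) (nat_lit 4098) (nat_lit 4097) (nat_lit 4097) (nat_lit 0) (nat_lit 0) (nat_lit 3) (nat_lit 0) (nat_lit 0) (nat_lit 0) (nat_lit 1) (nat_lit 0) (nat_lit 1) (nat_lit 0) (nat_lit 1) (nat_lit 0x11001100110010) (.cD (nat_lit 4) (.kc (nat_lit 24) (nat_lit 0x3001001)) (.cD (nat_lit 16) (.dfs (nat_lit 32) (nat_lit 4100) (nat_lit 4100) (nat_lit 0x1002001) (nat_lit 0x1002001) (nat_lit 0) (nat_lit 0) (nat_lit 3) (nat_lit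 0) (nat_lit 0) (nat_lit 0) (nat_lit 1) (nat_lit 0) (nat_lit 1) (nat_lit 0) (nat_lit 1) (nat_lit 0x11001100110010) (.cD (nat_lit 4) (.kc (nat_lit 40) (nat_lit 0x5001001)) (.cD (nat_lit 16) (.kc (nat_lit 48) (nat_lit 0x3001001)) (.cD (nat_lit 20) (.kc (nat_lit 56) (nat_lit 0x7001001)) (.cD (nat_lit 32) (.kA false (nat_lit 0x1004002008001006004008014007021001000003)) (.cD (nat_lit 36) (.kA false (nat_lit 0x2100100000500100200d001021001000003)) (.cD (nat_lit 48) (.kA false (nat_lit 0xe00800c01000600500100200d001021001000003)) (.cD (nat_lit 52) (.kA false (nat_lit 0x1004002008001006004008014007021001000003)) .nil)))))))) (.cD (nat_lit 20) (.dfs (nat_lit 32) (nat_lit 4100) (nat_lit 4100) (nat_lit 0x1002001) (nat_lit 0x1002001) (nat_lit 0) (nat_lit 0) (nat_lit 3) (nat_lit 0) (nat_lit 0) (nat_lit 0) (nat_lit 1) (nat_lit 0) (nat_lit 1) (nat_lit 0) (nat_lit 1) (nat_lit 0x11001100110010) (.cD (nat_lit 4) (.kc (nat_lit 40) (nat_lit 0x5001001)) (.cD (nat_lit 16) (.kc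 (nat_lit 56) (nat_lit 0x7001001)) (.cD (nat_lit 20) (.kc (nat_lit 48) (nat_lit 0x3001001)) (.cD (nat_lit 32) (.kA false (nat_lit 0x1004002008001006004008014007021001000003)) (.cD (nat_lit 36) (.kA false (nat_lit 0x2100100000500100200d001021001000003)) (.cD (nat_lit 48) (.kA false (nat_lit 0xe00800a01000600500100200d001021001000003)) (.cD (nat_lit 52) (.kA false (nat_lit 0x1004002008001006004008014007021001000003)) .nil)))))))) (.cD (nat_lit 32) (.kF (nat_lit 16) (nat_lit 0x4010006002002000001006001003)) (.cD (nat_lit 36) (.kF (nat_lit 16) (nat_lit 0x21001000001007001002002000003)) (.cD (nat_lit 48) (.dfs (nat_lit 32) (nat_lit 4100) (nat_lit 4100) (nat_lit 0x1002001) (nat_lit 0x1002001) (nat_lit 0) (nat_lit 0) (nat_lit 3) (nat_lit 0) (nat_lit 0) (nat_lit 0) (nat_lit 1) (nat_lit 0) (nat_lit 1) (nat_lit 0) (nat_lit 1) (nat_lit 0x11001100110010) (.cD (nat_lit 4) (.kc (nat_lit 40) (nat_lit 0x5001001)) (.cD (nat_lit 16) (.kA false (nat_lit 0xe00c00801e00500500100200d001021001000003))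 (.cD (nat_lit 20) (.kA false (nat_lit 0x200200000500100200d001021001000003)) (.cD (nat_lit 32) (.kA false (nat_lit 0x1004002008001006004008014007021001000003)) (.cD (nat_lit 36) (.kA false (nat_lit 0x2100100000500100200d001021001000003)) (.cD (nat_lit 48) (.kc (nat_lit 48) (nat_lit 0x3001001)) (.cD (nat_lit 52) (.kc (nat_lit 56) (nat_lit 0x7001001)) .nil)))))))) (.cD (nat_lit 52) (.dfs (nat_lit 32) (nat_lit 4100) (nat_lit 4100) (nat_lit 0x1002001) (nat_lit 0x1002001) (nat_lit 0) (nat_lit 0) (nat_lit 3) (nat_lit 0) (nat_lit 0) (nat_lit 0) (nat_lit 1) (nat_lit 0) (nat_lit 1) (nat_lit 0) (nat_lit 1) (nat_lit 0x11001100110010) (.cD (nat_lit 4) (.kc (nat_lit 40) (nat_lit 0x5001001)) (.cD (nat_lit 16) (.kA false (nat_lit 0xe00c00a01e00500500100200d001021001000003)) (.cD (nat_lit 20) (.kA false (nat_lit 0x200200000500100200d001021001000003)) (.cD (nat_lit 32) (.kA false (nat_lit 0x1004002008001006004008014007021001000003)) (.cD (nat_lit 36) (.kA false (nat_lit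 0x2100100000500100200d001021001000003)) (.cD (nat_lit 48) (.kc (nat_lit 56) (nat_lit 0x7001001)) (.cD (nat_lit 52) (.kc (nat_lit 48) (nat_lit 0x3001001)) .nil)))))))) .nil)))))))) (.cD (nat_lit 8) (.dfs (nat_lit 16) (nat_lit 4098) (nat_lit 4098) (nat_lit 4097) (nat_lit 4097) (nat_lit 0) (nat_lit 0) (nat_lit 3) (nat_lit 0) (nat_lit 0) (nat_lit 0) (nat_lit 1) (nat_lit 0) (nat_lit 1) (nat_lit 0) (nat_lit 1) (nat_lit 0x101010101010100) (.cD (nat_lit 8) (.kc (nat_lit 24) (nat_lit 0x3001001)) (.cD (nat_lit 16) (.dfs (nat_lit 32) (nat_lit 4100) (nat_lit 4100) (nat_lit 0x1002001) (nat_lit 0x1002001) (nat_lit 0) (nat_lit 0) (nat_lit 3) (nat_lit 0) (nat_lit 0) (nat_lit 0) (nat_lit 1) (nat_lit 0) (nat_lit 1) (nat_lit 0) (nat_lit 1) (nat_lit 0x101010101010100) (.cD (nat_lit 8) (.kc (nat_lit 40) (nat_lit 0x5001001)) (.cD (nat_lit 16) (.kc (nat_lit 48) (nat_lit 0x3001001)) (.cD (nat_lit 24) (.kc (nat_lit 56) (nat_lit 0x7001001)) (.cD (nat_lit 32) (.dfs (nat_lit 1)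 (nat_lit 0x1004001002008) (nat_lit 0x1005001002008) (nat_lit 1) (nat_lit 1) (nat_lit 1) (nat_lit 0) (nat_lit 2) (nat_lit 0) (nat_lit 0) (nat_lit 4) (nat_lit 1) (nat_lit 0) (nat_lit 4104) (nat_lit 8) (nat_lit 0x100000c00001c) (nat_lit 0x10001000) (.cD (nat_lit 12) (.cut (nat_lit 0)) (.cD (nat_lit 28) (.iso x289 s578 (nat_lit 0) (nat_lit 0x1040020010008004012011) (nat_lit 0x40020010008004012011) [(nat_lit 0x10008004002005001001), (nat_lit 0x10008004002001003001), (nat_lit 0x10008004002009007001)] (.cut (nat_lit 0))) .nil))) (.cD (nat_lit 40) (.dfs (nat_lit 1) (nat_lit 4101) (nat_lit 4100) (nat_lit 1) (nat_lit 1) (nat_lit 1) (nat_lit 0) (nat_lit 1) (nat_lit 4128) (nat_lit 0x40020010008004002021) (nat_lit 0) (nat_lit 1) (nat_lit 0) (nat_lit 1) (nat_lit 0) (nat_lit 1) (nat_lit 0) .nil) (.cD (nat_lit 48) (.kA false (nat_lit 0x1004002008001006004008014007021001000003)) (.cD (nat_lit 56) (.kA false (nat_lit 0x1004002008001006004008014007021001000003)) .nil))))))))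 (.cD (nat_lit 24) (.dfs (nat_lit 32) (nat_lit 4100) (nat_lit 4100) (nat_lit 0x1002001) (nat_lit 0x1002001) (nat_lit 0) (nat_lit 0) (nat_lit 3) (nat_lit 0) (nat_lit 0) (nat_lit 0) (nat_lit 1) (nat_lit 0) (nat_lit 1) (nat_lit 0) (nat_lit 1) (nat_lit 0x101010101010100) (.cD (nat_lit 8) (.kc (nat_lit 40) (nat_lit 0x5001001)) (.cD (nat_lit 16) (.kc (nat_lit 56) (nat_lit 0x7001001)) (.cD (nat_lit 24) (.kc (nat_lit 48) (nat_lit 0x3001001)) (.cD (nat_lit 32) (.kA false (nat_lit 0x1004002008001006004008014007021001000003)) (.cD (nat_lit 40) (.kA false (nat_lit 0x2100100000500100200d001021001000003)) (.cD (nat_lit 48) (.kA false (nat_lit 0x1004002008001006004008014007021001000003)) (.cD (nat_lit 56) (.kA false (nat_lit 0x1004002008001006004008014007021001000003)) .nil)))))))) (.cD (nat_lit 32) (.kF (nat_lit 8) (nat_lit 0x3006002021001000002006001003)) (.cD (nat_lit 40) (.kF (nat_lit 16) (nat_lit 0x21001000001007001002002000003)) (.cD (nat_lit 48) (.dfs (nat_lit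 32) (nat_lit 4100) (nat_lit 4100) (nat_lit 0x1002001) (nat_lit 0x1002001) (nat_lit 0) (nat_lit 0) (nat_lit 3) (nat_lit 0) (nat_lit 0) (nat_lit 0) (nat_lit 1) (nat_lit 0) (nat_lit 1) (nat_lit 0) (nat_lit 1) (nat_lit 0x101010101010100) (.cD (nat_lit 8) (.kc (nat_lit 40) (nat_lit 0x5001001)) (.cD (nat_lit 16) (.kA false (nat_lit 0x400200300800100400100200c001002)) (.cD (nat_lit 24) (.kA false (nat_lit 0x400600300800100400100200c001002)) (.cD (nat_lit 32) (.kA false (nat_lit 0x1004002008001006004008014007021001000003)) (.cD (nat_lit 40) (.kA false (nat_lit 0x400500300800100400100200c001002)) (.cD (nat_lit 48) (.kc (nat_lit 48) (nat_lit 0x3001001)) (.cD (nat_lit 56) (.kc (nat_lit 56) (nat_lit 0x7001001)) .nil)))))))) (.cD (nat_lit 56) (.dfs (nat_lit 32) (nat_lit 4100) (nat_lit 4100) (nat_lit 0x1002001) (nat_lit 0x1002001) (nat_lit 0) (nat_lit 0) (nat_lit 3) (nat_lit 0) (nat_lit 0) (nat_lit 0) (nat_lit 1) (nat_lit 0) (nat_lit 1) (nat_lit 0) (nat_lit 1) (nat_lit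 0x101010101010100) (.cD (nat_lit 8) (.kc (nat_lit 40) (nat_lit 0x5001001)) (.cD (nat_lit 16) (.kA false (nat_lit 0x400200700800100400100200c001002)) (.cD (nat_lit 24) (.kA false (nat_lit 0x400600700800100400100200c001002)) (.cD (nat_lit 32) (.kA false (nat_lit 0x1004002008001006004008014007021001000003)) (.cD (nat_lit 40) (.kA false (nat_lit 0x400500700800100400100200c001002)) (.cD (nat_lit 48) (.kc (nat_lit 56) (nat_lit 0x7001001)) (.cD (nat_lit 56) (.kc (nat_lit 48) (nat_lit 0x3001001)) .nil)))))))) .nil)))))))) (.cD (nat_lit 16) (.kF (nat_lit 8) (nat_lit 0x2002000001003001002)) (.cD (nat_lit 20) (.kF (nat_lit 8) (nat_lit 0xe01e005001003001002)) (.cD (nat_lit 24) (.kF (nat_lit 8) (nat_lit 0x2100100000c014008002002000001003001004)) (.cD (nat_lit 32) (.dfs (nat_lit 16) (nat_lit 4098) (nat_lit 4098) (nat_lit 4097) (nat_lit 4097) (nat_lit 0) (nat_lit 0) (nat_lit 3) (nat_lit 0) (nat_lit 0) (nat_lit 0) (nat_lit 1) (nat_lit 0) (nat_lit 0x1008004) (nat_lit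 32772) (nat_lit 0x1001004000008001014000018) (nat_lit 0x1000101110110) (.cD (nat_lit 4) (.kF (nat_lit 16) (nat_lit 0x21001000001006001002)) (.cD (nat_lit 8) (.kF (nat_lit 16) (nat_lit 0x21001000001006001002)) (.cD (nat_lit 16) (.dfs (nat_lit 32) (nat_lit 4100) (nat_lit 4100) (nat_lit 0x1002001) (nat_lit 0x1002001) (nat_lit 0) (nat_lit 0) (nat_lit 3) (nat_lit 0) (nat_lit 0) (nat_lit 0) (nat_lit 1) (nat_lit 0) (nat_lit 0x1008004) (nat_lit 32772) (nat_lit 0x1001004000008001014000018) (nat_lit 0x1000101110110) (.cD (nat_lit 4) (.kA false (nat_lit 0x2100100000400100200c001002)) (.cD (nat_lit 8) (.dfs (nat_lit 1) (nat_lit 4100) (nat_lit 4101) (nat_lit 1) (nat_lit 1) (nat_lit 1) (nat_lit 0) (nat_lit 1) (nat_lit 4128) (nat_lit 0x40020010008004002021) (nat_lit 0) (nat_lit 1) (nat_lit 0) (nat_lit 1) (nat_lit 0) (nat_lit 1) (nat_lit 0) .nil) (.cD (nat_lit 16) (.kc (nat_lit 48) (nat_lit 0x3001001)) (.cD (nat_lit 20) (.kA false (nat_lit 0x2100100000400100200c001002))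 (.cD (nat_lit 24) (.kA false (nat_lit 0x700400200c002021001000002)) (.cD (nat_lit 32) (.kc (nat_lit 40) (nat_lit 0x5001001)) (.cD (nat_lit 48) (.kc (nat_lit 56) (nat_lit 0x7001001)) .nil)))))))) (.cD (nat_lit 20) (.dfs (nat_lit 32) (nat_lit 4100) (nat_lit 4100) (nat_lit 0x1002001) (nat_lit 0x1002001) (nat_lit 0) (nat_lit 0) (nat_lit 3) (nat_lit 0) (nat_lit 0) (nat_lit 0) (nat_lit 1) (nat_lit 0) (nat_lit 1) (nat_lit 0) (nat_lit 1) (nat_lit 0x11001100110010) (.cD (nat_lit 4) (.kA false (nat_lit 0x2100100000400100200c001002)) (.cD (nat_lit 16) (.kA false (nat_lit 0x2100100000400100200c001002)) (.cD (nat_lit 20) (.kc (nat_lit 48) (nat_lit 0x3001001)) (.cD (nat_lit 32) (.kc (nat_lit 40) (nat_lit 0x5001001)) (.cD (nat_lit 36) (.kA false (nat_lit 0x2100100000400100200c001002)) (.cD (nat_lit 48) (.kA false (nat_lit 0x2100100000400100200c001002)) (.cD (nat_lit 52) (.kc (nat_lit 56) (nat_lit 0x7001001)) .nil)))))))) (.cD (nat_lit 24) (.dfs (nat_lit 32) (nat_lit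 4100) (nat_lit 4100) (nat_lit 0x1002001) (nat_lit 0x1002001) (nat_lit 0) (nat_lit 0) (nat_lit 3) (nat_lit 0) (nat_lit 0) (nat_lit 0) (nat_lit 1) (nat_lit 0) (nat_lit 1) (nat_lit 0) (nat_lit 1) (nat_lit 0x101010101010100) (.cD (nat_lit 8) (.kA false (nat_lit 0x500400300c002021001000002)) (.cD (nat_lit 16) (.kA false (nat_lit 0x700400100c002021001000002)) (.cD (nat_lit 24) (.kc (nat_lit 48) (nat_lit 0x3001001)) (.cD (nat_lit 32) (.kc (nat_lit 40) (nat_lit 0x5001001)) (.cD (nat_lit 40) (.kA false (nat_lit 0x100400700c002021001000002)) (.cD (nat_lit 48) (.kA false (nat_lit 0x300400500c002021001000002)) (.cD (nat_lit 56) (.kc (nat_lit 56) (nat_lit 0x7001001)) .nil)))))))) (.cD (nat_lit 32) (.kc (nat_lit 24) (nat_lit 0x3001001)) (.cD (nat_lit 48) (.dfs (nat_lit 32) (nat_lit 4100) (nat_lit 4100) (nat_lit 0x1002001) (nat_lit 0x1002001) (nat_lit 0) (nat_lit 0) (nat_lit 3) (nat_lit 0) (nat_lit 0) (nat_lit 0) (nat_lit 1) (nat_lit 0) (nat_lit 0x1008004) (nat_lit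 32772) (nat_lit 0x1001004000008001014000018) (nat_lit 0x1000101110110) (.cD (nat_lit 4) (.kA false (nat_lit 0x2100100000400100200c001002)) (.cD (nat_lit 8) (.kA false (nat_lit 0x500400600c002021001000002)) (.cD (nat_lit 16) (.kc (nat_lit 56) (nat_lit 0x7001001)) (.cD (nat_lit 20) (.kA false (nat_lit 0x2100100000400100200c001002)) (.cD (nat_lit 24) (.kA false (nat_lit 0x300400600c002021001000002)) (.cD (nat_lit 32) (.kc (nat_lit 40) (nat_lit 0x5001001)) (.cD (nat_lit 48) (.kc (nat_lit 48) (nat_lit 0x3001001)) .nil)))))))) .nil)))))))) (.cD (nat_lit 48) (.kF (nat_lit 8) (nat_lit 0x23003000001003001002)) .nil))))))))))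
theorem c588 : (chk [(x289, s578)] [g55] p588).n x289 s588 = true := by decide +kernel
noncomputable def p589 : Pf := (.ext (nat_lit 1) (nat_lit 0) (nat_lit 0x1040030020004) (nat_lit 0x1002004008005001) (nat_lit 0x2003004008) (nat_lit 4107) (nat_lit 4107) (nat_lit 0xc004002001) (.dfs (nat_lit 11) (nat_lit 0x1002003004008) (nat_lit 0x100200300400c) (nat_lit 4097) (nat_lit 4097) (nat_lit 0) (nat_lit 0) (nat_lit 2) (nat_lit 1) (nat_lit 0) (nat_lit 11) (nat_lit 1) (nat_lit 0) (nat_lit 4160) (nat_lit 64) (nat_lit 0x100000b00000f00001b00001f) (nat_lit 0x88008800) (.cD (nat_lit 11) (.kS (nat_lit 1) (nat_lit 0x2006008010002008008000002) (nat_lit 4111) (nat_lit 0x8004002003) (nat_lit 0x8008000002004008010001001008008000002006008010007001004)) (.cD (nat_lit 15) (.kS (nat_lit 1) (nat_lit 0x2006008010002008008000002) (nat_lit 4139) (nat_lit 0x8004002003) (nat_lit 0x8008000002004008010001001008008000002006008010005001004)) (.cD (nat_lit 27) (.cut (nat_lit 0)) (.cD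 (nat_lit 31) (.iso x289 s588 (nat_lit 0) (nat_lit 0x1040020010008004012001) (nat_lit 0x40020010008004012001) [(nat_lit 0x1000800400200d001001), (nat_lit 0x1000800400200d003001), (nat_lit 0x10008004002009005001)] (.cut (nat_lit 0))) .nil))))))
theorem c589 : (chk [(x289, s588)] [g55] p589).n x289 s589 = true := by decide +kernel
noncomputable def p590 : Pf := (.anc (nat_lit 68) (nat_lit 0x10002002002000002) (nat_lit 0x1009020010004) (.czp (nat_lit 64) (nat_lit 0) (nat_lit 0x1040020010008004) z6 (.dfs (nat_lit 4) (nat_lit 4097) (nat_lit 4097) (nat_lit 1) (nat_lit 1) (nat_lit 0) (nat_lit 0) (nat_lit 3) (nat_lit 0) (nat_lit 0) (nat_lit 0) (nat_lit 1) (nat_lit 0) (nat_lit 0x1008004) (nat_lit 32772) (nat_lit 0x1001004000008001014000018) (nat_lit 0x1000101110110) (.cD (nat_lit 4) (.dfs (nat_lit 16) (nat_lit 4098) (nat_lit 4098) (nat_lit 4097) (nat_lit 4097) (nat_lit 0) (nat_lit 0) (nat_lit 3) (nat_lit 0) (nat_lit 0) (nat_lit 0) (nat_lit 1) (nat_lit 0) (nat_lit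 1) (nat_lit 0) (nat_lit 1) (nat_lit 0x11001100110010) (.cD (nat_lit 4) (.kc (nat_lit 20) (nat_lit 0x3001001)) (.cD (nat_lit 16) (.dfs (nat_lit 32) (nat_lit 4100) (nat_lit 4100) (nat_lit 0x1002001) (nat_lit 0x1002001) (nat_lit 0) (nat_lit 0) (nat_lit 3) (nat_lit 0) (nat_lit 0) (nat_lit 0) (nat_lit 1) (nat_lit 0) (nat_lit 1) (nat_lit 0) (nat_lit 1) (nat_lit 0x11001100110010) (.cD (nat_lit 4) (.kc (nat_lit 36) (nat_lit 0x5001001)) (.cD (nat_lit 16) (.kc (nat_lit 48) (nat_lit 0x3001001)) (.cD (nat_lit 20) (.kc (nat_lit 52) (nat_lit 0x7001001)) (.cD (nat_lit 32) (.dfs (nat_lit 9) (nat_lit 0x1004001003008) (nat_lit 0x1005001003008) (nat_lit 4098) (nat_lit 4098) (nat_lit 0) (nat_lit 0) (nat_lit 2) (nat_lit 1) (nat_lit 0) (nat_lit 8) (nat_lit 1) (nat_lit 0) (nat_lit 4100) (nat_lit 4) (nat_lit 0x1000048000058) (nat_lit 0x10001000000000000000000) (.cD (nat_lit 72) (.kb (nat_lit 9) (nat_lit 0x1021000014006001001003) (nat_lit 0x102001004800c002005)) (.cD (nat_lit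 88) (.kb (nat_lit 25) (nat_lit 0x1021000014006005001003) (nat_lit 0x102001004800c002005)) .nil))) (.cD (nat_lit 36) (.kA true (nat_lit 0x2100100000400100300d001021001000003)) (.cD (nat_lit 48) (.kA true (nat_lit 0x600800401000400400100300d001021001000003)) (.cD (nat_lit 52) (.kA true (nat_lit 0x5004003008001008004002005007021001000003)) .nil)))))))) (.cD (nat_lit 20) (.dfs (nat_lit 32) (nat_lit 4100) (nat_lit 4100) (nat_lit 0x1002001) (nat_lit 0x1002001) (nat_lit 0) (nat_lit 0) (nat_lit 3) (nat_lit 0) (nat_lit 0) (nat_lit 0) (nat_lit 1) (nat_lit 0) (nat_lit 1) (nat_lit 0) (nat_lit 1) (nat_lit 0x11001100110010) (.cD (nat_lit 4) (.kc (nat_lit 36) (nat_lit 0x5001001)) (.cD (nat_lit 16) (.kc (nat_lit 52) (nat_lit 0x7001001)) (.cD (nat_lit 20) (.kc (nat_lit 48) (nat_lit 0x3001001)) (.cD (nat_lit 32) (.kA true (nat_lit 0x5004003008001008004002005007021001000003)) (.cD (nat_lit 36) (.dfs (nat_lit 9) (nat_lit 4102) (nat_lit 4103) (nat_lit 1) (nat_lit 1) (nat_lit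 0) (nat_lit 0) (nat_lit 1) (nat_lit 4112) (nat_lit 0x40020010008004002021) (nat_lit 0) (nat_lit 1) (nat_lit 0) (nat_lit 1) (nat_lit 0) (nat_lit 1) (nat_lit 0) .nil) (.cD (nat_lit 48) (.kA true (nat_lit 0x400300500800100400100300c001002)) (.cD (nat_lit 52) (.kA true (nat_lit 0x400700100800100400100300c001002)) .nil)))))))) (.cD (nat_lit 32) (.kF (nat_lit 16) (nat_lit 0x100400100c012004002002000003)) (.cD (nat_lit 36) (.kF (nat_lit 16) (nat_lit 0x100400100c012004002002000003)) (.cD (nat_lit 48) (.dfs (nat_lit 32) (nat_lit 4100) (nat_lit 4100) (nat_lit 0x1002001) (nat_lit 0x1002001) (nat_lit 0) (nat_lit 0) (nat_lit 3) (nat_lit 0) (nat_lit 0) (nat_lit 0) (nat_lit 1) (nat_lit 0) (nat_lit 1) (nat_lit 0) (nat_lit 1) (nat_lit 0x11001100110010) (.cD (nat_lit 4) (.kc (nat_lit 36) (nat_lit 0x5001001)) (.cD (nat_lit 16) (.kA true (nat_lit 0x400200100800100400100300c001002)) (.cD (nat_lit 20) (.kA true (nat_lit 0x400600500800100400100300c001002)) (.cD (nat_lit 32)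 (.kA true (nat_lit 0x5004003008001008004002005007021001000003)) (.cD (nat_lit 36) (.kA true (nat_lit 0x400500600800100400100300c001002)) (.cD (nat_lit 48) (.kc (nat_lit 48) (nat_lit 0x3001001)) (.cD (nat_lit 52) (.kc (nat_lit 52) (nat_lit 0x7001001)) .nil)))))))) (.cD (nat_lit 52) (.dfs (nat_lit 32) (nat_lit 4100) (nat_lit 4100) (nat_lit 0x1002001) (nat_lit 0x1002001) (nat_lit 0) (nat_lit 0) (nat_lit 3) (nat_lit 0) (nat_lit 0) (nat_lit 0) (nat_lit 1) (nat_lit 0) (nat_lit 1) (nat_lit 0) (nat_lit 1) (nat_lit 0x11001100110010) (.cD (nat_lit 4) (.kc (nat_lit 36) (nat_lit 0x5001001)) (.cD (nat_lit 16) (.kA true (nat_lit 0x400200500800100400100300c001002)) (.cD (nat_lit 20) (.kA true (nat_lit 0x400600100800100400100300c001002)) (.cD (nat_lit 32) (.kA true (nat_lit 0x5004003008001008004002005007021001000003)) (.cD (nat_lit 36) (.kA true (nat_lit 0x400500200800100400100300c001002)) (.cD (nat_lit 48) (.kc (nat_lit 52) (nat_lit 0x7001001)) (.cD (nat_lit 52) (.kc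 (nat_lit 48) (nat_lit 0x3001001)) .nil)))))))) .nil)))))))) (.cD (nat_lit 8) (.dfs (nat_lit 16) (nat_lit 4098) (nat_lit 4098) (nat_lit 4097) (nat_lit 4097) (nat_lit 0) (nat_lit 0) (nat_lit 3) (nat_lit 0) (nat_lit 0) (nat_lit 0) (nat_lit 1) (nat_lit 0) (nat_lit 1) (nat_lit 0) (nat_lit 1) (nat_lit 0x101010101010100) (.cD (nat_lit 8) (.kc (nat_lit 20) (nat_lit 0x3001001)) (.cD (nat_lit 16) (.dfs (nat_lit 32) (nat_lit 4100) (nat_lit 4100) (nat_lit 0x1002001) (nat_lit 0x1002001) (nat_lit 0) (nat_lit 0) (nat_lit 3) (nat_lit 0) (nat_lit 0) (nat_lit 0) (nat_lit 1) (nat_lit 0) (nat_lit 1) (nat_lit 0) (nat_lit 1) (nat_lit 0x101010101010100) (.cD (nat_lit 8) (.kc (nat_lit 36) (nat_lit 0x5001001)) (.cD (nat_lit 16) (.kc (nat_lit 48) (nat_lit 0x3001001)) (.cD (nat_lit 24) (.kc (nat_lit 52) (nat_lit 0x7001001)) (.cD (nat_lit 32) (.kA false (nat_lit 0x100400200c002006004008014005021001000003)) (.cD (nat_lit 40) (.kA false (nat_lit 0x2100100000100500200d002021001000003))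 (.cD (nat_lit 48) (.kA false (nat_lit 0xe00800c01000400700300200b002021001000003)) (.cD (nat_lit 56) (.kA false (nat_lit 0x700400200c002006004008014005021001000003)) .nil)))))))) (.cD (nat_lit 24) (.dfs (nat_lit 32) (nat_lit 4100) (nat_lit 4100) (nat_lit 0x1002001) (nat_lit 0x1002001) (nat_lit 0) (nat_lit 0) (nat_lit 3) (nat_lit 0) (nat_lit 0) (nat_lit 0) (nat_lit 1) (nat_lit 0) (nat_lit 1) (nat_lit 0) (nat_lit 1) (nat_lit 0x101010101010100) (.cD (nat_lit 8) (.kc (nat_lit 36) (nat_lit 0x5001001)) (.cD (nat_lit 16) (.kc (nat_lit 52) (nat_lit 0x7001001)) (.cD (nat_lit 24) (.kc (nat_lit 48) (nat_lit 0x3001001)) (.cD (nat_lit 32) (.kA false (nat_lit 0x100400600c002006004008014005021001000003)) (.cD (nat_lit 40) (.kA false (nat_lit 0x2100100000100500600d002021001000003)) (.cD (nat_lit 48) (.kA false (nat_lit 0x700400600c002006004008014005021001000003)) (.cD (nat_lit 56) (.kA false (nat_lit 0xe00800a01000400700300600b002021001000003)) .nil)))))))) (.cD (nat_lit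 32) (.kF (nat_lit 16) (nat_lit 0x100400100c012004002002000003)) (.cD (nat_lit 40) (.kF (nat_lit 16) (nat_lit 0x100400100c012004002002000003)) (.cD (nat_lit 48) (.dfs (nat_lit 32) (nat_lit 4100) (nat_lit 4100) (nat_lit 0x1002001) (nat_lit 0x1002001) (nat_lit 0) (nat_lit 0) (nat_lit 3) (nat_lit 0) (nat_lit 0) (nat_lit 0) (nat_lit 1) (nat_lit 0) (nat_lit 1) (nat_lit 0) (nat_lit 1) (nat_lit 0x101010101010100) (.cD (nat_lit 8) (.kc (nat_lit 36) (nat_lit 0x5001001)) (.cD (nat_lit 16) (.kA false (nat_lit 0xe00800401000400700300100b002021001000003)) (.cD (nat_lit 24) (.kA false (nat_lit 0x700400500c002006004008014005021001000003)) (.cD (nat_lit 32) (.kA false (nat_lit 0x100400300c002006004008014005021001000003)) (.cD (nat_lit 40) (.kA false (nat_lit 0x2100100000100500700d002021001000003)) (.cD (nat_lit 48) (.kc (nat_lit 48) (nat_lit 0x3001001)) (.cD (nat_lit 56) (.kc (nat_lit 52) (nat_lit 0x7001001)) .nil)))))))) (.cD (nat_lit 56) (.dfs (nat_lit 32) (nat_lit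 4100) (nat_lit 4100) (nat_lit 0x1002001) (nat_lit 0x1002001) (nat_lit 0) (nat_lit 0) (nat_lit 3) (nat_lit 0) (nat_lit 0) (nat_lit 0) (nat_lit 1) (nat_lit 0) (nat_lit 1) (nat_lit 0) (nat_lit 1) (nat_lit 0x101010101010100) (.cD (nat_lit 8) (.kc (nat_lit 36) (nat_lit 0x5001001)) (.cD (nat_lit 16) (.kA false (nat_lit 0x700400100c002006004008014005021001000003)) (.cD (nat_lit 24) (.kA false (nat_lit 0xe00800201000400700300500b002021001000003)) (.cD (nat_lit 32) (.kA false (nat_lit 0x100400700c002006004008014005021001000003)) (.cD (nat_lit 40) (.kA false (nat_lit 0x2100100000100500300d002021001000003)) (.cD (nat_lit 48) (.kc (nat_lit 52) (nat_lit 0x7001001)) (.cD (nat_lit 56) (.kc (nat_lit 48) (nat_lit 0x3001001)) .nil)))))))) .nil)))))))) (.cD (nat_lit 16) (.kF (nat_lit 4) (nat_lit 0x2002000001003001002)) (.cD (nat_lit 20) (.kF (nat_lit 4) (nat_lit 0xe01e003001003001002)) (.cD (nat_lit 24) (.kF (nat_lit 4) (nat_lit 0x1002001002012004002002000003)) (.cD (nat_lit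 32) (.dfs (nat_lit 16) (nat_lit 4098) (nat_lit 4098) (nat_lit 4097) (nat_lit 4097) (nat_lit 0) (nat_lit 0) (nat_lit 3) (nat_lit 0) (nat_lit 0) (nat_lit 0) (nat_lit 1) (nat_lit 0) (nat_lit 0x1008004) (nat_lit 32772) (nat_lit 0x1001004000008001014000018) (nat_lit 0x1000101110110) (.cD (nat_lit 4) (.kF (nat_lit 16) (nat_lit 0x21001000001006001002)) (.cD (nat_lit 8) (.kF (nat_lit 16) (nat_lit 0x21001000001006001002)) (.cD (nat_lit 16) (.dfs (nat_lit 32) (nat_lit 4100) (nat_lit 4100) (nat_lit 0x1002001) (nat_lit 0x1002001) (nat_lit 0) (nat_lit 0) (nat_lit 3) (nat_lit 0) (nat_lit 0) (nat_lit 0) (nat_lit 1) (nat_lit 0) (nat_lit 0x1008004) (nat_lit 32772) (nat_lit 0x1001004000008001014000018) (nat_lit 0x1000101110110) (.cD (nat_lit 4) (.kA true (nat_lit 0x100400600c002021001000002)) (.cD (nat_lit 8) (.kA false (nat_lit 0x500400200c002021001000002)) (.cD (nat_lit 16) (.kc (nat_lit 48) (nat_lit 0x3001001)) (.cD (nat_lit 20) (.kA true (nat_lit 0x300400600c002021001000002))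 (.cD (nat_lit 24) (.kA false (nat_lit 0x700400200c002021001000002)) (.cD (nat_lit 32) (.kc (nat_lit 36) (nat_lit 0x5001001)) (.cD (nat_lit 48) (.kc (nat_lit 52) (nat_lit 0x7001001)) .nil)))))))) (.cD (nat_lit 20) (.dfs (nat_lit 32) (nat_lit 4100) (nat_lit 4100) (nat_lit 0x1002001) (nat_lit 0x1002001) (nat_lit 0) (nat_lit 0) (nat_lit 3) (nat_lit 0) (nat_lit 0) (nat_lit 0) (nat_lit 1) (nat_lit 0) (nat_lit 1) (nat_lit 0) (nat_lit 1) (nat_lit 0x11001100110010) (.cD (nat_lit 4) (.kA true (nat_lit 0x100400700c002021001000002)) (.cD (nat_lit 16) (.kA true (nat_lit 0x300400500c002021001000002)) (.cD (nat_lit 20) (.kc (nat_lit 48) (nat_lit 0x3001001)) (.cD (nat_lit 32) (.kc (nat_lit 36) (nat_lit 0x5001001)) (.cD (nat_lit 36) (.dfs (nat_lit 9) (nat_lit 4100) (nat_lit 4101) (nat_lit 1) (nat_lit 1) (nat_lit 0) (nat_lit 0) (nat_lit 1) (nat_lit 4128) (nat_lit 0x40020010008004002021) (nat_lit 0) (nat_lit 1) (nat_lit 0) (nat_lit 1) (nat_lit 0) (nat_lit 1) (nat_lit 0)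 .nil) (.cD (nat_lit 48) (.kA true (nat_lit 0x700400100c002021001000002)) (.cD (nat_lit 52) (.kc (nat_lit 52) (nat_lit 0x7001001)) .nil)))))))) (.cD (nat_lit 24) (.dfs (nat_lit 32) (nat_lit 4100) (nat_lit 4100) (nat_lit 0x1002001) (nat_lit 0x1002001) (nat_lit 0) (nat_lit 0) (nat_lit 3) (nat_lit 0) (nat_lit 0) (nat_lit 0) (nat_lit 1) (nat_lit 0) (nat_lit 1) (nat_lit 0) (nat_lit 1) (nat_lit 0x101010101010100) (.cD (nat_lit 8) (.kA false (nat_lit 0x500400300c002021001000002)) (.cD (nat_lit 16) (.kA false (nat_lit 0x700400100c002021001000002)) (.cD (nat_lit 24) (.kc (nat_lit 48) (nat_lit 0x3001001)) (.cD (nat_lit 32) (.kc (nat_lit 36) (nat_lit 0x5001001)) (.cD (nat_lit 40) (.kA false (nat_lit 0x100400700c002021001000002)) (.cD (nat_lit 48) (.kA false (nat_lit 0x300400500c002021001000002)) (.cD (nat_lit 56) (.kc (nat_lit 52) (nat_lit 0x7001001)) .nil)))))))) (.cD (nat_lit 32) (.kc (nat_lit 20) (nat_lit 0x3001001)) (.cD (nat_lit 48) (.dfs (nat_lit 32) (nat_lit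 4100) (nat_lit 4100) (nat_lit 0x1002001) (nat_lit 0x1002001) (nat_lit 0) (nat_lit 0) (nat_lit 3) (nat_lit 0) (nat_lit 0) (nat_lit 0) (nat_lit 1) (nat_lit 0) (nat_lit 0x1008004) (nat_lit 32772) (nat_lit 0x1001004000008001014000018) (nat_lit 0x1000101110110) (.cD (nat_lit 4) (.kA true (nat_lit 0x100400200c002021001000002)) (.cD (nat_lit 8) (.kA false (nat_lit 0x500400600c002021001000002)) (.cD (nat_lit 16) (.kc (nat_lit 52) (nat_lit 0x7001001)) (.cD (nat_lit 20) (.kA true (nat_lit 0x700400200c002021001000002)) (.cD (nat_lit 24) (.kA false (nat_lit 0x300400600c002021001000002)) (.cD (nat_lit 32) (.kc (nat_lit 36) (nat_lit 0x5001001)) (.cD (nat_lit 48) (.kc (nat_lit 48) (nat_lit 0x3001001)) .nil)))))))) .nil)))))))) (.cD (nat_lit 48) (.kF (nat_lit 4) (nat_lit 0x1002001002012004002002000003)) .nil))))))))))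
theorem c590 : (chk [] [] p590).n x298 s590 = true := by decide +kernel
noncomputable def p591 : Pf := (.anc (nat_lit 68) (nat_lit 0x10002002002000002) (nat_lit 0x1009020010004) (.czp (nat_lit 64) (nat_lit 0) (nat_lit 0x1040020010008004) z6 (.dfs (nat_lit 4) (nat_lit 4097) (nat_lit 4097) (nat_lit 1) (nat_lit 1) (nat_lit 0) (nat_lit 0) (nat_lit 3) (nat_lit 0) (nat_lit 0) (nat_lit 0) (nat_lit 1) (nat_lit 0) (nat_lit 0x1008004) (nat_lit 32772) (nat_lit 0x1001004000008001014000018) (nat_lit 0x1000101110110) (.cD (nat_lit 4) (.dfs (nat_lit 16) (nat_lit 4098) (nat_lit 4098) (nat_lit 4097) (nat_lit 4097) (nat_lit 0) (nat_lit 0) (nat_lit 3) (nat_lit 0) (nat_lit 0) (nat_lit 0) (nat_lit 1) (nat_lit 0) (nat_lit 1) (nat_lit 0) (nat_lit 1) (nat_lit 0x11001100110010) (.cD (nat_lit 4) (.kc (nat_lit 20) (nat_lit 0x3001001)) (.cD (nat_lit 16) (.dfs (nat_lit 32) (nat_lit 4100) (nat_lit 4100) (nat_lit 0x1002001) (nat_lit 0x1002001) (nat_lit 0) (nat_lit 0) (nat_lit 3) (nat_lit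 0) (nat_lit 0) (nat_lit 0) (nat_lit 1) (nat_lit 0) (nat_lit 1) (nat_lit 0) (nat_lit 1) (nat_lit 0x11001100110010) (.cD (nat_lit 4) (.kc (nat_lit 36) (nat_lit 0x5001001)) (.cD (nat_lit 16) (.kc (nat_lit 48) (nat_lit 0x3001001)) (.cD (nat_lit 20) (.kc (nat_lit 52) (nat_lit 0x7001001)) (.cD (nat_lit 32) (.dfs (nat_lit 9) (nat_lit 0x1004001003008) (nat_lit 0x1005001003008) (nat_lit 4098) (nat_lit 4098) (nat_lit 2) (nat_lit 0) (nat_lit 2) (nat_lit 1) (nat_lit 0) (nat_lit 8) (nat_lit 1) (nat_lit 0) (nat_lit 1) (nat_lit 0) (nat_lit 1) (nat_lit 0) .nil) (.cD (nat_lit 36) (.kA true (nat_lit 0x3100100000400100300d001031001000003)) (.cD (nat_lit 48) (.kA true (nat_lit 0x600800401000400400100300d001031001000003)) (.cD (nat_lit 52) (.kA true (nat_lit 0x5004003008001008004002005007031001000003)) .nil)))))))) (.cD (nat_lit 20) (.dfs (nat_lit 32) (nat_lit 4100) (nat_lit 4100) (nat_lit 0x1002001) (nat_lit 0x1002001) (nat_lit 0) (nat_lit 0) (nat_lit 3) (nat_lit 0) (nat_lit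 0) (nat_lit 0) (nat_lit 1) (nat_lit 0) (nat_lit 1) (nat_lit 0) (nat_lit 1) (nat_lit 0x11001100110010) (.cD (nat_lit 4) (.kc (nat_lit 36) (nat_lit 0x5001001)) (.cD (nat_lit 16) (.kc (nat_lit 52) (nat_lit 0x7001001)) (.cD (nat_lit 20) (.kc (nat_lit 48) (nat_lit 0x3001001)) (.cD (nat_lit 32) (.kA true (nat_lit 0x5004003008001008004002005007031001000003)) (.cD (nat_lit 36) (.dfs (nat_lit 9) (nat_lit 4102) (nat_lit 4103) (nat_lit 1) (nat_lit 1) (nat_lit 2) (nat_lit 0) (nat_lit 1) (nat_lit 4112) (nat_lit 0x40020010008004002031) (nat_lit 0) (nat_lit 1) (nat_lit 0) (nat_lit 1) (nat_lit 0) (nat_lit 1) (nat_lit 0) .nil) (.cD (nat_lit 48) (.kA true (nat_lit 0x400300500800100400100300c001002)) (.cD (nat_lit 52) (.kA true (nat_lit 0x400700100800100400100300c001002)) .nil)))))))) (.cD (nat_lit 32) (.kF (nat_lit 16) (nat_lit 0x100400100c012004002002000003)) (.cD (nat_lit 36) (.kF (nat_lit 16) (nat_lit 0x100400100c012004002002000003)) (.cD (nat_lit 48) (.dfs (nat_lit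 32) (nat_lit 4100) (nat_lit 4100) (nat_lit 0x1002001) (nat_lit 0x1002001) (nat_lit 0) (nat_lit 0) (nat_lit 3) (nat_lit 0) (nat_lit 0) (nat_lit 0) (nat_lit 1) (nat_lit 0) (nat_lit 1) (nat_lit 0) (nat_lit 1) (nat_lit 0x11001100110010) (.cD (nat_lit 4) (.kc (nat_lit 36) (nat_lit 0x5001001)) (.cD (nat_lit 16) (.kA true (nat_lit 0x400200100800100400100300c001002)) (.cD (nat_lit 20) (.kA true (nat_lit 0x400600500800100400100300c001002)) (.cD (nat_lit 32) (.kA true (nat_lit 0x5004003008001008004002005007031001000003)) (.cD (nat_lit 36) (.kA true (nat_lit 0x400500600800100400100300c001002)) (.cD (nat_lit 48) (.kc (nat_lit 48) (nat_lit 0x3001001)) (.cD (nat_lit 52) (.kc (nat_lit 52) (nat_lit 0x7001001)) .nil)))))))) (.cD (nat_lit 52) (.dfs (nat_lit 32) (nat_lit 4100) (nat_lit 4100) (nat_lit 0x1002001) (nat_lit 0x1002001) (nat_lit 0) (nat_lit 0) (nat_lit 3) (nat_lit 0) (nat_lit 0) (nat_lit 0) (nat_lit 1) (nat_lit 0) (nat_lit 1) (nat_lit 0) (nat_lit 1) (nat_lit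 0x11001100110010) (.cD (nat_lit 4) (.kc (nat_lit 36) (nat_lit 0x5001001)) (.cD (nat_lit 16) (.kA true (nat_lit 0x400200500800100400100300c001002)) (.cD (nat_lit 20) (.kA true (nat_lit 0x400600100800100400100300c001002)) (.cD (nat_lit 32) (.kA true (nat_lit 0x5004003008001008004002005007031001000003)) (.cD (nat_lit 36) (.kA true (nat_lit 0x400500200800100400100300c001002)) (.cD (nat_lit 48) (.kc (nat_lit 52) (nat_lit 0x7001001)) (.cD (nat_lit 52) (.kc (nat_lit 48) (nat_lit 0x3001001)) .nil)))))))) .nil)))))))) (.cD (nat_lit 8) (.dfs (nat_lit 16) (nat_lit 4098) (nat_lit 4098) (nat_lit 4097) (nat_lit 4097) (nat_lit 0) (nat_lit 0) (nat_lit 3) (nat_lit 0) (nat_lit 0) (nat_lit 0) (nat_lit 1) (nat_lit 0) (nat_lit 1) (nat_lit 0) (nat_lit 1) (nat_lit 0x101010101010100) (.cD (nat_lit 8) (.kc (nat_lit 20) (nat_lit 0x3001001)) (.cD (nat_lit 16) (.dfs (nat_lit 32) (nat_lit 4100) (nat_lit 4100) (nat_lit 0x1002001) (nat_lit 0x1002001) (nat_lit 0) (nat_lit 0) (nat_lit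 3) (nat_lit 0) (nat_lit 0) (nat_lit 0) (nat_lit 1) (nat_lit 0) (nat_lit 1) (nat_lit 0) (nat_lit 1) (nat_lit 0x101010101010100) (.cD (nat_lit 8) (.kc (nat_lit 36) (nat_lit 0x5001001)) (.cD (nat_lit 16) (.kc (nat_lit 48) (nat_lit 0x3001001)) (.cD (nat_lit 24) (.kc (nat_lit 52) (nat_lit 0x7001001)) (.cD (nat_lit 32) (.kA false (nat_lit 0x100400200c002006004008014005031001000003)) (.cD (nat_lit 40) (.kA false (nat_lit 0x3100100000100500200d002031001000003)) (.cD (nat_lit 48) (.kA false (nat_lit 0xe00800c01000400700300200b002031001000003)) (.cD (nat_lit 56) (.kA false (nat_lit 0x700400200c002006004008014005031001000003)) .nil)))))))) (.cD (nat_lit 24) (.dfs (nat_lit 32) (nat_lit 4100) (nat_lit 4100) (nat_lit 0x1002001) (nat_lit 0x1002001) (nat_lit 0) (nat_lit 0) (nat_lit 3) (nat_lit 0) (nat_lit 0) (nat_lit 0) (nat_lit 1) (nat_lit 0) (nat_lit 1) (nat_lit 0) (nat_lit 1) (nat_lit 0x101010101010100) (.cD (nat_lit 8) (.kc (nat_lit 36) (nat_lit 0x5001001)) (.cD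 (nat_lit 16) (.kc (nat_lit 52) (nat_lit 0x7001001)) (.cD (nat_lit 24) (.kc (nat_lit 48) (nat_lit 0x3001001)) (.cD (nat_lit 32) (.kA false (nat_lit 0x100400600c002006004008014005031001000003)) (.cD (nat_lit 40) (.kA false (nat_lit 0x3100100000100500600d002031001000003)) (.cD (nat_lit 48) (.kA false (nat_lit 0x700400600c002006004008014005031001000003)) (.cD (nat_lit 56) (.kA false (nat_lit 0xe00800a01000400700300600b002031001000003)) .nil)))))))) (.cD (nat_lit 32) (.kF (nat_lit 16) (nat_lit 0x100400100c012004002002000003)) (.cD (nat_lit 40) (.kF (nat_lit 16) (nat_lit 0x100400100c012004002002000003)) (.cD (nat_lit 48) (.dfs (nat_lit 32) (nat_lit 4100) (nat_lit 4100) (nat_lit 0x1002001) (nat_lit 0x1002001) (nat_lit 0) (nat_lit 0) (nat_lit 3) (nat_lit 0) (nat_lit 0) (nat_lit 0) (nat_lit 1) (nat_lit 0) (nat_lit 1) (nat_lit 0) (nat_lit 1) (nat_lit 0x101010101010100) (.cD (nat_lit 8) (.kc (nat_lit 36) (nat_lit 0x5001001)) (.cD (nat_lit 16) (.kA false (nat_lit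 0xe00800401000400700300100b002031001000003)) (.cD (nat_lit 24) (.kA false (nat_lit 0x700400500c002006004008014005031001000003)) (.cD (nat_lit 32) (.kA false (nat_lit 0x100400300c002006004008014005031001000003)) (.cD (nat_lit 40) (.kA false (nat_lit 0x3100100000100500700d002031001000003)) (.cD (nat_lit 48) (.kc (nat_lit 48) (nat_lit 0x3001001)) (.cD (nat_lit 56) (.kc (nat_lit 52) (nat_lit 0x7001001)) .nil)))))))) (.cD (nat_lit 56) (.dfs (nat_lit 32) (nat_lit 4100) (nat_lit 4100) (nat_lit 0x1002001) (nat_lit 0x1002001) (nat_lit 0) (nat_lit 0) (nat_lit 3) (nat_lit 0) (nat_lit 0) (nat_lit 0) (nat_lit 1) (nat_lit 0) (nat_lit 1) (nat_lit 0) (nat_lit 1) (nat_lit 0x101010101010100) (.cD (nat_lit 8) (.kc (nat_lit 36) (nat_lit 0x5001001)) (.cD (nat_lit 16) (.kA false (nat_lit 0x700400100c002006004008014005031001000003)) (.cD (nat_lit 24) (.kA false (nat_lit 0xe00800201000400700300500b002031001000003)) (.cD (nat_lit 32) (.kA false (nat_lit 0x100400700c002006004008014005031001000003))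 (.cD (nat_lit 40) (.kA false (nat_lit 0x3100100000100500300d002031001000003)) (.cD (nat_lit 48) (.kc (nat_lit 52) (nat_lit 0x7001001)) (.cD (nat_lit 56) (.kc (nat_lit 48) (nat_lit 0x3001001)) .nil)))))))) .nil)))))))) (.cD (nat_lit 16) (.kF (nat_lit 4) (nat_lit 0x2002000001003001002)) (.cD (nat_lit 20) (.kF (nat_lit 4) (nat_lit 0xe01e003001003001002)) (.cD (nat_lit 24) (.kF (nat_lit 4) (nat_lit 0x1002001002012004002002000003)) (.cD (nat_lit 32) (.dfs (nat_lit 16) (nat_lit 4098) (nat_lit 4098) (nat_lit 4097) (nat_lit 4097) (nat_lit 0) (nat_lit 0) (nat_lit 3) (nat_lit 0) (nat_lit 0) (nat_lit 0) (nat_lit 1) (nat_lit 0) (nat_lit 0x1008004) (nat_lit 32772) (nat_lit 0x1001004000008001014000018) (nat_lit 0x1000101110110) (.cD (nat_lit 4) (.kF (nat_lit 16) (nat_lit 0x31001000001006001002)) (.cD (nat_lit 8) (.kF (nat_lit 16) (nat_lit 0x31001000001006001002)) (.cD (nat_lit 16) (.dfs (nat_lit 32) (nat_lit 4100) (nat_lit 4100) (nat_lit 0x1002001) (nat_lit 0x1002001)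 (nat_lit 0) (nat_lit 0) (nat_lit 3) (nat_lit 0) (nat_lit 0) (nat_lit 0) (nat_lit 1) (nat_lit 0) (nat_lit 0x1008004) (nat_lit 32772) (nat_lit 0x1001004000008001014000018) (nat_lit 0x1000101110110) (.cD (nat_lit 4) (.kA true (nat_lit 0x100400600c002031001000002)) (.cD (nat_lit 8) (.kA false (nat_lit 0x500400200c002031001000002)) (.cD (nat_lit 16) (.kc (nat_lit 48) (nat_lit 0x3001001)) (.cD (nat_lit 20) (.kA true (nat_lit 0x300400600c002031001000002)) (.cD (nat_lit 24) (.kA false (nat_lit 0x700400200c002031001000002)) (.cD (nat_lit 32) (.kc (nat_lit 36) (nat_lit 0x5001001)) (.cD (nat_lit 48) (.kc (nat_lit 52) (nat_lit 0x7001001)) .nil)))))))) (.cD (nat_lit 20) (.dfs (nat_lit 32) (nat_lit 4100) (nat_lit 4100) (nat_lit 0x1002001) (nat_lit 0x1002001) (nat_lit 0) (nat_lit 0) (nat_lit 3) (nat_lit 0) (nat_lit 0) (nat_lit 0) (nat_lit 1) (nat_lit 0) (nat_lit 1) (nat_lit 0) (nat_lit 1) (nat_lit 0x11001100110010) (.cD (nat_lit 4) (.kA true (nat_lit 0x100400700c002031001000002))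 (.cD (nat_lit 16) (.kA true (nat_lit 0x300400500c002031001000002)) (.cD (nat_lit 20) (.kc (nat_lit 48) (nat_lit 0x3001001)) (.cD (nat_lit 32) (.kc (nat_lit 36) (nat_lit 0x5001001)) (.cD (nat_lit 36) (.dfs (nat_lit 9) (nat_lit 4100) (nat_lit 4101) (nat_lit 1) (nat_lit 1) (nat_lit 2) (nat_lit 0) (nat_lit 1) (nat_lit 4128) (nat_lit 0x40020010008004002031) (nat_lit 0) (nat_lit 1) (nat_lit 0) (nat_lit 1) (nat_lit 0) (nat_lit 1) (nat_lit 0) .nil) (.cD (nat_lit 48) (.kA true (nat_lit 0x700400100c002031001000002)) (.cD (nat_lit 52) (.kc (nat_lit 52) (nat_lit 0x7001001)) .nil)))))))) (.cD (nat_lit 24) (.dfs (nat_lit 32) (nat_lit 4100) (nat_lit 4100) (nat_lit 0x1002001) (nat_lit 0x1002001) (nat_lit 0) (nat_lit 0) (nat_lit 3) (nat_lit 0) (nat_lit 0) (nat_lit 0) (nat_lit 1) (nat_lit 0) (nat_lit 1) (nat_lit 0) (nat_lit 1) (nat_lit 0x101010101010100) (.cD (nat_lit 8) (.kA false (nat_lit 0x500400300c002031001000002)) (.cD (nat_lit 16) (.kA false (nat_lit 0x700400100c002031001000002))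 (.cD (nat_lit 24) (.kc (nat_lit 48) (nat_lit 0x3001001)) (.cD (nat_lit 32) (.kc (nat_lit 36) (nat_lit 0x5001001)) (.cD (nat_lit 40) (.kA false (nat_lit 0x100400700c002031001000002)) (.cD (nat_lit 48) (.kA false (nat_lit 0x300400500c002031001000002)) (.cD (nat_lit 56) (.kc (nat_lit 52) (nat_lit 0x7001001)) .nil)))))))) (.cD (nat_lit 32) (.kc (nat_lit 20) (nat_lit 0x3001001)) (.cD (nat_lit 48) (.dfs (nat_lit 32) (nat_lit 4100) (nat_lit 4100) (nat_lit 0x1002001) (nat_lit 0x1002001) (nat_lit 0) (nat_lit 0) (nat_lit 3) (nat_lit 0) (nat_lit 0) (nat_lit 0) (nat_lit 1) (nat_lit 0) (nat_lit 0x1008004) (nat_lit 32772) (nat_lit 0x1001004000008001014000018) (nat_lit 0x1000101110110) (.cD (nat_lit 4) (.kA true (nat_lit 0x100400200c002031001000002)) (.cD (nat_lit 8) (.kA false (nat_lit 0x500400600c002031001000002)) (.cD (nat_lit 16) (.kc (nat_lit 52) (nat_lit 0x7001001)) (.cD (nat_lit 20) (.kA true (nat_lit 0x700400200c002031001000002)) (.cD (nat_lit 24) (.kA false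 (nat_lit 0x300400600c002031001000002)) (.cD (nat_lit 32) (.kc (nat_lit 36) (nat_lit 0x5001001)) (.cD (nat_lit 48) (.kc (nat_lit 48) (nat_lit 0x3001001)) .nil)))))))) .nil)))))))) (.cD (nat_lit 48) (.kF (nat_lit 4) (nat_lit 0x1002001002012004002002000003)) .nil))))))))))
theorem c591 : (chk [] [] p591).n x299 s591 = true := by decide +kernel
noncomputable def p592 : Pf := (.anc (nat_lit 68) (nat_lit 0x10002002002000002) (nat_lit 0x1009020010004) (.czp (nat_lit 64) (nat_lit 0) (nat_lit 0x1040020010008004) z6 (.dfs (nat_lit 4) (nat_lit 4097) (nat_lit 4097) (nat_lit 1) (nat_lit 1) (nat_lit 0) (nat_lit 0) (nat_lit 3) (nat_lit 0) (nat_lit 0) (nat_lit 0) (nat_lit 1) (nat_lit 0) (nat_lit 0x1008004) (nat_lit 32772) (nat_lit 0x1001004000008001014000018) (nat_lit 0x1000101110110) (.cD (nat_lit 4) (.dfs (nat_lit 16) (nat_lit 4098) (nat_lit 4098) (nat_lit 4097) (nat_lit 4097) (nat_lit 0) (nat_lit 0) (nat_lit 3) (nat_lit 0) (nat_lit 0) (nat_lit 0) (nat_lit 1) (nat_lit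 0) (nat_lit 1) (nat_lit 0) (nat_lit 1) (nat_lit 0x11001100110010) (.cD (nat_lit 4) (.kc (nat_lit 20) (nat_lit 0x3001001)) (.cD (nat_lit 16) (.dfs (nat_lit 32) (nat_lit 4100) (nat_lit 4100) (nat_lit 0x1002001) (nat_lit 0x1002001) (nat_lit 0) (nat_lit 0) (nat_lit 3) (nat_lit 0) (nat_lit 0) (nat_lit 0) (nat_lit 1) (nat_lit 0) (nat_lit 1) (nat_lit 0) (nat_lit 1) (nat_lit 0x11001100110010) (.cD (nat_lit 4) (.kc (nat_lit 36) (nat_lit 0x5001001)) (.cD (nat_lit 16) (.kc (nat_lit 48) (nat_lit 0x3001001)) (.cD (nat_lit 20) (.kc (nat_lit 52) (nat_lit 0x7001001)) (.cD (nat_lit 32) (.dfs (nat_lit 9) (nat_lit 0x1004001003008) (nat_lit 0x1005001003008) (nat_lit 4098) (nat_lit 4098) (nat_lit 2) (nat_lit 0) (nat_lit 2) (nat_lit 1) (nat_lit 0) (nat_lit 8) (nat_lit 1) (nat_lit 0) (nat_lit 1) (nat_lit 0) (nat_lit 1) (nat_lit 0) .nil) (.cD (nat_lit 36) (.kA true (nat_lit 0x3100100000400100300d001031001000003)) (.cD (nat_lit 48) (.kA true (nat_lit 0x600800401000400400100300d001031001000003))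 (.cD (nat_lit 52) (.kA true (nat_lit 0x5004003008001008004002005007031001000003)) .nil)))))))) (.cD (nat_lit 20) (.dfs (nat_lit 32) (nat_lit 4100) (nat_lit 4100) (nat_lit 0x1002001) (nat_lit 0x1002001) (nat_lit 0) (nat_lit 0) (nat_lit 3) (nat_lit 0) (nat_lit 0) (nat_lit 0) (nat_lit 1) (nat_lit 0) (nat_lit 1) (nat_lit 0) (nat_lit 1) (nat_lit 0x11001100110010) (.cD (nat_lit 4) (.kc (nat_lit 36) (nat_lit 0x5001001)) (.cD (nat_lit 16) (.kc (nat_lit 52) (nat_lit 0x7001001)) (.cD (nat_lit 20) (.kc (nat_lit 48) (nat_lit 0x3001001)) (.cD (nat_lit 32) (.kA true (nat_lit 0x5004003008001008004002005007031001000003)) (.cD (nat_lit 36) (.dfs (nat_lit 9) (nat_lit 4102) (nat_lit 4103) (nat_lit 1) (nat_lit 1) (nat_lit 2) (nat_lit 0) (nat_lit 1) (nat_lit 4112) (nat_lit 0x40020010008004002031) (nat_lit 0) (nat_lit 1) (nat_lit 0) (nat_lit 1) (nat_lit 0) (nat_lit 1) (nat_lit 0) .nil) (.cD (nat_lit 48) (.kA true (nat_lit 0x400300500800100400100300c001002)) (.cD (nat_lit 52)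 (.kA true (nat_lit 0x400700100800100400100300c001002)) .nil)))))))) (.cD (nat_lit 32) (.kF (nat_lit 16) (nat_lit 0x100400100c012004002002000003)) (.cD (nat_lit 36) (.kF (nat_lit 16) (nat_lit 0x100400100c012004002002000003)) (.cD (nat_lit 48) (.dfs (nat_lit 32) (nat_lit 4100) (nat_lit 4100) (nat_lit 0x1002001) (nat_lit 0x1002001) (nat_lit 0) (nat_lit 0) (nat_lit 3) (nat_lit 0) (nat_lit 0) (nat_lit 0) (nat_lit 1) (nat_lit 0) (nat_lit 1) (nat_lit 0) (nat_lit 1) (nat_lit 0x11001100110010) (.cD (nat_lit 4) (.kc (nat_lit 36) (nat_lit 0x5001001)) (.cD (nat_lit 16) (.kA true (nat_lit 0x400200100800100400100300c001002)) (.cD (nat_lit 20) (.kA true (nat_lit 0x400600500800100400100300c001002)) (.cD (nat_lit 32) (.kA true (nat_lit 0x5004003008001008004002005007031001000003)) (.cD (nat_lit 36) (.kA true (nat_lit 0x400500600800100400100300c001002)) (.cD (nat_lit 48) (.kc (nat_lit 48) (nat_lit 0x3001001)) (.cD (nat_lit 52) (.kc (nat_lit 52) (nat_lit 0x7001001)) .nil))))))))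 (.cD (nat_lit 52) (.dfs (nat_lit 32) (nat_lit 4100) (nat_lit 4100) (nat_lit 0x1002001) (nat_lit 0x1002001) (nat_lit 0) (nat_lit 0) (nat_lit 3) (nat_lit 0) (nat_lit 0) (nat_lit 0) (nat_lit 1) (nat_lit 0) (nat_lit 1) (nat_lit 0) (nat_lit 1) (nat_lit 0x11001100110010) (.cD (nat_lit 4) (.kc (nat_lit 36) (nat_lit 0x5001001)) (.cD (nat_lit 16) (.kA true (nat_lit 0x400200500800100400100300c001002)) (.cD (nat_lit 20) (.kA true (nat_lit 0x400600100800100400100300c001002)) (.cD (nat_lit 32) (.kA true (nat_lit 0x5004003008001008004002005007031001000003)) (.cD (nat_lit 36) (.kA true (nat_lit 0x400500200800100400100300c001002)) (.cD (nat_lit 48) (.kc (nat_lit 52) (nat_lit 0x7001001)) (.cD (nat_lit 52) (.kc (nat_lit 48) (nat_lit 0x3001001)) .nil)))))))) .nil)))))))) (.cD (nat_lit 8) (.dfs (nat_lit 16) (nat_lit 4098) (nat_lit 4098) (nat_lit 4097) (nat_lit 4097) (nat_lit 0) (nat_lit 0) (nat_lit 3) (nat_lit 0) (nat_lit 0) (nat_lit 0) (nat_lit 1) (nat_lit 0) (nat_lit 1)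 (nat_lit 0) (nat_lit 1) (nat_lit 0x101010101010100) (.cD (nat_lit 8) (.kc (nat_lit 20) (nat_lit 0x3001001)) (.cD (nat_lit 16) (.dfs (nat_lit 32) (nat_lit 4100) (nat_lit 4100) (nat_lit 0x1002001) (nat_lit 0x1002001) (nat_lit 0) (nat_lit 0) (nat_lit 3) (nat_lit 0) (nat_lit 0) (nat_lit 0) (nat_lit 1) (nat_lit 0) (nat_lit 1) (nat_lit 0) (nat_lit 1) (nat_lit 0x101010101010100) (.cD (nat_lit 8) (.kc (nat_lit 36) (nat_lit 0x5001001)) (.cD (nat_lit 16) (.kc (nat_lit 48) (nat_lit 0x3001001)) (.cD (nat_lit 24) (.kc (nat_lit 52) (nat_lit 0x7001001)) (.cD (nat_lit 32) (.kA false (nat_lit 0x100400200c002006004008014005031001000003)) (.cD (nat_lit 40) (.kA false (nat_lit 0x3100100000100500200d002031001000003)) (.cD (nat_lit 48) (.kA false (nat_lit 0xe00800c01000400700300200b002031001000003)) (.cD (nat_lit 56) (.kA false (nat_lit 0x700400200c002006004008014005031001000003)) .nil)))))))) (.cD (nat_lit 24) (.dfs (nat_lit 32) (nat_lit 4100) (nat_lit 4100) (nat_lit 0x1002001)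 (nat_lit 0x1002001) (nat_lit 0) (nat_lit 0) (nat_lit 3) (nat_lit 0) (nat_lit 0) (nat_lit 0) (nat_lit 1) (nat_lit 0) (nat_lit 1) (nat_lit 0) (nat_lit 1) (nat_lit 0x101010101010100) (.cD (nat_lit 8) (.kc (nat_lit 36) (nat_lit 0x5001001)) (.cD (nat_lit 16) (.kc (nat_lit 52) (nat_lit 0x7001001)) (.cD (nat_lit 24) (.kc (nat_lit 48) (nat_lit 0x3001001)) (.cD (nat_lit 32) (.kA false (nat_lit 0x100400600c002006004008014005031001000003)) (.cD (nat_lit 40) (.kA false (nat_lit 0x3100100000100500600d002031001000003)) (.cD (nat_lit 48) (.kA false (nat_lit 0x700400600c002006004008014005031001000003)) (.cD (nat_lit 56) (.kA false (nat_lit 0xe00800a01000400700300600b002031001000003)) .nil)))))))) (.cD (nat_lit 32) (.kF (nat_lit 16) (nat_lit 0x100400100c012004002002000003)) (.cD (nat_lit 40) (.kF (nat_lit 16) (nat_lit 0x100400100c012004002002000003)) (.cD (nat_lit 48) (.dfs (nat_lit 32) (nat_lit 4100) (nat_lit 4100) (nat_lit 0x1002001) (nat_lit 0x1002001) (nat_lit 0)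 (nat_lit 0) (nat_lit 3) (nat_lit 0) (nat_lit 0) (nat_lit 0) (nat_lit 1) (nat_lit 0) (nat_lit 1) (nat_lit 0) (nat_lit 1) (nat_lit 0x101010101010100) (.cD (nat_lit 8) (.kc (nat_lit 36) (nat_lit 0x5001001)) (.cD (nat_lit 16) (.kA false (nat_lit 0xe00800401000400700300100b002031001000003)) (.cD (nat_lit 24) (.kA false (nat_lit 0x700400500c002006004008014005031001000003)) (.cD (nat_lit 32) (.kA false (nat_lit 0x100400300c002006004008014005031001000003)) (.cD (nat_lit 40) (.kA false (nat_lit 0x3100100000100500700d002031001000003)) (.cD (nat_lit 48) (.kc (nat_lit 48) (nat_lit 0x3001001)) (.cD (nat_lit 56) (.kc (nat_lit 52) (nat_lit 0x7001001)) .nil)))))))) (.cD (nat_lit 56) (.dfs (nat_lit 32) (nat_lit 4100) (nat_lit 4100) (nat_lit 0x1002001) (nat_lit 0x1002001) (nat_lit 0) (nat_lit 0) (nat_lit 3) (nat_lit 0) (nat_lit 0) (nat_lit 0) (nat_lit 1) (nat_lit 0) (nat_lit 1) (nat_lit 0) (nat_lit 1) (nat_lit 0x101010101010100) (.cD (nat_lit 8) (.kc (nat_lit 36) (nat_lit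 0x5001001)) (.cD (nat_lit 16) (.kA false (nat_lit 0x700400100c002006004008014005031001000003)) (.cD (nat_lit 24) (.kA false (nat_lit 0xe00800201000400700300500b002031001000003)) (.cD (nat_lit 32) (.kA false (nat_lit 0x100400700c002006004008014005031001000003)) (.cD (nat_lit 40) (.kA false (nat_lit 0x3100100000100500300d002031001000003)) (.cD (nat_lit 48) (.kc (nat_lit 52) (nat_lit 0x7001001)) (.cD (nat_lit 56) (.kc (nat_lit 48) (nat_lit 0x3001001)) .nil)))))))) .nil)))))))) (.cD (nat_lit 16) (.kF (nat_lit 4) (nat_lit 0x2002000001003001002)) (.cD (nat_lit 20) (.kF (nat_lit 4) (nat_lit 0xe01e003001003001002)) (.cD (nat_lit 24) (.kF (nat_lit 4) (nat_lit 0x1002001002012004002002000003)) (.cD (nat_lit 32) (.dfs (nat_lit 16) (nat_lit 4098) (nat_lit 4098) (nat_lit 4097) (nat_lit 4097) (nat_lit 0) (nat_lit 0) (nat_lit 3) (nat_lit 0) (nat_lit 0) (nat_lit 0) (nat_lit 1) (nat_lit 0) (nat_lit 0x1008004) (nat_lit 32772) (nat_lit 0x1001004000008001014000018) (nat_lit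 0x1000101110110) (.cD (nat_lit 4) (.kF (nat_lit 16) (nat_lit 0x31001000001006001002)) (.cD (nat_lit 8) (.kF (nat_lit 16) (nat_lit 0x31001000001006001002)) (.cD (nat_lit 16) (.dfs (nat_lit 32) (nat_lit 4100) (nat_lit 4100) (nat_lit 0x1002001) (nat_lit 0x1002001) (nat_lit 0) (nat_lit 0) (nat_lit 3) (nat_lit 0) (nat_lit 0) (nat_lit 0) (nat_lit 1) (nat_lit 0) (nat_lit 0x1008004) (nat_lit 32772) (nat_lit 0x1001004000008001014000018) (nat_lit 0x1000101110110) (.cD (nat_lit 4) (.kA true (nat_lit 0x100400600c002031001000002)) (.cD (nat_lit 8) (.kA false (nat_lit 0x500400200c002031001000002)) (.cD (nat_lit 16) (.kc (nat_lit 48) (nat_lit 0x3001001)) (.cD (nat_lit 20) (.kA true (nat_lit 0x300400600c002031001000002)) (.cD (nat_lit 24) (.kA false (nat_lit 0x700400200c002031001000002)) (.cD (nat_lit 32) (.kc (nat_lit 36) (nat_lit 0x5001001)) (.cD (nat_lit 48) (.kc (nat_lit 52) (nat_lit 0x7001001)) .nil)))))))) (.cD (nat_lit 20) (.dfs (nat_lit 32) (nat_lit 4100) (nat_lit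 4100) (nat_lit 0x1002001) (nat_lit 0x1002001) (nat_lit 0) (nat_lit 0) (nat_lit 3) (nat_lit 0) (nat_lit 0) (nat_lit 0) (nat_lit 1) (nat_lit 0) (nat_lit 1) (nat_lit 0) (nat_lit 1) (nat_lit 0x11001100110010) (.cD (nat_lit 4) (.kA true (nat_lit 0x100400700c002031001000002)) (.cD (nat_lit 16) (.kA true (nat_lit 0x300400500c002031001000002)) (.cD (nat_lit 20) (.kc (nat_lit 48) (nat_lit 0x3001001)) (.cD (nat_lit 32) (.kc (nat_lit 36) (nat_lit 0x5001001)) (.cD (nat_lit 36) (.dfs (nat_lit 9) (nat_lit 4100) (nat_lit 4101) (nat_lit 1) (nat_lit 1) (nat_lit 2) (nat_lit 0) (nat_lit 1) (nat_lit 4128) (nat_lit 0x40020010008004002031) (nat_lit 0) (nat_lit 1) (nat_lit 0) (nat_lit 1) (nat_lit 0) (nat_lit 1) (nat_lit 0) .nil) (.cD (nat_lit 48) (.kA true (nat_lit 0x700400100c002031001000002)) (.cD (nat_lit 52) (.kc (nat_lit 52) (nat_lit 0x7001001)) .nil)))))))) (.cD (nat_lit 24) (.dfs (nat_lit 32) (nat_lit 4100) (nat_lit 4100) (nat_lit 0x1002001) (nat_lit 0x1002001) (nat_lit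 0) (nat_lit 0) (nat_lit 3) (nat_lit 0) (nat_lit 0) (nat_lit 0) (nat_lit 1) (nat_lit 0) (nat_lit 1) (nat_lit 0) (nat_lit 1) (nat_lit 0x101010101010100) (.cD (nat_lit 8) (.kA false (nat_lit 0x500400300c002031001000002)) (.cD (nat_lit 16) (.kA false (nat_lit 0x700400100c002031001000002)) (.cD (nat_lit 24) (.kc (nat_lit 48) (nat_lit 0x3001001)) (.cD (nat_lit 32) (.kc (nat_lit 36) (nat_lit 0x5001001)) (.cD (nat_lit 40) (.kA false (nat_lit 0x100400700c002031001000002)) (.cD (nat_lit 48) (.kA false (nat_lit 0x300400500c002031001000002)) (.cD (nat_lit 56) (.kc (nat_lit 52) (nat_lit 0x7001001)) .nil)))))))) (.cD (nat_lit 32) (.kc (nat_lit 20) (nat_lit 0x3001001)) (.cD (nat_lit 48) (.dfs (nat_lit 32) (nat_lit 4100) (nat_lit 4100) (nat_lit 0x1002001) (nat_lit 0x1002001) (nat_lit 0) (nat_lit 0) (nat_lit 3) (nat_lit 0) (nat_lit 0) (nat_lit 0) (nat_lit 1) (nat_lit 0) (nat_lit 0x1008004) (nat_lit 32772) (nat_lit 0x1001004000008001014000018) (nat_lit 0x1000101110110)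 (.cD (nat_lit 4) (.kA true (nat_lit 0x100400200c002031001000002)) (.cD (nat_lit 8) (.kA false (nat_lit 0x500400600c002031001000002)) (.cD (nat_lit 16) (.kc (nat_lit 52) (nat_lit 0x7001001)) (.cD (nat_lit 20) (.kA true (nat_lit 0x700400200c002031001000002)) (.cD (nat_lit 24) (.kA false (nat_lit 0x300400600c002031001000002)) (.cD (nat_lit 32) (.kc (nat_lit 36) (nat_lit 0x5001001)) (.cD (nat_lit 48) (.kc (nat_lit 48) (nat_lit 0x3001001)) .nil)))))))) .nil)))))))) (.cD (nat_lit 48) (.kF (nat_lit 4) (nat_lit 0x1002001002012004002002000003)) .nil))))))))))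
theorem c592 : (chk [] [] p592).n x300 s592 = true := by decide +kernel
noncomputable def p593 : Pf := (.lft (nat_lit 0x20008018001004002003001) (nat_lit 0) (nat_lit 0x1028020) (nat_lit 0x20010008004002001) (.extn a19 (nat_lit 0x20010008004002001) (nat_lit 0x1004010008020) (nat_lit 2) (nat_lit 0) (nat_lit 0) (nat_lit 0) (nat_lit 0x1010101) (.cE (nat_lit 0) b53 (nat_lit 0) (.cut (nat_lit 0)) (.cut (nat_lit 1)) (.cE (nat_lit 8) b54 (nat_lit 0) (.cut (nat_lit 2)) (.cut (nat_lit 3)) (.cE (nat_lit 16) b55 t55 (.cut (nat_lit 4)) (.cut (nat_lit 5)) (.cE (nat_lit 24) b60 (nat_lit 0) (.cut (nat_lit 6)) (.cut (nat_lit 7)) .nil))))))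
theorem c593 : (chk [(x285, s551), (x286, s585), (x287, s586), (x288, s587), (x289, s589), (x298, s590), (x299, s591), (x300, s592)] [] p593).n x207 s593 = true := by decide +kernel
noncomputable def p594 : Pf := (.ext (nat_lit 1) (nat_lit 0) (nat_lit 0x1020018010002) (nat_lit 0x700200c008005001001000001002004008005003) (nat_lit 0x300200400f) (nat_lit 4101) (nat_lit 4101) (nat_lit 0xe004002001) (.dfs (nat_lit 5) (nat_lit 0x100300200400f) (nat_lit 0x1003002004009) (nat_lit 0x1008001) (nat_lit 0x100e001) (nat_lit 0) (nat_lit 0) (nat_lit 2) (nat_lit 1) (nat_lit 0) (nat_lit 5) (nat_lit 1) (nat_lit 0) (nat_lit 4128) (nat_lit 32) (nat_lit 0x1000005000007000015000017) (nat_lit 0xa000a0) (.cD (nat_lit 5) (.kS (nat_lit 1) (nat_lit 0x4008010020003001) (nat_lit 4117) (nat_lit 0x8004002007) (nat_lit 0x600400801a001001002004008010001001004008010020003004003)) (.cD (nat_lit 7) (.cut (nat_lit 1)) (.cD (nat_lit 21) (.kS (nat_lit 1) (nat_lit 0x4008010020003001) (nat_lit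 4117) (nat_lit 0x8004002007) (nat_lit 0x600400801a005001002004008010001001004008010020003004003)) (.cD (nat_lit 23) (.cut (nat_lit 0)) .nil))))))
theorem c594 : (chk [(x207, s584), (x207, s593)] [] p594).n x207 s594 = true := by decide +kernel
noncomputable def p595 : Pf := (.ext (nat_lit 0) (nat_lit 0) (nat_lit 0x1080020040010) (nat_lit 0x10008004002003040020010008001002) (nat_lit 0x2003004008) (nat_lit 4097) (nat_lit 4098) (nat_lit 0xb004002001) (.dfs (nat_lit 1) (nat_lit 0x1002003004008) (nat_lit 0x100200300400b) (nat_lit 4097) (nat_lit 4097) (nat_lit 1) (nat_lit 0) (nat_lit 2) (nat_lit 0) (nat_lit 0) (nat_lit 2) (nat_lit 1) (nat_lit 0) (nat_lit 1) (nat_lit 0) (nat_lit 1) (nat_lit 0) .nil))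
theorem c595 : (chk [] [] p595).n x302 s595 = true := by decide +kernel
noncomputable def p596 : Pf := (.ext (nat_lit 0) (nat_lit 0) (nat_lit 0x1080020040010) (nat_lit 0x10008004002003040020010008001002) (nat_lit 0x2003004008) (nat_lit 4097) (nat_lit 4098) (nat_lit 0xb004002001) (.dfs (nat_lit 1) (nat_lit 0x1002003004008) (nat_lit 0x100200300400b) (nat_lit 4097) (nat_lit 4097) (nat_lit 1) (nat_lit 0) (nat_lit 2) (nat_lit 0) (nat_lit 0) (nat_lit 2) (nat_lit 1) (nat_lit 0) (nat_lit 1) (nat_lit 0) (nat_lit 1) (nat_lit 0) .nil))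
theorem c596 : (chk [] [] p596).n x303 s596 = true := by decide +kernel
noncomputable def p597 : Pf := (.ext (nat_lit 0) (nat_lit 0) (nat_lit 0x1080020040010) (nat_lit 0x10008004002003040020010008001002) (nat_lit 0x2003004008) (nat_lit 4097) (nat_lit 4098) (nat_lit 0xb004002001) (.dfs (nat_lit 1) (nat_lit 0x1002003004008) (nat_lit 0x100200300400b) (nat_lit 4097) (nat_lit 4097) (nat_lit 5) (nat_lit 0) (nat_lit 2) (nat_lit 0) (nat_lit 0) (nat_lit 2) (nat_lit 1) (nat_lit 0) (nat_lit 1) (nat_lit 0) (nat_lit 1) (nat_lit 0) .nil))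
theorem c597 : (chk [] [] p597).n x304 s597 = true := by decide +kernel
noncomputable def p598 : Pf := (.ext (nat_lit 0) (nat_lit 0) (nat_lit 0x1080020040010) (nat_lit 0x10008004002003040020010008001002) (nat_lit 0x2003004008) (nat_lit 4097) (nat_lit 4098) (nat_lit 0xb004002001) (.dfs (nat_lit 1) (nat_lit 0x1002003004008) (nat_lit 0x100200300400b) (nat_lit 4097) (nat_lit 4097) (nat_lit 5) (nat_lit 0) (nat_lit 2) (nat_lit 0) (nat_lit 0) (nat_lit 2) (nat_lit 1) (nat_lit 0) (nat_lit 1) (nat_lit 0) (nat_lit 1) (nat_lit 0) .nil))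
theorem c598 : (chk [] [] p598).n x305 s598 = true := by decide +kernel
noncomputable def p599 : Pf := (.ext (nat_lit 0) (nat_lit 0) (nat_lit 0x1080020040010) (nat_lit 0x10008004002003040020010008001002) (nat_lit 0x2003004008) (nat_lit 4097) (nat_lit 4098) (nat_lit 0xb004002001) (.dfs (nat_lit 1) (nat_lit 0x1002003004008) (nat_lit 0x100200300400b) (nat_lit 4097) (nat_lit 4097) (nat_lit 3) (nat_lit 0) (nat_lit 2) (nat_lit 0) (nat_lit 0) (nat_lit 2) (nat_lit 1) (nat_lit 0) (nat_lit 1) (nat_lit 0) (nat_lit 1) (nat_lit 0) .nil))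
theorem c599 : (chk [] [] p599).n x306 s599 = true := by decide +kernel
noncomputable def p600 : Pf := (.ext (nat_lit 0) (nat_lit 0) (nat_lit 0x1080020040010) (nat_lit 0x10008004002003040020010008001002) (nat_lit 0x2003004008) (nat_lit 4097) (nat_lit 4098) (nat_lit 0xb004002001) (.dfs (nat_lit 1) (nat_lit 0x1002003004008) (nat_lit 0x100200300400b) (nat_lit 4097) (nat_lit 4097) (nat_lit 3) (nat_lit 0) (nat_lit 2) (nat_lit 0) (nat_lit 0) (nat_lit 2) (nat_lit 1) (nat_lit 0) (nat_lit 4224) (nat_lit 128) (nat_lit 0x10000820000920000a20000b2) (nat_lit 0x400040004000400000000000000000000000000000000) (.cD (nat_lit 130) (.kS (nat_lit 0) (nat_lit 0x2004008018001004004000002) (nat_lit 4226) (nat_lit 0x800400200d) (nat_lit 0x4004000002004008010001001004004000002004008018001002004)) (.cD (nat_lit 146) (.kS (nat_lit 0) (nat_lit 0x2004008018001004004000002) (nat_lit 4242) (nat_lit 0x800400200d) (nat_lit 0x4004000002004008010001001004004000002004008018001002004)) (.cD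 (nat_lit 162) (.kS (nat_lit 0) (nat_lit 0x2004008018001004004000002) (nat_lit 4258) (nat_lit 0x800400200d) (nat_lit 0x4004000002004008010001001004004000002004008018001002004)) (.cD (nat_lit 178) (.kS (nat_lit 0) (nat_lit 0x2004008018001004004000002) (nat_lit 4274) (nat_lit 0x800400200d) (nat_lit 0x4004000002004008010001001004004000002004008018001002004)) .nil))))))
theorem c600 : (chk [] [] p600).n x307 s600 = true := by decide +kernel
noncomputable def p601 : Pf := (.ext (nat_lit 0) (nat_lit 0) (nat_lit 0x1080020040010) (nat_lit 0x10008004002003040020010008001002) (nat_lit 0x2003004008) (nat_lit 4097) (nat_lit 4098) (nat_lit 0xb004002001) (.dfs (nat_lit 1) (nat_lit 0x1002003004008) (nat_lit 0x100200300400b) (nat_lit 4097) (nat_lit 4097) (nat_lit 7) (nat_lit 0) (nat_lit 2) (nat_lit 0) (nat_lit 0) (nat_lit 2) (nat_lit 1) (nat_lit 0) (nat_lit 1) (nat_lit 0) (nat_lit 1) (nat_lit 0) .nil))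
theorem c601 : (chk [] [] p601).n x308 s601 = true := by decide +kernel
noncomputable def p602 : Pf := (.ext (nat_lit 0) (nat_lit 0) (nat_lit 0x1080020040010) (nat_lit 0x10008004002003040020010008001002) (nat_lit 0x2003004008) (nat_lit 4097) (nat_lit 4098) (nat_lit 0xb004002001) (.dfs (nat_lit 1) (nat_lit 0x1002003004008) (nat_lit 0x100200300400b) (nat_lit 4097) (nat_lit 4097) (nat_lit 7) (nat_lit 0) (nat_lit 2) (nat_lit 0) (nat_lit 0) (nat_lit 2) (nat_lit 1) (nat_lit 0) (nat_lit 1) (nat_lit 0) (nat_lit 1) (nat_lit 0) .nil))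
theorem c602 : (chk [] [] p602).n x309 s602 = true := by decide +kernel
noncomputable def p603 : Pf := (.lft (nat_lit 0x40010020008001004002005001) (nat_lit 8) (nat_lit 0x1070060050040) (nat_lit 0x40020010008004002001) (.extn a17 (nat_lit 0x40020010008004002001) (nat_lit 0x1008020010040) (nat_lit 2) (nat_lit 0) (nat_lit 0) (nat_lit 0) (nat_lit 0x100010001000100) (.cE (nat_lit 8) b42 (nat_lit 0) (.cut (nat_lit 0)) (.cut (nat_lit 1)) (.cE (nat_lit 24) b43 (nat_lit 0) (.cut (nat_lit 2)) (.cut (nat_lit 3)) (.cE (nat_lit 40) b44 (nat_lit 0) (.cut (nat_lit 4)) (.cut (nat_lit 5)) (.cE (nat_lit 56) b45 (nat_lit 0) (.cut (nat_lit 6)) (.cut (nat_lit 7)) .nil))))))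
theorem c603 : (chk [(x302, s595), (x303, s596), (x304, s597), (x305, s598), (x306, s599), (x307, s600), (x308, s601), (x309, s602)] [] p603).n x301 s603 = true := by decide +kernel
noncomputable def p604 : Pf := (.ext (nat_lit 0) (nat_lit 0x4006008010002001) (nat_lit 0x1040010020008002) (nat_lit 0x10008004002001002004004000010008002004001001004004000010008006004005002005) (nat_lit 0x4006008010) (nat_lit 0x1004001) (nat_lit 0x1004001) (nat_lit 0x10008004006005014008004002001) (.dfs (nat_lit 1) (nat_lit 0x1002004008010) (nat_lit 0x1002004008014) (nat_lit 4097) (nat_lit 4097) (nat_lit 0) (nat_lit 0) (nat_lit 2) (nat_lit 0) (nat_lit 0x2004008010001001) (nat_lit 1) (nat_lit 1) (nat_lit 0) (nat_lit 1) (nat_lit 0) (nat_lit 1) (nat_lit 0x102010201020102) (.cD (nat_lit 1) (.dfs (nat_lit 4) (nat_lit 0x1004008010020) (nat_lit 0x100c008010020) (nat_lit 0x1002001) (nat_lit 0x100a001) (nat_lit 0) (nat_lit 0) (nat_lit 2) (nat_lit 0) (nat_lit 0x4008010020001001) (nat_lit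 4) (nat_lit 1) (nat_lit 0) (nat_lit 4105) (nat_lit 9) (nat_lit 0x1000004000014) (nat_lit 0x100010) (.cD (nat_lit 4) (.cut (nat_lit 0)) (.cD (nat_lit 20) (.kA true (nat_lit 0xc002006010005001010030040001002)) .nil))) (.cD (nat_lit 8) (.kS (nat_lit 0) (nat_lit 0xc008010020001004004000002) (nat_lit 0x1008023) (nat_lit 0x8004002005010008004006001) (nat_lit 0x400400000400801002000100200100400400000c00801002000100a002004)) (.cD (nat_lit 17) (.dfs (nat_lit 4) (nat_lit 0x1004008010020) (nat_lit 0x100c008010020) (nat_lit 0x1002001) (nat_lit 0x100a001) (nat_lit 0) (nat_lit 0) (nat_lit 2) (nat_lit 0) (nat_lit 0x4008010020001001) (nat_lit 4) (nat_lit 1) (nat_lit 0) (nat_lit 4105) (nat_lit 9) (nat_lit 0x1000004000014) (nat_lit 0x100010) (.cD (nat_lit 4) (.kA false (nat_lit 0xa010020041001008010020040001002)) (.cD (nat_lit 20) (.kA false (nat_lit 0xa010020061001008010020060001002002000003)) .nil))) (.cD (nat_lit 24) (.kS (nat_lit 0) (nat_lit 0xc008010020001004004000002)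 (nat_lit 0x1018023) (nat_lit 0x8004002005010008004006001) (nat_lit 0x400400000400801002000100200100400400000c00801002000100a002004)) (.cD (nat_lit 33) (.dfs (nat_lit 4) (nat_lit 0x1004008010020) (nat_lit 0x100c008010020) (nat_lit 0x1002001) (nat_lit 0x100a001) (nat_lit 0) (nat_lit 0) (nat_lit 2) (nat_lit 0) (nat_lit 0x4008010020001001) (nat_lit 4) (nat_lit 1) (nat_lit 0) (nat_lit 4105) (nat_lit 9) (nat_lit 0x1000004000014) (nat_lit 0x100010) (.cD (nat_lit 4) (.kS (nat_lit 1) (nat_lit 0x2004008010009001001000001010030040007003) (nat_lit 4127) (nat_lit 0x8004002003) (nat_lit 0x1100103004103f00100200400801400100900100100000200400801000100a004)) (.cD (nat_lit 20) (.kA true (nat_lit 0xc002006010005001010030040001002)) .nil))) (.cD (nat_lit 40) (.kS (nat_lit 0) (nat_lit 0xc008010020001004004000002) (nat_lit 0x1028023) (nat_lit 0x8004002005010008004006001) (nat_lit 0x400400000400801002000100200100400400000c00801002000100a002004)) (.cD (nat_lit 49) (.dfs (nat_lit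 4) (nat_lit 0x1004008010020) (nat_lit 0x100c008010020) (nat_lit 0x1002001) (nat_lit 0x100a001) (nat_lit 0) (nat_lit 0) (nat_lit 2) (nat_lit 0) (nat_lit 0x4008010020001001) (nat_lit 4) (nat_lit 1) (nat_lit 0) (nat_lit 4105) (nat_lit 9) (nat_lit 0x1000004000014) (nat_lit 0x100010) (.cD (nat_lit 4) (.kA false (nat_lit 0xa010020041001008010020040001002)) (.cD (nat_lit 20) (.kA false (nat_lit 0xa010020061001008010020060001002002000003)) .nil))) (.cD (nat_lit 56) (.kS (nat_lit 0) (nat_lit 0xc008010020001004004000002) (nat_lit 0x1038023) (nat_lit 0x8004002005010008004006001) (nat_lit 0x400400000400801002000100200100400400000c00801002000100a002004)) .nil))))))))))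
theorem c604 : (chk [(x301, s603)] [] p604).n x301 s604 = true := by decide +kernel
noncomputable def p605 : Pf := (.ext (nat_lit 1) (nat_lit 0) (nat_lit 0x1080060040008) (nat_lit 0x14008004002003040030010001001002) (nat_lit 0x200300400a) (nat_lit 0x1002001) (nat_lit 0x1001003) (nat_lit 0xa004002001009004002001) (.dfs (nat_lit 1) (nat_lit 0x100200300400a) (nat_lit 0x100200300400b) (nat_lit 0x1008001) (nat_lit 0x1009001) (nat_lit 1) (nat_lit 0) (nat_lit 2) (nat_lit 1) (nat_lit 0) (nat_lit 3) (nat_lit 1) (nat_lit 0) (nat_lit 4224) (nat_lit 128) (nat_lit 0x100000300000b00002300002b) (nat_lit 0x80800000808) (.cD (nat_lit 3) (.dfs (nat_lit 2) (nat_lit 0x1004006008014) (nat_lit 0x1004006008010) (nat_lit 0x1010002001) (nat_lit 0x1014002005) (nat_lit 0) (nat_lit 0) (nat_lit 2) (nat_lit 1) (nat_lit 0) (nat_lit 1) (nat_lit 1) (nat_lit 0) (nat_lit 1) (nat_lit 0) (nat_lit 1) (nat_lit 0) .nil) (.cD (nat_lit 11) (.dfs (nat_lit 2) (nat_lit 0x1004006008014) (nat_lit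 0x1004006008010) (nat_lit 0x1010002001) (nat_lit 0x1014002005) (nat_lit 0) (nat_lit 0) (nat_lit 2) (nat_lit 1) (nat_lit 0) (nat_lit 1) (nat_lit 1) (nat_lit 0) (nat_lit 1) (nat_lit 0) (nat_lit 1) (nat_lit 0) .nil) (.cD (nat_lit 35) (.dfs (nat_lit 2) (nat_lit 0x1004006008014) (nat_lit 0x1004006008010) (nat_lit 0x1010002001) (nat_lit 0x1014002005) (nat_lit 0) (nat_lit 0) (nat_lit 2) (nat_lit 1) (nat_lit 0) (nat_lit 1) (nat_lit 1) (nat_lit 0) (nat_lit 1) (nat_lit 0) (nat_lit 1) (nat_lit 0) .nil) (.cD (nat_lit 43) (.dfs (nat_lit 2) (nat_lit 0x1004006008014) (nat_lit 0x1004006008010) (nat_lit 0x1010002001) (nat_lit 0x1014002005) (nat_lit 0) (nat_lit 0) (nat_lit 2) (nat_lit 1) (nat_lit 0) (nat_lit 1) (nat_lit 1) (nat_lit 0) (nat_lit 1) (nat_lit 0) (nat_lit 1) (nat_lit 0) .nil) .nil))))))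
theorem c605 : (chk [] [] p605).n x310 s605 = true := by decide +kernel
noncomputable def p606 : Pf := (.ext (nat_lit 1) (nat_lit 0x1010030040001001) (nat_lit 0x1080060040008) (nat_lit 0x10008006004004001) (nat_lit 0x3001004009) (nat_lit 4097) (nat_lit 4098) (nat_lit 0x9004002001) (.dfs (nat_lit 1) (nat_lit 0x1001002004008) (nat_lit 0x1001002004009) (nat_lit 1) (nat_lit 1) (nat_lit 1) (nat_lit 0) (nat_lit 2) (nat_lit 1) (nat_lit 0x1002004008001001) (nat_lit 2) (nat_lit 1) (nat_lit 0) (nat_lit 4282) (nat_lit 186) (nat_lit 0x10000920000980000b20000b8) (nat_lit 0x10400000104000000000000000000000000000000000000) (.cD (nat_lit 146) (.kS (nat_lit 1) (nat_lit 0x200400801c001014014000002) (nat_lit 4312) (nat_lit 0x8004002009) (nat_lit 0x4f00500000200400801000100101401400000200400801c005002004)) (.cD (nat_lit 152) (.kS (nat_lit 1) (nat_lit 0x200400801c001014014000002) (nat_lit 4306) (nat_lit 0x8004002009) (nat_lit 0x4f00500000200400801000100101401400000200400801c005002004))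 (.cD (nat_lit 178) (.kS (nat_lit 1) (nat_lit 0x200400801c001014014000002) (nat_lit 4344) (nat_lit 0x8004002009) (nat_lit 0x4f00500000200400801000100101401400000200400801c005002004)) (.cD (nat_lit 184) (.kS (nat_lit 1) (nat_lit 0x200400801c001014014000002) (nat_lit 4338) (nat_lit 0x8004002009) (nat_lit 0x4f00500000200400801000100101401400000200400801c005002004)) .nil))))))
theorem c606 : (chk [] [] p606).n x311 s606 = true := by decide +kernel
noncomputable def p607 : Pf := (.ext (nat_lit 1) (nat_lit 0) (nat_lit 0x1080060040008) (nat_lit 0x14008004002003040030010001001002) (nat_lit 0x200300400a) (nat_lit 4097) (nat_lit 4099) (nat_lit 0x9004002001) (.dfs (nat_lit 1) (nat_lit 0x100200300400a) (nat_lit 0x100200300400b) (nat_lit 0x1008001) (nat_lit 0x1009001) (nat_lit 7) (nat_lit 0) (nat_lit 2) (nat_lit 1) (nat_lit 0) (nat_lit 3) (nat_lit 1) (nat_lit 0) (nat_lit 1) (nat_lit 0) (nat_lit 1) (nat_lit 0) .nil))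
theorem c607 : (chk [] [] p607).n x312 s607 = true := by decide +kernel
noncomputable def p608 : Pf := (.ext (nat_lit 1) (nat_lit 0) (nat_lit 0x1080060040008) (nat_lit 0x14008004002003040030010001001002) (nat_lit 0x200300400a) (nat_lit 4097) (nat_lit 4099) (nat_lit 0x9004002001) (.dfs (nat_lit 1) (nat_lit 0x100200300400a) (nat_lit 0x100200300400b) (nat_lit 0x1008001) (nat_lit 0x1009001) (nat_lit 7) (nat_lit 0) (nat_lit 2) (nat_lit 1) (nat_lit 0) (nat_lit 3) (nat_lit 1) (nat_lit 0) (nat_lit 1) (nat_lit 0) (nat_lit 1) (nat_lit 0) .nil))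
theorem c608 : (chk [] [] p608).n x313 s608 = true := by decide +kernel
noncomputable def p609 : Pf := (.ext (nat_lit 1) (nat_lit 0) (nat_lit 0x1080060040008) (nat_lit 0x14008004002003040030010001001002) (nat_lit 0x200300400a) (nat_lit 4097) (nat_lit 4099) (nat_lit 0x9004002001) (.dfs (nat_lit 1) (nat_lit 0x100200300400a) (nat_lit 0x100200300400b) (nat_lit 0x1008001) (nat_lit 0x1009001) (nat_lit 3) (nat_lit 0) (nat_lit 2) (nat_lit 1) (nat_lit 0) (nat_lit 3) (nat_lit 1) (nat_lit 0) (nat_lit 1) (nat_lit 0) (nat_lit 1) (nat_lit 0) .nil))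
theorem c609 : (chk [] [] p609).n x314 s609 = true := by decide +kernel
noncomputable def p610 : Pf := (.ext (nat_lit 1) (nat_lit 0) (nat_lit 0x1080060040008) (nat_lit 0x14008004002003040030010001001002) (nat_lit 0x200300400a) (nat_lit 4097) (nat_lit 4099) (nat_lit 0x9004002001) (.dfs (nat_lit 1) (nat_lit 0x100200300400a) (nat_lit 0x100200300400b) (nat_lit 0x1008001) (nat_lit 0x1009001) (nat_lit 3) (nat_lit 0) (nat_lit 2) (nat_lit 1) (nat_lit 0) (nat_lit 3) (nat_lit 1) (nat_lit 0) (nat_lit 1) (nat_lit 0) (nat_lit 1) (nat_lit 0) .nil))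
theorem c610 : (chk [] [] p610).n x315 s610 = true := by decide +kernel
noncomputable def p611 : Pf := (.ext (nat_lit 1) (nat_lit 0) (nat_lit 0x1080060040008) (nat_lit 0x14008004002003040030010001001002) (nat_lit 0x200300400a) (nat_lit 0x1002001) (nat_lit 0x1001003) (nat_lit 0xa004002001009004002001) (.dfs (nat_lit 1) (nat_lit 0x100200300400a) (nat_lit 0x100200300400b) (nat_lit 0x1008001) (nat_lit 0x1009001) (nat_lit 5) (nat_lit 0) (nat_lit 2) (nat_lit 1) (nat_lit 0) (nat_lit 3) (nat_lit 1) (nat_lit 0) (nat_lit 4224) (nat_lit 128) (nat_lit 0x100000300000b00002300002b) (nat_lit 0x80800000808) (.cD (nat_lit 3) (.dfs (nat_lit 2) (nat_lit 0x1004006008014) (nat_lit 0x1004006008010) (nat_lit 0x1010002001) (nat_lit 0x1014002005) (nat_lit 0) (nat_lit 0) (nat_lit 2) (nat_lit 1) (nat_lit 0) (nat_lit 1) (nat_lit 1) (nat_lit 0) (nat_lit 1) (nat_lit 0) (nat_lit 1) (nat_lit 0) .nil) (.cD (nat_lit 11) (.dfs (nat_lit 2) (nat_lit 0x1004006008014) (nat_lit 0x1004006008010)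 (nat_lit 0x1010002001) (nat_lit 0x1014002005) (nat_lit 0) (nat_lit 0) (nat_lit 2) (nat_lit 1) (nat_lit 0) (nat_lit 1) (nat_lit 1) (nat_lit 0) (nat_lit 1) (nat_lit 0) (nat_lit 1) (nat_lit 0) .nil) (.cD (nat_lit 35) (.dfs (nat_lit 2) (nat_lit 0x1004006008014) (nat_lit 0x1004006008010) (nat_lit 0x1010002001) (nat_lit 0x1014002005) (nat_lit 0) (nat_lit 0) (nat_lit 2) (nat_lit 1) (nat_lit 0) (nat_lit 1) (nat_lit 1) (nat_lit 0) (nat_lit 1) (nat_lit 0) (nat_lit 1) (nat_lit 0) .nil) (.cD (nat_lit 43) (.dfs (nat_lit 2) (nat_lit 0x1004006008014) (nat_lit 0x1004006008010) (nat_lit 0x1010002001) (nat_lit 0x1014002005) (nat_lit 0) (nat_lit 0) (nat_lit 2) (nat_lit 1) (nat_lit 0) (nat_lit 1) (nat_lit 1) (nat_lit 0) (nat_lit 1) (nat_lit 0) (nat_lit 1) (nat_lit 0) .nil) .nil))))))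
theorem c611 : (chk [] [] p611).n x316 s611 = true := by decide +kernel
noncomputable def p612 : Pf := (.ext (nat_lit 1) (nat_lit 0) (nat_lit 0x1080060040008) (nat_lit 0x14008004002003040030010001001002) (nat_lit 0x200300400a) (nat_lit 0x1002001) (nat_lit 0x1001003) (nat_lit 0xa004002001009004002001) (.dfs (nat_lit 1) (nat_lit 0x100200300400a) (nat_lit 0x100200300400b) (nat_lit 0x1008001) (nat_lit 0x1009001) (nat_lit 5) (nat_lit 0) (nat_lit 2) (nat_lit 1) (nat_lit 0) (nat_lit 3) (nat_lit 1) (nat_lit 0) (nat_lit 4224) (nat_lit 128) (nat_lit 0x100000300000b00002300002b) (nat_lit 0x80800000808) (.cD (nat_lit 3) (.dfs (nat_lit 2) (nat_lit 0x1004006008014) (nat_lit 0x1004006008010) (nat_lit 0x1010002001) (nat_lit 0x1014002005) (nat_lit 0) (nat_lit 0) (nat_lit 2) (nat_lit 1) (nat_lit 0) (nat_lit 1) (nat_lit 1) (nat_lit 0) (nat_lit 1) (nat_lit 0) (nat_lit 1) (nat_lit 0) .nil) (.cD (nat_lit 11) (.dfs (nat_lit 2) (nat_lit 0x1004006008014) (nat_lit 0x1004006008010)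 (nat_lit 0x1010002001) (nat_lit 0x1014002005) (nat_lit 0) (nat_lit 0) (nat_lit 2) (nat_lit 1) (nat_lit 0) (nat_lit 1) (nat_lit 1) (nat_lit 0) (nat_lit 1) (nat_lit 0) (nat_lit 1) (nat_lit 0) .nil) (.cD (nat_lit 35) (.dfs (nat_lit 2) (nat_lit 0x1004006008014) (nat_lit 0x1004006008010) (nat_lit 0x1010002001) (nat_lit 0x1014002005) (nat_lit 0) (nat_lit 0) (nat_lit 2) (nat_lit 1) (nat_lit 0) (nat_lit 1) (nat_lit 1) (nat_lit 0) (nat_lit 1) (nat_lit 0) (nat_lit 1) (nat_lit 0) .nil) (.cD (nat_lit 43) (.dfs (nat_lit 2) (nat_lit 0x1004006008014) (nat_lit 0x1004006008010) (nat_lit 0x1010002001) (nat_lit 0x1014002005) (nat_lit 0) (nat_lit 0) (nat_lit 2) (nat_lit 1) (nat_lit 0) (nat_lit 1) (nat_lit 1) (nat_lit 0) (nat_lit 1) (nat_lit 0) (nat_lit 1) (nat_lit 0) .nil) .nil))))))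
theorem c612 : (chk [] [] p612).n x317 s612 = true := by decide +kernel
noncomputable def p613 : Pf := (.lft (nat_lit 0x40010020008001004002001001) (nat_lit 4) (nat_lit 0x1070060050040) (nat_lit 0x40020010008004002001) (.extn a18 (nat_lit 0x40020010008004002001) (nat_lit 0x1008020010040) (nat_lit 2) (nat_lit 0) (nat_lit 0) (nat_lit 4) (nat_lit 0x10001000100010) (.cE (nat_lit 4) b49 (nat_lit 0) (.cut (nat_lit 0)) (.cut (nat_lit 1)) (.cE (nat_lit 20) b50 (nat_lit 0) (.cut (nat_lit 2)) (.cut (nat_lit 3)) (.cE (nat_lit 36) b51 (nat_lit 0) (.cut (nat_lit 4)) (.cut (nat_lit 5)) (.cE (nat_lit 52) b52 (nat_lit 0) (.cut (nat_lit 6)) (.cut (nat_lit 7)) .nil))))))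
theorem c613 : (chk [(x310, s605), (x311, s606), (x312, s607), (x313, s608), (x314, s609), (x315, s610), (x316, s611), (x317, s612)] [] p613).n x301 s613 = true := by decide +kernel
noncomputable def p614 : Pf := (.ext (nat_lit 0) (nat_lit 0x4006008010002001) (nat_lit 0x1040010020008002) (nat_lit 0x10008004002005002004004000010008002004005001004004000010008006004001002005) (nat_lit 0x4006008010) (nat_lit 0x1004001) (nat_lit 0x1004001) (nat_lit 0x10008004006005014008004002001) (.dfs (nat_lit 1) (nat_lit 0x1002004008010) (nat_lit 0x1002004008014) (nat_lit 4097) (nat_lit 4097) (nat_lit 0) (nat_lit 0) (nat_lit 2) (nat_lit 0) (nat_lit 0x2004008010001001) (nat_lit 1) (nat_lit 1) (nat_lit 0) (nat_lit 1) (nat_lit 0) (nat_lit 1) (nat_lit 0x102010201020102) (.cD (nat_lit 1) (.dfs (nat_lit 4) (nat_lit 0x1004008010020) (nat_lit 0x100c008010020) (nat_lit 0x1002001) (nat_lit 0x100a001) (nat_lit 0) (nat_lit 0) (nat_lit 2) (nat_lit 0) (nat_lit 0x4008010020001001) (nat_lit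 4) (nat_lit 1) (nat_lit 0) (nat_lit 4105) (nat_lit 9) (nat_lit 0x1000004000014) (nat_lit 0x100010) (.cD (nat_lit 4) (.kS (nat_lit 1) (nat_lit 0x2004008012009003010030058001001010030040007003) (nat_lit 4155) (nat_lit 0x8004002003) (nat_lit 0x100100000200400801400100900301003005800e00200200400801200500a004)) (.cD (nat_lit 20) (.kA true (nat_lit 0xc002006010005001010030040001002)) .nil))) (.cD (nat_lit 8) (.kS (nat_lit 0) (nat_lit 0xc008010020001004004000002) (nat_lit 0x1008003) (nat_lit 0x8004002005010008004006001) (nat_lit 0x400400000400801002000100200100400400000c00801002000100a002004)) (.cD (nat_lit 17) (.dfs (nat_lit 4) (nat_lit 0x1004008010020) (nat_lit 0x100c008010020) (nat_lit 0x1002001) (nat_lit 0x100a001) (nat_lit 0) (nat_lit 0) (nat_lit 2) (nat_lit 0) (nat_lit 0x4008010020001001) (nat_lit 4) (nat_lit 1) (nat_lit 0) (nat_lit 4105) (nat_lit 9) (nat_lit 0x1000004000014) (nat_lit 0x100010) (.cD (nat_lit 4) (.kA false (nat_lit 0xa010020041001008010020040001002))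 (.cD (nat_lit 20) (.kA false (nat_lit 0xa010020061001008010020060001002002000003)) .nil))) (.cD (nat_lit 24) (.kS (nat_lit 0) (nat_lit 0xc008010020001004004000002) (nat_lit 0x1018003) (nat_lit 0x8004002005010008004006001) (nat_lit 0x400400000400801002000100200100400400000c00801002000100a002004)) (.cD (nat_lit 33) (.dfs (nat_lit 4) (nat_lit 0x1004008010020) (nat_lit 0x100c008010020) (nat_lit 0x1002001) (nat_lit 0x100a001) (nat_lit 0) (nat_lit 0) (nat_lit 2) (nat_lit 0) (nat_lit 0x4008010020001001) (nat_lit 4) (nat_lit 1) (nat_lit 0) (nat_lit 4105) (nat_lit 9) (nat_lit 0x1000004000014) (nat_lit 0x100010) (.cD (nat_lit 4) (.cut (nat_lit 0)) (.cD (nat_lit 20) (.kA true (nat_lit 0xc002006010005001010030040001002)) .nil))) (.cD (nat_lit 40) (.kS (nat_lit 0) (nat_lit 0xc008010020001004004000002) (nat_lit 0x1028003) (nat_lit 0x8004002005010008004006001) (nat_lit 0x400400000400801002000100200100400400000c00801002000100a002004)) (.cD (nat_lit 49) (.dfs (nat_lit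 4) (nat_lit 0x1004008010020) (nat_lit 0x100c008010020) (nat_lit 0x1002001) (nat_lit 0x100a001) (nat_lit 0) (nat_lit 0) (nat_lit 2) (nat_lit 0) (nat_lit 0x4008010020001001) (nat_lit 4) (nat_lit 1) (nat_lit 0) (nat_lit 4105) (nat_lit 9) (nat_lit 0x1000004000014) (nat_lit 0x100010) (.cD (nat_lit 4) (.kA false (nat_lit 0xa010020041001008010020040001002)) (.cD (nat_lit 20) (.kA false (nat_lit 0xa010020061001008010020060001002002000003)) .nil))) (.cD (nat_lit 56) (.kS (nat_lit 0) (nat_lit 0xc008010020001004004000002) (nat_lit 0x1038003) (nat_lit 0x8004002005010008004006001) (nat_lit 0x400400000400801002000100200100400400000c00801002000100a002004)) .nil))))))))))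
theorem c614 : (chk [(x301, s613)] [] p614).n x301 s614 = true := by decide +kernel
noncomputable def p615 : Pf := (.ext (nat_lit 0) (nat_lit 0) (nat_lit 0x1044010020009) (nat_lit 0x10008004002007010004002001001002) (nat_lit 0x2003004008) (nat_lit 4099) (nat_lit 4098) (nat_lit 0xc004002001) (.dfs (nat_lit 3) (nat_lit 0x1002003004008) (nat_lit 0x100200300400c) (nat_lit 4097) (nat_lit 4097) (nat_lit 0) (nat_lit 0) (nat_lit 2) (nat_lit 0) (nat_lit 0) (nat_lit 2) (nat_lit 1) (nat_lit 0) (nat_lit 4160) (nat_lit 64) (nat_lit 0x100000200000a00002200002a) (nat_lit 0x40400000404) (.cD (nat_lit 2) (.cut (nat_lit 1)) (.cD (nat_lit 10) (.iso x301 s604 (nat_lit 0) (nat_lit 0x1040020010008004002001) (nat_lit 0x40020010008004002001) [(nat_lit 0x10008004002001001001), (nat_lit 0x10008004002001003001), (nat_lit 0x40020010008004002001005001), (nat_lit 0x10008004002001007001)] (.cut (nat_lit 0))) (.cD (nat_lit 34) (.kS (nat_lit 0) (nat_lit 0x2004008010009001) (nat_lit 4098)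 (nat_lit 0x8004002003) (nat_lit 0x400400000400200801000500100400400000400600801000100200200400801000500a005)) (.cD (nat_lit 42) (.kS (nat_lit 0) (nat_lit 0x2004008010009001) (nat_lit 4138) (nat_lit 0x8004002003) (nat_lit 0x400400000400200801000500100400400000400600801000100200200400801000700a005)) .nil))))))
theorem c615 : (chk [(x301, s604), (x301, s614)] [g7] p615).n x301 s615 = true := by decide +kernel
noncomputable def p616 : Pf := (.lft (nat_lit 0x4101002002a001006012003040010020008001004002001002) (nat_lit 10) (nat_lit 0x1070060050040) (nat_lit 0x40020010008004002001) (.extn (nat_lit 0x6306204004106606704504407a07b05905807f07e05c05d07307205005107607705505406a06b04904806f06e04c04d04304206006104604706506405a05b07907805f05e07c07d05305207007105605707507404a04b06906804f04e06c06d02e02f00d00c02b02a00800901701603403501201303103003e03f01d01c03b03a01801900700602402500200302102000e00f02d02c00b00a02802903703601401503203301101001e01f03d03c01b01a038039027026004005022023001000)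 (nat_lit 0x40020010008004002001) (nat_lit 0x1008020010040) (nat_lit 2) (nat_lit 0) (nat_lit 0) (nat_lit 2) (nat_lit 0) .nil))
theorem c616 : (chk [] [] p616).n x301 s616 = true := by decide +kernel
noncomputable def p617 : Pf := (.ext (nat_lit 0) (nat_lit 0x4006008010002001) (nat_lit 0x1040010020008002) (nat_lit 0x10008004002001002004004000010008002004001001004004000010008006004005002005) (nat_lit 0x4006008010) (nat_lit 0x1004001) (nat_lit 0x1004001) (nat_lit 0x10008004006005014008004002001) (.dfs (nat_lit 1) (nat_lit 0x1002004008010) (nat_lit 0x1002004008014) (nat_lit 4097) (nat_lit 4097) (nat_lit 0) (nat_lit 0) (nat_lit 2) (nat_lit 0) (nat_lit 0x2004008010001001) (nat_lit 1) (nat_lit 1) (nat_lit 0) (nat_lit 1) (nat_lit 0) (nat_lit 1) (nat_lit 0x102010201020102) (.cD (nat_lit 1) (.dfs (nat_lit 4) (nat_lit 0x1004008010020) (nat_lit 0x100c008010020) (nat_lit 0x1002001) (nat_lit 0x100a001) (nat_lit 0) (nat_lit 0) (nat_lit 2) (nat_lit 0) (nat_lit 0x4008010020001001)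 (nat_lit 4) (nat_lit 1) (nat_lit 0) (nat_lit 4105) (nat_lit 9) (nat_lit 0x1000004000014) (nat_lit 0x100010) (.cD (nat_lit 4) (.kS (nat_lit 1) (nat_lit 0x2004008010009001001000001010030040007003) (nat_lit 4127) (nat_lit 0x8004002003) (nat_lit 0x1100103004103f00100200400801400100900100100000200400801000100a004)) (.cD (nat_lit 20) (.kA true (nat_lit 0xc002006010005001010030040001002)) .nil))) (.cD (nat_lit 8) (.kS (nat_lit 0) (nat_lit 0xc008010020001004004000002) (nat_lit 0x1008023) (nat_lit 0x8004002005010008004006001) (nat_lit 0x400400000400801002000100200100400400000c00801002000100a002004)) (.cD (nat_lit 17) (.dfs (nat_lit 4) (nat_lit 0x1004008010020) (nat_lit 0x100c008010020) (nat_lit 0x1002001) (nat_lit 0x100a001) (nat_lit 0) (nat_lit 0) (nat_lit 2) (nat_lit 0) (nat_lit 0x4008010020001001) (nat_lit 4) (nat_lit 1) (nat_lit 0) (nat_lit 4105) (nat_lit 9) (nat_lit 0x1000004000014) (nat_lit 0x100010) (.cD (nat_lit 4) (.kA false (nat_lit 0x2a010020041001008010020040001002))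 (.cD (nat_lit 20) (.kA false (nat_lit 0x2a010020061001008010020060001002002000003)) .nil))) (.cD (nat_lit 24) (.kS (nat_lit 0) (nat_lit 0xc008010020001004004000002) (nat_lit 0x1018023) (nat_lit 0x8004002005010008004006001) (nat_lit 0x400400000400801002000100200100400400000c00801002000100a002004)) (.cD (nat_lit 33) (.dfs (nat_lit 4) (nat_lit 0x1004008010020) (nat_lit 0x100c008010020) (nat_lit 0x1002001) (nat_lit 0x100a001) (nat_lit 0) (nat_lit 0) (nat_lit 2) (nat_lit 0) (nat_lit 0x4008010020001001) (nat_lit 4) (nat_lit 1) (nat_lit 0) (nat_lit 4105) (nat_lit 9) (nat_lit 0x1000004000014) (nat_lit 0x100010) (.cD (nat_lit 4) (.cut (nat_lit 0)) (.cD (nat_lit 20) (.kA true (nat_lit 0xc002006010005001010030040001002)) .nil))) (.cD (nat_lit 40) (.kS (nat_lit 0) (nat_lit 0xc008010020001004004000002) (nat_lit 0x1028023) (nat_lit 0x8004002005010008004006001) (nat_lit 0x400400000400801002000100200100400400000c00801002000100a002004)) (.cD (nat_lit 49) (.dfs (nat_lit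 4) (nat_lit 0x1004008010020) (nat_lit 0x100c008010020) (nat_lit 0x1002001) (nat_lit 0x100a001) (nat_lit 0) (nat_lit 0) (nat_lit 2) (nat_lit 0) (nat_lit 0x4008010020001001) (nat_lit 4) (nat_lit 1) (nat_lit 0) (nat_lit 4105) (nat_lit 9) (nat_lit 0x1000004000014) (nat_lit 0x100010) (.cD (nat_lit 4) (.kA false (nat_lit 0x2a010020041001008010020040001002)) (.cD (nat_lit 20) (.kA false (nat_lit 0x2a010020061001008010020060001002002000003)) .nil))) (.cD (nat_lit 56) (.kS (nat_lit 0) (nat_lit 0xc008010020001004004000002) (nat_lit 0x1038023) (nat_lit 0x8004002005010008004006001) (nat_lit 0x400400000400801002000100200100400400000c00801002000100a002004)) .nil))))))))))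
theorem c617 : (chk [(x301, s616)] [] p617).n x301 s617 = true := by decide +kernel
noncomputable def p618 : Pf := (.lft (nat_lit 0x4101002002a001016002003040010020008001004002001002) (nat_lit 7) (nat_lit 0x1070060050040) (nat_lit 0x40020010008004002001) (.extn (nat_lit 0x6304206004106604706504407a05b07905807f05e07c05d07305207005107605707505406a04b06904806f04e06c04d04306204006104606704506405a07b05907805f07e05c07d05307205007105607705507404a06b04906804f06e04c06d02e00f02d00c02b00a02800901703601403501203301103003e01f03d01c03b01a03801900702600402500202300102000e02f00d02c00b02a00802903701603401503201303101001e03f01d03c01b03a018039027006024005022003021000) (nat_lit 0x40020010008004002001) (nat_lit 0x1008020010040) (nat_lit 2) (nat_lit 0) (nat_lit 0) (nat_lit 7) (nat_lit 0) .nil))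
theorem c618 : (chk [] [] p618).n x301 s618 = true := by decide +kernel
noncomputable def p619 : Pf := (.ext (nat_lit 0) (nat_lit 0x4006008010002001) (nat_lit 0x1040010020008002) (nat_lit 0x10008004002005002004004000010008002004005001004004000010008006004001002005) (nat_lit 0x4006008010) (nat_lit 0x1004001) (nat_lit 0x1004001) (nat_lit 0x10008004006005014008004002001) (.dfs (nat_lit 1) (nat_lit 0x1002004008010) (nat_lit 0x1002004008014) (nat_lit 4097) (nat_lit 4097) (nat_lit 0) (nat_lit 0) (nat_lit 2) (nat_lit 0) (nat_lit 0x2004008010001001) (nat_lit 1) (nat_lit 1) (nat_lit 0) (nat_lit 1) (nat_lit 0) (nat_lit 1) (nat_lit 0x102010201020102) (.cD (nat_lit 1) (.dfs (nat_lit 4) (nat_lit 0x1004008010020) (nat_lit 0x100c008010020) (nat_lit 0x1002001) (nat_lit 0x100a001) (nat_lit 0) (nat_lit 0) (nat_lit 2) (nat_lit 0) (nat_lit 0x4008010020001001) (nat_lit 4) (nat_lit 1) (nat_lit 0) (nat_lit 4105) (nat_lit 9) (nat_lit 0x1000004000014) (nat_lit 0x100010) (.cD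 (nat_lit 4) (.cut (nat_lit 0)) (.cD (nat_lit 20) (.kA true (nat_lit 0xc002006010005001010030040001002)) .nil))) (.cD (nat_lit 8) (.kS (nat_lit 0) (nat_lit 0xc008010020001004004000002) (nat_lit 0x1008003) (nat_lit 0x8004002005010008004006001) (nat_lit 0x400400000400801002000100200100400400000c00801002000100a002004)) (.cD (nat_lit 17) (.dfs (nat_lit 4) (nat_lit 0x1004008010020) (nat_lit 0x100c008010020) (nat_lit 0x1002001) (nat_lit 0x100a001) (nat_lit 0) (nat_lit 0) (nat_lit 2) (nat_lit 0) (nat_lit 0x4008010020001001) (nat_lit 4) (nat_lit 1) (nat_lit 0) (nat_lit 4105) (nat_lit 9) (nat_lit 0x1000004000014) (nat_lit 0x100010) (.cD (nat_lit 4) (.kA false (nat_lit 0x2a010020041001008010020040001002)) (.cD (nat_lit 20) (.kA false (nat_lit 0x2a010020061001008010020060001002002000003)) .nil))) (.cD (nat_lit 24) (.kS (nat_lit 0) (nat_lit 0xc008010020001004004000002) (nat_lit 0x1018003) (nat_lit 0x8004002005010008004006001) (nat_lit 0x400400000400801002000100200100400400000c00801002000100a002004))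 (.cD (nat_lit 33) (.dfs (nat_lit 4) (nat_lit 0x1004008010020) (nat_lit 0x100c008010020) (nat_lit 0x1002001) (nat_lit 0x100a001) (nat_lit 0) (nat_lit 0) (nat_lit 2) (nat_lit 0) (nat_lit 0x4008010020001001) (nat_lit 4) (nat_lit 1) (nat_lit 0) (nat_lit 4105) (nat_lit 9) (nat_lit 0x1000004000014) (nat_lit 0x100010) (.cD (nat_lit 4) (.kS (nat_lit 1) (nat_lit 0x2004008010009001001000001010030040007003) (nat_lit 4127) (nat_lit 0x8004002003) (nat_lit 0x1100103004103f00100200400801400100900100100000200400801000100a004)) (.cD (nat_lit 20) (.kA true (nat_lit 0xc002006010005001010030040001002)) .nil))) (.cD (nat_lit 40) (.kS (nat_lit 0) (nat_lit 0xc008010020001004004000002) (nat_lit 0x1028003) (nat_lit 0x8004002005010008004006001) (nat_lit 0x400400000400801002000100200100400400000c00801002000100a002004)) (.cD (nat_lit 49) (.dfs (nat_lit 4) (nat_lit 0x1004008010020) (nat_lit 0x100c008010020) (nat_lit 0x1002001) (nat_lit 0x100a001) (nat_lit 0) (nat_lit 0) (nat_lit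 2) (nat_lit 0) (nat_lit 0x4008010020001001) (nat_lit 4) (nat_lit 1) (nat_lit 0) (nat_lit 4105) (nat_lit 9) (nat_lit 0x1000004000014) (nat_lit 0x100010) (.cD (nat_lit 4) (.kA false (nat_lit 0x2a010020041001008010020040001002)) (.cD (nat_lit 20) (.kA false (nat_lit 0x2a010020061001008010020060001002002000003)) .nil))) (.cD (nat_lit 56) (.kS (nat_lit 0) (nat_lit 0xc008010020001004004000002) (nat_lit 0x1038003) (nat_lit 0x8004002005010008004006001) (nat_lit 0x400400000400801002000100200100400400000c00801002000100a002004)) .nil))))))))))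
theorem c619 : (chk [(x301, s618)] [] p619).n x301 s619 = true := by decide +kernel
noncomputable def p620 : Pf := (.ext (nat_lit 0) (nat_lit 0) (nat_lit 0x1044010020019) (nat_lit 0x10008004002007010004002005001002) (nat_lit 0x2003004008) (nat_lit 4099) (nat_lit 4098) (nat_lit 0xc004002001) (.dfs (nat_lit 3) (nat_lit 0x1002003004008) (nat_lit 0x100200300400c) (nat_lit 4097) (nat_lit 4097) (nat_lit 0) (nat_lit 0) (nat_lit 2) (nat_lit 0) (nat_lit 0) (nat_lit 2) (nat_lit 1) (nat_lit 0) (nat_lit 4160) (nat_lit 64) (nat_lit 0x100000200000a00002200002a) (nat_lit 0x40400000404) (.cD (nat_lit 2) (.cut (nat_lit 1)) (.cD (nat_lit 10) (.iso x301 s617 (nat_lit 0) (nat_lit 0x1040020010008004002001) (nat_lit 0x40020010008004002001) [(nat_lit 0x10008004002001001001), (nat_lit 0x10008004002001003001), (nat_lit 0x40020010008004002001005001), (nat_lit 0x10008004002001007001)] (.cut (nat_lit 0))) (.cD (nat_lit 34) (.kS (nat_lit 0) (nat_lit 0x2004008010009001) (nat_lit 4098)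 (nat_lit 0x8004002003) (nat_lit 0x400400000400200801000500100400400000400600801000100200200400801000500a005)) (.cD (nat_lit 42) (.kS (nat_lit 0) (nat_lit 0x2004008010009001) (nat_lit 4138) (nat_lit 0x8004002003) (nat_lit 0x400400000400200801000500100400400000400600801000100200200400801000700a005)) .nil))))))
theorem c620 : (chk [(x301, s617), (x301, s619)] [g7] p620).n x301 s620 = true := by decide +kernel
noncomputable def p621 : Pf := (.anc (nat_lit 68) (nat_lit 0x10006002002000002) (nat_lit 0x1009020010004) (.dfs (nat_lit 4) (nat_lit 4097) (nat_lit 4097) (nat_lit 1) (nat_lit 1) (nat_lit 0) (nat_lit 0) (nat_lit 3) (nat_lit 0) (nat_lit 0) (nat_lit 0) (nat_lit 1) (nat_lit 0) (nat_lit 0x1008004) (nat_lit 32772) (nat_lit 0x1001004000008001014000018) (nat_lit 0x1000101110110) (.cD (nat_lit 4) (.dfs (nat_lit 16) (nat_lit 4098) (nat_lit 4098) (nat_lit 4097) (nat_lit 4097) (nat_lit 0) (nat_lit 0) (nat_lit 3) (nat_lit 0) (nat_lit 0) (nat_lit 0) (nat_lit 1) (nat_lit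 0) (nat_lit 1) (nat_lit 0) (nat_lit 1) (nat_lit 0x11001100110010) (.cD (nat_lit 4) (.kc (nat_lit 20) (nat_lit 0x3001001)) (.cD (nat_lit 16) (.dfs (nat_lit 32) (nat_lit 4100) (nat_lit 4100) (nat_lit 0x1002001) (nat_lit 0x1002001) (nat_lit 0) (nat_lit 0) (nat_lit 3) (nat_lit 0) (nat_lit 0) (nat_lit 0) (nat_lit 1) (nat_lit 0) (nat_lit 1) (nat_lit 0) (nat_lit 1) (nat_lit 0x11001100110010) (.cD (nat_lit 4) (.kc (nat_lit 36) (nat_lit 0x5001001)) (.cD (nat_lit 16) (.kc (nat_lit 48) (nat_lit 0x3001001)) (.cD (nat_lit 20) (.kc (nat_lit 52) (nat_lit 0x7001001)) (.cD (nat_lit 32) (.dfs (nat_lit 9) (nat_lit 0x1004001003008) (nat_lit 0x1005001003008) (nat_lit 4098) (nat_lit 4098) (nat_lit 0) (nat_lit 0) (nat_lit 2) (nat_lit 1) (nat_lit 0) (nat_lit 8) (nat_lit 1) (nat_lit 0) (nat_lit 4100) (nat_lit 4) (nat_lit 0x1000008000018) (nat_lit 0x1000100) (.cD (nat_lit 8) (.iso x301 s620 (nat_lit 0) (nat_lit 0x1040020010008004012011) (nat_lit 0x40020010008004012011) [(nat_lit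 0x10008004002005001001), (nat_lit 0x40020010008024022001003001), (nat_lit 0x10008004002001005001), (nat_lit 0x10008004002009009001)] (.cut (nat_lit 1))) (.cD (nat_lit 24) (.iso x301 s615 (nat_lit 0) (nat_lit 0x1040020010008004012011) (nat_lit 0x40020010008004012011) [(nat_lit 0x10008004002005001001), (nat_lit 0x40020010008024022001003001), (nat_lit 0x10008004002001005001), (nat_lit 0x10008004002009009001)] (.cut (nat_lit 0))) .nil))) (.cD (nat_lit 36) (.kA true (nat_lit 0x100100000400100300d001001001000003)) (.cD (nat_lit 48) (.kA true (nat_lit 0x600800401000800400100300d001001001000003)) (.cD (nat_lit 52) (.kA true (nat_lit 0x800a00601e00700500100300e001002002000003)) .nil)))))))) (.cD (nat_lit 20) (.dfs (nat_lit 32) (nat_lit 4100) (nat_lit 4100) (nat_lit 0x1002001) (nat_lit 0x1002001) (nat_lit 0) (nat_lit 0) (nat_lit 3) (nat_lit 0) (nat_lit 0) (nat_lit 0) (nat_lit 1) (nat_lit 0) (nat_lit 1) (nat_lit 0) (nat_lit 1) (nat_lit 0x11001100110010) (.cD (nat_lit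 4) (.kc (nat_lit 36) (nat_lit 0x5001001)) (.cD (nat_lit 16) (.kc (nat_lit 52) (nat_lit 0x7001001)) (.cD (nat_lit 20) (.kc (nat_lit 48) (nat_lit 0x3001001)) (.cD (nat_lit 32) (.kA true (nat_lit 0x200200000500100300e001002002000003)) (.cD (nat_lit 36) (.dfs (nat_lit 9) (nat_lit 4102) (nat_lit 4103) (nat_lit 1) (nat_lit 1) (nat_lit 0) (nat_lit 0) (nat_lit 1) (nat_lit 4112) (nat_lit 0x40020010008004002001) (nat_lit 0) (nat_lit 1) (nat_lit 0) (nat_lit 1) (nat_lit 0) (nat_lit 1) (nat_lit 0) .nil) (.cD (nat_lit 48) (.kA true (nat_lit 0x400300500800100400100300c001002)) (.cD (nat_lit 52) (.kA true (nat_lit 0x400700100800100400100300c001002)) .nil)))))))) (.cD (nat_lit 32) (.kF (nat_lit 16) (nat_lit 0x100400100c012008002002000003)) (.cD (nat_lit 36) (.kF (nat_lit 16) (nat_lit 0x100400100c012008002002000003)) (.cD (nat_lit 48) (.dfs (nat_lit 32) (nat_lit 4100) (nat_lit 4100) (nat_lit 0x1002001) (nat_lit 0x1002001) (nat_lit 0) (nat_lit 0) (nat_lit 3) (nat_lit 0)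 (nat_lit 0) (nat_lit 0) (nat_lit 1) (nat_lit 0) (nat_lit 1) (nat_lit 0) (nat_lit 1) (nat_lit 0x11001100110010) (.cD (nat_lit 4) (.kc (nat_lit 36) (nat_lit 0x5001001)) (.cD (nat_lit 16) (.kA true (nat_lit 0x400200100800100400100300c001002)) (.cD (nat_lit 20) (.kA true (nat_lit 0x400600500800100400100300c001002)) (.cD (nat_lit 32) (.kA true (nat_lit 0x200400c01000800500100300e001002002000003)) (.cD (nat_lit 36) (.kA true (nat_lit 0x400500600800100400100300c001002)) (.cD (nat_lit 48) (.kc (nat_lit 48) (nat_lit 0x3001001)) (.cD (nat_lit 52) (.kc (nat_lit 52) (nat_lit 0x7001001)) .nil)))))))) (.cD (nat_lit 52) (.dfs (nat_lit 32) (nat_lit 4100) (nat_lit 4100) (nat_lit 0x1002001) (nat_lit 0x1002001) (nat_lit 0) (nat_lit 0) (nat_lit 3) (nat_lit 0) (nat_lit 0) (nat_lit 0) (nat_lit 1) (nat_lit 0) (nat_lit 1) (nat_lit 0) (nat_lit 1) (nat_lit 0x11001100110010) (.cD (nat_lit 4) (.kc (nat_lit 36) (nat_lit 0x5001001)) (.cD (nat_lit 16) (.kA true (nat_lit 0x400200500800100400100300c001002))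 (.cD (nat_lit 20) (.kA true (nat_lit 0x400600100800100400100300c001002)) (.cD (nat_lit 32) (.kA true (nat_lit 0x4001003008001002004008012008002002000003)) (.cD (nat_lit 36) (.kA true (nat_lit 0x400500200800100400100300c001002)) (.cD (nat_lit 48) (.kc (nat_lit 52) (nat_lit 0x7001001)) (.cD (nat_lit 52) (.kc (nat_lit 48) (nat_lit 0x3001001)) .nil)))))))) .nil)))))))) (.cD (nat_lit 8) (.dfs (nat_lit 16) (nat_lit 4098) (nat_lit 4098) (nat_lit 4097) (nat_lit 4097) (nat_lit 0) (nat_lit 0) (nat_lit 3) (nat_lit 0) (nat_lit 0) (nat_lit 0) (nat_lit 1) (nat_lit 0) (nat_lit 1) (nat_lit 0) (nat_lit 1) (nat_lit 0x101010101010100) (.cD (nat_lit 8) (.kc (nat_lit 20) (nat_lit 0x3001001)) (.cD (nat_lit 16) (.dfs (nat_lit 32) (nat_lit 4100) (nat_lit 4100) (nat_lit 0x1002001) (nat_lit 0x1002001) (nat_lit 0) (nat_lit 0) (nat_lit 3) (nat_lit 0) (nat_lit 0) (nat_lit 0) (nat_lit 1) (nat_lit 0) (nat_lit 1) (nat_lit 0) (nat_lit 1) (nat_lit 0x101010101010100) (.cD (nat_lit 8) (.kc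 (nat_lit 36) (nat_lit 0x5001001)) (.cD (nat_lit 16) (.kc (nat_lit 48) (nat_lit 0x3001001)) (.cD (nat_lit 24) (.kc (nat_lit 52) (nat_lit 0x7001001)) (.cD (nat_lit 32) (.kA false (nat_lit 0x400100200c002008010020050003001001000003)) (.cD (nat_lit 40) (.kA false (nat_lit 0x100100000400500200d002001001000003)) (.cD (nat_lit 48) (.kA false (nat_lit 0x600800c01000800400300200b002001001000003)) (.cD (nat_lit 56) (.kA false (nat_lit 0x400700200c002008010020050003001001000003)) .nil)))))))) (.cD (nat_lit 24) (.dfs (nat_lit 32) (nat_lit 4100) (nat_lit 4100) (nat_lit 0x1002001) (nat_lit 0x1002001) (nat_lit 0) (nat_lit 0) (nat_lit 3) (nat_lit 0) (nat_lit 0) (nat_lit 0) (nat_lit 1) (nat_lit 0) (nat_lit 1) (nat_lit 0) (nat_lit 1) (nat_lit 0x101010101010100) (.cD (nat_lit 8) (.kc (nat_lit 36) (nat_lit 0x5001001)) (.cD (nat_lit 16) (.kc (nat_lit 52) (nat_lit 0x7001001)) (.cD (nat_lit 24) (.kc (nat_lit 48) (nat_lit 0x3001001)) (.cD (nat_lit 32) (.kA false (nat_lit 0x400100600c002008010020050003001001000003))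 (.cD (nat_lit 40) (.kA false (nat_lit 0x100100000400500600d002001001000003)) (.cD (nat_lit 48) (.kA false (nat_lit 0x400700600c002008010020050003001001000003)) (.cD (nat_lit 56) (.kA false (nat_lit 0x600800a01000800400300600b002001001000003)) .nil)))))))) (.cD (nat_lit 32) (.kF (nat_lit 16) (nat_lit 0x100400100c012008002002000003)) (.cD (nat_lit 40) (.kF (nat_lit 16) (nat_lit 0x100400100c012008002002000003)) (.cD (nat_lit 48) (.dfs (nat_lit 32) (nat_lit 4100) (nat_lit 4100) (nat_lit 0x1002001) (nat_lit 0x1002001) (nat_lit 0) (nat_lit 0) (nat_lit 3) (nat_lit 0) (nat_lit 0) (nat_lit 0) (nat_lit 1) (nat_lit 0) (nat_lit 1) (nat_lit 0) (nat_lit 1) (nat_lit 0x101010101010100) (.cD (nat_lit 8) (.kc (nat_lit 36) (nat_lit 0x5001001)) (.cD (nat_lit 16) (.kA false (nat_lit 0x600800401000800400300100b002001001000003)) (.cD (nat_lit 24) (.kA false (nat_lit 0x400700500c002008010020050003001001000003)) (.cD (nat_lit 32) (.kA false (nat_lit 0x400100300c002008010020050003001001000003))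 (.cD (nat_lit 40) (.kA false (nat_lit 0x100100000400500700d002001001000003)) (.cD (nat_lit 48) (.kc (nat_lit 48) (nat_lit 0x3001001)) (.cD (nat_lit 56) (.kc (nat_lit 52) (nat_lit 0x7001001)) .nil)))))))) (.cD (nat_lit 56) (.dfs (nat_lit 32) (nat_lit 4100) (nat_lit 4100) (nat_lit 0x1002001) (nat_lit 0x1002001) (nat_lit 0) (nat_lit 0) (nat_lit 3) (nat_lit 0) (nat_lit 0) (nat_lit 0) (nat_lit 1) (nat_lit 0) (nat_lit 1) (nat_lit 0) (nat_lit 1) (nat_lit 0x101010101010100) (.cD (nat_lit 8) (.kc (nat_lit 36) (nat_lit 0x5001001)) (.cD (nat_lit 16) (.kA false (nat_lit 0x400700100c002008010020050003001001000003)) (.cD (nat_lit 24) (.kA false (nat_lit 0x600800201000800400300500b002001001000003)) (.cD (nat_lit 32) (.kA false (nat_lit 0x400100700c002008010020050003001001000003)) (.cD (nat_lit 40) (.kA false (nat_lit 0x100100000400500300d002001001000003)) (.cD (nat_lit 48) (.kc (nat_lit 52) (nat_lit 0x7001001)) (.cD (nat_lit 56) (.kc (nat_lit 48) (nat_lit 0x3001001))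 .nil)))))))) .nil)))))))) (.cD (nat_lit 16) (.kF (nat_lit 4) (nat_lit 0x2002000001003001002)) (.cD (nat_lit 20) (.kF (nat_lit 4) (nat_lit 0xe01e007001003001002)) (.cD (nat_lit 24) (.kF (nat_lit 4) (nat_lit 0x1002001002012008002002000003)) (.cD (nat_lit 32) (.dfs (nat_lit 16) (nat_lit 4098) (nat_lit 4098) (nat_lit 4097) (nat_lit 4097) (nat_lit 0) (nat_lit 0) (nat_lit 3) (nat_lit 0) (nat_lit 0) (nat_lit 0) (nat_lit 1) (nat_lit 0) (nat_lit 0x1008004) (nat_lit 32772) (nat_lit 0x1001004000008001014000018) (nat_lit 0x1000101110110) (.cD (nat_lit 4) (.kF (nat_lit 16) (nat_lit 0x1001000001006001002)) (.cD (nat_lit 8) (.kF (nat_lit 16) (nat_lit 0x1001000001006001002)) (.cD (nat_lit 16) (.dfs (nat_lit 32) (nat_lit 4100) (nat_lit 4100) (nat_lit 0x1002001) (nat_lit 0x1002001) (nat_lit 0) (nat_lit 0) (nat_lit 3) (nat_lit 0) (nat_lit 0) (nat_lit 0) (nat_lit 1) (nat_lit 0) (nat_lit 0x1008004) (nat_lit 32772) (nat_lit 0x1001004000008001014000018) (nat_lit 0x1000101110110)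 (.cD (nat_lit 4) (.kA true (nat_lit 0x100400600c002001001000002)) (.cD (nat_lit 8) (.kA false (nat_lit 0x100400200c002001001000002)) (.cD (nat_lit 16) (.kc (nat_lit 48) (nat_lit 0x3001001)) (.cD (nat_lit 20) (.kA true (nat_lit 0x300400600c002001001000002)) (.cD (nat_lit 24) (.kA false (nat_lit 0x300400200c002001001000002)) (.cD (nat_lit 32) (.kc (nat_lit 36) (nat_lit 0x5001001)) (.cD (nat_lit 48) (.kc (nat_lit 52) (nat_lit 0x7001001)) .nil)))))))) (.cD (nat_lit 20) (.dfs (nat_lit 32) (nat_lit 4100) (nat_lit 4100) (nat_lit 0x1002001) (nat_lit 0x1002001) (nat_lit 0) (nat_lit 0) (nat_lit 3) (nat_lit 0) (nat_lit 0) (nat_lit 0) (nat_lit 1) (nat_lit 0) (nat_lit 1) (nat_lit 0) (nat_lit 1) (nat_lit 0x11001100110010) (.cD (nat_lit 4) (.kA true (nat_lit 0x100400700c002001001000002)) (.cD (nat_lit 16) (.kA true (nat_lit 0x300400500c002001001000002)) (.cD (nat_lit 20) (.kc (nat_lit 48) (nat_lit 0x3001001)) (.cD (nat_lit 32) (.kc (nat_lit 36) (nat_lit 0x5001001))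 (.cD (nat_lit 36) (.dfs (nat_lit 9) (nat_lit 4100) (nat_lit 4101) (nat_lit 1) (nat_lit 1) (nat_lit 0) (nat_lit 0) (nat_lit 1) (nat_lit 4128) (nat_lit 0x40020010008004002001) (nat_lit 0) (nat_lit 1) (nat_lit 0) (nat_lit 1) (nat_lit 0) (nat_lit 1) (nat_lit 0) .nil) (.cD (nat_lit 48) (.kA true (nat_lit 0x700400100c002001001000002)) (.cD (nat_lit 52) (.kc (nat_lit 52) (nat_lit 0x7001001)) .nil)))))))) (.cD (nat_lit 24) (.dfs (nat_lit 32) (nat_lit 4100) (nat_lit 4100) (nat_lit 0x1002001) (nat_lit 0x1002001) (nat_lit 0) (nat_lit 0) (nat_lit 3) (nat_lit 0) (nat_lit 0) (nat_lit 0) (nat_lit 1) (nat_lit 0) (nat_lit 1) (nat_lit 0) (nat_lit 1) (nat_lit 0x101010101010100) (.cD (nat_lit 8) (.kA false (nat_lit 0x100400300c002001001000002)) (.cD (nat_lit 16) (.kA false (nat_lit 0x300400100c002001001000002)) (.cD (nat_lit 24) (.kc (nat_lit 48) (nat_lit 0x3001001)) (.cD (nat_lit 32) (.kc (nat_lit 36) (nat_lit 0x5001001)) (.cD (nat_lit 40) (.kA false (nat_lit 0x500400700c002001001000002))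 (.cD (nat_lit 48) (.kA false (nat_lit 0x700400500c002001001000002)) (.cD (nat_lit 56) (.kc (nat_lit 52) (nat_lit 0x7001001)) .nil)))))))) (.cD (nat_lit 32) (.kc (nat_lit 20) (nat_lit 0x3001001)) (.cD (nat_lit 48) (.dfs (nat_lit 32) (nat_lit 4100) (nat_lit 4100) (nat_lit 0x1002001) (nat_lit 0x1002001) (nat_lit 0) (nat_lit 0) (nat_lit 3) (nat_lit 0) (nat_lit 0) (nat_lit 0) (nat_lit 1) (nat_lit 0) (nat_lit 0x1008004) (nat_lit 32772) (nat_lit 0x1001004000008001014000018) (nat_lit 0x1000101110110) (.cD (nat_lit 4) (.kA true (nat_lit 0x100400200c002001001000002)) (.cD (nat_lit 8) (.kA false (nat_lit 0x100400600c002001001000002)) (.cD (nat_lit 16) (.kc (nat_lit 52) (nat_lit 0x7001001)) (.cD (nat_lit 20) (.kA true (nat_lit 0x700400200c002001001000002)) (.cD (nat_lit 24) (.kA false (nat_lit 0x700400600c002001001000002)) (.cD (nat_lit 32) (.kc (nat_lit 36) (nat_lit 0x5001001)) (.cD (nat_lit 48) (.kc (nat_lit 48) (nat_lit 0x3001001)) .nil)))))))) .nil)))))))) (.cD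 (nat_lit 48) (.kF (nat_lit 4) (nat_lit 0x1002001002012008002002000003)) .nil)))))))))
theorem c621 : (chk [(x301, s615), (x301, s620)] [g7] p621).n x301 s621 = true := by decide +kernel
noncomputable def p622 : Pf := (.ext (nat_lit 0) (nat_lit 0) (nat_lit 0x1040010020008002) (nat_lit 0x16008004002001006001001000010008004002001005003) (nat_lit 0x2004008016) (nat_lit 0x1004001) (nat_lit 0x1005001) (nat_lit 0x10008004006005014008004002001) (.dfs (nat_lit 1) (nat_lit 0x1002004008016) (nat_lit 0x1002004008012) (nat_lit 0x1010001) (nat_lit 0x1014001) (nat_lit 0) (nat_lit 0) (nat_lit 2) (nat_lit 0) (nat_lit 0) (nat_lit 1) (nat_lit 1) (nat_lit 0) (nat_lit 1) (nat_lit 0) (nat_lit 1) (nat_lit 0x202020202020202) (.cD (nat_lit 1) (.dfs (nat_lit 4) (nat_lit 0x100400801002c) (nat_lit 0x100c008010024) (nat_lit 0x1020002001) (nat_lit 0x102000a001) (nat_lit 0) (nat_lit 0) (nat_lit 2) (nat_lit 0) (nat_lit 0) (nat_lit 5) (nat_lit 1) (nat_lit 0) (nat_lit 4104) (nat_lit 8)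 (nat_lit 0x1000005000015) (nat_lit 0x200020) (.cD (nat_lit 5) (.kA true (nat_lit 0xe004008010003001010030050001001001000003)) (.cD (nat_lit 21) (.kS (nat_lit 1) (nat_lit 0x10001030070001006004008018003002002000001010030040001004) (nat_lit 4110) (nat_lit 0x8004002003) (nat_lit 0x200200000400600801000d00402301003005800e00100200200000600400801800100401000103007003f002006)) .nil))) (.cD (nat_lit 9) (.kS (nat_lit 0) (nat_lit 0x4004000004008010020001002) (nat_lit 0x1029022) (nat_lit 0x8004002005010008004006001) (nat_lit 0xc00801002800100a001005005000004008010020001002002004004000004)) (.cD (nat_lit 17) (.dfs (nat_lit 4) (nat_lit 0x100400801002c) (nat_lit 0x100c008010024) (nat_lit 0x1020002001) (nat_lit 0x102000a001) (nat_lit 0) (nat_lit 0) (nat_lit 2) (nat_lit 0) (nat_lit 0) (nat_lit 5) (nat_lit 1) (nat_lit 0) (nat_lit 4104) (nat_lit 8) (nat_lit 0x1000005000015) (nat_lit 0x200020) (.cD (nat_lit 5) (.kA true (nat_lit 0x3010030058001001010030040001002)) (.cD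 (nat_lit 21) (.kA true (nat_lit 0x23010030058001001010030040001002)) .nil))) (.cD (nat_lit 25) (.kS (nat_lit 0) (nat_lit 0x4004000004008010020001002) (nat_lit 0x1039022) (nat_lit 0x8004002005010008004006001) (nat_lit 0xc00801002800100a001005005000004008010020001002002004004000004)) (.cD (nat_lit 33) (.dfs (nat_lit 4) (nat_lit 0x100400801002c) (nat_lit 0x100c008010024) (nat_lit 0x1020002001) (nat_lit 0x102000a001) (nat_lit 0) (nat_lit 0) (nat_lit 2) (nat_lit 0) (nat_lit 0) (nat_lit 5) (nat_lit 1) (nat_lit 0) (nat_lit 4104) (nat_lit 8) (nat_lit 0x1000005000015) (nat_lit 0x200020) (.cD (nat_lit 5) (.kA true (nat_lit 0xe004008010003001010030050001001001000003)) (.cD (nat_lit 21) (.cut (nat_lit 0)) .nil))) (.cD (nat_lit 41) (.kS (nat_lit 0) (nat_lit 0x4004000004008010020001002) (nat_lit 0x1009022) (nat_lit 0x8004002005010008004006001) (nat_lit 0xc00801002800100a001005005000004008010020001002002004004000004)) (.cD (nat_lit 49) (.dfs (nat_lit 4) (nat_lit 0x100400801002c)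 (nat_lit 0x100c008010024) (nat_lit 0x1020002001) (nat_lit 0x102000a001) (nat_lit 0) (nat_lit 0) (nat_lit 2) (nat_lit 0) (nat_lit 0) (nat_lit 5) (nat_lit 1) (nat_lit 0) (nat_lit 4104) (nat_lit 8) (nat_lit 0x1000005000015) (nat_lit 0x200020) (.cD (nat_lit 5) (.kA true (nat_lit 0x3010030058001001010030040001002)) (.cD (nat_lit 21) (.kA true (nat_lit 0x23010030058001001010030040001002)) .nil))) (.cD (nat_lit 57) (.kS (nat_lit 0) (nat_lit 0x4004000004008010020001002) (nat_lit 0x1019022) (nat_lit 0x8004002005010008004006001) (nat_lit 0xc00801002800100a001005005000004008010020001002002004004000004)) .nil))))))))))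
theorem c622 : (chk [(x301, s621)] [] p622).n x301 s622 = true := by decide +kernel
noncomputable def p623 : Pf := (.ext (nat_lit 0) (nat_lit 0x4006008010002001) (nat_lit 0x1040010020008002) (nat_lit 0x10008004002005002004004000010008002004005001004004000010008006004001002005) (nat_lit 0x4006008010) (nat_lit 0x1004001) (nat_lit 0x1004001) (nat_lit 0x10008004006005014008004002001) (.dfs (nat_lit 1) (nat_lit 0x1002004008010) (nat_lit 0x1002004008014) (nat_lit 4097) (nat_lit 4097) (nat_lit 0) (nat_lit 0) (nat_lit 2) (nat_lit 0) (nat_lit 0x2004008010001001) (nat_lit 1) (nat_lit 1) (nat_lit 0) (nat_lit 1) (nat_lit 0) (nat_lit 1) (nat_lit 0x102010201020102) (.cD (nat_lit 1) (.dfs (nat_lit 4) (nat_lit 0x1004008010020) (nat_lit 0x100c008010020) (nat_lit 0x1002001) (nat_lit 0x100a001) (nat_lit 0) (nat_lit 0) (nat_lit 2) (nat_lit 0) (nat_lit 0x4008010020001001) (nat_lit 4) (nat_lit 1) (nat_lit 0) (nat_lit 4105) (nat_lit 9) (nat_lit 0x1000004000014) (nat_lit 0x100010)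 (.cD (nat_lit 4) (.kS (nat_lit 1) (nat_lit 0x2004008012009003010030058001001010030040007003) (nat_lit 4155) (nat_lit 0x8004002003) (nat_lit 0x100100000200400801400100900301003005800e00200200400801200500a004)) (.cD (nat_lit 20) (.kA true (nat_lit 0xc002006010005001010030040001002)) .nil))) (.cD (nat_lit 8) (.kS (nat_lit 0) (nat_lit 0xc008010020001004004000002) (nat_lit 0x1008003) (nat_lit 0x8004002005010008004006001) (nat_lit 0x400400000400801002000100200100400400000c00801002000100a002004)) (.cD (nat_lit 17) (.dfs (nat_lit 4) (nat_lit 0x1004008010020) (nat_lit 0x100c008010020) (nat_lit 0x1002001) (nat_lit 0x100a001) (nat_lit 0) (nat_lit 0) (nat_lit 2) (nat_lit 0) (nat_lit 0x4008010020001001) (nat_lit 4) (nat_lit 1) (nat_lit 0) (nat_lit 4105) (nat_lit 9) (nat_lit 0x1000004000014) (nat_lit 0x100010) (.cD (nat_lit 4) (.kA false (nat_lit 0xa010020041001008010020040001002)) (.cD (nat_lit 20) (.kA false (nat_lit 0xa010020061001008010020060001002002000003)) .nil)))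 (.cD (nat_lit 24) (.kS (nat_lit 0) (nat_lit 0xc008010020001004004000002) (nat_lit 0x1018003) (nat_lit 0x8004002005010008004006001) (nat_lit 0x400400000400801002000100200100400400000c00801002000100a002004)) (.cD (nat_lit 33) (.dfs (nat_lit 4) (nat_lit 0x1004008010020) (nat_lit 0x100c008010020) (nat_lit 0x1002001) (nat_lit 0x100a001) (nat_lit 0) (nat_lit 0) (nat_lit 2) (nat_lit 0) (nat_lit 0x4008010020001001) (nat_lit 4) (nat_lit 1) (nat_lit 0) (nat_lit 4105) (nat_lit 9) (nat_lit 0x1000004000014) (nat_lit 0x100010) (.cD (nat_lit 4) (.kS (nat_lit 1) (nat_lit 0x600400801e00c001) (nat_lit 4106) (nat_lit 0x8004002007) (nat_lit 0x1101003006000c00100200200000600400801e00100b003)) (.cD (nat_lit 20) (.kA true (nat_lit 0xc002006010005001010030040001002)) .nil))) (.cD (nat_lit 40) (.kS (nat_lit 0) (nat_lit 0xc008010020001004004000002) (nat_lit 0x1028003) (nat_lit 0x8004002005010008004006001) (nat_lit 0x400400000400801002000100200100400400000c00801002000100a002004))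 (.cD (nat_lit 49) (.dfs (nat_lit 4) (nat_lit 0x1004008010020) (nat_lit 0x100c008010020) (nat_lit 0x1002001) (nat_lit 0x100a001) (nat_lit 0) (nat_lit 0) (nat_lit 2) (nat_lit 0) (nat_lit 0x4008010020001001) (nat_lit 4) (nat_lit 1) (nat_lit 0) (nat_lit 4105) (nat_lit 9) (nat_lit 0x1000004000014) (nat_lit 0x100010) (.cD (nat_lit 4) (.kA false (nat_lit 0xa010020041001008010020040001002)) (.cD (nat_lit 20) (.kA false (nat_lit 0xa010020061001008010020060001002002000003)) .nil))) (.cD (nat_lit 56) (.kS (nat_lit 0) (nat_lit 0xc008010020001004004000002) (nat_lit 0x1038003) (nat_lit 0x8004002005010008004006001) (nat_lit 0x400400000400801002000100200100400400000c00801002000100a002004)) .nil))))))))))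
theorem c623 : (chk [] [] p623).n x301 s623 = true := by decide +kernel
noncomputable def p624 : Pf := (.ext (nat_lit 0) (nat_lit 0) (nat_lit 0x1044010020009) (nat_lit 0x10008004002009010004002001001002) (nat_lit 0x2003004008) (nat_lit 4099) (nat_lit 4098) (nat_lit 0xc004002001) (.dfs (nat_lit 3) (nat_lit 0x1002003004008) (nat_lit 0x100200300400c) (nat_lit 4097) (nat_lit 4097) (nat_lit 0) (nat_lit 0) (nat_lit 2) (nat_lit 0) (nat_lit 0) (nat_lit 2) (nat_lit 1) (nat_lit 0) (nat_lit 4160) (nat_lit 64) (nat_lit 0x100000200000a00002200002a) (nat_lit 0x40400000404) (.cD (nat_lit 2) (.cut (nat_lit 1)) (.cD (nat_lit 10) (.cut (nat_lit 0)) (.cD (nat_lit 34) (.kS (nat_lit 0) (nat_lit 0x200400801000b001) (nat_lit 4098) (nat_lit 0x8004002003) (nat_lit 0x400400000400200801000500100400400000400600801000100200200400801000500c005)) (.cD (nat_lit 42) (.kS (nat_lit 0) (nat_lit 0x200400801000b001) (nat_lit 4138) (nat_lit 0x8004002003) (nat_lit 0x400400000400200801000500100400400000400600801000100200200400801000700c005))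 .nil))))))
theorem c624 : (chk [(x301, s604), (x301, s623)] [] p624).n x301 s624 = true := by decide +kernel
noncomputable def p625 : Pf := (.ext (nat_lit 0) (nat_lit 0x4006008010002001) (nat_lit 0x1040010020008002) (nat_lit 0x10008004002005002004004000010008002004005001004004000010008006004001002005) (nat_lit 0x4006008010) (nat_lit 0x1004001) (nat_lit 0x1004001) (nat_lit 0x10008004006005014008004002001) (.dfs (nat_lit 1) (nat_lit 0x1002004008010) (nat_lit 0x1002004008014) (nat_lit 4097) (nat_lit 4097) (nat_lit 0) (nat_lit 0) (nat_lit 2) (nat_lit 0) (nat_lit 0x2004008010001001) (nat_lit 1) (nat_lit 1) (nat_lit 0) (nat_lit 1) (nat_lit 0) (nat_lit 1) (nat_lit 0x102010201020102) (.cD (nat_lit 1) (.dfs (nat_lit 4) (nat_lit 0x1004008010020) (nat_lit 0x100c008010020) (nat_lit 0x1002001) (nat_lit 0x100a001) (nat_lit 0) (nat_lit 0) (nat_lit 2) (nat_lit 0) (nat_lit 0x4008010020001001) (nat_lit 4) (nat_lit 1) (nat_lit 0) (nat_lit 4105) (nat_lit 9) (nat_lit 0x1000004000014)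 (nat_lit 0x100010) (.cD (nat_lit 4) (.kS (nat_lit 1) (nat_lit 0x600400801e00c001) (nat_lit 4106) (nat_lit 0x8004002007) (nat_lit 0x1101003006000c00100200200000600400801e00100b003)) (.cD (nat_lit 20) (.kA true (nat_lit 0xc002006010005001010030040001002)) .nil))) (.cD (nat_lit 8) (.kS (nat_lit 0) (nat_lit 0xc008010020001004004000002) (nat_lit 0x1008003) (nat_lit 0x8004002005010008004006001) (nat_lit 0x400400000400801002000100200100400400000c00801002000100a002004)) (.cD (nat_lit 17) (.dfs (nat_lit 4) (nat_lit 0x1004008010020) (nat_lit 0x100c008010020) (nat_lit 0x1002001) (nat_lit 0x100a001) (nat_lit 0) (nat_lit 0) (nat_lit 2) (nat_lit 0) (nat_lit 0x4008010020001001) (nat_lit 4) (nat_lit 1) (nat_lit 0) (nat_lit 4105) (nat_lit 9) (nat_lit 0x1000004000014) (nat_lit 0x100010) (.cD (nat_lit 4) (.kA false (nat_lit 0x2a010020041001008010020040001002)) (.cD (nat_lit 20) (.kA false (nat_lit 0x2a010020061001008010020060001002002000003)) .nil))) (.cD (nat_lit 24) (.kS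 (nat_lit 0) (nat_lit 0xc008010020001004004000002) (nat_lit 0x1018003) (nat_lit 0x8004002005010008004006001) (nat_lit 0x400400000400801002000100200100400400000c00801002000100a002004)) (.cD (nat_lit 33) (.dfs (nat_lit 4) (nat_lit 0x1004008010020) (nat_lit 0x100c008010020) (nat_lit 0x1002001) (nat_lit 0x100a001) (nat_lit 0) (nat_lit 0) (nat_lit 2) (nat_lit 0) (nat_lit 0x4008010020001001) (nat_lit 4) (nat_lit 1) (nat_lit 0) (nat_lit 4105) (nat_lit 9) (nat_lit 0x1000004000014) (nat_lit 0x100010) (.cD (nat_lit 4) (.kS (nat_lit 1) (nat_lit 0x2004008010009001001000001010030040007003) (nat_lit 4127) (nat_lit 0x8004002003) (nat_lit 0x1100103004103f00100200400801400100900100100000200400801000100a004)) (.cD (nat_lit 20) (.kA true (nat_lit 0xc002006010005001010030040001002)) .nil))) (.cD (nat_lit 40) (.kS (nat_lit 0) (nat_lit 0xc008010020001004004000002) (nat_lit 0x1028003) (nat_lit 0x8004002005010008004006001) (nat_lit 0x400400000400801002000100200100400400000c00801002000100a002004))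 (.cD (nat_lit 49) (.dfs (nat_lit 4) (nat_lit 0x1004008010020) (nat_lit 0x100c008010020) (nat_lit 0x1002001) (nat_lit 0x100a001) (nat_lit 0) (nat_lit 0) (nat_lit 2) (nat_lit 0) (nat_lit 0x4008010020001001) (nat_lit 4) (nat_lit 1) (nat_lit 0) (nat_lit 4105) (nat_lit 9) (nat_lit 0x1000004000014) (nat_lit 0x100010) (.cD (nat_lit 4) (.kA false (nat_lit 0x2a010020041001008010020040001002)) (.cD (nat_lit 20) (.kA false (nat_lit 0x2a010020061001008010020060001002002000003)) .nil))) (.cD (nat_lit 56) (.kS (nat_lit 0) (nat_lit 0xc008010020001004004000002) (nat_lit 0x1038003) (nat_lit 0x8004002005010008004006001) (nat_lit 0x400400000400801002000100200100400400000c00801002000100a002004)) .nil))))))))))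
theorem c625 : (chk [] [] p625).n x301 s625 = true := by decide +kernel
noncomputable def p626 : Pf := (.ext (nat_lit 0) (nat_lit 0) (nat_lit 0x1044010020019) (nat_lit 0x10008004002009010004002005001002) (nat_lit 0x2003004008) (nat_lit 4099) (nat_lit 4098) (nat_lit 0xc004002001) (.dfs (nat_lit 3) (nat_lit 0x1002003004008) (nat_lit 0x100200300400c) (nat_lit 4097) (nat_lit 4097) (nat_lit 0) (nat_lit 0) (nat_lit 2) (nat_lit 0) (nat_lit 0) (nat_lit 2) (nat_lit 1) (nat_lit 0) (nat_lit 4160) (nat_lit 64) (nat_lit 0x100000200000a00002200002a) (nat_lit 0x40400000404) (.cD (nat_lit 2) (.cut (nat_lit 1)) (.cD (nat_lit 10) (.cut (nat_lit 0)) (.cD (nat_lit 34) (.kS (nat_lit 0) (nat_lit 0x200400801000b001) (nat_lit 4098) (nat_lit 0x8004002003) (nat_lit 0x400400000400200801000500100400400000400600801000100200200400801000500c005)) (.cD (nat_lit 42) (.kS (nat_lit 0) (nat_lit 0x200400801000b001) (nat_lit 4138) (nat_lit 0x8004002003) (nat_lit 0x400400000400200801000500100400400000400600801000100200200400801000700c005))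 .nil))))))
theorem c626 : (chk [(x301, s617), (x301, s625)] [] p626).n x301 s626 = true := by decide +kernel
noncomputable def p627 : Pf := (.anc (nat_lit 68) (nat_lit 0x10006002002000002) (nat_lit 0x1009020010004) (.dfs (nat_lit 4) (nat_lit 4097) (nat_lit 4097) (nat_lit 1) (nat_lit 1) (nat_lit 0) (nat_lit 0) (nat_lit 3) (nat_lit 0) (nat_lit 0) (nat_lit 0) (nat_lit 1) (nat_lit 0) (nat_lit 0x1008004) (nat_lit 32772) (nat_lit 0x1001004000008001014000018) (nat_lit 0x1000101110110) (.cD (nat_lit 4) (.dfs (nat_lit 16) (nat_lit 4098) (nat_lit 4098) (nat_lit 4097) (nat_lit 4097) (nat_lit 0) (nat_lit 0) (nat_lit 3) (nat_lit 0) (nat_lit 0) (nat_lit 0) (nat_lit 1) (nat_lit 0) (nat_lit 1) (nat_lit 0) (nat_lit 1) (nat_lit 0x11001100110010) (.cD (nat_lit 4) (.kc (nat_lit 20) (nat_lit 0x3001001)) (.cD (nat_lit 16) (.dfs (nat_lit 32) (nat_lit 4100) (nat_lit 4100) (nat_lit 0x1002001) (nat_lit 0x1002001) (nat_lit 0) (nat_lit 0) (nat_lit 3) (nat_lit 0) (nat_lit 0) (nat_lit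 0) (nat_lit 1) (nat_lit 0) (nat_lit 1) (nat_lit 0) (nat_lit 1) (nat_lit 0x11001100110010) (.cD (nat_lit 4) (.kc (nat_lit 36) (nat_lit 0x5001001)) (.cD (nat_lit 16) (.kc (nat_lit 48) (nat_lit 0x3001001)) (.cD (nat_lit 20) (.kc (nat_lit 52) (nat_lit 0x7001001)) (.cD (nat_lit 32) (.dfs (nat_lit 9) (nat_lit 0x1004001003008) (nat_lit 0x1005001003008) (nat_lit 4098) (nat_lit 4098) (nat_lit 0) (nat_lit 0) (nat_lit 2) (nat_lit 1) (nat_lit 0) (nat_lit 8) (nat_lit 1) (nat_lit 0) (nat_lit 4100) (nat_lit 4) (nat_lit 0x1000008000018) (nat_lit 0x1000100) (.cD (nat_lit 8) (.iso x301 s626 (nat_lit 0) (nat_lit 0x1040020010008004012011) (nat_lit 0x40020010008004012011) [(nat_lit 0x10008004002005001001), (nat_lit 0x40020010008024022001003001), (nat_lit 0x10008004002001005001), (nat_lit 0x1000800400200d007001), (nat_lit 0x10008004002009009001)] (.cut (nat_lit 1))) (.cD (nat_lit 24) (.iso x301 s624 (nat_lit 0) (nat_lit 0x1040020010008004012011) (nat_lit 0x40020010008004012011)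 [(nat_lit 0x10008004002005001001), (nat_lit 0x40020010008024022001003001), (nat_lit 0x10008004002001005001), (nat_lit 0x1000800400200d007001), (nat_lit 0x10008004002009009001)] (.cut (nat_lit 0))) .nil))) (.cD (nat_lit 36) (.kA true (nat_lit 0x100100000400100300d001001001000003)) (.cD (nat_lit 48) (.kA true (nat_lit 0x600800401000800400100300d001001001000003)) (.cD (nat_lit 52) (.kA true (nat_lit 0x800a00601e00700500100300e001002002000003)) .nil)))))))) (.cD (nat_lit 20) (.dfs (nat_lit 32) (nat_lit 4100) (nat_lit 4100) (nat_lit 0x1002001) (nat_lit 0x1002001) (nat_lit 0) (nat_lit 0) (nat_lit 3) (nat_lit 0) (nat_lit 0) (nat_lit 0) (nat_lit 1) (nat_lit 0) (nat_lit 1) (nat_lit 0) (nat_lit 1) (nat_lit 0x11001100110010) (.cD (nat_lit 4) (.kc (nat_lit 36) (nat_lit 0x5001001)) (.cD (nat_lit 16) (.kc (nat_lit 52) (nat_lit 0x7001001)) (.cD (nat_lit 20) (.kc (nat_lit 48) (nat_lit 0x3001001)) (.cD (nat_lit 32) (.kA true (nat_lit 0x200200000500100300e001002002000003))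 (.cD (nat_lit 36) (.dfs (nat_lit 9) (nat_lit 4102) (nat_lit 4103) (nat_lit 1) (nat_lit 1) (nat_lit 0) (nat_lit 0) (nat_lit 1) (nat_lit 4112) (nat_lit 0x40020010008004002001) (nat_lit 0) (nat_lit 1) (nat_lit 0) (nat_lit 1) (nat_lit 0) (nat_lit 1) (nat_lit 0) .nil) (.cD (nat_lit 48) (.kA true (nat_lit 0x400300500800100400100300c001002)) (.cD (nat_lit 52) (.kA true (nat_lit 0x400700100800100400100300c001002)) .nil)))))))) (.cD (nat_lit 32) (.kF (nat_lit 16) (nat_lit 0x100400100c012008002002000003)) (.cD (nat_lit 36) (.kF (nat_lit 16) (nat_lit 0x100400100c012008002002000003)) (.cD (nat_lit 48) (.dfs (nat_lit 32) (nat_lit 4100) (nat_lit 4100) (nat_lit 0x1002001) (nat_lit 0x1002001) (nat_lit 0) (nat_lit 0) (nat_lit 3) (nat_lit 0) (nat_lit 0) (nat_lit 0) (nat_lit 1) (nat_lit 0) (nat_lit 1) (nat_lit 0) (nat_lit 1) (nat_lit 0x11001100110010) (.cD (nat_lit 4) (.kc (nat_lit 36) (nat_lit 0x5001001)) (.cD (nat_lit 16) (.kA true (nat_lit 0x400200100800100400100300c001002))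 (.cD (nat_lit 20) (.kA true (nat_lit 0x400600500800100400100300c001002)) (.cD (nat_lit 32) (.kA true (nat_lit 0x200400c01000800500100300e001002002000003)) (.cD (nat_lit 36) (.kA true (nat_lit 0x400500600800100400100300c001002)) (.cD (nat_lit 48) (.kc (nat_lit 48) (nat_lit 0x3001001)) (.cD (nat_lit 52) (.kc (nat_lit 52) (nat_lit 0x7001001)) .nil)))))))) (.cD (nat_lit 52) (.dfs (nat_lit 32) (nat_lit 4100) (nat_lit 4100) (nat_lit 0x1002001) (nat_lit 0x1002001) (nat_lit 0) (nat_lit 0) (nat_lit 3) (nat_lit 0) (nat_lit 0) (nat_lit 0) (nat_lit 1) (nat_lit 0) (nat_lit 1) (nat_lit 0) (nat_lit 1) (nat_lit 0x11001100110010) (.cD (nat_lit 4) (.kc (nat_lit 36) (nat_lit 0x5001001)) (.cD (nat_lit 16) (.kA true (nat_lit 0x400200500800100400100300c001002)) (.cD (nat_lit 20) (.kA true (nat_lit 0x400600100800100400100300c001002)) (.cD (nat_lit 32) (.kA true (nat_lit 0x4001003008001002004008012008002002000003)) (.cD (nat_lit 36) (.kA true (nat_lit 0x400500200800100400100300c001002))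 (.cD (nat_lit 48) (.kc (nat_lit 52) (nat_lit 0x7001001)) (.cD (nat_lit 52) (.kc (nat_lit 48) (nat_lit 0x3001001)) .nil)))))))) .nil)))))))) (.cD (nat_lit 8) (.dfs (nat_lit 16) (nat_lit 4098) (nat_lit 4098) (nat_lit 4097) (nat_lit 4097) (nat_lit 0) (nat_lit 0) (nat_lit 3) (nat_lit 0) (nat_lit 0) (nat_lit 0) (nat_lit 1) (nat_lit 0) (nat_lit 1) (nat_lit 0) (nat_lit 1) (nat_lit 0x101010101010100) (.cD (nat_lit 8) (.kc (nat_lit 20) (nat_lit 0x3001001)) (.cD (nat_lit 16) (.dfs (nat_lit 32) (nat_lit 4100) (nat_lit 4100) (nat_lit 0x1002001) (nat_lit 0x1002001) (nat_lit 0) (nat_lit 0) (nat_lit 3) (nat_lit 0) (nat_lit 0) (nat_lit 0) (nat_lit 1) (nat_lit 0) (nat_lit 1) (nat_lit 0) (nat_lit 1) (nat_lit 0x101010101010100) (.cD (nat_lit 8) (.kc (nat_lit 36) (nat_lit 0x5001001)) (.cD (nat_lit 16) (.kc (nat_lit 48) (nat_lit 0x3001001)) (.cD (nat_lit 24) (.kc (nat_lit 52) (nat_lit 0x7001001)) (.cD (nat_lit 32) (.kA false (nat_lit 0x400100200c002008010020050003001001000003))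 (.cD (nat_lit 40) (.kA false (nat_lit 0x100100000400500200d002001001000003)) (.cD (nat_lit 48) (.kA false (nat_lit 0x600800c01000800400300200b002001001000003)) (.cD (nat_lit 56) (.kA false (nat_lit 0x400700200c002008010020050003001001000003)) .nil)))))))) (.cD (nat_lit 24) (.dfs (nat_lit 32) (nat_lit 4100) (nat_lit 4100) (nat_lit 0x1002001) (nat_lit 0x1002001) (nat_lit 0) (nat_lit 0) (nat_lit 3) (nat_lit 0) (nat_lit 0) (nat_lit 0) (nat_lit 1) (nat_lit 0) (nat_lit 1) (nat_lit 0) (nat_lit 1) (nat_lit 0x101010101010100) (.cD (nat_lit 8) (.kc (nat_lit 36) (nat_lit 0x5001001)) (.cD (nat_lit 16) (.kc (nat_lit 52) (nat_lit 0x7001001)) (.cD (nat_lit 24) (.kc (nat_lit 48) (nat_lit 0x3001001)) (.cD (nat_lit 32) (.kA false (nat_lit 0x400100600c002008010020050003001001000003)) (.cD (nat_lit 40) (.kA false (nat_lit 0x100100000400500600d002001001000003)) (.cD (nat_lit 48) (.kA false (nat_lit 0x400700600c002008010020050003001001000003)) (.cD (nat_lit 56) (.kA false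 (nat_lit 0x600800a01000800400300600b002001001000003)) .nil)))))))) (.cD (nat_lit 32) (.kF (nat_lit 16) (nat_lit 0x100400100c012008002002000003)) (.cD (nat_lit 40) (.kF (nat_lit 16) (nat_lit 0x100400100c012008002002000003)) (.cD (nat_lit 48) (.dfs (nat_lit 32) (nat_lit 4100) (nat_lit 4100) (nat_lit 0x1002001) (nat_lit 0x1002001) (nat_lit 0) (nat_lit 0) (nat_lit 3) (nat_lit 0) (nat_lit 0) (nat_lit 0) (nat_lit 1) (nat_lit 0) (nat_lit 1) (nat_lit 0) (nat_lit 1) (nat_lit 0x101010101010100) (.cD (nat_lit 8) (.kc (nat_lit 36) (nat_lit 0x5001001)) (.cD (nat_lit 16) (.kA false (nat_lit 0x600800401000800400300100b002001001000003)) (.cD (nat_lit 24) (.kA false (nat_lit 0x400700500c002008010020050003001001000003)) (.cD (nat_lit 32) (.kA false (nat_lit 0x400100300c002008010020050003001001000003)) (.cD (nat_lit 40) (.kA false (nat_lit 0x100100000400500700d002001001000003)) (.cD (nat_lit 48) (.kc (nat_lit 48) (nat_lit 0x3001001)) (.cD (nat_lit 56) (.kc (nat_lit 52)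 (nat_lit 0x7001001)) .nil)))))))) (.cD (nat_lit 56) (.dfs (nat_lit 32) (nat_lit 4100) (nat_lit 4100) (nat_lit 0x1002001) (nat_lit 0x1002001) (nat_lit 0) (nat_lit 0) (nat_lit 3) (nat_lit 0) (nat_lit 0) (nat_lit 0) (nat_lit 1) (nat_lit 0) (nat_lit 1) (nat_lit 0) (nat_lit 1) (nat_lit 0x101010101010100) (.cD (nat_lit 8) (.kc (nat_lit 36) (nat_lit 0x5001001)) (.cD (nat_lit 16) (.kA false (nat_lit 0x400700100c002008010020050003001001000003)) (.cD (nat_lit 24) (.kA false (nat_lit 0x600800201000800400300500b002001001000003)) (.cD (nat_lit 32) (.kA false (nat_lit 0x400100700c002008010020050003001001000003)) (.cD (nat_lit 40) (.kA false (nat_lit 0x100100000400500300d002001001000003)) (.cD (nat_lit 48) (.kc (nat_lit 52) (nat_lit 0x7001001)) (.cD (nat_lit 56) (.kc (nat_lit 48) (nat_lit 0x3001001)) .nil)))))))) .nil)))))))) (.cD (nat_lit 16) (.kF (nat_lit 4) (nat_lit 0x2002000001003001002)) (.cD (nat_lit 20) (.kF (nat_lit 4) (nat_lit 0xe01e007001003001002)) (.cD (nat_lit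 24) (.kF (nat_lit 4) (nat_lit 0x1002001002012008002002000003)) (.cD (nat_lit 32) (.dfs (nat_lit 16) (nat_lit 4098) (nat_lit 4098) (nat_lit 4097) (nat_lit 4097) (nat_lit 0) (nat_lit 0) (nat_lit 3) (nat_lit 0) (nat_lit 0) (nat_lit 0) (nat_lit 1) (nat_lit 0) (nat_lit 0x1008004) (nat_lit 32772) (nat_lit 0x1001004000008001014000018) (nat_lit 0x1000101110110) (.cD (nat_lit 4) (.kF (nat_lit 16) (nat_lit 0x1001000001006001002)) (.cD (nat_lit 8) (.kF (nat_lit 16) (nat_lit 0x1001000001006001002)) (.cD (nat_lit 16) (.dfs (nat_lit 32) (nat_lit 4100) (nat_lit 4100) (nat_lit 0x1002001) (nat_lit 0x1002001) (nat_lit 0) (nat_lit 0) (nat_lit 3) (nat_lit 0) (nat_lit 0) (nat_lit 0) (nat_lit 1) (nat_lit 0) (nat_lit 0x1008004) (nat_lit 32772) (nat_lit 0x1001004000008001014000018) (nat_lit 0x1000101110110) (.cD (nat_lit 4) (.kA true (nat_lit 0x100400600c002001001000002)) (.cD (nat_lit 8) (.kA false (nat_lit 0x100400200c002001001000002)) (.cD (nat_lit 16) (.kc (nat_lit 48) (nat_lit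 0x3001001)) (.cD (nat_lit 20) (.kA true (nat_lit 0x300400600c002001001000002)) (.cD (nat_lit 24) (.kA false (nat_lit 0x300400200c002001001000002)) (.cD (nat_lit 32) (.kc (nat_lit 36) (nat_lit 0x5001001)) (.cD (nat_lit 48) (.kc (nat_lit 52) (nat_lit 0x7001001)) .nil)))))))) (.cD (nat_lit 20) (.dfs (nat_lit 32) (nat_lit 4100) (nat_lit 4100) (nat_lit 0x1002001) (nat_lit 0x1002001) (nat_lit 0) (nat_lit 0) (nat_lit 3) (nat_lit 0) (nat_lit 0) (nat_lit 0) (nat_lit 1) (nat_lit 0) (nat_lit 1) (nat_lit 0) (nat_lit 1) (nat_lit 0x11001100110010) (.cD (nat_lit 4) (.kA true (nat_lit 0x100400700c002001001000002)) (.cD (nat_lit 16) (.kA true (nat_lit 0x300400500c002001001000002)) (.cD (nat_lit 20) (.kc (nat_lit 48) (nat_lit 0x3001001)) (.cD (nat_lit 32) (.kc (nat_lit 36) (nat_lit 0x5001001)) (.cD (nat_lit 36) (.dfs (nat_lit 9) (nat_lit 4100) (nat_lit 4101) (nat_lit 1) (nat_lit 1) (nat_lit 0) (nat_lit 0) (nat_lit 1) (nat_lit 4128) (nat_lit 0x40020010008004002001) (nat_lit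 0) (nat_lit 1) (nat_lit 0) (nat_lit 1) (nat_lit 0) (nat_lit 1) (nat_lit 0) .nil) (.cD (nat_lit 48) (.kA true (nat_lit 0x700400100c002001001000002)) (.cD (nat_lit 52) (.kc (nat_lit 52) (nat_lit 0x7001001)) .nil)))))))) (.cD (nat_lit 24) (.dfs (nat_lit 32) (nat_lit 4100) (nat_lit 4100) (nat_lit 0x1002001) (nat_lit 0x1002001) (nat_lit 0) (nat_lit 0) (nat_lit 3) (nat_lit 0) (nat_lit 0) (nat_lit 0) (nat_lit 1) (nat_lit 0) (nat_lit 1) (nat_lit 0) (nat_lit 1) (nat_lit 0x101010101010100) (.cD (nat_lit 8) (.kA false (nat_lit 0x100400300c002001001000002)) (.cD (nat_lit 16) (.kA false (nat_lit 0x300400100c002001001000002)) (.cD (nat_lit 24) (.kc (nat_lit 48) (nat_lit 0x3001001)) (.cD (nat_lit 32) (.kc (nat_lit 36) (nat_lit 0x5001001)) (.cD (nat_lit 40) (.kA false (nat_lit 0x500400700c002001001000002)) (.cD (nat_lit 48) (.kA false (nat_lit 0x700400500c002001001000002)) (.cD (nat_lit 56) (.kc (nat_lit 52) (nat_lit 0x7001001)) .nil)))))))) (.cD (nat_lit 32) (.kc (nat_lit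 20) (nat_lit 0x3001001)) (.cD (nat_lit 48) (.dfs (nat_lit 32) (nat_lit 4100) (nat_lit 4100) (nat_lit 0x1002001) (nat_lit 0x1002001) (nat_lit 0) (nat_lit 0) (nat_lit 3) (nat_lit 0) (nat_lit 0) (nat_lit 0) (nat_lit 1) (nat_lit 0) (nat_lit 0x1008004) (nat_lit 32772) (nat_lit 0x1001004000008001014000018) (nat_lit 0x1000101110110) (.cD (nat_lit 4) (.kA true (nat_lit 0x100400200c002001001000002)) (.cD (nat_lit 8) (.kA false (nat_lit 0x100400600c002001001000002)) (.cD (nat_lit 16) (.kc (nat_lit 52) (nat_lit 0x7001001)) (.cD (nat_lit 20) (.kA true (nat_lit 0x700400200c002001001000002)) (.cD (nat_lit 24) (.kA false (nat_lit 0x700400600c002001001000002)) (.cD (nat_lit 32) (.kc (nat_lit 36) (nat_lit 0x5001001)) (.cD (nat_lit 48) (.kc (nat_lit 48) (nat_lit 0x3001001)) .nil)))))))) .nil)))))))) (.cD (nat_lit 48) (.kF (nat_lit 4) (nat_lit 0x1002001002012008002002000003)) .nil)))))))))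
theorem c627 : (chk [(x301, s624), (x301, s626)] [g7] p627).n x301 s627 = true := by decide +kernel
noncomputable def p628 : Pf := (.ext (nat_lit 0) (nat_lit 0) (nat_lit 0x1040010020008002) (nat_lit 0x16008004002001006001001000010008004002001005003) (nat_lit 0x2004008016) (nat_lit 0x1004001) (nat_lit 0x1005001) (nat_lit 0x10008004006005014008004002001) (.dfs (nat_lit 1) (nat_lit 0x1002004008016) (nat_lit 0x1002004008012) (nat_lit 0x1010001) (nat_lit 0x1014001) (nat_lit 0) (nat_lit 0) (nat_lit 2) (nat_lit 0) (nat_lit 0) (nat_lit 1) (nat_lit 1) (nat_lit 0) (nat_lit 1) (nat_lit 0) (nat_lit 1) (nat_lit 0x202020202020202) (.cD (nat_lit 1) (.dfs (nat_lit 4) (nat_lit 0x100400801002c) (nat_lit 0x100c008010024) (nat_lit 0x1020002001) (nat_lit 0x102000a001) (nat_lit 0) (nat_lit 0) (nat_lit 2) (nat_lit 0) (nat_lit 0) (nat_lit 5) (nat_lit 1) (nat_lit 0) (nat_lit 4104) (nat_lit 8) (nat_lit 0x1000005000015) (nat_lit 0x200020) (.cD (nat_lit 5) (.kA true (nat_lit 0xe004008010003001010030050001001001000003))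 (.cD (nat_lit 21) (.kS (nat_lit 1) (nat_lit 0x10001030070001006004008018003002002000001010030040001004) (nat_lit 4110) (nat_lit 0x8004002003) (nat_lit 0x200200000400600801000d00402301003005800e00100200200000600400801800100401000103007003f002006)) .nil))) (.cD (nat_lit 9) (.kS (nat_lit 0) (nat_lit 0x4004000004008010020001002) (nat_lit 0x1029022) (nat_lit 0x8004002005010008004006001) (nat_lit 0xc00801002800100a001005005000004008010020001002002004004000004)) (.cD (nat_lit 17) (.dfs (nat_lit 4) (nat_lit 0x100400801002c) (nat_lit 0x100c008010024) (nat_lit 0x1020002001) (nat_lit 0x102000a001) (nat_lit 0) (nat_lit 0) (nat_lit 2) (nat_lit 0) (nat_lit 0) (nat_lit 5) (nat_lit 1) (nat_lit 0) (nat_lit 4104) (nat_lit 8) (nat_lit 0x1000005000015) (nat_lit 0x200020) (.cD (nat_lit 5) (.kA true (nat_lit 0x3010030058001001010030040001002)) (.cD (nat_lit 21) (.kA true (nat_lit 0x23010030058001001010030040001002)) .nil))) (.cD (nat_lit 25) (.kS (nat_lit 0) (nat_lit 0x4004000004008010020001002)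 (nat_lit 0x1039022) (nat_lit 0x8004002005010008004006001) (nat_lit 0xc00801002800100a001005005000004008010020001002002004004000004)) (.cD (nat_lit 33) (.dfs (nat_lit 4) (nat_lit 0x100400801002c) (nat_lit 0x100c008010024) (nat_lit 0x1020002001) (nat_lit 0x102000a001) (nat_lit 0) (nat_lit 0) (nat_lit 2) (nat_lit 0) (nat_lit 0) (nat_lit 5) (nat_lit 1) (nat_lit 0) (nat_lit 4104) (nat_lit 8) (nat_lit 0x1000005000015) (nat_lit 0x200020) (.cD (nat_lit 5) (.kA true (nat_lit 0xe004008010003001010030050001001001000003)) (.cD (nat_lit 21) (.cut (nat_lit 0)) .nil))) (.cD (nat_lit 41) (.kS (nat_lit 0) (nat_lit 0x4004000004008010020001002) (nat_lit 0x1009022) (nat_lit 0x8004002005010008004006001) (nat_lit 0xc00801002800100a001005005000004008010020001002002004004000004)) (.cD (nat_lit 49) (.dfs (nat_lit 4) (nat_lit 0x100400801002c) (nat_lit 0x100c008010024) (nat_lit 0x1020002001) (nat_lit 0x102000a001) (nat_lit 0) (nat_lit 0) (nat_lit 2) (nat_lit 0) (nat_lit 0) (nat_lit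 5) (nat_lit 1) (nat_lit 0) (nat_lit 4104) (nat_lit 8) (nat_lit 0x1000005000015) (nat_lit 0x200020) (.cD (nat_lit 5) (.kA true (nat_lit 0x3010030058001001010030040001002)) (.cD (nat_lit 21) (.kA true (nat_lit 0x23010030058001001010030040001002)) .nil))) (.cD (nat_lit 57) (.kS (nat_lit 0) (nat_lit 0x4004000004008010020001002) (nat_lit 0x1019022) (nat_lit 0x8004002005010008004006001) (nat_lit 0xc00801002800100a001005005000004008010020001002002004004000004)) .nil))))))))))
theorem c628 : (chk [(x301, s627)] [] p628).n x301 s628 = true := by decide +kernel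
noncomputable def p629 : Pf := (.anz (nat_lit 64) (.anz (nat_lit 128) (.anz (nat_lit 192) (.anc (nat_lit 16) (nat_lit 0x3000400100100003600300100100000200300400100200200002200103200400100100000a00300100100000c) (nat_lit 4352) (.dfs (nat_lit 256) (nat_lit 1) (nat_lit 1) (nat_lit 4097) (nat_lit 4097) (nat_lit 0) (nat_lit 0) (nat_lit 0) (nat_lit 0) (nat_lit 0) (nat_lit 0) (nat_lit 1) (nat_lit 0) (nat_lit 0x1100010008004002001) (nat_lit 0x100010008004002001) (nat_lit 0x100010000110000210000310000100800400800500800100900400900500900100d00400d00500d00502800002a00302a00502a00502c00003800303800503800003a00303a00503a00506c0050a80011a00021a00031a000011000211000311000318000114000400c00500c00508800104800404900504900508d0010e900404d00504d00508900106d00306e00506e00502e0000fa00303c00503c0050b800007800307a00507a0050be0000ea0031340031200011e0) (nat_lit 0x10000000000000000000001000000000000001000000000000500150000002300) (.cD (nat_lit 256) (.kF (nat_lit 16) (nat_lit 0x2001001001))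 (.cD (nat_lit 8) (.kb (nat_lit 8) (nat_lit 0x1002001) (nat_lit 0x1080040020008004001)) (.cD (nat_lit 9) (.kb (nat_lit 9) (nat_lit 0x1002001) (nat_lit 0x1080040020008004001)) (.cD (nat_lit 13) (.kb (nat_lit 13) (nat_lit 0x1002001) (nat_lit 0x1080040020008004001)) (.cD (nat_lit 40) (.kb (nat_lit 40) (nat_lit 0x1002001) (nat_lit 0x1080040020010008004)) (.cD (nat_lit 42) (.kb (nat_lit 42) (nat_lit 0x1002001) (nat_lit 0x1080040010028004002)) (.cD (nat_lit 44) (.kb (nat_lit 44) (nat_lit 0x1002001) (nat_lit 0x1080040020010008004)) (.cD (nat_lit 56) (.kb (nat_lit 56) (nat_lit 0x1002001) (nat_lit 0x1080040010028004002)) (.cD (nat_lit 58) (.kb (nat_lit 58) (nat_lit 0x1002001) (nat_lit 0x1080040010028004002)) (.cD (nat_lit 108) (.kb (nat_lit 108) (nat_lit 0x1002001) (nat_lit 0x1080040020010008004)) (.cD (nat_lit 168) (.kb (nat_lit 168) (nat_lit 0x1002001) (nat_lit 0x1080040020010008004)) .nil))))))))))))))))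
theorem c629 : (chk [] [] p629).n x320 s629 = true := by decide +kernel
noncomputable def p630 : Pf := (.clm (.cut (nat_lit 0)) (.dfs (nat_lit 256) (nat_lit 1) (nat_lit 1) (nat_lit 1) (nat_lit 1) (nat_lit 0) (nat_lit 0) (nat_lit 0) (nat_lit 0) (nat_lit 0) (nat_lit 0) (nat_lit 1) (nat_lit 0) (nat_lit 0x1100010008004002001) (nat_lit 0x100010008004002001) (nat_lit 0x100100800400800500800100900400900500900100d00400d00500d00502800002a00302a00502a00502c00003800303800503800003a00303a00503a00506c0050a800010000110000210000310000400c00500c00508800104800404900504900508d0010e900404d00504d00508900106d00306e00506e00502e0000fa00303c00503c0050b800007800307a00507a0050be0000ea0011a00021a00031a00001100021100031100031800011400031340031200011e0) (nat_lit 0x10000000000000000000001000000000000001000000000000500150000002300) (.cD (nat_lit 8) (.kb (nat_lit 8) (nat_lit 0x1002001) (nat_lit 0x1080040020008004001)) (.cD (nat_lit 9) (.kb (nat_lit 9) (nat_lit 0x1002001) (nat_lit 0x1080040020008004001))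 (.cD (nat_lit 13) (.kb (nat_lit 13) (nat_lit 0x1002001) (nat_lit 0x1080040020008004001)) (.cD (nat_lit 40) (.kb (nat_lit 40) (nat_lit 0x1002001) (nat_lit 0x1080040020010008004)) (.cD (nat_lit 42) (.kb (nat_lit 42) (nat_lit 0x1002001) (nat_lit 0x1080040010028004002)) (.cD (nat_lit 44) (.kb (nat_lit 44) (nat_lit 0x1002001) (nat_lit 0x1080040020010008004)) (.cD (nat_lit 56) (.kb (nat_lit 56) (nat_lit 0x1002001) (nat_lit 0x1080040010028004002)) (.cD (nat_lit 58) (.kb (nat_lit 58) (nat_lit 0x1002001) (nat_lit 0x1080040010028004002)) (.cD (nat_lit 108) (.kb (nat_lit 108) (nat_lit 0x1002001) (nat_lit 0x1080040020010008004)) (.cD (nat_lit 168) (.kb (nat_lit 168) (nat_lit 0x1002001) (nat_lit 0x1080040020010008004)) (.cD (nat_lit 256) (.kin (nat_lit 1) (nat_lit 0)) .nil)))))))))))))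
theorem c630 : (chk [(x320, s629)] [] p630).n x320 s630 = true := by decide +kernel
noncomputable def p631 : Pf := (.ext (nat_lit 0) (nat_lit 0) (nat_lit 0x1100040080020) (nat_lit 0x10008004002003002002000002) (nat_lit 0x2003004008) (nat_lit 0x1008004001) (nat_lit 0x1008005004) (nat_lit 0xc00400200100a00400200100b004002001) (.dfs (nat_lit 1) (nat_lit 0x1002003004008) (nat_lit 0x100200300400b) (nat_lit 4097) (nat_lit 4097) (nat_lit 0) (nat_lit 0) (nat_lit 2) (nat_lit 0) (nat_lit 0) (nat_lit 4) (nat_lit 1) (nat_lit 0) (nat_lit 4480) (nat_lit 384) (nat_lit 0x1000004000024000044000064) (nat_lit 0x10000000100000001000000010) (.cD (nat_lit 4) (.dfs (nat_lit 4) (nat_lit 0x1004006008010) (nat_lit 0x1004006008014) (nat_lit 0x1002001) (nat_lit 0x1002001) (nat_lit 0) (nat_lit 0) (nat_lit 2) (nat_lit 0) (nat_lit 0) (nat_lit 5) (nat_lit 1) (nat_lit 0) (nat_lit 1) (nat_lit 0) (nat_lit 1) (nat_lit 0x2000000020000000200000002000000020000000200000002000000020) (.cD (nat_lit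 5) (.dfs (nat_lit 8) (nat_lit 0x100800c010020) (nat_lit 0x100800c010030) (nat_lit 0x1004002001) (nat_lit 0x1004002001) (nat_lit 0) (nat_lit 0) (nat_lit 2) (nat_lit 0) (nat_lit 0) (nat_lit 8) (nat_lit 1) (nat_lit 0) (nat_lit 1) (nat_lit 0) (nat_lit 1) (nat_lit 0x10000000100000001000000010000000100000001000000010000000100) (.cD (nat_lit 8) (.kS (nat_lit 0) (nat_lit 0x8018020040002010010000002) (nat_lit 0x10040010a8) (nat_lit 0x800400200d01000800400a00102001000800c002001) (nat_lit 0x10010000008010020040004002001001010010000008018020040002004019001004)) (.cD (nat_lit 40) (.cut (nat_lit 0)) (.cD (nat_lit 72) (.kS (nat_lit 0) (nat_lit 0x8018020040002010010000002) (nat_lit 0x10040010e8) (nat_lit 0x800400200d01000800400a00102001000800c002001) (nat_lit 0x10010000008010020040004002001001010010000008018020040002004039001004)) (.cD (nat_lit 104) (.kS (nat_lit 0) (nat_lit 0x10018020040002001) (nat_lit 0x10050010c8) (nat_lit 0x800400200d01000800400a00102001000800c002001)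 (nat_lit 0x18008020040002006029001008010020040004002001001010018020040006004031001003)) (.cD (nat_lit 136) (.kS (nat_lit 0) (nat_lit 0x2004008010005002002000002) (nat_lit 4136) (nat_lit 0x8004002003) (nat_lit 0x8010020040001001002002000002004008010001006003)) (.cD (nat_lit 168) (.kS (nat_lit 0) (nat_lit 0x8018020040002010010000002) (nat_lit 0x1004001088) (nat_lit 0x800400200d01000800400a00102001000800c002001) (nat_lit 0x10010000008010020040004002001001010010000008018020040002004011001004)) (.cD (nat_lit 200) (.kS (nat_lit 0) (nat_lit 0x10018020040002001) (nat_lit 0x10050010e8) (nat_lit 0x800400200d01000800400a00102001000800c002001) (nat_lit 0x18008020040002006031001008010020040004002001001010018020040006004039001003)) (.cD (nat_lit 232) (.kS (nat_lit 0) (nat_lit 0x8018020040002010010000002) (nat_lit 0x10040010c8) (nat_lit 0x800400200d01000800400a00102001000800c002001) (nat_lit 0x10010000008010020040004002001001010010000008018020040002004031001004)) .nil)))))))))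 (.cD (nat_lit 37) (.kS (nat_lit 0) (nat_lit 0x800c010020002001) (nat_lit 4229) (nat_lit 0x800400200d) (nat_lit 0xc00401002000100100400801002000200100800c01002000b001003)) (.cD (nat_lit 69) (.kS (nat_lit 0) (nat_lit 0x400c010020002010010000002) (nat_lit 4164) (nat_lit 0x800400200d) (nat_lit 0x1001000000400801002000200101001000000400c010020011001004)) (.cD (nat_lit 101) (.kS (nat_lit 0) (nat_lit 0x400c010020002010010000002) (nat_lit 4292) (nat_lit 0x800400200d) (nat_lit 0x1001000000400801002000200101001000000400c010020019001004)) (.cD (nat_lit 133) (.kS (nat_lit 0) (nat_lit 0x400c010020002010010000002) (nat_lit 4260) (nat_lit 0x800400200d) (nat_lit 0x1001000000400801002000200101001000000400c01002000d001004)) (.cD (nat_lit 165) (.kS (nat_lit 0) (nat_lit 0x400c010020002010010000002) (nat_lit 4132) (nat_lit 0x800400200d) (nat_lit 0x1001000000400801002000200101001000000400c010020005001004)) (.cD (nat_lit 197) (.kS (nat_lit 0) (nat_lit 0x400c010020002010010000002)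 (nat_lit 4324) (nat_lit 0x800400200d) (nat_lit 0x1001000000400801002000200101001000000400c01002001d001004)) (.cD (nat_lit 229) (.kS (nat_lit 0) (nat_lit 0x400c010020002010010000002) (nat_lit 4196) (nat_lit 0x800400200d) (nat_lit 0x1001000000400801002000200101001000000400c010020015001004)) .nil))))))))) (.cD (nat_lit 36) (.dfs (nat_lit 4) (nat_lit 0x1004006008010) (nat_lit 0x1004006008014) (nat_lit 0x1002001) (nat_lit 0x1002001) (nat_lit 0) (nat_lit 0) (nat_lit 2) (nat_lit 0) (nat_lit 0) (nat_lit 5) (nat_lit 1) (nat_lit 0) (nat_lit 1) (nat_lit 0) (nat_lit 1) (nat_lit 0x2000000020000000200000002000000020000000200000002000000020) (.cD (nat_lit 5) (.kS (nat_lit 0) (nat_lit 0x400c010020002010010000002) (nat_lit 4100) (nat_lit 0x800400200d) (nat_lit 0x1001000000400801002000200101001000000400c010020001001004)) (.cD (nat_lit 37) (.kS (nat_lit 0) (nat_lit 0x400c010020002010010000002) (nat_lit 4228) (nat_lit 0x800400200d) (nat_lit 0x1001000000400801002000200101001000000400c010020009001004))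 (.cD (nat_lit 69) (.kS (nat_lit 0) (nat_lit 0x400c010020002010010000002) (nat_lit 4164) (nat_lit 0x800400200d) (nat_lit 0x1001000000400801002000200101001000000400c010020011001004)) (.cD (nat_lit 101) (.kS (nat_lit 0) (nat_lit 0x400c010020002010010000002) (nat_lit 4292) (nat_lit 0x800400200d) (nat_lit 0x1001000000400801002000200101001000000400c010020019001004)) (.cD (nat_lit 133) (.dfs (nat_lit 8) (nat_lit 0x100800c010020) (nat_lit 0x100800c010030) (nat_lit 0x1004002001) (nat_lit 0x1004002001) (nat_lit 0) (nat_lit 0) (nat_lit 2) (nat_lit 0) (nat_lit 0) (nat_lit 8) (nat_lit 1) (nat_lit 0) (nat_lit 1) (nat_lit 0) (nat_lit 1) (nat_lit 0x10000000100000001000000010000000100000001000000010000000100) (.cD (nat_lit 8) (.kS (nat_lit 0) (nat_lit 0x8018020040002010010000002) (nat_lit 0x10a40810a8) (nat_lit 0x800400200d01000800400a00102001000800c002001) (nat_lit 0x1001000000801002004000400200100101001000000801802004001a014019001004)) (.cD (nat_lit 40) (.iso x320 s630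 (nat_lit 0) (nat_lit 0x1100080040020010008004002081) (nat_lit 0x100080040020010008004002081) [(nat_lit 0x40020010008014002001001001), (nat_lit 0x40020010008004002001003001)] (.cut (nat_lit 0))) (.cD (nat_lit 72) (.kS (nat_lit 0) (nat_lit 0x8018020040002010010000002) (nat_lit 0x10a40810e8) (nat_lit 0x800400200d01000800400a00102001000800c002001) (nat_lit 0x1001000000801002004000400200100101001000000801802004001a014039001004)) (.cD (nat_lit 104) (.kS (nat_lit 0) (nat_lit 0x10018020040002001) (nat_lit 0x10250810c8) (nat_lit 0x800400200d01000800400a00102001000800c002001) (nat_lit 0x1800802004000a01602900100801002004000400200100101001802004000e014031001003)) (.cD (nat_lit 136) (.kS (nat_lit 0) (nat_lit 0x2004008010005002002000002) (nat_lit 4136) (nat_lit 0x8004002003) (nat_lit 0x8010020040001001002002000002004008010001006003)) (.cD (nat_lit 168) (.kS (nat_lit 0) (nat_lit 0x8018020040002010010000002) (nat_lit 0x10a4081088) (nat_lit 0x800400200d01000800400a00102001000800c002001)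 (nat_lit 0x1001000000801002004000400200100101001000000801802004001a014011001004)) (.cD (nat_lit 200) (.kS (nat_lit 0) (nat_lit 0x10018020040002001) (nat_lit 0x10250810e8) (nat_lit 0x800400200d01000800400a00102001000800c002001) (nat_lit 0x1800802004000a01603100100801002004000400200100101001802004000e014039001003)) (.cD (nat_lit 232) (.kS (nat_lit 0) (nat_lit 0x8018020040002010010000002) (nat_lit 0x10a40810c8) (nat_lit 0x800400200d01000800400a00102001000800c002001) (nat_lit 0x1001000000801002004000400200100101001000000801802004001a014031001004)) .nil))))))))) (.cD (nat_lit 165) (.kS (nat_lit 0) (nat_lit 0x800c010020002001) (nat_lit 4261) (nat_lit 0x800400200d) (nat_lit 0xc00401002000500100400801002000200100800c01002000f001003)) (.cD (nat_lit 197) (.kS (nat_lit 0) (nat_lit 0x400c010020002010010000002) (nat_lit 4324) (nat_lit 0x800400200d) (nat_lit 0x1001000000400801002000200101001000000400c01002001d001004)) (.cD (nat_lit 229) (.kS (nat_lit 0) (nat_lit 0x400c010020002010010000002)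 (nat_lit 4196) (nat_lit 0x800400200d) (nat_lit 0x1001000000400801002000200101001000000400c010020015001004)) .nil))))))))) (.cD (nat_lit 68) (.dfs (nat_lit 4) (nat_lit 0x1004006008010) (nat_lit 0x1004006008014) (nat_lit 0x1002001) (nat_lit 0x1002001) (nat_lit 0) (nat_lit 0) (nat_lit 2) (nat_lit 0) (nat_lit 0) (nat_lit 5) (nat_lit 1) (nat_lit 0) (nat_lit 1) (nat_lit 0) (nat_lit 1) (nat_lit 0x2000000020000000200000002000000020000000200000002000000020) (.cD (nat_lit 5) (.kS (nat_lit 0) (nat_lit 0x400c010020002010010000002) (nat_lit 4100) (nat_lit 0x800400200d) (nat_lit 0x1001000000400801002000200101001000000400c010020001001004)) (.cD (nat_lit 37) (.kS (nat_lit 0) (nat_lit 0x400c010020002010010000002) (nat_lit 4228) (nat_lit 0x800400200d) (nat_lit 0x1001000000400801002000200101001000000400c010020009001004)) (.cD (nat_lit 69) (.dfs (nat_lit 8) (nat_lit 0x100800c010020) (nat_lit 0x100800c010030) (nat_lit 0x1004002001) (nat_lit 0x1004002001) (nat_lit 0) (nat_lit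 0) (nat_lit 2) (nat_lit 0) (nat_lit 0) (nat_lit 8) (nat_lit 1) (nat_lit 0) (nat_lit 1) (nat_lit 0) (nat_lit 1) (nat_lit 0x10000000100000001000000010000000100000001000000010000000100) (.cD (nat_lit 8) (.kS (nat_lit 0) (nat_lit 0x8018020040002010010000002) (nat_lit 0x10440410a8) (nat_lit 0x800400200d01000800400a00102001000800c002001) (nat_lit 0x10010000008010020040004002001001010010000008018020040022024019001004)) (.cD (nat_lit 40) (.iso x320 s630 (nat_lit 0) (nat_lit 0x1100080040020010008004002041) (nat_lit 0x100080040020010008004002041) [(nat_lit 0x40020010008024002001001001), (nat_lit 0x40020010008004002001003001)] (.cut (nat_lit 0))) (.cD (nat_lit 72) (.kS (nat_lit 0) (nat_lit 0x8018020040002010010000002) (nat_lit 0x10440410e8) (nat_lit 0x800400200d01000800400a00102001000800c002001) (nat_lit 0x10010000008010020040004002001001010010000008018020040022024039001004)) (.cD (nat_lit 104) (.kS (nat_lit 0) (nat_lit 0x10018020040002001) (nat_lit 0x10050410c8)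 (nat_lit 0x800400200d01000800400a00102001000800c002001) (nat_lit 0x18008020040022026029001008010020040004002001001010018020040006024031001003)) (.cD (nat_lit 136) (.kS (nat_lit 0) (nat_lit 0x2004008010005002002000002) (nat_lit 4136) (nat_lit 0x8004002003) (nat_lit 0x8010020040001001002002000002004008010001006003)) (.cD (nat_lit 168) (.kS (nat_lit 0) (nat_lit 0x8018020040002010010000002) (nat_lit 0x1044041088) (nat_lit 0x800400200d01000800400a00102001000800c002001) (nat_lit 0x10010000008010020040004002001001010010000008018020040022024011001004)) (.cD (nat_lit 200) (.kS (nat_lit 0) (nat_lit 0x10018020040002001) (nat_lit 0x10050410e8) (nat_lit 0x800400200d01000800400a00102001000800c002001) (nat_lit 0x18008020040022026031001008010020040004002001001010018020040006024039001003)) (.cD (nat_lit 232) (.kS (nat_lit 0) (nat_lit 0x8018020040002010010000002) (nat_lit 0x10440410c8) (nat_lit 0x800400200d01000800400a00102001000800c002001) (nat_lit 0x10010000008010020040004002001001010010000008018020040022024031001004))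 .nil))))))))) (.cD (nat_lit 101) (.kS (nat_lit 0) (nat_lit 0x800c010020002001) (nat_lit 4229) (nat_lit 0x800400200d) (nat_lit 0xc00401002001100100400801002000200100800c01002000b001003)) (.cD (nat_lit 133) (.kS (nat_lit 0) (nat_lit 0x400c010020002010010000002) (nat_lit 4260) (nat_lit 0x800400200d) (nat_lit 0x1001000000400801002000200101001000000400c01002000d001004)) (.cD (nat_lit 165) (.kS (nat_lit 0) (nat_lit 0x400c010020002010010000002) (nat_lit 4132) (nat_lit 0x800400200d) (nat_lit 0x1001000000400801002000200101001000000400c010020005001004)) (.cD (nat_lit 197) (.kS (nat_lit 0) (nat_lit 0x400c010020002010010000002) (nat_lit 4324) (nat_lit 0x800400200d) (nat_lit 0x1001000000400801002000200101001000000400c01002001d001004)) (.cD (nat_lit 229) (.kS (nat_lit 0) (nat_lit 0x400c010020002010010000002) (nat_lit 4196) (nat_lit 0x800400200d) (nat_lit 0x1001000000400801002000200101001000000400c010020015001004)) .nil))))))))) (.cD (nat_lit 100) (.dfs (nat_lit 4)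 (nat_lit 0x1004006008010) (nat_lit 0x1004006008014) (nat_lit 0x1002001) (nat_lit 0x1002001) (nat_lit 0) (nat_lit 0) (nat_lit 2) (nat_lit 0) (nat_lit 0) (nat_lit 5) (nat_lit 1) (nat_lit 0) (nat_lit 1) (nat_lit 0) (nat_lit 1) (nat_lit 0x2000000020000000200000002000000020000000200000002000000020) (.cD (nat_lit 5) (.kS (nat_lit 0) (nat_lit 0x400c010020002010010000002) (nat_lit 4100) (nat_lit 0x800400200d) (nat_lit 0x1001000000400801002000200101001000000400c010020001001004)) (.cD (nat_lit 37) (.kS (nat_lit 0) (nat_lit 0x400c010020002010010000002) (nat_lit 4228) (nat_lit 0x800400200d) (nat_lit 0x1001000000400801002000200101001000000400c010020009001004)) (.cD (nat_lit 69) (.kS (nat_lit 0) (nat_lit 0x400c010020002010010000002) (nat_lit 4164) (nat_lit 0x800400200d) (nat_lit 0x1001000000400801002000200101001000000400c010020011001004)) (.cD (nat_lit 101) (.kS (nat_lit 0) (nat_lit 0x400c010020002010010000002) (nat_lit 4292) (nat_lit 0x800400200d) (nat_lit 0x1001000000400801002000200101001000000400c010020019001004))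 (.cD (nat_lit 133) (.kS (nat_lit 0) (nat_lit 0x400c010020002010010000002) (nat_lit 4260) (nat_lit 0x800400200d) (nat_lit 0x1001000000400801002000200101001000000400c01002000d001004)) (.cD (nat_lit 165) (.kS (nat_lit 0) (nat_lit 0x400c010020002010010000002) (nat_lit 4132) (nat_lit 0x800400200d) (nat_lit 0x1001000000400801002000200101001000000400c010020005001004)) (.cD (nat_lit 197) (.dfs (nat_lit 8) (nat_lit 0x100800c010020) (nat_lit 0x100800c010030) (nat_lit 0x1004002001) (nat_lit 0x1004002001) (nat_lit 0) (nat_lit 0) (nat_lit 2) (nat_lit 0) (nat_lit 0) (nat_lit 8) (nat_lit 1) (nat_lit 0) (nat_lit 1) (nat_lit 0) (nat_lit 1) (nat_lit 0x10000000100000001000000010000000100000001000000010000000100) (.cD (nat_lit 8) (.kS (nat_lit 0) (nat_lit 0x8018020040002010010000002) (nat_lit 0x10e40c10a8) (nat_lit 0x800400200d01000800400a00102001000800c002001) (nat_lit 0x1001000000801002004000400200100101001000000801802004003a034019001004)) (.cD (nat_lit 40) (.iso x320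 s630 (nat_lit 0) (nat_lit 0x11000800400200100080040020c1) (nat_lit 0x1000800400200100080040020c1) [(nat_lit 0x40020010008034002001001001), (nat_lit 0x40020010008004002001003001)] (.cut (nat_lit 0))) (.cD (nat_lit 72) (.kS (nat_lit 0) (nat_lit 0x8018020040002010010000002) (nat_lit 0x10e40c10e8) (nat_lit 0x800400200d01000800400a00102001000800c002001) (nat_lit 0x1001000000801002004000400200100101001000000801802004003a034039001004)) (.cD (nat_lit 104) (.kS (nat_lit 0) (nat_lit 0x10018020040002001) (nat_lit 0x10250c10c8) (nat_lit 0x800400200d01000800400a00102001000800c002001) (nat_lit 0x1800802004002a03602900100801002004000400200100101001802004000e034031001003)) (.cD (nat_lit 136) (.kS (nat_lit 0) (nat_lit 0x2004008010005002002000002) (nat_lit 4136) (nat_lit 0x8004002003) (nat_lit 0x8010020040001001002002000002004008010001006003)) (.cD (nat_lit 168) (.kS (nat_lit 0) (nat_lit 0x8018020040002010010000002) (nat_lit 0x10e40c1088) (nat_lit 0x800400200d01000800400a00102001000800c002001)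 (nat_lit 0x1001000000801002004000400200100101001000000801802004003a034011001004)) (.cD (nat_lit 200) (.kS (nat_lit 0) (nat_lit 0x10018020040002001) (nat_lit 0x10250c10e8) (nat_lit 0x800400200d01000800400a00102001000800c002001) (nat_lit 0x1800802004002a03603100100801002004000400200100101001802004000e034039001003)) (.cD (nat_lit 232) (.kS (nat_lit 0) (nat_lit 0x8018020040002010010000002) (nat_lit 0x10e40c10c8) (nat_lit 0x800400200d01000800400a00102001000800c002001) (nat_lit 0x1001000000801002004000400200100101001000000801802004003a034031001004)) .nil))))))))) (.cD (nat_lit 229) (.kS (nat_lit 0) (nat_lit 0x800c010020002001) (nat_lit 4261) (nat_lit 0x800400200d) (nat_lit 0xc00401002001500100400801002000200100800c01002000f001003)) .nil))))))))) .nil))))))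
theorem c631 : (chk [(x320, s630)] [g13] p631).n x320 s631 = true := by decide +kernel
noncomputable def p632 : Pf := (.ext (nat_lit 0) (nat_lit 0) (nat_lit 0x1100040080020) (nat_lit 0x10008004002001002002000002) (nat_lit 0x2003004008) (nat_lit 4097) (nat_lit 4100) (nat_lit 0xb004002001) (.dfs (nat_lit 1) (nat_lit 0x1002003004008) (nat_lit 0x100200300400b) (nat_lit 4097) (nat_lit 4097) (nat_lit 0) (nat_lit 0) (nat_lit 2) (nat_lit 0) (nat_lit 0) (nat_lit 4) (nat_lit 1) (nat_lit 0) (nat_lit 1) (nat_lit 0) (nat_lit 1) (nat_lit 0) .nil))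
theorem c632 : (chk [] [] p632).n x321 s632 = true := by decide +kernel
noncomputable def p633 : Pf := (.ext (nat_lit 0) (nat_lit 0) (nat_lit 0x1100040080020) (nat_lit 0x10008004002001002002000002) (nat_lit 0x2003004008) (nat_lit 4097) (nat_lit 4100) (nat_lit 0xb004002001) (.dfs (nat_lit 1) (nat_lit 0x1002003004008) (nat_lit 0x100200300400b) (nat_lit 4097) (nat_lit 4097) (nat_lit 4) (nat_lit 0) (nat_lit 2) (nat_lit 0) (nat_lit 0) (nat_lit 4) (nat_lit 1) (nat_lit 0) (nat_lit 1) (nat_lit 0) (nat_lit 1) (nat_lit 0) .nil))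
theorem c633 : (chk [] [] p633).n x322 s633 = true := by decide +kernel
noncomputable def p634 : Pf := (.ext (nat_lit 0) (nat_lit 0) (nat_lit 0x1100040080020) (nat_lit 0x10008004002001002002000002) (nat_lit 0x2003004008) (nat_lit 4097) (nat_lit 4100) (nat_lit 0xb004002001) (.dfs (nat_lit 1) (nat_lit 0x1002003004008) (nat_lit 0x100200300400b) (nat_lit 4097) (nat_lit 4097) (nat_lit 4) (nat_lit 0) (nat_lit 2) (nat_lit 0) (nat_lit 0) (nat_lit 4) (nat_lit 1) (nat_lit 0) (nat_lit 1) (nat_lit 0) (nat_lit 1) (nat_lit 0) .nil))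
theorem c634 : (chk [] [] p634).n x323 s634 = true := by decide +kernel
noncomputable def p635 : Pf := (.ext (nat_lit 0) (nat_lit 0) (nat_lit 0x1100040080020) (nat_lit 0x10008004002001002002000002) (nat_lit 0x2003004008) (nat_lit 4097) (nat_lit 4100) (nat_lit 0xb004002001) (.dfs (nat_lit 1) (nat_lit 0x1002003004008) (nat_lit 0x100200300400b) (nat_lit 4097) (nat_lit 4097) (nat_lit 2) (nat_lit 0) (nat_lit 2) (nat_lit 0) (nat_lit 0) (nat_lit 4) (nat_lit 1) (nat_lit 0) (nat_lit 1) (nat_lit 0) (nat_lit 1) (nat_lit 0) .nil))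
theorem c635 : (chk [] [] p635).n x324 s635 = true := by decide +kernel
noncomputable def p636 : Pf := (.ext (nat_lit 0) (nat_lit 0) (nat_lit 0x1100040080020) (nat_lit 0x10008004002001002002000002) (nat_lit 0x2003004008) (nat_lit 4097) (nat_lit 4100) (nat_lit 0xb004002001) (.dfs (nat_lit 1) (nat_lit 0x1002003004008) (nat_lit 0x100200300400b) (nat_lit 4097) (nat_lit 4097) (nat_lit 2) (nat_lit 0) (nat_lit 2) (nat_lit 0) (nat_lit 0) (nat_lit 4) (nat_lit 1) (nat_lit 0) (nat_lit 1) (nat_lit 0) (nat_lit 1) (nat_lit 0) .nil))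
theorem c636 : (chk [] [] p636).n x325 s636 = true := by decide +kernel
noncomputable def p637 : Pf := (.ext (nat_lit 0) (nat_lit 0) (nat_lit 0x1100040080020) (nat_lit 0x10008004002001002002000002) (nat_lit 0x2003004008) (nat_lit 4097) (nat_lit 4100) (nat_lit 0xb004002001) (.dfs (nat_lit 1) (nat_lit 0x1002003004008) (nat_lit 0x100200300400b) (nat_lit 4097) (nat_lit 4097) (nat_lit 6) (nat_lit 0) (nat_lit 2) (nat_lit 0) (nat_lit 0) (nat_lit 4) (nat_lit 1) (nat_lit 0) (nat_lit 1) (nat_lit 0) (nat_lit 1) (nat_lit 0) .nil))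
theorem c637 : (chk [] [] p637).n x326 s637 = true := by decide +kernel
noncomputable def p638 : Pf := (.ext (nat_lit 0) (nat_lit 0) (nat_lit 0x1100040080020) (nat_lit 0x10008004002001002002000002) (nat_lit 0x2003004008) (nat_lit 4097) (nat_lit 4100) (nat_lit 0xb004002001) (.dfs (nat_lit 1) (nat_lit 0x1002003004008) (nat_lit 0x100200300400b) (nat_lit 4097) (nat_lit 4097) (nat_lit 6) (nat_lit 0) (nat_lit 2) (nat_lit 0) (nat_lit 0) (nat_lit 4) (nat_lit 1) (nat_lit 0) (nat_lit 1) (nat_lit 0) (nat_lit 1) (nat_lit 0) .nil))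
theorem c638 : (chk [] [] p638).n x327 s638 = true := by decide +kernel
noncomputable def p639 : Pf := (.lft (nat_lit 0x80020040010002004008001003001) (nat_lit 0) (nat_lit 0x10e80e00c80c00a80a0088080) (nat_lit 0x80040020010008004002001) (.extn a9 (nat_lit 0x80040020010008004002001) (nat_lit 0x1010040020080) (nat_lit 2) (nat_lit 0) (nat_lit 0) (nat_lit 0) (nat_lit 0x1000000010000000100000001) (.cE (nat_lit 0) b13 (nat_lit 0) (.cut (nat_lit 0)) (.cut (nat_lit 1)) (.cE (nat_lit 32) b14 (nat_lit 0) (.cut (nat_lit 2)) (.cut (nat_lit 3)) (.cE (nat_lit 64) b15 (nat_lit 0) (.cut (nat_lit 4)) (.cut (nat_lit 5)) (.cE (nat_lit 96) b16 (nat_lit 0) (.cut (nat_lit 6)) (.cut (nat_lit 7)) .nil))))))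
theorem c639 : (chk [(x320, s631), (x321, s632), (x322, s633), (x323, s634), (x324, s635), (x325, s636), (x326, s637), (x327, s638)] [] p639).n x319 s639 = true := by decide +kernel
noncomputable def p640 : Pf := (.ext (nat_lit 1) (nat_lit 0) (nat_lit 0x1080060040008) (nat_lit 0x14008004002005080060020002001002) (nat_lit 0x200300400a) (nat_lit 0x1014002001) (nat_lit 0x1017001003) (nat_lit 0xe00400200100a004002001009004002001) (.dfs (nat_lit 1) (nat_lit 0x100200300400a) (nat_lit 0x100200300400b) (nat_lit 0x1008001) (nat_lit 0x1009001) (nat_lit 0) (nat_lit 0) (nat_lit 2) (nat_lit 1) (nat_lit 0) (nat_lit 3) (nat_lit 1) (nat_lit 0) (nat_lit 4224) (nat_lit 128) (nat_lit 0x100000300000b00002300002b) (nat_lit 0x80800000808) (.cD (nat_lit 3) (.dfs (nat_lit 2) (nat_lit 0x1004006008014) (nat_lit 0x1004006008010) (nat_lit 0x1010002001) (nat_lit 0x1014002001) (nat_lit 0) (nat_lit 0) (nat_lit 2) (nat_lit 1) (nat_lit 0) (nat_lit 1) (nat_lit 1) (nat_lit 0) (nat_lit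 1) (nat_lit 0) (nat_lit 1) (nat_lit 0x202000002020000020200000202) (.cD (nat_lit 1) (.dfs (nat_lit 20) (nat_lit 0x100800c010028) (nat_lit 0x100800c010030) (nat_lit 0x1020004002001) (nat_lit 0x1038004002001) (nat_lit 0) (nat_lit 0) (nat_lit 2) (nat_lit 1) (nat_lit 0) (nat_lit 23) (nat_lit 1) (nat_lit 0) (nat_lit 1) (nat_lit 0) (nat_lit 1) (nat_lit 0x80800000808000008080000080800000) (.cD (nat_lit 23) (.cut (nat_lit 0)) (.cD (nat_lit 31) (.kS (nat_lit 1) (nat_lit 0x2004008014007002020060080003002) (nat_lit 4118) (nat_lit 0x8004002003) (nat_lit 0x801002004000300100a0200600b001c003002004008014001008003)) (.cD (nat_lit 55) (.kS (nat_lit 1) (nat_lit 0x8018020068002004004000002) (nat_lit 0x100100307d) (nat_lit 0x800400200901000800400a00102001000801c002001) (nat_lit 0x400400000801002004000400200100100400400000801802006800400603d001004)) (.cD (nat_lit 63) (.kS (nat_lit 1) (nat_lit 0x8018020068002004004000002) (nat_lit 0x1001003035) (nat_lit 0x800400200901000800400a00102001000801c002001)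 (nat_lit 0x4004000008010020040004002001001004004000008018020068004006035001004)) (.cD (nat_lit 87) (.kS (nat_lit 1) (nat_lit 0x8018020068002004004000002) (nat_lit 0x100100301d) (nat_lit 0x800400200901000800400a00102001000801c002001) (nat_lit 0x400400000801002004000400200100100400400000801802006800400601d001004)) (.cD (nat_lit 95) (.kS (nat_lit 1) (nat_lit 0x8018020068002004004000002) (nat_lit 0x1001003055) (nat_lit 0x800400200901000800400a00102001000801c002001) (nat_lit 0x4004000008010020040004002001001004004000008018020068004006015001004)) (.cD (nat_lit 119) (.kS (nat_lit 1) (nat_lit 0x10018020050002001) (nat_lit 0x1002003075) (nat_lit 0x800400200901000800400a00102001000801c002001) (nat_lit 0x18008020048006004027001008010020040004002001001010018020050002006025001003)) (.cD (nat_lit 127) (.kS (nat_lit 1) (nat_lit 0x10018020050002001) (nat_lit 0x100200303d) (nat_lit 0x800400200901000800400a00102001000801c002001) (nat_lit 0x1800802004800600403f00100801002004000400200100101001802005000200602d001003))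 .nil))))))))) (.cD (nat_lit 9) (.kS (nat_lit 1) (nat_lit 0x400c010034002004004000002) (nat_lit 0x1001043) (nat_lit 0x800400200901000800400a001) (nat_lit 0x400400000400801002000200100100400400000400c01003400200b001004)) (.cD (nat_lit 33) (.kS (nat_lit 1) (nat_lit 0x400c010034002004004000002) (nat_lit 0x100102b) (nat_lit 0x800400200901000800400a001) (nat_lit 0x400400000400801002000200100100400400000400c01003400201f001004)) (.cD (nat_lit 41) (.dfs (nat_lit 20) (nat_lit 0x100800c010028) (nat_lit 0x100800c010030) (nat_lit 0x1020004002001) (nat_lit 0x1038004002001) (nat_lit 0) (nat_lit 0) (nat_lit 2) (nat_lit 1) (nat_lit 0) (nat_lit 23) (nat_lit 1) (nat_lit 0) (nat_lit 1) (nat_lit 0) (nat_lit 1) (nat_lit 0x80800000808000008080000080800000) (.cD (nat_lit 23) (.kS (nat_lit 1) (nat_lit 0x2004008014007002020060080003002) (nat_lit 4118) (nat_lit 0x8004002003) (nat_lit 0x801002004000300100a0200600b001c003002004008014001008003)) (.cD (nat_lit 31) (.iso x319 s639 (nat_lit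 0) (nat_lit 0x1080040020010008004002021) (nat_lit 0x80040020010008004002021) [(nat_lit 0x4002001000803c012031001080080000002), (nat_lit 0x80040020010008004002041003001), (nat_lit 0x10008004002001005001)] (.cut (nat_lit 0))) (.cD (nat_lit 55) (.kS (nat_lit 1) (nat_lit 0x8018020068002004004000002) (nat_lit 0x100106b07d) (nat_lit 0x800400200901000800400a00102001000801c002001) (nat_lit 0x400400000801002004000400200100100400400000801802006800402e03d001004)) (.cD (nat_lit 63) (.kS (nat_lit 1) (nat_lit 0x8018020068002004004000002) (nat_lit 0x100106b035) (nat_lit 0x800400200901000800400a00102001000801c002001) (nat_lit 0x400400000801002004000400200100100400400000801802006800402e035001004)) (.cD (nat_lit 87) (.kS (nat_lit 1) (nat_lit 0x8018020068002004004000002) (nat_lit 0x100106b01d) (nat_lit 0x800400200901000800400a00102001000801c002001) (nat_lit 0x400400000801002004000400200100100400400000801802006800402e01d001004)) (.cD (nat_lit 95) (.kS (nat_lit 1) (nat_lit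 0x8018020068002004004000002) (nat_lit 0x100106b055) (nat_lit 0x800400200901000800400a00102001000801c002001) (nat_lit 0x400400000801002004000400200100100400400000801802006800402e015001004)) (.cD (nat_lit 119) (.kS (nat_lit 1) (nat_lit 0x10018020050002001) (nat_lit 0x106a06b075) (nat_lit 0x800400200901000800400a00102001000801c002001) (nat_lit 0x1800802004800603c02700100801002004000400200100101001802005002a02e025001003)) (.cD (nat_lit 127) (.kS (nat_lit 1) (nat_lit 0x10018020050002001) (nat_lit 0x106a06b03d) (nat_lit 0x800400200901000800400a00102001000801c002001) (nat_lit 0x1800802004800603c03f00100801002004000400200100101001802005002a02e02d001003)) .nil))))))))) (.cD (nat_lit 65) (.kS (nat_lit 1) (nat_lit 0x400c010034002004004000002) (nat_lit 0x100104b) (nat_lit 0x800400200901000800400a001) (nat_lit 0x400400000400801002000200100100400400000400c01003400200f001004)) (.cD (nat_lit 73) (.dfs (nat_lit 20) (nat_lit 0x100800c010028) (nat_lit 0x100800c010030) (nat_lit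 0x1020004002001) (nat_lit 0x1038004002001) (nat_lit 0) (nat_lit 0) (nat_lit 2) (nat_lit 1) (nat_lit 0) (nat_lit 23) (nat_lit 1) (nat_lit 0) (nat_lit 1) (nat_lit 0) (nat_lit 1) (nat_lit 0x80800000808000008080000080800000) (.cD (nat_lit 23) (.kS (nat_lit 1) (nat_lit 0x10018020050002001) (nat_lit 0x100a00b015) (nat_lit 0x800400200901000800400a00102001000801c002001) (nat_lit 0x1800802004800601c00700100801002004000400200100101001802005000a00e005001003)) (.cD (nat_lit 31) (.kS (nat_lit 1) (nat_lit 0x10018020050002001) (nat_lit 0x100a00b05d) (nat_lit 0x800400200901000800400a00102001000801c002001) (nat_lit 0x1800802004800601c01f00100801002004000400200100101001802005000a00e00d001003)) (.cD (nat_lit 55) (.kS (nat_lit 1) (nat_lit 0x8018020068002004004000002) (nat_lit 0x100100b07d) (nat_lit 0x800400200901000800400a00102001000801c002001) (nat_lit 0x400400000801002004000400200100100400400000801802006800400e03d001004)) (.cD (nat_lit 63) (.kS (nat_lit 1) (nat_lit 0x8018020068002004004000002)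 (nat_lit 0x100100b035) (nat_lit 0x800400200901000800400a00102001000801c002001) (nat_lit 0x400400000801002004000400200100100400400000801802006800400e035001004)) (.cD (nat_lit 87) (.kS (nat_lit 1) (nat_lit 0x8018020068002004004000002) (nat_lit 0x100100b01d) (nat_lit 0x800400200901000800400a00102001000801c002001) (nat_lit 0x400400000801002004000400200100100400400000801802006800400e01d001004)) (.cD (nat_lit 95) (.kS (nat_lit 1) (nat_lit 0x8018020068002004004000002) (nat_lit 0x100100b055) (nat_lit 0x800400200901000800400a00102001000801c002001) (nat_lit 0x400400000801002004000400200100100400400000801802006800400e015001004)) (.cD (nat_lit 119) (.kS (nat_lit 1) (nat_lit 0x2004008014007002020060080003002) (nat_lit 4118) (nat_lit 0x8004002003) (nat_lit 0x801002004000300100a0200600b001c003002004008014001008003)) (.cD (nat_lit 127) (.iso x319 s639 (nat_lit 0) (nat_lit 0x1080040020010008004002041) (nat_lit 0x80040020010008004002041) [(nat_lit 0x4002001000801c012031001080080000002),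 (nat_lit 0x80040020010008004002021003001), (nat_lit 0x10008004002001005001)] (.cut (nat_lit 0))) .nil))))))))) (.cD (nat_lit 97) (.dfs (nat_lit 20) (nat_lit 0x100800c010028) (nat_lit 0x100800c010030) (nat_lit 0x1020004002001) (nat_lit 0x1038004002001) (nat_lit 0) (nat_lit 0) (nat_lit 2) (nat_lit 1) (nat_lit 0) (nat_lit 23) (nat_lit 1) (nat_lit 0) (nat_lit 1) (nat_lit 0) (nat_lit 1) (nat_lit 0x80800000808000008080000080800000) (.cD (nat_lit 23) (.kS (nat_lit 1) (nat_lit 0x10018020050002001) (nat_lit 0x1062063015) (nat_lit 0x800400200901000800400a00102001000801c002001) (nat_lit 0x18008020048006024007001008010020040004002001001010018020050022026005001003)) (.cD (nat_lit 31) (.kS (nat_lit 1) (nat_lit 0x10018020050002001) (nat_lit 0x106206305d) (nat_lit 0x800400200901000800400a00102001000801c002001) (nat_lit 0x1800802004800602401f00100801002004000400200100101001802005002202600d001003)) (.cD (nat_lit 55) (.kS (nat_lit 1) (nat_lit 0x8018020068002004004000002)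 (nat_lit 0x100106307d) (nat_lit 0x800400200901000800400a00102001000801c002001) (nat_lit 0x400400000801002004000400200100100400400000801802006800402603d001004)) (.cD (nat_lit 63) (.kS (nat_lit 1) (nat_lit 0x8018020068002004004000002) (nat_lit 0x1001063035) (nat_lit 0x800400200901000800400a00102001000801c002001) (nat_lit 0x4004000008010020040004002001001004004000008018020068004026035001004)) (.cD (nat_lit 87) (.kS (nat_lit 1) (nat_lit 0x8018020068002004004000002) (nat_lit 0x100106301d) (nat_lit 0x800400200901000800400a00102001000801c002001) (nat_lit 0x400400000801002004000400200100100400400000801802006800402601d001004)) (.cD (nat_lit 95) (.kS (nat_lit 1) (nat_lit 0x8018020068002004004000002) (nat_lit 0x1001063055) (nat_lit 0x800400200901000800400a00102001000801c002001) (nat_lit 0x4004000008010020040004002001001004004000008018020068004026015001004)) (.cD (nat_lit 119) (.iso x319 s639 (nat_lit 0) (nat_lit 0x1080040020010008004002061) (nat_lit 0x80040020010008004002061)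 [(nat_lit 0x40020010008024002001001001), (nat_lit 0x80040020010008004002061003001), (nat_lit 0x10008004002001005001)] (.cut (nat_lit 0))) (.cD (nat_lit 127) (.kS (nat_lit 1) (nat_lit 0x2004008014007002020060080003002) (nat_lit 4118) (nat_lit 0x8004002003) (nat_lit 0x801002004000300100a0200600b001c003002004008014001008003)) .nil))))))))) (.cD (nat_lit 105) (.kS (nat_lit 1) (nat_lit 0x400c010034002004004000002) (nat_lit 0x1001023) (nat_lit 0x800400200901000800400a001) (nat_lit 0x400400000400801002000200100100400400000400c01003400201b001004)) .nil))))))))) (.cD (nat_lit 11) (.dfs (nat_lit 2) (nat_lit 0x1004006008014) (nat_lit 0x1004006008010) (nat_lit 0x1010002001) (nat_lit 0x1014002001) (nat_lit 0) (nat_lit 0) (nat_lit 2) (nat_lit 1) (nat_lit 0) (nat_lit 1) (nat_lit 1) (nat_lit 0) (nat_lit 1) (nat_lit 0) (nat_lit 1) (nat_lit 0x202000002020000020200000202) (.cD (nat_lit 1) (.kS (nat_lit 1) (nat_lit 0x400c010034002004004000002) (nat_lit 0x1041043) (nat_lit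 0x800400200901000800400a001) (nat_lit 0x400400000400801002000200100100400400000400c01003400a00b001004)) (.cD (nat_lit 9) (.kS (nat_lit 1) (nat_lit 0x800c010028002001) (nat_lit 4162) (nat_lit 0x8004002009) (nat_lit 0xc00401002400700100400801002000200100800c010028009001003)) (.cD (nat_lit 33) (.kS (nat_lit 1) (nat_lit 0x800c010028002001) (nat_lit 4138) (nat_lit 0x8004002009) (nat_lit 0xc00401002400700100400801002000200100800c01002801d001003)) (.cD (nat_lit 41) (.kS (nat_lit 1) (nat_lit 0x400c010034002004004000002) (nat_lit 0x104102b) (nat_lit 0x800400200901000800400a001) (nat_lit 0x400400000400801002000200100100400400000400c01003400a01f001004)) (.cD (nat_lit 65) (.kS (nat_lit 1) (nat_lit 0x800c010028002001) (nat_lit 4170) (nat_lit 0x8004002009) (nat_lit 0xc00401002400700100400801002000200100800c01002800d001003)) (.cD (nat_lit 73) (.kS (nat_lit 1) (nat_lit 0x400c010034002004004000002) (nat_lit 0x104104b) (nat_lit 0x800400200901000800400a001) (nat_lit 0x400400000400801002000200100100400400000400c01003400a00f001004))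 (.cD (nat_lit 97) (.kS (nat_lit 1) (nat_lit 0x400c010034002004004000002) (nat_lit 0x1041023) (nat_lit 0x800400200901000800400a001) (nat_lit 0x400400000400801002000200100100400400000400c01003400a01b001004)) (.cD (nat_lit 105) (.kS (nat_lit 1) (nat_lit 0x800c010028002001) (nat_lit 4130) (nat_lit 0x8004002009) (nat_lit 0xc00401002400700100400801002000200100800c010028019001003)) .nil))))))))) (.cD (nat_lit 35) (.dfs (nat_lit 2) (nat_lit 0x1004006008014) (nat_lit 0x1004006008010) (nat_lit 0x1010002001) (nat_lit 0x1014002001) (nat_lit 0) (nat_lit 0) (nat_lit 2) (nat_lit 1) (nat_lit 0) (nat_lit 1) (nat_lit 1) (nat_lit 0) (nat_lit 1) (nat_lit 0) (nat_lit 1) (nat_lit 0x202000002020000020200000202) (.cD (nat_lit 1) (.kS (nat_lit 1) (nat_lit 0x400c010034002004004000002) (nat_lit 0x102902b) (nat_lit 0x800400200901000800400a001) (nat_lit 0x400400000400801002000200100100400400000400c01003401e01f001004)) (.cD (nat_lit 9) (.kS (nat_lit 1) (nat_lit 0x400c010034002004004000002)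 (nat_lit 0x102906b) (nat_lit 0x800400200901000800400a001) (nat_lit 0x400400000400801002000200100100400400000400c01003401e017001004)) (.cD (nat_lit 33) (.kS (nat_lit 1) (nat_lit 0x400c010034002004004000002) (nat_lit 0x1029003) (nat_lit 0x800400200901000800400a001) (nat_lit 0x400400000400801002000200100100400400000400c01003401e003001004)) (.cD (nat_lit 41) (.kS (nat_lit 1) (nat_lit 0x400c010034002004004000002) (nat_lit 0x1029043) (nat_lit 0x800400200901000800400a001) (nat_lit 0x400400000400801002000200100100400400000400c01003401e00b001004)) (.cD (nat_lit 65) (.kS (nat_lit 1) (nat_lit 0x400c010034002004004000002) (nat_lit 0x1029063) (nat_lit 0x800400200901000800400a001) (nat_lit 0x400400000400801002000200100100400400000400c01003401e013001004)) (.cD (nat_lit 73) (.kS (nat_lit 1) (nat_lit 0x400c010034002004004000002) (nat_lit 0x1029023) (nat_lit 0x800400200901000800400a001) (nat_lit 0x400400000400801002000200100100400400000400c01003401e01b001004)) (.cD (nat_lit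 97) (.kS (nat_lit 1) (nat_lit 0x400c010034002004004000002) (nat_lit 0x102904b) (nat_lit 0x800400200901000800400a001) (nat_lit 0x400400000400801002000200100100400400000400c01003401e00f001004)) (.cD (nat_lit 105) (.kS (nat_lit 1) (nat_lit 0x400c010034002004004000002) (nat_lit 0x102900b) (nat_lit 0x800400200901000800400a001) (nat_lit 0x400400000400801002000200100100400400000400c01003401e007001004)) .nil))))))))) (.cD (nat_lit 43) (.dfs (nat_lit 2) (nat_lit 0x1004006008014) (nat_lit 0x1004006008010) (nat_lit 0x1010002001) (nat_lit 0x1014002001) (nat_lit 0) (nat_lit 0) (nat_lit 2) (nat_lit 1) (nat_lit 0) (nat_lit 1) (nat_lit 1) (nat_lit 0) (nat_lit 1) (nat_lit 0) (nat_lit 1) (nat_lit 0x202000002020000020200000202) (.cD (nat_lit 1) (.kS (nat_lit 1) (nat_lit 0x400c010034002004004000002) (nat_lit 0x106906b) (nat_lit 0x800400200901000800400a001) (nat_lit 0x400400000400801002000200100100400400000400c010034016017001004)) (.cD (nat_lit 9) (.kS (nat_lit 1) (nat_lit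 0x400c010034002004004000002) (nat_lit 0x106902b) (nat_lit 0x800400200901000800400a001) (nat_lit 0x400400000400801002000200100100400400000400c01003401601f001004)) (.cD (nat_lit 33) (.kS (nat_lit 1) (nat_lit 0x400c010034002004004000002) (nat_lit 0x1069043) (nat_lit 0x800400200901000800400a001) (nat_lit 0x400400000400801002000200100100400400000400c01003401600b001004)) (.cD (nat_lit 41) (.kS (nat_lit 1) (nat_lit 0x400c010034002004004000002) (nat_lit 0x1069003) (nat_lit 0x800400200901000800400a001) (nat_lit 0x400400000400801002000200100100400400000400c010034016003001004)) (.cD (nat_lit 65) (.kS (nat_lit 1) (nat_lit 0x400c010034002004004000002) (nat_lit 0x1069023) (nat_lit 0x800400200901000800400a001) (nat_lit 0x400400000400801002000200100100400400000400c01003401601b001004)) (.cD (nat_lit 73) (.kS (nat_lit 1) (nat_lit 0x400c010034002004004000002) (nat_lit 0x1069063) (nat_lit 0x800400200901000800400a001) (nat_lit 0x400400000400801002000200100100400400000400c010034016013001004))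 (.cD (nat_lit 97) (.kS (nat_lit 1) (nat_lit 0x400c010034002004004000002) (nat_lit 0x106900b) (nat_lit 0x800400200901000800400a001) (nat_lit 0x400400000400801002000200100100400400000400c010034016007001004)) (.cD (nat_lit 105) (.kS (nat_lit 1) (nat_lit 0x400c010034002004004000002) (nat_lit 0x106904b) (nat_lit 0x800400200901000800400a001) (nat_lit 0x400400000400801002000200100100400400000400c01003401600f001004)) .nil))))))))) .nil))))))
theorem c640 : (chk [(x319, s639)] [g8] p640).n x319 s640 = true := by decide +kernel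
noncomputable def p641 : Pf := (.anz (nat_lit 64) (.anz (nat_lit 128) (.anz (nat_lit 192) (.anc (nat_lit 80) (nat_lit 0x3000200200200002a00200200200003200102600300100100003a003001001000009) (nat_lit 0x1104080010004) (.dfs (nat_lit 128) (nat_lit 1) (nat_lit 1) (nat_lit 4097) (nat_lit 4097) (nat_lit 0) (nat_lit 0) (nat_lit 0) (nat_lit 0) (nat_lit 0) (nat_lit 0) (nat_lit 1) (nat_lit 0) (nat_lit 0x1100010008002001) (nat_lit 0x100010008002001) (nat_lit 0x10010010030010040010000020020020040020040040000100020100010200030200010410030410040410000420020420040420040440000500020500010600030600030850040850040050010a10020860040860040060000120020140030240030c50040c50040450010e10020c60040c6004046000052002054003064) (nat_lit 0x1000000000000000100000001000100170000000100010016) (.cD (nat_lit 128) (.dfs (nat_lit 260) (nat_lit 1) (nat_lit 1) (nat_lit 0x1002001) (nat_lit 0x1002001) (nat_lit 1) (nat_lit 0) (nat_lit 0) (nat_lit 0) (nat_lit 0) (nat_lit 0) (nat_lit 1) (nat_lit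 0) (nat_lit 0x1100010008004002001) (nat_lit 0x100010008004002001) (nat_lit 0x100010400110400210400310400000b00100b00300b00500b00001800301800501800003b00103b00403b00503b0011a40021a40031a400011400211400311400318400114400508f00508b00500f00301c00501c0050980000580050bb0050bf00503f0031300031240011e4) (nat_lit 0x100000000000000000000000000000000000000000000000000800000001000800) (.cD (nat_lit 260) (.czs (nat_lit 260) z15 (nat_lit 32) (.dfs (nat_lit 4) (nat_lit 4097) (nat_lit 4099) (nat_lit 0x1004002) (nat_lit 0x1004002) (nat_lit 0) (nat_lit 0) (nat_lit 3) (nat_lit 0) (nat_lit 0) (nat_lit 4) (nat_lit 1) (nat_lit 0) (nat_lit 4356) (nat_lit 388) (nat_lit 0x1000004000044000014000024000054000064) (nat_lit 0x10001000100000001000100010) (.cD (nat_lit 4) (.dfs (nat_lit 16) (nat_lit 4098) (nat_lit 4098) (nat_lit 0x1008004001) (nat_lit 0x1008004001) (nat_lit 0) (nat_lit 0) (nat_lit 3) (nat_lit 0) (nat_lit 0) (nat_lit 0) (nat_lit 1) (nat_lit 0) (nat_lit 0x1020010) (nat_lit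 0x20010) (nat_lit 0x1001010000020001050000060) (nat_lit 0x1000000000000000100000001000100010000000100010000) (.cD (nat_lit 16) (.kA true (nat_lit 0x1008019006001001)) (.cD (nat_lit 32) (.kA false (nat_lit 0x1008018006002001)) (.cD (nat_lit 80) (.kA true (nat_lit 0x1008019006001001)) (.cD (nat_lit 96) (.kA false (nat_lit 0x19008018006002001)) (.cD (nat_lit 64) (.kc (nat_lit 192) (nat_lit 0x19001001)) (.cD (nat_lit 128) (.kc (nat_lit 144) (nat_lit 0x9001001)) (.cD (nat_lit 192) (.kc (nat_lit 64) (nat_lit 0x11001001)) .nil)))))))) (.cD (nat_lit 68) (.anc (nat_lit 16) (nat_lit 0x3800500100100000900201200600100100000a005001001000007) (nat_lit 4352) (.dfs (nat_lit 256) (nat_lit 1) (nat_lit 1) (nat_lit 4097) (nat_lit 4097) (nat_lit 0) (nat_lit 0) (nat_lit 0) (nat_lit 0) (nat_lit 0) (nat_lit 0) (nat_lit 1) (nat_lit 0) (nat_lit 0x1100010008004002001) (nat_lit 0x100010008004002001) (nat_lit 0x100010000110000210000310000100800400800500800100900400900500900502800102900402900502900002a00302a00502a00502c00003800303800503800003a00303a00503a00506c0050a80011a00021a00031a000011000211000311000318000114000400c00500c00508800104800408900508900508d0010e90040ad0050ad00502d0010c90030ae0050ae00502e0000fa00303c00503c0050b80000780030ba0050ba0050be0000ea0031340031200011e0)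 (nat_lit 0x10000000000000000000001000000000000001000000000000500170000000300) (.cD (nat_lit 256) (.kF (nat_lit 16) (nat_lit 0x2001001001)) (.cD (nat_lit 8) (.kb (nat_lit 8) (nat_lit 0x1002001) (nat_lit 0x1080040020008004001)) (.cD (nat_lit 9) (.kb (nat_lit 9) (nat_lit 0x1002001) (nat_lit 0x1080040020008004001)) (.cD (nat_lit 40) (.kb (nat_lit 40) (nat_lit 0x1002001) (nat_lit 0x1080040020010008004)) (.cD (nat_lit 41) (.kb (nat_lit 41) (nat_lit 0x1002001) (nat_lit 0x1080040020008004001)) (.cD (nat_lit 42) (.kb (nat_lit 42) (nat_lit 0x1002001) (nat_lit 0x1080040010028004002)) (.cD (nat_lit 44) (.kb (nat_lit 44) (nat_lit 0x1002001) (nat_lit 0x1080040020010008004)) (.cD (nat_lit 56) (.kb (nat_lit 56) (nat_lit 0x1002001) (nat_lit 0x1080040010028004002)) (.cD (nat_lit 58) (.kb (nat_lit 58) (nat_lit 0x1002001) (nat_lit 0x1080040010028004002)) (.cD (nat_lit 108) (.kb (nat_lit 108) (nat_lit 0x1002001) (nat_lit 0x1080040020010008004)) (.cD (nat_lit 168) (.kb (nat_lit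 168) (nat_lit 0x1002001) (nat_lit 0x1080040020010008004)) .nil))))))))))))) (.cD (nat_lit 20) (.dfs (nat_lit 16) (nat_lit 4098) (nat_lit 4098) (nat_lit 0x1008004001) (nat_lit 0x1008004001) (nat_lit 0) (nat_lit 0) (nat_lit 3) (nat_lit 0) (nat_lit 0) (nat_lit 0) (nat_lit 1) (nat_lit 0) (nat_lit 4388) (nat_lit 420) (nat_lit 0x1000010000050) (nat_lit 0x1000000000000000100000000000100010000000000010000) (.cD (nat_lit 16) (.kA true (nat_lit 0x1008019007001002002000002)) (.cD (nat_lit 80) (.kA true (nat_lit 0x19008010006002002002000002)) (.cD (nat_lit 64) (.kc (nat_lit 192) (nat_lit 0x19001001)) (.cD (nat_lit 128) (.kc (nat_lit 144) (nat_lit 0x9001001)) (.cD (nat_lit 192) (.kc (nat_lit 64) (nat_lit 0x11001001)) .nil)))))) (.cD (nat_lit 36) (.dfs (nat_lit 16) (nat_lit 4098) (nat_lit 4098) (nat_lit 0x1008004001) (nat_lit 0x1008004001) (nat_lit 0) (nat_lit 0) (nat_lit 3) (nat_lit 0) (nat_lit 0) (nat_lit 0) (nat_lit 1) (nat_lit 0) (nat_lit 4500) (nat_lit 276) (nat_lit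 0x1000020000060) (nat_lit 0x1000000000000000100000001000000010000000100000000) (.cD (nat_lit 32) (.kA false (nat_lit 0x2002000001008018007002002)) (.cD (nat_lit 96) (.kA false (nat_lit 0x19008018006002005005000002)) (.cD (nat_lit 64) (.kc (nat_lit 192) (nat_lit 0x19001001)) (.cD (nat_lit 128) (.kc (nat_lit 144) (nat_lit 0x9001001)) (.cD (nat_lit 192) (.kc (nat_lit 64) (nat_lit 0x11001001)) .nil)))))) (.cD (nat_lit 84) (.anc (nat_lit 16) (nat_lit 0xc00100100100000d002001001000004) (nat_lit 4352) (.dfs (nat_lit 256) (nat_lit 1) (nat_lit 1) (nat_lit 4097) (nat_lit 4097) (nat_lit 0) (nat_lit 0) (nat_lit 0) (nat_lit 0) (nat_lit 0) (nat_lit 0) (nat_lit 1) (nat_lit 0) (nat_lit 0x1100010008004002001) (nat_lit 0x100010008004002001) (nat_lit 0x100010000110000210000310000100800400800500800100900400900500900502800102900402900502900002a00302a00502a00502c00003800303800503800003a00303a00503a00506c0050a80011a00021a00031a000011000211000311000318000114000400c00500c00508800104800408900508900508d0010e90040ad0050ad00502d0010c90030ae0050ae00502e0000fa00303c00503c0050b80000780030ba0050ba0050be0000ea0031340031200011e0)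 (nat_lit 0x10000000000000000000001000000000000001000000000000500170000000300) (.cD (nat_lit 256) (.kF (nat_lit 16) (nat_lit 0x2001001001)) (.cD (nat_lit 8) (.kb (nat_lit 8) (nat_lit 0x1002001) (nat_lit 0x1080040020008004001)) (.cD (nat_lit 9) (.kb (nat_lit 9) (nat_lit 0x1002001) (nat_lit 0x1080040020008004001)) (.cD (nat_lit 40) (.kb (nat_lit 40) (nat_lit 0x1002001) (nat_lit 0x1080040020010008004)) (.cD (nat_lit 41) (.kb (nat_lit 41) (nat_lit 0x1002001) (nat_lit 0x1080040020008004001)) (.cD (nat_lit 42) (.kb (nat_lit 42) (nat_lit 0x1002001) (nat_lit 0x1080040010028004002)) (.cD (nat_lit 44) (.kb (nat_lit 44) (nat_lit 0x1002001) (nat_lit 0x1080040020010008004)) (.cD (nat_lit 56) (.kb (nat_lit 56) (nat_lit 0x1002001) (nat_lit 0x1080040010028004002)) (.cD (nat_lit 58) (.kb (nat_lit 58) (nat_lit 0x1002001) (nat_lit 0x1080040010028004002)) (.cD (nat_lit 108) (.kb (nat_lit 108) (nat_lit 0x1002001) (nat_lit 0x1080040020010008004)) (.cD (nat_lit 168) (.kb (nat_lit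 168) (nat_lit 0x1002001) (nat_lit 0x1080040020010008004)) .nil))))))))))))) (.cD (nat_lit 100) (.anc (nat_lit 16) (nat_lit 0xc00100100100000d002002002000010003010006006) (nat_lit 4352) (.dfs (nat_lit 256) (nat_lit 1) (nat_lit 1) (nat_lit 4097) (nat_lit 4097) (nat_lit 0) (nat_lit 0) (nat_lit 0) (nat_lit 0) (nat_lit 0) (nat_lit 0) (nat_lit 1) (nat_lit 0) (nat_lit 0x1100010008004002001) (nat_lit 0x100010008004002001) (nat_lit 0x100010000110000210000310000100800400800500800100900400900500900502800102900402900502900002a00302a00502a00502c00003800303800503800003a00303a00503a00506c0050a80011a00021a00031a000011000211000311000318000114000400c00500c00508800104800408900508900508d0010e90040ad0050ad00502d0010c90030ae0050ae00502e0000fa00303c00503c0050b80000780030ba0050ba0050be0000ea0031340031200011e0) (nat_lit 0x10000000000000000000001000000000000001000000000000500170000000300) (.cD (nat_lit 256) (.kF (nat_lit 16) (nat_lit 0x2001001001)) (.cD (nat_lit 8) (.kb (nat_lit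 8) (nat_lit 0x1002001) (nat_lit 0x1080040020008004001)) (.cD (nat_lit 9) (.kb (nat_lit 9) (nat_lit 0x1002001) (nat_lit 0x1080040020008004001)) (.cD (nat_lit 40) (.kb (nat_lit 40) (nat_lit 0x1002001) (nat_lit 0x1080040020010008004)) (.cD (nat_lit 41) (.kb (nat_lit 41) (nat_lit 0x1002001) (nat_lit 0x1080040020008004001)) (.cD (nat_lit 42) (.kb (nat_lit 42) (nat_lit 0x1002001) (nat_lit 0x1080040010028004002)) (.cD (nat_lit 44) (.kb (nat_lit 44) (nat_lit 0x1002001) (nat_lit 0x1080040020010008004)) (.cD (nat_lit 56) (.kb (nat_lit 56) (nat_lit 0x1002001) (nat_lit 0x1080040010028004002)) (.cD (nat_lit 58) (.kb (nat_lit 58) (nat_lit 0x1002001) (nat_lit 0x1080040010028004002)) (.cD (nat_lit 108) (.kb (nat_lit 108) (nat_lit 0x1002001) (nat_lit 0x1080040020010008004)) (.cD (nat_lit 168) (.kb (nat_lit 168) (nat_lit 0x1002001) (nat_lit 0x1080040020010008004)) .nil))))))))))))) .nil)))))))) (.cD (nat_lit 11) (.czs (nat_lit 11) z10 (nat_lit 64) (.dfs (nat_lit 4) (nat_lit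 4097) (nat_lit 4099) (nat_lit 0x1004002) (nat_lit 0x1004002) (nat_lit 0) (nat_lit 0) (nat_lit 3) (nat_lit 0) (nat_lit 0) (nat_lit 2) (nat_lit 1) (nat_lit 0) (nat_lit 0x101a00b) (nat_lit 0x9e08b) (nat_lit 0x10000020010020000210010210000420010420000610010610010820010a10010c20010e1) (nat_lit 0x2000000040000000200000004) (.cD (nat_lit 2) (.kb (nat_lit 141) (nat_lit 0x3002001) (nat_lit 0x1080040020008004001)) (.cD (nat_lit 33) (.kb (nat_lit 46) (nat_lit 0x3002001) (nat_lit 0x1080040010028004002)) (.cD (nat_lit 66) (.kb (nat_lit 205) (nat_lit 0x3002001) (nat_lit 0x1080040020008004001)) (.cD (nat_lit 97) (.kb (nat_lit 110) (nat_lit 0x3002001) (nat_lit 0x1080040010028004002)) .nil)))))) (.cD (nat_lit 24) (.czs (nat_lit 24) z11 (nat_lit 64) (.dfs (nat_lit 4) (nat_lit 4097) (nat_lit 4099) (nat_lit 0x1004002) (nat_lit 0x1004002) (nat_lit 0) (nat_lit 0) (nat_lit 3) (nat_lit 0) (nat_lit 0) (nat_lit 8) (nat_lit 1) (nat_lit 0) (nat_lit 0x1018003) (nat_lit 0x98087) (nat_lit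 0x1000010001010000020001020000050001050000060001060001014001024001054001064) (nat_lit 0x1000100000000000100010000) (.cD (nat_lit 16) (.kb (nat_lit 136) (nat_lit 0x3002001) (nat_lit 0x1080040020008004001)) (.cD (nat_lit 32) (.kb (nat_lit 184) (nat_lit 0x3002001) (nat_lit 0x1080040010028004002)) (.cD (nat_lit 80) (.kb (nat_lit 200) (nat_lit 0x3002001) (nat_lit 0x1080040020008004001)) (.cD (nat_lit 96) (.kb (nat_lit 248) (nat_lit 0x3002001) (nat_lit 0x1080040010028004002)) .nil)))))) (.cD (nat_lit 59) (.czs (nat_lit 59) z12 (nat_lit 64) (.dfs (nat_lit 4) (nat_lit 4097) (nat_lit 4099) (nat_lit 0x1004002) (nat_lit 0x1004002) (nat_lit 0) (nat_lit 0) (nat_lit 3) (nat_lit 0) (nat_lit 0) (nat_lit 1) (nat_lit 1) (nat_lit 0) (nat_lit 0x100a0ff) (nat_lit 57471) (nat_lit 0x10000010010010000120010120000410010410000520010520010810010920010c10010d2) (nat_lit 0x400020000000000040002) (.cD (nat_lit 1) (.kb (nat_lit 58) (nat_lit 0x3002001) (nat_lit 0x1080040010028004002))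 (.cD (nat_lit 18) (.kb (nat_lit 41) (nat_lit 0x3002001) (nat_lit 0x1080040020008004001)) (.cD (nat_lit 65) (.kb (nat_lit 122) (nat_lit 0x3002001) (nat_lit 0x1080040010028004002)) (.cD (nat_lit 82) (.kb (nat_lit 105) (nat_lit 0x3002001) (nat_lit 0x1080040020008004001)) .nil)))))) .nil))))) (.cD (nat_lit 64) (.anc (nat_lit 16) (nat_lit 0x1001010006002) (nat_lit 4352) (.dfs (nat_lit 256) (nat_lit 1) (nat_lit 1) (nat_lit 4097) (nat_lit 4097) (nat_lit 0) (nat_lit 0) (nat_lit 0) (nat_lit 0) (nat_lit 0) (nat_lit 0) (nat_lit 1) (nat_lit 0) (nat_lit 0x1100010008004002001) (nat_lit 0x100010008004002001) (nat_lit 0x100010000110000210000310000100800400800500800100900400900500900502800102900402900502900002a00302a00502a00502c00003800303800503800003a00303a00503a00506c0050a80011a00021a00031a000011000211000311000318000114000400c00500c00508800104800408900508900508d0010e90040ad0050ad00502d0010c90030ae0050ae00502e0000fa00303c00503c0050b80000780030ba0050ba0050be0000ea0031340031200011e0)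 (nat_lit 0x10000000000000000000001000000000000001000000000000500170000000300) (.cD (nat_lit 256) (.kF (nat_lit 16) (nat_lit 0x2001001001)) (.cD (nat_lit 8) (.kb (nat_lit 8) (nat_lit 0x1002001) (nat_lit 0x1080040020008004001)) (.cD (nat_lit 9) (.kb (nat_lit 9) (nat_lit 0x1002001) (nat_lit 0x1080040020008004001)) (.cD (nat_lit 40) (.kb (nat_lit 40) (nat_lit 0x1002001) (nat_lit 0x1080040020010008004)) (.cD (nat_lit 41) (.kb (nat_lit 41) (nat_lit 0x1002001) (nat_lit 0x1080040020008004001)) (.cD (nat_lit 42) (.kb (nat_lit 42) (nat_lit 0x1002001) (nat_lit 0x1080040010028004002)) (.cD (nat_lit 44) (.kb (nat_lit 44) (nat_lit 0x1002001) (nat_lit 0x1080040020010008004)) (.cD (nat_lit 56) (.kb (nat_lit 56) (nat_lit 0x1002001) (nat_lit 0x1080040010028004002)) (.cD (nat_lit 58) (.kb (nat_lit 58) (nat_lit 0x1002001) (nat_lit 0x1080040010028004002)) (.cD (nat_lit 108) (.kb (nat_lit 108) (nat_lit 0x1002001) (nat_lit 0x1080040020010008004)) (.cD (nat_lit 168) (.kb (nat_lit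 168) (nat_lit 0x1002001) (nat_lit 0x1080040020010008004)) .nil))))))))))))) (.cD (nat_lit 192) (.kc (nat_lit 208) (nat_lit 0x3001001)) (.cD (nat_lit 1) (.czs (nat_lit 1) z14 (nat_lit 64) (.dfs (nat_lit 260) (nat_lit 4097) (nat_lit 4097) (nat_lit 4098) (nat_lit 4098) (nat_lit 1) (nat_lit 0) (nat_lit 3) (nat_lit 0) (nat_lit 0) (nat_lit 0) (nat_lit 1) (nat_lit 0) (nat_lit 1) (nat_lit 0) (nat_lit 1) (nat_lit 0) .nil)) (.cD (nat_lit 2) (.czs (nat_lit 2) z13 (nat_lit 64) (.dfs (nat_lit 260) (nat_lit 4097) (nat_lit 4097) (nat_lit 4098) (nat_lit 4098) (nat_lit 1) (nat_lit 0) (nat_lit 3) (nat_lit 0) (nat_lit 0) (nat_lit 0) (nat_lit 1) (nat_lit 0) (nat_lit 1) (nat_lit 0) (nat_lit 1) (nat_lit 0) .nil)) (.cD (nat_lit 4) (.dfs (nat_lit 260) (nat_lit 1) (nat_lit 1) (nat_lit 0x1002001) (nat_lit 0x1002001) (nat_lit 1) (nat_lit 0) (nat_lit 0) (nat_lit 0) (nat_lit 0) (nat_lit 0) (nat_lit 1) (nat_lit 0) (nat_lit 0x1010008002001) (nat_lit 0x10008002001) (nat_lit 0x100000a00100a00300a00001b00201b00003900103900203900004a00104a00304a00005b00205b00007900107900207900209b0020db)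 (nat_lit 0x2000000080004000200000008000400) (.cD (nat_lit 10) (.czs (nat_lit 10) z12 (nat_lit 64) (.dfs (nat_lit 4) (nat_lit 4097) (nat_lit 4099) (nat_lit 0x1004002) (nat_lit 0x1004002) (nat_lit 0) (nat_lit 0) (nat_lit 3) (nat_lit 0) (nat_lit 0) (nat_lit 2) (nat_lit 1) (nat_lit 0) (nat_lit 0x100a0ff) (nat_lit 57471) (nat_lit 0x10000020010020000200010200000420010420000600010600010860010a40010c60010e4) (nat_lit 0x1000000040000000100000004) (.cD (nat_lit 2) (.kb (nat_lit 8) (nat_lit 0x3002001) (nat_lit 0x1080040020008004001)) (.cD (nat_lit 32) (.kb (nat_lit 46) (nat_lit 0x3002001) (nat_lit 0x1080040010028004002)) (.cD (nat_lit 66) (.kb (nat_lit 72) (nat_lit 0x3002001) (nat_lit 0x1080040020008004001)) (.cD (nat_lit 96) (.kb (nat_lit 110) (nat_lit 0x3002001) (nat_lit 0x1080040010028004002)) .nil)))))) (.cD (nat_lit 27) (.czs (nat_lit 27) z11 (nat_lit 64) (.dfs (nat_lit 4) (nat_lit 4097) (nat_lit 4099) (nat_lit 0x1004002) (nat_lit 0x1004002) (nat_lit 0) (nat_lit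 0) (nat_lit 3) (nat_lit 0) (nat_lit 0) (nat_lit 9) (nat_lit 1) (nat_lit 0) (nat_lit 0x1018003) (nat_lit 0x98087) (nat_lit 0x10000120010120000210010210000520010520000610010610010920010a10010d20010e1) (nat_lit 0x2000400000000000200040000) (.cD (nat_lit 18) (.kb (nat_lit 9) (nat_lit 0x3002001) (nat_lit 0x1080040020008004001)) (.cD (nat_lit 33) (.kb (nat_lit 190) (nat_lit 0x3002001) (nat_lit 0x1080040010028004002)) (.cD (nat_lit 82) (.kb (nat_lit 73) (nat_lit 0x3002001) (nat_lit 0x1080040020008004001)) (.cD (nat_lit 97) (.kb (nat_lit 254) (nat_lit 0x3002001) (nat_lit 0x1080040010028004002)) .nil)))))) (.cD (nat_lit 57) (.czs (nat_lit 57) z10 (nat_lit 64) (.dfs (nat_lit 4) (nat_lit 4097) (nat_lit 4099) (nat_lit 0x1004002) (nat_lit 0x1004002) (nat_lit 0) (nat_lit 0) (nat_lit 3) (nat_lit 0) (nat_lit 0) (nat_lit 1) (nat_lit 1) (nat_lit 0) (nat_lit 0x101a00b) (nat_lit 0x9e08b) (nat_lit 0x10000010010010000100010100000410010410000500010500010850010940010c50010d4)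 (nat_lit 0x100020000000000010002) (.cD (nat_lit 1) (.kb (nat_lit 56) (nat_lit 0x3002001) (nat_lit 0x1080040010028004002)) (.cD (nat_lit 16) (.kb (nat_lit 173) (nat_lit 0x3002001) (nat_lit 0x1080040020008004001)) (.cD (nat_lit 65) (.kb (nat_lit 120) (nat_lit 0x3002001) (nat_lit 0x1080040010028004002)) (.cD (nat_lit 80) (.kb (nat_lit 237) (nat_lit 0x3002001) (nat_lit 0x1080040020008004001)) .nil)))))) (.cD (nat_lit 74) (.czs (nat_lit 74) z12 (nat_lit 64) (.dfs (nat_lit 4) (nat_lit 4097) (nat_lit 4099) (nat_lit 0x1004002) (nat_lit 0x1004002) (nat_lit 0) (nat_lit 0) (nat_lit 3) (nat_lit 0) (nat_lit 0) (nat_lit 2) (nat_lit 1) (nat_lit 0) (nat_lit 0x100a0ff) (nat_lit 57471) (nat_lit 0x10000020010020000200010200000420010420000600010600010860010a40010c60010e4) (nat_lit 0x1000000040000000100000004) (.cD (nat_lit 2) (.kb (nat_lit 72) (nat_lit 0x3002001) (nat_lit 0x1080040020008004001)) (.cD (nat_lit 32) (.kb (nat_lit 110) (nat_lit 0x3002001) (nat_lit 0x1080040010028004002))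 (.cD (nat_lit 66) (.kb (nat_lit 8) (nat_lit 0x3002001) (nat_lit 0x1080040020008004001)) (.cD (nat_lit 96) (.kb (nat_lit 46) (nat_lit 0x3002001) (nat_lit 0x1080040010028004002)) .nil)))))) (.cD (nat_lit 91) (.czs (nat_lit 91) z11 (nat_lit 64) (.dfs (nat_lit 4) (nat_lit 4097) (nat_lit 4099) (nat_lit 0x1004002) (nat_lit 0x1004002) (nat_lit 0) (nat_lit 0) (nat_lit 3) (nat_lit 0) (nat_lit 0) (nat_lit 9) (nat_lit 1) (nat_lit 0) (nat_lit 0x1018003) (nat_lit 0x98087) (nat_lit 0x10000120010120000210010210000520010520000610010610010920010a10010d20010e1) (nat_lit 0x2000400000000000200040000) (.cD (nat_lit 18) (.kb (nat_lit 73) (nat_lit 0x3002001) (nat_lit 0x1080040020008004001)) (.cD (nat_lit 33) (.kb (nat_lit 254) (nat_lit 0x3002001) (nat_lit 0x1080040010028004002)) (.cD (nat_lit 82) (.kb (nat_lit 9) (nat_lit 0x3002001) (nat_lit 0x1080040020008004001)) (.cD (nat_lit 97) (.kb (nat_lit 190) (nat_lit 0x3002001) (nat_lit 0x1080040010028004002)) .nil)))))) (.cD (nat_lit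 121) (.czs (nat_lit 121) z10 (nat_lit 64) (.dfs (nat_lit 4) (nat_lit 4097) (nat_lit 4099) (nat_lit 0x1004002) (nat_lit 0x1004002) (nat_lit 0) (nat_lit 0) (nat_lit 3) (nat_lit 0) (nat_lit 0) (nat_lit 1) (nat_lit 1) (nat_lit 0) (nat_lit 0x101a00b) (nat_lit 0x9e08b) (nat_lit 0x10000010010010000100010100000410010410000500010500010850010940010c50010d4) (nat_lit 0x100020000000000010002) (.cD (nat_lit 1) (.kb (nat_lit 120) (nat_lit 0x3002001) (nat_lit 0x1080040010028004002)) (.cD (nat_lit 16) (.kb (nat_lit 237) (nat_lit 0x3002001) (nat_lit 0x1080040020008004001)) (.cD (nat_lit 65) (.kb (nat_lit 56) (nat_lit 0x3002001) (nat_lit 0x1080040010028004002)) (.cD (nat_lit 80) (.kb (nat_lit 173) (nat_lit 0x3002001) (nat_lit 0x1080040020008004001)) .nil)))))) .nil))))))) (.cD (nat_lit 16) (.czs (nat_lit 16) z9 (nat_lit 128) (.dfs (nat_lit 260) (nat_lit 4097) (nat_lit 4097) (nat_lit 4098) (nat_lit 4098) (nat_lit 1) (nat_lit 0) (nat_lit 3) (nat_lit 0) (nat_lit 0) (nat_lit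 0) (nat_lit 1) (nat_lit 0) (nat_lit 0x1028004002) (nat_lit 0x28004002) (nat_lit 0x1000102001102002102001112002112002182002192) (nat_lit 0x40000000000000000000000000000000000000000000000000000000000000000) (.cD (nat_lit 258) (.dfs (nat_lit 4) (nat_lit 4098) (nat_lit 4098) (nat_lit 0x1004001) (nat_lit 0x1004003) (nat_lit 0) (nat_lit 0) (nat_lit 3) (nat_lit 0) (nat_lit 0) (nat_lit 0) (nat_lit 1) (nat_lit 0) (nat_lit 4354) (nat_lit 274) (nat_lit 0x10000020000420000820000c2) (nat_lit 0x4000000000000000400000000000000040000000000000004) (.cD (nat_lit 2) (.czp (nat_lit 256) (nat_lit 0) (nat_lit 0x1100080040020010) z7 (.dfs (nat_lit 16) (nat_lit 4099) (nat_lit 4099) (nat_lit 0x1008004002001) (nat_lit 0x1008004002001) (nat_lit 0) (nat_lit 0) (nat_lit 3) (nat_lit 0) (nat_lit 0) (nat_lit 0) (nat_lit 1) (nat_lit 0) (nat_lit 1) (nat_lit 0) (nat_lit 1) (nat_lit 0x10001000000000001000100000000000100010000000000010000) (.cD (nat_lit 16) (.kc (nat_lit 144) (nat_lit 0x9001001))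 (.cD (nat_lit 80) (.kA true (nat_lit 0x1008019006001001)) (.cD (nat_lit 144) (.kA true (nat_lit 0x1008019006001001)) (.cD (nat_lit 208) (.kc (nat_lit 192) (nat_lit 0x19001001)) (.cD (nat_lit 64) (.kA true (nat_lit 0x1008019006001001)) (.cD (nat_lit 128) (.kA true (nat_lit 0x1008019006001001)) (.cD (nat_lit 192) (.kc (nat_lit 64) (nat_lit 0x11001001)) .nil))))))))) (.cD (nat_lit 66) (.anc (nat_lit 16) (nat_lit 0x3000600100100000d00200a005001001000005) (nat_lit 4352) (.dfs (nat_lit 256) (nat_lit 1) (nat_lit 1) (nat_lit 4097) (nat_lit 4097) (nat_lit 0) (nat_lit 0) (nat_lit 0) (nat_lit 0) (nat_lit 0) (nat_lit 0) (nat_lit 1) (nat_lit 0) (nat_lit 0x1100010008004002001) (nat_lit 0x100010008004002001) (nat_lit 0x100010000110000210000310000100800400800500800100900400900500900502800102900402900502900002a00302a00502a00502c00003800303800503800003a00303a00503a00506c0050a80011a00021a00031a000011000211000311000318000114000400c00500c00508800104800408900508900508d0010e90040ad0050ad00502d0010c90030ae0050ae00502e0000fa00303c00503c0050b80000780030ba0050ba0050be0000ea0031340031200011e0)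 (nat_lit 0x10000000000000000000001000000000000001000000000000500170000000300) (.cD (nat_lit 256) (.kF (nat_lit 16) (nat_lit 0x2001001001)) (.cD (nat_lit 8) (.kb (nat_lit 8) (nat_lit 0x1002001) (nat_lit 0x1080040020008004001)) (.cD (nat_lit 9) (.kb (nat_lit 9) (nat_lit 0x1002001) (nat_lit 0x1080040020008004001)) (.cD (nat_lit 40) (.kb (nat_lit 40) (nat_lit 0x1002001) (nat_lit 0x1080040020010008004)) (.cD (nat_lit 41) (.kb (nat_lit 41) (nat_lit 0x1002001) (nat_lit 0x1080040020008004001)) (.cD (nat_lit 42) (.kb (nat_lit 42) (nat_lit 0x1002001) (nat_lit 0x1080040010028004002)) (.cD (nat_lit 44) (.kb (nat_lit 44) (nat_lit 0x1002001) (nat_lit 0x1080040020010008004)) (.cD (nat_lit 56) (.kb (nat_lit 56) (nat_lit 0x1002001) (nat_lit 0x1080040010028004002)) (.cD (nat_lit 58) (.kb (nat_lit 58) (nat_lit 0x1002001) (nat_lit 0x1080040010028004002)) (.cD (nat_lit 108) (.kb (nat_lit 108) (nat_lit 0x1002001) (nat_lit 0x1080040020010008004)) (.cD (nat_lit 168) (.kb (nat_lit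 168) (nat_lit 0x1002001) (nat_lit 0x1080040020010008004)) .nil))))))))))))) (.cD (nat_lit 130) (.czp (nat_lit 384) (nat_lit 0x4004000001) (nat_lit 0x1100080040020010) z7 (.dfs (nat_lit 16) (nat_lit 4099) (nat_lit 4099) (nat_lit 0x1008004002001) (nat_lit 0x1008004002001) (nat_lit 0) (nat_lit 0) (nat_lit 3) (nat_lit 0) (nat_lit 0) (nat_lit 0) (nat_lit 1) (nat_lit 0) (nat_lit 1) (nat_lit 0) (nat_lit 1) (nat_lit 0x10001000000000001000100000000000100010000000000010000) (.cD (nat_lit 16) (.kc (nat_lit 144) (nat_lit 0x9001001)) (.cD (nat_lit 80) (.kA true (nat_lit 0x8019010006002004004000002)) (.cD (nat_lit 144) (.kA true (nat_lit 0x8009010006002004004000002)) (.cD (nat_lit 208) (.kc (nat_lit 192) (nat_lit 0x19001001)) (.cD (nat_lit 64) (.kA true (nat_lit 0x8011010006002004004000002)) (.cD (nat_lit 128) (.kA true (nat_lit 0x1008019007001002002000002)) (.cD (nat_lit 192) (.kc (nat_lit 64) (nat_lit 0x11001001)) .nil))))))))) (.cD (nat_lit 194) (.anc (nat_lit 16)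 (nat_lit 0x3000600100100000d00200100100000a005001001000006) (nat_lit 4352) (.dfs (nat_lit 256) (nat_lit 1) (nat_lit 1) (nat_lit 4097) (nat_lit 4097) (nat_lit 0) (nat_lit 0) (nat_lit 0) (nat_lit 0) (nat_lit 0) (nat_lit 0) (nat_lit 1) (nat_lit 0) (nat_lit 0x1100010008004002001) (nat_lit 0x100010008004002001) (nat_lit 0x100010000110000210000310000100800400800500800100900400900500900502800102900402900502900002a00302a00502a00502c00003800303800503800003a00303a00503a00506c0050a80011a00021a00031a000011000211000311000318000114000400c00500c00508800104800408900508900508d0010e90040ad0050ad00502d0010c90030ae0050ae00502e0000fa00303c00503c0050b80000780030ba0050ba0050be0000ea0031340031200011e0) (nat_lit 0x10000000000000000000001000000000000001000000000000500170000000300) (.cD (nat_lit 256) (.kF (nat_lit 16) (nat_lit 0x2001001001)) (.cD (nat_lit 8) (.kb (nat_lit 8) (nat_lit 0x1002001) (nat_lit 0x1080040020008004001)) (.cD (nat_lit 9) (.kb (nat_lit 9) (nat_lit 0x1002001)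 (nat_lit 0x1080040020008004001)) (.cD (nat_lit 40) (.kb (nat_lit 40) (nat_lit 0x1002001) (nat_lit 0x1080040020010008004)) (.cD (nat_lit 41) (.kb (nat_lit 41) (nat_lit 0x1002001) (nat_lit 0x1080040020008004001)) (.cD (nat_lit 42) (.kb (nat_lit 42) (nat_lit 0x1002001) (nat_lit 0x1080040010028004002)) (.cD (nat_lit 44) (.kb (nat_lit 44) (nat_lit 0x1002001) (nat_lit 0x1080040020010008004)) (.cD (nat_lit 56) (.kb (nat_lit 56) (nat_lit 0x1002001) (nat_lit 0x1080040010028004002)) (.cD (nat_lit 58) (.kb (nat_lit 58) (nat_lit 0x1002001) (nat_lit 0x1080040010028004002)) (.cD (nat_lit 108) (.kb (nat_lit 108) (nat_lit 0x1002001) (nat_lit 0x1080040020010008004)) (.cD (nat_lit 168) (.kb (nat_lit 168) (nat_lit 0x1002001) (nat_lit 0x1080040020010008004)) .nil))))))))))))) .nil))))) .nil))) (.cD (nat_lit 32) (.czs (nat_lit 32) z8 (nat_lit 128) (.dfs (nat_lit 260) (nat_lit 4097) (nat_lit 4097) (nat_lit 4098) (nat_lit 4098) (nat_lit 1) (nat_lit 0) (nat_lit 3) (nat_lit 0)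 (nat_lit 0) (nat_lit 0) (nat_lit 1) (nat_lit 0) (nat_lit 0x1100008004001) (nat_lit 0x100008004001) (nat_lit 0x10001050011050021050031050021a5002185003145) (nat_lit 0x200000000000000000000000000000000000000000000000000000000000000000) (.cD (nat_lit 261) (.dfs (nat_lit 4) (nat_lit 4098) (nat_lit 4098) (nat_lit 0x1004001) (nat_lit 0x1004003) (nat_lit 0) (nat_lit 0) (nat_lit 3) (nat_lit 0) (nat_lit 0) (nat_lit 0) (nat_lit 1) (nat_lit 0) (nat_lit 4357) (nat_lit 293) (nat_lit 0x10000050000450000850000c5) (nat_lit 0x20000000000000002000000000000000200000000000000020) (.cD (nat_lit 5) (.czp (nat_lit 256) (nat_lit 0) (nat_lit 0x1100080040020010) z7 (.dfs (nat_lit 16) (nat_lit 4099) (nat_lit 4099) (nat_lit 0x1008004002001) (nat_lit 0x1008004002001) (nat_lit 0) (nat_lit 0) (nat_lit 3) (nat_lit 0) (nat_lit 0) (nat_lit 0) (nat_lit 1) (nat_lit 0) (nat_lit 1) (nat_lit 0) (nat_lit 1) (nat_lit 0x100000001000000010000000100000001000000010000000100000000) (.cD (nat_lit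 32) (.kc (nat_lit 144) (nat_lit 0x9001001)) (.cD (nat_lit 96) (.kA false (nat_lit 0x8019009006002001)) (.cD (nat_lit 160) (.kA false (nat_lit 0x8009019006002001)) (.cD (nat_lit 224) (.kc (nat_lit 192) (nat_lit 0x19001001)) (.cD (nat_lit 64) (.kA false (nat_lit 0x8011001006002001)) (.cD (nat_lit 128) (.kA false (nat_lit 0x8001011006002001)) (.cD (nat_lit 192) (.kc (nat_lit 64) (nat_lit 0x11001001)) .nil))))))))) (.cD (nat_lit 69) (.anc (nat_lit 16) (nat_lit 0x3000600100100000d00200a003002002000004001010006007) (nat_lit 4352) (.dfs (nat_lit 256) (nat_lit 1) (nat_lit 1) (nat_lit 4097) (nat_lit 4097) (nat_lit 0) (nat_lit 0) (nat_lit 0) (nat_lit 0) (nat_lit 0) (nat_lit 0) (nat_lit 1) (nat_lit 0) (nat_lit 0x1100010008004002001) (nat_lit 0x100010008004002001) (nat_lit 0x100010000110000210000310000100800400800500800100900400900500900502800102900402900502900002a00302a00502a00502c00003800303800503800003a00303a00503a00506c0050a80011a00021a00031a000011000211000311000318000114000400c00500c00508800104800408900508900508d0010e90040ad0050ad00502d0010c90030ae0050ae00502e0000fa00303c00503c0050b80000780030ba0050ba0050be0000ea0031340031200011e0)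 (nat_lit 0x10000000000000000000001000000000000001000000000000500170000000300) (.cD (nat_lit 256) (.kF (nat_lit 16) (nat_lit 0x2001001001)) (.cD (nat_lit 8) (.kb (nat_lit 8) (nat_lit 0x1002001) (nat_lit 0x1080040020008004001)) (.cD (nat_lit 9) (.kb (nat_lit 9) (nat_lit 0x1002001) (nat_lit 0x1080040020008004001)) (.cD (nat_lit 40) (.kb (nat_lit 40) (nat_lit 0x1002001) (nat_lit 0x1080040020010008004)) (.cD (nat_lit 41) (.kb (nat_lit 41) (nat_lit 0x1002001) (nat_lit 0x1080040020008004001)) (.cD (nat_lit 42) (.kb (nat_lit 42) (nat_lit 0x1002001) (nat_lit 0x1080040010028004002)) (.cD (nat_lit 44) (.kb (nat_lit 44) (nat_lit 0x1002001) (nat_lit 0x1080040020010008004)) (.cD (nat_lit 56) (.kb (nat_lit 56) (nat_lit 0x1002001) (nat_lit 0x1080040010028004002)) (.cD (nat_lit 58) (.kb (nat_lit 58) (nat_lit 0x1002001) (nat_lit 0x1080040010028004002)) (.cD (nat_lit 108) (.kb (nat_lit 108) (nat_lit 0x1002001) (nat_lit 0x1080040020010008004)) (.cD (nat_lit 168) (.kb (nat_lit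 168) (nat_lit 0x1002001) (nat_lit 0x1080040020010008004)) .nil))))))))))))) (.cD (nat_lit 133) (.czp (nat_lit 384) (nat_lit 0x4004000001) (nat_lit 0x1100080040020010) z7 (.dfs (nat_lit 16) (nat_lit 4099) (nat_lit 4099) (nat_lit 0x1008004002001) (nat_lit 0x1008004002001) (nat_lit 0) (nat_lit 0) (nat_lit 3) (nat_lit 0) (nat_lit 0) (nat_lit 0) (nat_lit 1) (nat_lit 0) (nat_lit 1) (nat_lit 0) (nat_lit 1) (nat_lit 0x100000001000000010000000100000001000000010000000100000000) (.cD (nat_lit 32) (.kc (nat_lit 144) (nat_lit 0x9001001)) (.cD (nat_lit 96) (.kA false (nat_lit 0x8019009006002004004000002)) (.cD (nat_lit 160) (.kA false (nat_lit 0x8009019006002004004000002)) (.cD (nat_lit 224) (.kc (nat_lit 192) (nat_lit 0x19001001)) (.cD (nat_lit 64) (.kA false (nat_lit 0x8011001006002004004000002)) (.cD (nat_lit 128) (.kA false (nat_lit 0x8001011006002004004000002)) (.cD (nat_lit 192) (.kc (nat_lit 64) (nat_lit 0x11001001)) .nil))))))))) (.cD (nat_lit 197) (.anc (nat_lit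 16) (nat_lit 0x3000600100100000d00201200301200600100100000a005001001000008) (nat_lit 4352) (.dfs (nat_lit 256) (nat_lit 1) (nat_lit 1) (nat_lit 4097) (nat_lit 4097) (nat_lit 0) (nat_lit 0) (nat_lit 0) (nat_lit 0) (nat_lit 0) (nat_lit 0) (nat_lit 1) (nat_lit 0) (nat_lit 0x1100010008004002001) (nat_lit 0x100010008004002001) (nat_lit 0x100010000110000210000310000100800400800500800100900400900500900502800102900402900502900002a00302a00502a00502c00003800303800503800003a00303a00503a00506c0050a80011a00021a00031a000011000211000311000318000114000400c00500c00508800104800408900508900508d0010e90040ad0050ad00502d0010c90030ae0050ae00502e0000fa00303c00503c0050b80000780030ba0050ba0050be0000ea0031340031200011e0) (nat_lit 0x10000000000000000000001000000000000001000000000000500170000000300) (.cD (nat_lit 256) (.kF (nat_lit 16) (nat_lit 0x2001001001)) (.cD (nat_lit 8) (.kb (nat_lit 8) (nat_lit 0x1002001) (nat_lit 0x1080040020008004001)) (.cD (nat_lit 9) (.kb (nat_lit 9) (nat_lit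 0x1002001) (nat_lit 0x1080040020008004001)) (.cD (nat_lit 40) (.kb (nat_lit 40) (nat_lit 0x1002001) (nat_lit 0x1080040020010008004)) (.cD (nat_lit 41) (.kb (nat_lit 41) (nat_lit 0x1002001) (nat_lit 0x1080040020008004001)) (.cD (nat_lit 42) (.kb (nat_lit 42) (nat_lit 0x1002001) (nat_lit 0x1080040010028004002)) (.cD (nat_lit 44) (.kb (nat_lit 44) (nat_lit 0x1002001) (nat_lit 0x1080040020010008004)) (.cD (nat_lit 56) (.kb (nat_lit 56) (nat_lit 0x1002001) (nat_lit 0x1080040010028004002)) (.cD (nat_lit 58) (.kb (nat_lit 58) (nat_lit 0x1002001) (nat_lit 0x1080040010028004002)) (.cD (nat_lit 108) (.kb (nat_lit 108) (nat_lit 0x1002001) (nat_lit 0x1080040020010008004)) (.cD (nat_lit 168) (.kb (nat_lit 168) (nat_lit 0x1002001) (nat_lit 0x1080040020010008004)) .nil))))))))))))) .nil))))) .nil))) (.cD (nat_lit 65) (.anc (nat_lit 16) (nat_lit 0x30006003002014004002002000010003010006006) (nat_lit 4352) (.dfs (nat_lit 256) (nat_lit 1) (nat_lit 1) (nat_lit 4097) (nat_lit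 4097) (nat_lit 0) (nat_lit 0) (nat_lit 0) (nat_lit 0) (nat_lit 0) (nat_lit 0) (nat_lit 1) (nat_lit 0) (nat_lit 0x1100010008004002001) (nat_lit 0x100010008004002001) (nat_lit 0x100010000110000210000310000100800400800500800100900400900500900502800102900402900502900002a00302a00502a00502c00003800303800503800003a00303a00503a00506c0050a80011a00021a00031a000011000211000311000318000114000400c00500c00508800104800408900508900508d0010e90040ad0050ad00502d0010c90030ae0050ae00502e0000fa00303c00503c0050b80000780030ba0050ba0050be0000ea0031340031200011e0) (nat_lit 0x10000000000000000000001000000000000001000000000000500170000000300) (.cD (nat_lit 256) (.kF (nat_lit 16) (nat_lit 0x2001001001)) (.cD (nat_lit 8) (.kb (nat_lit 8) (nat_lit 0x1002001) (nat_lit 0x1080040020008004001)) (.cD (nat_lit 9) (.kb (nat_lit 9) (nat_lit 0x1002001) (nat_lit 0x1080040020008004001)) (.cD (nat_lit 40) (.kb (nat_lit 40) (nat_lit 0x1002001) (nat_lit 0x1080040020010008004)) (.cD (nat_lit 41)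 (.kb (nat_lit 41) (nat_lit 0x1002001) (nat_lit 0x1080040020008004001)) (.cD (nat_lit 42) (.kb (nat_lit 42) (nat_lit 0x1002001) (nat_lit 0x1080040010028004002)) (.cD (nat_lit 44) (.kb (nat_lit 44) (nat_lit 0x1002001) (nat_lit 0x1080040020010008004)) (.cD (nat_lit 56) (.kb (nat_lit 56) (nat_lit 0x1002001) (nat_lit 0x1080040010028004002)) (.cD (nat_lit 58) (.kb (nat_lit 58) (nat_lit 0x1002001) (nat_lit 0x1080040010028004002)) (.cD (nat_lit 108) (.kb (nat_lit 108) (nat_lit 0x1002001) (nat_lit 0x1080040020010008004)) (.cD (nat_lit 168) (.kb (nat_lit 168) (nat_lit 0x1002001) (nat_lit 0x1080040020010008004)) .nil))))))))))))) (.cD (nat_lit 66) (.anc (nat_lit 16) (nat_lit 0x3000600300201a005009009000004) (nat_lit 4352) (.dfs (nat_lit 256) (nat_lit 1) (nat_lit 1) (nat_lit 4097) (nat_lit 4097) (nat_lit 0) (nat_lit 0) (nat_lit 0) (nat_lit 0) (nat_lit 0) (nat_lit 0) (nat_lit 1) (nat_lit 0) (nat_lit 0x1100010008004002001) (nat_lit 0x100010008004002001) (nat_lit 0x100010000110000210000310000100800400800500800100900400900500900502800102900402900502900002a00302a00502a00502c00003800303800503800003a00303a00503a00506c0050a80011a00021a00031a000011000211000311000318000114000400c00500c00508800104800408900508900508d0010e90040ad0050ad00502d0010c90030ae0050ae00502e0000fa00303c00503c0050b80000780030ba0050ba0050be0000ea0031340031200011e0)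 (nat_lit 0x10000000000000000000001000000000000001000000000000500170000000300) (.cD (nat_lit 256) (.kF (nat_lit 16) (nat_lit 0x2001001001)) (.cD (nat_lit 8) (.kb (nat_lit 8) (nat_lit 0x1002001) (nat_lit 0x1080040020008004001)) (.cD (nat_lit 9) (.kb (nat_lit 9) (nat_lit 0x1002001) (nat_lit 0x1080040020008004001)) (.cD (nat_lit 40) (.kb (nat_lit 40) (nat_lit 0x1002001) (nat_lit 0x1080040020010008004)) (.cD (nat_lit 41) (.kb (nat_lit 41) (nat_lit 0x1002001) (nat_lit 0x1080040020008004001)) (.cD (nat_lit 42) (.kb (nat_lit 42) (nat_lit 0x1002001) (nat_lit 0x1080040010028004002)) (.cD (nat_lit 44) (.kb (nat_lit 44) (nat_lit 0x1002001) (nat_lit 0x1080040020010008004)) (.cD (nat_lit 56) (.kb (nat_lit 56) (nat_lit 0x1002001) (nat_lit 0x1080040010028004002)) (.cD (nat_lit 58) (.kb (nat_lit 58) (nat_lit 0x1002001) (nat_lit 0x1080040010028004002)) (.cD (nat_lit 108) (.kb (nat_lit 108) (nat_lit 0x1002001) (nat_lit 0x1080040020010008004)) (.cD (nat_lit 168) (.kb (nat_lit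 168) (nat_lit 0x1002001) (nat_lit 0x1080040020010008004)) .nil))))))))))))) (.cD (nat_lit 68) (.anc (nat_lit 16) (nat_lit 0x3000600300201200600100100000a005001001000006) (nat_lit 4352) (.dfs (nat_lit 256) (nat_lit 1) (nat_lit 1) (nat_lit 4097) (nat_lit 4097) (nat_lit 0) (nat_lit 0) (nat_lit 0) (nat_lit 0) (nat_lit 0) (nat_lit 0) (nat_lit 1) (nat_lit 0) (nat_lit 0x1100010008004002001) (nat_lit 0x100010008004002001) (nat_lit 0x100010000110000210000310000100800400800500800100900400900500900502800102900402900502900002a00302a00502a00502c00003800303800503800003a00303a00503a00506c0050a80011a00021a00031a000011000211000311000318000114000400c00500c00508800104800408900508900508d0010e90040ad0050ad00502d0010c90030ae0050ae00502e0000fa00303c00503c0050b80000780030ba0050ba0050be0000ea0031340031200011e0) (nat_lit 0x10000000000000000000001000000000000001000000000000500170000000300) (.cD (nat_lit 256) (.kF (nat_lit 16) (nat_lit 0x2001001001)) (.cD (nat_lit 8) (.kb (nat_lit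 8) (nat_lit 0x1002001) (nat_lit 0x1080040020008004001)) (.cD (nat_lit 9) (.kb (nat_lit 9) (nat_lit 0x1002001) (nat_lit 0x1080040020008004001)) (.cD (nat_lit 40) (.kb (nat_lit 40) (nat_lit 0x1002001) (nat_lit 0x1080040020010008004)) (.cD (nat_lit 41) (.kb (nat_lit 41) (nat_lit 0x1002001) (nat_lit 0x1080040020008004001)) (.cD (nat_lit 42) (.kb (nat_lit 42) (nat_lit 0x1002001) (nat_lit 0x1080040010028004002)) (.cD (nat_lit 44) (.kb (nat_lit 44) (nat_lit 0x1002001) (nat_lit 0x1080040020010008004)) (.cD (nat_lit 56) (.kb (nat_lit 56) (nat_lit 0x1002001) (nat_lit 0x1080040010028004002)) (.cD (nat_lit 58) (.kb (nat_lit 58) (nat_lit 0x1002001) (nat_lit 0x1080040010028004002)) (.cD (nat_lit 108) (.kb (nat_lit 108) (nat_lit 0x1002001) (nat_lit 0x1080040020010008004)) (.cD (nat_lit 168) (.kb (nat_lit 168) (nat_lit 0x1002001) (nat_lit 0x1080040020010008004)) .nil))))))))))))) (.cD (nat_lit 80) (.anc (nat_lit 16) (nat_lit 0x30006003002008008000003) (nat_lit 4352)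 (.dfs (nat_lit 256) (nat_lit 1) (nat_lit 1) (nat_lit 4097) (nat_lit 4097) (nat_lit 0) (nat_lit 0) (nat_lit 0) (nat_lit 0) (nat_lit 0) (nat_lit 0) (nat_lit 1) (nat_lit 0) (nat_lit 0x1100010008004002001) (nat_lit 0x100010008004002001) (nat_lit 0x100010000110000210000310000100800400800500800100900400900500900502800102900402900502900002a00302a00502a00502c00003800303800503800003a00303a00503a00506c0050a80011a00021a00031a000011000211000311000318000114000400c00500c00508800104800408900508900508d0010e90040ad0050ad00502d0010c90030ae0050ae00502e0000fa00303c00503c0050b80000780030ba0050ba0050be0000ea0031340031200011e0) (nat_lit 0x10000000000000000000001000000000000001000000000000500170000000300) (.cD (nat_lit 256) (.kF (nat_lit 16) (nat_lit 0x2001001001)) (.cD (nat_lit 8) (.kb (nat_lit 8) (nat_lit 0x1002001) (nat_lit 0x1080040020008004001)) (.cD (nat_lit 9) (.kb (nat_lit 9) (nat_lit 0x1002001) (nat_lit 0x1080040020008004001)) (.cD (nat_lit 40) (.kb (nat_lit 40) (nat_lit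 0x1002001) (nat_lit 0x1080040020010008004)) (.cD (nat_lit 41) (.kb (nat_lit 41) (nat_lit 0x1002001) (nat_lit 0x1080040020008004001)) (.cD (nat_lit 42) (.kb (nat_lit 42) (nat_lit 0x1002001) (nat_lit 0x1080040010028004002)) (.cD (nat_lit 44) (.kb (nat_lit 44) (nat_lit 0x1002001) (nat_lit 0x1080040020010008004)) (.cD (nat_lit 56) (.kb (nat_lit 56) (nat_lit 0x1002001) (nat_lit 0x1080040010028004002)) (.cD (nat_lit 58) (.kb (nat_lit 58) (nat_lit 0x1002001) (nat_lit 0x1080040010028004002)) (.cD (nat_lit 108) (.kb (nat_lit 108) (nat_lit 0x1002001) (nat_lit 0x1080040020010008004)) (.cD (nat_lit 168) (.kb (nat_lit 168) (nat_lit 0x1002001) (nat_lit 0x1080040020010008004)) .nil))))))))))))) (.cD (nat_lit 96) (.anc (nat_lit 16) (nat_lit 0x30006003002018004010006004) (nat_lit 4352) (.dfs (nat_lit 256) (nat_lit 1) (nat_lit 1) (nat_lit 4097) (nat_lit 4097) (nat_lit 0) (nat_lit 0) (nat_lit 0) (nat_lit 0) (nat_lit 0) (nat_lit 0) (nat_lit 1) (nat_lit 0) (nat_lit 0x1100010008004002001)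 (nat_lit 0x100010008004002001) (nat_lit 0x100010000110000210000310000100800400800500800100900400900500900502800102900402900502900002a00302a00502a00502c00003800303800503800003a00303a00503a00506c0050a80011a00021a00031a000011000211000311000318000114000400c00500c00508800104800408900508900508d0010e90040ad0050ad00502d0010c90030ae0050ae00502e0000fa00303c00503c0050b80000780030ba0050ba0050be0000ea0031340031200011e0) (nat_lit 0x10000000000000000000001000000000000001000000000000500170000000300) (.cD (nat_lit 256) (.kF (nat_lit 16) (nat_lit 0x2001001001)) (.cD (nat_lit 8) (.kb (nat_lit 8) (nat_lit 0x1002001) (nat_lit 0x1080040020008004001)) (.cD (nat_lit 9) (.kb (nat_lit 9) (nat_lit 0x1002001) (nat_lit 0x1080040020008004001)) (.cD (nat_lit 40) (.kb (nat_lit 40) (nat_lit 0x1002001) (nat_lit 0x1080040020010008004)) (.cD (nat_lit 41) (.kb (nat_lit 41) (nat_lit 0x1002001) (nat_lit 0x1080040020008004001)) (.cD (nat_lit 42) (.kb (nat_lit 42) (nat_lit 0x1002001) (nat_lit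 0x1080040010028004002)) (.cD (nat_lit 44) (.kb (nat_lit 44) (nat_lit 0x1002001) (nat_lit 0x1080040020010008004)) (.cD (nat_lit 56) (.kb (nat_lit 56) (nat_lit 0x1002001) (nat_lit 0x1080040010028004002)) (.cD (nat_lit 58) (.kb (nat_lit 58) (nat_lit 0x1002001) (nat_lit 0x1080040010028004002)) (.cD (nat_lit 108) (.kb (nat_lit 108) (nat_lit 0x1002001) (nat_lit 0x1080040020010008004)) (.cD (nat_lit 168) (.kb (nat_lit 168) (nat_lit 0x1002001) (nat_lit 0x1080040020010008004)) .nil))))))))))))) .nil))))))))))))))))))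
theorem c641 : (chk [] [] p641).n x328 s641 = true := by decide +kernel
noncomputable def p642 : Pf := (.clm (.cut (nat_lit 0)) (.dfs (nat_lit 256) (nat_lit 1) (nat_lit 1) (nat_lit 1) (nat_lit 1) (nat_lit 0) (nat_lit 0) (nat_lit 0) (nat_lit 0) (nat_lit 0) (nat_lit 0) (nat_lit 1) (nat_lit 0) (nat_lit 0x1100010008004002001) (nat_lit 0x100010008004002001) (nat_lit 0x100100800400800500800100900400900500900502800102900402900502900002a00302a00502a00502c00003800303800503800003a00303a00503a00506c0050a800010000110000210000310000400c00500c00508800104800408900508900508d0010e90040ad0050ad00502d0010c90030ae0050ae00502e0000fa00303c00503c0050b80000780030ba0050ba0050be0000ea0011a00021a00031a00001100021100031100031800011400031340031200011e0) (nat_lit 0x10000000000000000000001000000000000001000000000000500170000000300) (.cD (nat_lit 8) (.kb (nat_lit 8) (nat_lit 0x1002001) (nat_lit 0x1080040020008004001)) (.cD (nat_lit 9) (.kb (nat_lit 9) (nat_lit 0x1002001) (nat_lit 0x1080040020008004001))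 (.cD (nat_lit 40) (.kb (nat_lit 40) (nat_lit 0x1002001) (nat_lit 0x1080040020010008004)) (.cD (nat_lit 41) (.kb (nat_lit 41) (nat_lit 0x1002001) (nat_lit 0x1080040020008004001)) (.cD (nat_lit 42) (.kb (nat_lit 42) (nat_lit 0x1002001) (nat_lit 0x1080040010028004002)) (.cD (nat_lit 44) (.kb (nat_lit 44) (nat_lit 0x1002001) (nat_lit 0x1080040020010008004)) (.cD (nat_lit 56) (.kb (nat_lit 56) (nat_lit 0x1002001) (nat_lit 0x1080040010028004002)) (.cD (nat_lit 58) (.kb (nat_lit 58) (nat_lit 0x1002001) (nat_lit 0x1080040010028004002)) (.cD (nat_lit 108) (.kb (nat_lit 108) (nat_lit 0x1002001) (nat_lit 0x1080040020010008004)) (.cD (nat_lit 168) (.kb (nat_lit 168) (nat_lit 0x1002001) (nat_lit 0x1080040020010008004)) (.cD (nat_lit 256) (.kin (nat_lit 1) (nat_lit 0)) .nil)))))))))))))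
theorem c642 : (chk [(x328, s641)] [] p642).n x328 s642 = true := by decide +kernel
noncomputable def p643 : Pf := (.ext (nat_lit 0) (nat_lit 0) (nat_lit 0x1100040080020) (nat_lit 0x10008004002003002002000002) (nat_lit 0x2003004008) (nat_lit 0x1008004001) (nat_lit 0x1008005004) (nat_lit 0xc00400200100a00400200100b004002001) (.dfs (nat_lit 1) (nat_lit 0x1002003004008) (nat_lit 0x100200300400b) (nat_lit 4097) (nat_lit 4097) (nat_lit 0) (nat_lit 0) (nat_lit 2) (nat_lit 0) (nat_lit 0) (nat_lit 4) (nat_lit 1) (nat_lit 0) (nat_lit 4480) (nat_lit 384) (nat_lit 0x1000004000024000044000064) (nat_lit 0x10000000100000001000000010) (.cD (nat_lit 4) (.dfs (nat_lit 4) (nat_lit 0x1004006008010) (nat_lit 0x1004006008014) (nat_lit 0x1002001) (nat_lit 0x1002001) (nat_lit 0) (nat_lit 0) (nat_lit 2) (nat_lit 0) (nat_lit 0) (nat_lit 5) (nat_lit 1) (nat_lit 0) (nat_lit 1) (nat_lit 0) (nat_lit 1) (nat_lit 0x2000000020000000200000002000000020000000200000002000000020) (.cD (nat_lit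 5) (.dfs (nat_lit 8) (nat_lit 0x100800c010020) (nat_lit 0x100800c010030) (nat_lit 0x1004002001) (nat_lit 0x1004002001) (nat_lit 0) (nat_lit 0) (nat_lit 2) (nat_lit 0) (nat_lit 0) (nat_lit 8) (nat_lit 1) (nat_lit 0) (nat_lit 1) (nat_lit 0) (nat_lit 1) (nat_lit 0x10000000100000001000000010000000100000001000000010000000100) (.cD (nat_lit 8) (.kS (nat_lit 0) (nat_lit 0x8018020040002010010000002) (nat_lit 0x10040010a8) (nat_lit 0x800400200d01000800400a00102001000800c002001) (nat_lit 0x10010000008010020040004002001001010010000008018020040002004019001004)) (.cD (nat_lit 40) (.cut (nat_lit 0)) (.cD (nat_lit 72) (.kS (nat_lit 0) (nat_lit 0x8018020040002010010000002) (nat_lit 0x10040010e8) (nat_lit 0x800400200d01000800400a00102001000800c002001) (nat_lit 0x10010000008010020040004002001001010010000008018020040002004039001004)) (.cD (nat_lit 104) (.kS (nat_lit 0) (nat_lit 0x10018020040002001) (nat_lit 0x10050010c8) (nat_lit 0x800400200d01000800400a00102001000800c002001)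 (nat_lit 0x18008020040002006029001008010020040004002001001010018020040006004031001003)) (.cD (nat_lit 136) (.kS (nat_lit 0) (nat_lit 0x2004008010005002002000002) (nat_lit 4136) (nat_lit 0x8004002003) (nat_lit 0x8010020040001001002002000002004008010001006003)) (.cD (nat_lit 168) (.kS (nat_lit 0) (nat_lit 0x8018020040002010010000002) (nat_lit 0x1004001088) (nat_lit 0x800400200d01000800400a00102001000800c002001) (nat_lit 0x10010000008010020040004002001001010010000008018020040002004011001004)) (.cD (nat_lit 200) (.kS (nat_lit 0) (nat_lit 0x10018020040002001) (nat_lit 0x10050010e8) (nat_lit 0x800400200d01000800400a00102001000800c002001) (nat_lit 0x18008020040002006031001008010020040004002001001010018020040006004039001003)) (.cD (nat_lit 232) (.kS (nat_lit 0) (nat_lit 0x8018020040002010010000002) (nat_lit 0x10040010c8) (nat_lit 0x800400200d01000800400a00102001000800c002001) (nat_lit 0x10010000008010020040004002001001010010000008018020040002004031001004)) .nil)))))))))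 (.cD (nat_lit 37) (.kS (nat_lit 0) (nat_lit 0x800c010020002001) (nat_lit 4229) (nat_lit 0x800400200d) (nat_lit 0xc00401002000100100400801002000200100800c01002000b001003)) (.cD (nat_lit 69) (.kS (nat_lit 0) (nat_lit 0x400c010020002010010000002) (nat_lit 4164) (nat_lit 0x800400200d) (nat_lit 0x1001000000400801002000200101001000000400c010020011001004)) (.cD (nat_lit 101) (.kS (nat_lit 0) (nat_lit 0x400c010020002010010000002) (nat_lit 4292) (nat_lit 0x800400200d) (nat_lit 0x1001000000400801002000200101001000000400c010020019001004)) (.cD (nat_lit 133) (.kS (nat_lit 0) (nat_lit 0x400c010020002010010000002) (nat_lit 4260) (nat_lit 0x800400200d) (nat_lit 0x1001000000400801002000200101001000000400c01002000d001004)) (.cD (nat_lit 165) (.kS (nat_lit 0) (nat_lit 0x400c010020002010010000002) (nat_lit 4132) (nat_lit 0x800400200d) (nat_lit 0x1001000000400801002000200101001000000400c010020005001004)) (.cD (nat_lit 197) (.kS (nat_lit 0) (nat_lit 0x400c010020002010010000002)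 (nat_lit 4324) (nat_lit 0x800400200d) (nat_lit 0x1001000000400801002000200101001000000400c01002001d001004)) (.cD (nat_lit 229) (.kS (nat_lit 0) (nat_lit 0x400c010020002010010000002) (nat_lit 4196) (nat_lit 0x800400200d) (nat_lit 0x1001000000400801002000200101001000000400c010020015001004)) .nil))))))))) (.cD (nat_lit 36) (.dfs (nat_lit 4) (nat_lit 0x1004006008010) (nat_lit 0x1004006008014) (nat_lit 0x1002001) (nat_lit 0x1002001) (nat_lit 0) (nat_lit 0) (nat_lit 2) (nat_lit 0) (nat_lit 0) (nat_lit 5) (nat_lit 1) (nat_lit 0) (nat_lit 1) (nat_lit 0) (nat_lit 1) (nat_lit 0x2000000020000000200000002000000020000000200000002000000020) (.cD (nat_lit 5) (.kS (nat_lit 0) (nat_lit 0x400c010020002010010000002) (nat_lit 4100) (nat_lit 0x800400200d) (nat_lit 0x1001000000400801002000200101001000000400c010020001001004)) (.cD (nat_lit 37) (.kS (nat_lit 0) (nat_lit 0x400c010020002010010000002) (nat_lit 4228) (nat_lit 0x800400200d) (nat_lit 0x1001000000400801002000200101001000000400c010020009001004))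 (.cD (nat_lit 69) (.kS (nat_lit 0) (nat_lit 0x400c010020002010010000002) (nat_lit 4164) (nat_lit 0x800400200d) (nat_lit 0x1001000000400801002000200101001000000400c010020011001004)) (.cD (nat_lit 101) (.kS (nat_lit 0) (nat_lit 0x400c010020002010010000002) (nat_lit 4292) (nat_lit 0x800400200d) (nat_lit 0x1001000000400801002000200101001000000400c010020019001004)) (.cD (nat_lit 133) (.dfs (nat_lit 8) (nat_lit 0x100800c010020) (nat_lit 0x100800c010030) (nat_lit 0x1004002001) (nat_lit 0x1004002001) (nat_lit 0) (nat_lit 0) (nat_lit 2) (nat_lit 0) (nat_lit 0) (nat_lit 8) (nat_lit 1) (nat_lit 0) (nat_lit 1) (nat_lit 0) (nat_lit 1) (nat_lit 0x10000000100000001000000010000000100000001000000010000000100) (.cD (nat_lit 8) (.kS (nat_lit 0) (nat_lit 0x8018020040002010010000002) (nat_lit 0x10a40810a8) (nat_lit 0x800400200d01000800400a00102001000800c002001) (nat_lit 0x1001000000801002004000400200100101001000000801802004001a014019001004)) (.cD (nat_lit 40) (.iso x328 s642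 (nat_lit 0) (nat_lit 0x1100080040020010008004002081) (nat_lit 0x100080040020010008004002081) [(nat_lit 0x40020010008014002001001001), (nat_lit 0x40020010008004002001003001)] (.cut (nat_lit 0))) (.cD (nat_lit 72) (.kS (nat_lit 0) (nat_lit 0x8018020040002010010000002) (nat_lit 0x10a40810e8) (nat_lit 0x800400200d01000800400a00102001000800c002001) (nat_lit 0x1001000000801002004000400200100101001000000801802004001a014039001004)) (.cD (nat_lit 104) (.kS (nat_lit 0) (nat_lit 0x10018020040002001) (nat_lit 0x10250810c8) (nat_lit 0x800400200d01000800400a00102001000800c002001) (nat_lit 0x1800802004000a01602900100801002004000400200100101001802004000e014031001003)) (.cD (nat_lit 136) (.kS (nat_lit 0) (nat_lit 0x2004008010005002002000002) (nat_lit 4136) (nat_lit 0x8004002003) (nat_lit 0x8010020040001001002002000002004008010001006003)) (.cD (nat_lit 168) (.kS (nat_lit 0) (nat_lit 0x8018020040002010010000002) (nat_lit 0x10a4081088) (nat_lit 0x800400200d01000800400a00102001000800c002001)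 (nat_lit 0x1001000000801002004000400200100101001000000801802004001a014011001004)) (.cD (nat_lit 200) (.kS (nat_lit 0) (nat_lit 0x10018020040002001) (nat_lit 0x10250810e8) (nat_lit 0x800400200d01000800400a00102001000800c002001) (nat_lit 0x1800802004000a01603100100801002004000400200100101001802004000e014039001003)) (.cD (nat_lit 232) (.kS (nat_lit 0) (nat_lit 0x8018020040002010010000002) (nat_lit 0x10a40810c8) (nat_lit 0x800400200d01000800400a00102001000800c002001) (nat_lit 0x1001000000801002004000400200100101001000000801802004001a014031001004)) .nil))))))))) (.cD (nat_lit 165) (.kS (nat_lit 0) (nat_lit 0x800c010020002001) (nat_lit 4261) (nat_lit 0x800400200d) (nat_lit 0xc00401002000500100400801002000200100800c01002000f001003)) (.cD (nat_lit 197) (.kS (nat_lit 0) (nat_lit 0x400c010020002010010000002) (nat_lit 4324) (nat_lit 0x800400200d) (nat_lit 0x1001000000400801002000200101001000000400c01002001d001004)) (.cD (nat_lit 229) (.kS (nat_lit 0) (nat_lit 0x400c010020002010010000002)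 (nat_lit 4196) (nat_lit 0x800400200d) (nat_lit 0x1001000000400801002000200101001000000400c010020015001004)) .nil))))))))) (.cD (nat_lit 68) (.dfs (nat_lit 4) (nat_lit 0x1004006008010) (nat_lit 0x1004006008014) (nat_lit 0x1002001) (nat_lit 0x1002001) (nat_lit 0) (nat_lit 0) (nat_lit 2) (nat_lit 0) (nat_lit 0) (nat_lit 5) (nat_lit 1) (nat_lit 0) (nat_lit 1) (nat_lit 0) (nat_lit 1) (nat_lit 0x2000000020000000200000002000000020000000200000002000000020) (.cD (nat_lit 5) (.kS (nat_lit 0) (nat_lit 0x400c010020002010010000002) (nat_lit 4100) (nat_lit 0x800400200d) (nat_lit 0x1001000000400801002000200101001000000400c010020001001004)) (.cD (nat_lit 37) (.kS (nat_lit 0) (nat_lit 0x400c010020002010010000002) (nat_lit 4228) (nat_lit 0x800400200d) (nat_lit 0x1001000000400801002000200101001000000400c010020009001004)) (.cD (nat_lit 69) (.dfs (nat_lit 8) (nat_lit 0x100800c010020) (nat_lit 0x100800c010030) (nat_lit 0x1004002001) (nat_lit 0x1004002001) (nat_lit 0) (nat_lit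 0) (nat_lit 2) (nat_lit 0) (nat_lit 0) (nat_lit 8) (nat_lit 1) (nat_lit 0) (nat_lit 1) (nat_lit 0) (nat_lit 1) (nat_lit 0x10000000100000001000000010000000100000001000000010000000100) (.cD (nat_lit 8) (.kS (nat_lit 0) (nat_lit 0x8018020040002010010000002) (nat_lit 0x10440410a8) (nat_lit 0x800400200d01000800400a00102001000800c002001) (nat_lit 0x10010000008010020040004002001001010010000008018020040022024019001004)) (.cD (nat_lit 40) (.iso x328 s642 (nat_lit 0) (nat_lit 0x1100080040020010008004002041) (nat_lit 0x100080040020010008004002041) [(nat_lit 0x40020010008024002001001001), (nat_lit 0x40020010008004002001003001)] (.cut (nat_lit 0))) (.cD (nat_lit 72) (.kS (nat_lit 0) (nat_lit 0x8018020040002010010000002) (nat_lit 0x10440410e8) (nat_lit 0x800400200d01000800400a00102001000800c002001) (nat_lit 0x10010000008010020040004002001001010010000008018020040022024039001004)) (.cD (nat_lit 104) (.kS (nat_lit 0) (nat_lit 0x10018020040002001) (nat_lit 0x10050410c8)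 (nat_lit 0x800400200d01000800400a00102001000800c002001) (nat_lit 0x18008020040022026029001008010020040004002001001010018020040006024031001003)) (.cD (nat_lit 136) (.kS (nat_lit 0) (nat_lit 0x2004008010005002002000002) (nat_lit 4136) (nat_lit 0x8004002003) (nat_lit 0x8010020040001001002002000002004008010001006003)) (.cD (nat_lit 168) (.kS (nat_lit 0) (nat_lit 0x8018020040002010010000002) (nat_lit 0x1044041088) (nat_lit 0x800400200d01000800400a00102001000800c002001) (nat_lit 0x10010000008010020040004002001001010010000008018020040022024011001004)) (.cD (nat_lit 200) (.kS (nat_lit 0) (nat_lit 0x10018020040002001) (nat_lit 0x10050410e8) (nat_lit 0x800400200d01000800400a00102001000800c002001) (nat_lit 0x18008020040022026031001008010020040004002001001010018020040006024039001003)) (.cD (nat_lit 232) (.kS (nat_lit 0) (nat_lit 0x8018020040002010010000002) (nat_lit 0x10440410c8) (nat_lit 0x800400200d01000800400a00102001000800c002001) (nat_lit 0x10010000008010020040004002001001010010000008018020040022024031001004))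 .nil))))))))) (.cD (nat_lit 101) (.kS (nat_lit 0) (nat_lit 0x800c010020002001) (nat_lit 4229) (nat_lit 0x800400200d) (nat_lit 0xc00401002001100100400801002000200100800c01002000b001003)) (.cD (nat_lit 133) (.kS (nat_lit 0) (nat_lit 0x400c010020002010010000002) (nat_lit 4260) (nat_lit 0x800400200d) (nat_lit 0x1001000000400801002000200101001000000400c01002000d001004)) (.cD (nat_lit 165) (.kS (nat_lit 0) (nat_lit 0x400c010020002010010000002) (nat_lit 4132) (nat_lit 0x800400200d) (nat_lit 0x1001000000400801002000200101001000000400c010020005001004)) (.cD (nat_lit 197) (.kS (nat_lit 0) (nat_lit 0x400c010020002010010000002) (nat_lit 4324) (nat_lit 0x800400200d) (nat_lit 0x1001000000400801002000200101001000000400c01002001d001004)) (.cD (nat_lit 229) (.kS (nat_lit 0) (nat_lit 0x400c010020002010010000002) (nat_lit 4196) (nat_lit 0x800400200d) (nat_lit 0x1001000000400801002000200101001000000400c010020015001004)) .nil))))))))) (.cD (nat_lit 100) (.dfs (nat_lit 4)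 (nat_lit 0x1004006008010) (nat_lit 0x1004006008014) (nat_lit 0x1002001) (nat_lit 0x1002001) (nat_lit 0) (nat_lit 0) (nat_lit 2) (nat_lit 0) (nat_lit 0) (nat_lit 5) (nat_lit 1) (nat_lit 0) (nat_lit 1) (nat_lit 0) (nat_lit 1) (nat_lit 0x2000000020000000200000002000000020000000200000002000000020) (.cD (nat_lit 5) (.kS (nat_lit 0) (nat_lit 0x400c010020002010010000002) (nat_lit 4100) (nat_lit 0x800400200d) (nat_lit 0x1001000000400801002000200101001000000400c010020001001004)) (.cD (nat_lit 37) (.kS (nat_lit 0) (nat_lit 0x400c010020002010010000002) (nat_lit 4228) (nat_lit 0x800400200d) (nat_lit 0x1001000000400801002000200101001000000400c010020009001004)) (.cD (nat_lit 69) (.kS (nat_lit 0) (nat_lit 0x400c010020002010010000002) (nat_lit 4164) (nat_lit 0x800400200d) (nat_lit 0x1001000000400801002000200101001000000400c010020011001004)) (.cD (nat_lit 101) (.kS (nat_lit 0) (nat_lit 0x400c010020002010010000002) (nat_lit 4292) (nat_lit 0x800400200d) (nat_lit 0x1001000000400801002000200101001000000400c010020019001004))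 (.cD (nat_lit 133) (.kS (nat_lit 0) (nat_lit 0x400c010020002010010000002) (nat_lit 4260) (nat_lit 0x800400200d) (nat_lit 0x1001000000400801002000200101001000000400c01002000d001004)) (.cD (nat_lit 165) (.kS (nat_lit 0) (nat_lit 0x400c010020002010010000002) (nat_lit 4132) (nat_lit 0x800400200d) (nat_lit 0x1001000000400801002000200101001000000400c010020005001004)) (.cD (nat_lit 197) (.dfs (nat_lit 8) (nat_lit 0x100800c010020) (nat_lit 0x100800c010030) (nat_lit 0x1004002001) (nat_lit 0x1004002001) (nat_lit 0) (nat_lit 0) (nat_lit 2) (nat_lit 0) (nat_lit 0) (nat_lit 8) (nat_lit 1) (nat_lit 0) (nat_lit 1) (nat_lit 0) (nat_lit 1) (nat_lit 0x10000000100000001000000010000000100000001000000010000000100) (.cD (nat_lit 8) (.kS (nat_lit 0) (nat_lit 0x8018020040002010010000002) (nat_lit 0x10e40c10a8) (nat_lit 0x800400200d01000800400a00102001000800c002001) (nat_lit 0x1001000000801002004000400200100101001000000801802004003a034019001004)) (.cD (nat_lit 40) (.iso x328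 s642 (nat_lit 0) (nat_lit 0x11000800400200100080040020c1) (nat_lit 0x1000800400200100080040020c1) [(nat_lit 0x40020010008034002001001001), (nat_lit 0x40020010008004002001003001)] (.cut (nat_lit 0))) (.cD (nat_lit 72) (.kS (nat_lit 0) (nat_lit 0x8018020040002010010000002) (nat_lit 0x10e40c10e8) (nat_lit 0x800400200d01000800400a00102001000800c002001) (nat_lit 0x1001000000801002004000400200100101001000000801802004003a034039001004)) (.cD (nat_lit 104) (.kS (nat_lit 0) (nat_lit 0x10018020040002001) (nat_lit 0x10250c10c8) (nat_lit 0x800400200d01000800400a00102001000800c002001) (nat_lit 0x1800802004002a03602900100801002004000400200100101001802004000e034031001003)) (.cD (nat_lit 136) (.kS (nat_lit 0) (nat_lit 0x2004008010005002002000002) (nat_lit 4136) (nat_lit 0x8004002003) (nat_lit 0x8010020040001001002002000002004008010001006003)) (.cD (nat_lit 168) (.kS (nat_lit 0) (nat_lit 0x8018020040002010010000002) (nat_lit 0x10e40c1088) (nat_lit 0x800400200d01000800400a00102001000800c002001)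 (nat_lit 0x1001000000801002004000400200100101001000000801802004003a034011001004)) (.cD (nat_lit 200) (.kS (nat_lit 0) (nat_lit 0x10018020040002001) (nat_lit 0x10250c10e8) (nat_lit 0x800400200d01000800400a00102001000800c002001) (nat_lit 0x1800802004002a03603100100801002004000400200100101001802004000e034039001003)) (.cD (nat_lit 232) (.kS (nat_lit 0) (nat_lit 0x8018020040002010010000002) (nat_lit 0x10e40c10c8) (nat_lit 0x800400200d01000800400a00102001000800c002001) (nat_lit 0x1001000000801002004000400200100101001000000801802004003a034031001004)) .nil))))))))) (.cD (nat_lit 229) (.kS (nat_lit 0) (nat_lit 0x800c010020002001) (nat_lit 4261) (nat_lit 0x800400200d) (nat_lit 0xc00401002001500100400801002000200100800c01002000f001003)) .nil))))))))) .nil))))))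
theorem c643 : (chk [(x328, s642)] [g17] p643).n x328 s643 = true := by decide +kernel
noncomputable def p644 : Pf := (.ext (nat_lit 0) (nat_lit 0) (nat_lit 0x1100040080020) (nat_lit 0x10008004002001002002000002) (nat_lit 0x2003004008) (nat_lit 4097) (nat_lit 4100) (nat_lit 0xb004002001) (.dfs (nat_lit 1) (nat_lit 0x1002003004008) (nat_lit 0x100200300400b) (nat_lit 4097) (nat_lit 4097) (nat_lit 0) (nat_lit 0) (nat_lit 2) (nat_lit 0) (nat_lit 0) (nat_lit 4) (nat_lit 1) (nat_lit 0) (nat_lit 1) (nat_lit 0) (nat_lit 1) (nat_lit 0) .nil))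
theorem c644 : (chk [] [] p644).n x329 s644 = true := by decide +kernel
noncomputable def p645 : Pf := (.ext (nat_lit 0) (nat_lit 0) (nat_lit 0x1100040080020) (nat_lit 0x10008004002001002002000002) (nat_lit 0x2003004008) (nat_lit 4097) (nat_lit 4100) (nat_lit 0xb004002001) (.dfs (nat_lit 1) (nat_lit 0x1002003004008) (nat_lit 0x100200300400b) (nat_lit 4097) (nat_lit 4097) (nat_lit 4) (nat_lit 0) (nat_lit 2) (nat_lit 0) (nat_lit 0) (nat_lit 4) (nat_lit 1) (nat_lit 0) (nat_lit 1) (nat_lit 0) (nat_lit 1) (nat_lit 0) .nil))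
theorem c645 : (chk [] [] p645).n x330 s645 = true := by decide +kernel
noncomputable def p646 : Pf := (.ext (nat_lit 0) (nat_lit 0) (nat_lit 0x1100040080020) (nat_lit 0x10008004002001002002000002) (nat_lit 0x2003004008) (nat_lit 4097) (nat_lit 4100) (nat_lit 0xb004002001) (.dfs (nat_lit 1) (nat_lit 0x1002003004008) (nat_lit 0x100200300400b) (nat_lit 4097) (nat_lit 4097) (nat_lit 4) (nat_lit 0) (nat_lit 2) (nat_lit 0) (nat_lit 0) (nat_lit 4) (nat_lit 1) (nat_lit 0) (nat_lit 1) (nat_lit 0) (nat_lit 1) (nat_lit 0) .nil))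
theorem c646 : (chk [] [] p646).n x331 s646 = true := by decide +kernel
noncomputable def p647 : Pf := (.ext (nat_lit 0) (nat_lit 0) (nat_lit 0x1100040080020) (nat_lit 0x10008004002001002002000002) (nat_lit 0x2003004008) (nat_lit 4097) (nat_lit 4100) (nat_lit 0xb004002001) (.dfs (nat_lit 1) (nat_lit 0x1002003004008) (nat_lit 0x100200300400b) (nat_lit 4097) (nat_lit 4097) (nat_lit 2) (nat_lit 0) (nat_lit 2) (nat_lit 0) (nat_lit 0) (nat_lit 4) (nat_lit 1) (nat_lit 0) (nat_lit 1) (nat_lit 0) (nat_lit 1) (nat_lit 0) .nil))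
theorem c647 : (chk [] [] p647).n x332 s647 = true := by decide +kernel
noncomputable def p648 : Pf := (.ext (nat_lit 0) (nat_lit 0) (nat_lit 0x1100040080020) (nat_lit 0x10008004002001002002000002) (nat_lit 0x2003004008) (nat_lit 4097) (nat_lit 4100) (nat_lit 0xb004002001) (.dfs (nat_lit 1) (nat_lit 0x1002003004008) (nat_lit 0x100200300400b) (nat_lit 4097) (nat_lit 4097) (nat_lit 2) (nat_lit 0) (nat_lit 2) (nat_lit 0) (nat_lit 0) (nat_lit 4) (nat_lit 1) (nat_lit 0) (nat_lit 1) (nat_lit 0) (nat_lit 1) (nat_lit 0) .nil))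
theorem c648 : (chk [] [] p648).n x333 s648 = true := by decide +kernel
noncomputable def p649 : Pf := (.ext (nat_lit 0) (nat_lit 0) (nat_lit 0x1100040080020) (nat_lit 0x10008004002001002002000002) (nat_lit 0x2003004008) (nat_lit 4097) (nat_lit 4100) (nat_lit 0xb004002001) (.dfs (nat_lit 1) (nat_lit 0x1002003004008) (nat_lit 0x100200300400b) (nat_lit 4097) (nat_lit 4097) (nat_lit 6) (nat_lit 0) (nat_lit 2) (nat_lit 0) (nat_lit 0) (nat_lit 4) (nat_lit 1) (nat_lit 0) (nat_lit 1) (nat_lit 0) (nat_lit 1) (nat_lit 0) .nil))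
theorem c649 : (chk [] [] p649).n x334 s649 = true := by decide +kernel
noncomputable def p650 : Pf := (.ext (nat_lit 0) (nat_lit 0) (nat_lit 0x1100040080020) (nat_lit 0x10008004002001002002000002) (nat_lit 0x2003004008) (nat_lit 4097) (nat_lit 4100) (nat_lit 0xb004002001) (.dfs (nat_lit 1) (nat_lit 0x1002003004008) (nat_lit 0x100200300400b) (nat_lit 4097) (nat_lit 4097) (nat_lit 6) (nat_lit 0) (nat_lit 2) (nat_lit 0) (nat_lit 0) (nat_lit 4) (nat_lit 1) (nat_lit 0) (nat_lit 1) (nat_lit 0) (nat_lit 1) (nat_lit 0) .nil))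
theorem c650 : (chk [] [] p650).n x335 s650 = true := by decide +kernel
noncomputable def p651 : Pf := (.lft (nat_lit 0x80020040010002004008001003001) (nat_lit 0) (nat_lit 0x10e80e00c80c00a80a0088080) (nat_lit 0x80040020010008004002001) (.extn a10 (nat_lit 0x80040020010008004002001) (nat_lit 0x1010040020080) (nat_lit 2) (nat_lit 0) (nat_lit 0) (nat_lit 0) (nat_lit 0x1000000010000000100000001) (.cE (nat_lit 0) b17 (nat_lit 0) (.cut (nat_lit 0)) (.cut (nat_lit 1)) (.cE (nat_lit 32) b18 (nat_lit 0) (.cut (nat_lit 2)) (.cut (nat_lit 3)) (.cE (nat_lit 64) b19 (nat_lit 0) (.cut (nat_lit 4)) (.cut (nat_lit 5)) (.cE (nat_lit 96) b20 (nat_lit 0) (.cut (nat_lit 6)) (.cut (nat_lit 7)) .nil))))))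
theorem c651 : (chk [(x328, s643), (x329, s644), (x330, s645), (x331, s646), (x332, s647), (x333, s648), (x334, s649), (x335, s650)] [] p651).n x319 s651 = true := by decide +kernel
noncomputable def p652 : Pf := (.ext (nat_lit 1) (nat_lit 0) (nat_lit 0x1080060040008) (nat_lit 0x14008004002005080060020002001002) (nat_lit 0x200300400a) (nat_lit 0x1014002001) (nat_lit 0x1017001003) (nat_lit 0xe00400200100a004002001009004002001) (.dfs (nat_lit 1) (nat_lit 0x100200300400a) (nat_lit 0x100200300400b) (nat_lit 0x1008001) (nat_lit 0x1009001) (nat_lit 0) (nat_lit 0) (nat_lit 2) (nat_lit 1) (nat_lit 0) (nat_lit 3) (nat_lit 1) (nat_lit 0) (nat_lit 4224) (nat_lit 128) (nat_lit 0x100000300000b00002300002b) (nat_lit 0x80800000808) (.cD (nat_lit 3) (.dfs (nat_lit 2) (nat_lit 0x1004006008014) (nat_lit 0x1004006008010) (nat_lit 0x1010002001) (nat_lit 0x1014002001) (nat_lit 0) (nat_lit 0) (nat_lit 2) (nat_lit 1) (nat_lit 0) (nat_lit 1) (nat_lit 1) (nat_lit 0) (nat_lit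 1) (nat_lit 0) (nat_lit 1) (nat_lit 0x202000002020000020200000202) (.cD (nat_lit 1) (.dfs (nat_lit 20) (nat_lit 0x100800c010028) (nat_lit 0x100800c010030) (nat_lit 0x1020004002001) (nat_lit 0x1038004002001) (nat_lit 0) (nat_lit 0) (nat_lit 2) (nat_lit 1) (nat_lit 0) (nat_lit 23) (nat_lit 1) (nat_lit 0) (nat_lit 1) (nat_lit 0) (nat_lit 1) (nat_lit 0x80800000808000008080000080800000) (.cD (nat_lit 23) (.cut (nat_lit 0)) (.cD (nat_lit 31) (.kS (nat_lit 1) (nat_lit 0x2004008014007002020060080003002) (nat_lit 4118) (nat_lit 0x8004002003) (nat_lit 0x801002004000300100a0200600b001c003002004008014001008003)) (.cD (nat_lit 55) (.kS (nat_lit 1) (nat_lit 0x8018020068002004004000002) (nat_lit 0x100100307d) (nat_lit 0x800400200901000800400a00102001000801c002001) (nat_lit 0x400400000801002004000400200100100400400000801802006800400603d001004)) (.cD (nat_lit 63) (.kS (nat_lit 1) (nat_lit 0x8018020068002004004000002) (nat_lit 0x1001003035) (nat_lit 0x800400200901000800400a00102001000801c002001)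 (nat_lit 0x4004000008010020040004002001001004004000008018020068004006035001004)) (.cD (nat_lit 87) (.kS (nat_lit 1) (nat_lit 0x8018020068002004004000002) (nat_lit 0x100100301d) (nat_lit 0x800400200901000800400a00102001000801c002001) (nat_lit 0x400400000801002004000400200100100400400000801802006800400601d001004)) (.cD (nat_lit 95) (.kS (nat_lit 1) (nat_lit 0x8018020068002004004000002) (nat_lit 0x1001003055) (nat_lit 0x800400200901000800400a00102001000801c002001) (nat_lit 0x4004000008010020040004002001001004004000008018020068004006015001004)) (.cD (nat_lit 119) (.kS (nat_lit 1) (nat_lit 0x10018020050002001) (nat_lit 0x1002003075) (nat_lit 0x800400200901000800400a00102001000801c002001) (nat_lit 0x18008020048006004027001008010020040004002001001010018020050002006025001003)) (.cD (nat_lit 127) (.kS (nat_lit 1) (nat_lit 0x10018020050002001) (nat_lit 0x100200303d) (nat_lit 0x800400200901000800400a00102001000801c002001) (nat_lit 0x1800802004800600403f00100801002004000400200100101001802005000200602d001003))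 .nil))))))))) (.cD (nat_lit 9) (.kS (nat_lit 1) (nat_lit 0x400c010034002004004000002) (nat_lit 0x1001043) (nat_lit 0x800400200901000800400a001) (nat_lit 0x400400000400801002000200100100400400000400c01003400200b001004)) (.cD (nat_lit 33) (.kS (nat_lit 1) (nat_lit 0x400c010034002004004000002) (nat_lit 0x100102b) (nat_lit 0x800400200901000800400a001) (nat_lit 0x400400000400801002000200100100400400000400c01003400201f001004)) (.cD (nat_lit 41) (.dfs (nat_lit 20) (nat_lit 0x100800c010028) (nat_lit 0x100800c010030) (nat_lit 0x1020004002001) (nat_lit 0x1038004002001) (nat_lit 0) (nat_lit 0) (nat_lit 2) (nat_lit 1) (nat_lit 0) (nat_lit 23) (nat_lit 1) (nat_lit 0) (nat_lit 1) (nat_lit 0) (nat_lit 1) (nat_lit 0x80800000808000008080000080800000) (.cD (nat_lit 23) (.kS (nat_lit 1) (nat_lit 0x2004008014007002020060080003002) (nat_lit 4118) (nat_lit 0x8004002003) (nat_lit 0x801002004000300100a0200600b001c003002004008014001008003)) (.cD (nat_lit 31) (.iso x319 s651 (nat_lit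 0) (nat_lit 0x1080040020010008004002021) (nat_lit 0x80040020010008004002021) [(nat_lit 0x4002001000803c012031001080080000002), (nat_lit 0x80040020010008004002041003001), (nat_lit 0x10008004002001005001)] (.cut (nat_lit 0))) (.cD (nat_lit 55) (.kS (nat_lit 1) (nat_lit 0x8018020068002004004000002) (nat_lit 0x100106b07d) (nat_lit 0x800400200901000800400a00102001000801c002001) (nat_lit 0x400400000801002004000400200100100400400000801802006800402e03d001004)) (.cD (nat_lit 63) (.kS (nat_lit 1) (nat_lit 0x8018020068002004004000002) (nat_lit 0x100106b035) (nat_lit 0x800400200901000800400a00102001000801c002001) (nat_lit 0x400400000801002004000400200100100400400000801802006800402e035001004)) (.cD (nat_lit 87) (.kS (nat_lit 1) (nat_lit 0x8018020068002004004000002) (nat_lit 0x100106b01d) (nat_lit 0x800400200901000800400a00102001000801c002001) (nat_lit 0x400400000801002004000400200100100400400000801802006800402e01d001004)) (.cD (nat_lit 95) (.kS (nat_lit 1) (nat_lit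 0x8018020068002004004000002) (nat_lit 0x100106b055) (nat_lit 0x800400200901000800400a00102001000801c002001) (nat_lit 0x400400000801002004000400200100100400400000801802006800402e015001004)) (.cD (nat_lit 119) (.kS (nat_lit 1) (nat_lit 0x10018020050002001) (nat_lit 0x106a06b075) (nat_lit 0x800400200901000800400a00102001000801c002001) (nat_lit 0x1800802004800603c02700100801002004000400200100101001802005002a02e025001003)) (.cD (nat_lit 127) (.kS (nat_lit 1) (nat_lit 0x10018020050002001) (nat_lit 0x106a06b03d) (nat_lit 0x800400200901000800400a00102001000801c002001) (nat_lit 0x1800802004800603c03f00100801002004000400200100101001802005002a02e02d001003)) .nil))))))))) (.cD (nat_lit 65) (.kS (nat_lit 1) (nat_lit 0x400c010034002004004000002) (nat_lit 0x100104b) (nat_lit 0x800400200901000800400a001) (nat_lit 0x400400000400801002000200100100400400000400c01003400200f001004)) (.cD (nat_lit 73) (.dfs (nat_lit 20) (nat_lit 0x100800c010028) (nat_lit 0x100800c010030) (nat_lit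 0x1020004002001) (nat_lit 0x1038004002001) (nat_lit 0) (nat_lit 0) (nat_lit 2) (nat_lit 1) (nat_lit 0) (nat_lit 23) (nat_lit 1) (nat_lit 0) (nat_lit 1) (nat_lit 0) (nat_lit 1) (nat_lit 0x80800000808000008080000080800000) (.cD (nat_lit 23) (.kS (nat_lit 1) (nat_lit 0x10018020050002001) (nat_lit 0x100a00b015) (nat_lit 0x800400200901000800400a00102001000801c002001) (nat_lit 0x1800802004800601c00700100801002004000400200100101001802005000a00e005001003)) (.cD (nat_lit 31) (.kS (nat_lit 1) (nat_lit 0x10018020050002001) (nat_lit 0x100a00b05d) (nat_lit 0x800400200901000800400a00102001000801c002001) (nat_lit 0x1800802004800601c01f00100801002004000400200100101001802005000a00e00d001003)) (.cD (nat_lit 55) (.kS (nat_lit 1) (nat_lit 0x8018020068002004004000002) (nat_lit 0x100100b07d) (nat_lit 0x800400200901000800400a00102001000801c002001) (nat_lit 0x400400000801002004000400200100100400400000801802006800400e03d001004)) (.cD (nat_lit 63) (.kS (nat_lit 1) (nat_lit 0x8018020068002004004000002)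 (nat_lit 0x100100b035) (nat_lit 0x800400200901000800400a00102001000801c002001) (nat_lit 0x400400000801002004000400200100100400400000801802006800400e035001004)) (.cD (nat_lit 87) (.kS (nat_lit 1) (nat_lit 0x8018020068002004004000002) (nat_lit 0x100100b01d) (nat_lit 0x800400200901000800400a00102001000801c002001) (nat_lit 0x400400000801002004000400200100100400400000801802006800400e01d001004)) (.cD (nat_lit 95) (.kS (nat_lit 1) (nat_lit 0x8018020068002004004000002) (nat_lit 0x100100b055) (nat_lit 0x800400200901000800400a00102001000801c002001) (nat_lit 0x400400000801002004000400200100100400400000801802006800400e015001004)) (.cD (nat_lit 119) (.kS (nat_lit 1) (nat_lit 0x2004008014007002020060080003002) (nat_lit 4118) (nat_lit 0x8004002003) (nat_lit 0x801002004000300100a0200600b001c003002004008014001008003)) (.cD (nat_lit 127) (.iso x319 s651 (nat_lit 0) (nat_lit 0x1080040020010008004002041) (nat_lit 0x80040020010008004002041) [(nat_lit 0x4002001000801c012031001080080000002),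 (nat_lit 0x80040020010008004002021003001), (nat_lit 0x10008004002001005001)] (.cut (nat_lit 0))) .nil))))))))) (.cD (nat_lit 97) (.dfs (nat_lit 20) (nat_lit 0x100800c010028) (nat_lit 0x100800c010030) (nat_lit 0x1020004002001) (nat_lit 0x1038004002001) (nat_lit 0) (nat_lit 0) (nat_lit 2) (nat_lit 1) (nat_lit 0) (nat_lit 23) (nat_lit 1) (nat_lit 0) (nat_lit 1) (nat_lit 0) (nat_lit 1) (nat_lit 0x80800000808000008080000080800000) (.cD (nat_lit 23) (.kS (nat_lit 1) (nat_lit 0x10018020050002001) (nat_lit 0x1062063015) (nat_lit 0x800400200901000800400a00102001000801c002001) (nat_lit 0x18008020048006024007001008010020040004002001001010018020050022026005001003)) (.cD (nat_lit 31) (.kS (nat_lit 1) (nat_lit 0x10018020050002001) (nat_lit 0x106206305d) (nat_lit 0x800400200901000800400a00102001000801c002001) (nat_lit 0x1800802004800602401f00100801002004000400200100101001802005002202600d001003)) (.cD (nat_lit 55) (.kS (nat_lit 1) (nat_lit 0x8018020068002004004000002)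 (nat_lit 0x100106307d) (nat_lit 0x800400200901000800400a00102001000801c002001) (nat_lit 0x400400000801002004000400200100100400400000801802006800402603d001004)) (.cD (nat_lit 63) (.kS (nat_lit 1) (nat_lit 0x8018020068002004004000002) (nat_lit 0x1001063035) (nat_lit 0x800400200901000800400a00102001000801c002001) (nat_lit 0x4004000008010020040004002001001004004000008018020068004026035001004)) (.cD (nat_lit 87) (.kS (nat_lit 1) (nat_lit 0x8018020068002004004000002) (nat_lit 0x100106301d) (nat_lit 0x800400200901000800400a00102001000801c002001) (nat_lit 0x400400000801002004000400200100100400400000801802006800402601d001004)) (.cD (nat_lit 95) (.kS (nat_lit 1) (nat_lit 0x8018020068002004004000002) (nat_lit 0x1001063055) (nat_lit 0x800400200901000800400a00102001000801c002001) (nat_lit 0x4004000008010020040004002001001004004000008018020068004026015001004)) (.cD (nat_lit 119) (.iso x319 s651 (nat_lit 0) (nat_lit 0x1080040020010008004002061) (nat_lit 0x80040020010008004002061)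 [(nat_lit 0x40020010008024002001001001), (nat_lit 0x80040020010008004002061003001), (nat_lit 0x10008004002001005001)] (.cut (nat_lit 0))) (.cD (nat_lit 127) (.kS (nat_lit 1) (nat_lit 0x2004008014007002020060080003002) (nat_lit 4118) (nat_lit 0x8004002003) (nat_lit 0x801002004000300100a0200600b001c003002004008014001008003)) .nil))))))))) (.cD (nat_lit 105) (.kS (nat_lit 1) (nat_lit 0x400c010034002004004000002) (nat_lit 0x1001023) (nat_lit 0x800400200901000800400a001) (nat_lit 0x400400000400801002000200100100400400000400c01003400201b001004)) .nil))))))))) (.cD (nat_lit 11) (.dfs (nat_lit 2) (nat_lit 0x1004006008014) (nat_lit 0x1004006008010) (nat_lit 0x1010002001) (nat_lit 0x1014002001) (nat_lit 0) (nat_lit 0) (nat_lit 2) (nat_lit 1) (nat_lit 0) (nat_lit 1) (nat_lit 1) (nat_lit 0) (nat_lit 1) (nat_lit 0) (nat_lit 1) (nat_lit 0x202000002020000020200000202) (.cD (nat_lit 1) (.kS (nat_lit 1) (nat_lit 0x400c010034002004004000002) (nat_lit 0x1041043) (nat_lit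 0x800400200901000800400a001) (nat_lit 0x400400000400801002000200100100400400000400c01003400a00b001004)) (.cD (nat_lit 9) (.kS (nat_lit 1) (nat_lit 0x800c010028002001) (nat_lit 4162) (nat_lit 0x8004002009) (nat_lit 0xc00401002400700100400801002000200100800c010028009001003)) (.cD (nat_lit 33) (.kS (nat_lit 1) (nat_lit 0x800c010028002001) (nat_lit 4138) (nat_lit 0x8004002009) (nat_lit 0xc00401002400700100400801002000200100800c01002801d001003)) (.cD (nat_lit 41) (.kS (nat_lit 1) (nat_lit 0x400c010034002004004000002) (nat_lit 0x104102b) (nat_lit 0x800400200901000800400a001) (nat_lit 0x400400000400801002000200100100400400000400c01003400a01f001004)) (.cD (nat_lit 65) (.kS (nat_lit 1) (nat_lit 0x800c010028002001) (nat_lit 4170) (nat_lit 0x8004002009) (nat_lit 0xc00401002400700100400801002000200100800c01002800d001003)) (.cD (nat_lit 73) (.kS (nat_lit 1) (nat_lit 0x400c010034002004004000002) (nat_lit 0x104104b) (nat_lit 0x800400200901000800400a001) (nat_lit 0x400400000400801002000200100100400400000400c01003400a00f001004))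 (.cD (nat_lit 97) (.kS (nat_lit 1) (nat_lit 0x400c010034002004004000002) (nat_lit 0x1041023) (nat_lit 0x800400200901000800400a001) (nat_lit 0x400400000400801002000200100100400400000400c01003400a01b001004)) (.cD (nat_lit 105) (.kS (nat_lit 1) (nat_lit 0x800c010028002001) (nat_lit 4130) (nat_lit 0x8004002009) (nat_lit 0xc00401002400700100400801002000200100800c010028019001003)) .nil))))))))) (.cD (nat_lit 35) (.dfs (nat_lit 2) (nat_lit 0x1004006008014) (nat_lit 0x1004006008010) (nat_lit 0x1010002001) (nat_lit 0x1014002001) (nat_lit 0) (nat_lit 0) (nat_lit 2) (nat_lit 1) (nat_lit 0) (nat_lit 1) (nat_lit 1) (nat_lit 0) (nat_lit 1) (nat_lit 0) (nat_lit 1) (nat_lit 0x202000002020000020200000202) (.cD (nat_lit 1) (.kS (nat_lit 1) (nat_lit 0x400c010034002004004000002) (nat_lit 0x102902b) (nat_lit 0x800400200901000800400a001) (nat_lit 0x400400000400801002000200100100400400000400c01003401e01f001004)) (.cD (nat_lit 9) (.kS (nat_lit 1) (nat_lit 0x400c010034002004004000002)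 (nat_lit 0x102906b) (nat_lit 0x800400200901000800400a001) (nat_lit 0x400400000400801002000200100100400400000400c01003401e017001004)) (.cD (nat_lit 33) (.kS (nat_lit 1) (nat_lit 0x400c010034002004004000002) (nat_lit 0x1029003) (nat_lit 0x800400200901000800400a001) (nat_lit 0x400400000400801002000200100100400400000400c01003401e003001004)) (.cD (nat_lit 41) (.kS (nat_lit 1) (nat_lit 0x400c010034002004004000002) (nat_lit 0x1029043) (nat_lit 0x800400200901000800400a001) (nat_lit 0x400400000400801002000200100100400400000400c01003401e00b001004)) (.cD (nat_lit 65) (.kS (nat_lit 1) (nat_lit 0x400c010034002004004000002) (nat_lit 0x1029063) (nat_lit 0x800400200901000800400a001) (nat_lit 0x400400000400801002000200100100400400000400c01003401e013001004)) (.cD (nat_lit 73) (.kS (nat_lit 1) (nat_lit 0x400c010034002004004000002) (nat_lit 0x1029023) (nat_lit 0x800400200901000800400a001) (nat_lit 0x400400000400801002000200100100400400000400c01003401e01b001004)) (.cD (nat_lit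 97) (.kS (nat_lit 1) (nat_lit 0x400c010034002004004000002) (nat_lit 0x102904b) (nat_lit 0x800400200901000800400a001) (nat_lit 0x400400000400801002000200100100400400000400c01003401e00f001004)) (.cD (nat_lit 105) (.kS (nat_lit 1) (nat_lit 0x400c010034002004004000002) (nat_lit 0x102900b) (nat_lit 0x800400200901000800400a001) (nat_lit 0x400400000400801002000200100100400400000400c01003401e007001004)) .nil))))))))) (.cD (nat_lit 43) (.dfs (nat_lit 2) (nat_lit 0x1004006008014) (nat_lit 0x1004006008010) (nat_lit 0x1010002001) (nat_lit 0x1014002001) (nat_lit 0) (nat_lit 0) (nat_lit 2) (nat_lit 1) (nat_lit 0) (nat_lit 1) (nat_lit 1) (nat_lit 0) (nat_lit 1) (nat_lit 0) (nat_lit 1) (nat_lit 0x202000002020000020200000202) (.cD (nat_lit 1) (.kS (nat_lit 1) (nat_lit 0x400c010034002004004000002) (nat_lit 0x106906b) (nat_lit 0x800400200901000800400a001) (nat_lit 0x400400000400801002000200100100400400000400c010034016017001004)) (.cD (nat_lit 9) (.kS (nat_lit 1) (nat_lit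 0x400c010034002004004000002) (nat_lit 0x106902b) (nat_lit 0x800400200901000800400a001) (nat_lit 0x400400000400801002000200100100400400000400c01003401601f001004)) (.cD (nat_lit 33) (.kS (nat_lit 1) (nat_lit 0x400c010034002004004000002) (nat_lit 0x1069043) (nat_lit 0x800400200901000800400a001) (nat_lit 0x400400000400801002000200100100400400000400c01003401600b001004)) (.cD (nat_lit 41) (.kS (nat_lit 1) (nat_lit 0x400c010034002004004000002) (nat_lit 0x1069003) (nat_lit 0x800400200901000800400a001) (nat_lit 0x400400000400801002000200100100400400000400c010034016003001004)) (.cD (nat_lit 65) (.kS (nat_lit 1) (nat_lit 0x400c010034002004004000002) (nat_lit 0x1069023) (nat_lit 0x800400200901000800400a001) (nat_lit 0x400400000400801002000200100100400400000400c01003401601b001004)) (.cD (nat_lit 73) (.kS (nat_lit 1) (nat_lit 0x400c010034002004004000002) (nat_lit 0x1069063) (nat_lit 0x800400200901000800400a001) (nat_lit 0x400400000400801002000200100100400400000400c010034016013001004))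 (.cD (nat_lit 97) (.kS (nat_lit 1) (nat_lit 0x400c010034002004004000002) (nat_lit 0x106900b) (nat_lit 0x800400200901000800400a001) (nat_lit 0x400400000400801002000200100100400400000400c010034016007001004)) (.cD (nat_lit 105) (.kS (nat_lit 1) (nat_lit 0x400c010034002004004000002) (nat_lit 0x106904b) (nat_lit 0x800400200901000800400a001) (nat_lit 0x400400000400801002000200100100400400000400c01003401600f001004)) .nil))))))))) .nil))))))
theorem c652 : (chk [(x319, s651)] [g8] p652).n x319 s652 = true := by decide +kernel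
noncomputable def p653 : Pf := (.ext (nat_lit 0) (nat_lit 0) (nat_lit 0x1100040080020) (nat_lit 0x10008004002003002002000002) (nat_lit 0x2003004008) (nat_lit 0x1008004001) (nat_lit 0x1008005004) (nat_lit 0xc00400200100a00400200100b004002001) (.dfs (nat_lit 1) (nat_lit 0x1002003004008) (nat_lit 0x100200300400b) (nat_lit 4097) (nat_lit 4097) (nat_lit 0) (nat_lit 0) (nat_lit 2) (nat_lit 0) (nat_lit 0) (nat_lit 4) (nat_lit 1) (nat_lit 0) (nat_lit 4480) (nat_lit 384) (nat_lit 0x1000004000024000044000064) (nat_lit 0x10000000100000001000000010) (.cD (nat_lit 4) (.dfs (nat_lit 4) (nat_lit 0x1004006008010) (nat_lit 0x1004006008014) (nat_lit 0x1002001) (nat_lit 0x1002001) (nat_lit 0) (nat_lit 0) (nat_lit 2) (nat_lit 0) (nat_lit 0) (nat_lit 5) (nat_lit 1) (nat_lit 0) (nat_lit 1) (nat_lit 0) (nat_lit 1) (nat_lit 0x2000000020000000200000002000000020000000200000002000000020) (.cD (nat_lit 5) (.dfs (nat_lit 8) (nat_lit 0x100800c010020) (nat_lit 0x100800c010030) (nat_lit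 0x1004002001) (nat_lit 0x1004002001) (nat_lit 0) (nat_lit 0) (nat_lit 2) (nat_lit 0) (nat_lit 0) (nat_lit 8) (nat_lit 1) (nat_lit 0) (nat_lit 1) (nat_lit 0) (nat_lit 1) (nat_lit 0x10000000100000001000000010000000100000001000000010000000100) (.cD (nat_lit 8) (.kS (nat_lit 0) (nat_lit 0x8018020040002010010000002) (nat_lit 0x10040010a8) (nat_lit 0x800400200d01000800400a00102001000800c002001) (nat_lit 0x10010000008010020040004002001001010010000008018020040002004019001004)) (.cD (nat_lit 40) (.iso x320 s630 (nat_lit 0) (nat_lit 0x11000800c001002003c004005006) (nat_lit 0x1000800c001002003c004005006) [(nat_lit 0x5002001000800600201b003004004000002), (nat_lit 0x5002001000800600201b001004004000002)] (.cut (nat_lit 0))) (.cD (nat_lit 72) (.kS (nat_lit 0) (nat_lit 0x8018020040002010010000002) (nat_lit 0x10040010e8) (nat_lit 0x800400200d01000800400a00102001000800c002001) (nat_lit 0x10010000008010020040004002001001010010000008018020040002004039001004)) (.cD (nat_lit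 104) (.kS (nat_lit 0) (nat_lit 0x10018020040002001) (nat_lit 0x10050010c8) (nat_lit 0x800400200d01000800400a00102001000800c002001) (nat_lit 0x18008020040002006029001008010020040004002001001010018020040006004031001003)) (.cD (nat_lit 136) (.kS (nat_lit 0) (nat_lit 0x2004008010005002002000002) (nat_lit 4136) (nat_lit 0x8004002003) (nat_lit 0x8010020040001001002002000002004008010001006003)) (.cD (nat_lit 168) (.kS (nat_lit 0) (nat_lit 0x8018020040002010010000002) (nat_lit 0x1004001088) (nat_lit 0x800400200d01000800400a00102001000800c002001) (nat_lit 0x10010000008010020040004002001001010010000008018020040002004011001004)) (.cD (nat_lit 200) (.kS (nat_lit 0) (nat_lit 0x10018020040002001) (nat_lit 0x10050010e8) (nat_lit 0x800400200d01000800400a00102001000800c002001) (nat_lit 0x18008020040002006031001008010020040004002001001010018020040006004039001003)) (.cD (nat_lit 232) (.kS (nat_lit 0) (nat_lit 0x8018020040002010010000002) (nat_lit 0x10040010c8) (nat_lit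 0x800400200d01000800400a00102001000800c002001) (nat_lit 0x10010000008010020040004002001001010010000008018020040002004031001004)) .nil))))))))) (.cD (nat_lit 37) (.kS (nat_lit 0) (nat_lit 0x800c010020002001) (nat_lit 4229) (nat_lit 0x800400200d) (nat_lit 0xc00401002000100100400801002000200100800c01002000b001003)) (.cD (nat_lit 69) (.kS (nat_lit 0) (nat_lit 0x400c010020002010010000002) (nat_lit 4164) (nat_lit 0x800400200d) (nat_lit 0x1001000000400801002000200101001000000400c010020011001004)) (.cD (nat_lit 101) (.kS (nat_lit 0) (nat_lit 0x400c010020002010010000002) (nat_lit 4292) (nat_lit 0x800400200d) (nat_lit 0x1001000000400801002000200101001000000400c010020019001004)) (.cD (nat_lit 133) (.kS (nat_lit 0) (nat_lit 0x400c010020002010010000002) (nat_lit 4260) (nat_lit 0x800400200d) (nat_lit 0x1001000000400801002000200101001000000400c01002000d001004)) (.cD (nat_lit 165) (.kS (nat_lit 0) (nat_lit 0x400c010020002010010000002) (nat_lit 4132) (nat_lit 0x800400200d)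 (nat_lit 0x1001000000400801002000200101001000000400c010020005001004)) (.cD (nat_lit 197) (.kS (nat_lit 0) (nat_lit 0x400c010020002010010000002) (nat_lit 4324) (nat_lit 0x800400200d) (nat_lit 0x1001000000400801002000200101001000000400c01002001d001004)) (.cD (nat_lit 229) (.kS (nat_lit 0) (nat_lit 0x400c010020002010010000002) (nat_lit 4196) (nat_lit 0x800400200d) (nat_lit 0x1001000000400801002000200101001000000400c010020015001004)) .nil))))))))) (.cD (nat_lit 36) (.dfs (nat_lit 4) (nat_lit 0x1004006008010) (nat_lit 0x1004006008014) (nat_lit 0x1002001) (nat_lit 0x1002001) (nat_lit 0) (nat_lit 0) (nat_lit 2) (nat_lit 0) (nat_lit 0) (nat_lit 5) (nat_lit 1) (nat_lit 0) (nat_lit 1) (nat_lit 0) (nat_lit 1) (nat_lit 0x2000000020000000200000002000000020000000200000002000000020) (.cD (nat_lit 5) (.kS (nat_lit 0) (nat_lit 0x400c010020002010010000002) (nat_lit 4100) (nat_lit 0x800400200d) (nat_lit 0x1001000000400801002000200101001000000400c010020001001004)) (.cD (nat_lit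 37) (.kS (nat_lit 0) (nat_lit 0x400c010020002010010000002) (nat_lit 4228) (nat_lit 0x800400200d) (nat_lit 0x1001000000400801002000200101001000000400c010020009001004)) (.cD (nat_lit 69) (.kS (nat_lit 0) (nat_lit 0x400c010020002010010000002) (nat_lit 4164) (nat_lit 0x800400200d) (nat_lit 0x1001000000400801002000200101001000000400c010020011001004)) (.cD (nat_lit 101) (.kS (nat_lit 0) (nat_lit 0x400c010020002010010000002) (nat_lit 4292) (nat_lit 0x800400200d) (nat_lit 0x1001000000400801002000200101001000000400c010020019001004)) (.cD (nat_lit 133) (.dfs (nat_lit 8) (nat_lit 0x100800c010020) (nat_lit 0x100800c010030) (nat_lit 0x1004002001) (nat_lit 0x1004002001) (nat_lit 0) (nat_lit 0) (nat_lit 2) (nat_lit 0) (nat_lit 0) (nat_lit 8) (nat_lit 1) (nat_lit 0) (nat_lit 1) (nat_lit 0) (nat_lit 1) (nat_lit 0x10000000100000001000000010000000100000001000000010000000100) (.cD (nat_lit 8) (.kS (nat_lit 0) (nat_lit 0x8018020040002010010000002) (nat_lit 0x10a40810a8) (nat_lit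 0x800400200d01000800400a00102001000800c002001) (nat_lit 0x1001000000801002004000400200100101001000000801802004001a014019001004)) (.cD (nat_lit 40) (.iso x320 s630 (nat_lit 0) (nat_lit 0x11000800c001002003c004085006) (nat_lit 0x1000800c001002003c004005086) [(nat_lit 0x5002001000800600201b003004004000002), (nat_lit 0x5002001000801600201b001004004000002)] (.cut (nat_lit 0))) (.cD (nat_lit 72) (.kS (nat_lit 0) (nat_lit 0x8018020040002010010000002) (nat_lit 0x10a40810e8) (nat_lit 0x800400200d01000800400a00102001000800c002001) (nat_lit 0x1001000000801002004000400200100101001000000801802004001a014039001004)) (.cD (nat_lit 104) (.kS (nat_lit 0) (nat_lit 0x10018020040002001) (nat_lit 0x10250810c8) (nat_lit 0x800400200d01000800400a00102001000800c002001) (nat_lit 0x1800802004000a01602900100801002004000400200100101001802004000e014031001003)) (.cD (nat_lit 136) (.kS (nat_lit 0) (nat_lit 0x2004008010005002002000002) (nat_lit 4136) (nat_lit 0x8004002003) (nat_lit 0x8010020040001001002002000002004008010001006003))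 (.cD (nat_lit 168) (.kS (nat_lit 0) (nat_lit 0x8018020040002010010000002) (nat_lit 0x10a4081088) (nat_lit 0x800400200d01000800400a00102001000800c002001) (nat_lit 0x1001000000801002004000400200100101001000000801802004001a014011001004)) (.cD (nat_lit 200) (.kS (nat_lit 0) (nat_lit 0x10018020040002001) (nat_lit 0x10250810e8) (nat_lit 0x800400200d01000800400a00102001000800c002001) (nat_lit 0x1800802004000a01603100100801002004000400200100101001802004000e014039001003)) (.cD (nat_lit 232) (.kS (nat_lit 0) (nat_lit 0x8018020040002010010000002) (nat_lit 0x10a40810c8) (nat_lit 0x800400200d01000800400a00102001000800c002001) (nat_lit 0x1001000000801002004000400200100101001000000801802004001a014031001004)) .nil))))))))) (.cD (nat_lit 165) (.kS (nat_lit 0) (nat_lit 0x800c010020002001) (nat_lit 4261) (nat_lit 0x800400200d) (nat_lit 0xc00401002000500100400801002000200100800c01002000f001003)) (.cD (nat_lit 197) (.kS (nat_lit 0) (nat_lit 0x400c010020002010010000002) (nat_lit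 4324) (nat_lit 0x800400200d) (nat_lit 0x1001000000400801002000200101001000000400c01002001d001004)) (.cD (nat_lit 229) (.kS (nat_lit 0) (nat_lit 0x400c010020002010010000002) (nat_lit 4196) (nat_lit 0x800400200d) (nat_lit 0x1001000000400801002000200101001000000400c010020015001004)) .nil))))))))) (.cD (nat_lit 68) (.dfs (nat_lit 4) (nat_lit 0x1004006008010) (nat_lit 0x1004006008014) (nat_lit 0x1002001) (nat_lit 0x1002001) (nat_lit 0) (nat_lit 0) (nat_lit 2) (nat_lit 0) (nat_lit 0) (nat_lit 5) (nat_lit 1) (nat_lit 0) (nat_lit 1) (nat_lit 0) (nat_lit 1) (nat_lit 0x2000000020000000200000002000000020000000200000002000000020) (.cD (nat_lit 5) (.kS (nat_lit 0) (nat_lit 0x400c010020002010010000002) (nat_lit 4100) (nat_lit 0x800400200d) (nat_lit 0x1001000000400801002000200101001000000400c010020001001004)) (.cD (nat_lit 37) (.kS (nat_lit 0) (nat_lit 0x400c010020002010010000002) (nat_lit 4228) (nat_lit 0x800400200d) (nat_lit 0x1001000000400801002000200101001000000400c010020009001004))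 (.cD (nat_lit 69) (.dfs (nat_lit 8) (nat_lit 0x100800c010020) (nat_lit 0x100800c010030) (nat_lit 0x1004002001) (nat_lit 0x1004002001) (nat_lit 0) (nat_lit 0) (nat_lit 2) (nat_lit 0) (nat_lit 0) (nat_lit 8) (nat_lit 1) (nat_lit 0) (nat_lit 1) (nat_lit 0) (nat_lit 1) (nat_lit 0x10000000100000001000000010000000100000001000000010000000100) (.cD (nat_lit 8) (.kS (nat_lit 0) (nat_lit 0x8018020040002010010000002) (nat_lit 0x10440410a8) (nat_lit 0x800400200d01000800400a00102001000800c002001) (nat_lit 0x10010000008010020040004002001001010010000008018020040022024019001004)) (.cD (nat_lit 40) (.iso x320 s630 (nat_lit 0) (nat_lit 0x11000800c001002003c004045006) (nat_lit 0x1000800c001002003c0040050c6) [(nat_lit 0x5002001000800600201b003004004000002), (nat_lit 0x5002001000802600201b001004004000002)] (.cut (nat_lit 0))) (.cD (nat_lit 72) (.kS (nat_lit 0) (nat_lit 0x8018020040002010010000002) (nat_lit 0x10440410e8) (nat_lit 0x800400200d01000800400a00102001000800c002001)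 (nat_lit 0x10010000008010020040004002001001010010000008018020040022024039001004)) (.cD (nat_lit 104) (.kS (nat_lit 0) (nat_lit 0x10018020040002001) (nat_lit 0x10050410c8) (nat_lit 0x800400200d01000800400a00102001000800c002001) (nat_lit 0x18008020040022026029001008010020040004002001001010018020040006024031001003)) (.cD (nat_lit 136) (.kS (nat_lit 0) (nat_lit 0x2004008010005002002000002) (nat_lit 4136) (nat_lit 0x8004002003) (nat_lit 0x8010020040001001002002000002004008010001006003)) (.cD (nat_lit 168) (.kS (nat_lit 0) (nat_lit 0x8018020040002010010000002) (nat_lit 0x1044041088) (nat_lit 0x800400200d01000800400a00102001000800c002001) (nat_lit 0x10010000008010020040004002001001010010000008018020040022024011001004)) (.cD (nat_lit 200) (.kS (nat_lit 0) (nat_lit 0x10018020040002001) (nat_lit 0x10050410e8) (nat_lit 0x800400200d01000800400a00102001000800c002001) (nat_lit 0x18008020040022026031001008010020040004002001001010018020040006024039001003)) (.cD (nat_lit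 232) (.kS (nat_lit 0) (nat_lit 0x8018020040002010010000002) (nat_lit 0x10440410c8) (nat_lit 0x800400200d01000800400a00102001000800c002001) (nat_lit 0x10010000008010020040004002001001010010000008018020040022024031001004)) .nil))))))))) (.cD (nat_lit 101) (.kS (nat_lit 0) (nat_lit 0x800c010020002001) (nat_lit 4229) (nat_lit 0x800400200d) (nat_lit 0xc00401002001100100400801002000200100800c01002000b001003)) (.cD (nat_lit 133) (.kS (nat_lit 0) (nat_lit 0x400c010020002010010000002) (nat_lit 4260) (nat_lit 0x800400200d) (nat_lit 0x1001000000400801002000200101001000000400c01002000d001004)) (.cD (nat_lit 165) (.kS (nat_lit 0) (nat_lit 0x400c010020002010010000002) (nat_lit 4132) (nat_lit 0x800400200d) (nat_lit 0x1001000000400801002000200101001000000400c010020005001004)) (.cD (nat_lit 197) (.kS (nat_lit 0) (nat_lit 0x400c010020002010010000002) (nat_lit 4324) (nat_lit 0x800400200d) (nat_lit 0x1001000000400801002000200101001000000400c01002001d001004)) (.cD (nat_lit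 229) (.kS (nat_lit 0) (nat_lit 0x400c010020002010010000002) (nat_lit 4196) (nat_lit 0x800400200d) (nat_lit 0x1001000000400801002000200101001000000400c010020015001004)) .nil))))))))) (.cD (nat_lit 100) (.dfs (nat_lit 4) (nat_lit 0x1004006008010) (nat_lit 0x1004006008014) (nat_lit 0x1002001) (nat_lit 0x1002001) (nat_lit 0) (nat_lit 0) (nat_lit 2) (nat_lit 0) (nat_lit 0) (nat_lit 5) (nat_lit 1) (nat_lit 0) (nat_lit 1) (nat_lit 0) (nat_lit 1) (nat_lit 0x2000000020000000200000002000000020000000200000002000000020) (.cD (nat_lit 5) (.kS (nat_lit 0) (nat_lit 0x400c010020002010010000002) (nat_lit 4100) (nat_lit 0x800400200d) (nat_lit 0x1001000000400801002000200101001000000400c010020001001004)) (.cD (nat_lit 37) (.kS (nat_lit 0) (nat_lit 0x400c010020002010010000002) (nat_lit 4228) (nat_lit 0x800400200d) (nat_lit 0x1001000000400801002000200101001000000400c010020009001004)) (.cD (nat_lit 69) (.kS (nat_lit 0) (nat_lit 0x400c010020002010010000002) (nat_lit 4164) (nat_lit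 0x800400200d) (nat_lit 0x1001000000400801002000200101001000000400c010020011001004)) (.cD (nat_lit 101) (.kS (nat_lit 0) (nat_lit 0x400c010020002010010000002) (nat_lit 4292) (nat_lit 0x800400200d) (nat_lit 0x1001000000400801002000200101001000000400c010020019001004)) (.cD (nat_lit 133) (.kS (nat_lit 0) (nat_lit 0x400c010020002010010000002) (nat_lit 4260) (nat_lit 0x800400200d) (nat_lit 0x1001000000400801002000200101001000000400c01002000d001004)) (.cD (nat_lit 165) (.kS (nat_lit 0) (nat_lit 0x400c010020002010010000002) (nat_lit 4132) (nat_lit 0x800400200d) (nat_lit 0x1001000000400801002000200101001000000400c010020005001004)) (.cD (nat_lit 197) (.dfs (nat_lit 8) (nat_lit 0x100800c010020) (nat_lit 0x100800c010030) (nat_lit 0x1004002001) (nat_lit 0x1004002001) (nat_lit 0) (nat_lit 0) (nat_lit 2) (nat_lit 0) (nat_lit 0) (nat_lit 8) (nat_lit 1) (nat_lit 0) (nat_lit 1) (nat_lit 0) (nat_lit 1) (nat_lit 0x10000000100000001000000010000000100000001000000010000000100)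 (.cD (nat_lit 8) (.kS (nat_lit 0) (nat_lit 0x8018020040002010010000002) (nat_lit 0x10e40c10a8) (nat_lit 0x800400200d01000800400a00102001000800c002001) (nat_lit 0x1001000000801002004000400200100101001000000801802004003a034019001004)) (.cD (nat_lit 40) (.iso x320 s630 (nat_lit 0) (nat_lit 0x11000800c001002003c0040c5006) (nat_lit 0x1000800c001002003c004005046) [(nat_lit 0x5002001000800600201b003004004000002), (nat_lit 0x5002001000803600201b001004004000002)] (.cut (nat_lit 0))) (.cD (nat_lit 72) (.kS (nat_lit 0) (nat_lit 0x8018020040002010010000002) (nat_lit 0x10e40c10e8) (nat_lit 0x800400200d01000800400a00102001000800c002001) (nat_lit 0x1001000000801002004000400200100101001000000801802004003a034039001004)) (.cD (nat_lit 104) (.kS (nat_lit 0) (nat_lit 0x10018020040002001) (nat_lit 0x10250c10c8) (nat_lit 0x800400200d01000800400a00102001000800c002001) (nat_lit 0x1800802004002a03602900100801002004000400200100101001802004000e034031001003)) (.cD (nat_lit 136)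 (.kS (nat_lit 0) (nat_lit 0x2004008010005002002000002) (nat_lit 4136) (nat_lit 0x8004002003) (nat_lit 0x8010020040001001002002000002004008010001006003)) (.cD (nat_lit 168) (.kS (nat_lit 0) (nat_lit 0x8018020040002010010000002) (nat_lit 0x10e40c1088) (nat_lit 0x800400200d01000800400a00102001000800c002001) (nat_lit 0x1001000000801002004000400200100101001000000801802004003a034011001004)) (.cD (nat_lit 200) (.kS (nat_lit 0) (nat_lit 0x10018020040002001) (nat_lit 0x10250c10e8) (nat_lit 0x800400200d01000800400a00102001000800c002001) (nat_lit 0x1800802004002a03603100100801002004000400200100101001802004000e034039001003)) (.cD (nat_lit 232) (.kS (nat_lit 0) (nat_lit 0x8018020040002010010000002) (nat_lit 0x10e40c10c8) (nat_lit 0x800400200d01000800400a00102001000800c002001) (nat_lit 0x1001000000801002004000400200100101001000000801802004003a034031001004)) .nil))))))))) (.cD (nat_lit 229) (.kS (nat_lit 0) (nat_lit 0x800c010020002001) (nat_lit 4261) (nat_lit 0x800400200d)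 (nat_lit 0xc00401002001500100400801002000200100800c01002000f001003)) .nil))))))))) .nil))))))
theorem c653 : (chk [(x320, s630)] [g13] p653).n x336 s653 = true := by decide +kernel
noncomputable def p654 : Pf := (.ext (nat_lit 1) (nat_lit 0) (nat_lit 0x11000c0080010) (nat_lit 0x14008004002001002002000002) (nat_lit 0x200300400a) (nat_lit 0x1004001) (nat_lit 0x1001005) (nat_lit 0xa004002001009004002001) (.dfs (nat_lit 1) (nat_lit 0x100200300400a) (nat_lit 0x100200300400b) (nat_lit 0x1008001) (nat_lit 0x1009001) (nat_lit 0) (nat_lit 0) (nat_lit 2) (nat_lit 1) (nat_lit 0) (nat_lit 5) (nat_lit 1) (nat_lit 0) (nat_lit 4480) (nat_lit 384) (nat_lit 0x1000005000015000045000055) (nat_lit 0x2000200000000000200020) (.cD (nat_lit 5) (.dfs (nat_lit 4) (nat_lit 0x1004006008014) (nat_lit 0x1004006008010) (nat_lit 0x1010002001) (nat_lit 0x1014002001) (nat_lit 0) (nat_lit 0) (nat_lit 2) (nat_lit 1) (nat_lit 0) (nat_lit 1) (nat_lit 1) (nat_lit 0) (nat_lit 1) (nat_lit 0)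 (nat_lit 1) (nat_lit 0) .nil) (.cD (nat_lit 21) (.dfs (nat_lit 4) (nat_lit 0x1004006008014) (nat_lit 0x1004006008010) (nat_lit 0x1010002001) (nat_lit 0x1014002001) (nat_lit 0) (nat_lit 0) (nat_lit 2) (nat_lit 1) (nat_lit 0) (nat_lit 1) (nat_lit 1) (nat_lit 0) (nat_lit 1) (nat_lit 0) (nat_lit 1) (nat_lit 0) .nil) (.cD (nat_lit 69) (.dfs (nat_lit 4) (nat_lit 0x1004006008014) (nat_lit 0x1004006008010) (nat_lit 0x1010002001) (nat_lit 0x1014002001) (nat_lit 0) (nat_lit 0) (nat_lit 2) (nat_lit 1) (nat_lit 0) (nat_lit 1) (nat_lit 1) (nat_lit 0) (nat_lit 1) (nat_lit 0) (nat_lit 1) (nat_lit 0) .nil) (.cD (nat_lit 85) (.dfs (nat_lit 4) (nat_lit 0x1004006008014) (nat_lit 0x1004006008010) (nat_lit 0x1010002001) (nat_lit 0x1014002001) (nat_lit 0) (nat_lit 0) (nat_lit 2) (nat_lit 1) (nat_lit 0) (nat_lit 1) (nat_lit 1) (nat_lit 0) (nat_lit 1) (nat_lit 0) (nat_lit 1) (nat_lit 0) .nil) .nil))))))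
theorem c654 : (chk [] [] p654).n x337 s654 = true := by decide +kernel
noncomputable def p655 : Pf := (.ext (nat_lit 1) (nat_lit 0) (nat_lit 0x11000c0080010) (nat_lit 0x14008004002001002002000002) (nat_lit 0x200300400a) (nat_lit 4097) (nat_lit 4101) (nat_lit 0x9004002001) (.dfs (nat_lit 1) (nat_lit 0x100200300400a) (nat_lit 0x100200300400b) (nat_lit 0x1008001) (nat_lit 0x1009001) (nat_lit 6) (nat_lit 0) (nat_lit 2) (nat_lit 1) (nat_lit 0) (nat_lit 5) (nat_lit 1) (nat_lit 0) (nat_lit 1) (nat_lit 0) (nat_lit 1) (nat_lit 0) .nil))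
theorem c655 : (chk [] [] p655).n x338 s655 = true := by decide +kernel
noncomputable def p656 : Pf := (.ext (nat_lit 1) (nat_lit 0) (nat_lit 0x11000c0080010) (nat_lit 0x14008004002001002002000002) (nat_lit 0x200300400a) (nat_lit 4097) (nat_lit 4101) (nat_lit 0x9004002001) (.dfs (nat_lit 1) (nat_lit 0x100200300400a) (nat_lit 0x100200300400b) (nat_lit 0x1008001) (nat_lit 0x1009001) (nat_lit 6) (nat_lit 0) (nat_lit 2) (nat_lit 1) (nat_lit 0) (nat_lit 5) (nat_lit 1) (nat_lit 0) (nat_lit 1) (nat_lit 0) (nat_lit 1) (nat_lit 0) .nil))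
theorem c656 : (chk [] [] p656).n x339 s656 = true := by decide +kernel
noncomputable def p657 : Pf := (.ext (nat_lit 1) (nat_lit 0) (nat_lit 0x11000c0080010) (nat_lit 0x14008004002001002002000002) (nat_lit 0x200300400a) (nat_lit 4097) (nat_lit 4101) (nat_lit 0x9004002001) (.dfs (nat_lit 1) (nat_lit 0x100200300400a) (nat_lit 0x100200300400b) (nat_lit 0x1008001) (nat_lit 0x1009001) (nat_lit 2) (nat_lit 0) (nat_lit 2) (nat_lit 1) (nat_lit 0) (nat_lit 5) (nat_lit 1) (nat_lit 0) (nat_lit 1) (nat_lit 0) (nat_lit 1) (nat_lit 0) .nil))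
theorem c657 : (chk [] [] p657).n x340 s657 = true := by decide +kernel
noncomputable def p658 : Pf := (.ext (nat_lit 1) (nat_lit 0) (nat_lit 0x11000c0080010) (nat_lit 0x14008004002001002002000002) (nat_lit 0x200300400a) (nat_lit 4097) (nat_lit 4101) (nat_lit 0x9004002001) (.dfs (nat_lit 1) (nat_lit 0x100200300400a) (nat_lit 0x100200300400b) (nat_lit 0x1008001) (nat_lit 0x1009001) (nat_lit 2) (nat_lit 0) (nat_lit 2) (nat_lit 1) (nat_lit 0) (nat_lit 5) (nat_lit 1) (nat_lit 0) (nat_lit 1) (nat_lit 0) (nat_lit 1) (nat_lit 0) .nil))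
theorem c658 : (chk [] [] p658).n x341 s658 = true := by decide +kernel
noncomputable def p659 : Pf := (.ext (nat_lit 1) (nat_lit 0) (nat_lit 0x11000c0080010) (nat_lit 0x14008004002001002002000002) (nat_lit 0x200300400a) (nat_lit 0x1004001) (nat_lit 0x1001005) (nat_lit 0xa004002001009004002001) (.dfs (nat_lit 1) (nat_lit 0x100200300400a) (nat_lit 0x100200300400b) (nat_lit 0x1008001) (nat_lit 0x1009001) (nat_lit 4) (nat_lit 0) (nat_lit 2) (nat_lit 1) (nat_lit 0) (nat_lit 5) (nat_lit 1) (nat_lit 0) (nat_lit 4480) (nat_lit 384) (nat_lit 0x1000005000015000045000055) (nat_lit 0x2000200000000000200020) (.cD (nat_lit 5) (.dfs (nat_lit 4) (nat_lit 0x1004006008014) (nat_lit 0x1004006008010) (nat_lit 0x1010002001) (nat_lit 0x1014002001) (nat_lit 0) (nat_lit 0) (nat_lit 2) (nat_lit 1) (nat_lit 0) (nat_lit 1) (nat_lit 1) (nat_lit 0) (nat_lit 1) (nat_lit 0) (nat_lit 1) (nat_lit 0) .nil) (.cD (nat_lit 21) (.dfs (nat_lit 4) (nat_lit 0x1004006008014) (nat_lit 0x1004006008010)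 (nat_lit 0x1010002001) (nat_lit 0x1014002001) (nat_lit 0) (nat_lit 0) (nat_lit 2) (nat_lit 1) (nat_lit 0) (nat_lit 1) (nat_lit 1) (nat_lit 0) (nat_lit 1) (nat_lit 0) (nat_lit 1) (nat_lit 0) .nil) (.cD (nat_lit 69) (.dfs (nat_lit 4) (nat_lit 0x1004006008014) (nat_lit 0x1004006008010) (nat_lit 0x1010002001) (nat_lit 0x1014002001) (nat_lit 0) (nat_lit 0) (nat_lit 2) (nat_lit 1) (nat_lit 0) (nat_lit 1) (nat_lit 1) (nat_lit 0) (nat_lit 1) (nat_lit 0) (nat_lit 1) (nat_lit 0) .nil) (.cD (nat_lit 85) (.dfs (nat_lit 4) (nat_lit 0x1004006008014) (nat_lit 0x1004006008010) (nat_lit 0x1010002001) (nat_lit 0x1014002001) (nat_lit 0) (nat_lit 0) (nat_lit 2) (nat_lit 1) (nat_lit 0) (nat_lit 1) (nat_lit 1) (nat_lit 0) (nat_lit 1) (nat_lit 0) (nat_lit 1) (nat_lit 0) .nil) .nil))))))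
theorem c659 : (chk [] [] p659).n x342 s659 = true := by decide +kernel
noncomputable def p660 : Pf := (.ext (nat_lit 1) (nat_lit 0) (nat_lit 0x11000c0080010) (nat_lit 0x14008004002001002002000002) (nat_lit 0x200300400a) (nat_lit 0x1004001) (nat_lit 0x1001005) (nat_lit 0xa004002001009004002001) (.dfs (nat_lit 1) (nat_lit 0x100200300400a) (nat_lit 0x100200300400b) (nat_lit 0x1008001) (nat_lit 0x1009001) (nat_lit 4) (nat_lit 0) (nat_lit 2) (nat_lit 1) (nat_lit 0) (nat_lit 5) (nat_lit 1) (nat_lit 0) (nat_lit 4480) (nat_lit 384) (nat_lit 0x1000005000015000045000055) (nat_lit 0x2000200000000000200020) (.cD (nat_lit 5) (.dfs (nat_lit 4) (nat_lit 0x1004006008014) (nat_lit 0x1004006008010) (nat_lit 0x1010002001) (nat_lit 0x1014002001) (nat_lit 0) (nat_lit 0) (nat_lit 2) (nat_lit 1) (nat_lit 0) (nat_lit 1) (nat_lit 1) (nat_lit 0) (nat_lit 1) (nat_lit 0) (nat_lit 1) (nat_lit 0) .nil) (.cD (nat_lit 21) (.dfs (nat_lit 4) (nat_lit 0x1004006008014) (nat_lit 0x1004006008010)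 (nat_lit 0x1010002001) (nat_lit 0x1014002001) (nat_lit 0) (nat_lit 0) (nat_lit 2) (nat_lit 1) (nat_lit 0) (nat_lit 1) (nat_lit 1) (nat_lit 0) (nat_lit 1) (nat_lit 0) (nat_lit 1) (nat_lit 0) .nil) (.cD (nat_lit 69) (.dfs (nat_lit 4) (nat_lit 0x1004006008014) (nat_lit 0x1004006008010) (nat_lit 0x1010002001) (nat_lit 0x1014002001) (nat_lit 0) (nat_lit 0) (nat_lit 2) (nat_lit 1) (nat_lit 0) (nat_lit 1) (nat_lit 1) (nat_lit 0) (nat_lit 1) (nat_lit 0) (nat_lit 1) (nat_lit 0) .nil) (.cD (nat_lit 85) (.dfs (nat_lit 4) (nat_lit 0x1004006008014) (nat_lit 0x1004006008010) (nat_lit 0x1010002001) (nat_lit 0x1014002001) (nat_lit 0) (nat_lit 0) (nat_lit 2) (nat_lit 1) (nat_lit 0) (nat_lit 1) (nat_lit 1) (nat_lit 0) (nat_lit 1) (nat_lit 0) (nat_lit 1) (nat_lit 0) .nil) .nil))))))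
theorem c660 : (chk [] [] p660).n x343 s660 = true := by decide +kernel
noncomputable def p661 : Pf := (.lft (nat_lit 0x80020060002010004008001003001) (nat_lit 0) (nat_lit 0x10f00e00d00c00b00a0090080) (nat_lit 0x80040020010008004002001) (.extn a13 (nat_lit 0x80040020010008004002001) (nat_lit 0x1010040020080) (nat_lit 2) (nat_lit 0) (nat_lit 0) (nat_lit 0) (nat_lit 0x1000000010000000100000001) (.cE (nat_lit 0) b26 (nat_lit 0) (.iso x336 s653 (nat_lit 0) (nat_lit 0x11000800c001002003c004006005) (nat_lit 0x1000800c001002003c004006005) [(nat_lit 0x5002001000800600201b003004004000002), (nat_lit 0x10008004002007007001)] (.cut (nat_lit 0))) (.cut (nat_lit 1)) (.cE (nat_lit 32) b23 (nat_lit 0) (.cut (nat_lit 2)) (.cut (nat_lit 3)) (.cE (nat_lit 64) b24 (nat_lit 0) (.cut (nat_lit 4)) (.cut (nat_lit 5)) (.cE (nat_lit 96) b25 (nat_lit 0) (.cut (nat_lit 6)) (.cut (nat_lit 7)) .nil))))))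
theorem c661 : (chk [(x336, s653), (x337, s654), (x338, s655), (x339, s656), (x340, s657), (x341, s658), (x342, s659), (x343, s660)] [g21] p661).n x318 s661 = true := by decide +kernel
noncomputable def p662 : Pf := (.ext (nat_lit 0) (nat_lit 0) (nat_lit 0x1080020040010) (nat_lit 0x10008004002003080060020002001002) (nat_lit 0x2003004008) (nat_lit 0x1004002001) (nat_lit 0x1004003002) (nat_lit 0xc00400200100a00400200100b004002001) (.dfs (nat_lit 1) (nat_lit 0x1002003004008) (nat_lit 0x100200300400b) (nat_lit 4097) (nat_lit 4097) (nat_lit 0) (nat_lit 0) (nat_lit 2) (nat_lit 0) (nat_lit 0) (nat_lit 2) (nat_lit 1) (nat_lit 0) (nat_lit 4224) (nat_lit 128) (nat_lit 0x1000002000012000022000032) (nat_lit 0x4000400040004) (.cD (nat_lit 2) (.dfs (nat_lit 2) (nat_lit 0x1004006008010) (nat_lit 0x1004006008014) (nat_lit 0x1002001) (nat_lit 0x1002001) (nat_lit 0) (nat_lit 0) (nat_lit 2) (nat_lit 0) (nat_lit 0) (nat_lit 3) (nat_lit 1) (nat_lit 0) (nat_lit 1) (nat_lit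 0) (nat_lit 1) (nat_lit 0x80008000800080008000800080008) (.cD (nat_lit 3) (.dfs (nat_lit 4) (nat_lit 0x100800c010020) (nat_lit 0x100800c010030) (nat_lit 0x1004002001) (nat_lit 0x1004002001) (nat_lit 0) (nat_lit 0) (nat_lit 2) (nat_lit 0) (nat_lit 0) (nat_lit 4) (nat_lit 1) (nat_lit 0) (nat_lit 1) (nat_lit 0) (nat_lit 1) (nat_lit 0x100010001000100010001000100010) (.cD (nat_lit 4) (.kS (nat_lit 0) (nat_lit 0x8018020040002008008000002) (nat_lit 0x1002001054) (nat_lit 0x800400200d01000800400a00102001000800c002001) (nat_lit 0x8008000008010020040004002001001008008000008018020040002004019001004)) (.cD (nat_lit 20) (.cut (nat_lit 0)) (.cD (nat_lit 36) (.kS (nat_lit 0) (nat_lit 0x8018020040002008008000002) (nat_lit 0x1002001074) (nat_lit 0x800400200d01000800400a00102001000800c002001) (nat_lit 0x8008000008010020040004002001001008008000008018020040002004039001004)) (.cD (nat_lit 52) (.kS (nat_lit 0) (nat_lit 0x10018020040002001) (nat_lit 0x1003001064) (nat_lit 0x800400200d01000800400a00102001000800c002001)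 (nat_lit 0x18008020040002006029001008010020040004002001001010018020040006004031001003)) (.cD (nat_lit 68) (.kS (nat_lit 0) (nat_lit 0x2004008010005002020060080003002) (nat_lit 4116) (nat_lit 0x8004002003) (nat_lit 0x801002004000100100a02006009000c003002004008010001006003)) (.cD (nat_lit 84) (.kS (nat_lit 0) (nat_lit 0x8018020040002008008000002) (nat_lit 0x1002001044) (nat_lit 0x800400200d01000800400a00102001000800c002001) (nat_lit 0x8008000008010020040004002001001008008000008018020040002004011001004)) (.cD (nat_lit 100) (.kS (nat_lit 0) (nat_lit 0x10018020040002001) (nat_lit 0x1003001074) (nat_lit 0x800400200d01000800400a00102001000800c002001) (nat_lit 0x18008020040002006031001008010020040004002001001010018020040006004039001003)) (.cD (nat_lit 116) (.kS (nat_lit 0) (nat_lit 0x8018020040002008008000002) (nat_lit 0x1002001064) (nat_lit 0x800400200d01000800400a00102001000800c002001) (nat_lit 0x8008000008010020040004002001001008008000008018020040002004031001004))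 .nil))))))))) (.cD (nat_lit 19) (.kS (nat_lit 0) (nat_lit 0x800c010020002001) (nat_lit 4163) (nat_lit 0x800400200d) (nat_lit 0xc00401002000100100400801002000200100800c01002000b001003)) (.cD (nat_lit 35) (.kS (nat_lit 0) (nat_lit 0x400c010020002008008000002) (nat_lit 4130) (nat_lit 0x800400200d) (nat_lit 0x800800000400801002000200100800800000400c010020011001004)) (.cD (nat_lit 51) (.kS (nat_lit 0) (nat_lit 0x400c010020002008008000002) (nat_lit 4194) (nat_lit 0x800400200d) (nat_lit 0x800800000400801002000200100800800000400c010020019001004)) (.cD (nat_lit 67) (.kS (nat_lit 0) (nat_lit 0x400c010020002008008000002) (nat_lit 4178) (nat_lit 0x800400200d) (nat_lit 0x800800000400801002000200100800800000400c01002000d001004)) (.cD (nat_lit 83) (.kS (nat_lit 0) (nat_lit 0x400c010020002008008000002) (nat_lit 4114) (nat_lit 0x800400200d) (nat_lit 0x800800000400801002000200100800800000400c010020005001004)) (.cD (nat_lit 99) (.kS (nat_lit 0) (nat_lit 0x400c010020002008008000002)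 (nat_lit 4210) (nat_lit 0x800400200d) (nat_lit 0x800800000400801002000200100800800000400c01002001d001004)) (.cD (nat_lit 115) (.kS (nat_lit 0) (nat_lit 0x400c010020002008008000002) (nat_lit 4146) (nat_lit 0x800400200d) (nat_lit 0x800800000400801002000200100800800000400c010020015001004)) .nil))))))))) (.cD (nat_lit 18) (.dfs (nat_lit 2) (nat_lit 0x1004006008010) (nat_lit 0x1004006008014) (nat_lit 0x1002001) (nat_lit 0x1002001) (nat_lit 0) (nat_lit 0) (nat_lit 2) (nat_lit 0) (nat_lit 0) (nat_lit 3) (nat_lit 1) (nat_lit 0) (nat_lit 1) (nat_lit 0) (nat_lit 1) (nat_lit 0x80008000800080008000800080008) (.cD (nat_lit 3) (.kS (nat_lit 0) (nat_lit 0x400c010020002008008000002) (nat_lit 4098) (nat_lit 0x800400200d) (nat_lit 0x800800000400801002000200100800800000400c010020001001004)) (.cD (nat_lit 19) (.kS (nat_lit 0) (nat_lit 0x400c010020002008008000002) (nat_lit 4162) (nat_lit 0x800400200d) (nat_lit 0x800800000400801002000200100800800000400c010020009001004)) (.cD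 (nat_lit 35) (.kS (nat_lit 0) (nat_lit 0x400c010020002008008000002) (nat_lit 4130) (nat_lit 0x800400200d) (nat_lit 0x800800000400801002000200100800800000400c010020011001004)) (.cD (nat_lit 51) (.kS (nat_lit 0) (nat_lit 0x400c010020002008008000002) (nat_lit 4194) (nat_lit 0x800400200d) (nat_lit 0x800800000400801002000200100800800000400c010020019001004)) (.cD (nat_lit 67) (.dfs (nat_lit 4) (nat_lit 0x100800c010020) (nat_lit 0x100800c010030) (nat_lit 0x1004002001) (nat_lit 0x1004002001) (nat_lit 0) (nat_lit 0) (nat_lit 2) (nat_lit 0) (nat_lit 0) (nat_lit 4) (nat_lit 1) (nat_lit 0) (nat_lit 1) (nat_lit 0) (nat_lit 1) (nat_lit 0x100010001000100010001000100010) (.cD (nat_lit 4) (.kS (nat_lit 0) (nat_lit 0x8018020040002008008000002) (nat_lit 0x1052041054) (nat_lit 0x800400200d01000800400a00102001000800c002001) (nat_lit 0x800800000801002004000400200100100800800000801802004001a014019001004)) (.cD (nat_lit 20) (.iso x318 s661 (nat_lit 0) (nat_lit 0x1080040020010008004002041)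 (nat_lit 0x80040020010008004002041) [(nat_lit 0x40020010008014002001001001), (nat_lit 0x80040020010008004002021003001), (nat_lit 0x10008004002001007001)] (.cut (nat_lit 0))) (.cD (nat_lit 36) (.kS (nat_lit 0) (nat_lit 0x8018020040002008008000002) (nat_lit 0x1052041074) (nat_lit 0x800400200d01000800400a00102001000800c002001) (nat_lit 0x800800000801002004000400200100100800800000801802004001a014039001004)) (.cD (nat_lit 52) (.kS (nat_lit 0) (nat_lit 0x10018020040002001) (nat_lit 0x1013041064) (nat_lit 0x800400200d01000800400a00102001000800c002001) (nat_lit 0x1800802004000a01602900100801002004000400200100101001802004000e014031001003)) (.cD (nat_lit 68) (.kS (nat_lit 0) (nat_lit 0x2004008010005002020060080003002) (nat_lit 4116) (nat_lit 0x8004002003) (nat_lit 0x801002004000100100a02006009000c003002004008010001006003)) (.cD (nat_lit 84) (.kS (nat_lit 0) (nat_lit 0x8018020040002008008000002) (nat_lit 0x1052041044) (nat_lit 0x800400200d01000800400a00102001000800c002001)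 (nat_lit 0x800800000801002004000400200100100800800000801802004001a014011001004)) (.cD (nat_lit 100) (.kS (nat_lit 0) (nat_lit 0x10018020040002001) (nat_lit 0x1013041074) (nat_lit 0x800400200d01000800400a00102001000800c002001) (nat_lit 0x1800802004000a01603100100801002004000400200100101001802004000e014039001003)) (.cD (nat_lit 116) (.kS (nat_lit 0) (nat_lit 0x8018020040002008008000002) (nat_lit 0x1052041064) (nat_lit 0x800400200d01000800400a00102001000800c002001) (nat_lit 0x800800000801002004000400200100100800800000801802004001a014031001004)) .nil))))))))) (.cD (nat_lit 83) (.kS (nat_lit 0) (nat_lit 0x800c010020002001) (nat_lit 4179) (nat_lit 0x800400200d) (nat_lit 0xc00401002000500100400801002000200100800c01002000f001003)) (.cD (nat_lit 99) (.kS (nat_lit 0) (nat_lit 0x400c010020002008008000002) (nat_lit 4210) (nat_lit 0x800400200d) (nat_lit 0x800800000400801002000200100800800000400c01002001d001004)) (.cD (nat_lit 115) (.kS (nat_lit 0) (nat_lit 0x400c010020002008008000002)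 (nat_lit 4146) (nat_lit 0x800400200d) (nat_lit 0x800800000400801002000200100800800000400c010020015001004)) .nil))))))))) (.cD (nat_lit 34) (.dfs (nat_lit 2) (nat_lit 0x1004006008010) (nat_lit 0x1004006008014) (nat_lit 0x1002001) (nat_lit 0x1002001) (nat_lit 0) (nat_lit 0) (nat_lit 2) (nat_lit 0) (nat_lit 0) (nat_lit 3) (nat_lit 1) (nat_lit 0) (nat_lit 1) (nat_lit 0) (nat_lit 1) (nat_lit 0x80008000800080008000800080008) (.cD (nat_lit 3) (.kS (nat_lit 0) (nat_lit 0x400c010020002008008000002) (nat_lit 4098) (nat_lit 0x800400200d) (nat_lit 0x800800000400801002000200100800800000400c010020001001004)) (.cD (nat_lit 19) (.kS (nat_lit 0) (nat_lit 0x400c010020002008008000002) (nat_lit 4162) (nat_lit 0x800400200d) (nat_lit 0x800800000400801002000200100800800000400c010020009001004)) (.cD (nat_lit 35) (.dfs (nat_lit 4) (nat_lit 0x100800c010020) (nat_lit 0x100800c010030) (nat_lit 0x1004002001) (nat_lit 0x1004002001) (nat_lit 0) (nat_lit 0) (nat_lit 2) (nat_lit 0) (nat_lit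 0) (nat_lit 4) (nat_lit 1) (nat_lit 0) (nat_lit 1) (nat_lit 0) (nat_lit 1) (nat_lit 0x100010001000100010001000100010) (.cD (nat_lit 4) (.kS (nat_lit 0) (nat_lit 0x8018020040002008008000002) (nat_lit 0x1022021054) (nat_lit 0x800400200d01000800400a00102001000800c002001) (nat_lit 0x8008000008010020040004002001001008008000008018020040022024019001004)) (.cD (nat_lit 20) (.iso x318 s661 (nat_lit 0) (nat_lit 0x1080040020010008004002021) (nat_lit 0x80040020010008004002021) [(nat_lit 0x40020010008024002001001001), (nat_lit 0x80040020010008004002061003001), (nat_lit 0x10008004002001007001)] (.cut (nat_lit 0))) (.cD (nat_lit 36) (.kS (nat_lit 0) (nat_lit 0x8018020040002008008000002) (nat_lit 0x1022021074) (nat_lit 0x800400200d01000800400a00102001000800c002001) (nat_lit 0x8008000008010020040004002001001008008000008018020040022024039001004)) (.cD (nat_lit 52) (.kS (nat_lit 0) (nat_lit 0x10018020040002001) (nat_lit 0x1003021064) (nat_lit 0x800400200d01000800400a00102001000800c002001)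 (nat_lit 0x18008020040022026029001008010020040004002001001010018020040006024031001003)) (.cD (nat_lit 68) (.kS (nat_lit 0) (nat_lit 0x2004008010005002020060080003002) (nat_lit 4116) (nat_lit 0x8004002003) (nat_lit 0x801002004000100100a02006009000c003002004008010001006003)) (.cD (nat_lit 84) (.kS (nat_lit 0) (nat_lit 0x8018020040002008008000002) (nat_lit 0x1022021044) (nat_lit 0x800400200d01000800400a00102001000800c002001) (nat_lit 0x8008000008010020040004002001001008008000008018020040022024011001004)) (.cD (nat_lit 100) (.kS (nat_lit 0) (nat_lit 0x10018020040002001) (nat_lit 0x1003021074) (nat_lit 0x800400200d01000800400a00102001000800c002001) (nat_lit 0x18008020040022026031001008010020040004002001001010018020040006024039001003)) (.cD (nat_lit 116) (.kS (nat_lit 0) (nat_lit 0x8018020040002008008000002) (nat_lit 0x1022021064) (nat_lit 0x800400200d01000800400a00102001000800c002001) (nat_lit 0x8008000008010020040004002001001008008000008018020040022024031001004))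 .nil))))))))) (.cD (nat_lit 51) (.kS (nat_lit 0) (nat_lit 0x800c010020002001) (nat_lit 4163) (nat_lit 0x800400200d) (nat_lit 0xc00401002001100100400801002000200100800c01002000b001003)) (.cD (nat_lit 67) (.kS (nat_lit 0) (nat_lit 0x400c010020002008008000002) (nat_lit 4178) (nat_lit 0x800400200d) (nat_lit 0x800800000400801002000200100800800000400c01002000d001004)) (.cD (nat_lit 83) (.kS (nat_lit 0) (nat_lit 0x400c010020002008008000002) (nat_lit 4114) (nat_lit 0x800400200d) (nat_lit 0x800800000400801002000200100800800000400c010020005001004)) (.cD (nat_lit 99) (.kS (nat_lit 0) (nat_lit 0x400c010020002008008000002) (nat_lit 4210) (nat_lit 0x800400200d) (nat_lit 0x800800000400801002000200100800800000400c01002001d001004)) (.cD (nat_lit 115) (.kS (nat_lit 0) (nat_lit 0x400c010020002008008000002) (nat_lit 4146) (nat_lit 0x800400200d) (nat_lit 0x800800000400801002000200100800800000400c010020015001004)) .nil))))))))) (.cD (nat_lit 50) (.dfs (nat_lit 2) (nat_lit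 0x1004006008010) (nat_lit 0x1004006008014) (nat_lit 0x1002001) (nat_lit 0x1002001) (nat_lit 0) (nat_lit 0) (nat_lit 2) (nat_lit 0) (nat_lit 0) (nat_lit 3) (nat_lit 1) (nat_lit 0) (nat_lit 1) (nat_lit 0) (nat_lit 1) (nat_lit 0x80008000800080008000800080008) (.cD (nat_lit 3) (.kS (nat_lit 0) (nat_lit 0x400c010020002008008000002) (nat_lit 4098) (nat_lit 0x800400200d) (nat_lit 0x800800000400801002000200100800800000400c010020001001004)) (.cD (nat_lit 19) (.kS (nat_lit 0) (nat_lit 0x400c010020002008008000002) (nat_lit 4162) (nat_lit 0x800400200d) (nat_lit 0x800800000400801002000200100800800000400c010020009001004)) (.cD (nat_lit 35) (.kS (nat_lit 0) (nat_lit 0x400c010020002008008000002) (nat_lit 4130) (nat_lit 0x800400200d) (nat_lit 0x800800000400801002000200100800800000400c010020011001004)) (.cD (nat_lit 51) (.kS (nat_lit 0) (nat_lit 0x400c010020002008008000002) (nat_lit 4194) (nat_lit 0x800400200d) (nat_lit 0x800800000400801002000200100800800000400c010020019001004))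 (.cD (nat_lit 67) (.kS (nat_lit 0) (nat_lit 0x400c010020002008008000002) (nat_lit 4178) (nat_lit 0x800400200d) (nat_lit 0x800800000400801002000200100800800000400c01002000d001004)) (.cD (nat_lit 83) (.kS (nat_lit 0) (nat_lit 0x400c010020002008008000002) (nat_lit 4114) (nat_lit 0x800400200d) (nat_lit 0x800800000400801002000200100800800000400c010020005001004)) (.cD (nat_lit 99) (.dfs (nat_lit 4) (nat_lit 0x100800c010020) (nat_lit 0x100800c010030) (nat_lit 0x1004002001) (nat_lit 0x1004002001) (nat_lit 0) (nat_lit 0) (nat_lit 2) (nat_lit 0) (nat_lit 0) (nat_lit 4) (nat_lit 1) (nat_lit 0) (nat_lit 1) (nat_lit 0) (nat_lit 1) (nat_lit 0x100010001000100010001000100010) (.cD (nat_lit 4) (.kS (nat_lit 0) (nat_lit 0x8018020040002008008000002) (nat_lit 0x1072061054) (nat_lit 0x800400200d01000800400a00102001000800c002001) (nat_lit 0x800800000801002004000400200100100800800000801802004003a034019001004)) (.cD (nat_lit 20) (.iso x318 s661 (nat_lit 0) (nat_lit 0x1080040020010008004002061)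 (nat_lit 0x80040020010008004002061) [(nat_lit 0x40020010008034002001001001), (nat_lit 0x80040020010008004002041003001), (nat_lit 0x10008004002001007001)] (.cut (nat_lit 0))) (.cD (nat_lit 36) (.kS (nat_lit 0) (nat_lit 0x8018020040002008008000002) (nat_lit 0x1072061074) (nat_lit 0x800400200d01000800400a00102001000800c002001) (nat_lit 0x800800000801002004000400200100100800800000801802004003a034039001004)) (.cD (nat_lit 52) (.kS (nat_lit 0) (nat_lit 0x10018020040002001) (nat_lit 0x1013061064) (nat_lit 0x800400200d01000800400a00102001000800c002001) (nat_lit 0x1800802004002a03602900100801002004000400200100101001802004000e034031001003)) (.cD (nat_lit 68) (.kS (nat_lit 0) (nat_lit 0x2004008010005002020060080003002) (nat_lit 4116) (nat_lit 0x8004002003) (nat_lit 0x801002004000100100a02006009000c003002004008010001006003)) (.cD (nat_lit 84) (.kS (nat_lit 0) (nat_lit 0x8018020040002008008000002) (nat_lit 0x1072061044) (nat_lit 0x800400200d01000800400a00102001000800c002001)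 (nat_lit 0x800800000801002004000400200100100800800000801802004003a034011001004)) (.cD (nat_lit 100) (.kS (nat_lit 0) (nat_lit 0x10018020040002001) (nat_lit 0x1013061074) (nat_lit 0x800400200d01000800400a00102001000800c002001) (nat_lit 0x1800802004002a03603100100801002004000400200100101001802004000e034039001003)) (.cD (nat_lit 116) (.kS (nat_lit 0) (nat_lit 0x8018020040002008008000002) (nat_lit 0x1072061064) (nat_lit 0x800400200d01000800400a00102001000800c002001) (nat_lit 0x800800000801002004000400200100100800800000801802004003a034031001004)) .nil))))))))) (.cD (nat_lit 115) (.kS (nat_lit 0) (nat_lit 0x800c010020002001) (nat_lit 4179) (nat_lit 0x800400200d) (nat_lit 0xc00401002001500100400801002000200100800c01002000f001003)) .nil))))))))) .nil))))))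
theorem c662 : (chk [(x318, s661)] [g22] p662).n x318 s662 = true := by decide +kernel
noncomputable def p663 : Pf := (.dfs (nat_lit 48) (nat_lit 1) (nat_lit 1) (nat_lit 0x1002001) (nat_lit 0x1002001) (nat_lit 1) (nat_lit 0) (nat_lit 0) (nat_lit 0) (nat_lit 0) (nat_lit 0) (nat_lit 1) (nat_lit 0) (nat_lit 0x1010008001) (nat_lit 0x10008001) (nat_lit 0x10000030000430000830000c3000011001011000022002022000051001051000062002062001015002026001055002066) (nat_lit 0x8000000000000000800000004000200080000000400020008) (.cD (nat_lit 3) (.dfs (nat_lit 1) (nat_lit 4097) (nat_lit 4101) (nat_lit 1) (nat_lit 1) (nat_lit 0) (nat_lit 0) (nat_lit 1) (nat_lit 0x10b3037007003) (nat_lit 0x100080040020010008004002001) (nat_lit 0) (nat_lit 1) (nat_lit 0) (nat_lit 1) (nat_lit 0) (nat_lit 1) (nat_lit 0) .nil) (.cD (nat_lit 67) (.dfs (nat_lit 1) (nat_lit 4097) (nat_lit 4101) (nat_lit 1) (nat_lit 1) (nat_lit 0) (nat_lit 0) (nat_lit 1) (nat_lit 0x10f3077047043) (nat_lit 0x100080040020010008004002001)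 (nat_lit 0) (nat_lit 1) (nat_lit 0) (nat_lit 1) (nat_lit 0) (nat_lit 1) (nat_lit 0) .nil) (.cD (nat_lit 131) (.dfs (nat_lit 1) (nat_lit 4097) (nat_lit 4101) (nat_lit 1) (nat_lit 1) (nat_lit 0) (nat_lit 0) (nat_lit 1) (nat_lit 0x10b7087083033) (nat_lit 0x100080040020010008004002001) (nat_lit 0) (nat_lit 1) (nat_lit 0) (nat_lit 1) (nat_lit 0) (nat_lit 1) (nat_lit 0) .nil) (.cD (nat_lit 195) (.dfs (nat_lit 1) (nat_lit 4097) (nat_lit 4101) (nat_lit 1) (nat_lit 1) (nat_lit 0) (nat_lit 0) (nat_lit 1) (nat_lit 0x10f70c70c3073) (nat_lit 0x100080040020010008004002001) (nat_lit 0) (nat_lit 1) (nat_lit 0) (nat_lit 1) (nat_lit 0) (nat_lit 1) (nat_lit 0) .nil) (.cD (nat_lit 17) (.czs (nat_lit 17) z21 (nat_lit 64) (.dfs (nat_lit 1) (nat_lit 4097) (nat_lit 4101) (nat_lit 0x1004002) (nat_lit 0x1004002) (nat_lit 0) (nat_lit 0) (nat_lit 3) (nat_lit 0) (nat_lit 0) (nat_lit 8) (nat_lit 1) (nat_lit 0) (nat_lit 0x1012003) (nat_lit 73735) (nat_lit 0x1000020001020000060001060000023001023000063001063001024001064001027001067)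 (nat_lit 0x9000000000000000900000000) (.cD (nat_lit 32) (.dfs (nat_lit 2) (nat_lit 4098) (nat_lit 4106) (nat_lit 0x1008004001) (nat_lit 0x1008004009) (nat_lit 0) (nat_lit 0) (nat_lit 3) (nat_lit 0) (nat_lit 0) (nat_lit 8) (nat_lit 1) (nat_lit 0) (nat_lit 1) (nat_lit 0) (nat_lit 1) (nat_lit 0) .nil) (.cD (nat_lit 96) (.anc (nat_lit 96) (nat_lit 0x8001004007001002003) (nat_lit 4352) (.dfs (nat_lit 256) (nat_lit 1) (nat_lit 1) (nat_lit 4097) (nat_lit 4097) (nat_lit 0) (nat_lit 0) (nat_lit 0) (nat_lit 0) (nat_lit 0) (nat_lit 0) (nat_lit 1) (nat_lit 0) (nat_lit 0x1100010008004002001) (nat_lit 0x100010008004002001) (nat_lit 0x100010000110000210000310000100800400800500800400900500900000b00400b00500b00400d00500d00502800102900502900002a00502a00502c00003800303800503800303a00503a00103b00303b00503b00303e00503e00404900504900506c00307a00507a0050a80011a00021a00031a000011000211000311000318000114000400c00500c00508800104800508d00400f00500f00508f00508900502d00502e00303c00503c0050b80000780050be00303f00503f0050bf0050ba0050cd0050fe0031340031200011e000508b0050bb)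 (nat_lit 0x10000000000000000000001000000000004001000000002004d00170000002b00) (.cD (nat_lit 256) (.kF (nat_lit 96) (nat_lit 0x2001001001)) (.cD (nat_lit 8) (.kb (nat_lit 8) (nat_lit 0x1002001) (nat_lit 0x1080040020008004001)) (.cD (nat_lit 9) (.kb (nat_lit 9) (nat_lit 0x1002001) (nat_lit 0x1080040020008004002)) (.cD (nat_lit 11) (.kb (nat_lit 11) (nat_lit 0x1002001) (nat_lit 0x1080040028004002009)) (.cD (nat_lit 13) (.kb (nat_lit 13) (nat_lit 0x1002001) (nat_lit 0x1080040020008004002)) (.cD (nat_lit 40) (.kb (nat_lit 40) (nat_lit 0x1002001) (nat_lit 0x1080040020010008004)) (.cD (nat_lit 41) (.kb (nat_lit 41) (nat_lit 0x1002001) (nat_lit 0x1080040020008004012)) (.cD (nat_lit 42) (.kb (nat_lit 42) (nat_lit 0x1002001) (nat_lit 0x1080040010028004002)) (.cD (nat_lit 44) (.kb (nat_lit 44) (nat_lit 0x1002001) (nat_lit 0x1080040020010008004)) (.cD (nat_lit 56) (.kb (nat_lit 56) (nat_lit 0x1002001) (nat_lit 0x1080040010028004002)) (.cD (nat_lit 58) (.kb (nat_lit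 58) (nat_lit 0x1002001) (nat_lit 0x1080040010028004002)) (.cD (nat_lit 59) (.kb (nat_lit 59) (nat_lit 0x1002001) (nat_lit 0x1080040028004012001)) (.cD (nat_lit 62) (.kb (nat_lit 62) (nat_lit 0x1002001) (nat_lit 0x1080040010028004002)) (.cD (nat_lit 73) (.kb (nat_lit 73) (nat_lit 0x1002001) (nat_lit 0x1080040020008004002)) (.cD (nat_lit 108) (.kb (nat_lit 108) (nat_lit 0x1002001) (nat_lit 0x1080040020010008004)) (.cD (nat_lit 122) (.kb (nat_lit 122) (nat_lit 0x1002001) (nat_lit 0x1080040010028004002)) (.cD (nat_lit 168) (.kb (nat_lit 168) (nat_lit 0x1002001) (nat_lit 0x1080040020010008004)) .nil))))))))))))))))))) (.cD (nat_lit 35) (.dfs (nat_lit 2) (nat_lit 4098) (nat_lit 4106) (nat_lit 0x1008004001) (nat_lit 0x1008004009) (nat_lit 0) (nat_lit 0) (nat_lit 3) (nat_lit 0) (nat_lit 0) (nat_lit 8) (nat_lit 1) (nat_lit 0) (nat_lit 1) (nat_lit 0) (nat_lit 1) (nat_lit 0) .nil) (.cD (nat_lit 99) (.anc (nat_lit 16) (nat_lit 0x6e00310010000006f00500900100200700400101000a007)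 (nat_lit 4352) (.dfs (nat_lit 256) (nat_lit 1) (nat_lit 1) (nat_lit 4097) (nat_lit 4097) (nat_lit 0) (nat_lit 0) (nat_lit 0) (nat_lit 0) (nat_lit 0) (nat_lit 0) (nat_lit 1) (nat_lit 0) (nat_lit 0x1100010008004002001) (nat_lit 0x100010008004002001) (nat_lit 0x100010000110000210000310000100800400800500800400900500900000b00400b00500b00400d00500d00502800102900502900002a00502a00502c00003800303800503800303a00503a00103b00303b00503b00303e00503e00404900504900506c00307a00507a0050a80011a00021a00031a000011000211000311000318000114000400c00500c00508800104800508d00400f00500f00508f00508900502d00502e00303c00503c0050b80000780050be00303f00503f0050bf0050ba0050cd0050fe0031340031200011e000508b0050bb) (nat_lit 0x10000000000000000000001000000000004001000000002004d00170000002b00) (.cD (nat_lit 256) (.kF (nat_lit 16) (nat_lit 0x2001001001)) (.cD (nat_lit 8) (.kb (nat_lit 8) (nat_lit 0x1002001) (nat_lit 0x1080040020008004001)) (.cD (nat_lit 9) (.kb (nat_lit 9) (nat_lit 0x1002001)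 (nat_lit 0x1080040020008004002)) (.cD (nat_lit 11) (.kb (nat_lit 11) (nat_lit 0x1002001) (nat_lit 0x1080040028004002009)) (.cD (nat_lit 13) (.kb (nat_lit 13) (nat_lit 0x1002001) (nat_lit 0x1080040020008004002)) (.cD (nat_lit 40) (.kb (nat_lit 40) (nat_lit 0x1002001) (nat_lit 0x1080040020010008004)) (.cD (nat_lit 41) (.kb (nat_lit 41) (nat_lit 0x1002001) (nat_lit 0x1080040020008004012)) (.cD (nat_lit 42) (.kb (nat_lit 42) (nat_lit 0x1002001) (nat_lit 0x1080040010028004002)) (.cD (nat_lit 44) (.kb (nat_lit 44) (nat_lit 0x1002001) (nat_lit 0x1080040020010008004)) (.cD (nat_lit 56) (.kb (nat_lit 56) (nat_lit 0x1002001) (nat_lit 0x1080040010028004002)) (.cD (nat_lit 58) (.kb (nat_lit 58) (nat_lit 0x1002001) (nat_lit 0x1080040010028004002)) (.cD (nat_lit 59) (.kb (nat_lit 59) (nat_lit 0x1002001) (nat_lit 0x1080040028004012001)) (.cD (nat_lit 62) (.kb (nat_lit 62) (nat_lit 0x1002001) (nat_lit 0x1080040010028004002)) (.cD (nat_lit 73) (.kb (nat_lit 73) (nat_lit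 0x1002001) (nat_lit 0x1080040020008004002)) (.cD (nat_lit 108) (.kb (nat_lit 108) (nat_lit 0x1002001) (nat_lit 0x1080040020010008004)) (.cD (nat_lit 122) (.kb (nat_lit 122) (nat_lit 0x1002001) (nat_lit 0x1080040010028004002)) (.cD (nat_lit 168) (.kb (nat_lit 168) (nat_lit 0x1002001) (nat_lit 0x1080040020010008004)) .nil))))))))))))))))))) .nil)))))) (.cD (nat_lit 34) (.czs (nat_lit 34) z20 (nat_lit 64) (.dfs (nat_lit 1) (nat_lit 4097) (nat_lit 4101) (nat_lit 0x1004002) (nat_lit 0x1004002) (nat_lit 0) (nat_lit 0) (nat_lit 3) (nat_lit 0) (nat_lit 0) (nat_lit 16) (nat_lit 1) (nat_lit 0) (nat_lit 0x100a003) (nat_lit 57351) (nat_lit 0x1000010001010000050001050000013001013000053001053001014001054001017001057) (nat_lit 0x900000000000000090000) (.cD (nat_lit 16) (.dfs (nat_lit 2) (nat_lit 4098) (nat_lit 4106) (nat_lit 0x1008004001) (nat_lit 0x1008004009) (nat_lit 0) (nat_lit 0) (nat_lit 3) (nat_lit 0) (nat_lit 0) (nat_lit 16) (nat_lit 1) (nat_lit 0) (nat_lit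 1) (nat_lit 0) (nat_lit 1) (nat_lit 0) .nil) (.cD (nat_lit 80) (.anc (nat_lit 16) (nat_lit 0x3000a00900100200700400101000a005) (nat_lit 4352) (.dfs (nat_lit 256) (nat_lit 1) (nat_lit 1) (nat_lit 4097) (nat_lit 4097) (nat_lit 0) (nat_lit 0) (nat_lit 0) (nat_lit 0) (nat_lit 0) (nat_lit 0) (nat_lit 1) (nat_lit 0) (nat_lit 0x1100010008004002001) (nat_lit 0x100010008004002001) (nat_lit 0x100010000110000210000310000100800400800500800400900500900000b00400b00500b00400d00500d00502800102900502900002a00502a00502c00003800303800503800303a00503a00103b00303b00503b00303e00503e00404900504900506c00307a00507a0050a80011a00021a00031a000011000211000311000318000114000400c00500c00508800104800508d00400f00500f00508f00508900502d00502e00303c00503c0050b80000780050be00303f00503f0050bf0050ba0050cd0050fe0031340031200011e000508b0050bb) (nat_lit 0x10000000000000000000001000000000004001000000002004d00170000002b00) (.cD (nat_lit 256) (.kF (nat_lit 16) (nat_lit 0x2001001001)) (.cD (nat_lit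 8) (.kb (nat_lit 8) (nat_lit 0x1002001) (nat_lit 0x1080040020008004001)) (.cD (nat_lit 9) (.kb (nat_lit 9) (nat_lit 0x1002001) (nat_lit 0x1080040020008004002)) (.cD (nat_lit 11) (.kb (nat_lit 11) (nat_lit 0x1002001) (nat_lit 0x1080040028004002009)) (.cD (nat_lit 13) (.kb (nat_lit 13) (nat_lit 0x1002001) (nat_lit 0x1080040020008004002)) (.cD (nat_lit 40) (.kb (nat_lit 40) (nat_lit 0x1002001) (nat_lit 0x1080040020010008004)) (.cD (nat_lit 41) (.kb (nat_lit 41) (nat_lit 0x1002001) (nat_lit 0x1080040020008004012)) (.cD (nat_lit 42) (.kb (nat_lit 42) (nat_lit 0x1002001) (nat_lit 0x1080040010028004002)) (.cD (nat_lit 44) (.kb (nat_lit 44) (nat_lit 0x1002001) (nat_lit 0x1080040020010008004)) (.cD (nat_lit 56) (.kb (nat_lit 56) (nat_lit 0x1002001) (nat_lit 0x1080040010028004002)) (.cD (nat_lit 58) (.kb (nat_lit 58) (nat_lit 0x1002001) (nat_lit 0x1080040010028004002)) (.cD (nat_lit 59) (.kb (nat_lit 59) (nat_lit 0x1002001) (nat_lit 0x1080040028004012001)) (.cD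 (nat_lit 62) (.kb (nat_lit 62) (nat_lit 0x1002001) (nat_lit 0x1080040010028004002)) (.cD (nat_lit 73) (.kb (nat_lit 73) (nat_lit 0x1002001) (nat_lit 0x1080040020008004002)) (.cD (nat_lit 108) (.kb (nat_lit 108) (nat_lit 0x1002001) (nat_lit 0x1080040020010008004)) (.cD (nat_lit 122) (.kb (nat_lit 122) (nat_lit 0x1002001) (nat_lit 0x1080040010028004002)) (.cD (nat_lit 168) (.kb (nat_lit 168) (nat_lit 0x1002001) (nat_lit 0x1080040020010008004)) .nil))))))))))))))))))) (.cD (nat_lit 19) (.dfs (nat_lit 2) (nat_lit 4098) (nat_lit 4106) (nat_lit 0x1008004001) (nat_lit 0x1008004009) (nat_lit 0) (nat_lit 0) (nat_lit 3) (nat_lit 0) (nat_lit 0) (nat_lit 16) (nat_lit 1) (nat_lit 0) (nat_lit 1) (nat_lit 0) (nat_lit 1) (nat_lit 0) .nil) (.cD (nat_lit 83) (.anc (nat_lit 16) (nat_lit 0x6e00310010000002500610010000000900100200700400101000a008) (nat_lit 4352) (.dfs (nat_lit 256) (nat_lit 1) (nat_lit 1) (nat_lit 4097) (nat_lit 4097) (nat_lit 0) (nat_lit 0) (nat_lit 0) (nat_lit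 0) (nat_lit 0) (nat_lit 0) (nat_lit 1) (nat_lit 0) (nat_lit 0x1100010008004002001) (nat_lit 0x100010008004002001) (nat_lit 0x100010000110000210000310000100800400800500800400900500900000b00400b00500b00400d00500d00502800102900502900002a00502a00502c00003800303800503800303a00503a00103b00303b00503b00303e00503e00404900504900506c00307a00507a0050a80011a00021a00031a000011000211000311000318000114000400c00500c00508800104800508d00400f00500f00508f00508900502d00502e00303c00503c0050b80000780050be00303f00503f0050bf0050ba0050cd0050fe0031340031200011e000508b0050bb) (nat_lit 0x10000000000000000000001000000000004001000000002004d00170000002b00) (.cD (nat_lit 256) (.kF (nat_lit 16) (nat_lit 0x2001001001)) (.cD (nat_lit 8) (.kb (nat_lit 8) (nat_lit 0x1002001) (nat_lit 0x1080040020008004001)) (.cD (nat_lit 9) (.kb (nat_lit 9) (nat_lit 0x1002001) (nat_lit 0x1080040020008004002)) (.cD (nat_lit 11) (.kb (nat_lit 11) (nat_lit 0x1002001) (nat_lit 0x1080040028004002009)) (.cD (nat_lit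 13) (.kb (nat_lit 13) (nat_lit 0x1002001) (nat_lit 0x1080040020008004002)) (.cD (nat_lit 40) (.kb (nat_lit 40) (nat_lit 0x1002001) (nat_lit 0x1080040020010008004)) (.cD (nat_lit 41) (.kb (nat_lit 41) (nat_lit 0x1002001) (nat_lit 0x1080040020008004012)) (.cD (nat_lit 42) (.kb (nat_lit 42) (nat_lit 0x1002001) (nat_lit 0x1080040010028004002)) (.cD (nat_lit 44) (.kb (nat_lit 44) (nat_lit 0x1002001) (nat_lit 0x1080040020010008004)) (.cD (nat_lit 56) (.kb (nat_lit 56) (nat_lit 0x1002001) (nat_lit 0x1080040010028004002)) (.cD (nat_lit 58) (.kb (nat_lit 58) (nat_lit 0x1002001) (nat_lit 0x1080040010028004002)) (.cD (nat_lit 59) (.kb (nat_lit 59) (nat_lit 0x1002001) (nat_lit 0x1080040028004012001)) (.cD (nat_lit 62) (.kb (nat_lit 62) (nat_lit 0x1002001) (nat_lit 0x1080040010028004002)) (.cD (nat_lit 73) (.kb (nat_lit 73) (nat_lit 0x1002001) (nat_lit 0x1080040020008004002)) (.cD (nat_lit 108) (.kb (nat_lit 108) (nat_lit 0x1002001) (nat_lit 0x1080040020010008004))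 (.cD (nat_lit 122) (.kb (nat_lit 122) (nat_lit 0x1002001) (nat_lit 0x1080040010028004002)) (.cD (nat_lit 168) (.kb (nat_lit 168) (nat_lit 0x1002001) (nat_lit 0x1080040020010008004)) .nil))))))))))))))))))) .nil)))))) (.cD (nat_lit 81) (.czs (nat_lit 81) z21 (nat_lit 64) (.dfs (nat_lit 1) (nat_lit 4097) (nat_lit 4101) (nat_lit 0x1004002) (nat_lit 0x1004002) (nat_lit 0) (nat_lit 0) (nat_lit 3) (nat_lit 0) (nat_lit 0) (nat_lit 8) (nat_lit 1) (nat_lit 0) (nat_lit 0x1012003) (nat_lit 73735) (nat_lit 0x1000020001020000060001060000023001023000063001063001024001064001027001067) (nat_lit 0x9000000000000000900000000) (.cD (nat_lit 32) (.dfs (nat_lit 2) (nat_lit 4098) (nat_lit 4106) (nat_lit 0x1008004001) (nat_lit 0x1008004009) (nat_lit 0) (nat_lit 0) (nat_lit 3) (nat_lit 0) (nat_lit 0) (nat_lit 8) (nat_lit 1) (nat_lit 0) (nat_lit 1) (nat_lit 0) (nat_lit 1) (nat_lit 0) .nil) (.cD (nat_lit 96) (.anc (nat_lit 96) (nat_lit 0x8001004007001002003) (nat_lit 4352) (.dfs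 (nat_lit 256) (nat_lit 1) (nat_lit 1) (nat_lit 4097) (nat_lit 4097) (nat_lit 0) (nat_lit 0) (nat_lit 0) (nat_lit 0) (nat_lit 0) (nat_lit 0) (nat_lit 1) (nat_lit 0) (nat_lit 0x1100010008004002001) (nat_lit 0x100010008004002001) (nat_lit 0x100010000110000210000310000100800400800500800400900500900000b00400b00500b00400d00500d00502800102900502900002a00502a00502c00003800303800503800303a00503a00103b00303b00503b00303e00503e00404900504900506c00307a00507a0050a80011a00021a00031a000011000211000311000318000114000400c00500c00508800104800508d00400f00500f00508f00508900502d00502e00303c00503c0050b80000780050be00303f00503f0050bf0050ba0050cd0050fe0031340031200011e000508b0050bb) (nat_lit 0x10000000000000000000001000000000004001000000002004d00170000002b00) (.cD (nat_lit 256) (.kF (nat_lit 96) (nat_lit 0x2001001001)) (.cD (nat_lit 8) (.kb (nat_lit 8) (nat_lit 0x1002001) (nat_lit 0x1080040020008004001)) (.cD (nat_lit 9) (.kb (nat_lit 9) (nat_lit 0x1002001) (nat_lit 0x1080040020008004002))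 (.cD (nat_lit 11) (.kb (nat_lit 11) (nat_lit 0x1002001) (nat_lit 0x1080040028004002009)) (.cD (nat_lit 13) (.kb (nat_lit 13) (nat_lit 0x1002001) (nat_lit 0x1080040020008004002)) (.cD (nat_lit 40) (.kb (nat_lit 40) (nat_lit 0x1002001) (nat_lit 0x1080040020010008004)) (.cD (nat_lit 41) (.kb (nat_lit 41) (nat_lit 0x1002001) (nat_lit 0x1080040020008004012)) (.cD (nat_lit 42) (.kb (nat_lit 42) (nat_lit 0x1002001) (nat_lit 0x1080040010028004002)) (.cD (nat_lit 44) (.kb (nat_lit 44) (nat_lit 0x1002001) (nat_lit 0x1080040020010008004)) (.cD (nat_lit 56) (.kb (nat_lit 56) (nat_lit 0x1002001) (nat_lit 0x1080040010028004002)) (.cD (nat_lit 58) (.kb (nat_lit 58) (nat_lit 0x1002001) (nat_lit 0x1080040010028004002)) (.cD (nat_lit 59) (.kb (nat_lit 59) (nat_lit 0x1002001) (nat_lit 0x1080040028004012001)) (.cD (nat_lit 62) (.kb (nat_lit 62) (nat_lit 0x1002001) (nat_lit 0x1080040010028004002)) (.cD (nat_lit 73) (.kb (nat_lit 73) (nat_lit 0x1002001) (nat_lit 0x1080040020008004002))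 (.cD (nat_lit 108) (.kb (nat_lit 108) (nat_lit 0x1002001) (nat_lit 0x1080040020010008004)) (.cD (nat_lit 122) (.kb (nat_lit 122) (nat_lit 0x1002001) (nat_lit 0x1080040010028004002)) (.cD (nat_lit 168) (.kb (nat_lit 168) (nat_lit 0x1002001) (nat_lit 0x1080040020010008004)) .nil))))))))))))))))))) (.cD (nat_lit 35) (.dfs (nat_lit 2) (nat_lit 4098) (nat_lit 4106) (nat_lit 0x1008004001) (nat_lit 0x1008004009) (nat_lit 0) (nat_lit 0) (nat_lit 3) (nat_lit 0) (nat_lit 0) (nat_lit 8) (nat_lit 1) (nat_lit 0) (nat_lit 1) (nat_lit 0) (nat_lit 1) (nat_lit 0) .nil) (.cD (nat_lit 99) (.anc (nat_lit 16) (nat_lit 0x6e00310010000006f00500900100200700400101000a007) (nat_lit 4352) (.dfs (nat_lit 256) (nat_lit 1) (nat_lit 1) (nat_lit 4097) (nat_lit 4097) (nat_lit 0) (nat_lit 0) (nat_lit 0) (nat_lit 0) (nat_lit 0) (nat_lit 0) (nat_lit 1) (nat_lit 0) (nat_lit 0x1100010008004002001) (nat_lit 0x100010008004002001) (nat_lit 0x100010000110000210000310000100800400800500800400900500900000b00400b00500b00400d00500d00502800102900502900002a00502a00502c00003800303800503800303a00503a00103b00303b00503b00303e00503e00404900504900506c00307a00507a0050a80011a00021a00031a000011000211000311000318000114000400c00500c00508800104800508d00400f00500f00508f00508900502d00502e00303c00503c0050b80000780050be00303f00503f0050bf0050ba0050cd0050fe0031340031200011e000508b0050bb)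 (nat_lit 0x10000000000000000000001000000000004001000000002004d00170000002b00) (.cD (nat_lit 256) (.kF (nat_lit 16) (nat_lit 0x2001001001)) (.cD (nat_lit 8) (.kb (nat_lit 8) (nat_lit 0x1002001) (nat_lit 0x1080040020008004001)) (.cD (nat_lit 9) (.kb (nat_lit 9) (nat_lit 0x1002001) (nat_lit 0x1080040020008004002)) (.cD (nat_lit 11) (.kb (nat_lit 11) (nat_lit 0x1002001) (nat_lit 0x1080040028004002009)) (.cD (nat_lit 13) (.kb (nat_lit 13) (nat_lit 0x1002001) (nat_lit 0x1080040020008004002)) (.cD (nat_lit 40) (.kb (nat_lit 40) (nat_lit 0x1002001) (nat_lit 0x1080040020010008004)) (.cD (nat_lit 41) (.kb (nat_lit 41) (nat_lit 0x1002001) (nat_lit 0x1080040020008004012)) (.cD (nat_lit 42) (.kb (nat_lit 42) (nat_lit 0x1002001) (nat_lit 0x1080040010028004002)) (.cD (nat_lit 44) (.kb (nat_lit 44) (nat_lit 0x1002001) (nat_lit 0x1080040020010008004)) (.cD (nat_lit 56) (.kb (nat_lit 56) (nat_lit 0x1002001) (nat_lit 0x1080040010028004002)) (.cD (nat_lit 58) (.kb (nat_lit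 58) (nat_lit 0x1002001) (nat_lit 0x1080040010028004002)) (.cD (nat_lit 59) (.kb (nat_lit 59) (nat_lit 0x1002001) (nat_lit 0x1080040028004012001)) (.cD (nat_lit 62) (.kb (nat_lit 62) (nat_lit 0x1002001) (nat_lit 0x1080040010028004002)) (.cD (nat_lit 73) (.kb (nat_lit 73) (nat_lit 0x1002001) (nat_lit 0x1080040020008004002)) (.cD (nat_lit 108) (.kb (nat_lit 108) (nat_lit 0x1002001) (nat_lit 0x1080040020010008004)) (.cD (nat_lit 122) (.kb (nat_lit 122) (nat_lit 0x1002001) (nat_lit 0x1080040010028004002)) (.cD (nat_lit 168) (.kb (nat_lit 168) (nat_lit 0x1002001) (nat_lit 0x1080040020010008004)) .nil))))))))))))))))))) .nil)))))) (.cD (nat_lit 98) (.czs (nat_lit 98) z20 (nat_lit 64) (.dfs (nat_lit 1) (nat_lit 4097) (nat_lit 4101) (nat_lit 0x1004002) (nat_lit 0x1004002) (nat_lit 0) (nat_lit 0) (nat_lit 3) (nat_lit 0) (nat_lit 0) (nat_lit 16) (nat_lit 1) (nat_lit 0) (nat_lit 0x100a003) (nat_lit 57351) (nat_lit 0x1000010001010000050001050000013001013000053001053001014001054001017001057)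 (nat_lit 0x900000000000000090000) (.cD (nat_lit 16) (.dfs (nat_lit 2) (nat_lit 4098) (nat_lit 4106) (nat_lit 0x1008004001) (nat_lit 0x1008004009) (nat_lit 0) (nat_lit 0) (nat_lit 3) (nat_lit 0) (nat_lit 0) (nat_lit 16) (nat_lit 1) (nat_lit 0) (nat_lit 1) (nat_lit 0) (nat_lit 1) (nat_lit 0) .nil) (.cD (nat_lit 80) (.anc (nat_lit 16) (nat_lit 0x3000a00900100200700400101000a005) (nat_lit 4352) (.dfs (nat_lit 256) (nat_lit 1) (nat_lit 1) (nat_lit 4097) (nat_lit 4097) (nat_lit 0) (nat_lit 0) (nat_lit 0) (nat_lit 0) (nat_lit 0) (nat_lit 0) (nat_lit 1) (nat_lit 0) (nat_lit 0x1100010008004002001) (nat_lit 0x100010008004002001) (nat_lit 0x100010000110000210000310000100800400800500800400900500900000b00400b00500b00400d00500d00502800102900502900002a00502a00502c00003800303800503800303a00503a00103b00303b00503b00303e00503e00404900504900506c00307a00507a0050a80011a00021a00031a000011000211000311000318000114000400c00500c00508800104800508d00400f00500f00508f00508900502d00502e00303c00503c0050b80000780050be00303f00503f0050bf0050ba0050cd0050fe0031340031200011e000508b0050bb)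 (nat_lit 0x10000000000000000000001000000000004001000000002004d00170000002b00) (.cD (nat_lit 256) (.kF (nat_lit 16) (nat_lit 0x2001001001)) (.cD (nat_lit 8) (.kb (nat_lit 8) (nat_lit 0x1002001) (nat_lit 0x1080040020008004001)) (.cD (nat_lit 9) (.kb (nat_lit 9) (nat_lit 0x1002001) (nat_lit 0x1080040020008004002)) (.cD (nat_lit 11) (.kb (nat_lit 11) (nat_lit 0x1002001) (nat_lit 0x1080040028004002009)) (.cD (nat_lit 13) (.kb (nat_lit 13) (nat_lit 0x1002001) (nat_lit 0x1080040020008004002)) (.cD (nat_lit 40) (.kb (nat_lit 40) (nat_lit 0x1002001) (nat_lit 0x1080040020010008004)) (.cD (nat_lit 41) (.kb (nat_lit 41) (nat_lit 0x1002001) (nat_lit 0x1080040020008004012)) (.cD (nat_lit 42) (.kb (nat_lit 42) (nat_lit 0x1002001) (nat_lit 0x1080040010028004002)) (.cD (nat_lit 44) (.kb (nat_lit 44) (nat_lit 0x1002001) (nat_lit 0x1080040020010008004)) (.cD (nat_lit 56) (.kb (nat_lit 56) (nat_lit 0x1002001) (nat_lit 0x1080040010028004002)) (.cD (nat_lit 58) (.kb (nat_lit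 58) (nat_lit 0x1002001) (nat_lit 0x1080040010028004002)) (.cD (nat_lit 59) (.kb (nat_lit 59) (nat_lit 0x1002001) (nat_lit 0x1080040028004012001)) (.cD (nat_lit 62) (.kb (nat_lit 62) (nat_lit 0x1002001) (nat_lit 0x1080040010028004002)) (.cD (nat_lit 73) (.kb (nat_lit 73) (nat_lit 0x1002001) (nat_lit 0x1080040020008004002)) (.cD (nat_lit 108) (.kb (nat_lit 108) (nat_lit 0x1002001) (nat_lit 0x1080040020010008004)) (.cD (nat_lit 122) (.kb (nat_lit 122) (nat_lit 0x1002001) (nat_lit 0x1080040010028004002)) (.cD (nat_lit 168) (.kb (nat_lit 168) (nat_lit 0x1002001) (nat_lit 0x1080040020010008004)) .nil))))))))))))))))))) (.cD (nat_lit 19) (.dfs (nat_lit 2) (nat_lit 4098) (nat_lit 4106) (nat_lit 0x1008004001) (nat_lit 0x1008004009) (nat_lit 0) (nat_lit 0) (nat_lit 3) (nat_lit 0) (nat_lit 0) (nat_lit 16) (nat_lit 1) (nat_lit 0) (nat_lit 1) (nat_lit 0) (nat_lit 1) (nat_lit 0) .nil) (.cD (nat_lit 83) (.anc (nat_lit 16) (nat_lit 0x6e00310010000002500610010000000900100200700400101000a008)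 (nat_lit 4352) (.dfs (nat_lit 256) (nat_lit 1) (nat_lit 1) (nat_lit 4097) (nat_lit 4097) (nat_lit 0) (nat_lit 0) (nat_lit 0) (nat_lit 0) (nat_lit 0) (nat_lit 0) (nat_lit 1) (nat_lit 0) (nat_lit 0x1100010008004002001) (nat_lit 0x100010008004002001) (nat_lit 0x100010000110000210000310000100800400800500800400900500900000b00400b00500b00400d00500d00502800102900502900002a00502a00502c00003800303800503800303a00503a00103b00303b00503b00303e00503e00404900504900506c00307a00507a0050a80011a00021a00031a000011000211000311000318000114000400c00500c00508800104800508d00400f00500f00508f00508900502d00502e00303c00503c0050b80000780050be00303f00503f0050bf0050ba0050cd0050fe0031340031200011e000508b0050bb) (nat_lit 0x10000000000000000000001000000000004001000000002004d00170000002b00) (.cD (nat_lit 256) (.kF (nat_lit 16) (nat_lit 0x2001001001)) (.cD (nat_lit 8) (.kb (nat_lit 8) (nat_lit 0x1002001) (nat_lit 0x1080040020008004001)) (.cD (nat_lit 9) (.kb (nat_lit 9) (nat_lit 0x1002001)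 (nat_lit 0x1080040020008004002)) (.cD (nat_lit 11) (.kb (nat_lit 11) (nat_lit 0x1002001) (nat_lit 0x1080040028004002009)) (.cD (nat_lit 13) (.kb (nat_lit 13) (nat_lit 0x1002001) (nat_lit 0x1080040020008004002)) (.cD (nat_lit 40) (.kb (nat_lit 40) (nat_lit 0x1002001) (nat_lit 0x1080040020010008004)) (.cD (nat_lit 41) (.kb (nat_lit 41) (nat_lit 0x1002001) (nat_lit 0x1080040020008004012)) (.cD (nat_lit 42) (.kb (nat_lit 42) (nat_lit 0x1002001) (nat_lit 0x1080040010028004002)) (.cD (nat_lit 44) (.kb (nat_lit 44) (nat_lit 0x1002001) (nat_lit 0x1080040020010008004)) (.cD (nat_lit 56) (.kb (nat_lit 56) (nat_lit 0x1002001) (nat_lit 0x1080040010028004002)) (.cD (nat_lit 58) (.kb (nat_lit 58) (nat_lit 0x1002001) (nat_lit 0x1080040010028004002)) (.cD (nat_lit 59) (.kb (nat_lit 59) (nat_lit 0x1002001) (nat_lit 0x1080040028004012001)) (.cD (nat_lit 62) (.kb (nat_lit 62) (nat_lit 0x1002001) (nat_lit 0x1080040010028004002)) (.cD (nat_lit 73) (.kb (nat_lit 73) (nat_lit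 0x1002001) (nat_lit 0x1080040020008004002)) (.cD (nat_lit 108) (.kb (nat_lit 108) (nat_lit 0x1002001) (nat_lit 0x1080040020010008004)) (.cD (nat_lit 122) (.kb (nat_lit 122) (nat_lit 0x1002001) (nat_lit 0x1080040010028004002)) (.cD (nat_lit 168) (.kb (nat_lit 168) (nat_lit 0x1002001) (nat_lit 0x1080040020010008004)) .nil))))))))))))))))))) .nil)))))) .nil)))))))))
theorem c663 : (chk [] [] p663).n x344 s663 = true := by decide +kernel
noncomputable def p664 : Pf := (.cnt (nat_lit 0x1080040010028004002) (nat_lit 0x20010008014022009) (nat_lit 1) (nat_lit 0x10040060001) (nat_lit 0x18000028000038000008000010000020000030000000) (nat_lit 0x7000000000000000000000006000000000000000000000003000000000000000000000002000000000000000000000005000000000000000000000004000000000000000000000001000000000000000000000000) (.ext (nat_lit 2) (nat_lit 0) (nat_lit 0x1002004028010040080) (nat_lit 0x400600501a02a00a005001001000004002001008030010005003) (nat_lit 0x34037005008010030)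 (nat_lit 4097) (nat_lit 4097) (nat_lit 0x30010008014002001) (.dfs (nat_lit 1) (nat_lit 0x1034037005008010030) (nat_lit 0x1034037015008010020) (nat_lit 0x1020004002001) (nat_lit 0x1030014002001) (nat_lit 0) (nat_lit 0) (nat_lit 2) (nat_lit 2) (nat_lit 0) (nat_lit 1) (nat_lit 1) (nat_lit 0) (nat_lit 4098) (nat_lit 2) (nat_lit 0x10000010000130000410000530000810000930000c10000d3) (nat_lit 0x80002000000000008000200000000000800020000000000080002) (.cD (nat_lit 1) (.anc (nat_lit 4) (nat_lit 0x48003100100000069001100100000001003002007006) (nat_lit 0x1080030002001) (.dfs (nat_lit 128) (nat_lit 1) (nat_lit 1) (nat_lit 4097) (nat_lit 4097) (nat_lit 0) (nat_lit 0) (nat_lit 0) (nat_lit 0) (nat_lit 0) (nat_lit 0) (nat_lit 1) (nat_lit 0) (nat_lit 0x1100010008002001) (nat_lit 0x100010008002001) (nat_lit 0x10010010040010000020040020040040000100020100010130020130040130020160040160010200030200030210040210010410040410000420040420040440000500020500010530020530040530020560040560010600030600030610040610040050040060020140020170040170040970040920030240040a50040450040460020540020570040570040d70040d20030640040e50040930040d3)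 (nat_lit 0x1000000000000000100000003004900170000000300490016) (.cD (nat_lit 128) (.kc (nat_lit 132) (nat_lit 0x3001001)) (.cD (nat_lit 64) (.anc (nat_lit 16) (nat_lit 0x100101000a002) (nat_lit 4352) (.dfs (nat_lit 256) (nat_lit 1) (nat_lit 1) (nat_lit 4097) (nat_lit 4097) (nat_lit 0) (nat_lit 0) (nat_lit 0) (nat_lit 0) (nat_lit 0) (nat_lit 0) (nat_lit 1) (nat_lit 0) (nat_lit 0x1100010008004002001) (nat_lit 0x100010008004002001) (nat_lit 0x100010000110000210000310000100800400800500800400900500900000b00400b00500b00400d00500d00502800102900502900002a00502a00502c00003800303800503800303a00503a00103b00303b00503b00303e00503e00404900504900506c00307a00507a0050a80011a00021a00031a000011000211000311000318000114000400c00500c00508800104800508d00400f00500f00508f00508900502d00502e00303c00503c0050b80000780050be00303f00503f0050bf0050ba0050cd0050fe0031340031200011e000508b0050bb) (nat_lit 0x10000000000000000000001000000000004001000000002004d00170000002b00) (.cD (nat_lit 256)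 (.kF (nat_lit 16) (nat_lit 0x2001001001)) (.cD (nat_lit 8) (.kb (nat_lit 8) (nat_lit 0x1002001) (nat_lit 0x1080040020008004001)) (.cD (nat_lit 9) (.kb (nat_lit 9) (nat_lit 0x1002001) (nat_lit 0x1080040020008004002)) (.cD (nat_lit 11) (.kb (nat_lit 11) (nat_lit 0x1002001) (nat_lit 0x1080040028004002009)) (.cD (nat_lit 13) (.kb (nat_lit 13) (nat_lit 0x1002001) (nat_lit 0x1080040020008004002)) (.cD (nat_lit 40) (.kb (nat_lit 40) (nat_lit 0x1002001) (nat_lit 0x1080040020010008004)) (.cD (nat_lit 41) (.kb (nat_lit 41) (nat_lit 0x1002001) (nat_lit 0x1080040020008004012)) (.cD (nat_lit 42) (.kb (nat_lit 42) (nat_lit 0x1002001) (nat_lit 0x1080040010028004002)) (.cD (nat_lit 44) (.kb (nat_lit 44) (nat_lit 0x1002001) (nat_lit 0x1080040020010008004)) (.cD (nat_lit 56) (.kb (nat_lit 56) (nat_lit 0x1002001) (nat_lit 0x1080040010028004002)) (.cD (nat_lit 58) (.kb (nat_lit 58) (nat_lit 0x1002001) (nat_lit 0x1080040010028004002)) (.cD (nat_lit 59) (.kb (nat_lit 59) (nat_lit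 0x1002001) (nat_lit 0x1080040028004012001)) (.cD (nat_lit 62) (.kb (nat_lit 62) (nat_lit 0x1002001) (nat_lit 0x1080040010028004002)) (.cD (nat_lit 73) (.kb (nat_lit 73) (nat_lit 0x1002001) (nat_lit 0x1080040020008004002)) (.cD (nat_lit 108) (.kb (nat_lit 108) (nat_lit 0x1002001) (nat_lit 0x1080040020010008004)) (.cD (nat_lit 122) (.kb (nat_lit 122) (nat_lit 0x1002001) (nat_lit 0x1080040010028004002)) (.cD (nat_lit 168) (.kb (nat_lit 168) (nat_lit 0x1002001) (nat_lit 0x1080040020010008004)) .nil))))))))))))))))))) (.cD (nat_lit 192) (.anc (nat_lit 16) (nat_lit 0x300110010000000200201000a004) (nat_lit 4352) (.dfs (nat_lit 256) (nat_lit 1) (nat_lit 1) (nat_lit 4097) (nat_lit 4097) (nat_lit 0) (nat_lit 0) (nat_lit 0) (nat_lit 0) (nat_lit 0) (nat_lit 0) (nat_lit 1) (nat_lit 0) (nat_lit 0x1100010008004002001) (nat_lit 0x100010008004002001) (nat_lit 0x100010000110000210000310000100800400800500800400900500900000b00400b00500b00400d00500d00502800102900502900002a00502a00502c00003800303800503800303a00503a00103b00303b00503b00303e00503e00404900504900506c00307a00507a0050a80011a00021a00031a000011000211000311000318000114000400c00500c00508800104800508d00400f00500f00508f00508900502d00502e00303c00503c0050b80000780050be00303f00503f0050bf0050ba0050cd0050fe0031340031200011e000508b0050bb)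 (nat_lit 0x10000000000000000000001000000000004001000000002004d00170000002b00) (.cD (nat_lit 256) (.kF (nat_lit 16) (nat_lit 0x2001001001)) (.cD (nat_lit 8) (.kb (nat_lit 8) (nat_lit 0x1002001) (nat_lit 0x1080040020008004001)) (.cD (nat_lit 9) (.kb (nat_lit 9) (nat_lit 0x1002001) (nat_lit 0x1080040020008004002)) (.cD (nat_lit 11) (.kb (nat_lit 11) (nat_lit 0x1002001) (nat_lit 0x1080040028004002009)) (.cD (nat_lit 13) (.kb (nat_lit 13) (nat_lit 0x1002001) (nat_lit 0x1080040020008004002)) (.cD (nat_lit 40) (.kb (nat_lit 40) (nat_lit 0x1002001) (nat_lit 0x1080040020010008004)) (.cD (nat_lit 41) (.kb (nat_lit 41) (nat_lit 0x1002001) (nat_lit 0x1080040020008004012)) (.cD (nat_lit 42) (.kb (nat_lit 42) (nat_lit 0x1002001) (nat_lit 0x1080040010028004002)) (.cD (nat_lit 44) (.kb (nat_lit 44) (nat_lit 0x1002001) (nat_lit 0x1080040020010008004)) (.cD (nat_lit 56) (.kb (nat_lit 56) (nat_lit 0x1002001) (nat_lit 0x1080040010028004002)) (.cD (nat_lit 58) (.kb (nat_lit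 58) (nat_lit 0x1002001) (nat_lit 0x1080040010028004002)) (.cD (nat_lit 59) (.kb (nat_lit 59) (nat_lit 0x1002001) (nat_lit 0x1080040028004012001)) (.cD (nat_lit 62) (.kb (nat_lit 62) (nat_lit 0x1002001) (nat_lit 0x1080040010028004002)) (.cD (nat_lit 73) (.kb (nat_lit 73) (nat_lit 0x1002001) (nat_lit 0x1080040020008004002)) (.cD (nat_lit 108) (.kb (nat_lit 108) (nat_lit 0x1002001) (nat_lit 0x1080040020010008004)) (.cD (nat_lit 122) (.kb (nat_lit 122) (nat_lit 0x1002001) (nat_lit 0x1080040010028004002)) (.cD (nat_lit 168) (.kb (nat_lit 168) (nat_lit 0x1002001) (nat_lit 0x1080040020010008004)) .nil))))))))))))))))))) (.cD (nat_lit 1) (.czs (nat_lit 129) z23 (nat_lit 128) (.dfs (nat_lit 48) (nat_lit 4099) (nat_lit 4099) (nat_lit 0x1002001) (nat_lit 0x1002001) (nat_lit 1) (nat_lit 0) (nat_lit 3) (nat_lit 0) (nat_lit 0) (nat_lit 0) (nat_lit 1) (nat_lit 0) (nat_lit 1) (nat_lit 0) (nat_lit 1) (nat_lit 0) .nil)) (.cD (nat_lit 2) (.czs (nat_lit 130) z22 (nat_lit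 128) (.dfs (nat_lit 48) (nat_lit 4099) (nat_lit 4099) (nat_lit 0x1002001) (nat_lit 0x1002001) (nat_lit 1) (nat_lit 0) (nat_lit 3) (nat_lit 0) (nat_lit 0) (nat_lit 0) (nat_lit 1) (nat_lit 0) (nat_lit 1) (nat_lit 0) (nat_lit 1) (nat_lit 0) .nil)) (.cD (nat_lit 4) (.cut (nat_lit 0)) (.cD (nat_lit 16) (.czs (nat_lit 144) z9 (nat_lit 128) (.dfs (nat_lit 48) (nat_lit 4099) (nat_lit 4099) (nat_lit 0x1002001) (nat_lit 0x1002001) (nat_lit 1) (nat_lit 0) (nat_lit 3) (nat_lit 0) (nat_lit 0) (nat_lit 0) (nat_lit 1) (nat_lit 0) (nat_lit 1) (nat_lit 0) (nat_lit 1) (nat_lit 0) .nil)) (.cD (nat_lit 19) (.czs (nat_lit 147) z19 (nat_lit 64) (.dfs (nat_lit 48) (nat_lit 4099) (nat_lit 4099) (nat_lit 0x1002001) (nat_lit 0x1002001) (nat_lit 1) (nat_lit 0) (nat_lit 3) (nat_lit 0) (nat_lit 0) (nat_lit 0) (nat_lit 1) (nat_lit 0) (nat_lit 1) (nat_lit 0) (nat_lit 1) (nat_lit 0) .nil)) (.cD (nat_lit 22) (.czs (nat_lit 150) z18 (nat_lit 128) (.dfs (nat_lit 48) (nat_lit 4099) (nat_lit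 4099) (nat_lit 0x1002001) (nat_lit 0x1002001) (nat_lit 1) (nat_lit 0) (nat_lit 3) (nat_lit 0) (nat_lit 0) (nat_lit 0) (nat_lit 1) (nat_lit 0) (nat_lit 1) (nat_lit 0) (nat_lit 1) (nat_lit 0) .nil)) (.cD (nat_lit 32) (.czs (nat_lit 160) z8 (nat_lit 128) (.dfs (nat_lit 48) (nat_lit 4099) (nat_lit 4099) (nat_lit 0x1002001) (nat_lit 0x1002001) (nat_lit 1) (nat_lit 0) (nat_lit 3) (nat_lit 0) (nat_lit 0) (nat_lit 0) (nat_lit 1) (nat_lit 0) (nat_lit 1) (nat_lit 0) (nat_lit 1) (nat_lit 0) .nil)) (.cD (nat_lit 33) (.czs (nat_lit 161) z17 (nat_lit 128) (.dfs (nat_lit 48) (nat_lit 4099) (nat_lit 4099) (nat_lit 0x1002001) (nat_lit 0x1002001) (nat_lit 1) (nat_lit 0) (nat_lit 3) (nat_lit 0) (nat_lit 0) (nat_lit 0) (nat_lit 1) (nat_lit 0) (nat_lit 1) (nat_lit 0) (nat_lit 1) (nat_lit 0) .nil)) (.cD (nat_lit 65) (.anc (nat_lit 16) (nat_lit 0x400410010000004f00510010000000500300100101000a007) (nat_lit 4352) (.dfs (nat_lit 256) (nat_lit 1) (nat_lit 1) (nat_lit 4097) (nat_lit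 4097) (nat_lit 0) (nat_lit 0) (nat_lit 0) (nat_lit 0) (nat_lit 0) (nat_lit 0) (nat_lit 1) (nat_lit 0) (nat_lit 0x1100010008004002001) (nat_lit 0x100010008004002001) (nat_lit 0x100010000110000210000310000100800400800500800400900500900000b00400b00500b00400d00500d00502800102900502900002a00502a00502c00003800303800503800303a00503a00103b00303b00503b00303e00503e00404900504900506c00307a00507a0050a80011a00021a00031a000011000211000311000318000114000400c00500c00508800104800508d00400f00500f00508f00508900502d00502e00303c00503c0050b80000780050be00303f00503f0050bf0050ba0050cd0050fe0031340031200011e000508b0050bb) (nat_lit 0x10000000000000000000001000000000004001000000002004d00170000002b00) (.cD (nat_lit 256) (.kF (nat_lit 16) (nat_lit 0x2001001001)) (.cD (nat_lit 8) (.kb (nat_lit 8) (nat_lit 0x1002001) (nat_lit 0x1080040020008004001)) (.cD (nat_lit 9) (.kb (nat_lit 9) (nat_lit 0x1002001) (nat_lit 0x1080040020008004002)) (.cD (nat_lit 11) (.kb (nat_lit 11) (nat_lit 0x1002001)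 (nat_lit 0x1080040028004002009)) (.cD (nat_lit 13) (.kb (nat_lit 13) (nat_lit 0x1002001) (nat_lit 0x1080040020008004002)) (.cD (nat_lit 40) (.kb (nat_lit 40) (nat_lit 0x1002001) (nat_lit 0x1080040020010008004)) (.cD (nat_lit 41) (.kb (nat_lit 41) (nat_lit 0x1002001) (nat_lit 0x1080040020008004012)) (.cD (nat_lit 42) (.kb (nat_lit 42) (nat_lit 0x1002001) (nat_lit 0x1080040010028004002)) (.cD (nat_lit 44) (.kb (nat_lit 44) (nat_lit 0x1002001) (nat_lit 0x1080040020010008004)) (.cD (nat_lit 56) (.kb (nat_lit 56) (nat_lit 0x1002001) (nat_lit 0x1080040010028004002)) (.cD (nat_lit 58) (.kb (nat_lit 58) (nat_lit 0x1002001) (nat_lit 0x1080040010028004002)) (.cD (nat_lit 59) (.kb (nat_lit 59) (nat_lit 0x1002001) (nat_lit 0x1080040028004012001)) (.cD (nat_lit 62) (.kb (nat_lit 62) (nat_lit 0x1002001) (nat_lit 0x1080040010028004002)) (.cD (nat_lit 73) (.kb (nat_lit 73) (nat_lit 0x1002001) (nat_lit 0x1080040020008004002)) (.cD (nat_lit 108) (.kb (nat_lit 108) (nat_lit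 0x1002001) (nat_lit 0x1080040020010008004)) (.cD (nat_lit 122) (.kb (nat_lit 122) (nat_lit 0x1002001) (nat_lit 0x1080040010028004002)) (.cD (nat_lit 168) (.kb (nat_lit 168) (nat_lit 0x1002001) (nat_lit 0x1080040020010008004)) .nil))))))))))))))))))) (.cD (nat_lit 66) (.anc (nat_lit 16) (nat_lit 0x400410010000000100101000a004) (nat_lit 4352) (.dfs (nat_lit 256) (nat_lit 1) (nat_lit 1) (nat_lit 4097) (nat_lit 4097) (nat_lit 0) (nat_lit 0) (nat_lit 0) (nat_lit 0) (nat_lit 0) (nat_lit 0) (nat_lit 1) (nat_lit 0) (nat_lit 0x1100010008004002001) (nat_lit 0x100010008004002001) (nat_lit 0x100010000110000210000310000100800400800500800400900500900000b00400b00500b00400d00500d00502800102900502900002a00502a00502c00003800303800503800303a00503a00103b00303b00503b00303e00503e00404900504900506c00307a00507a0050a80011a00021a00031a000011000211000311000318000114000400c00500c00508800104800508d00400f00500f00508f00508900502d00502e00303c00503c0050b80000780050be00303f00503f0050bf0050ba0050cd0050fe0031340031200011e000508b0050bb)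 (nat_lit 0x10000000000000000000001000000000004001000000002004d00170000002b00) (.cD (nat_lit 256) (.kF (nat_lit 16) (nat_lit 0x2001001001)) (.cD (nat_lit 8) (.kb (nat_lit 8) (nat_lit 0x1002001) (nat_lit 0x1080040020008004001)) (.cD (nat_lit 9) (.kb (nat_lit 9) (nat_lit 0x1002001) (nat_lit 0x1080040020008004002)) (.cD (nat_lit 11) (.kb (nat_lit 11) (nat_lit 0x1002001) (nat_lit 0x1080040028004002009)) (.cD (nat_lit 13) (.kb (nat_lit 13) (nat_lit 0x1002001) (nat_lit 0x1080040020008004002)) (.cD (nat_lit 40) (.kb (nat_lit 40) (nat_lit 0x1002001) (nat_lit 0x1080040020010008004)) (.cD (nat_lit 41) (.kb (nat_lit 41) (nat_lit 0x1002001) (nat_lit 0x1080040020008004012)) (.cD (nat_lit 42) (.kb (nat_lit 42) (nat_lit 0x1002001) (nat_lit 0x1080040010028004002)) (.cD (nat_lit 44) (.kb (nat_lit 44) (nat_lit 0x1002001) (nat_lit 0x1080040020010008004)) (.cD (nat_lit 56) (.kb (nat_lit 56) (nat_lit 0x1002001) (nat_lit 0x1080040010028004002)) (.cD (nat_lit 58) (.kb (nat_lit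 58) (nat_lit 0x1002001) (nat_lit 0x1080040010028004002)) (.cD (nat_lit 59) (.kb (nat_lit 59) (nat_lit 0x1002001) (nat_lit 0x1080040028004012001)) (.cD (nat_lit 62) (.kb (nat_lit 62) (nat_lit 0x1002001) (nat_lit 0x1080040010028004002)) (.cD (nat_lit 73) (.kb (nat_lit 73) (nat_lit 0x1002001) (nat_lit 0x1080040020008004002)) (.cD (nat_lit 108) (.kb (nat_lit 108) (nat_lit 0x1002001) (nat_lit 0x1080040020010008004)) (.cD (nat_lit 122) (.kb (nat_lit 122) (nat_lit 0x1002001) (nat_lit 0x1080040010028004002)) (.cD (nat_lit 168) (.kb (nat_lit 168) (nat_lit 0x1002001) (nat_lit 0x1080040020010008004)) .nil))))))))))))))))))) (.cD (nat_lit 68) (.anc (nat_lit 16) (nat_lit 0x400410010000000500610010000002500302200700100101000a008) (nat_lit 4352) (.dfs (nat_lit 256) (nat_lit 1) (nat_lit 1) (nat_lit 4097) (nat_lit 4097) (nat_lit 0) (nat_lit 0) (nat_lit 0) (nat_lit 0) (nat_lit 0) (nat_lit 0) (nat_lit 1) (nat_lit 0) (nat_lit 0x1100010008004002001) (nat_lit 0x100010008004002001)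 (nat_lit 0x100010000110000210000310000100800400800500800400900500900000b00400b00500b00400d00500d00502800102900502900002a00502a00502c00003800303800503800303a00503a00103b00303b00503b00303e00503e00404900504900506c00307a00507a0050a80011a00021a00031a000011000211000311000318000114000400c00500c00508800104800508d00400f00500f00508f00508900502d00502e00303c00503c0050b80000780050be00303f00503f0050bf0050ba0050cd0050fe0031340031200011e000508b0050bb) (nat_lit 0x10000000000000000000001000000000004001000000002004d00170000002b00) (.cD (nat_lit 256) (.kF (nat_lit 16) (nat_lit 0x2001001001)) (.cD (nat_lit 8) (.kb (nat_lit 8) (nat_lit 0x1002001) (nat_lit 0x1080040020008004001)) (.cD (nat_lit 9) (.kb (nat_lit 9) (nat_lit 0x1002001) (nat_lit 0x1080040020008004002)) (.cD (nat_lit 11) (.kb (nat_lit 11) (nat_lit 0x1002001) (nat_lit 0x1080040028004002009)) (.cD (nat_lit 13) (.kb (nat_lit 13) (nat_lit 0x1002001) (nat_lit 0x1080040020008004002)) (.cD (nat_lit 40) (.kb (nat_lit 40)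 (nat_lit 0x1002001) (nat_lit 0x1080040020010008004)) (.cD (nat_lit 41) (.kb (nat_lit 41) (nat_lit 0x1002001) (nat_lit 0x1080040020008004012)) (.cD (nat_lit 42) (.kb (nat_lit 42) (nat_lit 0x1002001) (nat_lit 0x1080040010028004002)) (.cD (nat_lit 44) (.kb (nat_lit 44) (nat_lit 0x1002001) (nat_lit 0x1080040020010008004)) (.cD (nat_lit 56) (.kb (nat_lit 56) (nat_lit 0x1002001) (nat_lit 0x1080040010028004002)) (.cD (nat_lit 58) (.kb (nat_lit 58) (nat_lit 0x1002001) (nat_lit 0x1080040010028004002)) (.cD (nat_lit 59) (.kb (nat_lit 59) (nat_lit 0x1002001) (nat_lit 0x1080040028004012001)) (.cD (nat_lit 62) (.kb (nat_lit 62) (nat_lit 0x1002001) (nat_lit 0x1080040010028004002)) (.cD (nat_lit 73) (.kb (nat_lit 73) (nat_lit 0x1002001) (nat_lit 0x1080040020008004002)) (.cD (nat_lit 108) (.kb (nat_lit 108) (nat_lit 0x1002001) (nat_lit 0x1080040020010008004)) (.cD (nat_lit 122) (.kb (nat_lit 122) (nat_lit 0x1002001) (nat_lit 0x1080040010028004002)) (.cD (nat_lit 168)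 (.kb (nat_lit 168) (nat_lit 0x1002001) (nat_lit 0x1080040020010008004)) .nil))))))))))))))))))) (.cD (nat_lit 80) (.anc (nat_lit 16) (nat_lit 0x3800900100101000a003) (nat_lit 4352) (.dfs (nat_lit 256) (nat_lit 1) (nat_lit 1) (nat_lit 4097) (nat_lit 4097) (nat_lit 0) (nat_lit 0) (nat_lit 0) (nat_lit 0) (nat_lit 0) (nat_lit 0) (nat_lit 1) (nat_lit 0) (nat_lit 0x1100010008004002001) (nat_lit 0x100010008004002001) (nat_lit 0x100010000110000210000310000100800400800500800400900500900000b00400b00500b00400d00500d00502800102900502900002a00502a00502c00003800303800503800303a00503a00103b00303b00503b00303e00503e00404900504900506c00307a00507a0050a80011a00021a00031a000011000211000311000318000114000400c00500c00508800104800508d00400f00500f00508f00508900502d00502e00303c00503c0050b80000780050be00303f00503f0050bf0050ba0050cd0050fe0031340031200011e000508b0050bb) (nat_lit 0x10000000000000000000001000000000004001000000002004d00170000002b00) (.cD (nat_lit 256) (.kF (nat_lit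 16) (nat_lit 0x2001001001)) (.cD (nat_lit 8) (.kb (nat_lit 8) (nat_lit 0x1002001) (nat_lit 0x1080040020008004001)) (.cD (nat_lit 9) (.kb (nat_lit 9) (nat_lit 0x1002001) (nat_lit 0x1080040020008004002)) (.cD (nat_lit 11) (.kb (nat_lit 11) (nat_lit 0x1002001) (nat_lit 0x1080040028004002009)) (.cD (nat_lit 13) (.kb (nat_lit 13) (nat_lit 0x1002001) (nat_lit 0x1080040020008004002)) (.cD (nat_lit 40) (.kb (nat_lit 40) (nat_lit 0x1002001) (nat_lit 0x1080040020010008004)) (.cD (nat_lit 41) (.kb (nat_lit 41) (nat_lit 0x1002001) (nat_lit 0x1080040020008004012)) (.cD (nat_lit 42) (.kb (nat_lit 42) (nat_lit 0x1002001) (nat_lit 0x1080040010028004002)) (.cD (nat_lit 44) (.kb (nat_lit 44) (nat_lit 0x1002001) (nat_lit 0x1080040020010008004)) (.cD (nat_lit 56) (.kb (nat_lit 56) (nat_lit 0x1002001) (nat_lit 0x1080040010028004002)) (.cD (nat_lit 58) (.kb (nat_lit 58) (nat_lit 0x1002001) (nat_lit 0x1080040010028004002)) (.cD (nat_lit 59) (.kb (nat_lit 59) (nat_lit 0x1002001)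 (nat_lit 0x1080040028004012001)) (.cD (nat_lit 62) (.kb (nat_lit 62) (nat_lit 0x1002001) (nat_lit 0x1080040010028004002)) (.cD (nat_lit 73) (.kb (nat_lit 73) (nat_lit 0x1002001) (nat_lit 0x1080040020008004002)) (.cD (nat_lit 108) (.kb (nat_lit 108) (nat_lit 0x1002001) (nat_lit 0x1080040020010008004)) (.cD (nat_lit 122) (.kb (nat_lit 122) (nat_lit 0x1002001) (nat_lit 0x1080040010028004002)) (.cD (nat_lit 168) (.kb (nat_lit 168) (nat_lit 0x1002001) (nat_lit 0x1080040020010008004)) .nil))))))))))))))))))) (.cD (nat_lit 83) (.anc (nat_lit 16) (nat_lit 0x400410010000004f00510010000000100101000a006) (nat_lit 4352) (.dfs (nat_lit 256) (nat_lit 1) (nat_lit 1) (nat_lit 4097) (nat_lit 4097) (nat_lit 0) (nat_lit 0) (nat_lit 0) (nat_lit 0) (nat_lit 0) (nat_lit 0) (nat_lit 1) (nat_lit 0) (nat_lit 0x1100010008004002001) (nat_lit 0x100010008004002001) (nat_lit 0x100010000110000210000310000100800400800500800400900500900000b00400b00500b00400d00500d00502800102900502900002a00502a00502c00003800303800503800303a00503a00103b00303b00503b00303e00503e00404900504900506c00307a00507a0050a80011a00021a00031a000011000211000311000318000114000400c00500c00508800104800508d00400f00500f00508f00508900502d00502e00303c00503c0050b80000780050be00303f00503f0050bf0050ba0050cd0050fe0031340031200011e000508b0050bb)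 (nat_lit 0x10000000000000000000001000000000004001000000002004d00170000002b00) (.cD (nat_lit 256) (.kF (nat_lit 16) (nat_lit 0x2001001001)) (.cD (nat_lit 8) (.kb (nat_lit 8) (nat_lit 0x1002001) (nat_lit 0x1080040020008004001)) (.cD (nat_lit 9) (.kb (nat_lit 9) (nat_lit 0x1002001) (nat_lit 0x1080040020008004002)) (.cD (nat_lit 11) (.kb (nat_lit 11) (nat_lit 0x1002001) (nat_lit 0x1080040028004002009)) (.cD (nat_lit 13) (.kb (nat_lit 13) (nat_lit 0x1002001) (nat_lit 0x1080040020008004002)) (.cD (nat_lit 40) (.kb (nat_lit 40) (nat_lit 0x1002001) (nat_lit 0x1080040020010008004)) (.cD (nat_lit 41) (.kb (nat_lit 41) (nat_lit 0x1002001) (nat_lit 0x1080040020008004012)) (.cD (nat_lit 42) (.kb (nat_lit 42) (nat_lit 0x1002001) (nat_lit 0x1080040010028004002)) (.cD (nat_lit 44) (.kb (nat_lit 44) (nat_lit 0x1002001) (nat_lit 0x1080040020010008004)) (.cD (nat_lit 56) (.kb (nat_lit 56) (nat_lit 0x1002001) (nat_lit 0x1080040010028004002)) (.cD (nat_lit 58) (.kb (nat_lit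 58) (nat_lit 0x1002001) (nat_lit 0x1080040010028004002)) (.cD (nat_lit 59) (.kb (nat_lit 59) (nat_lit 0x1002001) (nat_lit 0x1080040028004012001)) (.cD (nat_lit 62) (.kb (nat_lit 62) (nat_lit 0x1002001) (nat_lit 0x1080040010028004002)) (.cD (nat_lit 73) (.kb (nat_lit 73) (nat_lit 0x1002001) (nat_lit 0x1080040020008004002)) (.cD (nat_lit 108) (.kb (nat_lit 108) (nat_lit 0x1002001) (nat_lit 0x1080040020010008004)) (.cD (nat_lit 122) (.kb (nat_lit 122) (nat_lit 0x1002001) (nat_lit 0x1080040010028004002)) (.cD (nat_lit 168) (.kb (nat_lit 168) (nat_lit 0x1002001) (nat_lit 0x1080040020010008004)) .nil))))))))))))))))))) (.cD (nat_lit 86) (.anc (nat_lit 16) (nat_lit 0x6e00300300110010000000200201000a005) (nat_lit 4352) (.dfs (nat_lit 256) (nat_lit 1) (nat_lit 1) (nat_lit 4097) (nat_lit 4097) (nat_lit 0) (nat_lit 0) (nat_lit 0) (nat_lit 0) (nat_lit 0) (nat_lit 0) (nat_lit 1) (nat_lit 0) (nat_lit 0x1100010008004002001) (nat_lit 0x100010008004002001) (nat_lit 0x100010000110000210000310000100800400800500800400900500900000b00400b00500b00400d00500d00502800102900502900002a00502a00502c00003800303800503800303a00503a00103b00303b00503b00303e00503e00404900504900506c00307a00507a0050a80011a00021a00031a000011000211000311000318000114000400c00500c00508800104800508d00400f00500f00508f00508900502d00502e00303c00503c0050b80000780050be00303f00503f0050bf0050ba0050cd0050fe0031340031200011e000508b0050bb)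 (nat_lit 0x10000000000000000000001000000000004001000000002004d00170000002b00) (.cD (nat_lit 256) (.kF (nat_lit 16) (nat_lit 0x2001001001)) (.cD (nat_lit 8) (.kb (nat_lit 8) (nat_lit 0x1002001) (nat_lit 0x1080040020008004001)) (.cD (nat_lit 9) (.kb (nat_lit 9) (nat_lit 0x1002001) (nat_lit 0x1080040020008004002)) (.cD (nat_lit 11) (.kb (nat_lit 11) (nat_lit 0x1002001) (nat_lit 0x1080040028004002009)) (.cD (nat_lit 13) (.kb (nat_lit 13) (nat_lit 0x1002001) (nat_lit 0x1080040020008004002)) (.cD (nat_lit 40) (.kb (nat_lit 40) (nat_lit 0x1002001) (nat_lit 0x1080040020010008004)) (.cD (nat_lit 41) (.kb (nat_lit 41) (nat_lit 0x1002001) (nat_lit 0x1080040020008004012)) (.cD (nat_lit 42) (.kb (nat_lit 42) (nat_lit 0x1002001) (nat_lit 0x1080040010028004002)) (.cD (nat_lit 44) (.kb (nat_lit 44) (nat_lit 0x1002001) (nat_lit 0x1080040020010008004)) (.cD (nat_lit 56) (.kb (nat_lit 56) (nat_lit 0x1002001) (nat_lit 0x1080040010028004002)) (.cD (nat_lit 58) (.kb (nat_lit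 58) (nat_lit 0x1002001) (nat_lit 0x1080040010028004002)) (.cD (nat_lit 59) (.kb (nat_lit 59) (nat_lit 0x1002001) (nat_lit 0x1080040028004012001)) (.cD (nat_lit 62) (.kb (nat_lit 62) (nat_lit 0x1002001) (nat_lit 0x1080040010028004002)) (.cD (nat_lit 73) (.kb (nat_lit 73) (nat_lit 0x1002001) (nat_lit 0x1080040020008004002)) (.cD (nat_lit 108) (.kb (nat_lit 108) (nat_lit 0x1002001) (nat_lit 0x1080040020010008004)) (.cD (nat_lit 122) (.kb (nat_lit 122) (nat_lit 0x1002001) (nat_lit 0x1080040010028004002)) (.cD (nat_lit 168) (.kb (nat_lit 168) (nat_lit 0x1002001) (nat_lit 0x1080040020010008004)) .nil))))))))))))))))))) (.cD (nat_lit 96) (.anc (nat_lit 96) (nat_lit 0x1002001) (nat_lit 4352) (.dfs (nat_lit 256) (nat_lit 1) (nat_lit 1) (nat_lit 4097) (nat_lit 4097) (nat_lit 0) (nat_lit 0) (nat_lit 0) (nat_lit 0) (nat_lit 0) (nat_lit 0) (nat_lit 1) (nat_lit 0) (nat_lit 0x1100010008004002001) (nat_lit 0x100010008004002001) (nat_lit 0x100010000110000210000310000100800400800500800400900500900000b00400b00500b00400d00500d00502800102900502900002a00502a00502c00003800303800503800303a00503a00103b00303b00503b00303e00503e00404900504900506c00307a00507a0050a80011a00021a00031a000011000211000311000318000114000400c00500c00508800104800508d00400f00500f00508f00508900502d00502e00303c00503c0050b80000780050be00303f00503f0050bf0050ba0050cd0050fe0031340031200011e000508b0050bb)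 (nat_lit 0x10000000000000000000001000000000004001000000002004d00170000002b00) (.cD (nat_lit 256) (.kF (nat_lit 96) (nat_lit 0x2001001001)) (.cD (nat_lit 8) (.kb (nat_lit 8) (nat_lit 0x1002001) (nat_lit 0x1080040020008004001)) (.cD (nat_lit 9) (.kb (nat_lit 9) (nat_lit 0x1002001) (nat_lit 0x1080040020008004002)) (.cD (nat_lit 11) (.kb (nat_lit 11) (nat_lit 0x1002001) (nat_lit 0x1080040028004002009)) (.cD (nat_lit 13) (.kb (nat_lit 13) (nat_lit 0x1002001) (nat_lit 0x1080040020008004002)) (.cD (nat_lit 40) (.kb (nat_lit 40) (nat_lit 0x1002001) (nat_lit 0x1080040020010008004)) (.cD (nat_lit 41) (.kb (nat_lit 41) (nat_lit 0x1002001) (nat_lit 0x1080040020008004012)) (.cD (nat_lit 42) (.kb (nat_lit 42) (nat_lit 0x1002001) (nat_lit 0x1080040010028004002)) (.cD (nat_lit 44) (.kb (nat_lit 44) (nat_lit 0x1002001) (nat_lit 0x1080040020010008004)) (.cD (nat_lit 56) (.kb (nat_lit 56) (nat_lit 0x1002001) (nat_lit 0x1080040010028004002)) (.cD (nat_lit 58) (.kb (nat_lit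 58) (nat_lit 0x1002001) (nat_lit 0x1080040010028004002)) (.cD (nat_lit 59) (.kb (nat_lit 59) (nat_lit 0x1002001) (nat_lit 0x1080040028004012001)) (.cD (nat_lit 62) (.kb (nat_lit 62) (nat_lit 0x1002001) (nat_lit 0x1080040010028004002)) (.cD (nat_lit 73) (.kb (nat_lit 73) (nat_lit 0x1002001) (nat_lit 0x1080040020008004002)) (.cD (nat_lit 108) (.kb (nat_lit 108) (nat_lit 0x1002001) (nat_lit 0x1080040020010008004)) (.cD (nat_lit 122) (.kb (nat_lit 122) (nat_lit 0x1002001) (nat_lit 0x1080040010028004002)) (.cD (nat_lit 168) (.kb (nat_lit 168) (nat_lit 0x1002001) (nat_lit 0x1080040020010008004)) .nil))))))))))))))))))) (.cD (nat_lit 97) (.anc (nat_lit 16) (nat_lit 0x400410010000004f00510010000000500310010000000300110010000000200201000a00a) (nat_lit 4352) (.dfs (nat_lit 256) (nat_lit 1) (nat_lit 1) (nat_lit 4097) (nat_lit 4097) (nat_lit 0) (nat_lit 0) (nat_lit 0) (nat_lit 0) (nat_lit 0) (nat_lit 0) (nat_lit 1) (nat_lit 0) (nat_lit 0x1100010008004002001) (nat_lit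 0x100010008004002001) (nat_lit 0x100010000110000210000310000100800400800500800400900500900000b00400b00500b00400d00500d00502800102900502900002a00502a00502c00003800303800503800303a00503a00103b00303b00503b00303e00503e00404900504900506c00307a00507a0050a80011a00021a00031a000011000211000311000318000114000400c00500c00508800104800508d00400f00500f00508f00508900502d00502e00303c00503c0050b80000780050be00303f00503f0050bf0050ba0050cd0050fe0031340031200011e000508b0050bb) (nat_lit 0x10000000000000000000001000000000004001000000002004d00170000002b00) (.cD (nat_lit 256) (.kF (nat_lit 16) (nat_lit 0x2001001001)) (.cD (nat_lit 8) (.kb (nat_lit 8) (nat_lit 0x1002001) (nat_lit 0x1080040020008004001)) (.cD (nat_lit 9) (.kb (nat_lit 9) (nat_lit 0x1002001) (nat_lit 0x1080040020008004002)) (.cD (nat_lit 11) (.kb (nat_lit 11) (nat_lit 0x1002001) (nat_lit 0x1080040028004002009)) (.cD (nat_lit 13) (.kb (nat_lit 13) (nat_lit 0x1002001) (nat_lit 0x1080040020008004002)) (.cD (nat_lit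 40) (.kb (nat_lit 40) (nat_lit 0x1002001) (nat_lit 0x1080040020010008004)) (.cD (nat_lit 41) (.kb (nat_lit 41) (nat_lit 0x1002001) (nat_lit 0x1080040020008004012)) (.cD (nat_lit 42) (.kb (nat_lit 42) (nat_lit 0x1002001) (nat_lit 0x1080040010028004002)) (.cD (nat_lit 44) (.kb (nat_lit 44) (nat_lit 0x1002001) (nat_lit 0x1080040020010008004)) (.cD (nat_lit 56) (.kb (nat_lit 56) (nat_lit 0x1002001) (nat_lit 0x1080040010028004002)) (.cD (nat_lit 58) (.kb (nat_lit 58) (nat_lit 0x1002001) (nat_lit 0x1080040010028004002)) (.cD (nat_lit 59) (.kb (nat_lit 59) (nat_lit 0x1002001) (nat_lit 0x1080040028004012001)) (.cD (nat_lit 62) (.kb (nat_lit 62) (nat_lit 0x1002001) (nat_lit 0x1080040010028004002)) (.cD (nat_lit 73) (.kb (nat_lit 73) (nat_lit 0x1002001) (nat_lit 0x1080040020008004002)) (.cD (nat_lit 108) (.kb (nat_lit 108) (nat_lit 0x1002001) (nat_lit 0x1080040020010008004)) (.cD (nat_lit 122) (.kb (nat_lit 122) (nat_lit 0x1002001) (nat_lit 0x1080040010028004002))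 (.cD (nat_lit 168) (.kb (nat_lit 168) (nat_lit 0x1002001) (nat_lit 0x1080040020010008004)) .nil))))))))))))))))))) .nil))))))))))))))))))))) (.cD (nat_lit 19) (.anc (nat_lit 192) (nat_lit 0x6e00110010000006f003100100000027001100100000006003007) (nat_lit 0x1103010008004003) (.dfs (nat_lit 259) (nat_lit 1) (nat_lit 1) (nat_lit 4097) (nat_lit 4097) (nat_lit 0) (nat_lit 2) (nat_lit 0) (nat_lit 0) (nat_lit 0) (nat_lit 0) (nat_lit 1) (nat_lit 0) (nat_lit 0x1100020010008004002001) (nat_lit 0x100020010008004002001) (nat_lit 0x10001030011030021030031030041030061030021a70031a70041a70051a70061a70001170021170031170051170031830041830011470041470061470061070031270011e30041e30051e30061e30011a30051d30041c7006143004173) (nat_lit 0x80000000000000000000000000000000000000000000000000000000000000000) (.cD (nat_lit 259) (.mulh (nat_lit 1) (nat_lit 1) (.mulh (nat_lit 1) (nat_lit 1) (.czs (nat_lit 259) z16 (nat_lit 16) (.dfs (nat_lit 4) (nat_lit 4100) (nat_lit 4101) (nat_lit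 0x1008002001) (nat_lit 0x1008002001) (nat_lit 0) (nat_lit 0) (nat_lit 3) (nat_lit 0) (nat_lit 0) (nat_lit 4) (nat_lit 1) (nat_lit 0) (nat_lit 4355) (nat_lit 435) (nat_lit 0x1000004000044) (nat_lit 0x100000000000000010) (.cD (nat_lit 4) (.dfs (nat_lit 3) (nat_lit 4104) (nat_lit 4109) (nat_lit 0x1010004002001) (nat_lit 0x1010004002001) (nat_lit 1) (nat_lit 0) (nat_lit 3) (nat_lit 0) (nat_lit 0) (nat_lit 3) (nat_lit 1) (nat_lit 0) (nat_lit 1) (nat_lit 0) (nat_lit 1) (nat_lit 0x8000000000000000800000000000000080000000000000008) (.cD (nat_lit 3) (.dfs (nat_lit 8) (nat_lit 4112) (nat_lit 4150) (nat_lit 0x1020008004002001) (nat_lit 0x102000c004002003) (nat_lit 0) (nat_lit 0) (nat_lit 3) (nat_lit 0) (nat_lit 0) (nat_lit 12) (nat_lit 1) (nat_lit 0) (nat_lit 4144) (nat_lit 176) (nat_lit 0x100000c00003c00004c00007c) (nat_lit 0x10000000000010001000000000001000) (.cD (nat_lit 12) (.dfs (nat_lit 16) (nat_lit 4128) (nat_lit 4132) (nat_lit 0x1040010008004002001) (nat_lit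 0x1040018008004006009) (nat_lit 0) (nat_lit 0) (nat_lit 3) (nat_lit 0) (nat_lit 0) (nat_lit 16) (nat_lit 1) (nat_lit 0) (nat_lit 1) (nat_lit 0) (nat_lit 1) (nat_lit 0x10000000000000001000000000000000100000000000000010000) (.cD (nat_lit 16) (.kA false (nat_lit 0x2101009004c001001)) (.cD (nat_lit 80) (.kA false (nat_lit 0x2101009004c001001)) (.cD (nat_lit 144) (.kA false (nat_lit 0x2101009004c001001)) (.cD (nat_lit 208) (.kA false (nat_lit 0x2101009004c001001)) .nil))))) (.cD (nat_lit 60) (.dfs (nat_lit 16) (nat_lit 4128) (nat_lit 4132) (nat_lit 0x1040010008004002001) (nat_lit 0x1040018008004006009) (nat_lit 0) (nat_lit 0) (nat_lit 3) (nat_lit 0) (nat_lit 0) (nat_lit 16) (nat_lit 1) (nat_lit 0) (nat_lit 1) (nat_lit 0) (nat_lit 1) (nat_lit 0x100000000000000010000000000000001000000000000000100000000) (.cD (nat_lit 32) (.kA false (nat_lit 0x2101009004c001001)) (.cD (nat_lit 96) (.kA false (nat_lit 0x2101009004c001001)) (.cD (nat_lit 160) (.kA false (nat_lit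 0x2101009004c001001)) (.cD (nat_lit 224) (.kA false (nat_lit 0x2101009004c001001)) .nil))))) (.cD (nat_lit 76) (.dfs (nat_lit 16) (nat_lit 4128) (nat_lit 4132) (nat_lit 0x1040010008004002001) (nat_lit 0x1040018008004006009) (nat_lit 0) (nat_lit 0) (nat_lit 3) (nat_lit 0) (nat_lit 0) (nat_lit 16) (nat_lit 1) (nat_lit 0) (nat_lit 1) (nat_lit 0) (nat_lit 1) (nat_lit 0x10000000000000001000000000000000100000000000000010000) (.cD (nat_lit 16) (.kA false (nat_lit 0x2101009004c001001)) (.cD (nat_lit 80) (.kA false (nat_lit 0x2101009004c001001)) (.cD (nat_lit 144) (.kA false (nat_lit 0x2101009004c001001)) (.cD (nat_lit 208) (.kA false (nat_lit 0x2101009004c001001)) .nil))))) (.cD (nat_lit 124) (.dfs (nat_lit 16) (nat_lit 4128) (nat_lit 4132) (nat_lit 0x1040010008004002001) (nat_lit 0x1040018008004006009) (nat_lit 0) (nat_lit 0) (nat_lit 3) (nat_lit 0) (nat_lit 0) (nat_lit 16) (nat_lit 1) (nat_lit 0) (nat_lit 1) (nat_lit 0) (nat_lit 1) (nat_lit 0x100000000000000010000000000000001000000000000000100000000)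 (.cD (nat_lit 32) (.kA false (nat_lit 0x2101009004c001001)) (.cD (nat_lit 96) (.kA false (nat_lit 0x2101009004c001001)) (.cD (nat_lit 160) (.kA false (nat_lit 0x2101009004c001001)) (.cD (nat_lit 224) (.kA false (nat_lit 0x2101009004c001001)) .nil))))) .nil))))) (.cD (nat_lit 67) (.dfs (nat_lit 8) (nat_lit 4112) (nat_lit 4150) (nat_lit 0x1020008004002001) (nat_lit 0x102000c004002003) (nat_lit 0) (nat_lit 0) (nat_lit 3) (nat_lit 0) (nat_lit 0) (nat_lit 12) (nat_lit 1) (nat_lit 0) (nat_lit 4144) (nat_lit 176) (nat_lit 0x100000c00003c00004c00007c) (nat_lit 0x10000000000010001000000000001000) (.cD (nat_lit 12) (.dfs (nat_lit 16) (nat_lit 4128) (nat_lit 4132) (nat_lit 0x1040010008004002001) (nat_lit 0x1040018008004006009) (nat_lit 0) (nat_lit 0) (nat_lit 3) (nat_lit 0) (nat_lit 0) (nat_lit 16) (nat_lit 1) (nat_lit 0) (nat_lit 1) (nat_lit 0) (nat_lit 1) (nat_lit 0x10000000000000001000000000000000100000000000000010000) (.cD (nat_lit 16) (.kA false (nat_lit 0x2101008004c002008008000002))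 (.cD (nat_lit 80) (.kA false (nat_lit 0xa101008004c002008008000002)) (.cD (nat_lit 144) (.kA false (nat_lit 0x3101008004c002008008000002)) (.cD (nat_lit 208) (.kA false (nat_lit 0xb101008004c002008008000002)) .nil))))) (.cD (nat_lit 60) (.dfs (nat_lit 16) (nat_lit 4128) (nat_lit 4132) (nat_lit 0x1040010008004002001) (nat_lit 0x1040018008004006009) (nat_lit 0) (nat_lit 0) (nat_lit 3) (nat_lit 0) (nat_lit 0) (nat_lit 16) (nat_lit 1) (nat_lit 0) (nat_lit 1) (nat_lit 0) (nat_lit 1) (nat_lit 0x100000000000000010000000000000001000000000000000100000000) (.cD (nat_lit 32) (.kA false (nat_lit 0x101008004c002008008000002)) (.cD (nat_lit 96) (.kA false (nat_lit 0x8101008004c002008008000002)) (.cD (nat_lit 160) (.kA false (nat_lit 0x1101008004c002008008000002)) (.cD (nat_lit 224) (.kA false (nat_lit 0x9101008004c002008008000002)) .nil))))) (.cD (nat_lit 76) (.dfs (nat_lit 16) (nat_lit 4128) (nat_lit 4132) (nat_lit 0x1040010008004002001) (nat_lit 0x1040018008004006009)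 (nat_lit 0) (nat_lit 0) (nat_lit 3) (nat_lit 0) (nat_lit 0) (nat_lit 16) (nat_lit 1) (nat_lit 0) (nat_lit 1) (nat_lit 0) (nat_lit 1) (nat_lit 0x10000000000000001000000000000000100000000000000010000) (.cD (nat_lit 16) (.kA false (nat_lit 0x2101008004c002008008000002)) (.cD (nat_lit 80) (.kA false (nat_lit 0xa101008004c002008008000002)) (.cD (nat_lit 144) (.kA false (nat_lit 0x3101008004c002008008000002)) (.cD (nat_lit 208) (.kA false (nat_lit 0xb101008004c002008008000002)) .nil))))) (.cD (nat_lit 124) (.dfs (nat_lit 16) (nat_lit 4128) (nat_lit 4132) (nat_lit 0x1040010008004002001) (nat_lit 0x1040018008004006009) (nat_lit 0) (nat_lit 0) (nat_lit 3) (nat_lit 0) (nat_lit 0) (nat_lit 16) (nat_lit 1) (nat_lit 0) (nat_lit 1) (nat_lit 0) (nat_lit 1) (nat_lit 0x100000000000000010000000000000001000000000000000100000000) (.cD (nat_lit 32) (.kA false (nat_lit 0x101008004c002008008000002)) (.cD (nat_lit 96) (.kA false (nat_lit 0x8101008004c002008008000002)) (.cD (nat_lit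 160) (.kA false (nat_lit 0x1101008004c002008008000002)) (.cD (nat_lit 224) (.kA false (nat_lit 0x9101008004c002008008000002)) .nil))))) .nil))))) (.cD (nat_lit 131) (.dfs (nat_lit 8) (nat_lit 4112) (nat_lit 4150) (nat_lit 0x1020008004002001) (nat_lit 0x102000c004002003) (nat_lit 0) (nat_lit 0) (nat_lit 3) (nat_lit 0) (nat_lit 0) (nat_lit 12) (nat_lit 1) (nat_lit 0) (nat_lit 4144) (nat_lit 176) (nat_lit 0x100000c00003c00004c00007c) (nat_lit 0x10000000000010001000000000001000) (.cD (nat_lit 12) (.dfs (nat_lit 16) (nat_lit 4128) (nat_lit 4132) (nat_lit 0x1040010008004002001) (nat_lit 0x1040018008004006009) (nat_lit 0) (nat_lit 0) (nat_lit 3) (nat_lit 0) (nat_lit 0) (nat_lit 16) (nat_lit 1) (nat_lit 0) (nat_lit 1) (nat_lit 0) (nat_lit 1) (nat_lit 0x10000000000000001000000000000000100000000000000010000) (.cD (nat_lit 16) (.kA false (nat_lit 0x2101009005c001004004000002)) (.cD (nat_lit 80) (.kA false (nat_lit 0x2101009005c001004004000002)) (.cD (nat_lit 144)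 (.kA false (nat_lit 0x2101009005c001004004000002)) (.cD (nat_lit 208) (.kA false (nat_lit 0x2101009005c001004004000002)) .nil))))) (.cD (nat_lit 60) (.dfs (nat_lit 16) (nat_lit 4128) (nat_lit 4132) (nat_lit 0x1040010008004002001) (nat_lit 0x1040018008004006009) (nat_lit 0) (nat_lit 0) (nat_lit 3) (nat_lit 0) (nat_lit 0) (nat_lit 16) (nat_lit 1) (nat_lit 0) (nat_lit 1) (nat_lit 0) (nat_lit 1) (nat_lit 0x100000000000000010000000000000001000000000000000100000000) (.cD (nat_lit 32) (.kA false (nat_lit 0x2101009005c001004004000002)) (.cD (nat_lit 96) (.kA false (nat_lit 0x2101009005c001004004000002)) (.cD (nat_lit 160) (.kA false (nat_lit 0x2101009005c001004004000002)) (.cD (nat_lit 224) (.kA false (nat_lit 0x2101009005c001004004000002)) .nil))))) (.cD (nat_lit 76) (.dfs (nat_lit 16) (nat_lit 4128) (nat_lit 4132) (nat_lit 0x1040010008004002001) (nat_lit 0x1040018008004006009) (nat_lit 0) (nat_lit 0) (nat_lit 3) (nat_lit 0) (nat_lit 0) (nat_lit 16) (nat_lit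 1) (nat_lit 0) (nat_lit 1) (nat_lit 0) (nat_lit 1) (nat_lit 0x10000000000000001000000000000000100000000000000010000) (.cD (nat_lit 16) (.kA false (nat_lit 0x2101009005c001004004000002)) (.cD (nat_lit 80) (.kA false (nat_lit 0x2101009005c001004004000002)) (.cD (nat_lit 144) (.kA false (nat_lit 0x2101009005c001004004000002)) (.cD (nat_lit 208) (.kA false (nat_lit 0x2101009005c001004004000002)) .nil))))) (.cD (nat_lit 124) (.dfs (nat_lit 16) (nat_lit 4128) (nat_lit 4132) (nat_lit 0x1040010008004002001) (nat_lit 0x1040018008004006009) (nat_lit 0) (nat_lit 0) (nat_lit 3) (nat_lit 0) (nat_lit 0) (nat_lit 16) (nat_lit 1) (nat_lit 0) (nat_lit 1) (nat_lit 0) (nat_lit 1) (nat_lit 0x100000000000000010000000000000001000000000000000100000000) (.cD (nat_lit 32) (.kA false (nat_lit 0x2101009005c001004004000002)) (.cD (nat_lit 96) (.kA false (nat_lit 0x2101009005c001004004000002)) (.cD (nat_lit 160) (.kA false (nat_lit 0x2101009005c001004004000002)) (.cD (nat_lit 224)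 (.kA false (nat_lit 0x2101009005c001004004000002)) .nil))))) .nil))))) (.cD (nat_lit 195) (.dfs (nat_lit 8) (nat_lit 4112) (nat_lit 4150) (nat_lit 0x1020008004002001) (nat_lit 0x102000c004002003) (nat_lit 0) (nat_lit 0) (nat_lit 3) (nat_lit 0) (nat_lit 0) (nat_lit 12) (nat_lit 1) (nat_lit 0) (nat_lit 4144) (nat_lit 176) (nat_lit 0x100000c00003c00004c00007c) (nat_lit 0x10000000000010001000000000001000) (.cD (nat_lit 12) (.dfs (nat_lit 16) (nat_lit 4128) (nat_lit 4132) (nat_lit 0x1040010008004002001) (nat_lit 0x1040018008004006009) (nat_lit 0) (nat_lit 0) (nat_lit 3) (nat_lit 0) (nat_lit 0) (nat_lit 16) (nat_lit 1) (nat_lit 0) (nat_lit 1) (nat_lit 0) (nat_lit 1) (nat_lit 0x10000000000000001000000000000000100000000000000010000) (.cD (nat_lit 16) (.kA false (nat_lit 0x210100900dc001008008000002)) (.cD (nat_lit 80) (.kA false (nat_lit 0x210100900dc001008008000002)) (.cD (nat_lit 144) (.kA false (nat_lit 0x210100900dc001008008000002)) (.cD (nat_lit 208) (.kA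 false (nat_lit 0x210100900dc001008008000002)) .nil))))) (.cD (nat_lit 60) (.dfs (nat_lit 16) (nat_lit 4128) (nat_lit 4132) (nat_lit 0x1040010008004002001) (nat_lit 0x1040018008004006009) (nat_lit 0) (nat_lit 0) (nat_lit 3) (nat_lit 0) (nat_lit 0) (nat_lit 16) (nat_lit 1) (nat_lit 0) (nat_lit 1) (nat_lit 0) (nat_lit 1) (nat_lit 0x100000000000000010000000000000001000000000000000100000000) (.cD (nat_lit 32) (.kA false (nat_lit 0x210100900dc001008008000002)) (.cD (nat_lit 96) (.kA false (nat_lit 0x210100900dc001008008000002)) (.cD (nat_lit 160) (.kA false (nat_lit 0x210100900dc001008008000002)) (.cD (nat_lit 224) (.kA false (nat_lit 0x210100900dc001008008000002)) .nil))))) (.cD (nat_lit 76) (.dfs (nat_lit 16) (nat_lit 4128) (nat_lit 4132) (nat_lit 0x1040010008004002001) (nat_lit 0x1040018008004006009) (nat_lit 0) (nat_lit 0) (nat_lit 3) (nat_lit 0) (nat_lit 0) (nat_lit 16) (nat_lit 1) (nat_lit 0) (nat_lit 1) (nat_lit 0) (nat_lit 1) (nat_lit 0x10000000000000001000000000000000100000000000000010000)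 (.cD (nat_lit 16) (.kA false (nat_lit 0x210100900dc001008008000002)) (.cD (nat_lit 80) (.kA false (nat_lit 0x210100900dc001008008000002)) (.cD (nat_lit 144) (.kA false (nat_lit 0x210100900dc001008008000002)) (.cD (nat_lit 208) (.kA false (nat_lit 0x210100900dc001008008000002)) .nil))))) (.cD (nat_lit 124) (.dfs (nat_lit 16) (nat_lit 4128) (nat_lit 4132) (nat_lit 0x1040010008004002001) (nat_lit 0x1040018008004006009) (nat_lit 0) (nat_lit 0) (nat_lit 3) (nat_lit 0) (nat_lit 0) (nat_lit 16) (nat_lit 1) (nat_lit 0) (nat_lit 1) (nat_lit 0) (nat_lit 1) (nat_lit 0x100000000000000010000000000000001000000000000000100000000) (.cD (nat_lit 32) (.kA false (nat_lit 0x210100900dc001008008000002)) (.cD (nat_lit 96) (.kA false (nat_lit 0x210100900dc001008008000002)) (.cD (nat_lit 160) (.kA false (nat_lit 0x210100900dc001008008000002)) (.cD (nat_lit 224) (.kA false (nat_lit 0x210100900dc001008008000002)) .nil))))) .nil))))) .nil))))) (.cD (nat_lit 68) (.dfs (nat_lit 3)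 (nat_lit 4104) (nat_lit 4109) (nat_lit 0x1010004002001) (nat_lit 0x1010004002001) (nat_lit 1) (nat_lit 0) (nat_lit 3) (nat_lit 0) (nat_lit 0) (nat_lit 27) (nat_lit 1) (nat_lit 0) (nat_lit 1) (nat_lit 0) (nat_lit 1) (nat_lit 0) .nil) .nil)))))) .nil))) (.cD (nat_lit 65) (.kS (nat_lit 2) (nat_lit 0x6806e062010020040002008008000002) (nat_lit 4311) (nat_lit 0x2001000a004002003) (nat_lit 0x800800000200400801002004000100100800800006806e06201002004006f001004)) (.cD (nat_lit 83) (.kS (nat_lit 2) (nat_lit 0x6806e062010020040002008008000002) (nat_lit 4161) (nat_lit 0x2001000a004002003) (nat_lit 0x800800000200400801002004000100100800800006806e062010020040005001004)) (.cD (nat_lit 129) (.kS (nat_lit 2) (nat_lit 0x6806e062010020040002008008000002) (nat_lit 4119) (nat_lit 0x2001000a004002003) (nat_lit 0x800800000200400801002004000100100800800006806e062010020040069001004)) (.cD (nat_lit 147) (.kS (nat_lit 2) (nat_lit 0x6806e062010020040002008008000002) (nat_lit 4225)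 (nat_lit 0x2001000a004002003) (nat_lit 0x800800000200400801002004000100100800800006806e062010020040003001004)) (.cD (nat_lit 193) (.kS (nat_lit 2) (nat_lit 0x6806e02a010020040002001001000002) (nat_lit 4289) (nat_lit 0x2001000a004002003) (nat_lit 0x4a04c04201002006000700100200400801002004000100100100100006806e02a010020040007001004)) (.cD (nat_lit 211) (.kS (nat_lit 2) (nat_lit 0x6806e02a010020040002001001000002) (nat_lit 4183) (nat_lit 0x2001000a004002003) (nat_lit 0x4a04c04201002006004f00100200400801002004000100100100100006806e02a01002004006d001004)) .nil)))))))))))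
theorem c664 : (chk [(x344, s663)] [] p664).n x344 s664 = true := by decide +kernel
noncomputable def p665 : Pf := (.dfs (nat_lit 48) (nat_lit 1) (nat_lit 1) (nat_lit 0x1002001) (nat_lit 0x1002001) (nat_lit 1) (nat_lit 0) (nat_lit 0) (nat_lit 0) (nat_lit 0) (nat_lit 0) (nat_lit 1) (nat_lit 0) (nat_lit 0x1010008001) (nat_lit 0x10008001) (nat_lit 0x10000030000430000830000c3000011001011000022002022000051001051000062002062001015002026001055002066) (nat_lit 0x8000000000000000800000004000200080000000400020008) (.cD (nat_lit 3) (.dfs (nat_lit 1) (nat_lit 4097) (nat_lit 4101) (nat_lit 1) (nat_lit 1) (nat_lit 0) (nat_lit 0) (nat_lit 1) (nat_lit 0x10b3037007003) (nat_lit 0x100080040020010008004002001) (nat_lit 0) (nat_lit 1) (nat_lit 0) (nat_lit 1) (nat_lit 0) (nat_lit 1) (nat_lit 0) .nil) (.cD (nat_lit 67) (.dfs (nat_lit 1) (nat_lit 4097) (nat_lit 4101) (nat_lit 1) (nat_lit 1) (nat_lit 0) (nat_lit 0) (nat_lit 1) (nat_lit 0x10f3077047043) (nat_lit 0x100080040020010008004002001)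 (nat_lit 0) (nat_lit 1) (nat_lit 0) (nat_lit 1) (nat_lit 0) (nat_lit 1) (nat_lit 0) .nil) (.cD (nat_lit 131) (.dfs (nat_lit 1) (nat_lit 4097) (nat_lit 4101) (nat_lit 1) (nat_lit 1) (nat_lit 0) (nat_lit 0) (nat_lit 1) (nat_lit 0x10b7087083033) (nat_lit 0x100080040020010008004002001) (nat_lit 0) (nat_lit 1) (nat_lit 0) (nat_lit 1) (nat_lit 0) (nat_lit 1) (nat_lit 0) .nil) (.cD (nat_lit 195) (.dfs (nat_lit 1) (nat_lit 4097) (nat_lit 4101) (nat_lit 1) (nat_lit 1) (nat_lit 0) (nat_lit 0) (nat_lit 1) (nat_lit 0x10f70c70c3073) (nat_lit 0x100080040020010008004002001) (nat_lit 0) (nat_lit 1) (nat_lit 0) (nat_lit 1) (nat_lit 0) (nat_lit 1) (nat_lit 0) .nil) (.cD (nat_lit 17) (.czs (nat_lit 17) z21 (nat_lit 64) (.dfs (nat_lit 1) (nat_lit 4097) (nat_lit 4101) (nat_lit 0x1004002) (nat_lit 0x1004002) (nat_lit 0) (nat_lit 0) (nat_lit 3) (nat_lit 0) (nat_lit 0) (nat_lit 8) (nat_lit 1) (nat_lit 0) (nat_lit 0x1012003) (nat_lit 73735) (nat_lit 0x1000020001020000060001060000023001023000063001063001024001064001027001067)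 (nat_lit 0x9000000000000000900000000) (.cD (nat_lit 32) (.dfs (nat_lit 2) (nat_lit 4098) (nat_lit 4106) (nat_lit 0x1008004001) (nat_lit 0x1008004009) (nat_lit 0) (nat_lit 0) (nat_lit 3) (nat_lit 0) (nat_lit 0) (nat_lit 8) (nat_lit 1) (nat_lit 0) (nat_lit 1) (nat_lit 0) (nat_lit 1) (nat_lit 0) .nil) (.cD (nat_lit 96) (.anc (nat_lit 96) (nat_lit 0x8001004007001002003) (nat_lit 4352) (.dfs (nat_lit 256) (nat_lit 1) (nat_lit 1) (nat_lit 4097) (nat_lit 4097) (nat_lit 0) (nat_lit 0) (nat_lit 0) (nat_lit 0) (nat_lit 0) (nat_lit 0) (nat_lit 1) (nat_lit 0) (nat_lit 0x1100010008004002001) (nat_lit 0x100010008004002001) (nat_lit 0x100010000110000210000310000100800400800500800400900500900000b00400b00500b00400d00500d00502800102900502900002a00502a00502c00003800303800503800303a00503a00103b00303b00503b00303e00503e00404900504900506c00307a00507a0050a80011a00021a00031a000011000211000311000318000114000400c00500c00508800104800508d00400f00500f00508f00508900502d00502e00303c00503c0050b80000780050be00303f00503f0050bf0050ba0050cd0050fe0031340031200011e000508b0050bb)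 (nat_lit 0x10000000000000000000001000000000004001000000002004d00170000002b00) (.cD (nat_lit 256) (.kF (nat_lit 96) (nat_lit 0x2001001001)) (.cD (nat_lit 8) (.kb (nat_lit 8) (nat_lit 0x1002001) (nat_lit 0x1080040020008004001)) (.cD (nat_lit 9) (.kb (nat_lit 9) (nat_lit 0x1002001) (nat_lit 0x1080040020008004002)) (.cD (nat_lit 11) (.kb (nat_lit 11) (nat_lit 0x1002001) (nat_lit 0x1080040028004002009)) (.cD (nat_lit 13) (.kb (nat_lit 13) (nat_lit 0x1002001) (nat_lit 0x1080040020008004002)) (.cD (nat_lit 40) (.kb (nat_lit 40) (nat_lit 0x1002001) (nat_lit 0x1080040020010008004)) (.cD (nat_lit 41) (.kb (nat_lit 41) (nat_lit 0x1002001) (nat_lit 0x1080040020008004012)) (.cD (nat_lit 42) (.kb (nat_lit 42) (nat_lit 0x1002001) (nat_lit 0x1080040010028004002)) (.cD (nat_lit 44) (.kb (nat_lit 44) (nat_lit 0x1002001) (nat_lit 0x1080040020010008004)) (.cD (nat_lit 56) (.kb (nat_lit 56) (nat_lit 0x1002001) (nat_lit 0x1080040010028004002)) (.cD (nat_lit 58) (.kb (nat_lit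 58) (nat_lit 0x1002001) (nat_lit 0x1080040010028004002)) (.cD (nat_lit 59) (.kb (nat_lit 59) (nat_lit 0x1002001) (nat_lit 0x1080040028004012001)) (.cD (nat_lit 62) (.kb (nat_lit 62) (nat_lit 0x1002001) (nat_lit 0x1080040010028004002)) (.cD (nat_lit 73) (.kb (nat_lit 73) (nat_lit 0x1002001) (nat_lit 0x1080040020008004002)) (.cD (nat_lit 108) (.kb (nat_lit 108) (nat_lit 0x1002001) (nat_lit 0x1080040020010008004)) (.cD (nat_lit 122) (.kb (nat_lit 122) (nat_lit 0x1002001) (nat_lit 0x1080040010028004002)) (.cD (nat_lit 168) (.kb (nat_lit 168) (nat_lit 0x1002001) (nat_lit 0x1080040020010008004)) .nil))))))))))))))))))) (.cD (nat_lit 35) (.dfs (nat_lit 2) (nat_lit 4098) (nat_lit 4106) (nat_lit 0x1008004001) (nat_lit 0x1008004009) (nat_lit 0) (nat_lit 0) (nat_lit 3) (nat_lit 0) (nat_lit 0) (nat_lit 8) (nat_lit 1) (nat_lit 0) (nat_lit 1) (nat_lit 0) (nat_lit 1) (nat_lit 0) .nil) (.cD (nat_lit 99) (.anc (nat_lit 96) (nat_lit 0x800100200800900210010000002700300c005006)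 (nat_lit 4352) (.dfs (nat_lit 256) (nat_lit 1) (nat_lit 1) (nat_lit 4097) (nat_lit 4097) (nat_lit 0) (nat_lit 0) (nat_lit 0) (nat_lit 0) (nat_lit 0) (nat_lit 0) (nat_lit 1) (nat_lit 0) (nat_lit 0x1100010008004002001) (nat_lit 0x100010008004002001) (nat_lit 0x100010000110000210000310000100800400800500800400900500900000b00400b00500b00400d00500d00502800102900502900002a00502a00502c00003800303800503800303a00503a00103b00303b00503b00303e00503e00404900504900506c00307a00507a0050a80011a00021a00031a000011000211000311000318000114000400c00500c00508800104800508d00400f00500f00508f00508900502d00502e00303c00503c0050b80000780050be00303f00503f0050bf0050ba0050cd0050fe0031340031200011e000508b0050bb) (nat_lit 0x10000000000000000000001000000000004001000000002004d00170000002b00) (.cD (nat_lit 256) (.kF (nat_lit 96) (nat_lit 0x2001001001)) (.cD (nat_lit 8) (.kb (nat_lit 8) (nat_lit 0x1002001) (nat_lit 0x1080040020008004001)) (.cD (nat_lit 9) (.kb (nat_lit 9) (nat_lit 0x1002001)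 (nat_lit 0x1080040020008004002)) (.cD (nat_lit 11) (.kb (nat_lit 11) (nat_lit 0x1002001) (nat_lit 0x1080040028004002009)) (.cD (nat_lit 13) (.kb (nat_lit 13) (nat_lit 0x1002001) (nat_lit 0x1080040020008004002)) (.cD (nat_lit 40) (.kb (nat_lit 40) (nat_lit 0x1002001) (nat_lit 0x1080040020010008004)) (.cD (nat_lit 41) (.kb (nat_lit 41) (nat_lit 0x1002001) (nat_lit 0x1080040020008004012)) (.cD (nat_lit 42) (.kb (nat_lit 42) (nat_lit 0x1002001) (nat_lit 0x1080040010028004002)) (.cD (nat_lit 44) (.kb (nat_lit 44) (nat_lit 0x1002001) (nat_lit 0x1080040020010008004)) (.cD (nat_lit 56) (.kb (nat_lit 56) (nat_lit 0x1002001) (nat_lit 0x1080040010028004002)) (.cD (nat_lit 58) (.kb (nat_lit 58) (nat_lit 0x1002001) (nat_lit 0x1080040010028004002)) (.cD (nat_lit 59) (.kb (nat_lit 59) (nat_lit 0x1002001) (nat_lit 0x1080040028004012001)) (.cD (nat_lit 62) (.kb (nat_lit 62) (nat_lit 0x1002001) (nat_lit 0x1080040010028004002)) (.cD (nat_lit 73) (.kb (nat_lit 73) (nat_lit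 0x1002001) (nat_lit 0x1080040020008004002)) (.cD (nat_lit 108) (.kb (nat_lit 108) (nat_lit 0x1002001) (nat_lit 0x1080040020010008004)) (.cD (nat_lit 122) (.kb (nat_lit 122) (nat_lit 0x1002001) (nat_lit 0x1080040010028004002)) (.cD (nat_lit 168) (.kb (nat_lit 168) (nat_lit 0x1002001) (nat_lit 0x1080040020010008004)) .nil))))))))))))))))))) .nil)))))) (.cD (nat_lit 34) (.czs (nat_lit 34) z20 (nat_lit 64) (.dfs (nat_lit 1) (nat_lit 4097) (nat_lit 4101) (nat_lit 0x1004002) (nat_lit 0x1004002) (nat_lit 0) (nat_lit 0) (nat_lit 3) (nat_lit 0) (nat_lit 0) (nat_lit 16) (nat_lit 1) (nat_lit 0) (nat_lit 0x100a003) (nat_lit 57351) (nat_lit 0x1000010001010000050001050000013001013000053001053001014001054001017001057) (nat_lit 0x900000000000000090000) (.cD (nat_lit 16) (.dfs (nat_lit 2) (nat_lit 4098) (nat_lit 4106) (nat_lit 0x1008004001) (nat_lit 0x1008004009) (nat_lit 0) (nat_lit 0) (nat_lit 3) (nat_lit 0) (nat_lit 0) (nat_lit 16) (nat_lit 1) (nat_lit 0) (nat_lit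 1) (nat_lit 0) (nat_lit 1) (nat_lit 0) .nil) (.cD (nat_lit 80) (.anc (nat_lit 16) (nat_lit 0x3000a00900100200700400101000a005) (nat_lit 4352) (.dfs (nat_lit 256) (nat_lit 1) (nat_lit 1) (nat_lit 4097) (nat_lit 4097) (nat_lit 0) (nat_lit 0) (nat_lit 0) (nat_lit 0) (nat_lit 0) (nat_lit 0) (nat_lit 1) (nat_lit 0) (nat_lit 0x1100010008004002001) (nat_lit 0x100010008004002001) (nat_lit 0x100010000110000210000310000100800400800500800400900500900000b00400b00500b00400d00500d00502800102900502900002a00502a00502c00003800303800503800303a00503a00103b00303b00503b00303e00503e00404900504900506c00307a00507a0050a80011a00021a00031a000011000211000311000318000114000400c00500c00508800104800508d00400f00500f00508f00508900502d00502e00303c00503c0050b80000780050be00303f00503f0050bf0050ba0050cd0050fe0031340031200011e000508b0050bb) (nat_lit 0x10000000000000000000001000000000004001000000002004d00170000002b00) (.cD (nat_lit 256) (.kF (nat_lit 16) (nat_lit 0x2001001001)) (.cD (nat_lit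 8) (.kb (nat_lit 8) (nat_lit 0x1002001) (nat_lit 0x1080040020008004001)) (.cD (nat_lit 9) (.kb (nat_lit 9) (nat_lit 0x1002001) (nat_lit 0x1080040020008004002)) (.cD (nat_lit 11) (.kb (nat_lit 11) (nat_lit 0x1002001) (nat_lit 0x1080040028004002009)) (.cD (nat_lit 13) (.kb (nat_lit 13) (nat_lit 0x1002001) (nat_lit 0x1080040020008004002)) (.cD (nat_lit 40) (.kb (nat_lit 40) (nat_lit 0x1002001) (nat_lit 0x1080040020010008004)) (.cD (nat_lit 41) (.kb (nat_lit 41) (nat_lit 0x1002001) (nat_lit 0x1080040020008004012)) (.cD (nat_lit 42) (.kb (nat_lit 42) (nat_lit 0x1002001) (nat_lit 0x1080040010028004002)) (.cD (nat_lit 44) (.kb (nat_lit 44) (nat_lit 0x1002001) (nat_lit 0x1080040020010008004)) (.cD (nat_lit 56) (.kb (nat_lit 56) (nat_lit 0x1002001) (nat_lit 0x1080040010028004002)) (.cD (nat_lit 58) (.kb (nat_lit 58) (nat_lit 0x1002001) (nat_lit 0x1080040010028004002)) (.cD (nat_lit 59) (.kb (nat_lit 59) (nat_lit 0x1002001) (nat_lit 0x1080040028004012001)) (.cD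 (nat_lit 62) (.kb (nat_lit 62) (nat_lit 0x1002001) (nat_lit 0x1080040010028004002)) (.cD (nat_lit 73) (.kb (nat_lit 73) (nat_lit 0x1002001) (nat_lit 0x1080040020008004002)) (.cD (nat_lit 108) (.kb (nat_lit 108) (nat_lit 0x1002001) (nat_lit 0x1080040020010008004)) (.cD (nat_lit 122) (.kb (nat_lit 122) (nat_lit 0x1002001) (nat_lit 0x1080040010028004002)) (.cD (nat_lit 168) (.kb (nat_lit 168) (nat_lit 0x1002001) (nat_lit 0x1080040020010008004)) .nil))))))))))))))))))) (.cD (nat_lit 19) (.dfs (nat_lit 2) (nat_lit 4098) (nat_lit 4106) (nat_lit 0x1008004001) (nat_lit 0x1008004009) (nat_lit 0) (nat_lit 0) (nat_lit 3) (nat_lit 0) (nat_lit 0) (nat_lit 16) (nat_lit 1) (nat_lit 0) (nat_lit 1) (nat_lit 0) (nat_lit 1) (nat_lit 0) .nil) (.cD (nat_lit 83) (.anc (nat_lit 96) (nat_lit 0x200610010000000d00202700300c005005) (nat_lit 4352) (.dfs (nat_lit 256) (nat_lit 1) (nat_lit 1) (nat_lit 4097) (nat_lit 4097) (nat_lit 0) (nat_lit 0) (nat_lit 0) (nat_lit 0) (nat_lit 0)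 (nat_lit 0) (nat_lit 1) (nat_lit 0) (nat_lit 0x1100010008004002001) (nat_lit 0x100010008004002001) (nat_lit 0x100010000110000210000310000100800400800500800400900500900000b00400b00500b00400d00500d00502800102900502900002a00502a00502c00003800303800503800303a00503a00103b00303b00503b00303e00503e00404900504900506c00307a00507a0050a80011a00021a00031a000011000211000311000318000114000400c00500c00508800104800508d00400f00500f00508f00508900502d00502e00303c00503c0050b80000780050be00303f00503f0050bf0050ba0050cd0050fe0031340031200011e000508b0050bb) (nat_lit 0x10000000000000000000001000000000004001000000002004d00170000002b00) (.cD (nat_lit 256) (.kF (nat_lit 96) (nat_lit 0x2001001001)) (.cD (nat_lit 8) (.kb (nat_lit 8) (nat_lit 0x1002001) (nat_lit 0x1080040020008004001)) (.cD (nat_lit 9) (.kb (nat_lit 9) (nat_lit 0x1002001) (nat_lit 0x1080040020008004002)) (.cD (nat_lit 11) (.kb (nat_lit 11) (nat_lit 0x1002001) (nat_lit 0x1080040028004002009)) (.cD (nat_lit 13) (.kb (nat_lit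 13) (nat_lit 0x1002001) (nat_lit 0x1080040020008004002)) (.cD (nat_lit 40) (.kb (nat_lit 40) (nat_lit 0x1002001) (nat_lit 0x1080040020010008004)) (.cD (nat_lit 41) (.kb (nat_lit 41) (nat_lit 0x1002001) (nat_lit 0x1080040020008004012)) (.cD (nat_lit 42) (.kb (nat_lit 42) (nat_lit 0x1002001) (nat_lit 0x1080040010028004002)) (.cD (nat_lit 44) (.kb (nat_lit 44) (nat_lit 0x1002001) (nat_lit 0x1080040020010008004)) (.cD (nat_lit 56) (.kb (nat_lit 56) (nat_lit 0x1002001) (nat_lit 0x1080040010028004002)) (.cD (nat_lit 58) (.kb (nat_lit 58) (nat_lit 0x1002001) (nat_lit 0x1080040010028004002)) (.cD (nat_lit 59) (.kb (nat_lit 59) (nat_lit 0x1002001) (nat_lit 0x1080040028004012001)) (.cD (nat_lit 62) (.kb (nat_lit 62) (nat_lit 0x1002001) (nat_lit 0x1080040010028004002)) (.cD (nat_lit 73) (.kb (nat_lit 73) (nat_lit 0x1002001) (nat_lit 0x1080040020008004002)) (.cD (nat_lit 108) (.kb (nat_lit 108) (nat_lit 0x1002001) (nat_lit 0x1080040020010008004)) (.cD (nat_lit 122)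 (.kb (nat_lit 122) (nat_lit 0x1002001) (nat_lit 0x1080040010028004002)) (.cD (nat_lit 168) (.kb (nat_lit 168) (nat_lit 0x1002001) (nat_lit 0x1080040020010008004)) .nil))))))))))))))))))) .nil)))))) (.cD (nat_lit 81) (.czs (nat_lit 81) z21 (nat_lit 64) (.dfs (nat_lit 1) (nat_lit 4097) (nat_lit 4101) (nat_lit 0x1004002) (nat_lit 0x1004002) (nat_lit 0) (nat_lit 0) (nat_lit 3) (nat_lit 0) (nat_lit 0) (nat_lit 8) (nat_lit 1) (nat_lit 0) (nat_lit 0x1012003) (nat_lit 73735) (nat_lit 0x1000020001020000060001060000023001023000063001063001024001064001027001067) (nat_lit 0x9000000000000000900000000) (.cD (nat_lit 32) (.dfs (nat_lit 2) (nat_lit 4098) (nat_lit 4106) (nat_lit 0x1008004001) (nat_lit 0x1008004009) (nat_lit 0) (nat_lit 0) (nat_lit 3) (nat_lit 0) (nat_lit 0) (nat_lit 8) (nat_lit 1) (nat_lit 0) (nat_lit 1) (nat_lit 0) (nat_lit 1) (nat_lit 0) .nil) (.cD (nat_lit 96) (.anc (nat_lit 96) (nat_lit 0x8001004007001002003) (nat_lit 4352) (.dfs (nat_lit 256) (nat_lit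 1) (nat_lit 1) (nat_lit 4097) (nat_lit 4097) (nat_lit 0) (nat_lit 0) (nat_lit 0) (nat_lit 0) (nat_lit 0) (nat_lit 0) (nat_lit 1) (nat_lit 0) (nat_lit 0x1100010008004002001) (nat_lit 0x100010008004002001) (nat_lit 0x100010000110000210000310000100800400800500800400900500900000b00400b00500b00400d00500d00502800102900502900002a00502a00502c00003800303800503800303a00503a00103b00303b00503b00303e00503e00404900504900506c00307a00507a0050a80011a00021a00031a000011000211000311000318000114000400c00500c00508800104800508d00400f00500f00508f00508900502d00502e00303c00503c0050b80000780050be00303f00503f0050bf0050ba0050cd0050fe0031340031200011e000508b0050bb) (nat_lit 0x10000000000000000000001000000000004001000000002004d00170000002b00) (.cD (nat_lit 256) (.kF (nat_lit 96) (nat_lit 0x2001001001)) (.cD (nat_lit 8) (.kb (nat_lit 8) (nat_lit 0x1002001) (nat_lit 0x1080040020008004001)) (.cD (nat_lit 9) (.kb (nat_lit 9) (nat_lit 0x1002001) (nat_lit 0x1080040020008004002)) (.cD (nat_lit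 11) (.kb (nat_lit 11) (nat_lit 0x1002001) (nat_lit 0x1080040028004002009)) (.cD (nat_lit 13) (.kb (nat_lit 13) (nat_lit 0x1002001) (nat_lit 0x1080040020008004002)) (.cD (nat_lit 40) (.kb (nat_lit 40) (nat_lit 0x1002001) (nat_lit 0x1080040020010008004)) (.cD (nat_lit 41) (.kb (nat_lit 41) (nat_lit 0x1002001) (nat_lit 0x1080040020008004012)) (.cD (nat_lit 42) (.kb (nat_lit 42) (nat_lit 0x1002001) (nat_lit 0x1080040010028004002)) (.cD (nat_lit 44) (.kb (nat_lit 44) (nat_lit 0x1002001) (nat_lit 0x1080040020010008004)) (.cD (nat_lit 56) (.kb (nat_lit 56) (nat_lit 0x1002001) (nat_lit 0x1080040010028004002)) (.cD (nat_lit 58) (.kb (nat_lit 58) (nat_lit 0x1002001) (nat_lit 0x1080040010028004002)) (.cD (nat_lit 59) (.kb (nat_lit 59) (nat_lit 0x1002001) (nat_lit 0x1080040028004012001)) (.cD (nat_lit 62) (.kb (nat_lit 62) (nat_lit 0x1002001) (nat_lit 0x1080040010028004002)) (.cD (nat_lit 73) (.kb (nat_lit 73) (nat_lit 0x1002001) (nat_lit 0x1080040020008004002))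 (.cD (nat_lit 108) (.kb (nat_lit 108) (nat_lit 0x1002001) (nat_lit 0x1080040020010008004)) (.cD (nat_lit 122) (.kb (nat_lit 122) (nat_lit 0x1002001) (nat_lit 0x1080040010028004002)) (.cD (nat_lit 168) (.kb (nat_lit 168) (nat_lit 0x1002001) (nat_lit 0x1080040020010008004)) .nil))))))))))))))))))) (.cD (nat_lit 35) (.dfs (nat_lit 2) (nat_lit 4098) (nat_lit 4106) (nat_lit 0x1008004001) (nat_lit 0x1008004009) (nat_lit 0) (nat_lit 0) (nat_lit 3) (nat_lit 0) (nat_lit 0) (nat_lit 8) (nat_lit 1) (nat_lit 0) (nat_lit 1) (nat_lit 0) (nat_lit 1) (nat_lit 0) .nil) (.cD (nat_lit 99) (.anc (nat_lit 96) (nat_lit 0x800100200800900210010000002700300c005006) (nat_lit 4352) (.dfs (nat_lit 256) (nat_lit 1) (nat_lit 1) (nat_lit 4097) (nat_lit 4097) (nat_lit 0) (nat_lit 0) (nat_lit 0) (nat_lit 0) (nat_lit 0) (nat_lit 0) (nat_lit 1) (nat_lit 0) (nat_lit 0x1100010008004002001) (nat_lit 0x100010008004002001) (nat_lit 0x100010000110000210000310000100800400800500800400900500900000b00400b00500b00400d00500d00502800102900502900002a00502a00502c00003800303800503800303a00503a00103b00303b00503b00303e00503e00404900504900506c00307a00507a0050a80011a00021a00031a000011000211000311000318000114000400c00500c00508800104800508d00400f00500f00508f00508900502d00502e00303c00503c0050b80000780050be00303f00503f0050bf0050ba0050cd0050fe0031340031200011e000508b0050bb)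 (nat_lit 0x10000000000000000000001000000000004001000000002004d00170000002b00) (.cD (nat_lit 256) (.kF (nat_lit 96) (nat_lit 0x2001001001)) (.cD (nat_lit 8) (.kb (nat_lit 8) (nat_lit 0x1002001) (nat_lit 0x1080040020008004001)) (.cD (nat_lit 9) (.kb (nat_lit 9) (nat_lit 0x1002001) (nat_lit 0x1080040020008004002)) (.cD (nat_lit 11) (.kb (nat_lit 11) (nat_lit 0x1002001) (nat_lit 0x1080040028004002009)) (.cD (nat_lit 13) (.kb (nat_lit 13) (nat_lit 0x1002001) (nat_lit 0x1080040020008004002)) (.cD (nat_lit 40) (.kb (nat_lit 40) (nat_lit 0x1002001) (nat_lit 0x1080040020010008004)) (.cD (nat_lit 41) (.kb (nat_lit 41) (nat_lit 0x1002001) (nat_lit 0x1080040020008004012)) (.cD (nat_lit 42) (.kb (nat_lit 42) (nat_lit 0x1002001) (nat_lit 0x1080040010028004002)) (.cD (nat_lit 44) (.kb (nat_lit 44) (nat_lit 0x1002001) (nat_lit 0x1080040020010008004)) (.cD (nat_lit 56) (.kb (nat_lit 56) (nat_lit 0x1002001) (nat_lit 0x1080040010028004002)) (.cD (nat_lit 58) (.kb (nat_lit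 58) (nat_lit 0x1002001) (nat_lit 0x1080040010028004002)) (.cD (nat_lit 59) (.kb (nat_lit 59) (nat_lit 0x1002001) (nat_lit 0x1080040028004012001)) (.cD (nat_lit 62) (.kb (nat_lit 62) (nat_lit 0x1002001) (nat_lit 0x1080040010028004002)) (.cD (nat_lit 73) (.kb (nat_lit 73) (nat_lit 0x1002001) (nat_lit 0x1080040020008004002)) (.cD (nat_lit 108) (.kb (nat_lit 108) (nat_lit 0x1002001) (nat_lit 0x1080040020010008004)) (.cD (nat_lit 122) (.kb (nat_lit 122) (nat_lit 0x1002001) (nat_lit 0x1080040010028004002)) (.cD (nat_lit 168) (.kb (nat_lit 168) (nat_lit 0x1002001) (nat_lit 0x1080040020010008004)) .nil))))))))))))))))))) .nil)))))) (.cD (nat_lit 98) (.czs (nat_lit 98) z20 (nat_lit 64) (.dfs (nat_lit 1) (nat_lit 4097) (nat_lit 4101) (nat_lit 0x1004002) (nat_lit 0x1004002) (nat_lit 0) (nat_lit 0) (nat_lit 3) (nat_lit 0) (nat_lit 0) (nat_lit 16) (nat_lit 1) (nat_lit 0) (nat_lit 0x100a003) (nat_lit 57351) (nat_lit 0x1000010001010000050001050000013001013000053001053001014001054001017001057)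 (nat_lit 0x900000000000000090000) (.cD (nat_lit 16) (.dfs (nat_lit 2) (nat_lit 4098) (nat_lit 4106) (nat_lit 0x1008004001) (nat_lit 0x1008004009) (nat_lit 0) (nat_lit 0) (nat_lit 3) (nat_lit 0) (nat_lit 0) (nat_lit 16) (nat_lit 1) (nat_lit 0) (nat_lit 1) (nat_lit 0) (nat_lit 1) (nat_lit 0) .nil) (.cD (nat_lit 80) (.anc (nat_lit 16) (nat_lit 0x3000a00900100200700400101000a005) (nat_lit 4352) (.dfs (nat_lit 256) (nat_lit 1) (nat_lit 1) (nat_lit 4097) (nat_lit 4097) (nat_lit 0) (nat_lit 0) (nat_lit 0) (nat_lit 0) (nat_lit 0) (nat_lit 0) (nat_lit 1) (nat_lit 0) (nat_lit 0x1100010008004002001) (nat_lit 0x100010008004002001) (nat_lit 0x100010000110000210000310000100800400800500800400900500900000b00400b00500b00400d00500d00502800102900502900002a00502a00502c00003800303800503800303a00503a00103b00303b00503b00303e00503e00404900504900506c00307a00507a0050a80011a00021a00031a000011000211000311000318000114000400c00500c00508800104800508d00400f00500f00508f00508900502d00502e00303c00503c0050b80000780050be00303f00503f0050bf0050ba0050cd0050fe0031340031200011e000508b0050bb)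 (nat_lit 0x10000000000000000000001000000000004001000000002004d00170000002b00) (.cD (nat_lit 256) (.kF (nat_lit 16) (nat_lit 0x2001001001)) (.cD (nat_lit 8) (.kb (nat_lit 8) (nat_lit 0x1002001) (nat_lit 0x1080040020008004001)) (.cD (nat_lit 9) (.kb (nat_lit 9) (nat_lit 0x1002001) (nat_lit 0x1080040020008004002)) (.cD (nat_lit 11) (.kb (nat_lit 11) (nat_lit 0x1002001) (nat_lit 0x1080040028004002009)) (.cD (nat_lit 13) (.kb (nat_lit 13) (nat_lit 0x1002001) (nat_lit 0x1080040020008004002)) (.cD (nat_lit 40) (.kb (nat_lit 40) (nat_lit 0x1002001) (nat_lit 0x1080040020010008004)) (.cD (nat_lit 41) (.kb (nat_lit 41) (nat_lit 0x1002001) (nat_lit 0x1080040020008004012)) (.cD (nat_lit 42) (.kb (nat_lit 42) (nat_lit 0x1002001) (nat_lit 0x1080040010028004002)) (.cD (nat_lit 44) (.kb (nat_lit 44) (nat_lit 0x1002001) (nat_lit 0x1080040020010008004)) (.cD (nat_lit 56) (.kb (nat_lit 56) (nat_lit 0x1002001) (nat_lit 0x1080040010028004002)) (.cD (nat_lit 58) (.kb (nat_lit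 58) (nat_lit 0x1002001) (nat_lit 0x1080040010028004002)) (.cD (nat_lit 59) (.kb (nat_lit 59) (nat_lit 0x1002001) (nat_lit 0x1080040028004012001)) (.cD (nat_lit 62) (.kb (nat_lit 62) (nat_lit 0x1002001) (nat_lit 0x1080040010028004002)) (.cD (nat_lit 73) (.kb (nat_lit 73) (nat_lit 0x1002001) (nat_lit 0x1080040020008004002)) (.cD (nat_lit 108) (.kb (nat_lit 108) (nat_lit 0x1002001) (nat_lit 0x1080040020010008004)) (.cD (nat_lit 122) (.kb (nat_lit 122) (nat_lit 0x1002001) (nat_lit 0x1080040010028004002)) (.cD (nat_lit 168) (.kb (nat_lit 168) (nat_lit 0x1002001) (nat_lit 0x1080040020010008004)) .nil))))))))))))))))))) (.cD (nat_lit 19) (.dfs (nat_lit 2) (nat_lit 4098) (nat_lit 4106) (nat_lit 0x1008004001) (nat_lit 0x1008004009) (nat_lit 0) (nat_lit 0) (nat_lit 3) (nat_lit 0) (nat_lit 0) (nat_lit 16) (nat_lit 1) (nat_lit 0) (nat_lit 1) (nat_lit 0) (nat_lit 1) (nat_lit 0) .nil) (.cD (nat_lit 83) (.anc (nat_lit 96) (nat_lit 0x200610010000000d00202700300c005005)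 (nat_lit 4352) (.dfs (nat_lit 256) (nat_lit 1) (nat_lit 1) (nat_lit 4097) (nat_lit 4097) (nat_lit 0) (nat_lit 0) (nat_lit 0) (nat_lit 0) (nat_lit 0) (nat_lit 0) (nat_lit 1) (nat_lit 0) (nat_lit 0x1100010008004002001) (nat_lit 0x100010008004002001) (nat_lit 0x100010000110000210000310000100800400800500800400900500900000b00400b00500b00400d00500d00502800102900502900002a00502a00502c00003800303800503800303a00503a00103b00303b00503b00303e00503e00404900504900506c00307a00507a0050a80011a00021a00031a000011000211000311000318000114000400c00500c00508800104800508d00400f00500f00508f00508900502d00502e00303c00503c0050b80000780050be00303f00503f0050bf0050ba0050cd0050fe0031340031200011e000508b0050bb) (nat_lit 0x10000000000000000000001000000000004001000000002004d00170000002b00) (.cD (nat_lit 256) (.kF (nat_lit 96) (nat_lit 0x2001001001)) (.cD (nat_lit 8) (.kb (nat_lit 8) (nat_lit 0x1002001) (nat_lit 0x1080040020008004001)) (.cD (nat_lit 9) (.kb (nat_lit 9) (nat_lit 0x1002001)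 (nat_lit 0x1080040020008004002)) (.cD (nat_lit 11) (.kb (nat_lit 11) (nat_lit 0x1002001) (nat_lit 0x1080040028004002009)) (.cD (nat_lit 13) (.kb (nat_lit 13) (nat_lit 0x1002001) (nat_lit 0x1080040020008004002)) (.cD (nat_lit 40) (.kb (nat_lit 40) (nat_lit 0x1002001) (nat_lit 0x1080040020010008004)) (.cD (nat_lit 41) (.kb (nat_lit 41) (nat_lit 0x1002001) (nat_lit 0x1080040020008004012)) (.cD (nat_lit 42) (.kb (nat_lit 42) (nat_lit 0x1002001) (nat_lit 0x1080040010028004002)) (.cD (nat_lit 44) (.kb (nat_lit 44) (nat_lit 0x1002001) (nat_lit 0x1080040020010008004)) (.cD (nat_lit 56) (.kb (nat_lit 56) (nat_lit 0x1002001) (nat_lit 0x1080040010028004002)) (.cD (nat_lit 58) (.kb (nat_lit 58) (nat_lit 0x1002001) (nat_lit 0x1080040010028004002)) (.cD (nat_lit 59) (.kb (nat_lit 59) (nat_lit 0x1002001) (nat_lit 0x1080040028004012001)) (.cD (nat_lit 62) (.kb (nat_lit 62) (nat_lit 0x1002001) (nat_lit 0x1080040010028004002)) (.cD (nat_lit 73) (.kb (nat_lit 73) (nat_lit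 0x1002001) (nat_lit 0x1080040020008004002)) (.cD (nat_lit 108) (.kb (nat_lit 108) (nat_lit 0x1002001) (nat_lit 0x1080040020010008004)) (.cD (nat_lit 122) (.kb (nat_lit 122) (nat_lit 0x1002001) (nat_lit 0x1080040010028004002)) (.cD (nat_lit 168) (.kb (nat_lit 168) (nat_lit 0x1002001) (nat_lit 0x1080040020010008004)) .nil))))))))))))))))))) .nil)))))) .nil)))))))))
theorem c665 : (chk [] [] p665).n x344 s665 = true := by decide +kernel
noncomputable def p666 : Pf := (.anz (nat_lit 64) (.anz (nat_lit 128) (.anz (nat_lit 192) (.cnt (nat_lit 0x1080040020008004001) (nat_lit 0x20010008014022029) (nat_lit 0) (nat_lit 0x10040020001) (nat_lit 0x38000028000018000008000030000020000010000000) (nat_lit 0x5000000000000000000000006000000000000000000000001000000000000000000000002000000000000000000000007000000000000000000000004000000000000000000000003000000000000000000000000) (.ext (nat_lit 2) (nat_lit 0) (nat_lit 0x1001004008020040080) (nat_lit 0x200400901a02000a001002002000004002001008020010001003)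 (nat_lit 0x2400200502c010030) (nat_lit 4098) (nat_lit 4098) (nat_lit 0x30010018014002001) (.dfs (nat_lit 2) (nat_lit 0x102400200502c010030) (nat_lit 0x102400201503c010020) (nat_lit 0x1020008004001) (nat_lit 0x1030018014001) (nat_lit 0) (nat_lit 0) (nat_lit 2) (nat_lit 2) (nat_lit 0) (nat_lit 2) (nat_lit 1) (nat_lit 0) (nat_lit 4097) (nat_lit 1) (nat_lit 0x10000020000230000420000630000820000a30000c20000e3) (nat_lit 0x800000004000000080000000400000008000000040000000800000004) (.cD (nat_lit 2) (.cnt (nat_lit 0x1080040010028004002) (nat_lit 0x20010008014022009) (nat_lit 1) (nat_lit 0x10040060001) (nat_lit 0x18000028000038000008000010000020000030000000) (nat_lit 0x7000000000000000000000006000000000000000000000003000000000000000000000002000000000000000000000005000000000000000000000004000000000000000000000001000000000000000000000000) (.ext (nat_lit 2) (nat_lit 0) (nat_lit 0x1002004028010040080) (nat_lit 0x400600501a02a00a005001001000004002001008030010005003)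 (nat_lit 0x34037005008010030) (nat_lit 4097) (nat_lit 4097) (nat_lit 0x30010008014002001) (.dfs (nat_lit 1) (nat_lit 0x1034037005008010030) (nat_lit 0x1034037015008010020) (nat_lit 0x1020004002001) (nat_lit 0x1030014002001) (nat_lit 0) (nat_lit 0) (nat_lit 2) (nat_lit 2) (nat_lit 0) (nat_lit 1) (nat_lit 1) (nat_lit 0) (nat_lit 4098) (nat_lit 2) (nat_lit 0x10000010000130000410000530000810000930000c10000d3) (nat_lit 0x80002000000000008000200000000000800020000000000080002) (.cD (nat_lit 1) (.iso x345 ⟨[([nat_lit 256, nat_lit 16, nat_lit 4, nat_lit 32, nat_lit 9, nat_lit 128, nat_lit 64], [nat_lit 256, nat_lit 112, nat_lit 100, nat_lit 80, nat_lit 9, nat_lit 128, nat_lit 192]), ([nat_lit 64, nat_lit 16, nat_lit 4, nat_lit 8, nat_lit 1, nat_lit 128, nat_lit 256], [nat_lit 64, nat_lit 408, nat_lit 4, nat_lit 400, nat_lit 17, nat_lit 128, nat_lit 384]), ([nat_lit 1, nat_lit 128, nat_lit 256, nat_lit 8, nat_lit 16, nat_lit 4, nat_lit 3], [nat_lit 9, nat_lit 384,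 nat_lit 128, nat_lit 24, nat_lit 8, nat_lit 4, nat_lit 3]), ([nat_lit 9, nat_lit 128, nat_lit 64, nat_lit 32, nat_lit 16, nat_lit 20, nat_lit 3], [nat_lit 201, nat_lit 64, nat_lit 192, nat_lit 48, nat_lit 32, nat_lit 20, nat_lit 35])], [], [], [], [], [nat_lit 4], true, false, []⟩ (nat_lit 0) (nat_lit 0x1001004002010080020040108008) (nat_lit 0x3010004008020001080040100) [(nat_lit 0x40020010008004002001001001), (nat_lit 0x40020010008004002001003001), (nat_lit 0x40020010008004002001005001), (nat_lit 0x40020010008004002001007001)] (.syr (nat_lit 4) true (nat_lit 3) (nat_lit 2) (nat_lit 6) (nat_lit 1) (nat_lit 0x1100040020002001) (nat_lit 0x100040020006001) (nat_lit 0x10020080030080000200040200000400010400000500010500010800011000021000011080021080001480011480021480030180040300010c00010d00021180021100011c80021c80021700021e0) (nat_lit 0x10000000000000001010000000000000000000000000000000100000000000100010000000100010100) (.cD (nat_lit 16) (.anc (nat_lit 16)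 (nat_lit 0x1002001) (nat_lit 4129) (.dfs (nat_lit 33) (nat_lit 1) (nat_lit 1) (nat_lit 4097) (nat_lit 4097) (nat_lit 1) (nat_lit 0) (nat_lit 0) (nat_lit 0) (nat_lit 0) (nat_lit 0) (nat_lit 1) (nat_lit 0) (nat_lit 1) (nat_lit 0) (nat_lit 1) (nat_lit 0) .nil)) (.cD (nat_lit 8) (.anc (nat_lit 16) (nat_lit 0x1002010007002) (nat_lit 4129) (.dfs (nat_lit 33) (nat_lit 1) (nat_lit 1) (nat_lit 4097) (nat_lit 4097) (nat_lit 1) (nat_lit 0) (nat_lit 0) (nat_lit 0) (nat_lit 0) (nat_lit 0) (nat_lit 1) (nat_lit 0) (nat_lit 1) (nat_lit 0) (nat_lit 1) (nat_lit 0) .nil)) (.cD (nat_lit 32) (.anc (nat_lit 16) (nat_lit 0x1002010009002) (nat_lit 4129) (.dfs (nat_lit 33) (nat_lit 1) (nat_lit 1) (nat_lit 4097) (nat_lit 4097) (nat_lit 1) (nat_lit 0) (nat_lit 0) (nat_lit 0) (nat_lit 0) (nat_lit 0) (nat_lit 1) (nat_lit 0) (nat_lit 1) (nat_lit 0) (nat_lit 1) (nat_lit 0) .nil)) (.cD (nat_lit 64) (.anc (nat_lit 128) (nat_lit 0x1002002009002) (nat_lit 4161) (.dfs (nat_lit 65) (nat_lit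 1) (nat_lit 1) (nat_lit 4097) (nat_lit 4097) (nat_lit 1) (nat_lit 0) (nat_lit 0) (nat_lit 0) (nat_lit 0) (nat_lit 0) (nat_lit 1) (nat_lit 0) (nat_lit 1) (nat_lit 0) (nat_lit 1) (nat_lit 0) .nil)) (.cD (nat_lit 80) (.anc (nat_lit 16) (nat_lit 0x1002006002000068004003) (nat_lit 4129) (.dfs (nat_lit 33) (nat_lit 1) (nat_lit 1) (nat_lit 4097) (nat_lit 4097) (nat_lit 1) (nat_lit 0) (nat_lit 0) (nat_lit 0) (nat_lit 0) (nat_lit 0) (nat_lit 1) (nat_lit 0) (nat_lit 1) (nat_lit 0) (nat_lit 1) (nat_lit 0) .nil)) (.cD (nat_lit 128) (.anc (nat_lit 128) (nat_lit 0x1002001) (nat_lit 4161) (.dfs (nat_lit 65) (nat_lit 1) (nat_lit 1) (nat_lit 4097) (nat_lit 4097) (nat_lit 1) (nat_lit 0) (nat_lit 0) (nat_lit 0) (nat_lit 0) (nat_lit 0) (nat_lit 1) (nat_lit 0) (nat_lit 1) (nat_lit 0) (nat_lit 1) (nat_lit 0) .nil)) (.cD (nat_lit 256) (.anc (nat_lit 128) (nat_lit 0x1002004008002) (nat_lit 4161) (.dfs (nat_lit 65) (nat_lit 1) (nat_lit 1) (nat_lit 4097) (nat_lit 4097) (nat_lit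 1) (nat_lit 0) (nat_lit 0) (nat_lit 0) (nat_lit 0) (nat_lit 0) (nat_lit 1) (nat_lit 0) (nat_lit 1) (nat_lit 0) (nat_lit 1) (nat_lit 0) .nil)) (.cD (nat_lit 264) (.anc (nat_lit 16) (nat_lit 0x1002048006002) (nat_lit 4129) (.dfs (nat_lit 33) (nat_lit 1) (nat_lit 1) (nat_lit 4097) (nat_lit 4097) (nat_lit 1) (nat_lit 0) (nat_lit 0) (nat_lit 0) (nat_lit 0) (nat_lit 0) (nat_lit 1) (nat_lit 0) (nat_lit 1) (nat_lit 0) (nat_lit 1) (nat_lit 0) .nil)) (.cD (nat_lit 328) (.anc (nat_lit 16) (nat_lit 0x1002069006006002000002003004) (nat_lit 4129) (.dfs (nat_lit 33) (nat_lit 1) (nat_lit 1) (nat_lit 4097) (nat_lit 4097) (nat_lit 1) (nat_lit 0) (nat_lit 0) (nat_lit 0) (nat_lit 0) (nat_lit 0) (nat_lit 1) (nat_lit 0) (nat_lit 1) (nat_lit 0) (nat_lit 1) (nat_lit 0) .nil)) .nil))))))))))) (.cD (nat_lit 19) (.anc (nat_lit 4) (nat_lit 0x68001100100000069003100100000021001002005006) (nat_lit 0x1080030002001) (.dfs (nat_lit 128) (nat_lit 1) (nat_lit 1) (nat_lit 4097) (nat_lit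 4097) (nat_lit 0) (nat_lit 0) (nat_lit 0) (nat_lit 0) (nat_lit 0) (nat_lit 0) (nat_lit 1) (nat_lit 0) (nat_lit 0x1100010008002001) (nat_lit 0x100010008002001) (nat_lit 0x10010010040010000020040020040040000100020100010130020130040130020160040160010200030200030210040210010410040410000420040420040440000500020500010530020530040530020560040560010600030600030610040610040050040060020140020170040170040970040920030240040a50040450040460020540020570040570040d70040d20030640040e50040930040d3) (nat_lit 0x1000000000000000100000003004900170000000300490016) (.cD (nat_lit 128) (.kc (nat_lit 132) (nat_lit 0x3001001)) (.cD (nat_lit 64) (.anc (nat_lit 16) (nat_lit 0x100101000a002) (nat_lit 4352) (.dfs (nat_lit 256) (nat_lit 1) (nat_lit 1) (nat_lit 4097) (nat_lit 4097) (nat_lit 0) (nat_lit 0) (nat_lit 0) (nat_lit 0) (nat_lit 0) (nat_lit 0) (nat_lit 1) (nat_lit 0) (nat_lit 0x1100010008004002001) (nat_lit 0x100010008004002001) (nat_lit 0x100010000110000210000310000100800400800500800400900500900000b00400b00500b00400d00500d00502800102900502900002a00502a00502c00003800303800503800303a00503a00103b00303b00503b00303e00503e00404900504900506c00307a00507a0050a80011a00021a00031a000011000211000311000318000114000400c00500c00508800104800508d00400f00500f00508f00508900502d00502e00303c00503c0050b80000780050be00303f00503f0050bf0050ba0050cd0050fe0031340031200011e000508b0050bb)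 (nat_lit 0x10000000000000000000001000000000004001000000002004d00170000002b00) (.cD (nat_lit 256) (.kF (nat_lit 16) (nat_lit 0x2001001001)) (.cD (nat_lit 8) (.kb (nat_lit 8) (nat_lit 0x1002001) (nat_lit 0x1080040020008004001)) (.cD (nat_lit 9) (.kb (nat_lit 9) (nat_lit 0x1002001) (nat_lit 0x1080040020008004002)) (.cD (nat_lit 11) (.kb (nat_lit 11) (nat_lit 0x1002001) (nat_lit 0x1080040028004002009)) (.cD (nat_lit 13) (.kb (nat_lit 13) (nat_lit 0x1002001) (nat_lit 0x1080040020008004002)) (.cD (nat_lit 40) (.kb (nat_lit 40) (nat_lit 0x1002001) (nat_lit 0x1080040020010008004)) (.cD (nat_lit 41) (.kb (nat_lit 41) (nat_lit 0x1002001) (nat_lit 0x1080040020008004012)) (.cD (nat_lit 42) (.kb (nat_lit 42) (nat_lit 0x1002001) (nat_lit 0x1080040010028004002)) (.cD (nat_lit 44) (.kb (nat_lit 44) (nat_lit 0x1002001) (nat_lit 0x1080040020010008004)) (.cD (nat_lit 56) (.kb (nat_lit 56) (nat_lit 0x1002001) (nat_lit 0x1080040010028004002)) (.cD (nat_lit 58) (.kb (nat_lit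 58) (nat_lit 0x1002001) (nat_lit 0x1080040010028004002)) (.cD (nat_lit 59) (.kb (nat_lit 59) (nat_lit 0x1002001) (nat_lit 0x1080040028004012001)) (.cD (nat_lit 62) (.kb (nat_lit 62) (nat_lit 0x1002001) (nat_lit 0x1080040010028004002)) (.cD (nat_lit 73) (.kb (nat_lit 73) (nat_lit 0x1002001) (nat_lit 0x1080040020008004002)) (.cD (nat_lit 108) (.kb (nat_lit 108) (nat_lit 0x1002001) (nat_lit 0x1080040020010008004)) (.cD (nat_lit 122) (.kb (nat_lit 122) (nat_lit 0x1002001) (nat_lit 0x1080040010028004002)) (.cD (nat_lit 168) (.kb (nat_lit 168) (nat_lit 0x1002001) (nat_lit 0x1080040020010008004)) .nil))))))))))))))))))) (.cD (nat_lit 192) (.anc (nat_lit 16) (nat_lit 0x300110010000000200201000a004) (nat_lit 4352) (.dfs (nat_lit 256) (nat_lit 1) (nat_lit 1) (nat_lit 4097) (nat_lit 4097) (nat_lit 0) (nat_lit 0) (nat_lit 0) (nat_lit 0) (nat_lit 0) (nat_lit 0) (nat_lit 1) (nat_lit 0) (nat_lit 0x1100010008004002001) (nat_lit 0x100010008004002001) (nat_lit 0x100010000110000210000310000100800400800500800400900500900000b00400b00500b00400d00500d00502800102900502900002a00502a00502c00003800303800503800303a00503a00103b00303b00503b00303e00503e00404900504900506c00307a00507a0050a80011a00021a00031a000011000211000311000318000114000400c00500c00508800104800508d00400f00500f00508f00508900502d00502e00303c00503c0050b80000780050be00303f00503f0050bf0050ba0050cd0050fe0031340031200011e000508b0050bb)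 (nat_lit 0x10000000000000000000001000000000004001000000002004d00170000002b00) (.cD (nat_lit 256) (.kF (nat_lit 16) (nat_lit 0x2001001001)) (.cD (nat_lit 8) (.kb (nat_lit 8) (nat_lit 0x1002001) (nat_lit 0x1080040020008004001)) (.cD (nat_lit 9) (.kb (nat_lit 9) (nat_lit 0x1002001) (nat_lit 0x1080040020008004002)) (.cD (nat_lit 11) (.kb (nat_lit 11) (nat_lit 0x1002001) (nat_lit 0x1080040028004002009)) (.cD (nat_lit 13) (.kb (nat_lit 13) (nat_lit 0x1002001) (nat_lit 0x1080040020008004002)) (.cD (nat_lit 40) (.kb (nat_lit 40) (nat_lit 0x1002001) (nat_lit 0x1080040020010008004)) (.cD (nat_lit 41) (.kb (nat_lit 41) (nat_lit 0x1002001) (nat_lit 0x1080040020008004012)) (.cD (nat_lit 42) (.kb (nat_lit 42) (nat_lit 0x1002001) (nat_lit 0x1080040010028004002)) (.cD (nat_lit 44) (.kb (nat_lit 44) (nat_lit 0x1002001) (nat_lit 0x1080040020010008004)) (.cD (nat_lit 56) (.kb (nat_lit 56) (nat_lit 0x1002001) (nat_lit 0x1080040010028004002)) (.cD (nat_lit 58) (.kb (nat_lit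 58) (nat_lit 0x1002001) (nat_lit 0x1080040010028004002)) (.cD (nat_lit 59) (.kb (nat_lit 59) (nat_lit 0x1002001) (nat_lit 0x1080040028004012001)) (.cD (nat_lit 62) (.kb (nat_lit 62) (nat_lit 0x1002001) (nat_lit 0x1080040010028004002)) (.cD (nat_lit 73) (.kb (nat_lit 73) (nat_lit 0x1002001) (nat_lit 0x1080040020008004002)) (.cD (nat_lit 108) (.kb (nat_lit 108) (nat_lit 0x1002001) (nat_lit 0x1080040020010008004)) (.cD (nat_lit 122) (.kb (nat_lit 122) (nat_lit 0x1002001) (nat_lit 0x1080040010028004002)) (.cD (nat_lit 168) (.kb (nat_lit 168) (nat_lit 0x1002001) (nat_lit 0x1080040020010008004)) .nil))))))))))))))))))) (.cD (nat_lit 1) (.czs (nat_lit 129) z23 (nat_lit 128) (.dfs (nat_lit 48) (nat_lit 4099) (nat_lit 4099) (nat_lit 0x1002001) (nat_lit 0x1002001) (nat_lit 1) (nat_lit 0) (nat_lit 3) (nat_lit 0) (nat_lit 0) (nat_lit 0) (nat_lit 1) (nat_lit 0) (nat_lit 1) (nat_lit 0) (nat_lit 1) (nat_lit 0) .nil)) (.cD (nat_lit 2) (.czs (nat_lit 130) z22 (nat_lit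 128) (.dfs (nat_lit 48) (nat_lit 4099) (nat_lit 4099) (nat_lit 0x1002001) (nat_lit 0x1002001) (nat_lit 1) (nat_lit 0) (nat_lit 3) (nat_lit 0) (nat_lit 0) (nat_lit 0) (nat_lit 1) (nat_lit 0) (nat_lit 1) (nat_lit 0) (nat_lit 1) (nat_lit 0) .nil)) (.cD (nat_lit 4) (.cut (nat_lit 1)) (.cD (nat_lit 16) (.czs (nat_lit 144) z9 (nat_lit 128) (.dfs (nat_lit 48) (nat_lit 4099) (nat_lit 4099) (nat_lit 0x1002001) (nat_lit 0x1002001) (nat_lit 1) (nat_lit 0) (nat_lit 3) (nat_lit 0) (nat_lit 0) (nat_lit 0) (nat_lit 1) (nat_lit 0) (nat_lit 1) (nat_lit 0) (nat_lit 1) (nat_lit 0) .nil)) (.cD (nat_lit 19) (.czs (nat_lit 147) z19 (nat_lit 64) (.dfs (nat_lit 48) (nat_lit 4099) (nat_lit 4099) (nat_lit 0x1002001) (nat_lit 0x1002001) (nat_lit 1) (nat_lit 0) (nat_lit 3) (nat_lit 0) (nat_lit 0) (nat_lit 0) (nat_lit 1) (nat_lit 0) (nat_lit 1) (nat_lit 0) (nat_lit 1) (nat_lit 0) .nil)) (.cD (nat_lit 22) (.czs (nat_lit 150) z18 (nat_lit 128) (.dfs (nat_lit 48) (nat_lit 4099) (nat_lit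 4099) (nat_lit 0x1002001) (nat_lit 0x1002001) (nat_lit 1) (nat_lit 0) (nat_lit 3) (nat_lit 0) (nat_lit 0) (nat_lit 0) (nat_lit 1) (nat_lit 0) (nat_lit 1) (nat_lit 0) (nat_lit 1) (nat_lit 0) .nil)) (.cD (nat_lit 32) (.czs (nat_lit 160) z8 (nat_lit 128) (.dfs (nat_lit 48) (nat_lit 4099) (nat_lit 4099) (nat_lit 0x1002001) (nat_lit 0x1002001) (nat_lit 1) (nat_lit 0) (nat_lit 3) (nat_lit 0) (nat_lit 0) (nat_lit 0) (nat_lit 1) (nat_lit 0) (nat_lit 1) (nat_lit 0) (nat_lit 1) (nat_lit 0) .nil)) (.cD (nat_lit 33) (.czs (nat_lit 161) z17 (nat_lit 128) (.dfs (nat_lit 48) (nat_lit 4099) (nat_lit 4099) (nat_lit 0x1002001) (nat_lit 0x1002001) (nat_lit 1) (nat_lit 0) (nat_lit 3) (nat_lit 0) (nat_lit 0) (nat_lit 0) (nat_lit 1) (nat_lit 0) (nat_lit 1) (nat_lit 0) (nat_lit 1) (nat_lit 0) .nil)) (.cD (nat_lit 65) (.anc (nat_lit 96) (nat_lit 0x200110010000000300202c005002002000005) (nat_lit 4352) (.dfs (nat_lit 256) (nat_lit 1) (nat_lit 1) (nat_lit 4097) (nat_lit 4097) (nat_lit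 0) (nat_lit 0) (nat_lit 0) (nat_lit 0) (nat_lit 0) (nat_lit 0) (nat_lit 1) (nat_lit 0) (nat_lit 0x1100010008004002001) (nat_lit 0x100010008004002001) (nat_lit 0x100010000110000210000310000100800400800500800400900500900000b00400b00500b00400d00500d00502800102900502900002a00502a00502c00003800303800503800303a00503a00103b00303b00503b00303e00503e00404900504900506c00307a00507a0050a80011a00021a00031a000011000211000311000318000114000400c00500c00508800104800508d00400f00500f00508f00508900502d00502e00303c00503c0050b80000780050be00303f00503f0050bf0050ba0050cd0050fe0031340031200011e000508b0050bb) (nat_lit 0x10000000000000000000001000000000004001000000002004d00170000002b00) (.cD (nat_lit 256) (.kF (nat_lit 96) (nat_lit 0x2001001001)) (.cD (nat_lit 8) (.kb (nat_lit 8) (nat_lit 0x1002001) (nat_lit 0x1080040020008004001)) (.cD (nat_lit 9) (.kb (nat_lit 9) (nat_lit 0x1002001) (nat_lit 0x1080040020008004002)) (.cD (nat_lit 11) (.kb (nat_lit 11) (nat_lit 0x1002001) (nat_lit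 0x1080040028004002009)) (.cD (nat_lit 13) (.kb (nat_lit 13) (nat_lit 0x1002001) (nat_lit 0x1080040020008004002)) (.cD (nat_lit 40) (.kb (nat_lit 40) (nat_lit 0x1002001) (nat_lit 0x1080040020010008004)) (.cD (nat_lit 41) (.kb (nat_lit 41) (nat_lit 0x1002001) (nat_lit 0x1080040020008004012)) (.cD (nat_lit 42) (.kb (nat_lit 42) (nat_lit 0x1002001) (nat_lit 0x1080040010028004002)) (.cD (nat_lit 44) (.kb (nat_lit 44) (nat_lit 0x1002001) (nat_lit 0x1080040020010008004)) (.cD (nat_lit 56) (.kb (nat_lit 56) (nat_lit 0x1002001) (nat_lit 0x1080040010028004002)) (.cD (nat_lit 58) (.kb (nat_lit 58) (nat_lit 0x1002001) (nat_lit 0x1080040010028004002)) (.cD (nat_lit 59) (.kb (nat_lit 59) (nat_lit 0x1002001) (nat_lit 0x1080040028004012001)) (.cD (nat_lit 62) (.kb (nat_lit 62) (nat_lit 0x1002001) (nat_lit 0x1080040010028004002)) (.cD (nat_lit 73) (.kb (nat_lit 73) (nat_lit 0x1002001) (nat_lit 0x1080040020008004002)) (.cD (nat_lit 108) (.kb (nat_lit 108) (nat_lit 0x1002001)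 (nat_lit 0x1080040020010008004)) (.cD (nat_lit 122) (.kb (nat_lit 122) (nat_lit 0x1002001) (nat_lit 0x1080040010028004002)) (.cD (nat_lit 168) (.kb (nat_lit 168) (nat_lit 0x1002001) (nat_lit 0x1080040020010008004)) .nil))))))))))))))))))) (.cD (nat_lit 66) (.anc (nat_lit 16) (nat_lit 0x400410010000000100101000a004) (nat_lit 4352) (.dfs (nat_lit 256) (nat_lit 1) (nat_lit 1) (nat_lit 4097) (nat_lit 4097) (nat_lit 0) (nat_lit 0) (nat_lit 0) (nat_lit 0) (nat_lit 0) (nat_lit 0) (nat_lit 1) (nat_lit 0) (nat_lit 0x1100010008004002001) (nat_lit 0x100010008004002001) (nat_lit 0x100010000110000210000310000100800400800500800400900500900000b00400b00500b00400d00500d00502800102900502900002a00502a00502c00003800303800503800303a00503a00103b00303b00503b00303e00503e00404900504900506c00307a00507a0050a80011a00021a00031a000011000211000311000318000114000400c00500c00508800104800508d00400f00500f00508f00508900502d00502e00303c00503c0050b80000780050be00303f00503f0050bf0050ba0050cd0050fe0031340031200011e000508b0050bb)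 (nat_lit 0x10000000000000000000001000000000004001000000002004d00170000002b00) (.cD (nat_lit 256) (.kF (nat_lit 16) (nat_lit 0x2001001001)) (.cD (nat_lit 8) (.kb (nat_lit 8) (nat_lit 0x1002001) (nat_lit 0x1080040020008004001)) (.cD (nat_lit 9) (.kb (nat_lit 9) (nat_lit 0x1002001) (nat_lit 0x1080040020008004002)) (.cD (nat_lit 11) (.kb (nat_lit 11) (nat_lit 0x1002001) (nat_lit 0x1080040028004002009)) (.cD (nat_lit 13) (.kb (nat_lit 13) (nat_lit 0x1002001) (nat_lit 0x1080040020008004002)) (.cD (nat_lit 40) (.kb (nat_lit 40) (nat_lit 0x1002001) (nat_lit 0x1080040020010008004)) (.cD (nat_lit 41) (.kb (nat_lit 41) (nat_lit 0x1002001) (nat_lit 0x1080040020008004012)) (.cD (nat_lit 42) (.kb (nat_lit 42) (nat_lit 0x1002001) (nat_lit 0x1080040010028004002)) (.cD (nat_lit 44) (.kb (nat_lit 44) (nat_lit 0x1002001) (nat_lit 0x1080040020010008004)) (.cD (nat_lit 56) (.kb (nat_lit 56) (nat_lit 0x1002001) (nat_lit 0x1080040010028004002)) (.cD (nat_lit 58) (.kb (nat_lit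 58) (nat_lit 0x1002001) (nat_lit 0x1080040010028004002)) (.cD (nat_lit 59) (.kb (nat_lit 59) (nat_lit 0x1002001) (nat_lit 0x1080040028004012001)) (.cD (nat_lit 62) (.kb (nat_lit 62) (nat_lit 0x1002001) (nat_lit 0x1080040010028004002)) (.cD (nat_lit 73) (.kb (nat_lit 73) (nat_lit 0x1002001) (nat_lit 0x1080040020008004002)) (.cD (nat_lit 108) (.kb (nat_lit 108) (nat_lit 0x1002001) (nat_lit 0x1080040020010008004)) (.cD (nat_lit 122) (.kb (nat_lit 122) (nat_lit 0x1002001) (nat_lit 0x1080040010028004002)) (.cD (nat_lit 168) (.kb (nat_lit 168) (nat_lit 0x1002001) (nat_lit 0x1080040020010008004)) .nil))))))))))))))))))) (.cD (nat_lit 68) (.anc (nat_lit 96) (nat_lit 0x100204e00310010000000700610010000002700300c005007) (nat_lit 4352) (.dfs (nat_lit 256) (nat_lit 1) (nat_lit 1) (nat_lit 4097) (nat_lit 4097) (nat_lit 0) (nat_lit 0) (nat_lit 0) (nat_lit 0) (nat_lit 0) (nat_lit 0) (nat_lit 1) (nat_lit 0) (nat_lit 0x1100010008004002001) (nat_lit 0x100010008004002001)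 (nat_lit 0x100010000110000210000310000100800400800500800400900500900000b00400b00500b00400d00500d00502800102900502900002a00502a00502c00003800303800503800303a00503a00103b00303b00503b00303e00503e00404900504900506c00307a00507a0050a80011a00021a00031a000011000211000311000318000114000400c00500c00508800104800508d00400f00500f00508f00508900502d00502e00303c00503c0050b80000780050be00303f00503f0050bf0050ba0050cd0050fe0031340031200011e000508b0050bb) (nat_lit 0x10000000000000000000001000000000004001000000002004d00170000002b00) (.cD (nat_lit 256) (.kF (nat_lit 96) (nat_lit 0x2001001001)) (.cD (nat_lit 8) (.kb (nat_lit 8) (nat_lit 0x1002001) (nat_lit 0x1080040020008004001)) (.cD (nat_lit 9) (.kb (nat_lit 9) (nat_lit 0x1002001) (nat_lit 0x1080040020008004002)) (.cD (nat_lit 11) (.kb (nat_lit 11) (nat_lit 0x1002001) (nat_lit 0x1080040028004002009)) (.cD (nat_lit 13) (.kb (nat_lit 13) (nat_lit 0x1002001) (nat_lit 0x1080040020008004002)) (.cD (nat_lit 40) (.kb (nat_lit 40)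 (nat_lit 0x1002001) (nat_lit 0x1080040020010008004)) (.cD (nat_lit 41) (.kb (nat_lit 41) (nat_lit 0x1002001) (nat_lit 0x1080040020008004012)) (.cD (nat_lit 42) (.kb (nat_lit 42) (nat_lit 0x1002001) (nat_lit 0x1080040010028004002)) (.cD (nat_lit 44) (.kb (nat_lit 44) (nat_lit 0x1002001) (nat_lit 0x1080040020010008004)) (.cD (nat_lit 56) (.kb (nat_lit 56) (nat_lit 0x1002001) (nat_lit 0x1080040010028004002)) (.cD (nat_lit 58) (.kb (nat_lit 58) (nat_lit 0x1002001) (nat_lit 0x1080040010028004002)) (.cD (nat_lit 59) (.kb (nat_lit 59) (nat_lit 0x1002001) (nat_lit 0x1080040028004012001)) (.cD (nat_lit 62) (.kb (nat_lit 62) (nat_lit 0x1002001) (nat_lit 0x1080040010028004002)) (.cD (nat_lit 73) (.kb (nat_lit 73) (nat_lit 0x1002001) (nat_lit 0x1080040020008004002)) (.cD (nat_lit 108) (.kb (nat_lit 108) (nat_lit 0x1002001) (nat_lit 0x1080040020010008004)) (.cD (nat_lit 122) (.kb (nat_lit 122) (nat_lit 0x1002001) (nat_lit 0x1080040010028004002)) (.cD (nat_lit 168)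 (.kb (nat_lit 168) (nat_lit 0x1002001) (nat_lit 0x1080040020010008004)) .nil))))))))))))))))))) (.cD (nat_lit 80) (.anc (nat_lit 16) (nat_lit 0x3800900100101000a003) (nat_lit 4352) (.dfs (nat_lit 256) (nat_lit 1) (nat_lit 1) (nat_lit 4097) (nat_lit 4097) (nat_lit 0) (nat_lit 0) (nat_lit 0) (nat_lit 0) (nat_lit 0) (nat_lit 0) (nat_lit 1) (nat_lit 0) (nat_lit 0x1100010008004002001) (nat_lit 0x100010008004002001) (nat_lit 0x100010000110000210000310000100800400800500800400900500900000b00400b00500b00400d00500d00502800102900502900002a00502a00502c00003800303800503800303a00503a00103b00303b00503b00303e00503e00404900504900506c00307a00507a0050a80011a00021a00031a000011000211000311000318000114000400c00500c00508800104800508d00400f00500f00508f00508900502d00502e00303c00503c0050b80000780050be00303f00503f0050bf0050ba0050cd0050fe0031340031200011e000508b0050bb) (nat_lit 0x10000000000000000000001000000000004001000000002004d00170000002b00) (.cD (nat_lit 256) (.kF (nat_lit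 16) (nat_lit 0x2001001001)) (.cD (nat_lit 8) (.kb (nat_lit 8) (nat_lit 0x1002001) (nat_lit 0x1080040020008004001)) (.cD (nat_lit 9) (.kb (nat_lit 9) (nat_lit 0x1002001) (nat_lit 0x1080040020008004002)) (.cD (nat_lit 11) (.kb (nat_lit 11) (nat_lit 0x1002001) (nat_lit 0x1080040028004002009)) (.cD (nat_lit 13) (.kb (nat_lit 13) (nat_lit 0x1002001) (nat_lit 0x1080040020008004002)) (.cD (nat_lit 40) (.kb (nat_lit 40) (nat_lit 0x1002001) (nat_lit 0x1080040020010008004)) (.cD (nat_lit 41) (.kb (nat_lit 41) (nat_lit 0x1002001) (nat_lit 0x1080040020008004012)) (.cD (nat_lit 42) (.kb (nat_lit 42) (nat_lit 0x1002001) (nat_lit 0x1080040010028004002)) (.cD (nat_lit 44) (.kb (nat_lit 44) (nat_lit 0x1002001) (nat_lit 0x1080040020010008004)) (.cD (nat_lit 56) (.kb (nat_lit 56) (nat_lit 0x1002001) (nat_lit 0x1080040010028004002)) (.cD (nat_lit 58) (.kb (nat_lit 58) (nat_lit 0x1002001) (nat_lit 0x1080040010028004002)) (.cD (nat_lit 59) (.kb (nat_lit 59) (nat_lit 0x1002001)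 (nat_lit 0x1080040028004012001)) (.cD (nat_lit 62) (.kb (nat_lit 62) (nat_lit 0x1002001) (nat_lit 0x1080040010028004002)) (.cD (nat_lit 73) (.kb (nat_lit 73) (nat_lit 0x1002001) (nat_lit 0x1080040020008004002)) (.cD (nat_lit 108) (.kb (nat_lit 108) (nat_lit 0x1002001) (nat_lit 0x1080040020010008004)) (.cD (nat_lit 122) (.kb (nat_lit 122) (nat_lit 0x1002001) (nat_lit 0x1080040010028004002)) (.cD (nat_lit 168) (.kb (nat_lit 168) (nat_lit 0x1002001) (nat_lit 0x1080040020010008004)) .nil))))))))))))))))))) (.cD (nat_lit 83) (.anc (nat_lit 96) (nat_lit 0x100204d00400c005003) (nat_lit 4352) (.dfs (nat_lit 256) (nat_lit 1) (nat_lit 1) (nat_lit 4097) (nat_lit 4097) (nat_lit 0) (nat_lit 0) (nat_lit 0) (nat_lit 0) (nat_lit 0) (nat_lit 0) (nat_lit 1) (nat_lit 0) (nat_lit 0x1100010008004002001) (nat_lit 0x100010008004002001) (nat_lit 0x100010000110000210000310000100800400800500800400900500900000b00400b00500b00400d00500d00502800102900502900002a00502a00502c00003800303800503800303a00503a00103b00303b00503b00303e00503e00404900504900506c00307a00507a0050a80011a00021a00031a000011000211000311000318000114000400c00500c00508800104800508d00400f00500f00508f00508900502d00502e00303c00503c0050b80000780050be00303f00503f0050bf0050ba0050cd0050fe0031340031200011e000508b0050bb)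 (nat_lit 0x10000000000000000000001000000000004001000000002004d00170000002b00) (.cD (nat_lit 256) (.kF (nat_lit 96) (nat_lit 0x2001001001)) (.cD (nat_lit 8) (.kb (nat_lit 8) (nat_lit 0x1002001) (nat_lit 0x1080040020008004001)) (.cD (nat_lit 9) (.kb (nat_lit 9) (nat_lit 0x1002001) (nat_lit 0x1080040020008004002)) (.cD (nat_lit 11) (.kb (nat_lit 11) (nat_lit 0x1002001) (nat_lit 0x1080040028004002009)) (.cD (nat_lit 13) (.kb (nat_lit 13) (nat_lit 0x1002001) (nat_lit 0x1080040020008004002)) (.cD (nat_lit 40) (.kb (nat_lit 40) (nat_lit 0x1002001) (nat_lit 0x1080040020010008004)) (.cD (nat_lit 41) (.kb (nat_lit 41) (nat_lit 0x1002001) (nat_lit 0x1080040020008004012)) (.cD (nat_lit 42) (.kb (nat_lit 42) (nat_lit 0x1002001) (nat_lit 0x1080040010028004002)) (.cD (nat_lit 44) (.kb (nat_lit 44) (nat_lit 0x1002001) (nat_lit 0x1080040020010008004)) (.cD (nat_lit 56) (.kb (nat_lit 56) (nat_lit 0x1002001) (nat_lit 0x1080040010028004002)) (.cD (nat_lit 58) (.kb (nat_lit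 58) (nat_lit 0x1002001) (nat_lit 0x1080040010028004002)) (.cD (nat_lit 59) (.kb (nat_lit 59) (nat_lit 0x1002001) (nat_lit 0x1080040028004012001)) (.cD (nat_lit 62) (.kb (nat_lit 62) (nat_lit 0x1002001) (nat_lit 0x1080040010028004002)) (.cD (nat_lit 73) (.kb (nat_lit 73) (nat_lit 0x1002001) (nat_lit 0x1080040020008004002)) (.cD (nat_lit 108) (.kb (nat_lit 108) (nat_lit 0x1002001) (nat_lit 0x1080040020010008004)) (.cD (nat_lit 122) (.kb (nat_lit 122) (nat_lit 0x1002001) (nat_lit 0x1080040010028004002)) (.cD (nat_lit 168) (.kb (nat_lit 168) (nat_lit 0x1002001) (nat_lit 0x1080040020010008004)) .nil))))))))))))))))))) (.cD (nat_lit 86) (.anc (nat_lit 16) (nat_lit 0x6e00300300110010000000200201000a005) (nat_lit 4352) (.dfs (nat_lit 256) (nat_lit 1) (nat_lit 1) (nat_lit 4097) (nat_lit 4097) (nat_lit 0) (nat_lit 0) (nat_lit 0) (nat_lit 0) (nat_lit 0) (nat_lit 0) (nat_lit 1) (nat_lit 0) (nat_lit 0x1100010008004002001) (nat_lit 0x100010008004002001) (nat_lit 0x100010000110000210000310000100800400800500800400900500900000b00400b00500b00400d00500d00502800102900502900002a00502a00502c00003800303800503800303a00503a00103b00303b00503b00303e00503e00404900504900506c00307a00507a0050a80011a00021a00031a000011000211000311000318000114000400c00500c00508800104800508d00400f00500f00508f00508900502d00502e00303c00503c0050b80000780050be00303f00503f0050bf0050ba0050cd0050fe0031340031200011e000508b0050bb)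 (nat_lit 0x10000000000000000000001000000000004001000000002004d00170000002b00) (.cD (nat_lit 256) (.kF (nat_lit 16) (nat_lit 0x2001001001)) (.cD (nat_lit 8) (.kb (nat_lit 8) (nat_lit 0x1002001) (nat_lit 0x1080040020008004001)) (.cD (nat_lit 9) (.kb (nat_lit 9) (nat_lit 0x1002001) (nat_lit 0x1080040020008004002)) (.cD (nat_lit 11) (.kb (nat_lit 11) (nat_lit 0x1002001) (nat_lit 0x1080040028004002009)) (.cD (nat_lit 13) (.kb (nat_lit 13) (nat_lit 0x1002001) (nat_lit 0x1080040020008004002)) (.cD (nat_lit 40) (.kb (nat_lit 40) (nat_lit 0x1002001) (nat_lit 0x1080040020010008004)) (.cD (nat_lit 41) (.kb (nat_lit 41) (nat_lit 0x1002001) (nat_lit 0x1080040020008004012)) (.cD (nat_lit 42) (.kb (nat_lit 42) (nat_lit 0x1002001) (nat_lit 0x1080040010028004002)) (.cD (nat_lit 44) (.kb (nat_lit 44) (nat_lit 0x1002001) (nat_lit 0x1080040020010008004)) (.cD (nat_lit 56) (.kb (nat_lit 56) (nat_lit 0x1002001) (nat_lit 0x1080040010028004002)) (.cD (nat_lit 58) (.kb (nat_lit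 58) (nat_lit 0x1002001) (nat_lit 0x1080040010028004002)) (.cD (nat_lit 59) (.kb (nat_lit 59) (nat_lit 0x1002001) (nat_lit 0x1080040028004012001)) (.cD (nat_lit 62) (.kb (nat_lit 62) (nat_lit 0x1002001) (nat_lit 0x1080040010028004002)) (.cD (nat_lit 73) (.kb (nat_lit 73) (nat_lit 0x1002001) (nat_lit 0x1080040020008004002)) (.cD (nat_lit 108) (.kb (nat_lit 108) (nat_lit 0x1002001) (nat_lit 0x1080040020010008004)) (.cD (nat_lit 122) (.kb (nat_lit 122) (nat_lit 0x1002001) (nat_lit 0x1080040010028004002)) (.cD (nat_lit 168) (.kb (nat_lit 168) (nat_lit 0x1002001) (nat_lit 0x1080040020010008004)) .nil))))))))))))))))))) (.cD (nat_lit 96) (.anc (nat_lit 96) (nat_lit 0x1002001) (nat_lit 4352) (.dfs (nat_lit 256) (nat_lit 1) (nat_lit 1) (nat_lit 4097) (nat_lit 4097) (nat_lit 0) (nat_lit 0) (nat_lit 0) (nat_lit 0) (nat_lit 0) (nat_lit 0) (nat_lit 1) (nat_lit 0) (nat_lit 0x1100010008004002001) (nat_lit 0x100010008004002001) (nat_lit 0x100010000110000210000310000100800400800500800400900500900000b00400b00500b00400d00500d00502800102900502900002a00502a00502c00003800303800503800303a00503a00103b00303b00503b00303e00503e00404900504900506c00307a00507a0050a80011a00021a00031a000011000211000311000318000114000400c00500c00508800104800508d00400f00500f00508f00508900502d00502e00303c00503c0050b80000780050be00303f00503f0050bf0050ba0050cd0050fe0031340031200011e000508b0050bb)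 (nat_lit 0x10000000000000000000001000000000004001000000002004d00170000002b00) (.cD (nat_lit 256) (.kF (nat_lit 96) (nat_lit 0x2001001001)) (.cD (nat_lit 8) (.kb (nat_lit 8) (nat_lit 0x1002001) (nat_lit 0x1080040020008004001)) (.cD (nat_lit 9) (.kb (nat_lit 9) (nat_lit 0x1002001) (nat_lit 0x1080040020008004002)) (.cD (nat_lit 11) (.kb (nat_lit 11) (nat_lit 0x1002001) (nat_lit 0x1080040028004002009)) (.cD (nat_lit 13) (.kb (nat_lit 13) (nat_lit 0x1002001) (nat_lit 0x1080040020008004002)) (.cD (nat_lit 40) (.kb (nat_lit 40) (nat_lit 0x1002001) (nat_lit 0x1080040020010008004)) (.cD (nat_lit 41) (.kb (nat_lit 41) (nat_lit 0x1002001) (nat_lit 0x1080040020008004012)) (.cD (nat_lit 42) (.kb (nat_lit 42) (nat_lit 0x1002001) (nat_lit 0x1080040010028004002)) (.cD (nat_lit 44) (.kb (nat_lit 44) (nat_lit 0x1002001) (nat_lit 0x1080040020010008004)) (.cD (nat_lit 56) (.kb (nat_lit 56) (nat_lit 0x1002001) (nat_lit 0x1080040010028004002)) (.cD (nat_lit 58) (.kb (nat_lit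 58) (nat_lit 0x1002001) (nat_lit 0x1080040010028004002)) (.cD (nat_lit 59) (.kb (nat_lit 59) (nat_lit 0x1002001) (nat_lit 0x1080040028004012001)) (.cD (nat_lit 62) (.kb (nat_lit 62) (nat_lit 0x1002001) (nat_lit 0x1080040010028004002)) (.cD (nat_lit 73) (.kb (nat_lit 73) (nat_lit 0x1002001) (nat_lit 0x1080040020008004002)) (.cD (nat_lit 108) (.kb (nat_lit 108) (nat_lit 0x1002001) (nat_lit 0x1080040020010008004)) (.cD (nat_lit 122) (.kb (nat_lit 122) (nat_lit 0x1002001) (nat_lit 0x1080040010028004002)) (.cD (nat_lit 168) (.kb (nat_lit 168) (nat_lit 0x1002001) (nat_lit 0x1080040020010008004)) .nil))))))))))))))))))) (.cD (nat_lit 97) (.anc (nat_lit 96) (nat_lit 0x100203600700c005003) (nat_lit 4352) (.dfs (nat_lit 256) (nat_lit 1) (nat_lit 1) (nat_lit 4097) (nat_lit 4097) (nat_lit 0) (nat_lit 0) (nat_lit 0) (nat_lit 0) (nat_lit 0) (nat_lit 0) (nat_lit 1) (nat_lit 0) (nat_lit 0x1100010008004002001) (nat_lit 0x100010008004002001) (nat_lit 0x100010000110000210000310000100800400800500800400900500900000b00400b00500b00400d00500d00502800102900502900002a00502a00502c00003800303800503800303a00503a00103b00303b00503b00303e00503e00404900504900506c00307a00507a0050a80011a00021a00031a000011000211000311000318000114000400c00500c00508800104800508d00400f00500f00508f00508900502d00502e00303c00503c0050b80000780050be00303f00503f0050bf0050ba0050cd0050fe0031340031200011e000508b0050bb)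 (nat_lit 0x10000000000000000000001000000000004001000000002004d00170000002b00) (.cD (nat_lit 256) (.kF (nat_lit 96) (nat_lit 0x2001001001)) (.cD (nat_lit 8) (.kb (nat_lit 8) (nat_lit 0x1002001) (nat_lit 0x1080040020008004001)) (.cD (nat_lit 9) (.kb (nat_lit 9) (nat_lit 0x1002001) (nat_lit 0x1080040020008004002)) (.cD (nat_lit 11) (.kb (nat_lit 11) (nat_lit 0x1002001) (nat_lit 0x1080040028004002009)) (.cD (nat_lit 13) (.kb (nat_lit 13) (nat_lit 0x1002001) (nat_lit 0x1080040020008004002)) (.cD (nat_lit 40) (.kb (nat_lit 40) (nat_lit 0x1002001) (nat_lit 0x1080040020010008004)) (.cD (nat_lit 41) (.kb (nat_lit 41) (nat_lit 0x1002001) (nat_lit 0x1080040020008004012)) (.cD (nat_lit 42) (.kb (nat_lit 42) (nat_lit 0x1002001) (nat_lit 0x1080040010028004002)) (.cD (nat_lit 44) (.kb (nat_lit 44) (nat_lit 0x1002001) (nat_lit 0x1080040020010008004)) (.cD (nat_lit 56) (.kb (nat_lit 56) (nat_lit 0x1002001) (nat_lit 0x1080040010028004002)) (.cD (nat_lit 58) (.kb (nat_lit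 58) (nat_lit 0x1002001) (nat_lit 0x1080040010028004002)) (.cD (nat_lit 59) (.kb (nat_lit 59) (nat_lit 0x1002001) (nat_lit 0x1080040028004012001)) (.cD (nat_lit 62) (.kb (nat_lit 62) (nat_lit 0x1002001) (nat_lit 0x1080040010028004002)) (.cD (nat_lit 73) (.kb (nat_lit 73) (nat_lit 0x1002001) (nat_lit 0x1080040020008004002)) (.cD (nat_lit 108) (.kb (nat_lit 108) (nat_lit 0x1002001) (nat_lit 0x1080040020010008004)) (.cD (nat_lit 122) (.kb (nat_lit 122) (nat_lit 0x1002001) (nat_lit 0x1080040010028004002)) (.cD (nat_lit 168) (.kb (nat_lit 168) (nat_lit 0x1002001) (nat_lit 0x1080040020010008004)) .nil))))))))))))))))))) .nil))))))))))))))))))))) (.cD (nat_lit 65) (.kS (nat_lit 2) (nat_lit 0x6806e062010020040002008008000002) (nat_lit 4311) (nat_lit 0x2001000a004002003) (nat_lit 0x800800000200400801002004000100100800800006806e06201002004006f001004)) (.cD (nat_lit 83) (.kS (nat_lit 2) (nat_lit 0x6806e062010020040002008008000002) (nat_lit 4161) (nat_lit 0x2001000a004002003)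 (nat_lit 0x800800000200400801002004000100100800800006806e062010020040005001004)) (.cD (nat_lit 129) (.kS (nat_lit 2) (nat_lit 0x6806e062010020040002008008000002) (nat_lit 4119) (nat_lit 0x2001000a004002003) (nat_lit 0x800800000200400801002004000100100800800006806e062010020040069001004)) (.cD (nat_lit 147) (.kS (nat_lit 2) (nat_lit 0x6806e062010020040002008008000002) (nat_lit 4225) (nat_lit 0x2001000a004002003) (nat_lit 0x800800000200400801002004000100100800800006806e062010020040003001004)) (.cD (nat_lit 193) (.kS (nat_lit 2) (nat_lit 0x6806e02a010020040002001001000002) (nat_lit 4289) (nat_lit 0x2001000a004002003) (nat_lit 0x4a04c04201002006000700100200400801002004000100100100100006806e02a010020040007001004)) (.cD (nat_lit 211) (.kS (nat_lit 2) (nat_lit 0x6806e02a010020040002001001000002) (nat_lit 4183) (nat_lit 0x2001000a004002003) (nat_lit 0x4a04c04201002006004f00100200400801002004000100100100100006806e02a01002004006d001004)) .nil))))))))))) (.cD (nat_lit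 35) (.cut (nat_lit 0)) (.cD (nat_lit 66) (.kS (nat_lit 2) (nat_lit 0x4800402a078020040002002002000002) (nat_lit 4162) (nat_lit 0x2001000a006002003) (nat_lit 0x6a00406201202006000500100200400801002004000100100200200004800402a078020040005001004)) (.cD (nat_lit 99) (.kS (nat_lit 2) (nat_lit 0x4800402a078020040002002002000002) (nat_lit 4327) (nat_lit 0x2001000a006002003) (nat_lit 0x6a00406201202006006d00100200400801002004000100100200200004800402a07802004004f001004)) (.cD (nat_lit 130) (.kS (nat_lit 2) (nat_lit 0x48004042010020040002010010000002) (nat_lit 4135) (nat_lit 0x2001000a006002003) (nat_lit 0x10010000002004008010020040001001010010000048004042010020040049001004)) (.cD (nat_lit 163) (.kS (nat_lit 2) (nat_lit 0x48004042010020040002010010000002) (nat_lit 4226) (nat_lit 0x2001000a006002003) (nat_lit 0x10010000002004008010020040001001010010000048004042010020040003001004)) (.cD (nat_lit 194) (.kS (nat_lit 2) (nat_lit 0x48004042010020040002010010000002) (nat_lit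 4199) (nat_lit 0x2001000a006002003) (nat_lit 0x1001000000200400801002004000100101001000004800404201002004004d001004)) (.cD (nat_lit 227) (.kS (nat_lit 2) (nat_lit 0x48004042010020040002010010000002) (nat_lit 4290) (nat_lit 0x2001000a006002003) (nat_lit 0x10010000002004008010020040001001010010000048004042010020040007001004)) .nil))))))))))))))
theorem c666 : (chk [(x344, s664), (x344, s665)] [g75] p666).n x344 s666 = true := by decide +kernel
noncomputable def p667 : Pf := (.clm (.cut (nat_lit 0)) (.dfs (nat_lit 256) (nat_lit 1) (nat_lit 1) (nat_lit 1) (nat_lit 1) (nat_lit 0) (nat_lit 0) (nat_lit 0) (nat_lit 0) (nat_lit 0) (nat_lit 0) (nat_lit 1) (nat_lit 0) (nat_lit 0x1100010008004002001) (nat_lit 0x100010008004002001) (nat_lit 0x100100800400800500800400900500900000b00400b00500b00400d00500d00502800102900502900002a00502a00502c00003800303800503800303a00503a00103b00303b00503b00303e00503e00404900504900506c00307a00507a0050a800010000110000210000310000400c00500c00508800104800508d00400f00500f00508f00508900502d00502e00303c00503c0050b80000780050be00303f00503f0050bf0050ba0050cd0050fe0011a00021a00031a000011000211000311000318000114000508b0050bb0031340031200011e0)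 (nat_lit 0x10000000000000000000001000000000004001000000002004d00170000002b00) (.cD (nat_lit 8) (.kb (nat_lit 8) (nat_lit 0x1002001) (nat_lit 0x1080040020008004001)) (.cD (nat_lit 9) (.kb (nat_lit 9) (nat_lit 0x1002001) (nat_lit 0x1080040020008004002)) (.cD (nat_lit 11) (.kb (nat_lit 11) (nat_lit 0x1002001) (nat_lit 0x1080040028004002009)) (.cD (nat_lit 13) (.kb (nat_lit 13) (nat_lit 0x1002001) (nat_lit 0x1080040020008004002)) (.cD (nat_lit 40) (.kb (nat_lit 40) (nat_lit 0x1002001) (nat_lit 0x1080040020010008004)) (.cD (nat_lit 41) (.kb (nat_lit 41) (nat_lit 0x1002001) (nat_lit 0x1080040020008004012)) (.cD (nat_lit 42) (.kb (nat_lit 42) (nat_lit 0x1002001) (nat_lit 0x1080040010028004002)) (.cD (nat_lit 44) (.kb (nat_lit 44) (nat_lit 0x1002001) (nat_lit 0x1080040020010008004)) (.cD (nat_lit 56) (.kb (nat_lit 56) (nat_lit 0x1002001) (nat_lit 0x1080040010028004002)) (.cD (nat_lit 58) (.kb (nat_lit 58) (nat_lit 0x1002001) (nat_lit 0x1080040010028004002)) (.cD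 (nat_lit 59) (.kb (nat_lit 59) (nat_lit 0x1002001) (nat_lit 0x1080040028004012001)) (.cD (nat_lit 62) (.kb (nat_lit 62) (nat_lit 0x1002001) (nat_lit 0x1080040010028004002)) (.cD (nat_lit 73) (.kb (nat_lit 73) (nat_lit 0x1002001) (nat_lit 0x1080040020008004002)) (.cD (nat_lit 108) (.kb (nat_lit 108) (nat_lit 0x1002001) (nat_lit 0x1080040020010008004)) (.cD (nat_lit 122) (.kb (nat_lit 122) (nat_lit 0x1002001) (nat_lit 0x1080040010028004002)) (.cD (nat_lit 168) (.kb (nat_lit 168) (nat_lit 0x1002001) (nat_lit 0x1080040020010008004)) (.cD (nat_lit 256) (.kin (nat_lit 1) (nat_lit 0)) .nil)))))))))))))))))))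
theorem c667 : (chk [(x344, s666)] [] p667).n x344 s667 = true := by decide +kernel
noncomputable def p668 : Pf := (.ext (nat_lit 0) (nat_lit 0) (nat_lit 0x1100040080020) (nat_lit 0x10008004002003002002000002) (nat_lit 0x2003004008) (nat_lit 0x1008004001) (nat_lit 0x1008005004) (nat_lit 0xc00400200100a00400200100b004002001) (.dfs (nat_lit 1) (nat_lit 0x1002003004008) (nat_lit 0x100200300400b) (nat_lit 4097) (nat_lit 4097) (nat_lit 0) (nat_lit 0) (nat_lit 2) (nat_lit 0) (nat_lit 0) (nat_lit 4) (nat_lit 1) (nat_lit 0) (nat_lit 4480) (nat_lit 384) (nat_lit 0x1000004000024000044000064) (nat_lit 0x10000000100000001000000010) (.cD (nat_lit 4) (.dfs (nat_lit 4) (nat_lit 0x1004006008010) (nat_lit 0x1004006008014) (nat_lit 0x1002001) (nat_lit 0x1002001) (nat_lit 0) (nat_lit 0) (nat_lit 2) (nat_lit 0) (nat_lit 0) (nat_lit 5) (nat_lit 1) (nat_lit 0) (nat_lit 1) (nat_lit 0) (nat_lit 1) (nat_lit 0x2000000020000000200000002000000020000000200000002000000020) (.cD (nat_lit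 5) (.dfs (nat_lit 8) (nat_lit 0x100800c010020) (nat_lit 0x100800c010030) (nat_lit 0x1004002001) (nat_lit 0x1004002001) (nat_lit 0) (nat_lit 0) (nat_lit 2) (nat_lit 0) (nat_lit 0) (nat_lit 8) (nat_lit 1) (nat_lit 0) (nat_lit 1) (nat_lit 0) (nat_lit 1) (nat_lit 0x10000000100000001000000010000000100000001000000010000000100) (.cD (nat_lit 8) (.kS (nat_lit 0) (nat_lit 0x8018020040002010010000002) (nat_lit 0x10040010a8) (nat_lit 0x800400200d01000800400a00102001000800c002001) (nat_lit 0x10010000008010020040004002001001010010000008018020040002004019001004)) (.cD (nat_lit 40) (.cut (nat_lit 0)) (.cD (nat_lit 72) (.kS (nat_lit 0) (nat_lit 0x8018020040002010010000002) (nat_lit 0x10040010e8) (nat_lit 0x800400200d01000800400a00102001000800c002001) (nat_lit 0x10010000008010020040004002001001010010000008018020040002004039001004)) (.cD (nat_lit 104) (.kS (nat_lit 0) (nat_lit 0x10018020040002001) (nat_lit 0x10050010c8) (nat_lit 0x800400200d01000800400a00102001000800c002001)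 (nat_lit 0x18008020040002006029001008010020040004002001001010018020040006004031001003)) (.cD (nat_lit 136) (.kS (nat_lit 0) (nat_lit 0x2004008010005002002000002) (nat_lit 4136) (nat_lit 0x8004002003) (nat_lit 0x8010020040001001002002000002004008010001006003)) (.cD (nat_lit 168) (.kS (nat_lit 0) (nat_lit 0x8018020040002010010000002) (nat_lit 0x1004001088) (nat_lit 0x800400200d01000800400a00102001000800c002001) (nat_lit 0x10010000008010020040004002001001010010000008018020040002004011001004)) (.cD (nat_lit 200) (.kS (nat_lit 0) (nat_lit 0x10018020040002001) (nat_lit 0x10050010e8) (nat_lit 0x800400200d01000800400a00102001000800c002001) (nat_lit 0x18008020040002006031001008010020040004002001001010018020040006004039001003)) (.cD (nat_lit 232) (.kS (nat_lit 0) (nat_lit 0x8018020040002010010000002) (nat_lit 0x10040010c8) (nat_lit 0x800400200d01000800400a00102001000800c002001) (nat_lit 0x10010000008010020040004002001001010010000008018020040002004031001004)) .nil)))))))))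 (.cD (nat_lit 37) (.kS (nat_lit 0) (nat_lit 0x800c010020002001) (nat_lit 4229) (nat_lit 0x800400200d) (nat_lit 0xc00401002000100100400801002000200100800c01002000b001003)) (.cD (nat_lit 69) (.kS (nat_lit 0) (nat_lit 0x400c010020002010010000002) (nat_lit 4164) (nat_lit 0x800400200d) (nat_lit 0x1001000000400801002000200101001000000400c010020011001004)) (.cD (nat_lit 101) (.kS (nat_lit 0) (nat_lit 0x400c010020002010010000002) (nat_lit 4292) (nat_lit 0x800400200d) (nat_lit 0x1001000000400801002000200101001000000400c010020019001004)) (.cD (nat_lit 133) (.kS (nat_lit 0) (nat_lit 0x400c010020002010010000002) (nat_lit 4260) (nat_lit 0x800400200d) (nat_lit 0x1001000000400801002000200101001000000400c01002000d001004)) (.cD (nat_lit 165) (.kS (nat_lit 0) (nat_lit 0x400c010020002010010000002) (nat_lit 4132) (nat_lit 0x800400200d) (nat_lit 0x1001000000400801002000200101001000000400c010020005001004)) (.cD (nat_lit 197) (.kS (nat_lit 0) (nat_lit 0x400c010020002010010000002)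 (nat_lit 4324) (nat_lit 0x800400200d) (nat_lit 0x1001000000400801002000200101001000000400c01002001d001004)) (.cD (nat_lit 229) (.kS (nat_lit 0) (nat_lit 0x400c010020002010010000002) (nat_lit 4196) (nat_lit 0x800400200d) (nat_lit 0x1001000000400801002000200101001000000400c010020015001004)) .nil))))))))) (.cD (nat_lit 36) (.dfs (nat_lit 4) (nat_lit 0x1004006008010) (nat_lit 0x1004006008014) (nat_lit 0x1002001) (nat_lit 0x1002001) (nat_lit 0) (nat_lit 0) (nat_lit 2) (nat_lit 0) (nat_lit 0) (nat_lit 5) (nat_lit 1) (nat_lit 0) (nat_lit 1) (nat_lit 0) (nat_lit 1) (nat_lit 0x2000000020000000200000002000000020000000200000002000000020) (.cD (nat_lit 5) (.kS (nat_lit 0) (nat_lit 0x400c010020002010010000002) (nat_lit 4100) (nat_lit 0x800400200d) (nat_lit 0x1001000000400801002000200101001000000400c010020001001004)) (.cD (nat_lit 37) (.kS (nat_lit 0) (nat_lit 0x400c010020002010010000002) (nat_lit 4228) (nat_lit 0x800400200d) (nat_lit 0x1001000000400801002000200101001000000400c010020009001004))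 (.cD (nat_lit 69) (.kS (nat_lit 0) (nat_lit 0x400c010020002010010000002) (nat_lit 4164) (nat_lit 0x800400200d) (nat_lit 0x1001000000400801002000200101001000000400c010020011001004)) (.cD (nat_lit 101) (.kS (nat_lit 0) (nat_lit 0x400c010020002010010000002) (nat_lit 4292) (nat_lit 0x800400200d) (nat_lit 0x1001000000400801002000200101001000000400c010020019001004)) (.cD (nat_lit 133) (.dfs (nat_lit 8) (nat_lit 0x100800c010020) (nat_lit 0x100800c010030) (nat_lit 0x1004002001) (nat_lit 0x1004002001) (nat_lit 0) (nat_lit 0) (nat_lit 2) (nat_lit 0) (nat_lit 0) (nat_lit 8) (nat_lit 1) (nat_lit 0) (nat_lit 1) (nat_lit 0) (nat_lit 1) (nat_lit 0x10000000100000001000000010000000100000001000000010000000100) (.cD (nat_lit 8) (.kS (nat_lit 0) (nat_lit 0x8018020040002010010000002) (nat_lit 0x10a40810a8) (nat_lit 0x800400200d01000800400a00102001000800c002001) (nat_lit 0x1001000000801002004000400200100101001000000801802004001a014019001004)) (.cD (nat_lit 40) (.iso x344 s667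 (nat_lit 0) (nat_lit 0x1100080040020010008004002081) (nat_lit 0x100080040020010008004002081) [(nat_lit 0x40020010008014002001001001), (nat_lit 0x40020010008004002001003001)] (.cut (nat_lit 0))) (.cD (nat_lit 72) (.kS (nat_lit 0) (nat_lit 0x8018020040002010010000002) (nat_lit 0x10a40810e8) (nat_lit 0x800400200d01000800400a00102001000800c002001) (nat_lit 0x1001000000801002004000400200100101001000000801802004001a014039001004)) (.cD (nat_lit 104) (.kS (nat_lit 0) (nat_lit 0x10018020040002001) (nat_lit 0x10250810c8) (nat_lit 0x800400200d01000800400a00102001000800c002001) (nat_lit 0x1800802004000a01602900100801002004000400200100101001802004000e014031001003)) (.cD (nat_lit 136) (.kS (nat_lit 0) (nat_lit 0x2004008010005002002000002) (nat_lit 4136) (nat_lit 0x8004002003) (nat_lit 0x8010020040001001002002000002004008010001006003)) (.cD (nat_lit 168) (.kS (nat_lit 0) (nat_lit 0x8018020040002010010000002) (nat_lit 0x10a4081088) (nat_lit 0x800400200d01000800400a00102001000800c002001)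 (nat_lit 0x1001000000801002004000400200100101001000000801802004001a014011001004)) (.cD (nat_lit 200) (.kS (nat_lit 0) (nat_lit 0x10018020040002001) (nat_lit 0x10250810e8) (nat_lit 0x800400200d01000800400a00102001000800c002001) (nat_lit 0x1800802004000a01603100100801002004000400200100101001802004000e014039001003)) (.cD (nat_lit 232) (.kS (nat_lit 0) (nat_lit 0x8018020040002010010000002) (nat_lit 0x10a40810c8) (nat_lit 0x800400200d01000800400a00102001000800c002001) (nat_lit 0x1001000000801002004000400200100101001000000801802004001a014031001004)) .nil))))))))) (.cD (nat_lit 165) (.kS (nat_lit 0) (nat_lit 0x800c010020002001) (nat_lit 4261) (nat_lit 0x800400200d) (nat_lit 0xc00401002000500100400801002000200100800c01002000f001003)) (.cD (nat_lit 197) (.kS (nat_lit 0) (nat_lit 0x400c010020002010010000002) (nat_lit 4324) (nat_lit 0x800400200d) (nat_lit 0x1001000000400801002000200101001000000400c01002001d001004)) (.cD (nat_lit 229) (.kS (nat_lit 0) (nat_lit 0x400c010020002010010000002)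 (nat_lit 4196) (nat_lit 0x800400200d) (nat_lit 0x1001000000400801002000200101001000000400c010020015001004)) .nil))))))))) (.cD (nat_lit 68) (.dfs (nat_lit 4) (nat_lit 0x1004006008010) (nat_lit 0x1004006008014) (nat_lit 0x1002001) (nat_lit 0x1002001) (nat_lit 0) (nat_lit 0) (nat_lit 2) (nat_lit 0) (nat_lit 0) (nat_lit 5) (nat_lit 1) (nat_lit 0) (nat_lit 1) (nat_lit 0) (nat_lit 1) (nat_lit 0x2000000020000000200000002000000020000000200000002000000020) (.cD (nat_lit 5) (.kS (nat_lit 0) (nat_lit 0x400c010020002010010000002) (nat_lit 4100) (nat_lit 0x800400200d) (nat_lit 0x1001000000400801002000200101001000000400c010020001001004)) (.cD (nat_lit 37) (.kS (nat_lit 0) (nat_lit 0x400c010020002010010000002) (nat_lit 4228) (nat_lit 0x800400200d) (nat_lit 0x1001000000400801002000200101001000000400c010020009001004)) (.cD (nat_lit 69) (.dfs (nat_lit 8) (nat_lit 0x100800c010020) (nat_lit 0x100800c010030) (nat_lit 0x1004002001) (nat_lit 0x1004002001) (nat_lit 0) (nat_lit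 0) (nat_lit 2) (nat_lit 0) (nat_lit 0) (nat_lit 8) (nat_lit 1) (nat_lit 0) (nat_lit 1) (nat_lit 0) (nat_lit 1) (nat_lit 0x10000000100000001000000010000000100000001000000010000000100) (.cD (nat_lit 8) (.kS (nat_lit 0) (nat_lit 0x8018020040002010010000002) (nat_lit 0x10440410a8) (nat_lit 0x800400200d01000800400a00102001000800c002001) (nat_lit 0x10010000008010020040004002001001010010000008018020040022024019001004)) (.cD (nat_lit 40) (.iso x344 s667 (nat_lit 0) (nat_lit 0x1100080040020010008004002041) (nat_lit 0x100080040020010008004002041) [(nat_lit 0x40020010008024002001001001), (nat_lit 0x40020010008004002001003001)] (.cut (nat_lit 0))) (.cD (nat_lit 72) (.kS (nat_lit 0) (nat_lit 0x8018020040002010010000002) (nat_lit 0x10440410e8) (nat_lit 0x800400200d01000800400a00102001000800c002001) (nat_lit 0x10010000008010020040004002001001010010000008018020040022024039001004)) (.cD (nat_lit 104) (.kS (nat_lit 0) (nat_lit 0x10018020040002001) (nat_lit 0x10050410c8)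 (nat_lit 0x800400200d01000800400a00102001000800c002001) (nat_lit 0x18008020040022026029001008010020040004002001001010018020040006024031001003)) (.cD (nat_lit 136) (.kS (nat_lit 0) (nat_lit 0x2004008010005002002000002) (nat_lit 4136) (nat_lit 0x8004002003) (nat_lit 0x8010020040001001002002000002004008010001006003)) (.cD (nat_lit 168) (.kS (nat_lit 0) (nat_lit 0x8018020040002010010000002) (nat_lit 0x1044041088) (nat_lit 0x800400200d01000800400a00102001000800c002001) (nat_lit 0x10010000008010020040004002001001010010000008018020040022024011001004)) (.cD (nat_lit 200) (.kS (nat_lit 0) (nat_lit 0x10018020040002001) (nat_lit 0x10050410e8) (nat_lit 0x800400200d01000800400a00102001000800c002001) (nat_lit 0x18008020040022026031001008010020040004002001001010018020040006024039001003)) (.cD (nat_lit 232) (.kS (nat_lit 0) (nat_lit 0x8018020040002010010000002) (nat_lit 0x10440410c8) (nat_lit 0x800400200d01000800400a00102001000800c002001) (nat_lit 0x10010000008010020040004002001001010010000008018020040022024031001004))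 .nil))))))))) (.cD (nat_lit 101) (.kS (nat_lit 0) (nat_lit 0x800c010020002001) (nat_lit 4229) (nat_lit 0x800400200d) (nat_lit 0xc00401002001100100400801002000200100800c01002000b001003)) (.cD (nat_lit 133) (.kS (nat_lit 0) (nat_lit 0x400c010020002010010000002) (nat_lit 4260) (nat_lit 0x800400200d) (nat_lit 0x1001000000400801002000200101001000000400c01002000d001004)) (.cD (nat_lit 165) (.kS (nat_lit 0) (nat_lit 0x400c010020002010010000002) (nat_lit 4132) (nat_lit 0x800400200d) (nat_lit 0x1001000000400801002000200101001000000400c010020005001004)) (.cD (nat_lit 197) (.kS (nat_lit 0) (nat_lit 0x400c010020002010010000002) (nat_lit 4324) (nat_lit 0x800400200d) (nat_lit 0x1001000000400801002000200101001000000400c01002001d001004)) (.cD (nat_lit 229) (.kS (nat_lit 0) (nat_lit 0x400c010020002010010000002) (nat_lit 4196) (nat_lit 0x800400200d) (nat_lit 0x1001000000400801002000200101001000000400c010020015001004)) .nil))))))))) (.cD (nat_lit 100) (.dfs (nat_lit 4)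 (nat_lit 0x1004006008010) (nat_lit 0x1004006008014) (nat_lit 0x1002001) (nat_lit 0x1002001) (nat_lit 0) (nat_lit 0) (nat_lit 2) (nat_lit 0) (nat_lit 0) (nat_lit 5) (nat_lit 1) (nat_lit 0) (nat_lit 1) (nat_lit 0) (nat_lit 1) (nat_lit 0x2000000020000000200000002000000020000000200000002000000020) (.cD (nat_lit 5) (.kS (nat_lit 0) (nat_lit 0x400c010020002010010000002) (nat_lit 4100) (nat_lit 0x800400200d) (nat_lit 0x1001000000400801002000200101001000000400c010020001001004)) (.cD (nat_lit 37) (.kS (nat_lit 0) (nat_lit 0x400c010020002010010000002) (nat_lit 4228) (nat_lit 0x800400200d) (nat_lit 0x1001000000400801002000200101001000000400c010020009001004)) (.cD (nat_lit 69) (.kS (nat_lit 0) (nat_lit 0x400c010020002010010000002) (nat_lit 4164) (nat_lit 0x800400200d) (nat_lit 0x1001000000400801002000200101001000000400c010020011001004)) (.cD (nat_lit 101) (.kS (nat_lit 0) (nat_lit 0x400c010020002010010000002) (nat_lit 4292) (nat_lit 0x800400200d) (nat_lit 0x1001000000400801002000200101001000000400c010020019001004))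 (.cD (nat_lit 133) (.kS (nat_lit 0) (nat_lit 0x400c010020002010010000002) (nat_lit 4260) (nat_lit 0x800400200d) (nat_lit 0x1001000000400801002000200101001000000400c01002000d001004)) (.cD (nat_lit 165) (.kS (nat_lit 0) (nat_lit 0x400c010020002010010000002) (nat_lit 4132) (nat_lit 0x800400200d) (nat_lit 0x1001000000400801002000200101001000000400c010020005001004)) (.cD (nat_lit 197) (.dfs (nat_lit 8) (nat_lit 0x100800c010020) (nat_lit 0x100800c010030) (nat_lit 0x1004002001) (nat_lit 0x1004002001) (nat_lit 0) (nat_lit 0) (nat_lit 2) (nat_lit 0) (nat_lit 0) (nat_lit 8) (nat_lit 1) (nat_lit 0) (nat_lit 1) (nat_lit 0) (nat_lit 1) (nat_lit 0x10000000100000001000000010000000100000001000000010000000100) (.cD (nat_lit 8) (.kS (nat_lit 0) (nat_lit 0x8018020040002010010000002) (nat_lit 0x10e40c10a8) (nat_lit 0x800400200d01000800400a00102001000800c002001) (nat_lit 0x1001000000801002004000400200100101001000000801802004003a034019001004)) (.cD (nat_lit 40) (.iso x344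 s667 (nat_lit 0) (nat_lit 0x11000800400200100080040020c1) (nat_lit 0x1000800400200100080040020c1) [(nat_lit 0x40020010008034002001001001), (nat_lit 0x40020010008004002001003001)] (.cut (nat_lit 0))) (.cD (nat_lit 72) (.kS (nat_lit 0) (nat_lit 0x8018020040002010010000002) (nat_lit 0x10e40c10e8) (nat_lit 0x800400200d01000800400a00102001000800c002001) (nat_lit 0x1001000000801002004000400200100101001000000801802004003a034039001004)) (.cD (nat_lit 104) (.kS (nat_lit 0) (nat_lit 0x10018020040002001) (nat_lit 0x10250c10c8) (nat_lit 0x800400200d01000800400a00102001000800c002001) (nat_lit 0x1800802004002a03602900100801002004000400200100101001802004000e034031001003)) (.cD (nat_lit 136) (.kS (nat_lit 0) (nat_lit 0x2004008010005002002000002) (nat_lit 4136) (nat_lit 0x8004002003) (nat_lit 0x8010020040001001002002000002004008010001006003)) (.cD (nat_lit 168) (.kS (nat_lit 0) (nat_lit 0x8018020040002010010000002) (nat_lit 0x10e40c1088) (nat_lit 0x800400200d01000800400a00102001000800c002001)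 (nat_lit 0x1001000000801002004000400200100101001000000801802004003a034011001004)) (.cD (nat_lit 200) (.kS (nat_lit 0) (nat_lit 0x10018020040002001) (nat_lit 0x10250c10e8) (nat_lit 0x800400200d01000800400a00102001000800c002001) (nat_lit 0x1800802004002a03603100100801002004000400200100101001802004000e034039001003)) (.cD (nat_lit 232) (.kS (nat_lit 0) (nat_lit 0x8018020040002010010000002) (nat_lit 0x10e40c10c8) (nat_lit 0x800400200d01000800400a00102001000800c002001) (nat_lit 0x1001000000801002004000400200100101001000000801802004003a034031001004)) .nil))))))))) (.cD (nat_lit 229) (.kS (nat_lit 0) (nat_lit 0x800c010020002001) (nat_lit 4261) (nat_lit 0x800400200d) (nat_lit 0xc00401002001500100400801002000200100800c01002000f001003)) .nil))))))))) .nil))))))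
theorem c668 : (chk [(x344, s667)] [g9] p668).n x344 s668 = true := by decide +kernel
noncomputable def p669 : Pf := (.ext (nat_lit 0) (nat_lit 0) (nat_lit 0x1100040080020) (nat_lit 0x10008004002001002002000002) (nat_lit 0x2003004008) (nat_lit 4097) (nat_lit 4100) (nat_lit 0xb004002001) (.dfs (nat_lit 1) (nat_lit 0x1002003004008) (nat_lit 0x100200300400b) (nat_lit 4097) (nat_lit 4097) (nat_lit 0) (nat_lit 0) (nat_lit 2) (nat_lit 0) (nat_lit 0) (nat_lit 4) (nat_lit 1) (nat_lit 0) (nat_lit 1) (nat_lit 0) (nat_lit 1) (nat_lit 0) .nil))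
theorem c669 : (chk [] [] p669).n x346 s669 = true := by decide +kernel
noncomputable def p670 : Pf := (.ext (nat_lit 0) (nat_lit 0) (nat_lit 0x1100040080020) (nat_lit 0x10008004002001002002000002) (nat_lit 0x2003004008) (nat_lit 4097) (nat_lit 4100) (nat_lit 0xb004002001) (.dfs (nat_lit 1) (nat_lit 0x1002003004008) (nat_lit 0x100200300400b) (nat_lit 4097) (nat_lit 4097) (nat_lit 4) (nat_lit 0) (nat_lit 2) (nat_lit 0) (nat_lit 0) (nat_lit 4) (nat_lit 1) (nat_lit 0) (nat_lit 1) (nat_lit 0) (nat_lit 1) (nat_lit 0) .nil))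
theorem c670 : (chk [] [] p670).n x347 s670 = true := by decide +kernel
noncomputable def p671 : Pf := (.ext (nat_lit 0) (nat_lit 0) (nat_lit 0x1100040080020) (nat_lit 0x10008004002001002002000002) (nat_lit 0x2003004008) (nat_lit 4097) (nat_lit 4100) (nat_lit 0xb004002001) (.dfs (nat_lit 1) (nat_lit 0x1002003004008) (nat_lit 0x100200300400b) (nat_lit 4097) (nat_lit 4097) (nat_lit 4) (nat_lit 0) (nat_lit 2) (nat_lit 0) (nat_lit 0) (nat_lit 4) (nat_lit 1) (nat_lit 0) (nat_lit 1) (nat_lit 0) (nat_lit 1) (nat_lit 0) .nil))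
theorem c671 : (chk [] [] p671).n x348 s671 = true := by decide +kernel
noncomputable def p672 : Pf := (.ext (nat_lit 0) (nat_lit 0) (nat_lit 0x1100040080020) (nat_lit 0x10008004002001002002000002) (nat_lit 0x2003004008) (nat_lit 4097) (nat_lit 4100) (nat_lit 0xb004002001) (.dfs (nat_lit 1) (nat_lit 0x1002003004008) (nat_lit 0x100200300400b) (nat_lit 4097) (nat_lit 4097) (nat_lit 2) (nat_lit 0) (nat_lit 2) (nat_lit 0) (nat_lit 0) (nat_lit 4) (nat_lit 1) (nat_lit 0) (nat_lit 1) (nat_lit 0) (nat_lit 1) (nat_lit 0) .nil))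
theorem c672 : (chk [] [] p672).n x349 s672 = true := by decide +kernel
noncomputable def p673 : Pf := (.ext (nat_lit 0) (nat_lit 0) (nat_lit 0x1100040080020) (nat_lit 0x10008004002001002002000002) (nat_lit 0x2003004008) (nat_lit 4097) (nat_lit 4100) (nat_lit 0xb004002001) (.dfs (nat_lit 1) (nat_lit 0x1002003004008) (nat_lit 0x100200300400b) (nat_lit 4097) (nat_lit 4097) (nat_lit 2) (nat_lit 0) (nat_lit 2) (nat_lit 0) (nat_lit 0) (nat_lit 4) (nat_lit 1) (nat_lit 0) (nat_lit 1) (nat_lit 0) (nat_lit 1) (nat_lit 0) .nil))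
theorem c673 : (chk [] [] p673).n x350 s673 = true := by decide +kernel
noncomputable def p674 : Pf := (.ext (nat_lit 0) (nat_lit 0) (nat_lit 0x1100040080020) (nat_lit 0x10008004002001002002000002) (nat_lit 0x2003004008) (nat_lit 4097) (nat_lit 4100) (nat_lit 0xb004002001) (.dfs (nat_lit 1) (nat_lit 0x1002003004008) (nat_lit 0x100200300400b) (nat_lit 4097) (nat_lit 4097) (nat_lit 6) (nat_lit 0) (nat_lit 2) (nat_lit 0) (nat_lit 0) (nat_lit 4) (nat_lit 1) (nat_lit 0) (nat_lit 1) (nat_lit 0) (nat_lit 1) (nat_lit 0) .nil))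
theorem c674 : (chk [] [] p674).n x351 s674 = true := by decide +kernel
noncomputable def p675 : Pf := (.ext (nat_lit 0) (nat_lit 0) (nat_lit 0x1100040080020) (nat_lit 0x10008004002001002002000002) (nat_lit 0x2003004008) (nat_lit 4097) (nat_lit 4100) (nat_lit 0xb004002001) (.dfs (nat_lit 1) (nat_lit 0x1002003004008) (nat_lit 0x100200300400b) (nat_lit 4097) (nat_lit 4097) (nat_lit 6) (nat_lit 0) (nat_lit 2) (nat_lit 0) (nat_lit 0) (nat_lit 4) (nat_lit 1) (nat_lit 0) (nat_lit 1) (nat_lit 0) (nat_lit 1) (nat_lit 0) .nil))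
theorem c675 : (chk [] [] p675).n x352 s675 = true := by decide +kernel
noncomputable def p676 : Pf := (.lft (nat_lit 0x80020040010002004008001003001) (nat_lit 0) (nat_lit 0x10e80e00c80c00a80a0088080) (nat_lit 0x80040020010008004002001) (.extn a8 (nat_lit 0x80040020010008004002001) (nat_lit 0x1010040020080) (nat_lit 2) (nat_lit 0) (nat_lit 0) (nat_lit 0) (nat_lit 0x1000000010000000100000001) (.cE (nat_lit 0) b9 (nat_lit 0) (.cut (nat_lit 0)) (.cut (nat_lit 1)) (.cE (nat_lit 32) b10 (nat_lit 0) (.cut (nat_lit 2)) (.cut (nat_lit 3)) (.cE (nat_lit 64) b11 (nat_lit 0) (.cut (nat_lit 4)) (.cut (nat_lit 5)) (.cE (nat_lit 96) b12 (nat_lit 0) (.cut (nat_lit 6)) (.cut (nat_lit 7)) .nil))))))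
theorem c676 : (chk [(x344, s668), (x346, s669), (x347, s670), (x348, s671), (x349, s672), (x350, s673), (x351, s674), (x352, s675)] [] p676).n x319 s676 = true := by decide +kernel
noncomputable def p677 : Pf := (.ext (nat_lit 1) (nat_lit 0) (nat_lit 0x1080060040008) (nat_lit 0x14008004002005080060020002001002) (nat_lit 0x200300400a) (nat_lit 0x1014002001) (nat_lit 0x1017001003) (nat_lit 0xe00400200100a004002001009004002001) (.dfs (nat_lit 1) (nat_lit 0x100200300400a) (nat_lit 0x100200300400b) (nat_lit 0x1008001) (nat_lit 0x1009001) (nat_lit 0) (nat_lit 0) (nat_lit 2) (nat_lit 1) (nat_lit 0) (nat_lit 3) (nat_lit 1) (nat_lit 0) (nat_lit 4224) (nat_lit 128) (nat_lit 0x100000300000b00002300002b) (nat_lit 0x80800000808) (.cD (nat_lit 3) (.dfs (nat_lit 2) (nat_lit 0x1004006008014) (nat_lit 0x1004006008010) (nat_lit 0x1010002001) (nat_lit 0x1014002001) (nat_lit 0) (nat_lit 0) (nat_lit 2) (nat_lit 1) (nat_lit 0) (nat_lit 1) (nat_lit 1) (nat_lit 0) (nat_lit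 1) (nat_lit 0) (nat_lit 1) (nat_lit 0x202000002020000020200000202) (.cD (nat_lit 1) (.dfs (nat_lit 20) (nat_lit 0x100800c010028) (nat_lit 0x100800c010030) (nat_lit 0x1020004002001) (nat_lit 0x1038004002001) (nat_lit 0) (nat_lit 0) (nat_lit 2) (nat_lit 1) (nat_lit 0) (nat_lit 23) (nat_lit 1) (nat_lit 0) (nat_lit 1) (nat_lit 0) (nat_lit 1) (nat_lit 0x80800000808000008080000080800000) (.cD (nat_lit 23) (.cut (nat_lit 0)) (.cD (nat_lit 31) (.kS (nat_lit 1) (nat_lit 0x2004008014007002020060080003002) (nat_lit 4118) (nat_lit 0x8004002003) (nat_lit 0x801002004000300100a0200600b001c003002004008014001008003)) (.cD (nat_lit 55) (.kS (nat_lit 1) (nat_lit 0x8018020068002004004000002) (nat_lit 0x100100307d) (nat_lit 0x800400200901000800400a00102001000801c002001) (nat_lit 0x400400000801002004000400200100100400400000801802006800400603d001004)) (.cD (nat_lit 63) (.kS (nat_lit 1) (nat_lit 0x8018020068002004004000002) (nat_lit 0x1001003035) (nat_lit 0x800400200901000800400a00102001000801c002001)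 (nat_lit 0x4004000008010020040004002001001004004000008018020068004006035001004)) (.cD (nat_lit 87) (.kS (nat_lit 1) (nat_lit 0x8018020068002004004000002) (nat_lit 0x100100301d) (nat_lit 0x800400200901000800400a00102001000801c002001) (nat_lit 0x400400000801002004000400200100100400400000801802006800400601d001004)) (.cD (nat_lit 95) (.kS (nat_lit 1) (nat_lit 0x8018020068002004004000002) (nat_lit 0x1001003055) (nat_lit 0x800400200901000800400a00102001000801c002001) (nat_lit 0x4004000008010020040004002001001004004000008018020068004006015001004)) (.cD (nat_lit 119) (.kS (nat_lit 1) (nat_lit 0x10018020050002001) (nat_lit 0x1002003075) (nat_lit 0x800400200901000800400a00102001000801c002001) (nat_lit 0x18008020048006004027001008010020040004002001001010018020050002006025001003)) (.cD (nat_lit 127) (.kS (nat_lit 1) (nat_lit 0x10018020050002001) (nat_lit 0x100200303d) (nat_lit 0x800400200901000800400a00102001000801c002001) (nat_lit 0x1800802004800600403f00100801002004000400200100101001802005000200602d001003))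 .nil))))))))) (.cD (nat_lit 9) (.kS (nat_lit 1) (nat_lit 0x400c010034002004004000002) (nat_lit 0x1001043) (nat_lit 0x800400200901000800400a001) (nat_lit 0x400400000400801002000200100100400400000400c01003400200b001004)) (.cD (nat_lit 33) (.kS (nat_lit 1) (nat_lit 0x400c010034002004004000002) (nat_lit 0x100102b) (nat_lit 0x800400200901000800400a001) (nat_lit 0x400400000400801002000200100100400400000400c01003400201f001004)) (.cD (nat_lit 41) (.dfs (nat_lit 20) (nat_lit 0x100800c010028) (nat_lit 0x100800c010030) (nat_lit 0x1020004002001) (nat_lit 0x1038004002001) (nat_lit 0) (nat_lit 0) (nat_lit 2) (nat_lit 1) (nat_lit 0) (nat_lit 23) (nat_lit 1) (nat_lit 0) (nat_lit 1) (nat_lit 0) (nat_lit 1) (nat_lit 0x80800000808000008080000080800000) (.cD (nat_lit 23) (.kS (nat_lit 1) (nat_lit 0x2004008014007002020060080003002) (nat_lit 4118) (nat_lit 0x8004002003) (nat_lit 0x801002004000300100a0200600b001c003002004008014001008003)) (.cD (nat_lit 31) (.iso x319 s676 (nat_lit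 0) (nat_lit 0x1080040020010008004002021) (nat_lit 0x80040020010008004002021) [(nat_lit 0x4002001000803c012031001080080000002), (nat_lit 0x80040020010008004002041003001), (nat_lit 0x10008004002001005001)] (.cut (nat_lit 0))) (.cD (nat_lit 55) (.kS (nat_lit 1) (nat_lit 0x8018020068002004004000002) (nat_lit 0x100106b07d) (nat_lit 0x800400200901000800400a00102001000801c002001) (nat_lit 0x400400000801002004000400200100100400400000801802006800402e03d001004)) (.cD (nat_lit 63) (.kS (nat_lit 1) (nat_lit 0x8018020068002004004000002) (nat_lit 0x100106b035) (nat_lit 0x800400200901000800400a00102001000801c002001) (nat_lit 0x400400000801002004000400200100100400400000801802006800402e035001004)) (.cD (nat_lit 87) (.kS (nat_lit 1) (nat_lit 0x8018020068002004004000002) (nat_lit 0x100106b01d) (nat_lit 0x800400200901000800400a00102001000801c002001) (nat_lit 0x400400000801002004000400200100100400400000801802006800402e01d001004)) (.cD (nat_lit 95) (.kS (nat_lit 1) (nat_lit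 0x8018020068002004004000002) (nat_lit 0x100106b055) (nat_lit 0x800400200901000800400a00102001000801c002001) (nat_lit 0x400400000801002004000400200100100400400000801802006800402e015001004)) (.cD (nat_lit 119) (.kS (nat_lit 1) (nat_lit 0x10018020050002001) (nat_lit 0x106a06b075) (nat_lit 0x800400200901000800400a00102001000801c002001) (nat_lit 0x1800802004800603c02700100801002004000400200100101001802005002a02e025001003)) (.cD (nat_lit 127) (.kS (nat_lit 1) (nat_lit 0x10018020050002001) (nat_lit 0x106a06b03d) (nat_lit 0x800400200901000800400a00102001000801c002001) (nat_lit 0x1800802004800603c03f00100801002004000400200100101001802005002a02e02d001003)) .nil))))))))) (.cD (nat_lit 65) (.kS (nat_lit 1) (nat_lit 0x400c010034002004004000002) (nat_lit 0x100104b) (nat_lit 0x800400200901000800400a001) (nat_lit 0x400400000400801002000200100100400400000400c01003400200f001004)) (.cD (nat_lit 73) (.dfs (nat_lit 20) (nat_lit 0x100800c010028) (nat_lit 0x100800c010030) (nat_lit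 0x1020004002001) (nat_lit 0x1038004002001) (nat_lit 0) (nat_lit 0) (nat_lit 2) (nat_lit 1) (nat_lit 0) (nat_lit 23) (nat_lit 1) (nat_lit 0) (nat_lit 1) (nat_lit 0) (nat_lit 1) (nat_lit 0x80800000808000008080000080800000) (.cD (nat_lit 23) (.kS (nat_lit 1) (nat_lit 0x10018020050002001) (nat_lit 0x100a00b015) (nat_lit 0x800400200901000800400a00102001000801c002001) (nat_lit 0x1800802004800601c00700100801002004000400200100101001802005000a00e005001003)) (.cD (nat_lit 31) (.kS (nat_lit 1) (nat_lit 0x10018020050002001) (nat_lit 0x100a00b05d) (nat_lit 0x800400200901000800400a00102001000801c002001) (nat_lit 0x1800802004800601c01f00100801002004000400200100101001802005000a00e00d001003)) (.cD (nat_lit 55) (.kS (nat_lit 1) (nat_lit 0x8018020068002004004000002) (nat_lit 0x100100b07d) (nat_lit 0x800400200901000800400a00102001000801c002001) (nat_lit 0x400400000801002004000400200100100400400000801802006800400e03d001004)) (.cD (nat_lit 63) (.kS (nat_lit 1) (nat_lit 0x8018020068002004004000002)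 (nat_lit 0x100100b035) (nat_lit 0x800400200901000800400a00102001000801c002001) (nat_lit 0x400400000801002004000400200100100400400000801802006800400e035001004)) (.cD (nat_lit 87) (.kS (nat_lit 1) (nat_lit 0x8018020068002004004000002) (nat_lit 0x100100b01d) (nat_lit 0x800400200901000800400a00102001000801c002001) (nat_lit 0x400400000801002004000400200100100400400000801802006800400e01d001004)) (.cD (nat_lit 95) (.kS (nat_lit 1) (nat_lit 0x8018020068002004004000002) (nat_lit 0x100100b055) (nat_lit 0x800400200901000800400a00102001000801c002001) (nat_lit 0x400400000801002004000400200100100400400000801802006800400e015001004)) (.cD (nat_lit 119) (.kS (nat_lit 1) (nat_lit 0x2004008014007002020060080003002) (nat_lit 4118) (nat_lit 0x8004002003) (nat_lit 0x801002004000300100a0200600b001c003002004008014001008003)) (.cD (nat_lit 127) (.iso x319 s676 (nat_lit 0) (nat_lit 0x1080040020010008004002041) (nat_lit 0x80040020010008004002041) [(nat_lit 0x4002001000801c012031001080080000002),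 (nat_lit 0x80040020010008004002021003001), (nat_lit 0x10008004002001005001)] (.cut (nat_lit 0))) .nil))))))))) (.cD (nat_lit 97) (.dfs (nat_lit 20) (nat_lit 0x100800c010028) (nat_lit 0x100800c010030) (nat_lit 0x1020004002001) (nat_lit 0x1038004002001) (nat_lit 0) (nat_lit 0) (nat_lit 2) (nat_lit 1) (nat_lit 0) (nat_lit 23) (nat_lit 1) (nat_lit 0) (nat_lit 1) (nat_lit 0) (nat_lit 1) (nat_lit 0x80800000808000008080000080800000) (.cD (nat_lit 23) (.kS (nat_lit 1) (nat_lit 0x10018020050002001) (nat_lit 0x1062063015) (nat_lit 0x800400200901000800400a00102001000801c002001) (nat_lit 0x18008020048006024007001008010020040004002001001010018020050022026005001003)) (.cD (nat_lit 31) (.kS (nat_lit 1) (nat_lit 0x10018020050002001) (nat_lit 0x106206305d) (nat_lit 0x800400200901000800400a00102001000801c002001) (nat_lit 0x1800802004800602401f00100801002004000400200100101001802005002202600d001003)) (.cD (nat_lit 55) (.kS (nat_lit 1) (nat_lit 0x8018020068002004004000002)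 (nat_lit 0x100106307d) (nat_lit 0x800400200901000800400a00102001000801c002001) (nat_lit 0x400400000801002004000400200100100400400000801802006800402603d001004)) (.cD (nat_lit 63) (.kS (nat_lit 1) (nat_lit 0x8018020068002004004000002) (nat_lit 0x1001063035) (nat_lit 0x800400200901000800400a00102001000801c002001) (nat_lit 0x4004000008010020040004002001001004004000008018020068004026035001004)) (.cD (nat_lit 87) (.kS (nat_lit 1) (nat_lit 0x8018020068002004004000002) (nat_lit 0x100106301d) (nat_lit 0x800400200901000800400a00102001000801c002001) (nat_lit 0x400400000801002004000400200100100400400000801802006800402601d001004)) (.cD (nat_lit 95) (.kS (nat_lit 1) (nat_lit 0x8018020068002004004000002) (nat_lit 0x1001063055) (nat_lit 0x800400200901000800400a00102001000801c002001) (nat_lit 0x4004000008010020040004002001001004004000008018020068004026015001004)) (.cD (nat_lit 119) (.iso x319 s676 (nat_lit 0) (nat_lit 0x1080040020010008004002061) (nat_lit 0x80040020010008004002061)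 [(nat_lit 0x40020010008024002001001001), (nat_lit 0x80040020010008004002061003001), (nat_lit 0x10008004002001005001)] (.cut (nat_lit 0))) (.cD (nat_lit 127) (.kS (nat_lit 1) (nat_lit 0x2004008014007002020060080003002) (nat_lit 4118) (nat_lit 0x8004002003) (nat_lit 0x801002004000300100a0200600b001c003002004008014001008003)) .nil))))))))) (.cD (nat_lit 105) (.kS (nat_lit 1) (nat_lit 0x400c010034002004004000002) (nat_lit 0x1001023) (nat_lit 0x800400200901000800400a001) (nat_lit 0x400400000400801002000200100100400400000400c01003400201b001004)) .nil))))))))) (.cD (nat_lit 11) (.dfs (nat_lit 2) (nat_lit 0x1004006008014) (nat_lit 0x1004006008010) (nat_lit 0x1010002001) (nat_lit 0x1014002001) (nat_lit 0) (nat_lit 0) (nat_lit 2) (nat_lit 1) (nat_lit 0) (nat_lit 1) (nat_lit 1) (nat_lit 0) (nat_lit 1) (nat_lit 0) (nat_lit 1) (nat_lit 0x202000002020000020200000202) (.cD (nat_lit 1) (.kS (nat_lit 1) (nat_lit 0x400c010034002004004000002) (nat_lit 0x1041043) (nat_lit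 0x800400200901000800400a001) (nat_lit 0x400400000400801002000200100100400400000400c01003400a00b001004)) (.cD (nat_lit 9) (.kS (nat_lit 1) (nat_lit 0x800c010028002001) (nat_lit 4162) (nat_lit 0x8004002009) (nat_lit 0xc00401002400700100400801002000200100800c010028009001003)) (.cD (nat_lit 33) (.kS (nat_lit 1) (nat_lit 0x800c010028002001) (nat_lit 4138) (nat_lit 0x8004002009) (nat_lit 0xc00401002400700100400801002000200100800c01002801d001003)) (.cD (nat_lit 41) (.kS (nat_lit 1) (nat_lit 0x400c010034002004004000002) (nat_lit 0x104102b) (nat_lit 0x800400200901000800400a001) (nat_lit 0x400400000400801002000200100100400400000400c01003400a01f001004)) (.cD (nat_lit 65) (.kS (nat_lit 1) (nat_lit 0x800c010028002001) (nat_lit 4170) (nat_lit 0x8004002009) (nat_lit 0xc00401002400700100400801002000200100800c01002800d001003)) (.cD (nat_lit 73) (.kS (nat_lit 1) (nat_lit 0x400c010034002004004000002) (nat_lit 0x104104b) (nat_lit 0x800400200901000800400a001) (nat_lit 0x400400000400801002000200100100400400000400c01003400a00f001004))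 (.cD (nat_lit 97) (.kS (nat_lit 1) (nat_lit 0x400c010034002004004000002) (nat_lit 0x1041023) (nat_lit 0x800400200901000800400a001) (nat_lit 0x400400000400801002000200100100400400000400c01003400a01b001004)) (.cD (nat_lit 105) (.kS (nat_lit 1) (nat_lit 0x800c010028002001) (nat_lit 4130) (nat_lit 0x8004002009) (nat_lit 0xc00401002400700100400801002000200100800c010028019001003)) .nil))))))))) (.cD (nat_lit 35) (.dfs (nat_lit 2) (nat_lit 0x1004006008014) (nat_lit 0x1004006008010) (nat_lit 0x1010002001) (nat_lit 0x1014002001) (nat_lit 0) (nat_lit 0) (nat_lit 2) (nat_lit 1) (nat_lit 0) (nat_lit 1) (nat_lit 1) (nat_lit 0) (nat_lit 1) (nat_lit 0) (nat_lit 1) (nat_lit 0x202000002020000020200000202) (.cD (nat_lit 1) (.kS (nat_lit 1) (nat_lit 0x400c010034002004004000002) (nat_lit 0x102902b) (nat_lit 0x800400200901000800400a001) (nat_lit 0x400400000400801002000200100100400400000400c01003401e01f001004)) (.cD (nat_lit 9) (.kS (nat_lit 1) (nat_lit 0x400c010034002004004000002)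 (nat_lit 0x102906b) (nat_lit 0x800400200901000800400a001) (nat_lit 0x400400000400801002000200100100400400000400c01003401e017001004)) (.cD (nat_lit 33) (.kS (nat_lit 1) (nat_lit 0x400c010034002004004000002) (nat_lit 0x1029003) (nat_lit 0x800400200901000800400a001) (nat_lit 0x400400000400801002000200100100400400000400c01003401e003001004)) (.cD (nat_lit 41) (.kS (nat_lit 1) (nat_lit 0x400c010034002004004000002) (nat_lit 0x1029043) (nat_lit 0x800400200901000800400a001) (nat_lit 0x400400000400801002000200100100400400000400c01003401e00b001004)) (.cD (nat_lit 65) (.kS (nat_lit 1) (nat_lit 0x400c010034002004004000002) (nat_lit 0x1029063) (nat_lit 0x800400200901000800400a001) (nat_lit 0x400400000400801002000200100100400400000400c01003401e013001004)) (.cD (nat_lit 73) (.kS (nat_lit 1) (nat_lit 0x400c010034002004004000002) (nat_lit 0x1029023) (nat_lit 0x800400200901000800400a001) (nat_lit 0x400400000400801002000200100100400400000400c01003401e01b001004)) (.cD (nat_lit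 97) (.kS (nat_lit 1) (nat_lit 0x400c010034002004004000002) (nat_lit 0x102904b) (nat_lit 0x800400200901000800400a001) (nat_lit 0x400400000400801002000200100100400400000400c01003401e00f001004)) (.cD (nat_lit 105) (.kS (nat_lit 1) (nat_lit 0x400c010034002004004000002) (nat_lit 0x102900b) (nat_lit 0x800400200901000800400a001) (nat_lit 0x400400000400801002000200100100400400000400c01003401e007001004)) .nil))))))))) (.cD (nat_lit 43) (.dfs (nat_lit 2) (nat_lit 0x1004006008014) (nat_lit 0x1004006008010) (nat_lit 0x1010002001) (nat_lit 0x1014002001) (nat_lit 0) (nat_lit 0) (nat_lit 2) (nat_lit 1) (nat_lit 0) (nat_lit 1) (nat_lit 1) (nat_lit 0) (nat_lit 1) (nat_lit 0) (nat_lit 1) (nat_lit 0x202000002020000020200000202) (.cD (nat_lit 1) (.kS (nat_lit 1) (nat_lit 0x400c010034002004004000002) (nat_lit 0x106906b) (nat_lit 0x800400200901000800400a001) (nat_lit 0x400400000400801002000200100100400400000400c010034016017001004)) (.cD (nat_lit 9) (.kS (nat_lit 1) (nat_lit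 0x400c010034002004004000002) (nat_lit 0x106902b) (nat_lit 0x800400200901000800400a001) (nat_lit 0x400400000400801002000200100100400400000400c01003401601f001004)) (.cD (nat_lit 33) (.kS (nat_lit 1) (nat_lit 0x400c010034002004004000002) (nat_lit 0x1069043) (nat_lit 0x800400200901000800400a001) (nat_lit 0x400400000400801002000200100100400400000400c01003401600b001004)) (.cD (nat_lit 41) (.kS (nat_lit 1) (nat_lit 0x400c010034002004004000002) (nat_lit 0x1069003) (nat_lit 0x800400200901000800400a001) (nat_lit 0x400400000400801002000200100100400400000400c010034016003001004)) (.cD (nat_lit 65) (.kS (nat_lit 1) (nat_lit 0x400c010034002004004000002) (nat_lit 0x1069023) (nat_lit 0x800400200901000800400a001) (nat_lit 0x400400000400801002000200100100400400000400c01003401601b001004)) (.cD (nat_lit 73) (.kS (nat_lit 1) (nat_lit 0x400c010034002004004000002) (nat_lit 0x1069063) (nat_lit 0x800400200901000800400a001) (nat_lit 0x400400000400801002000200100100400400000400c010034016013001004))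 (.cD (nat_lit 97) (.kS (nat_lit 1) (nat_lit 0x400c010034002004004000002) (nat_lit 0x106900b) (nat_lit 0x800400200901000800400a001) (nat_lit 0x400400000400801002000200100100400400000400c010034016007001004)) (.cD (nat_lit 105) (.kS (nat_lit 1) (nat_lit 0x400c010034002004004000002) (nat_lit 0x106904b) (nat_lit 0x800400200901000800400a001) (nat_lit 0x400400000400801002000200100100400400000400c01003401600f001004)) .nil))))))))) .nil))))))
theorem c677 : (chk [(x319, s676)] [g8] p677).n x319 s677 = true := by decide +kernel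
noncomputable def p678 : Pf := (.ext (nat_lit 0) (nat_lit 0) (nat_lit 0x1080060040008002004010) (nat_lit 0x40030010001002004008001001) (nat_lit 0x5010030048) (nat_lit 4097) (nat_lit 4099) (nat_lit 0x5102001000c004002001) (.dfs (nat_lit 1) (nat_lit 0x1005010030048) (nat_lit 0x100501003004d) (nat_lit 0x1040020008004002001) (nat_lit 0x105102000c004002001) (nat_lit 0) (nat_lit 0) (nat_lit 2) (nat_lit 0) (nat_lit 0) (nat_lit 3) (nat_lit 1) (nat_lit 0) (nat_lit 1) (nat_lit 0) (nat_lit 1) (nat_lit 0x8000000080000000800000008) (.cD (nat_lit 3) (.iso x319 s677 (nat_lit 0) (nat_lit 0x108004006000801001e002003) (nat_lit 0x8004006000801001e002003) [(nat_lit 0xa004002001000803e002009001002002000002), (nat_lit 0x10008004002007007001), (nat_lit 0x10008004002007005001)] (.cut (nat_lit 3))) (.cD (nat_lit 35) (.cut (nat_lit 2)) (.cD (nat_lit 67) (.iso x319 s652 (nat_lit 0) (nat_lit 0x108004006000801001e002003) (nat_lit 0x8004006000801001e002003) [(nat_lit 0xa004002001000803e002009001002002000002),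 (nat_lit 0x10008004002007007001), (nat_lit 0x10008004002007005001)] (.cut (nat_lit 1))) (.cD (nat_lit 99) (.iso x319 s640 (nat_lit 0) (nat_lit 0x108004006000801001e002003) (nat_lit 0x8004006000801001e002003) [(nat_lit 0xa004002001000803e002009001002002000002), (nat_lit 0x10008004002007007001), (nat_lit 0x10008004002007005001)] (.cut (nat_lit 0))) .nil))))))
theorem c678 : (chk [(x319, s640), (x319, s652), (x318, s662), (x319, s677)] [g8] p678).n x318 s678 = true := by decide +kernel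
noncomputable def p679 : Pf := (.ext (nat_lit 0) (nat_lit 0) (nat_lit 0x1080020040010) (nat_lit 0x10008004002003040020010008001002) (nat_lit 0x2003004008) (nat_lit 4097) (nat_lit 4098) (nat_lit 0xb004002001) (.dfs (nat_lit 1) (nat_lit 0x1002003004008) (nat_lit 0x100200300400b) (nat_lit 4097) (nat_lit 4097) (nat_lit 0) (nat_lit 0) (nat_lit 2) (nat_lit 0) (nat_lit 0) (nat_lit 2) (nat_lit 1) (nat_lit 0) (nat_lit 1) (nat_lit 0) (nat_lit 1) (nat_lit 0) .nil))
theorem c679 : (chk [] [] p679).n x353 s679 = true := by decide +kernel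
noncomputable def p680 : Pf := (.ext (nat_lit 0) (nat_lit 0) (nat_lit 0x1080020040010) (nat_lit 0x10008004002003040020010008001002) (nat_lit 0x2003004008) (nat_lit 4097) (nat_lit 4098) (nat_lit 0xb004002001) (.dfs (nat_lit 1) (nat_lit 0x1002003004008) (nat_lit 0x100200300400b) (nat_lit 4097) (nat_lit 4097) (nat_lit 4) (nat_lit 0) (nat_lit 2) (nat_lit 0) (nat_lit 0) (nat_lit 2) (nat_lit 1) (nat_lit 0) (nat_lit 1) (nat_lit 0) (nat_lit 1) (nat_lit 0) .nil))
theorem c680 : (chk [] [] p680).n x354 s680 = true := by decide +kernel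
noncomputable def p681 : Pf := (.ext (nat_lit 0) (nat_lit 0) (nat_lit 0x1080020040010) (nat_lit 0x10008004002003040020010008001002) (nat_lit 0x2003004008) (nat_lit 4097) (nat_lit 4098) (nat_lit 0xb004002001) (.dfs (nat_lit 1) (nat_lit 0x1002003004008) (nat_lit 0x100200300400b) (nat_lit 4097) (nat_lit 4097) (nat_lit 4) (nat_lit 0) (nat_lit 2) (nat_lit 0) (nat_lit 0) (nat_lit 2) (nat_lit 1) (nat_lit 0) (nat_lit 1) (nat_lit 0) (nat_lit 1) (nat_lit 0) .nil))
theorem c681 : (chk [] [] p681).n x355 s681 = true := by decide +kernel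
noncomputable def p682 : Pf := (.ext (nat_lit 0) (nat_lit 0) (nat_lit 0x1080020040010) (nat_lit 0x10008004002003040020010008001002) (nat_lit 0x2003004008) (nat_lit 4097) (nat_lit 4098) (nat_lit 0xb004002001) (.dfs (nat_lit 1) (nat_lit 0x1002003004008) (nat_lit 0x100200300400b) (nat_lit 4097) (nat_lit 4097) (nat_lit 2) (nat_lit 0) (nat_lit 2) (nat_lit 0) (nat_lit 0) (nat_lit 2) (nat_lit 1) (nat_lit 0) (nat_lit 1) (nat_lit 0) (nat_lit 1) (nat_lit 0) .nil))
theorem c682 : (chk [] [] p682).n x356 s682 = true := by decide +kernel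
noncomputable def p683 : Pf := (.ext (nat_lit 0) (nat_lit 0) (nat_lit 0x1080020040010) (nat_lit 0x10008004002003040020010008001002) (nat_lit 0x2003004008) (nat_lit 4097) (nat_lit 4098) (nat_lit 0xb004002001) (.dfs (nat_lit 1) (nat_lit 0x1002003004008) (nat_lit 0x100200300400b) (nat_lit 4097) (nat_lit 4097) (nat_lit 2) (nat_lit 0) (nat_lit 2) (nat_lit 0) (nat_lit 0) (nat_lit 2) (nat_lit 1) (nat_lit 0) (nat_lit 1) (nat_lit 0) (nat_lit 1) (nat_lit 0) .nil))
theorem c683 : (chk [] [] p683).n x357 s683 = true := by decide +kernel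
noncomputable def p684 : Pf := (.ext (nat_lit 0) (nat_lit 0) (nat_lit 0x1080020040010) (nat_lit 0x10008004002003040020010008001002) (nat_lit 0x2003004008) (nat_lit 4097) (nat_lit 4098) (nat_lit 0xb004002001) (.dfs (nat_lit 1) (nat_lit 0x1002003004008) (nat_lit 0x100200300400b) (nat_lit 4097) (nat_lit 4097) (nat_lit 6) (nat_lit 0) (nat_lit 2) (nat_lit 0) (nat_lit 0) (nat_lit 2) (nat_lit 1) (nat_lit 0) (nat_lit 1) (nat_lit 0) (nat_lit 1) (nat_lit 0) .nil))
theorem c684 : (chk [] [] p684).n x358 s684 = true := by decide +kernel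
noncomputable def p685 : Pf := (.ext (nat_lit 0) (nat_lit 0) (nat_lit 0x1080020040010) (nat_lit 0x10008004002003040020010008001002) (nat_lit 0x2003004008) (nat_lit 4097) (nat_lit 4098) (nat_lit 0xb004002001) (.dfs (nat_lit 1) (nat_lit 0x1002003004008) (nat_lit 0x100200300400b) (nat_lit 4097) (nat_lit 4097) (nat_lit 6) (nat_lit 0) (nat_lit 2) (nat_lit 0) (nat_lit 0) (nat_lit 2) (nat_lit 1) (nat_lit 0) (nat_lit 1) (nat_lit 0) (nat_lit 1) (nat_lit 0) .nil))
theorem c685 : (chk [] [] p685).n x359 s685 = true := by decide +kernel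
noncomputable def p686 : Pf := (.lft (nat_lit 0x40010020008001004002005001) (nat_lit 0) (nat_lit 0x1070060050040) (nat_lit 0x40020010008004002001) (.extn a12 (nat_lit 0x40020010008004002001) (nat_lit 0x1008020010040) (nat_lit 2) (nat_lit 0) (nat_lit 0) (nat_lit 0) (nat_lit 0x1000100010001) (.cE (nat_lit 0) b22 (nat_lit 0) (.cut (nat_lit 0)) (.cut (nat_lit 1)) (.cE (nat_lit 16) b27 (nat_lit 0) (.cut (nat_lit 2)) (.cut (nat_lit 3)) (.cE (nat_lit 32) b28 (nat_lit 0) (.cut (nat_lit 4)) (.cut (nat_lit 5)) (.cE (nat_lit 48) b29 (nat_lit 0) (.cut (nat_lit 6)) (.cut (nat_lit 7)) .nil))))))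
theorem c686 : (chk [(x318, s678), (x353, s679), (x354, s680), (x355, s681), (x356, s682), (x357, s683), (x358, s684), (x359, s685)] [] p686).n x301 s686 = true := by decide +kernel
noncomputable def p687 : Pf := (.ext (nat_lit 0) (nat_lit 0x4006008010002001) (nat_lit 0x1040010020008002) (nat_lit 0x10008004002001002004004000010008002004001001004004000010008006004005002005) (nat_lit 0x4006008010) (nat_lit 0x1004001) (nat_lit 0x1004001) (nat_lit 0x10008004006005014008004002001) (.dfs (nat_lit 1) (nat_lit 0x1002004008010) (nat_lit 0x1002004008014) (nat_lit 4097) (nat_lit 4097) (nat_lit 0) (nat_lit 0) (nat_lit 2) (nat_lit 0) (nat_lit 0x2004008010001001) (nat_lit 1) (nat_lit 1) (nat_lit 0) (nat_lit 1) (nat_lit 0) (nat_lit 1) (nat_lit 0x102010201020102) (.cD (nat_lit 1) (.dfs (nat_lit 4) (nat_lit 0x1004008010020) (nat_lit 0x100c008010020) (nat_lit 0x1002001) (nat_lit 0x100a001) (nat_lit 0) (nat_lit 0) (nat_lit 2) (nat_lit 0) (nat_lit 0x4008010020001001) (nat_lit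 4) (nat_lit 1) (nat_lit 0) (nat_lit 4105) (nat_lit 9) (nat_lit 0x1000004000014) (nat_lit 0x100010) (.cD (nat_lit 4) (.cut (nat_lit 0)) (.cD (nat_lit 20) (.kA true (nat_lit 0xc002006010005001010030040001002)) .nil))) (.cD (nat_lit 8) (.kS (nat_lit 0) (nat_lit 0xc008010020001004004000002) (nat_lit 0x1008023) (nat_lit 0x8004002005010008004006001) (nat_lit 0x400400000400801002000100200100400400000c00801002000100a002004)) (.cD (nat_lit 17) (.dfs (nat_lit 4) (nat_lit 0x1004008010020) (nat_lit 0x100c008010020) (nat_lit 0x1002001) (nat_lit 0x100a001) (nat_lit 0) (nat_lit 0) (nat_lit 2) (nat_lit 0) (nat_lit 0x4008010020001001) (nat_lit 4) (nat_lit 1) (nat_lit 0) (nat_lit 4105) (nat_lit 9) (nat_lit 0x1000004000014) (nat_lit 0x100010) (.cD (nat_lit 4) (.kA false (nat_lit 0xa010020041001008010020040001002)) (.cD (nat_lit 20) (.kA false (nat_lit 0xa010020061001008010020060001002002000003)) .nil))) (.cD (nat_lit 24) (.kS (nat_lit 0) (nat_lit 0xc008010020001004004000002)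 (nat_lit 0x1018023) (nat_lit 0x8004002005010008004006001) (nat_lit 0x400400000400801002000100200100400400000c00801002000100a002004)) (.cD (nat_lit 33) (.dfs (nat_lit 4) (nat_lit 0x1004008010020) (nat_lit 0x100c008010020) (nat_lit 0x1002001) (nat_lit 0x100a001) (nat_lit 0) (nat_lit 0) (nat_lit 2) (nat_lit 0) (nat_lit 0x4008010020001001) (nat_lit 4) (nat_lit 1) (nat_lit 0) (nat_lit 4105) (nat_lit 9) (nat_lit 0x1000004000014) (nat_lit 0x100010) (.cD (nat_lit 4) (.kS (nat_lit 1) (nat_lit 0x2004008010009001001000001010030040007003) (nat_lit 4107) (nat_lit 0x8004002003) (nat_lit 0x1100103004100e00100200400801400100900100100000200400801000100a004)) (.cD (nat_lit 20) (.kA true (nat_lit 0xc002006010005001010030040001002)) .nil))) (.cD (nat_lit 40) (.kS (nat_lit 0) (nat_lit 0xc008010020001004004000002) (nat_lit 0x1028023) (nat_lit 0x8004002005010008004006001) (nat_lit 0x400400000400801002000100200100400400000c00801002000100a002004)) (.cD (nat_lit 49) (.dfs (nat_lit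 4) (nat_lit 0x1004008010020) (nat_lit 0x100c008010020) (nat_lit 0x1002001) (nat_lit 0x100a001) (nat_lit 0) (nat_lit 0) (nat_lit 2) (nat_lit 0) (nat_lit 0x4008010020001001) (nat_lit 4) (nat_lit 1) (nat_lit 0) (nat_lit 4105) (nat_lit 9) (nat_lit 0x1000004000014) (nat_lit 0x100010) (.cD (nat_lit 4) (.kA false (nat_lit 0xa010020041001008010020040001002)) (.cD (nat_lit 20) (.kA false (nat_lit 0xa010020061001008010020060001002002000003)) .nil))) (.cD (nat_lit 56) (.kS (nat_lit 0) (nat_lit 0xc008010020001004004000002) (nat_lit 0x1038023) (nat_lit 0x8004002005010008004006001) (nat_lit 0x400400000400801002000100200100400400000c00801002000100a002004)) .nil))))))))))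
theorem c687 : (chk [(x301, s686)] [] p687).n x301 s687 = true := by decide +kernel
noncomputable def p688 : Pf := (.ext (nat_lit 0) (nat_lit 0x4006008010002001) (nat_lit 0x1040010020008002) (nat_lit 0x10008004002005002004004000010008002004005001004004000010008006004001002005) (nat_lit 0x4006008010) (nat_lit 0x1004001) (nat_lit 0x1004001) (nat_lit 0x10008004006005014008004002001) (.dfs (nat_lit 1) (nat_lit 0x1002004008010) (nat_lit 0x1002004008014) (nat_lit 4097) (nat_lit 4097) (nat_lit 0) (nat_lit 0) (nat_lit 2) (nat_lit 0) (nat_lit 0x2004008010001001) (nat_lit 1) (nat_lit 1) (nat_lit 0) (nat_lit 1) (nat_lit 0) (nat_lit 1) (nat_lit 0x102010201020102) (.cD (nat_lit 1) (.dfs (nat_lit 4) (nat_lit 0x1004008010020) (nat_lit 0x100c008010020) (nat_lit 0x1002001) (nat_lit 0x100a001) (nat_lit 0) (nat_lit 0) (nat_lit 2) (nat_lit 0) (nat_lit 0x4008010020001001) (nat_lit 4) (nat_lit 1) (nat_lit 0) (nat_lit 4105) (nat_lit 9) (nat_lit 0x1000004000014) (nat_lit 0x100010)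 (.cD (nat_lit 4) (.kS (nat_lit 1) (nat_lit 0x2004008012009003010030058001001010030040007003) (nat_lit 4143) (nat_lit 0x8004002003) (nat_lit 0x100100000200400801400100900301003005800e00200200400801200500a004)) (.cD (nat_lit 20) (.kA true (nat_lit 0xc002006010005001010030040001002)) .nil))) (.cD (nat_lit 8) (.kS (nat_lit 0) (nat_lit 0xc008010020001004004000002) (nat_lit 0x1008003) (nat_lit 0x8004002005010008004006001) (nat_lit 0x400400000400801002000100200100400400000c00801002000100a002004)) (.cD (nat_lit 17) (.dfs (nat_lit 4) (nat_lit 0x1004008010020) (nat_lit 0x100c008010020) (nat_lit 0x1002001) (nat_lit 0x100a001) (nat_lit 0) (nat_lit 0) (nat_lit 2) (nat_lit 0) (nat_lit 0x4008010020001001) (nat_lit 4) (nat_lit 1) (nat_lit 0) (nat_lit 4105) (nat_lit 9) (nat_lit 0x1000004000014) (nat_lit 0x100010) (.cD (nat_lit 4) (.kA false (nat_lit 0xa010020041001008010020040001002)) (.cD (nat_lit 20) (.kA false (nat_lit 0xa010020061001008010020060001002002000003)) .nil)))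 (.cD (nat_lit 24) (.kS (nat_lit 0) (nat_lit 0xc008010020001004004000002) (nat_lit 0x1018003) (nat_lit 0x8004002005010008004006001) (nat_lit 0x400400000400801002000100200100400400000c00801002000100a002004)) (.cD (nat_lit 33) (.dfs (nat_lit 4) (nat_lit 0x1004008010020) (nat_lit 0x100c008010020) (nat_lit 0x1002001) (nat_lit 0x100a001) (nat_lit 0) (nat_lit 0) (nat_lit 2) (nat_lit 0) (nat_lit 0x4008010020001001) (nat_lit 4) (nat_lit 1) (nat_lit 0) (nat_lit 4105) (nat_lit 9) (nat_lit 0x1000004000014) (nat_lit 0x100010) (.cD (nat_lit 4) (.kS (nat_lit 1) (nat_lit 0x600400801e00c001) (nat_lit 4106) (nat_lit 0x8004002007) (nat_lit 0x1101003006000c00100200200000600400801e00100b003)) (.cD (nat_lit 20) (.kA true (nat_lit 0xc002006010005001010030040001002)) .nil))) (.cD (nat_lit 40) (.kS (nat_lit 0) (nat_lit 0xc008010020001004004000002) (nat_lit 0x1028003) (nat_lit 0x8004002005010008004006001) (nat_lit 0x400400000400801002000100200100400400000c00801002000100a002004))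 (.cD (nat_lit 49) (.dfs (nat_lit 4) (nat_lit 0x1004008010020) (nat_lit 0x100c008010020) (nat_lit 0x1002001) (nat_lit 0x100a001) (nat_lit 0) (nat_lit 0) (nat_lit 2) (nat_lit 0) (nat_lit 0x4008010020001001) (nat_lit 4) (nat_lit 1) (nat_lit 0) (nat_lit 4105) (nat_lit 9) (nat_lit 0x1000004000014) (nat_lit 0x100010) (.cD (nat_lit 4) (.kA false (nat_lit 0xa010020041001008010020040001002)) (.cD (nat_lit 20) (.kA false (nat_lit 0xa010020061001008010020060001002002000003)) .nil))) (.cD (nat_lit 56) (.kS (nat_lit 0) (nat_lit 0xc008010020001004004000002) (nat_lit 0x1038003) (nat_lit 0x8004002005010008004006001) (nat_lit 0x400400000400801002000100200100400400000c00801002000100a002004)) .nil))))))))))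
theorem c688 : (chk [] [] p688).n x301 s688 = true := by decide +kernel
noncomputable def p689 : Pf := (.ext (nat_lit 0) (nat_lit 0) (nat_lit 0x1044010020009) (nat_lit 0x10008004002009010004002001001002) (nat_lit 0x2003004008) (nat_lit 4099) (nat_lit 4098) (nat_lit 0xc004002001) (.dfs (nat_lit 3) (nat_lit 0x1002003004008) (nat_lit 0x100200300400c) (nat_lit 4097) (nat_lit 4097) (nat_lit 0) (nat_lit 0) (nat_lit 2) (nat_lit 0) (nat_lit 0) (nat_lit 2) (nat_lit 1) (nat_lit 0) (nat_lit 4160) (nat_lit 64) (nat_lit 0x100000200000a00002200002a) (nat_lit 0x40400000404) (.cD (nat_lit 2) (.cut (nat_lit 1)) (.cD (nat_lit 10) (.cut (nat_lit 0)) (.cD (nat_lit 34) (.kS (nat_lit 0) (nat_lit 0x200400801000b001) (nat_lit 4098) (nat_lit 0x8004002003) (nat_lit 0x400400000400200801000500100400400000400600801000100200200400801000500c005)) (.cD (nat_lit 42) (.kS (nat_lit 0) (nat_lit 0x200400801000b001) (nat_lit 4138) (nat_lit 0x8004002003) (nat_lit 0x400400000400200801000500100400400000400600801000100200200400801000700c005))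 .nil))))))
theorem c689 : (chk [(x301, s687), (x301, s688)] [] p689).n x301 s689 = true := by decide +kernel
noncomputable def p690 : Pf := (.lft (nat_lit 0x4101002002a001006012003040010020008001004002001002) (nat_lit 6) (nat_lit 0x1070060050040) (nat_lit 0x40020010008004002001) (.extn (nat_lit 0x4306204006104606704506407a05b07905807f05e07c05d05307205007105607705507406a04b06904806f04e06c04d06304206004106604706504405a07b05907805f07e05c07d07305207005107605707505404a06b04906804f06e04c06d00e02f00d02c00b02a00802901703601403501203301103001e03f01d03c01b03a01803900702600402500202300102002e00f02d00c02b00a02800903701603401503201303101003e01f03d01c03b01a038019027006024005022003021000) (nat_lit 0x40020010008004002001) (nat_lit 0x1008020010040) (nat_lit 2) (nat_lit 0) (nat_lit 0) (nat_lit 6) (nat_lit 0) .nil))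
theorem c690 : (chk [] [] p690).n x301 s690 = true := by decide +kernel
noncomputable def p691 : Pf := (.ext (nat_lit 0) (nat_lit 0x4006008010002001) (nat_lit 0x1040010020008002) (nat_lit 0x10008004002001002004004000010008002004001001004004000010008006004005002005) (nat_lit 0x4006008010) (nat_lit 0x1004001) (nat_lit 0x1004001) (nat_lit 0x10008004006005014008004002001) (.dfs (nat_lit 1) (nat_lit 0x1002004008010) (nat_lit 0x1002004008014) (nat_lit 4097) (nat_lit 4097) (nat_lit 0) (nat_lit 0) (nat_lit 2) (nat_lit 0) (nat_lit 0x2004008010001001) (nat_lit 1) (nat_lit 1) (nat_lit 0) (nat_lit 1) (nat_lit 0) (nat_lit 1) (nat_lit 0x102010201020102) (.cD (nat_lit 1) (.dfs (nat_lit 4) (nat_lit 0x1004008010020) (nat_lit 0x100c008010020) (nat_lit 0x1002001) (nat_lit 0x100a001) (nat_lit 0) (nat_lit 0) (nat_lit 2) (nat_lit 0) (nat_lit 0x4008010020001001) (nat_lit 4) (nat_lit 1) (nat_lit 0) (nat_lit 4105) (nat_lit 9) (nat_lit 0x1000004000014) (nat_lit 0x100010) (.cD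 (nat_lit 4) (.kS (nat_lit 1) (nat_lit 0x2004008010009001001000001010030040007003) (nat_lit 4107) (nat_lit 0x8004002003) (nat_lit 0x1100103004100e00100200400801400100900100100000200400801000100a004)) (.cD (nat_lit 20) (.kA true (nat_lit 0xc002006010005001010030040001002)) .nil))) (.cD (nat_lit 8) (.kS (nat_lit 0) (nat_lit 0xc008010020001004004000002) (nat_lit 0x1008023) (nat_lit 0x8004002005010008004006001) (nat_lit 0x400400000400801002000100200100400400000c00801002000100a002004)) (.cD (nat_lit 17) (.dfs (nat_lit 4) (nat_lit 0x1004008010020) (nat_lit 0x100c008010020) (nat_lit 0x1002001) (nat_lit 0x100a001) (nat_lit 0) (nat_lit 0) (nat_lit 2) (nat_lit 0) (nat_lit 0x4008010020001001) (nat_lit 4) (nat_lit 1) (nat_lit 0) (nat_lit 4105) (nat_lit 9) (nat_lit 0x1000004000014) (nat_lit 0x100010) (.cD (nat_lit 4) (.kA false (nat_lit 0x2a010020041001008010020040001002)) (.cD (nat_lit 20) (.kA false (nat_lit 0x2a010020061001008010020060001002002000003)) .nil))) (.cD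 (nat_lit 24) (.kS (nat_lit 0) (nat_lit 0xc008010020001004004000002) (nat_lit 0x1018023) (nat_lit 0x8004002005010008004006001) (nat_lit 0x400400000400801002000100200100400400000c00801002000100a002004)) (.cD (nat_lit 33) (.dfs (nat_lit 4) (nat_lit 0x1004008010020) (nat_lit 0x100c008010020) (nat_lit 0x1002001) (nat_lit 0x100a001) (nat_lit 0) (nat_lit 0) (nat_lit 2) (nat_lit 0) (nat_lit 0x4008010020001001) (nat_lit 4) (nat_lit 1) (nat_lit 0) (nat_lit 4105) (nat_lit 9) (nat_lit 0x1000004000014) (nat_lit 0x100010) (.cD (nat_lit 4) (.cut (nat_lit 0)) (.cD (nat_lit 20) (.kA true (nat_lit 0xc002006010005001010030040001002)) .nil))) (.cD (nat_lit 40) (.kS (nat_lit 0) (nat_lit 0xc008010020001004004000002) (nat_lit 0x1028023) (nat_lit 0x8004002005010008004006001) (nat_lit 0x400400000400801002000100200100400400000c00801002000100a002004)) (.cD (nat_lit 49) (.dfs (nat_lit 4) (nat_lit 0x1004008010020) (nat_lit 0x100c008010020) (nat_lit 0x1002001) (nat_lit 0x100a001)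 (nat_lit 0) (nat_lit 0) (nat_lit 2) (nat_lit 0) (nat_lit 0x4008010020001001) (nat_lit 4) (nat_lit 1) (nat_lit 0) (nat_lit 4105) (nat_lit 9) (nat_lit 0x1000004000014) (nat_lit 0x100010) (.cD (nat_lit 4) (.kA false (nat_lit 0x2a010020041001008010020040001002)) (.cD (nat_lit 20) (.kA false (nat_lit 0x2a010020061001008010020060001002002000003)) .nil))) (.cD (nat_lit 56) (.kS (nat_lit 0) (nat_lit 0xc008010020001004004000002) (nat_lit 0x1038023) (nat_lit 0x8004002005010008004006001) (nat_lit 0x400400000400801002000100200100400400000c00801002000100a002004)) .nil))))))))))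
theorem c691 : (chk [(x301, s690)] [] p691).n x301 s691 = true := by decide +kernel
noncomputable def p692 : Pf := (.ext (nat_lit 0) (nat_lit 0x4006008010002001) (nat_lit 0x1040010020008002) (nat_lit 0x10008004002005002004004000010008002004005001004004000010008006004001002005) (nat_lit 0x4006008010) (nat_lit 0x1004001) (nat_lit 0x1004001) (nat_lit 0x10008004006005014008004002001) (.dfs (nat_lit 1) (nat_lit 0x1002004008010) (nat_lit 0x1002004008014) (nat_lit 4097) (nat_lit 4097) (nat_lit 0) (nat_lit 0) (nat_lit 2) (nat_lit 0) (nat_lit 0x2004008010001001) (nat_lit 1) (nat_lit 1) (nat_lit 0) (nat_lit 1) (nat_lit 0) (nat_lit 1) (nat_lit 0x102010201020102) (.cD (nat_lit 1) (.dfs (nat_lit 4) (nat_lit 0x1004008010020) (nat_lit 0x100c008010020) (nat_lit 0x1002001) (nat_lit 0x100a001) (nat_lit 0) (nat_lit 0) (nat_lit 2) (nat_lit 0) (nat_lit 0x4008010020001001) (nat_lit 4) (nat_lit 1) (nat_lit 0) (nat_lit 4105) (nat_lit 9) (nat_lit 0x1000004000014) (nat_lit 0x100010)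 (.cD (nat_lit 4) (.kS (nat_lit 1) (nat_lit 0x600400801e00c001) (nat_lit 4106) (nat_lit 0x8004002007) (nat_lit 0x1101003006000c00100200200000600400801e00100b003)) (.cD (nat_lit 20) (.kA true (nat_lit 0xc002006010005001010030040001002)) .nil))) (.cD (nat_lit 8) (.kS (nat_lit 0) (nat_lit 0xc008010020001004004000002) (nat_lit 0x1008003) (nat_lit 0x8004002005010008004006001) (nat_lit 0x400400000400801002000100200100400400000c00801002000100a002004)) (.cD (nat_lit 17) (.dfs (nat_lit 4) (nat_lit 0x1004008010020) (nat_lit 0x100c008010020) (nat_lit 0x1002001) (nat_lit 0x100a001) (nat_lit 0) (nat_lit 0) (nat_lit 2) (nat_lit 0) (nat_lit 0x4008010020001001) (nat_lit 4) (nat_lit 1) (nat_lit 0) (nat_lit 4105) (nat_lit 9) (nat_lit 0x1000004000014) (nat_lit 0x100010) (.cD (nat_lit 4) (.kA false (nat_lit 0x2a010020041001008010020040001002)) (.cD (nat_lit 20) (.kA false (nat_lit 0x2a010020061001008010020060001002002000003)) .nil))) (.cD (nat_lit 24) (.kS (nat_lit 0) (nat_lit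 0xc008010020001004004000002) (nat_lit 0x1018003) (nat_lit 0x8004002005010008004006001) (nat_lit 0x400400000400801002000100200100400400000c00801002000100a002004)) (.cD (nat_lit 33) (.dfs (nat_lit 4) (nat_lit 0x1004008010020) (nat_lit 0x100c008010020) (nat_lit 0x1002001) (nat_lit 0x100a001) (nat_lit 0) (nat_lit 0) (nat_lit 2) (nat_lit 0) (nat_lit 0x4008010020001001) (nat_lit 4) (nat_lit 1) (nat_lit 0) (nat_lit 4105) (nat_lit 9) (nat_lit 0x1000004000014) (nat_lit 0x100010) (.cD (nat_lit 4) (.kS (nat_lit 1) (nat_lit 0x2004008010009001001000001010030040007003) (nat_lit 4107) (nat_lit 0x8004002003) (nat_lit 0x1100103004100e00100200400801400100900100100000200400801000100a004)) (.cD (nat_lit 20) (.kA true (nat_lit 0xc002006010005001010030040001002)) .nil))) (.cD (nat_lit 40) (.kS (nat_lit 0) (nat_lit 0xc008010020001004004000002) (nat_lit 0x1028003) (nat_lit 0x8004002005010008004006001) (nat_lit 0x400400000400801002000100200100400400000c00801002000100a002004))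 (.cD (nat_lit 49) (.dfs (nat_lit 4) (nat_lit 0x1004008010020) (nat_lit 0x100c008010020) (nat_lit 0x1002001) (nat_lit 0x100a001) (nat_lit 0) (nat_lit 0) (nat_lit 2) (nat_lit 0) (nat_lit 0x4008010020001001) (nat_lit 4) (nat_lit 1) (nat_lit 0) (nat_lit 4105) (nat_lit 9) (nat_lit 0x1000004000014) (nat_lit 0x100010) (.cD (nat_lit 4) (.kA false (nat_lit 0x2a010020041001008010020040001002)) (.cD (nat_lit 20) (.kA false (nat_lit 0x2a010020061001008010020060001002002000003)) .nil))) (.cD (nat_lit 56) (.kS (nat_lit 0) (nat_lit 0xc008010020001004004000002) (nat_lit 0x1038003) (nat_lit 0x8004002005010008004006001) (nat_lit 0x400400000400801002000100200100400400000c00801002000100a002004)) .nil))))))))))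
theorem c692 : (chk [] [] p692).n x301 s692 = true := by decide +kernel
noncomputable def p693 : Pf := (.ext (nat_lit 0) (nat_lit 0) (nat_lit 0x1044010020019) (nat_lit 0x10008004002009010004002005001002) (nat_lit 0x2003004008) (nat_lit 4099) (nat_lit 4098) (nat_lit 0xc004002001) (.dfs (nat_lit 3) (nat_lit 0x1002003004008) (nat_lit 0x100200300400c) (nat_lit 4097) (nat_lit 4097) (nat_lit 0) (nat_lit 0) (nat_lit 2) (nat_lit 0) (nat_lit 0) (nat_lit 2) (nat_lit 1) (nat_lit 0) (nat_lit 4160) (nat_lit 64) (nat_lit 0x100000200000a00002200002a) (nat_lit 0x40400000404) (.cD (nat_lit 2) (.cut (nat_lit 1)) (.cD (nat_lit 10) (.cut (nat_lit 0)) (.cD (nat_lit 34) (.kS (nat_lit 0) (nat_lit 0x200400801000b001) (nat_lit 4098) (nat_lit 0x8004002003) (nat_lit 0x400400000400200801000500100400400000400600801000100200200400801000500c005)) (.cD (nat_lit 42) (.kS (nat_lit 0) (nat_lit 0x200400801000b001) (nat_lit 4138) (nat_lit 0x8004002003) (nat_lit 0x400400000400200801000500100400400000400600801000100200200400801000700c005))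 .nil))))))
theorem c693 : (chk [(x301, s691), (x301, s692)] [] p693).n x301 s693 = true := by decide +kernel
noncomputable def p694 : Pf := (.anc (nat_lit 68) (nat_lit 0x10006002002000002) (nat_lit 0x1009020010004) (.dfs (nat_lit 4) (nat_lit 4097) (nat_lit 4097) (nat_lit 1) (nat_lit 1) (nat_lit 0) (nat_lit 0) (nat_lit 3) (nat_lit 0) (nat_lit 0) (nat_lit 0) (nat_lit 1) (nat_lit 0) (nat_lit 0x1008004) (nat_lit 32772) (nat_lit 0x1001004000008001014000018) (nat_lit 0x1000101110110) (.cD (nat_lit 4) (.dfs (nat_lit 16) (nat_lit 4098) (nat_lit 4098) (nat_lit 4097) (nat_lit 4097) (nat_lit 0) (nat_lit 0) (nat_lit 3) (nat_lit 0) (nat_lit 0) (nat_lit 0) (nat_lit 1) (nat_lit 0) (nat_lit 1) (nat_lit 0) (nat_lit 1) (nat_lit 0x11001100110010) (.cD (nat_lit 4) (.kc (nat_lit 20) (nat_lit 0x3001001)) (.cD (nat_lit 16) (.dfs (nat_lit 32) (nat_lit 4100) (nat_lit 4100) (nat_lit 0x1002001) (nat_lit 0x1002001) (nat_lit 0) (nat_lit 0) (nat_lit 3) (nat_lit 0) (nat_lit 0) (nat_lit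 0) (nat_lit 1) (nat_lit 0) (nat_lit 1) (nat_lit 0) (nat_lit 1) (nat_lit 0x11001100110010) (.cD (nat_lit 4) (.kc (nat_lit 36) (nat_lit 0x5001001)) (.cD (nat_lit 16) (.kc (nat_lit 48) (nat_lit 0x3001001)) (.cD (nat_lit 20) (.kc (nat_lit 52) (nat_lit 0x7001001)) (.cD (nat_lit 32) (.dfs (nat_lit 9) (nat_lit 0x1004001003008) (nat_lit 0x1005001003008) (nat_lit 4098) (nat_lit 4098) (nat_lit 0) (nat_lit 0) (nat_lit 2) (nat_lit 1) (nat_lit 0) (nat_lit 8) (nat_lit 1) (nat_lit 0) (nat_lit 4100) (nat_lit 4) (nat_lit 0x1000008000018) (nat_lit 0x1000100) (.cD (nat_lit 8) (.iso x301 s693 (nat_lit 0) (nat_lit 0x1040020010008004012011) (nat_lit 0x40020010008004012011) [(nat_lit 0x10008004002005001001), (nat_lit 0x40020010008024022001003001), (nat_lit 0x10008004002001005001), (nat_lit 0x1000800400200d007001), (nat_lit 0x10008004002009009001)] (.cut (nat_lit 1))) (.cD (nat_lit 24) (.iso x301 s689 (nat_lit 0) (nat_lit 0x1040020010008004012011) (nat_lit 0x40020010008004012011)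 [(nat_lit 0x10008004002005001001), (nat_lit 0x40020010008024022001003001), (nat_lit 0x10008004002001005001), (nat_lit 0x1000800400200d007001), (nat_lit 0x10008004002009009001)] (.cut (nat_lit 0))) .nil))) (.cD (nat_lit 36) (.kA true (nat_lit 0x100100000400100300d001001001000003)) (.cD (nat_lit 48) (.kA true (nat_lit 0x600800401000800400100300d001001001000003)) (.cD (nat_lit 52) (.kA true (nat_lit 0x800a00601e00700500100300e001002002000003)) .nil)))))))) (.cD (nat_lit 20) (.dfs (nat_lit 32) (nat_lit 4100) (nat_lit 4100) (nat_lit 0x1002001) (nat_lit 0x1002001) (nat_lit 0) (nat_lit 0) (nat_lit 3) (nat_lit 0) (nat_lit 0) (nat_lit 0) (nat_lit 1) (nat_lit 0) (nat_lit 1) (nat_lit 0) (nat_lit 1) (nat_lit 0x11001100110010) (.cD (nat_lit 4) (.kc (nat_lit 36) (nat_lit 0x5001001)) (.cD (nat_lit 16) (.kc (nat_lit 52) (nat_lit 0x7001001)) (.cD (nat_lit 20) (.kc (nat_lit 48) (nat_lit 0x3001001)) (.cD (nat_lit 32) (.kA true (nat_lit 0x200200000500100300e001002002000003))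 (.cD (nat_lit 36) (.dfs (nat_lit 9) (nat_lit 4102) (nat_lit 4103) (nat_lit 1) (nat_lit 1) (nat_lit 0) (nat_lit 0) (nat_lit 1) (nat_lit 4112) (nat_lit 0x40020010008004002001) (nat_lit 0) (nat_lit 1) (nat_lit 0) (nat_lit 1) (nat_lit 0) (nat_lit 1) (nat_lit 0) .nil) (.cD (nat_lit 48) (.kA true (nat_lit 0x400300500800100400100300c001002)) (.cD (nat_lit 52) (.kA true (nat_lit 0x400700100800100400100300c001002)) .nil)))))))) (.cD (nat_lit 32) (.kF (nat_lit 16) (nat_lit 0x100400100c012008002002000003)) (.cD (nat_lit 36) (.kF (nat_lit 16) (nat_lit 0x100400100c012008002002000003)) (.cD (nat_lit 48) (.dfs (nat_lit 32) (nat_lit 4100) (nat_lit 4100) (nat_lit 0x1002001) (nat_lit 0x1002001) (nat_lit 0) (nat_lit 0) (nat_lit 3) (nat_lit 0) (nat_lit 0) (nat_lit 0) (nat_lit 1) (nat_lit 0) (nat_lit 1) (nat_lit 0) (nat_lit 1) (nat_lit 0x11001100110010) (.cD (nat_lit 4) (.kc (nat_lit 36) (nat_lit 0x5001001)) (.cD (nat_lit 16) (.kA true (nat_lit 0x400200100800100400100300c001002))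 (.cD (nat_lit 20) (.kA true (nat_lit 0x400600500800100400100300c001002)) (.cD (nat_lit 32) (.kA true (nat_lit 0x200400c01000800500100300e001002002000003)) (.cD (nat_lit 36) (.kA true (nat_lit 0x400500600800100400100300c001002)) (.cD (nat_lit 48) (.kc (nat_lit 48) (nat_lit 0x3001001)) (.cD (nat_lit 52) (.kc (nat_lit 52) (nat_lit 0x7001001)) .nil)))))))) (.cD (nat_lit 52) (.dfs (nat_lit 32) (nat_lit 4100) (nat_lit 4100) (nat_lit 0x1002001) (nat_lit 0x1002001) (nat_lit 0) (nat_lit 0) (nat_lit 3) (nat_lit 0) (nat_lit 0) (nat_lit 0) (nat_lit 1) (nat_lit 0) (nat_lit 1) (nat_lit 0) (nat_lit 1) (nat_lit 0x11001100110010) (.cD (nat_lit 4) (.kc (nat_lit 36) (nat_lit 0x5001001)) (.cD (nat_lit 16) (.kA true (nat_lit 0x400200500800100400100300c001002)) (.cD (nat_lit 20) (.kA true (nat_lit 0x400600100800100400100300c001002)) (.cD (nat_lit 32) (.kA true (nat_lit 0x4001003008001002004008012008002002000003)) (.cD (nat_lit 36) (.kA true (nat_lit 0x400500200800100400100300c001002))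 (.cD (nat_lit 48) (.kc (nat_lit 52) (nat_lit 0x7001001)) (.cD (nat_lit 52) (.kc (nat_lit 48) (nat_lit 0x3001001)) .nil)))))))) .nil)))))))) (.cD (nat_lit 8) (.dfs (nat_lit 16) (nat_lit 4098) (nat_lit 4098) (nat_lit 4097) (nat_lit 4097) (nat_lit 0) (nat_lit 0) (nat_lit 3) (nat_lit 0) (nat_lit 0) (nat_lit 0) (nat_lit 1) (nat_lit 0) (nat_lit 1) (nat_lit 0) (nat_lit 1) (nat_lit 0x101010101010100) (.cD (nat_lit 8) (.kc (nat_lit 20) (nat_lit 0x3001001)) (.cD (nat_lit 16) (.dfs (nat_lit 32) (nat_lit 4100) (nat_lit 4100) (nat_lit 0x1002001) (nat_lit 0x1002001) (nat_lit 0) (nat_lit 0) (nat_lit 3) (nat_lit 0) (nat_lit 0) (nat_lit 0) (nat_lit 1) (nat_lit 0) (nat_lit 1) (nat_lit 0) (nat_lit 1) (nat_lit 0x101010101010100) (.cD (nat_lit 8) (.kc (nat_lit 36) (nat_lit 0x5001001)) (.cD (nat_lit 16) (.kc (nat_lit 48) (nat_lit 0x3001001)) (.cD (nat_lit 24) (.kc (nat_lit 52) (nat_lit 0x7001001)) (.cD (nat_lit 32) (.kA false (nat_lit 0x400100200c002008010020050003001001000003))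 (.cD (nat_lit 40) (.kA false (nat_lit 0x100100000400500200d002001001000003)) (.cD (nat_lit 48) (.kA false (nat_lit 0x600800c01000800400300200b002001001000003)) (.cD (nat_lit 56) (.kA false (nat_lit 0x400700200c002008010020050003001001000003)) .nil)))))))) (.cD (nat_lit 24) (.dfs (nat_lit 32) (nat_lit 4100) (nat_lit 4100) (nat_lit 0x1002001) (nat_lit 0x1002001) (nat_lit 0) (nat_lit 0) (nat_lit 3) (nat_lit 0) (nat_lit 0) (nat_lit 0) (nat_lit 1) (nat_lit 0) (nat_lit 1) (nat_lit 0) (nat_lit 1) (nat_lit 0x101010101010100) (.cD (nat_lit 8) (.kc (nat_lit 36) (nat_lit 0x5001001)) (.cD (nat_lit 16) (.kc (nat_lit 52) (nat_lit 0x7001001)) (.cD (nat_lit 24) (.kc (nat_lit 48) (nat_lit 0x3001001)) (.cD (nat_lit 32) (.kA false (nat_lit 0x400100600c002008010020050003001001000003)) (.cD (nat_lit 40) (.kA false (nat_lit 0x100100000400500600d002001001000003)) (.cD (nat_lit 48) (.kA false (nat_lit 0x400700600c002008010020050003001001000003)) (.cD (nat_lit 56) (.kA false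 (nat_lit 0x600800a01000800400300600b002001001000003)) .nil)))))))) (.cD (nat_lit 32) (.kF (nat_lit 16) (nat_lit 0x100400100c012008002002000003)) (.cD (nat_lit 40) (.kF (nat_lit 16) (nat_lit 0x100400100c012008002002000003)) (.cD (nat_lit 48) (.dfs (nat_lit 32) (nat_lit 4100) (nat_lit 4100) (nat_lit 0x1002001) (nat_lit 0x1002001) (nat_lit 0) (nat_lit 0) (nat_lit 3) (nat_lit 0) (nat_lit 0) (nat_lit 0) (nat_lit 1) (nat_lit 0) (nat_lit 1) (nat_lit 0) (nat_lit 1) (nat_lit 0x101010101010100) (.cD (nat_lit 8) (.kc (nat_lit 36) (nat_lit 0x5001001)) (.cD (nat_lit 16) (.kA false (nat_lit 0x600800401000800400300100b002001001000003)) (.cD (nat_lit 24) (.kA false (nat_lit 0x400700500c002008010020050003001001000003)) (.cD (nat_lit 32) (.kA false (nat_lit 0x400100300c002008010020050003001001000003)) (.cD (nat_lit 40) (.kA false (nat_lit 0x100100000400500700d002001001000003)) (.cD (nat_lit 48) (.kc (nat_lit 48) (nat_lit 0x3001001)) (.cD (nat_lit 56) (.kc (nat_lit 52)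 (nat_lit 0x7001001)) .nil)))))))) (.cD (nat_lit 56) (.dfs (nat_lit 32) (nat_lit 4100) (nat_lit 4100) (nat_lit 0x1002001) (nat_lit 0x1002001) (nat_lit 0) (nat_lit 0) (nat_lit 3) (nat_lit 0) (nat_lit 0) (nat_lit 0) (nat_lit 1) (nat_lit 0) (nat_lit 1) (nat_lit 0) (nat_lit 1) (nat_lit 0x101010101010100) (.cD (nat_lit 8) (.kc (nat_lit 36) (nat_lit 0x5001001)) (.cD (nat_lit 16) (.kA false (nat_lit 0x400700100c002008010020050003001001000003)) (.cD (nat_lit 24) (.kA false (nat_lit 0x600800201000800400300500b002001001000003)) (.cD (nat_lit 32) (.kA false (nat_lit 0x400100700c002008010020050003001001000003)) (.cD (nat_lit 40) (.kA false (nat_lit 0x100100000400500300d002001001000003)) (.cD (nat_lit 48) (.kc (nat_lit 52) (nat_lit 0x7001001)) (.cD (nat_lit 56) (.kc (nat_lit 48) (nat_lit 0x3001001)) .nil)))))))) .nil)))))))) (.cD (nat_lit 16) (.kF (nat_lit 4) (nat_lit 0x2002000001003001002)) (.cD (nat_lit 20) (.kF (nat_lit 4) (nat_lit 0xe01e007001003001002)) (.cD (nat_lit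 24) (.kF (nat_lit 4) (nat_lit 0x1002001002012008002002000003)) (.cD (nat_lit 32) (.dfs (nat_lit 16) (nat_lit 4098) (nat_lit 4098) (nat_lit 4097) (nat_lit 4097) (nat_lit 0) (nat_lit 0) (nat_lit 3) (nat_lit 0) (nat_lit 0) (nat_lit 0) (nat_lit 1) (nat_lit 0) (nat_lit 0x1008004) (nat_lit 32772) (nat_lit 0x1001004000008001014000018) (nat_lit 0x1000101110110) (.cD (nat_lit 4) (.kF (nat_lit 16) (nat_lit 0x1001000001006001002)) (.cD (nat_lit 8) (.kF (nat_lit 16) (nat_lit 0x1001000001006001002)) (.cD (nat_lit 16) (.dfs (nat_lit 32) (nat_lit 4100) (nat_lit 4100) (nat_lit 0x1002001) (nat_lit 0x1002001) (nat_lit 0) (nat_lit 0) (nat_lit 3) (nat_lit 0) (nat_lit 0) (nat_lit 0) (nat_lit 1) (nat_lit 0) (nat_lit 0x1008004) (nat_lit 32772) (nat_lit 0x1001004000008001014000018) (nat_lit 0x1000101110110) (.cD (nat_lit 4) (.kA true (nat_lit 0x100400600c002001001000002)) (.cD (nat_lit 8) (.kA false (nat_lit 0x100400200c002001001000002)) (.cD (nat_lit 16) (.kc (nat_lit 48) (nat_lit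 0x3001001)) (.cD (nat_lit 20) (.kA true (nat_lit 0x300400600c002001001000002)) (.cD (nat_lit 24) (.kA false (nat_lit 0x300400200c002001001000002)) (.cD (nat_lit 32) (.kc (nat_lit 36) (nat_lit 0x5001001)) (.cD (nat_lit 48) (.kc (nat_lit 52) (nat_lit 0x7001001)) .nil)))))))) (.cD (nat_lit 20) (.dfs (nat_lit 32) (nat_lit 4100) (nat_lit 4100) (nat_lit 0x1002001) (nat_lit 0x1002001) (nat_lit 0) (nat_lit 0) (nat_lit 3) (nat_lit 0) (nat_lit 0) (nat_lit 0) (nat_lit 1) (nat_lit 0) (nat_lit 1) (nat_lit 0) (nat_lit 1) (nat_lit 0x11001100110010) (.cD (nat_lit 4) (.kA true (nat_lit 0x100400700c002001001000002)) (.cD (nat_lit 16) (.kA true (nat_lit 0x300400500c002001001000002)) (.cD (nat_lit 20) (.kc (nat_lit 48) (nat_lit 0x3001001)) (.cD (nat_lit 32) (.kc (nat_lit 36) (nat_lit 0x5001001)) (.cD (nat_lit 36) (.dfs (nat_lit 9) (nat_lit 4100) (nat_lit 4101) (nat_lit 1) (nat_lit 1) (nat_lit 0) (nat_lit 0) (nat_lit 1) (nat_lit 4128) (nat_lit 0x40020010008004002001) (nat_lit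 0) (nat_lit 1) (nat_lit 0) (nat_lit 1) (nat_lit 0) (nat_lit 1) (nat_lit 0) .nil) (.cD (nat_lit 48) (.kA true (nat_lit 0x700400100c002001001000002)) (.cD (nat_lit 52) (.kc (nat_lit 52) (nat_lit 0x7001001)) .nil)))))))) (.cD (nat_lit 24) (.dfs (nat_lit 32) (nat_lit 4100) (nat_lit 4100) (nat_lit 0x1002001) (nat_lit 0x1002001) (nat_lit 0) (nat_lit 0) (nat_lit 3) (nat_lit 0) (nat_lit 0) (nat_lit 0) (nat_lit 1) (nat_lit 0) (nat_lit 1) (nat_lit 0) (nat_lit 1) (nat_lit 0x101010101010100) (.cD (nat_lit 8) (.kA false (nat_lit 0x100400300c002001001000002)) (.cD (nat_lit 16) (.kA false (nat_lit 0x300400100c002001001000002)) (.cD (nat_lit 24) (.kc (nat_lit 48) (nat_lit 0x3001001)) (.cD (nat_lit 32) (.kc (nat_lit 36) (nat_lit 0x5001001)) (.cD (nat_lit 40) (.kA false (nat_lit 0x500400700c002001001000002)) (.cD (nat_lit 48) (.kA false (nat_lit 0x700400500c002001001000002)) (.cD (nat_lit 56) (.kc (nat_lit 52) (nat_lit 0x7001001)) .nil)))))))) (.cD (nat_lit 32) (.kc (nat_lit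 20) (nat_lit 0x3001001)) (.cD (nat_lit 48) (.dfs (nat_lit 32) (nat_lit 4100) (nat_lit 4100) (nat_lit 0x1002001) (nat_lit 0x1002001) (nat_lit 0) (nat_lit 0) (nat_lit 3) (nat_lit 0) (nat_lit 0) (nat_lit 0) (nat_lit 1) (nat_lit 0) (nat_lit 0x1008004) (nat_lit 32772) (nat_lit 0x1001004000008001014000018) (nat_lit 0x1000101110110) (.cD (nat_lit 4) (.kA true (nat_lit 0x100400200c002001001000002)) (.cD (nat_lit 8) (.kA false (nat_lit 0x100400600c002001001000002)) (.cD (nat_lit 16) (.kc (nat_lit 52) (nat_lit 0x7001001)) (.cD (nat_lit 20) (.kA true (nat_lit 0x700400200c002001001000002)) (.cD (nat_lit 24) (.kA false (nat_lit 0x700400600c002001001000002)) (.cD (nat_lit 32) (.kc (nat_lit 36) (nat_lit 0x5001001)) (.cD (nat_lit 48) (.kc (nat_lit 48) (nat_lit 0x3001001)) .nil)))))))) .nil)))))))) (.cD (nat_lit 48) (.kF (nat_lit 4) (nat_lit 0x1002001002012008002002000003)) .nil)))))))))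
theorem c694 : (chk [(x301, s689), (x301, s693)] [g7] p694).n x301 s694 = true := by decide +kernel
noncomputable def p695 : Pf := (.ext (nat_lit 0) (nat_lit 0) (nat_lit 0x1040010020008002) (nat_lit 0x16008004002001006001001000010008004002001005003) (nat_lit 0x2004008016) (nat_lit 0x1004001) (nat_lit 0x1005001) (nat_lit 0x10008004006005014008004002001) (.dfs (nat_lit 1) (nat_lit 0x1002004008016) (nat_lit 0x1002004008012) (nat_lit 0x1010001) (nat_lit 0x1014001) (nat_lit 0) (nat_lit 0) (nat_lit 2) (nat_lit 0) (nat_lit 0) (nat_lit 1) (nat_lit 1) (nat_lit 0) (nat_lit 1) (nat_lit 0) (nat_lit 1) (nat_lit 0x202020202020202) (.cD (nat_lit 1) (.dfs (nat_lit 4) (nat_lit 0x100400801002c) (nat_lit 0x100c008010024) (nat_lit 0x1020002001) (nat_lit 0x102000a001) (nat_lit 0) (nat_lit 0) (nat_lit 2) (nat_lit 0) (nat_lit 0) (nat_lit 5) (nat_lit 1) (nat_lit 0) (nat_lit 4104) (nat_lit 8) (nat_lit 0x1000005000015) (nat_lit 0x200020) (.cD (nat_lit 5) (.kA true (nat_lit 0xe004008010003001010030050001001001000003))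 (.cD (nat_lit 21) (.cut (nat_lit 0)) .nil))) (.cD (nat_lit 9) (.kS (nat_lit 0) (nat_lit 0x4004000004008010020001002) (nat_lit 0x1029022) (nat_lit 0x8004002005010008004006001) (nat_lit 0xc00801002800100a001005005000004008010020001002002004004000004)) (.cD (nat_lit 17) (.dfs (nat_lit 4) (nat_lit 0x100400801002c) (nat_lit 0x100c008010024) (nat_lit 0x1020002001) (nat_lit 0x102000a001) (nat_lit 0) (nat_lit 0) (nat_lit 2) (nat_lit 0) (nat_lit 0) (nat_lit 5) (nat_lit 1) (nat_lit 0) (nat_lit 4104) (nat_lit 8) (nat_lit 0x1000005000015) (nat_lit 0x200020) (.cD (nat_lit 5) (.kA true (nat_lit 0x3010030058001001010030040001002)) (.cD (nat_lit 21) (.kA true (nat_lit 0x23010030058001001010030040001002)) .nil))) (.cD (nat_lit 25) (.kS (nat_lit 0) (nat_lit 0x4004000004008010020001002) (nat_lit 0x1039022) (nat_lit 0x8004002005010008004006001) (nat_lit 0xc00801002800100a001005005000004008010020001002002004004000004)) (.cD (nat_lit 33) (.dfs (nat_lit 4) (nat_lit 0x100400801002c)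 (nat_lit 0x100c008010024) (nat_lit 0x1020002001) (nat_lit 0x102000a001) (nat_lit 0) (nat_lit 0) (nat_lit 2) (nat_lit 0) (nat_lit 0) (nat_lit 5) (nat_lit 1) (nat_lit 0) (nat_lit 4104) (nat_lit 8) (nat_lit 0x1000005000015) (nat_lit 0x200020) (.cD (nat_lit 5) (.kA true (nat_lit 0xe004008010003001010030050001001001000003)) (.cD (nat_lit 21) (.kS (nat_lit 1) (nat_lit 0x23033030058002002004008010003001001000001010030040001004) (nat_lit 4139) (nat_lit 0x8004002003) (nat_lit 0x100100000200600801000700402301003005800e00100100100000200400801000100402303303005801e001006)) .nil))) (.cD (nat_lit 41) (.kS (nat_lit 0) (nat_lit 0x4004000004008010020001002) (nat_lit 0x1009022) (nat_lit 0x8004002005010008004006001) (nat_lit 0xc00801002800100a001005005000004008010020001002002004004000004)) (.cD (nat_lit 49) (.dfs (nat_lit 4) (nat_lit 0x100400801002c) (nat_lit 0x100c008010024) (nat_lit 0x1020002001) (nat_lit 0x102000a001) (nat_lit 0) (nat_lit 0) (nat_lit 2) (nat_lit 0) (nat_lit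 0) (nat_lit 5) (nat_lit 1) (nat_lit 0) (nat_lit 4104) (nat_lit 8) (nat_lit 0x1000005000015) (nat_lit 0x200020) (.cD (nat_lit 5) (.kA true (nat_lit 0x3010030058001001010030040001002)) (.cD (nat_lit 21) (.kA true (nat_lit 0x23010030058001001010030040001002)) .nil))) (.cD (nat_lit 57) (.kS (nat_lit 0) (nat_lit 0x4004000004008010020001002) (nat_lit 0x1019022) (nat_lit 0x8004002005010008004006001) (nat_lit 0xc00801002800100a001005005000004008010020001002002004004000004)) .nil))))))))))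
theorem c695 : (chk [(x301, s694)] [] p695).n x301 s695 = true := by decide +kernel
noncomputable def p696 : Pf := (.ext (nat_lit 1) (nat_lit 0) (nat_lit 0x1048030020015) (nat_lit 0x10008004002003010006002005001002) (nat_lit 0x2003004008) (nat_lit 4107) (nat_lit 4107) (nat_lit 0xc004002001) (.dfs (nat_lit 11) (nat_lit 0x1002003004008) (nat_lit 0x100200300400c) (nat_lit 4097) (nat_lit 4097) (nat_lit 0) (nat_lit 0) (nat_lit 2) (nat_lit 1) (nat_lit 0) (nat_lit 11) (nat_lit 1) (nat_lit 0) (nat_lit 4160) (nat_lit 64) (nat_lit 0x100000b00000f00001b00001f) (nat_lit 0x88008800) (.cD (nat_lit 11) (.cut (nat_lit 1)) (.cD (nat_lit 15) (.kS (nat_lit 1) (nat_lit 0x2004008010005001) (nat_lit 4139) (nat_lit 0x8004002003) (nat_lit 0x8008000004002008010001001008008000004006008010001002002004008010007006005)) (.cD (nat_lit 27) (.kS (nat_lit 1) (nat_lit 0x2004008010005001) (nat_lit 4127) (nat_lit 0x8004002003) (nat_lit 0x800800000400200801000100100800800000400600801000100200200400801000d006005))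 (.cD (nat_lit 31) (.cut (nat_lit 0)) .nil))))))
theorem c696 : (chk [(x301, s628), (x301, s695)] [] p696).n x301 s696 = true := by decide +kernel
noncomputable def p697 : Pf := (.anc (nat_lit 68) (nat_lit 0x10006002002000002) (nat_lit 0x1009020010004) (.dfs (nat_lit 4) (nat_lit 4097) (nat_lit 4097) (nat_lit 1) (nat_lit 1) (nat_lit 0) (nat_lit 0) (nat_lit 3) (nat_lit 0) (nat_lit 0) (nat_lit 0) (nat_lit 1) (nat_lit 0) (nat_lit 0x1008004) (nat_lit 32772) (nat_lit 0x1001004000008001014000018) (nat_lit 0x1000101110110) (.cD (nat_lit 4) (.dfs (nat_lit 16) (nat_lit 4098) (nat_lit 4098) (nat_lit 4097) (nat_lit 4097) (nat_lit 0) (nat_lit 0) (nat_lit 3) (nat_lit 0) (nat_lit 0) (nat_lit 0) (nat_lit 1) (nat_lit 0) (nat_lit 1) (nat_lit 0) (nat_lit 1) (nat_lit 0x11001100110010) (.cD (nat_lit 4) (.kc (nat_lit 20) (nat_lit 0x3001001)) (.cD (nat_lit 16) (.dfs (nat_lit 32) (nat_lit 4100) (nat_lit 4100) (nat_lit 0x1002001) (nat_lit 0x1002001) (nat_lit 0) (nat_lit 0) (nat_lit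 3) (nat_lit 0) (nat_lit 0) (nat_lit 0) (nat_lit 1) (nat_lit 0) (nat_lit 1) (nat_lit 0) (nat_lit 1) (nat_lit 0x11001100110010) (.cD (nat_lit 4) (.kc (nat_lit 36) (nat_lit 0x5001001)) (.cD (nat_lit 16) (.kc (nat_lit 48) (nat_lit 0x3001001)) (.cD (nat_lit 20) (.kc (nat_lit 52) (nat_lit 0x7001001)) (.cD (nat_lit 32) (.dfs (nat_lit 9) (nat_lit 0x1004001003008) (nat_lit 0x1005001003008) (nat_lit 4098) (nat_lit 4098) (nat_lit 0) (nat_lit 0) (nat_lit 2) (nat_lit 1) (nat_lit 0) (nat_lit 8) (nat_lit 1) (nat_lit 0) (nat_lit 4100) (nat_lit 4) (nat_lit 0x1000008000018) (nat_lit 0x1000100) (.cD (nat_lit 8) (.cut (nat_lit 1)) (.cD (nat_lit 24) (.cut (nat_lit 0)) .nil))) (.cD (nat_lit 36) (.kA true (nat_lit 0x100100000400100300d001001001000003)) (.cD (nat_lit 48) (.kA true (nat_lit 0x600800401000800400100300d001001001000003)) (.cD (nat_lit 52) (.kA true (nat_lit 0x800a00601e00700500100300e001002002000003)) .nil)))))))) (.cD (nat_lit 20) (.dfs (nat_lit 32) (nat_lit 4100)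 (nat_lit 4100) (nat_lit 0x1002001) (nat_lit 0x1002001) (nat_lit 0) (nat_lit 0) (nat_lit 3) (nat_lit 0) (nat_lit 0) (nat_lit 0) (nat_lit 1) (nat_lit 0) (nat_lit 1) (nat_lit 0) (nat_lit 1) (nat_lit 0x11001100110010) (.cD (nat_lit 4) (.kc (nat_lit 36) (nat_lit 0x5001001)) (.cD (nat_lit 16) (.kc (nat_lit 52) (nat_lit 0x7001001)) (.cD (nat_lit 20) (.kc (nat_lit 48) (nat_lit 0x3001001)) (.cD (nat_lit 32) (.kA true (nat_lit 0x200200000500100300e001002002000003)) (.cD (nat_lit 36) (.dfs (nat_lit 9) (nat_lit 4102) (nat_lit 4103) (nat_lit 1) (nat_lit 1) (nat_lit 0) (nat_lit 0) (nat_lit 1) (nat_lit 4112) (nat_lit 0x40020010008004002001) (nat_lit 0) (nat_lit 1) (nat_lit 0) (nat_lit 1) (nat_lit 0) (nat_lit 1) (nat_lit 0) .nil) (.cD (nat_lit 48) (.kA true (nat_lit 0x400300500800100400100300c001002)) (.cD (nat_lit 52) (.kA true (nat_lit 0x400700100800100400100300c001002)) .nil)))))))) (.cD (nat_lit 32) (.kF (nat_lit 16) (nat_lit 0x100400100c012008002002000003)) (.cD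 (nat_lit 36) (.kF (nat_lit 16) (nat_lit 0x100400100c012008002002000003)) (.cD (nat_lit 48) (.dfs (nat_lit 32) (nat_lit 4100) (nat_lit 4100) (nat_lit 0x1002001) (nat_lit 0x1002001) (nat_lit 0) (nat_lit 0) (nat_lit 3) (nat_lit 0) (nat_lit 0) (nat_lit 0) (nat_lit 1) (nat_lit 0) (nat_lit 1) (nat_lit 0) (nat_lit 1) (nat_lit 0x11001100110010) (.cD (nat_lit 4) (.kc (nat_lit 36) (nat_lit 0x5001001)) (.cD (nat_lit 16) (.kA true (nat_lit 0x400200100800100400100300c001002)) (.cD (nat_lit 20) (.kA true (nat_lit 0x400600500800100400100300c001002)) (.cD (nat_lit 32) (.kA true (nat_lit 0x200400c01000800500100300e001002002000003)) (.cD (nat_lit 36) (.kA true (nat_lit 0x400500600800100400100300c001002)) (.cD (nat_lit 48) (.kc (nat_lit 48) (nat_lit 0x3001001)) (.cD (nat_lit 52) (.kc (nat_lit 52) (nat_lit 0x7001001)) .nil)))))))) (.cD (nat_lit 52) (.dfs (nat_lit 32) (nat_lit 4100) (nat_lit 4100) (nat_lit 0x1002001) (nat_lit 0x1002001) (nat_lit 0) (nat_lit 0) (nat_lit 3)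 (nat_lit 0) (nat_lit 0) (nat_lit 0) (nat_lit 1) (nat_lit 0) (nat_lit 1) (nat_lit 0) (nat_lit 1) (nat_lit 0x11001100110010) (.cD (nat_lit 4) (.kc (nat_lit 36) (nat_lit 0x5001001)) (.cD (nat_lit 16) (.kA true (nat_lit 0x400200500800100400100300c001002)) (.cD (nat_lit 20) (.kA true (nat_lit 0x400600100800100400100300c001002)) (.cD (nat_lit 32) (.kA true (nat_lit 0x4001003008001002004008012008002002000003)) (.cD (nat_lit 36) (.kA true (nat_lit 0x400500200800100400100300c001002)) (.cD (nat_lit 48) (.kc (nat_lit 52) (nat_lit 0x7001001)) (.cD (nat_lit 52) (.kc (nat_lit 48) (nat_lit 0x3001001)) .nil)))))))) .nil)))))))) (.cD (nat_lit 8) (.dfs (nat_lit 16) (nat_lit 4098) (nat_lit 4098) (nat_lit 4097) (nat_lit 4097) (nat_lit 0) (nat_lit 0) (nat_lit 3) (nat_lit 0) (nat_lit 0) (nat_lit 0) (nat_lit 1) (nat_lit 0) (nat_lit 1) (nat_lit 0) (nat_lit 1) (nat_lit 0x101010101010100) (.cD (nat_lit 8) (.kc (nat_lit 20) (nat_lit 0x3001001)) (.cD (nat_lit 16) (.dfs (nat_lit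 32) (nat_lit 4100) (nat_lit 4100) (nat_lit 0x1002001) (nat_lit 0x1002001) (nat_lit 0) (nat_lit 0) (nat_lit 3) (nat_lit 0) (nat_lit 0) (nat_lit 0) (nat_lit 1) (nat_lit 0) (nat_lit 1) (nat_lit 0) (nat_lit 1) (nat_lit 0x101010101010100) (.cD (nat_lit 8) (.kc (nat_lit 36) (nat_lit 0x5001001)) (.cD (nat_lit 16) (.kc (nat_lit 48) (nat_lit 0x3001001)) (.cD (nat_lit 24) (.kc (nat_lit 52) (nat_lit 0x7001001)) (.cD (nat_lit 32) (.kA false (nat_lit 0x400100200c002008010020050003001001000003)) (.cD (nat_lit 40) (.kA false (nat_lit 0x100100000400500200d002001001000003)) (.cD (nat_lit 48) (.kA false (nat_lit 0x600800c01000800400300200b002001001000003)) (.cD (nat_lit 56) (.kA false (nat_lit 0x400700200c002008010020050003001001000003)) .nil)))))))) (.cD (nat_lit 24) (.dfs (nat_lit 32) (nat_lit 4100) (nat_lit 4100) (nat_lit 0x1002001) (nat_lit 0x1002001) (nat_lit 0) (nat_lit 0) (nat_lit 3) (nat_lit 0) (nat_lit 0) (nat_lit 0) (nat_lit 1) (nat_lit 0) (nat_lit 1) (nat_lit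 0) (nat_lit 1) (nat_lit 0x101010101010100) (.cD (nat_lit 8) (.kc (nat_lit 36) (nat_lit 0x5001001)) (.cD (nat_lit 16) (.kc (nat_lit 52) (nat_lit 0x7001001)) (.cD (nat_lit 24) (.kc (nat_lit 48) (nat_lit 0x3001001)) (.cD (nat_lit 32) (.kA false (nat_lit 0x400100600c002008010020050003001001000003)) (.cD (nat_lit 40) (.kA false (nat_lit 0x100100000400500600d002001001000003)) (.cD (nat_lit 48) (.kA false (nat_lit 0x400700600c002008010020050003001001000003)) (.cD (nat_lit 56) (.kA false (nat_lit 0x600800a01000800400300600b002001001000003)) .nil)))))))) (.cD (nat_lit 32) (.kF (nat_lit 16) (nat_lit 0x100400100c012008002002000003)) (.cD (nat_lit 40) (.kF (nat_lit 16) (nat_lit 0x100400100c012008002002000003)) (.cD (nat_lit 48) (.dfs (nat_lit 32) (nat_lit 4100) (nat_lit 4100) (nat_lit 0x1002001) (nat_lit 0x1002001) (nat_lit 0) (nat_lit 0) (nat_lit 3) (nat_lit 0) (nat_lit 0) (nat_lit 0) (nat_lit 1) (nat_lit 0) (nat_lit 1) (nat_lit 0) (nat_lit 1) (nat_lit 0x101010101010100)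 (.cD (nat_lit 8) (.kc (nat_lit 36) (nat_lit 0x5001001)) (.cD (nat_lit 16) (.kA false (nat_lit 0x600800401000800400300100b002001001000003)) (.cD (nat_lit 24) (.kA false (nat_lit 0x400700500c002008010020050003001001000003)) (.cD (nat_lit 32) (.kA false (nat_lit 0x400100300c002008010020050003001001000003)) (.cD (nat_lit 40) (.kA false (nat_lit 0x100100000400500700d002001001000003)) (.cD (nat_lit 48) (.kc (nat_lit 48) (nat_lit 0x3001001)) (.cD (nat_lit 56) (.kc (nat_lit 52) (nat_lit 0x7001001)) .nil)))))))) (.cD (nat_lit 56) (.dfs (nat_lit 32) (nat_lit 4100) (nat_lit 4100) (nat_lit 0x1002001) (nat_lit 0x1002001) (nat_lit 0) (nat_lit 0) (nat_lit 3) (nat_lit 0) (nat_lit 0) (nat_lit 0) (nat_lit 1) (nat_lit 0) (nat_lit 1) (nat_lit 0) (nat_lit 1) (nat_lit 0x101010101010100) (.cD (nat_lit 8) (.kc (nat_lit 36) (nat_lit 0x5001001)) (.cD (nat_lit 16) (.kA false (nat_lit 0x400700100c002008010020050003001001000003)) (.cD (nat_lit 24) (.kA false (nat_lit 0x600800201000800400300500b002001001000003))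 (.cD (nat_lit 32) (.kA false (nat_lit 0x400100700c002008010020050003001001000003)) (.cD (nat_lit 40) (.kA false (nat_lit 0x100100000400500300d002001001000003)) (.cD (nat_lit 48) (.kc (nat_lit 52) (nat_lit 0x7001001)) (.cD (nat_lit 56) (.kc (nat_lit 48) (nat_lit 0x3001001)) .nil)))))))) .nil)))))))) (.cD (nat_lit 16) (.kF (nat_lit 4) (nat_lit 0x2002000001003001002)) (.cD (nat_lit 20) (.kF (nat_lit 4) (nat_lit 0xe01e007001003001002)) (.cD (nat_lit 24) (.kF (nat_lit 4) (nat_lit 0x1002001002012008002002000003)) (.cD (nat_lit 32) (.dfs (nat_lit 16) (nat_lit 4098) (nat_lit 4098) (nat_lit 4097) (nat_lit 4097) (nat_lit 0) (nat_lit 0) (nat_lit 3) (nat_lit 0) (nat_lit 0) (nat_lit 0) (nat_lit 1) (nat_lit 0) (nat_lit 0x1008004) (nat_lit 32772) (nat_lit 0x1001004000008001014000018) (nat_lit 0x1000101110110) (.cD (nat_lit 4) (.kF (nat_lit 16) (nat_lit 0x1001000001006001002)) (.cD (nat_lit 8) (.kF (nat_lit 16) (nat_lit 0x1001000001006001002)) (.cD (nat_lit 16) (.dfs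 (nat_lit 32) (nat_lit 4100) (nat_lit 4100) (nat_lit 0x1002001) (nat_lit 0x1002001) (nat_lit 0) (nat_lit 0) (nat_lit 3) (nat_lit 0) (nat_lit 0) (nat_lit 0) (nat_lit 1) (nat_lit 0) (nat_lit 0x1008004) (nat_lit 32772) (nat_lit 0x1001004000008001014000018) (nat_lit 0x1000101110110) (.cD (nat_lit 4) (.kA true (nat_lit 0x100400600c002001001000002)) (.cD (nat_lit 8) (.kA false (nat_lit 0x100400200c002001001000002)) (.cD (nat_lit 16) (.kc (nat_lit 48) (nat_lit 0x3001001)) (.cD (nat_lit 20) (.kA true (nat_lit 0x300400600c002001001000002)) (.cD (nat_lit 24) (.kA false (nat_lit 0x300400200c002001001000002)) (.cD (nat_lit 32) (.kc (nat_lit 36) (nat_lit 0x5001001)) (.cD (nat_lit 48) (.kc (nat_lit 52) (nat_lit 0x7001001)) .nil)))))))) (.cD (nat_lit 20) (.dfs (nat_lit 32) (nat_lit 4100) (nat_lit 4100) (nat_lit 0x1002001) (nat_lit 0x1002001) (nat_lit 0) (nat_lit 0) (nat_lit 3) (nat_lit 0) (nat_lit 0) (nat_lit 0) (nat_lit 1) (nat_lit 0) (nat_lit 1) (nat_lit 0) (nat_lit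 1) (nat_lit 0x11001100110010) (.cD (nat_lit 4) (.kA true (nat_lit 0x100400700c002001001000002)) (.cD (nat_lit 16) (.kA true (nat_lit 0x300400500c002001001000002)) (.cD (nat_lit 20) (.kc (nat_lit 48) (nat_lit 0x3001001)) (.cD (nat_lit 32) (.kc (nat_lit 36) (nat_lit 0x5001001)) (.cD (nat_lit 36) (.dfs (nat_lit 9) (nat_lit 4100) (nat_lit 4101) (nat_lit 1) (nat_lit 1) (nat_lit 0) (nat_lit 0) (nat_lit 1) (nat_lit 4128) (nat_lit 0x40020010008004002001) (nat_lit 0) (nat_lit 1) (nat_lit 0) (nat_lit 1) (nat_lit 0) (nat_lit 1) (nat_lit 0) .nil) (.cD (nat_lit 48) (.kA true (nat_lit 0x700400100c002001001000002)) (.cD (nat_lit 52) (.kc (nat_lit 52) (nat_lit 0x7001001)) .nil)))))))) (.cD (nat_lit 24) (.dfs (nat_lit 32) (nat_lit 4100) (nat_lit 4100) (nat_lit 0x1002001) (nat_lit 0x1002001) (nat_lit 0) (nat_lit 0) (nat_lit 3) (nat_lit 0) (nat_lit 0) (nat_lit 0) (nat_lit 1) (nat_lit 0) (nat_lit 1) (nat_lit 0) (nat_lit 1) (nat_lit 0x101010101010100) (.cD (nat_lit 8) (.kA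 false (nat_lit 0x100400300c002001001000002)) (.cD (nat_lit 16) (.kA false (nat_lit 0x300400100c002001001000002)) (.cD (nat_lit 24) (.kc (nat_lit 48) (nat_lit 0x3001001)) (.cD (nat_lit 32) (.kc (nat_lit 36) (nat_lit 0x5001001)) (.cD (nat_lit 40) (.kA false (nat_lit 0x500400700c002001001000002)) (.cD (nat_lit 48) (.kA false (nat_lit 0x700400500c002001001000002)) (.cD (nat_lit 56) (.kc (nat_lit 52) (nat_lit 0x7001001)) .nil)))))))) (.cD (nat_lit 32) (.kc (nat_lit 20) (nat_lit 0x3001001)) (.cD (nat_lit 48) (.dfs (nat_lit 32) (nat_lit 4100) (nat_lit 4100) (nat_lit 0x1002001) (nat_lit 0x1002001) (nat_lit 0) (nat_lit 0) (nat_lit 3) (nat_lit 0) (nat_lit 0) (nat_lit 0) (nat_lit 1) (nat_lit 0) (nat_lit 0x1008004) (nat_lit 32772) (nat_lit 0x1001004000008001014000018) (nat_lit 0x1000101110110) (.cD (nat_lit 4) (.kA true (nat_lit 0x100400200c002001001000002)) (.cD (nat_lit 8) (.kA false (nat_lit 0x100400600c002001001000002)) (.cD (nat_lit 16) (.kc (nat_lit 52) (nat_lit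 0x7001001)) (.cD (nat_lit 20) (.kA true (nat_lit 0x700400200c002001001000002)) (.cD (nat_lit 24) (.kA false (nat_lit 0x700400600c002001001000002)) (.cD (nat_lit 32) (.kc (nat_lit 36) (nat_lit 0x5001001)) (.cD (nat_lit 48) (.kc (nat_lit 48) (nat_lit 0x3001001)) .nil)))))))) .nil)))))))) (.cD (nat_lit 48) (.kF (nat_lit 4) (nat_lit 0x1002001002012008002002000003)) .nil)))))))))
theorem c697 : (chk [(x301, s626), (x301, s624)] [] p697).n x301 s697 = true := by decide +kernel
noncomputable def p698 : Pf := (.ext (nat_lit 0) (nat_lit 0) (nat_lit 0x1040010020008002) (nat_lit 0x16008004002001006001001000010008004002001005003) (nat_lit 0x2004008016) (nat_lit 0x1004001) (nat_lit 0x1005001) (nat_lit 0x10008004006005014008004002001) (.dfs (nat_lit 1) (nat_lit 0x1002004008016) (nat_lit 0x1002004008012) (nat_lit 0x1010001) (nat_lit 0x1014001) (nat_lit 0) (nat_lit 0) (nat_lit 2) (nat_lit 0) (nat_lit 0) (nat_lit 1) (nat_lit 1) (nat_lit 0) (nat_lit 1) (nat_lit 0) (nat_lit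 1) (nat_lit 0x202020202020202) (.cD (nat_lit 1) (.dfs (nat_lit 4) (nat_lit 0x100400801002c) (nat_lit 0x100c008010024) (nat_lit 0x1020002001) (nat_lit 0x102000a001) (nat_lit 0) (nat_lit 0) (nat_lit 2) (nat_lit 0) (nat_lit 0) (nat_lit 5) (nat_lit 1) (nat_lit 0) (nat_lit 4104) (nat_lit 8) (nat_lit 0x1000005000015) (nat_lit 0x200020) (.cD (nat_lit 5) (.kS (nat_lit 1) (nat_lit 0x10001030070001006004008018003002002000001010030040001004) (nat_lit 4126) (nat_lit 0x8004002003) (nat_lit 0x200200000400600801000d00400301003005800e00100200200000600400801800100401000103007003f002006)) (.cD (nat_lit 21) (.kA true (nat_lit 0xe004008010003001010030050001001001000003)) .nil))) (.cD (nat_lit 9) (.kS (nat_lit 0) (nat_lit 0x4004000004008010020001002) (nat_lit 0x1029022) (nat_lit 0x8004002005010008004006001) (nat_lit 0xc00801002800100a001005005000004008010020001002002004004000004)) (.cD (nat_lit 17) (.dfs (nat_lit 4) (nat_lit 0x100400801002c) (nat_lit 0x100c008010024) (nat_lit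 0x1020002001) (nat_lit 0x102000a001) (nat_lit 0) (nat_lit 0) (nat_lit 2) (nat_lit 0) (nat_lit 0) (nat_lit 5) (nat_lit 1) (nat_lit 0) (nat_lit 4104) (nat_lit 8) (nat_lit 0x1000005000015) (nat_lit 0x200020) (.cD (nat_lit 5) (.kA true (nat_lit 0x3010030058001001010030040001002)) (.cD (nat_lit 21) (.kA true (nat_lit 0x23010030058001001010030040001002)) .nil))) (.cD (nat_lit 25) (.kS (nat_lit 0) (nat_lit 0x4004000004008010020001002) (nat_lit 0x1039022) (nat_lit 0x8004002005010008004006001) (nat_lit 0xc00801002800100a001005005000004008010020001002002004004000004)) (.cD (nat_lit 33) (.dfs (nat_lit 4) (nat_lit 0x100400801002c) (nat_lit 0x100c008010024) (nat_lit 0x1020002001) (nat_lit 0x102000a001) (nat_lit 0) (nat_lit 0) (nat_lit 2) (nat_lit 0) (nat_lit 0) (nat_lit 5) (nat_lit 1) (nat_lit 0) (nat_lit 4104) (nat_lit 8) (nat_lit 0x1000005000015) (nat_lit 0x200020) (.cD (nat_lit 5) (.cut (nat_lit 0)) (.cD (nat_lit 21) (.kA true (nat_lit 0xe004008010003001010030050001001001000003))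 .nil))) (.cD (nat_lit 41) (.kS (nat_lit 0) (nat_lit 0x4004000004008010020001002) (nat_lit 0x1009022) (nat_lit 0x8004002005010008004006001) (nat_lit 0xc00801002800100a001005005000004008010020001002002004004000004)) (.cD (nat_lit 49) (.dfs (nat_lit 4) (nat_lit 0x100400801002c) (nat_lit 0x100c008010024) (nat_lit 0x1020002001) (nat_lit 0x102000a001) (nat_lit 0) (nat_lit 0) (nat_lit 2) (nat_lit 0) (nat_lit 0) (nat_lit 5) (nat_lit 1) (nat_lit 0) (nat_lit 4104) (nat_lit 8) (nat_lit 0x1000005000015) (nat_lit 0x200020) (.cD (nat_lit 5) (.kA true (nat_lit 0x3010030058001001010030040001002)) (.cD (nat_lit 21) (.kA true (nat_lit 0x23010030058001001010030040001002)) .nil))) (.cD (nat_lit 57) (.kS (nat_lit 0) (nat_lit 0x4004000004008010020001002) (nat_lit 0x1019022) (nat_lit 0x8004002005010008004006001) (nat_lit 0xc00801002800100a001005005000004008010020001002002004004000004)) .nil))))))))))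
theorem c698 : (chk [(x301, s697)] [] p698).n x301 s698 = true := by decide +kernel
noncomputable def p699 : Pf := (.anc (nat_lit 68) (nat_lit 0x10006002002000002) (nat_lit 0x1009020010004) (.dfs (nat_lit 4) (nat_lit 4097) (nat_lit 4097) (nat_lit 1) (nat_lit 1) (nat_lit 0) (nat_lit 0) (nat_lit 3) (nat_lit 0) (nat_lit 0) (nat_lit 0) (nat_lit 1) (nat_lit 0) (nat_lit 0x1008004) (nat_lit 32772) (nat_lit 0x1001004000008001014000018) (nat_lit 0x1000101110110) (.cD (nat_lit 4) (.dfs (nat_lit 16) (nat_lit 4098) (nat_lit 4098) (nat_lit 4097) (nat_lit 4097) (nat_lit 0) (nat_lit 0) (nat_lit 3) (nat_lit 0) (nat_lit 0) (nat_lit 0) (nat_lit 1) (nat_lit 0) (nat_lit 1) (nat_lit 0) (nat_lit 1) (nat_lit 0x11001100110010) (.cD (nat_lit 4) (.kc (nat_lit 20) (nat_lit 0x3001001)) (.cD (nat_lit 16) (.dfs (nat_lit 32) (nat_lit 4100) (nat_lit 4100) (nat_lit 0x1002001) (nat_lit 0x1002001) (nat_lit 0) (nat_lit 0) (nat_lit 3) (nat_lit 0) (nat_lit 0) (nat_lit 0) (nat_lit 1) (nat_lit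 0) (nat_lit 1) (nat_lit 0) (nat_lit 1) (nat_lit 0x11001100110010) (.cD (nat_lit 4) (.kc (nat_lit 36) (nat_lit 0x5001001)) (.cD (nat_lit 16) (.kc (nat_lit 48) (nat_lit 0x3001001)) (.cD (nat_lit 20) (.kc (nat_lit 52) (nat_lit 0x7001001)) (.cD (nat_lit 32) (.dfs (nat_lit 9) (nat_lit 0x1004001003008) (nat_lit 0x1005001003008) (nat_lit 4098) (nat_lit 4098) (nat_lit 0) (nat_lit 0) (nat_lit 2) (nat_lit 1) (nat_lit 0) (nat_lit 8) (nat_lit 1) (nat_lit 0) (nat_lit 4100) (nat_lit 4) (nat_lit 0x1000008000018) (nat_lit 0x1000100) (.cD (nat_lit 8) (.cut (nat_lit 1)) (.cD (nat_lit 24) (.cut (nat_lit 0)) .nil))) (.cD (nat_lit 36) (.kA true (nat_lit 0x100100000400100300d001001001000003)) (.cD (nat_lit 48) (.kA true (nat_lit 0x600800401000800400100300d001001001000003)) (.cD (nat_lit 52) (.kA true (nat_lit 0x800a00601e00700500100300e001002002000003)) .nil)))))))) (.cD (nat_lit 20) (.dfs (nat_lit 32) (nat_lit 4100) (nat_lit 4100) (nat_lit 0x1002001) (nat_lit 0x1002001) (nat_lit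 0) (nat_lit 0) (nat_lit 3) (nat_lit 0) (nat_lit 0) (nat_lit 0) (nat_lit 1) (nat_lit 0) (nat_lit 1) (nat_lit 0) (nat_lit 1) (nat_lit 0x11001100110010) (.cD (nat_lit 4) (.kc (nat_lit 36) (nat_lit 0x5001001)) (.cD (nat_lit 16) (.kc (nat_lit 52) (nat_lit 0x7001001)) (.cD (nat_lit 20) (.kc (nat_lit 48) (nat_lit 0x3001001)) (.cD (nat_lit 32) (.kA true (nat_lit 0x200200000500100300e001002002000003)) (.cD (nat_lit 36) (.dfs (nat_lit 9) (nat_lit 4102) (nat_lit 4103) (nat_lit 1) (nat_lit 1) (nat_lit 0) (nat_lit 0) (nat_lit 1) (nat_lit 4112) (nat_lit 0x40020010008004002001) (nat_lit 0) (nat_lit 1) (nat_lit 0) (nat_lit 1) (nat_lit 0) (nat_lit 1) (nat_lit 0) .nil) (.cD (nat_lit 48) (.kA true (nat_lit 0x400300500800100400100300c001002)) (.cD (nat_lit 52) (.kA true (nat_lit 0x400700100800100400100300c001002)) .nil)))))))) (.cD (nat_lit 32) (.kF (nat_lit 16) (nat_lit 0x100400100c012008002002000003)) (.cD (nat_lit 36) (.kF (nat_lit 16) (nat_lit 0x100400100c012008002002000003))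 (.cD (nat_lit 48) (.dfs (nat_lit 32) (nat_lit 4100) (nat_lit 4100) (nat_lit 0x1002001) (nat_lit 0x1002001) (nat_lit 0) (nat_lit 0) (nat_lit 3) (nat_lit 0) (nat_lit 0) (nat_lit 0) (nat_lit 1) (nat_lit 0) (nat_lit 1) (nat_lit 0) (nat_lit 1) (nat_lit 0x11001100110010) (.cD (nat_lit 4) (.kc (nat_lit 36) (nat_lit 0x5001001)) (.cD (nat_lit 16) (.kA true (nat_lit 0x400200100800100400100300c001002)) (.cD (nat_lit 20) (.kA true (nat_lit 0x400600500800100400100300c001002)) (.cD (nat_lit 32) (.kA true (nat_lit 0x200400c01000800500100300e001002002000003)) (.cD (nat_lit 36) (.kA true (nat_lit 0x400500600800100400100300c001002)) (.cD (nat_lit 48) (.kc (nat_lit 48) (nat_lit 0x3001001)) (.cD (nat_lit 52) (.kc (nat_lit 52) (nat_lit 0x7001001)) .nil)))))))) (.cD (nat_lit 52) (.dfs (nat_lit 32) (nat_lit 4100) (nat_lit 4100) (nat_lit 0x1002001) (nat_lit 0x1002001) (nat_lit 0) (nat_lit 0) (nat_lit 3) (nat_lit 0) (nat_lit 0) (nat_lit 0) (nat_lit 1) (nat_lit 0) (nat_lit 1)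 (nat_lit 0) (nat_lit 1) (nat_lit 0x11001100110010) (.cD (nat_lit 4) (.kc (nat_lit 36) (nat_lit 0x5001001)) (.cD (nat_lit 16) (.kA true (nat_lit 0x400200500800100400100300c001002)) (.cD (nat_lit 20) (.kA true (nat_lit 0x400600100800100400100300c001002)) (.cD (nat_lit 32) (.kA true (nat_lit 0x4001003008001002004008012008002002000003)) (.cD (nat_lit 36) (.kA true (nat_lit 0x400500200800100400100300c001002)) (.cD (nat_lit 48) (.kc (nat_lit 52) (nat_lit 0x7001001)) (.cD (nat_lit 52) (.kc (nat_lit 48) (nat_lit 0x3001001)) .nil)))))))) .nil)))))))) (.cD (nat_lit 8) (.dfs (nat_lit 16) (nat_lit 4098) (nat_lit 4098) (nat_lit 4097) (nat_lit 4097) (nat_lit 0) (nat_lit 0) (nat_lit 3) (nat_lit 0) (nat_lit 0) (nat_lit 0) (nat_lit 1) (nat_lit 0) (nat_lit 1) (nat_lit 0) (nat_lit 1) (nat_lit 0x101010101010100) (.cD (nat_lit 8) (.kc (nat_lit 20) (nat_lit 0x3001001)) (.cD (nat_lit 16) (.dfs (nat_lit 32) (nat_lit 4100) (nat_lit 4100) (nat_lit 0x1002001) (nat_lit 0x1002001)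 (nat_lit 0) (nat_lit 0) (nat_lit 3) (nat_lit 0) (nat_lit 0) (nat_lit 0) (nat_lit 1) (nat_lit 0) (nat_lit 1) (nat_lit 0) (nat_lit 1) (nat_lit 0x101010101010100) (.cD (nat_lit 8) (.kc (nat_lit 36) (nat_lit 0x5001001)) (.cD (nat_lit 16) (.kc (nat_lit 48) (nat_lit 0x3001001)) (.cD (nat_lit 24) (.kc (nat_lit 52) (nat_lit 0x7001001)) (.cD (nat_lit 32) (.kA false (nat_lit 0x400100200c002008010020050003001001000003)) (.cD (nat_lit 40) (.kA false (nat_lit 0x100100000400500200d002001001000003)) (.cD (nat_lit 48) (.kA false (nat_lit 0x600800c01000800400300200b002001001000003)) (.cD (nat_lit 56) (.kA false (nat_lit 0x400700200c002008010020050003001001000003)) .nil)))))))) (.cD (nat_lit 24) (.dfs (nat_lit 32) (nat_lit 4100) (nat_lit 4100) (nat_lit 0x1002001) (nat_lit 0x1002001) (nat_lit 0) (nat_lit 0) (nat_lit 3) (nat_lit 0) (nat_lit 0) (nat_lit 0) (nat_lit 1) (nat_lit 0) (nat_lit 1) (nat_lit 0) (nat_lit 1) (nat_lit 0x101010101010100) (.cD (nat_lit 8) (.kc (nat_lit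 36) (nat_lit 0x5001001)) (.cD (nat_lit 16) (.kc (nat_lit 52) (nat_lit 0x7001001)) (.cD (nat_lit 24) (.kc (nat_lit 48) (nat_lit 0x3001001)) (.cD (nat_lit 32) (.kA false (nat_lit 0x400100600c002008010020050003001001000003)) (.cD (nat_lit 40) (.kA false (nat_lit 0x100100000400500600d002001001000003)) (.cD (nat_lit 48) (.kA false (nat_lit 0x400700600c002008010020050003001001000003)) (.cD (nat_lit 56) (.kA false (nat_lit 0x600800a01000800400300600b002001001000003)) .nil)))))))) (.cD (nat_lit 32) (.kF (nat_lit 16) (nat_lit 0x100400100c012008002002000003)) (.cD (nat_lit 40) (.kF (nat_lit 16) (nat_lit 0x100400100c012008002002000003)) (.cD (nat_lit 48) (.dfs (nat_lit 32) (nat_lit 4100) (nat_lit 4100) (nat_lit 0x1002001) (nat_lit 0x1002001) (nat_lit 0) (nat_lit 0) (nat_lit 3) (nat_lit 0) (nat_lit 0) (nat_lit 0) (nat_lit 1) (nat_lit 0) (nat_lit 1) (nat_lit 0) (nat_lit 1) (nat_lit 0x101010101010100) (.cD (nat_lit 8) (.kc (nat_lit 36) (nat_lit 0x5001001)) (.cD (nat_lit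 16) (.kA false (nat_lit 0x600800401000800400300100b002001001000003)) (.cD (nat_lit 24) (.kA false (nat_lit 0x400700500c002008010020050003001001000003)) (.cD (nat_lit 32) (.kA false (nat_lit 0x400100300c002008010020050003001001000003)) (.cD (nat_lit 40) (.kA false (nat_lit 0x100100000400500700d002001001000003)) (.cD (nat_lit 48) (.kc (nat_lit 48) (nat_lit 0x3001001)) (.cD (nat_lit 56) (.kc (nat_lit 52) (nat_lit 0x7001001)) .nil)))))))) (.cD (nat_lit 56) (.dfs (nat_lit 32) (nat_lit 4100) (nat_lit 4100) (nat_lit 0x1002001) (nat_lit 0x1002001) (nat_lit 0) (nat_lit 0) (nat_lit 3) (nat_lit 0) (nat_lit 0) (nat_lit 0) (nat_lit 1) (nat_lit 0) (nat_lit 1) (nat_lit 0) (nat_lit 1) (nat_lit 0x101010101010100) (.cD (nat_lit 8) (.kc (nat_lit 36) (nat_lit 0x5001001)) (.cD (nat_lit 16) (.kA false (nat_lit 0x400700100c002008010020050003001001000003)) (.cD (nat_lit 24) (.kA false (nat_lit 0x600800201000800400300500b002001001000003)) (.cD (nat_lit 32) (.kA false (nat_lit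 0x400100700c002008010020050003001001000003)) (.cD (nat_lit 40) (.kA false (nat_lit 0x100100000400500300d002001001000003)) (.cD (nat_lit 48) (.kc (nat_lit 52) (nat_lit 0x7001001)) (.cD (nat_lit 56) (.kc (nat_lit 48) (nat_lit 0x3001001)) .nil)))))))) .nil)))))))) (.cD (nat_lit 16) (.kF (nat_lit 4) (nat_lit 0x2002000001003001002)) (.cD (nat_lit 20) (.kF (nat_lit 4) (nat_lit 0xe01e007001003001002)) (.cD (nat_lit 24) (.kF (nat_lit 4) (nat_lit 0x1002001002012008002002000003)) (.cD (nat_lit 32) (.dfs (nat_lit 16) (nat_lit 4098) (nat_lit 4098) (nat_lit 4097) (nat_lit 4097) (nat_lit 0) (nat_lit 0) (nat_lit 3) (nat_lit 0) (nat_lit 0) (nat_lit 0) (nat_lit 1) (nat_lit 0) (nat_lit 0x1008004) (nat_lit 32772) (nat_lit 0x1001004000008001014000018) (nat_lit 0x1000101110110) (.cD (nat_lit 4) (.kF (nat_lit 16) (nat_lit 0x1001000001006001002)) (.cD (nat_lit 8) (.kF (nat_lit 16) (nat_lit 0x1001000001006001002)) (.cD (nat_lit 16) (.dfs (nat_lit 32) (nat_lit 4100) (nat_lit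 4100) (nat_lit 0x1002001) (nat_lit 0x1002001) (nat_lit 0) (nat_lit 0) (nat_lit 3) (nat_lit 0) (nat_lit 0) (nat_lit 0) (nat_lit 1) (nat_lit 0) (nat_lit 0x1008004) (nat_lit 32772) (nat_lit 0x1001004000008001014000018) (nat_lit 0x1000101110110) (.cD (nat_lit 4) (.kA true (nat_lit 0x100400600c002001001000002)) (.cD (nat_lit 8) (.kA false (nat_lit 0x100400200c002001001000002)) (.cD (nat_lit 16) (.kc (nat_lit 48) (nat_lit 0x3001001)) (.cD (nat_lit 20) (.kA true (nat_lit 0x300400600c002001001000002)) (.cD (nat_lit 24) (.kA false (nat_lit 0x300400200c002001001000002)) (.cD (nat_lit 32) (.kc (nat_lit 36) (nat_lit 0x5001001)) (.cD (nat_lit 48) (.kc (nat_lit 52) (nat_lit 0x7001001)) .nil)))))))) (.cD (nat_lit 20) (.dfs (nat_lit 32) (nat_lit 4100) (nat_lit 4100) (nat_lit 0x1002001) (nat_lit 0x1002001) (nat_lit 0) (nat_lit 0) (nat_lit 3) (nat_lit 0) (nat_lit 0) (nat_lit 0) (nat_lit 1) (nat_lit 0) (nat_lit 1) (nat_lit 0) (nat_lit 1) (nat_lit 0x11001100110010) (.cD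 (nat_lit 4) (.kA true (nat_lit 0x100400700c002001001000002)) (.cD (nat_lit 16) (.kA true (nat_lit 0x300400500c002001001000002)) (.cD (nat_lit 20) (.kc (nat_lit 48) (nat_lit 0x3001001)) (.cD (nat_lit 32) (.kc (nat_lit 36) (nat_lit 0x5001001)) (.cD (nat_lit 36) (.dfs (nat_lit 9) (nat_lit 4100) (nat_lit 4101) (nat_lit 1) (nat_lit 1) (nat_lit 0) (nat_lit 0) (nat_lit 1) (nat_lit 4128) (nat_lit 0x40020010008004002001) (nat_lit 0) (nat_lit 1) (nat_lit 0) (nat_lit 1) (nat_lit 0) (nat_lit 1) (nat_lit 0) .nil) (.cD (nat_lit 48) (.kA true (nat_lit 0x700400100c002001001000002)) (.cD (nat_lit 52) (.kc (nat_lit 52) (nat_lit 0x7001001)) .nil)))))))) (.cD (nat_lit 24) (.dfs (nat_lit 32) (nat_lit 4100) (nat_lit 4100) (nat_lit 0x1002001) (nat_lit 0x1002001) (nat_lit 0) (nat_lit 0) (nat_lit 3) (nat_lit 0) (nat_lit 0) (nat_lit 0) (nat_lit 1) (nat_lit 0) (nat_lit 1) (nat_lit 0) (nat_lit 1) (nat_lit 0x101010101010100) (.cD (nat_lit 8) (.kA false (nat_lit 0x100400300c002001001000002))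 (.cD (nat_lit 16) (.kA false (nat_lit 0x300400100c002001001000002)) (.cD (nat_lit 24) (.kc (nat_lit 48) (nat_lit 0x3001001)) (.cD (nat_lit 32) (.kc (nat_lit 36) (nat_lit 0x5001001)) (.cD (nat_lit 40) (.kA false (nat_lit 0x500400700c002001001000002)) (.cD (nat_lit 48) (.kA false (nat_lit 0x700400500c002001001000002)) (.cD (nat_lit 56) (.kc (nat_lit 52) (nat_lit 0x7001001)) .nil)))))))) (.cD (nat_lit 32) (.kc (nat_lit 20) (nat_lit 0x3001001)) (.cD (nat_lit 48) (.dfs (nat_lit 32) (nat_lit 4100) (nat_lit 4100) (nat_lit 0x1002001) (nat_lit 0x1002001) (nat_lit 0) (nat_lit 0) (nat_lit 3) (nat_lit 0) (nat_lit 0) (nat_lit 0) (nat_lit 1) (nat_lit 0) (nat_lit 0x1008004) (nat_lit 32772) (nat_lit 0x1001004000008001014000018) (nat_lit 0x1000101110110) (.cD (nat_lit 4) (.kA true (nat_lit 0x100400200c002001001000002)) (.cD (nat_lit 8) (.kA false (nat_lit 0x100400600c002001001000002)) (.cD (nat_lit 16) (.kc (nat_lit 52) (nat_lit 0x7001001)) (.cD (nat_lit 20) (.kA true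 (nat_lit 0x700400200c002001001000002)) (.cD (nat_lit 24) (.kA false (nat_lit 0x700400600c002001001000002)) (.cD (nat_lit 32) (.kc (nat_lit 36) (nat_lit 0x5001001)) (.cD (nat_lit 48) (.kc (nat_lit 48) (nat_lit 0x3001001)) .nil)))))))) .nil)))))))) (.cD (nat_lit 48) (.kF (nat_lit 4) (nat_lit 0x1002001002012008002002000003)) .nil)))))))))
theorem c699 : (chk [(x301, s693), (x301, s689)] [] p699).n x301 s699 = true := by decide +kernel
noncomputable def p700 : Pf := (.ext (nat_lit 0) (nat_lit 0) (nat_lit 0x1040010020008002) (nat_lit 0x16008004002001006001001000010008004002001005003) (nat_lit 0x2004008016) (nat_lit 0x1004001) (nat_lit 0x1005001) (nat_lit 0x10008004006005014008004002001) (.dfs (nat_lit 1) (nat_lit 0x1002004008016) (nat_lit 0x1002004008012) (nat_lit 0x1010001) (nat_lit 0x1014001) (nat_lit 0) (nat_lit 0) (nat_lit 2) (nat_lit 0) (nat_lit 0) (nat_lit 1) (nat_lit 1) (nat_lit 0) (nat_lit 1) (nat_lit 0) (nat_lit 1) (nat_lit 0x202020202020202) (.cD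 (nat_lit 1) (.dfs (nat_lit 4) (nat_lit 0x100400801002c) (nat_lit 0x100c008010024) (nat_lit 0x1020002001) (nat_lit 0x102000a001) (nat_lit 0) (nat_lit 0) (nat_lit 2) (nat_lit 0) (nat_lit 0) (nat_lit 5) (nat_lit 1) (nat_lit 0) (nat_lit 4104) (nat_lit 8) (nat_lit 0x1000005000015) (nat_lit 0x200020) (.cD (nat_lit 5) (.cut (nat_lit 0)) (.cD (nat_lit 21) (.kA true (nat_lit 0xe004008010003001010030050001001001000003)) .nil))) (.cD (nat_lit 9) (.kS (nat_lit 0) (nat_lit 0x4004000004008010020001002) (nat_lit 0x1029022) (nat_lit 0x8004002005010008004006001) (nat_lit 0xc00801002800100a001005005000004008010020001002002004004000004)) (.cD (nat_lit 17) (.dfs (nat_lit 4) (nat_lit 0x100400801002c) (nat_lit 0x100c008010024) (nat_lit 0x1020002001) (nat_lit 0x102000a001) (nat_lit 0) (nat_lit 0) (nat_lit 2) (nat_lit 0) (nat_lit 0) (nat_lit 5) (nat_lit 1) (nat_lit 0) (nat_lit 4104) (nat_lit 8) (nat_lit 0x1000005000015) (nat_lit 0x200020) (.cD (nat_lit 5) (.kA true (nat_lit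 0x3010030058001001010030040001002)) (.cD (nat_lit 21) (.kA true (nat_lit 0x23010030058001001010030040001002)) .nil))) (.cD (nat_lit 25) (.kS (nat_lit 0) (nat_lit 0x4004000004008010020001002) (nat_lit 0x1039022) (nat_lit 0x8004002005010008004006001) (nat_lit 0xc00801002800100a001005005000004008010020001002002004004000004)) (.cD (nat_lit 33) (.dfs (nat_lit 4) (nat_lit 0x100400801002c) (nat_lit 0x100c008010024) (nat_lit 0x1020002001) (nat_lit 0x102000a001) (nat_lit 0) (nat_lit 0) (nat_lit 2) (nat_lit 0) (nat_lit 0) (nat_lit 5) (nat_lit 1) (nat_lit 0) (nat_lit 4104) (nat_lit 8) (nat_lit 0x1000005000015) (nat_lit 0x200020) (.cD (nat_lit 5) (.kS (nat_lit 1) (nat_lit 0x3013030058002002004008010003001001000001010030040001004) (nat_lit 4139) (nat_lit 0x8004002003) (nat_lit 0x100100000200600801000700400301003005800e00100100100000200400801000100400301303005801e001006)) (.cD (nat_lit 21) (.kA true (nat_lit 0xe004008010003001010030050001001001000003)) .nil))) (.cD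 (nat_lit 41) (.kS (nat_lit 0) (nat_lit 0x4004000004008010020001002) (nat_lit 0x1009022) (nat_lit 0x8004002005010008004006001) (nat_lit 0xc00801002800100a001005005000004008010020001002002004004000004)) (.cD (nat_lit 49) (.dfs (nat_lit 4) (nat_lit 0x100400801002c) (nat_lit 0x100c008010024) (nat_lit 0x1020002001) (nat_lit 0x102000a001) (nat_lit 0) (nat_lit 0) (nat_lit 2) (nat_lit 0) (nat_lit 0) (nat_lit 5) (nat_lit 1) (nat_lit 0) (nat_lit 4104) (nat_lit 8) (nat_lit 0x1000005000015) (nat_lit 0x200020) (.cD (nat_lit 5) (.kA true (nat_lit 0x3010030058001001010030040001002)) (.cD (nat_lit 21) (.kA true (nat_lit 0x23010030058001001010030040001002)) .nil))) (.cD (nat_lit 57) (.kS (nat_lit 0) (nat_lit 0x4004000004008010020001002) (nat_lit 0x1019022) (nat_lit 0x8004002005010008004006001) (nat_lit 0xc00801002800100a001005005000004008010020001002002004004000004)) .nil))))))))))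
theorem c700 : (chk [(x301, s699)] [] p700).n x301 s700 = true := by decide +kernel
noncomputable def p701 : Pf := (.ext (nat_lit 1) (nat_lit 0) (nat_lit 0x1048030020005) (nat_lit 0x10008004002003010006002001001002) (nat_lit 0x2003004008) (nat_lit 4107) (nat_lit 4107) (nat_lit 0xc004002001) (.dfs (nat_lit 11) (nat_lit 0x1002003004008) (nat_lit 0x100200300400c) (nat_lit 4097) (nat_lit 4097) (nat_lit 0) (nat_lit 0) (nat_lit 2) (nat_lit 1) (nat_lit 0) (nat_lit 11) (nat_lit 1) (nat_lit 0) (nat_lit 4160) (nat_lit 64) (nat_lit 0x100000b00000f00001b00001f) (nat_lit 0x88008800) (.cD (nat_lit 11) (.cut (nat_lit 1)) (.cD (nat_lit 15) (.kS (nat_lit 1) (nat_lit 0x2004008010005001) (nat_lit 4139) (nat_lit 0x8004002003) (nat_lit 0x8008000004002008010001001008008000004006008010001002002004008010007006005)) (.cD (nat_lit 27) (.kS (nat_lit 1) (nat_lit 0x2004008010005001) (nat_lit 4127) (nat_lit 0x8004002003) (nat_lit 0x800800000400200801000100100800800000400600801000100200200400801000d006005))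 (.cD (nat_lit 31) (.cut (nat_lit 0)) .nil))))))
theorem c701 : (chk [(x301, s698), (x301, s700)] [] p701).n x301 s701 = true := by decide +kernel
noncomputable def p702 : Pf := (.anc (nat_lit 72) (nat_lit 0x1001000014006002) (nat_lit 0x1005020010008) (.czp (nat_lit 64) (nat_lit 0) (nat_lit 0x1040020010008004) z6 (.dfs (nat_lit 8) (nat_lit 4097) (nat_lit 4097) (nat_lit 1) (nat_lit 1) (nat_lit 0) (nat_lit 0) (nat_lit 3) (nat_lit 0) (nat_lit 0) (nat_lit 0) (nat_lit 1) (nat_lit 0) (nat_lit 0x1008004) (nat_lit 32772) (nat_lit 0x1001004000008001014000018) (nat_lit 0x1000101110110) (.cD (nat_lit 4) (.dfs (nat_lit 16) (nat_lit 4098) (nat_lit 4098) (nat_lit 4097) (nat_lit 4097) (nat_lit 0) (nat_lit 0) (nat_lit 3) (nat_lit 0) (nat_lit 0) (nat_lit 0) (nat_lit 1) (nat_lit 0) (nat_lit 1) (nat_lit 0) (nat_lit 1) (nat_lit 0x11001100110010) (.cD (nat_lit 4) (.kc (nat_lit 24) (nat_lit 0x3001001)) (.cD (nat_lit 16) (.dfs (nat_lit 32) (nat_lit 4100) (nat_lit 4100) (nat_lit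 0x1002001) (nat_lit 0x1002001) (nat_lit 0) (nat_lit 0) (nat_lit 3) (nat_lit 0) (nat_lit 0) (nat_lit 0) (nat_lit 1) (nat_lit 0) (nat_lit 1) (nat_lit 0) (nat_lit 1) (nat_lit 0x11001100110010) (.cD (nat_lit 4) (.kc (nat_lit 40) (nat_lit 0x5001001)) (.cD (nat_lit 16) (.kc (nat_lit 48) (nat_lit 0x3001001)) (.cD (nat_lit 20) (.kc (nat_lit 56) (nat_lit 0x7001001)) (.cD (nat_lit 32) (.kA false (nat_lit 0x5004002008001002004008014007001001000003)) (.cD (nat_lit 36) (.kA false (nat_lit 0x100100000400100200d001001001000003)) (.cD (nat_lit 48) (.kA false (nat_lit 0x600800c01000600400100200d001001001000003)) (.cD (nat_lit 52) (.kA false (nat_lit 0x5004002008001002004008014007001001000003)) .nil)))))))) (.cD (nat_lit 20) (.dfs (nat_lit 32) (nat_lit 4100) (nat_lit 4100) (nat_lit 0x1002001) (nat_lit 0x1002001) (nat_lit 0) (nat_lit 0) (nat_lit 3) (nat_lit 0) (nat_lit 0) (nat_lit 0) (nat_lit 1) (nat_lit 0) (nat_lit 1) (nat_lit 0) (nat_lit 1) (nat_lit 0x11001100110010)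 (.cD (nat_lit 4) (.kc (nat_lit 40) (nat_lit 0x5001001)) (.cD (nat_lit 16) (.kc (nat_lit 56) (nat_lit 0x7001001)) (.cD (nat_lit 20) (.kc (nat_lit 48) (nat_lit 0x3001001)) (.cD (nat_lit 32) (.kA false (nat_lit 0x5004002008001002004008014007001001000003)) (.cD (nat_lit 36) (.kA false (nat_lit 0x100100000400100200d001001001000003)) (.cD (nat_lit 48) (.kA false (nat_lit 0x600800a01000600400100200d001001001000003)) (.cD (nat_lit 52) (.kA false (nat_lit 0x5004002008001002004008014007001001000003)) .nil)))))))) (.cD (nat_lit 32) (.kF (nat_lit 16) (nat_lit 0x4010006002002000001006001003)) (.cD (nat_lit 36) (.kF (nat_lit 16) (nat_lit 0x1001000001007001002002000003)) (.cD (nat_lit 48) (.dfs (nat_lit 32) (nat_lit 4100) (nat_lit 4100) (nat_lit 0x1002001) (nat_lit 0x1002001) (nat_lit 0) (nat_lit 0) (nat_lit 3) (nat_lit 0) (nat_lit 0) (nat_lit 0) (nat_lit 1) (nat_lit 0) (nat_lit 1) (nat_lit 0) (nat_lit 1) (nat_lit 0x11001100110010) (.cD (nat_lit 4) (.kc (nat_lit 40)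 (nat_lit 0x5001001)) (.cD (nat_lit 16) (.kA false (nat_lit 0x200c00801e00500400100200d001001001000003)) (.cD (nat_lit 20) (.kA false (nat_lit 0x200200000400100200d001001001000003)) (.cD (nat_lit 32) (.kA false (nat_lit 0x5004002008001002004008014007001001000003)) (.cD (nat_lit 36) (.kA false (nat_lit 0x100100000400100200d001001001000003)) (.cD (nat_lit 48) (.kc (nat_lit 48) (nat_lit 0x3001001)) (.cD (nat_lit 52) (.kc (nat_lit 56) (nat_lit 0x7001001)) .nil)))))))) (.cD (nat_lit 52) (.dfs (nat_lit 32) (nat_lit 4100) (nat_lit 4100) (nat_lit 0x1002001) (nat_lit 0x1002001) (nat_lit 0) (nat_lit 0) (nat_lit 3) (nat_lit 0) (nat_lit 0) (nat_lit 0) (nat_lit 1) (nat_lit 0) (nat_lit 1) (nat_lit 0) (nat_lit 1) (nat_lit 0x11001100110010) (.cD (nat_lit 4) (.kc (nat_lit 40) (nat_lit 0x5001001)) (.cD (nat_lit 16) (.kA false (nat_lit 0x200c00a01e00500400100200d001001001000003)) (.cD (nat_lit 20) (.kA false (nat_lit 0x200200000400100200d001001001000003)) (.cD (nat_lit 32)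 (.kA false (nat_lit 0x5004002008001002004008014007001001000003)) (.cD (nat_lit 36) (.kA false (nat_lit 0x100100000400100200d001001001000003)) (.cD (nat_lit 48) (.kc (nat_lit 56) (nat_lit 0x7001001)) (.cD (nat_lit 52) (.kc (nat_lit 48) (nat_lit 0x3001001)) .nil)))))))) .nil)))))))) (.cD (nat_lit 8) (.dfs (nat_lit 16) (nat_lit 4098) (nat_lit 4098) (nat_lit 4097) (nat_lit 4097) (nat_lit 0) (nat_lit 0) (nat_lit 3) (nat_lit 0) (nat_lit 0) (nat_lit 0) (nat_lit 1) (nat_lit 0) (nat_lit 1) (nat_lit 0) (nat_lit 1) (nat_lit 0x101010101010100) (.cD (nat_lit 8) (.kc (nat_lit 24) (nat_lit 0x3001001)) (.cD (nat_lit 16) (.dfs (nat_lit 32) (nat_lit 4100) (nat_lit 4100) (nat_lit 0x1002001) (nat_lit 0x1002001) (nat_lit 0) (nat_lit 0) (nat_lit 3) (nat_lit 0) (nat_lit 0) (nat_lit 0) (nat_lit 1) (nat_lit 0) (nat_lit 1) (nat_lit 0) (nat_lit 1) (nat_lit 0x101010101010100) (.cD (nat_lit 8) (.kc (nat_lit 40) (nat_lit 0x5001001)) (.cD (nat_lit 16) (.kc (nat_lit 48) (nat_lit 0x3001001))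 (.cD (nat_lit 24) (.kc (nat_lit 56) (nat_lit 0x7001001)) (.cD (nat_lit 32) (.dfs (nat_lit 5) (nat_lit 0x1004001002008) (nat_lit 0x1005001002008) (nat_lit 1) (nat_lit 1) (nat_lit 0) (nat_lit 0) (nat_lit 2) (nat_lit 0) (nat_lit 0) (nat_lit 4) (nat_lit 1) (nat_lit 0) (nat_lit 4104) (nat_lit 8) (nat_lit 0x1000004000014) (nat_lit 0x100010) (.cD (nat_lit 4) (.cut (nat_lit 1)) (.cD (nat_lit 20) (.cut (nat_lit 0)) .nil))) (.cD (nat_lit 40) (.dfs (nat_lit 5) (nat_lit 4101) (nat_lit 4100) (nat_lit 1) (nat_lit 1) (nat_lit 0) (nat_lit 0) (nat_lit 1) (nat_lit 4128) (nat_lit 0x40020010008004002001) (nat_lit 0) (nat_lit 1) (nat_lit 0) (nat_lit 1) (nat_lit 0) (nat_lit 1) (nat_lit 0) .nil) (.cD (nat_lit 48) (.kA false (nat_lit 0x5004002008001002004008014007001001000003)) (.cD (nat_lit 56) (.kA false (nat_lit 0x5004002008001002004008014007001001000003)) .nil)))))))) (.cD (nat_lit 24) (.dfs (nat_lit 32) (nat_lit 4100) (nat_lit 4100) (nat_lit 0x1002001) (nat_lit 0x1002001)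 (nat_lit 0) (nat_lit 0) (nat_lit 3) (nat_lit 0) (nat_lit 0) (nat_lit 0) (nat_lit 1) (nat_lit 0) (nat_lit 1) (nat_lit 0) (nat_lit 1) (nat_lit 0x101010101010100) (.cD (nat_lit 8) (.kc (nat_lit 40) (nat_lit 0x5001001)) (.cD (nat_lit 16) (.kc (nat_lit 56) (nat_lit 0x7001001)) (.cD (nat_lit 24) (.kc (nat_lit 48) (nat_lit 0x3001001)) (.cD (nat_lit 32) (.kA false (nat_lit 0x5004002008001002004008014007001001000003)) (.cD (nat_lit 40) (.kA false (nat_lit 0x100100000400100200d001001001000003)) (.cD (nat_lit 48) (.kA false (nat_lit 0x5004002008001002004008014007001001000003)) (.cD (nat_lit 56) (.kA false (nat_lit 0x5004002008001002004008014007001001000003)) .nil)))))))) (.cD (nat_lit 32) (.kF (nat_lit 16) (nat_lit 0x1001000006014008001006001003)) (.cD (nat_lit 40) (.kF (nat_lit 16) (nat_lit 0x1001000001007001002002000003)) (.cD (nat_lit 48) (.dfs (nat_lit 32) (nat_lit 4100) (nat_lit 4100) (nat_lit 0x1002001) (nat_lit 0x1002001) (nat_lit 0) (nat_lit 0) (nat_lit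 3) (nat_lit 0) (nat_lit 0) (nat_lit 0) (nat_lit 1) (nat_lit 0) (nat_lit 1) (nat_lit 0) (nat_lit 1) (nat_lit 0x101010101010100) (.cD (nat_lit 8) (.kc (nat_lit 40) (nat_lit 0x5001001)) (.cD (nat_lit 16) (.kA false (nat_lit 0x400200300800100400100200c001002)) (.cD (nat_lit 24) (.kA false (nat_lit 0x400600300800100400100200c001002)) (.cD (nat_lit 32) (.kA false (nat_lit 0x5004002008001002004008014007001001000003)) (.cD (nat_lit 40) (.kA false (nat_lit 0x400500300800100400100200c001002)) (.cD (nat_lit 48) (.kc (nat_lit 48) (nat_lit 0x3001001)) (.cD (nat_lit 56) (.kc (nat_lit 56) (nat_lit 0x7001001)) .nil)))))))) (.cD (nat_lit 56) (.dfs (nat_lit 32) (nat_lit 4100) (nat_lit 4100) (nat_lit 0x1002001) (nat_lit 0x1002001) (nat_lit 0) (nat_lit 0) (nat_lit 3) (nat_lit 0) (nat_lit 0) (nat_lit 0) (nat_lit 1) (nat_lit 0) (nat_lit 1) (nat_lit 0) (nat_lit 1) (nat_lit 0x101010101010100) (.cD (nat_lit 8) (.kc (nat_lit 40) (nat_lit 0x5001001)) (.cD (nat_lit 16) (.kA false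 (nat_lit 0x400200700800100400100200c001002)) (.cD (nat_lit 24) (.kA false (nat_lit 0x400600700800100400100200c001002)) (.cD (nat_lit 32) (.kA false (nat_lit 0x5004002008001002004008014007001001000003)) (.cD (nat_lit 40) (.kA false (nat_lit 0x400500700800100400100200c001002)) (.cD (nat_lit 48) (.kc (nat_lit 56) (nat_lit 0x7001001)) (.cD (nat_lit 56) (.kc (nat_lit 48) (nat_lit 0x3001001)) .nil)))))))) .nil)))))))) (.cD (nat_lit 16) (.kF (nat_lit 8) (nat_lit 0x2002000001003001002)) (.cD (nat_lit 20) (.kF (nat_lit 8) (nat_lit 0xe01e005001003001002)) (.cD (nat_lit 24) (.kF (nat_lit 8) (nat_lit 0x100100000c014008002002000001003001004)) (.cD (nat_lit 32) (.dfs (nat_lit 16) (nat_lit 4098) (nat_lit 4098) (nat_lit 4097) (nat_lit 4097) (nat_lit 0) (nat_lit 0) (nat_lit 3) (nat_lit 0) (nat_lit 0) (nat_lit 0) (nat_lit 1) (nat_lit 0) (nat_lit 0x1008004) (nat_lit 32772) (nat_lit 0x1001004000008001014000018) (nat_lit 0x1000101110110) (.cD (nat_lit 4) (.kF (nat_lit 16)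 (nat_lit 0x1001000001006001002)) (.cD (nat_lit 8) (.kF (nat_lit 16) (nat_lit 0x1001000001006001002)) (.cD (nat_lit 16) (.dfs (nat_lit 32) (nat_lit 4100) (nat_lit 4100) (nat_lit 0x1002001) (nat_lit 0x1002001) (nat_lit 0) (nat_lit 0) (nat_lit 3) (nat_lit 0) (nat_lit 0) (nat_lit 0) (nat_lit 1) (nat_lit 0) (nat_lit 0x1008004) (nat_lit 32772) (nat_lit 0x1001004000008001014000018) (nat_lit 0x1000101110110) (.cD (nat_lit 4) (.kA false (nat_lit 0x100100000400100200c001002)) (.cD (nat_lit 8) (.dfs (nat_lit 5) (nat_lit 4100) (nat_lit 4101) (nat_lit 1) (nat_lit 1) (nat_lit 0) (nat_lit 0) (nat_lit 1) (nat_lit 4128) (nat_lit 0x40020010008004002001) (nat_lit 0) (nat_lit 1) (nat_lit 0) (nat_lit 1) (nat_lit 0) (nat_lit 1) (nat_lit 0) .nil) (.cD (nat_lit 16) (.kc (nat_lit 48) (nat_lit 0x3001001)) (.cD (nat_lit 20) (.kA false (nat_lit 0x100100000400100200c001002)) (.cD (nat_lit 24) (.kA false (nat_lit 0x300400200c002001001000002)) (.cD (nat_lit 32) (.kc (nat_lit 40) (nat_lit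 0x5001001)) (.cD (nat_lit 48) (.kc (nat_lit 56) (nat_lit 0x7001001)) .nil)))))))) (.cD (nat_lit 20) (.dfs (nat_lit 32) (nat_lit 4100) (nat_lit 4100) (nat_lit 0x1002001) (nat_lit 0x1002001) (nat_lit 0) (nat_lit 0) (nat_lit 3) (nat_lit 0) (nat_lit 0) (nat_lit 0) (nat_lit 1) (nat_lit 0) (nat_lit 1) (nat_lit 0) (nat_lit 1) (nat_lit 0x11001100110010) (.cD (nat_lit 4) (.kA false (nat_lit 0x100100000400100200c001002)) (.cD (nat_lit 16) (.kA false (nat_lit 0x100100000400100200c001002)) (.cD (nat_lit 20) (.kc (nat_lit 48) (nat_lit 0x3001001)) (.cD (nat_lit 32) (.kc (nat_lit 40) (nat_lit 0x5001001)) (.cD (nat_lit 36) (.kA false (nat_lit 0x100100000400100200c001002)) (.cD (nat_lit 48) (.kA false (nat_lit 0x100100000400100200c001002)) (.cD (nat_lit 52) (.kc (nat_lit 56) (nat_lit 0x7001001)) .nil)))))))) (.cD (nat_lit 24) (.dfs (nat_lit 32) (nat_lit 4100) (nat_lit 4100) (nat_lit 0x1002001) (nat_lit 0x1002001) (nat_lit 0) (nat_lit 0) (nat_lit 3) (nat_lit 0) (nat_lit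 0) (nat_lit 0) (nat_lit 1) (nat_lit 0) (nat_lit 1) (nat_lit 0) (nat_lit 1) (nat_lit 0x101010101010100) (.cD (nat_lit 8) (.kA false (nat_lit 0x100400300c002001001000002)) (.cD (nat_lit 16) (.kA false (nat_lit 0x300400100c002001001000002)) (.cD (nat_lit 24) (.kc (nat_lit 48) (nat_lit 0x3001001)) (.cD (nat_lit 32) (.kc (nat_lit 40) (nat_lit 0x5001001)) (.cD (nat_lit 40) (.kA false (nat_lit 0x500400700c002001001000002)) (.cD (nat_lit 48) (.kA false (nat_lit 0x700400500c002001001000002)) (.cD (nat_lit 56) (.kc (nat_lit 56) (nat_lit 0x7001001)) .nil)))))))) (.cD (nat_lit 32) (.kc (nat_lit 24) (nat_lit 0x3001001)) (.cD (nat_lit 48) (.dfs (nat_lit 32) (nat_lit 4100) (nat_lit 4100) (nat_lit 0x1002001) (nat_lit 0x1002001) (nat_lit 0) (nat_lit 0) (nat_lit 3) (nat_lit 0) (nat_lit 0) (nat_lit 0) (nat_lit 1) (nat_lit 0) (nat_lit 0x1008004) (nat_lit 32772) (nat_lit 0x1001004000008001014000018) (nat_lit 0x1000101110110) (.cD (nat_lit 4) (.kA false (nat_lit 0x100100000400100200c001002))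 (.cD (nat_lit 8) (.kA false (nat_lit 0x100400600c002001001000002)) (.cD (nat_lit 16) (.kc (nat_lit 56) (nat_lit 0x7001001)) (.cD (nat_lit 20) (.kA false (nat_lit 0x100100000400100200c001002)) (.cD (nat_lit 24) (.kA false (nat_lit 0x700400600c002001001000002)) (.cD (nat_lit 32) (.kc (nat_lit 40) (nat_lit 0x5001001)) (.cD (nat_lit 48) (.kc (nat_lit 48) (nat_lit 0x3001001)) .nil)))))))) .nil)))))))) (.cD (nat_lit 48) (.kF (nat_lit 8) (nat_lit 0x3003000001003001002)) .nil))))))))))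
theorem c702 : (chk [(x301, s696), (x301, s701)] [] p702).n x301 s702 = true := by decide +kernel
noncomputable def p703 : Pf := (.ext (nat_lit 0) (nat_lit 0) (nat_lit 0x1040010020008002) (nat_lit 0x16008004002001004001001000010008004002001003003) (nat_lit 0x2004008016) (nat_lit 0x1004001) (nat_lit 0x1005001) (nat_lit 0x10008004006005014008004002001) (.dfs (nat_lit 1) (nat_lit 0x1002004008016) (nat_lit 0x1002004008012) (nat_lit 0x1010001) (nat_lit 0x1014001) (nat_lit 0) (nat_lit 0) (nat_lit 2) (nat_lit 0) (nat_lit 0) (nat_lit 1) (nat_lit 1) (nat_lit 0) (nat_lit 1) (nat_lit 0) (nat_lit 1) (nat_lit 0x202020202020202) (.cD (nat_lit 1) (.dfs (nat_lit 4) (nat_lit 0x100400801002c) (nat_lit 0x100c008010024) (nat_lit 0x1020002001) (nat_lit 0x102000a001) (nat_lit 0) (nat_lit 0) (nat_lit 2) (nat_lit 0) (nat_lit 0) (nat_lit 5) (nat_lit 1) (nat_lit 0) (nat_lit 4104) (nat_lit 8) (nat_lit 0x1000005000015) (nat_lit 0x200020) (.cD (nat_lit 5) (.iso x301 s702 (nat_lit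 0) (nat_lit 0x104002003000400800f001) (nat_lit 0x4002003000400800f001) [(nat_lit 0x10008004002007005001), (nat_lit 0x400400006002001000801e001002002000003), (nat_lit 0x1000800400200700305003001000101f001001001000003)] (.cut (nat_lit 0))) (.cD (nat_lit 21) (.kA true (nat_lit 0xe004008010003001010030050001001001000003)) .nil))) (.cD (nat_lit 9) (.kS (nat_lit 0) (nat_lit 0x4004000004008010020001002) (nat_lit 0x1029022) (nat_lit 0x8004002005010008004006001) (nat_lit 0xc00801002800100a001005005000004008010020001002002004004000004)) (.cD (nat_lit 17) (.dfs (nat_lit 4) (nat_lit 0x100400801002c) (nat_lit 0x100c008010024) (nat_lit 0x1020002001) (nat_lit 0x102000a001) (nat_lit 0) (nat_lit 0) (nat_lit 2) (nat_lit 0) (nat_lit 0) (nat_lit 5) (nat_lit 1) (nat_lit 0) (nat_lit 4104) (nat_lit 8) (nat_lit 0x1000005000015) (nat_lit 0x200020) (.cD (nat_lit 5) (.kA true (nat_lit 0x3010030058001001010030040001002)) (.cD (nat_lit 21) (.kA true (nat_lit 0x23010030058001001010030040001002))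 .nil))) (.cD (nat_lit 25) (.kS (nat_lit 0) (nat_lit 0x4004000004008010020001002) (nat_lit 0x1039022) (nat_lit 0x8004002005010008004006001) (nat_lit 0xc00801002800100a001005005000004008010020001002002004004000004)) (.cD (nat_lit 33) (.dfs (nat_lit 4) (nat_lit 0x100400801002c) (nat_lit 0x100c008010024) (nat_lit 0x1020002001) (nat_lit 0x102000a001) (nat_lit 0) (nat_lit 0) (nat_lit 2) (nat_lit 0) (nat_lit 0) (nat_lit 5) (nat_lit 1) (nat_lit 0) (nat_lit 4104) (nat_lit 8) (nat_lit 0x1000005000015) (nat_lit 0x200020) (.cD (nat_lit 5) (.kS (nat_lit 1) (nat_lit 0x3013030058002002004008010003001001000001010030040001004) (nat_lit 4139) (nat_lit 0x8004002003) (nat_lit 0x100100000200600801000700400301003005800e00100100100000200400801000100400301303005801e001006)) (.cD (nat_lit 21) (.kA true (nat_lit 0xe004008010003001010030050001001001000003)) .nil))) (.cD (nat_lit 41) (.kS (nat_lit 0) (nat_lit 0x4004000004008010020001002) (nat_lit 0x1009022) (nat_lit 0x8004002005010008004006001)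 (nat_lit 0xc00801002800100a001005005000004008010020001002002004004000004)) (.cD (nat_lit 49) (.dfs (nat_lit 4) (nat_lit 0x100400801002c) (nat_lit 0x100c008010024) (nat_lit 0x1020002001) (nat_lit 0x102000a001) (nat_lit 0) (nat_lit 0) (nat_lit 2) (nat_lit 0) (nat_lit 0) (nat_lit 5) (nat_lit 1) (nat_lit 0) (nat_lit 4104) (nat_lit 8) (nat_lit 0x1000005000015) (nat_lit 0x200020) (.cD (nat_lit 5) (.kA true (nat_lit 0x3010030058001001010030040001002)) (.cD (nat_lit 21) (.kA true (nat_lit 0x23010030058001001010030040001002)) .nil))) (.cD (nat_lit 57) (.kS (nat_lit 0) (nat_lit 0x4004000004008010020001002) (nat_lit 0x1019022) (nat_lit 0x8004002005010008004006001) (nat_lit 0xc00801002800100a001005005000004008010020001002002004004000004)) .nil))))))))))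
theorem c703 : (chk [(x301, s702)] [g7] p703).n x301 s703 = true := by decide +kernel
noncomputable def p704 : Pf := (.ext (nat_lit 1) (nat_lit 0) (nat_lit 0x1048030020015) (nat_lit 0x10008004002003010006002005001002) (nat_lit 0x2003004008) (nat_lit 4107) (nat_lit 4107) (nat_lit 0xc004002001) (.dfs (nat_lit 11) (nat_lit 0x1002003004008) (nat_lit 0x100200300400c) (nat_lit 4097) (nat_lit 4097) (nat_lit 0) (nat_lit 0) (nat_lit 2) (nat_lit 1) (nat_lit 0) (nat_lit 11) (nat_lit 1) (nat_lit 0) (nat_lit 4160) (nat_lit 64) (nat_lit 0x100000b00000f00001b00001f) (nat_lit 0x88008800) (.cD (nat_lit 11) (.iso x301 s703 (nat_lit 0) (nat_lit 0x1040020010008004012011) (nat_lit 0x40020010008004012011) [(nat_lit 0x10008004002001001001), (nat_lit 0x10008004002009009001)] (.cut (nat_lit 1))) (.cD (nat_lit 15) (.kS (nat_lit 1) (nat_lit 0x2004008010005001) (nat_lit 4139) (nat_lit 0x8004002003) (nat_lit 0x8008000004002008010001001008008000004006008010001002002004008010007006005))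 (.cD (nat_lit 27) (.kS (nat_lit 1) (nat_lit 0x2004008010005001) (nat_lit 4127) (nat_lit 0x8004002003) (nat_lit 0x800800000400200801000100100800800000400600801000100200200400801000d006005)) (.cD (nat_lit 31) (.cut (nat_lit 0)) .nil))))))
theorem c704 : (chk [(x301, s622), (x301, s703)] [g7] p704).n x301 s704 = true := by decide +kernel
noncomputable def p705 : Pf := (.anc (nat_lit 68) (nat_lit 0x10006002002000002) (nat_lit 0x1009020010004) (.dfs (nat_lit 4) (nat_lit 4097) (nat_lit 4097) (nat_lit 1) (nat_lit 1) (nat_lit 0) (nat_lit 0) (nat_lit 3) (nat_lit 0) (nat_lit 0) (nat_lit 0) (nat_lit 1) (nat_lit 0) (nat_lit 0x1008004) (nat_lit 32772) (nat_lit 0x1001004000008001014000018) (nat_lit 0x1000101110110) (.cD (nat_lit 4) (.dfs (nat_lit 16) (nat_lit 4098) (nat_lit 4098) (nat_lit 4097) (nat_lit 4097) (nat_lit 0) (nat_lit 0) (nat_lit 3) (nat_lit 0) (nat_lit 0) (nat_lit 0) (nat_lit 1) (nat_lit 0) (nat_lit 1) (nat_lit 0) (nat_lit 1) (nat_lit 0x11001100110010)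 (.cD (nat_lit 4) (.kc (nat_lit 20) (nat_lit 0x3001001)) (.cD (nat_lit 16) (.dfs (nat_lit 32) (nat_lit 4100) (nat_lit 4100) (nat_lit 0x1002001) (nat_lit 0x1002001) (nat_lit 0) (nat_lit 0) (nat_lit 3) (nat_lit 0) (nat_lit 0) (nat_lit 0) (nat_lit 1) (nat_lit 0) (nat_lit 1) (nat_lit 0) (nat_lit 1) (nat_lit 0x11001100110010) (.cD (nat_lit 4) (.kc (nat_lit 36) (nat_lit 0x5001001)) (.cD (nat_lit 16) (.kc (nat_lit 48) (nat_lit 0x3001001)) (.cD (nat_lit 20) (.kc (nat_lit 52) (nat_lit 0x7001001)) (.cD (nat_lit 32) (.dfs (nat_lit 9) (nat_lit 0x1004001003008) (nat_lit 0x1005001003008) (nat_lit 4098) (nat_lit 4098) (nat_lit 0) (nat_lit 0) (nat_lit 2) (nat_lit 1) (nat_lit 0) (nat_lit 8) (nat_lit 1) (nat_lit 0) (nat_lit 4100) (nat_lit 4) (nat_lit 0x1000008000018) (nat_lit 0x1000100) (.cD (nat_lit 8) (.cut (nat_lit 1)) (.cD (nat_lit 24) (.cut (nat_lit 0)) .nil))) (.cD (nat_lit 36) (.kA true (nat_lit 0x100100000400100300d001001001000003)) (.cD (nat_lit 48) (.kA true (nat_lit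 0x600800401000800400100300d001001001000003)) (.cD (nat_lit 52) (.kA true (nat_lit 0x800a00601e00700500100300e001002002000003)) .nil)))))))) (.cD (nat_lit 20) (.dfs (nat_lit 32) (nat_lit 4100) (nat_lit 4100) (nat_lit 0x1002001) (nat_lit 0x1002001) (nat_lit 0) (nat_lit 0) (nat_lit 3) (nat_lit 0) (nat_lit 0) (nat_lit 0) (nat_lit 1) (nat_lit 0) (nat_lit 1) (nat_lit 0) (nat_lit 1) (nat_lit 0x11001100110010) (.cD (nat_lit 4) (.kc (nat_lit 36) (nat_lit 0x5001001)) (.cD (nat_lit 16) (.kc (nat_lit 52) (nat_lit 0x7001001)) (.cD (nat_lit 20) (.kc (nat_lit 48) (nat_lit 0x3001001)) (.cD (nat_lit 32) (.kA true (nat_lit 0x200200000500100300e001002002000003)) (.cD (nat_lit 36) (.dfs (nat_lit 9) (nat_lit 4102) (nat_lit 4103) (nat_lit 1) (nat_lit 1) (nat_lit 0) (nat_lit 0) (nat_lit 1) (nat_lit 4112) (nat_lit 0x40020010008004002001) (nat_lit 0) (nat_lit 1) (nat_lit 0) (nat_lit 1) (nat_lit 0) (nat_lit 1) (nat_lit 0) .nil) (.cD (nat_lit 48) (.kA true (nat_lit 0x400300500800100400100300c001002))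 (.cD (nat_lit 52) (.kA true (nat_lit 0x400700100800100400100300c001002)) .nil)))))))) (.cD (nat_lit 32) (.kF (nat_lit 16) (nat_lit 0x100400100c012008002002000003)) (.cD (nat_lit 36) (.kF (nat_lit 16) (nat_lit 0x100400100c012008002002000003)) (.cD (nat_lit 48) (.dfs (nat_lit 32) (nat_lit 4100) (nat_lit 4100) (nat_lit 0x1002001) (nat_lit 0x1002001) (nat_lit 0) (nat_lit 0) (nat_lit 3) (nat_lit 0) (nat_lit 0) (nat_lit 0) (nat_lit 1) (nat_lit 0) (nat_lit 1) (nat_lit 0) (nat_lit 1) (nat_lit 0x11001100110010) (.cD (nat_lit 4) (.kc (nat_lit 36) (nat_lit 0x5001001)) (.cD (nat_lit 16) (.kA true (nat_lit 0x400200100800100400100300c001002)) (.cD (nat_lit 20) (.kA true (nat_lit 0x400600500800100400100300c001002)) (.cD (nat_lit 32) (.kA true (nat_lit 0x200400c01000800500100300e001002002000003)) (.cD (nat_lit 36) (.kA true (nat_lit 0x400500600800100400100300c001002)) (.cD (nat_lit 48) (.kc (nat_lit 48) (nat_lit 0x3001001)) (.cD (nat_lit 52) (.kc (nat_lit 52) (nat_lit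 0x7001001)) .nil)))))))) (.cD (nat_lit 52) (.dfs (nat_lit 32) (nat_lit 4100) (nat_lit 4100) (nat_lit 0x1002001) (nat_lit 0x1002001) (nat_lit 0) (nat_lit 0) (nat_lit 3) (nat_lit 0) (nat_lit 0) (nat_lit 0) (nat_lit 1) (nat_lit 0) (nat_lit 1) (nat_lit 0) (nat_lit 1) (nat_lit 0x11001100110010) (.cD (nat_lit 4) (.kc (nat_lit 36) (nat_lit 0x5001001)) (.cD (nat_lit 16) (.kA true (nat_lit 0x400200500800100400100300c001002)) (.cD (nat_lit 20) (.kA true (nat_lit 0x400600100800100400100300c001002)) (.cD (nat_lit 32) (.kA true (nat_lit 0x4001003008001002004008012008002002000003)) (.cD (nat_lit 36) (.kA true (nat_lit 0x400500200800100400100300c001002)) (.cD (nat_lit 48) (.kc (nat_lit 52) (nat_lit 0x7001001)) (.cD (nat_lit 52) (.kc (nat_lit 48) (nat_lit 0x3001001)) .nil)))))))) .nil)))))))) (.cD (nat_lit 8) (.dfs (nat_lit 16) (nat_lit 4098) (nat_lit 4098) (nat_lit 4097) (nat_lit 4097) (nat_lit 0) (nat_lit 0) (nat_lit 3) (nat_lit 0) (nat_lit 0) (nat_lit 0) (nat_lit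 1) (nat_lit 0) (nat_lit 1) (nat_lit 0) (nat_lit 1) (nat_lit 0x101010101010100) (.cD (nat_lit 8) (.kc (nat_lit 20) (nat_lit 0x3001001)) (.cD (nat_lit 16) (.dfs (nat_lit 32) (nat_lit 4100) (nat_lit 4100) (nat_lit 0x1002001) (nat_lit 0x1002001) (nat_lit 0) (nat_lit 0) (nat_lit 3) (nat_lit 0) (nat_lit 0) (nat_lit 0) (nat_lit 1) (nat_lit 0) (nat_lit 1) (nat_lit 0) (nat_lit 1) (nat_lit 0x101010101010100) (.cD (nat_lit 8) (.kc (nat_lit 36) (nat_lit 0x5001001)) (.cD (nat_lit 16) (.kc (nat_lit 48) (nat_lit 0x3001001)) (.cD (nat_lit 24) (.kc (nat_lit 52) (nat_lit 0x7001001)) (.cD (nat_lit 32) (.kA false (nat_lit 0x400100200c002008010020050003001001000003)) (.cD (nat_lit 40) (.kA false (nat_lit 0x100100000400500200d002001001000003)) (.cD (nat_lit 48) (.kA false (nat_lit 0x600800c01000800400300200b002001001000003)) (.cD (nat_lit 56) (.kA false (nat_lit 0x400700200c002008010020050003001001000003)) .nil)))))))) (.cD (nat_lit 24) (.dfs (nat_lit 32) (nat_lit 4100) (nat_lit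 4100) (nat_lit 0x1002001) (nat_lit 0x1002001) (nat_lit 0) (nat_lit 0) (nat_lit 3) (nat_lit 0) (nat_lit 0) (nat_lit 0) (nat_lit 1) (nat_lit 0) (nat_lit 1) (nat_lit 0) (nat_lit 1) (nat_lit 0x101010101010100) (.cD (nat_lit 8) (.kc (nat_lit 36) (nat_lit 0x5001001)) (.cD (nat_lit 16) (.kc (nat_lit 52) (nat_lit 0x7001001)) (.cD (nat_lit 24) (.kc (nat_lit 48) (nat_lit 0x3001001)) (.cD (nat_lit 32) (.kA false (nat_lit 0x400100600c002008010020050003001001000003)) (.cD (nat_lit 40) (.kA false (nat_lit 0x100100000400500600d002001001000003)) (.cD (nat_lit 48) (.kA false (nat_lit 0x400700600c002008010020050003001001000003)) (.cD (nat_lit 56) (.kA false (nat_lit 0x600800a01000800400300600b002001001000003)) .nil)))))))) (.cD (nat_lit 32) (.kF (nat_lit 16) (nat_lit 0x100400100c012008002002000003)) (.cD (nat_lit 40) (.kF (nat_lit 16) (nat_lit 0x100400100c012008002002000003)) (.cD (nat_lit 48) (.dfs (nat_lit 32) (nat_lit 4100) (nat_lit 4100) (nat_lit 0x1002001) (nat_lit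 0x1002001) (nat_lit 0) (nat_lit 0) (nat_lit 3) (nat_lit 0) (nat_lit 0) (nat_lit 0) (nat_lit 1) (nat_lit 0) (nat_lit 1) (nat_lit 0) (nat_lit 1) (nat_lit 0x101010101010100) (.cD (nat_lit 8) (.kc (nat_lit 36) (nat_lit 0x5001001)) (.cD (nat_lit 16) (.kA false (nat_lit 0x600800401000800400300100b002001001000003)) (.cD (nat_lit 24) (.kA false (nat_lit 0x400700500c002008010020050003001001000003)) (.cD (nat_lit 32) (.kA false (nat_lit 0x400100300c002008010020050003001001000003)) (.cD (nat_lit 40) (.kA false (nat_lit 0x100100000400500700d002001001000003)) (.cD (nat_lit 48) (.kc (nat_lit 48) (nat_lit 0x3001001)) (.cD (nat_lit 56) (.kc (nat_lit 52) (nat_lit 0x7001001)) .nil)))))))) (.cD (nat_lit 56) (.dfs (nat_lit 32) (nat_lit 4100) (nat_lit 4100) (nat_lit 0x1002001) (nat_lit 0x1002001) (nat_lit 0) (nat_lit 0) (nat_lit 3) (nat_lit 0) (nat_lit 0) (nat_lit 0) (nat_lit 1) (nat_lit 0) (nat_lit 1) (nat_lit 0) (nat_lit 1) (nat_lit 0x101010101010100) (.cD (nat_lit 8) (.kc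 (nat_lit 36) (nat_lit 0x5001001)) (.cD (nat_lit 16) (.kA false (nat_lit 0x400700100c002008010020050003001001000003)) (.cD (nat_lit 24) (.kA false (nat_lit 0x600800201000800400300500b002001001000003)) (.cD (nat_lit 32) (.kA false (nat_lit 0x400100700c002008010020050003001001000003)) (.cD (nat_lit 40) (.kA false (nat_lit 0x100100000400500300d002001001000003)) (.cD (nat_lit 48) (.kc (nat_lit 52) (nat_lit 0x7001001)) (.cD (nat_lit 56) (.kc (nat_lit 48) (nat_lit 0x3001001)) .nil)))))))) .nil)))))))) (.cD (nat_lit 16) (.kF (nat_lit 4) (nat_lit 0x2002000001003001002)) (.cD (nat_lit 20) (.kF (nat_lit 4) (nat_lit 0xe01e007001003001002)) (.cD (nat_lit 24) (.kF (nat_lit 4) (nat_lit 0x1002001002012008002002000003)) (.cD (nat_lit 32) (.dfs (nat_lit 16) (nat_lit 4098) (nat_lit 4098) (nat_lit 4097) (nat_lit 4097) (nat_lit 0) (nat_lit 0) (nat_lit 3) (nat_lit 0) (nat_lit 0) (nat_lit 0) (nat_lit 1) (nat_lit 0) (nat_lit 0x1008004) (nat_lit 32772) (nat_lit 0x1001004000008001014000018)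 (nat_lit 0x1000101110110) (.cD (nat_lit 4) (.kF (nat_lit 16) (nat_lit 0x1001000001006001002)) (.cD (nat_lit 8) (.kF (nat_lit 16) (nat_lit 0x1001000001006001002)) (.cD (nat_lit 16) (.dfs (nat_lit 32) (nat_lit 4100) (nat_lit 4100) (nat_lit 0x1002001) (nat_lit 0x1002001) (nat_lit 0) (nat_lit 0) (nat_lit 3) (nat_lit 0) (nat_lit 0) (nat_lit 0) (nat_lit 1) (nat_lit 0) (nat_lit 0x1008004) (nat_lit 32772) (nat_lit 0x1001004000008001014000018) (nat_lit 0x1000101110110) (.cD (nat_lit 4) (.kA true (nat_lit 0x100400600c002001001000002)) (.cD (nat_lit 8) (.kA false (nat_lit 0x100400200c002001001000002)) (.cD (nat_lit 16) (.kc (nat_lit 48) (nat_lit 0x3001001)) (.cD (nat_lit 20) (.kA true (nat_lit 0x300400600c002001001000002)) (.cD (nat_lit 24) (.kA false (nat_lit 0x300400200c002001001000002)) (.cD (nat_lit 32) (.kc (nat_lit 36) (nat_lit 0x5001001)) (.cD (nat_lit 48) (.kc (nat_lit 52) (nat_lit 0x7001001)) .nil)))))))) (.cD (nat_lit 20) (.dfs (nat_lit 32) (nat_lit 4100)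 (nat_lit 4100) (nat_lit 0x1002001) (nat_lit 0x1002001) (nat_lit 0) (nat_lit 0) (nat_lit 3) (nat_lit 0) (nat_lit 0) (nat_lit 0) (nat_lit 1) (nat_lit 0) (nat_lit 1) (nat_lit 0) (nat_lit 1) (nat_lit 0x11001100110010) (.cD (nat_lit 4) (.kA true (nat_lit 0x100400700c002001001000002)) (.cD (nat_lit 16) (.kA true (nat_lit 0x300400500c002001001000002)) (.cD (nat_lit 20) (.kc (nat_lit 48) (nat_lit 0x3001001)) (.cD (nat_lit 32) (.kc (nat_lit 36) (nat_lit 0x5001001)) (.cD (nat_lit 36) (.dfs (nat_lit 9) (nat_lit 4100) (nat_lit 4101) (nat_lit 1) (nat_lit 1) (nat_lit 0) (nat_lit 0) (nat_lit 1) (nat_lit 4128) (nat_lit 0x40020010008004002001) (nat_lit 0) (nat_lit 1) (nat_lit 0) (nat_lit 1) (nat_lit 0) (nat_lit 1) (nat_lit 0) .nil) (.cD (nat_lit 48) (.kA true (nat_lit 0x700400100c002001001000002)) (.cD (nat_lit 52) (.kc (nat_lit 52) (nat_lit 0x7001001)) .nil)))))))) (.cD (nat_lit 24) (.dfs (nat_lit 32) (nat_lit 4100) (nat_lit 4100) (nat_lit 0x1002001) (nat_lit 0x1002001)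 (nat_lit 0) (nat_lit 0) (nat_lit 3) (nat_lit 0) (nat_lit 0) (nat_lit 0) (nat_lit 1) (nat_lit 0) (nat_lit 1) (nat_lit 0) (nat_lit 1) (nat_lit 0x101010101010100) (.cD (nat_lit 8) (.kA false (nat_lit 0x100400300c002001001000002)) (.cD (nat_lit 16) (.kA false (nat_lit 0x300400100c002001001000002)) (.cD (nat_lit 24) (.kc (nat_lit 48) (nat_lit 0x3001001)) (.cD (nat_lit 32) (.kc (nat_lit 36) (nat_lit 0x5001001)) (.cD (nat_lit 40) (.kA false (nat_lit 0x500400700c002001001000002)) (.cD (nat_lit 48) (.kA false (nat_lit 0x700400500c002001001000002)) (.cD (nat_lit 56) (.kc (nat_lit 52) (nat_lit 0x7001001)) .nil)))))))) (.cD (nat_lit 32) (.kc (nat_lit 20) (nat_lit 0x3001001)) (.cD (nat_lit 48) (.dfs (nat_lit 32) (nat_lit 4100) (nat_lit 4100) (nat_lit 0x1002001) (nat_lit 0x1002001) (nat_lit 0) (nat_lit 0) (nat_lit 3) (nat_lit 0) (nat_lit 0) (nat_lit 0) (nat_lit 1) (nat_lit 0) (nat_lit 0x1008004) (nat_lit 32772) (nat_lit 0x1001004000008001014000018) (nat_lit 0x1000101110110)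 (.cD (nat_lit 4) (.kA true (nat_lit 0x100400200c002001001000002)) (.cD (nat_lit 8) (.kA false (nat_lit 0x100400600c002001001000002)) (.cD (nat_lit 16) (.kc (nat_lit 52) (nat_lit 0x7001001)) (.cD (nat_lit 20) (.kA true (nat_lit 0x700400200c002001001000002)) (.cD (nat_lit 24) (.kA false (nat_lit 0x700400600c002001001000002)) (.cD (nat_lit 32) (.kc (nat_lit 36) (nat_lit 0x5001001)) (.cD (nat_lit 48) (.kc (nat_lit 48) (nat_lit 0x3001001)) .nil)))))))) .nil)))))))) (.cD (nat_lit 48) (.kF (nat_lit 4) (nat_lit 0x1002001002012008002002000003)) .nil)))))))))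
theorem c705 : (chk [(x301, s620), (x301, s615)] [] p705).n x301 s705 = true := by decide +kernel
noncomputable def p706 : Pf := (.ext (nat_lit 0) (nat_lit 0) (nat_lit 0x1040010020008002) (nat_lit 0x16008004002001006001001000010008004002001005003) (nat_lit 0x2004008016) (nat_lit 0x1004001) (nat_lit 0x1005001) (nat_lit 0x10008004006005014008004002001) (.dfs (nat_lit 1) (nat_lit 0x1002004008016) (nat_lit 0x1002004008012) (nat_lit 0x1010001) (nat_lit 0x1014001) (nat_lit 0) (nat_lit 0) (nat_lit 2) (nat_lit 0) (nat_lit 0) (nat_lit 1) (nat_lit 1) (nat_lit 0) (nat_lit 1) (nat_lit 0) (nat_lit 1) (nat_lit 0x202020202020202) (.cD (nat_lit 1) (.dfs (nat_lit 4) (nat_lit 0x100400801002c) (nat_lit 0x100c008010024) (nat_lit 0x1020002001) (nat_lit 0x102000a001) (nat_lit 0) (nat_lit 0) (nat_lit 2) (nat_lit 0) (nat_lit 0) (nat_lit 5) (nat_lit 1) (nat_lit 0) (nat_lit 4104) (nat_lit 8) (nat_lit 0x1000005000015) (nat_lit 0x200020) (.cD (nat_lit 5) (.kS (nat_lit 1) (nat_lit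 0x10001030070001006004008018003002002000001010030040001004) (nat_lit 4126) (nat_lit 0x8004002003) (nat_lit 0x200200000400600801000d00400301003005800e00100200200000600400801800100401000103007003f002006)) (.cD (nat_lit 21) (.kA true (nat_lit 0xe004008010003001010030050001001001000003)) .nil))) (.cD (nat_lit 9) (.kS (nat_lit 0) (nat_lit 0x4004000004008010020001002) (nat_lit 0x1029022) (nat_lit 0x8004002005010008004006001) (nat_lit 0xc00801002800100a001005005000004008010020001002002004004000004)) (.cD (nat_lit 17) (.dfs (nat_lit 4) (nat_lit 0x100400801002c) (nat_lit 0x100c008010024) (nat_lit 0x1020002001) (nat_lit 0x102000a001) (nat_lit 0) (nat_lit 0) (nat_lit 2) (nat_lit 0) (nat_lit 0) (nat_lit 5) (nat_lit 1) (nat_lit 0) (nat_lit 4104) (nat_lit 8) (nat_lit 0x1000005000015) (nat_lit 0x200020) (.cD (nat_lit 5) (.kA true (nat_lit 0x3010030058001001010030040001002)) (.cD (nat_lit 21) (.kA true (nat_lit 0x23010030058001001010030040001002)) .nil))) (.cD (nat_lit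 25) (.kS (nat_lit 0) (nat_lit 0x4004000004008010020001002) (nat_lit 0x1039022) (nat_lit 0x8004002005010008004006001) (nat_lit 0xc00801002800100a001005005000004008010020001002002004004000004)) (.cD (nat_lit 33) (.dfs (nat_lit 4) (nat_lit 0x100400801002c) (nat_lit 0x100c008010024) (nat_lit 0x1020002001) (nat_lit 0x102000a001) (nat_lit 0) (nat_lit 0) (nat_lit 2) (nat_lit 0) (nat_lit 0) (nat_lit 5) (nat_lit 1) (nat_lit 0) (nat_lit 4104) (nat_lit 8) (nat_lit 0x1000005000015) (nat_lit 0x200020) (.cD (nat_lit 5) (.cut (nat_lit 0)) (.cD (nat_lit 21) (.kA true (nat_lit 0xe004008010003001010030050001001001000003)) .nil))) (.cD (nat_lit 41) (.kS (nat_lit 0) (nat_lit 0x4004000004008010020001002) (nat_lit 0x1009022) (nat_lit 0x8004002005010008004006001) (nat_lit 0xc00801002800100a001005005000004008010020001002002004004000004)) (.cD (nat_lit 49) (.dfs (nat_lit 4) (nat_lit 0x100400801002c) (nat_lit 0x100c008010024) (nat_lit 0x1020002001) (nat_lit 0x102000a001) (nat_lit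 0) (nat_lit 0) (nat_lit 2) (nat_lit 0) (nat_lit 0) (nat_lit 5) (nat_lit 1) (nat_lit 0) (nat_lit 4104) (nat_lit 8) (nat_lit 0x1000005000015) (nat_lit 0x200020) (.cD (nat_lit 5) (.kA true (nat_lit 0x3010030058001001010030040001002)) (.cD (nat_lit 21) (.kA true (nat_lit 0x23010030058001001010030040001002)) .nil))) (.cD (nat_lit 57) (.kS (nat_lit 0) (nat_lit 0x4004000004008010020001002) (nat_lit 0x1019022) (nat_lit 0x8004002005010008004006001) (nat_lit 0xc00801002800100a001005005000004008010020001002002004004000004)) .nil))))))))))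
theorem c706 : (chk [(x301, s705)] [] p706).n x301 s706 = true := by decide +kernel
noncomputable def p707 : Pf := (.ext (nat_lit 1) (nat_lit 0) (nat_lit 0x1048030020005) (nat_lit 0x10008004002003010006002001001002) (nat_lit 0x2003004008) (nat_lit 4107) (nat_lit 4107) (nat_lit 0xc004002001) (.dfs (nat_lit 11) (nat_lit 0x1002003004008) (nat_lit 0x100200300400c) (nat_lit 4097) (nat_lit 4097) (nat_lit 0) (nat_lit 0) (nat_lit 2) (nat_lit 1) (nat_lit 0) (nat_lit 11) (nat_lit 1) (nat_lit 0) (nat_lit 4160) (nat_lit 64) (nat_lit 0x100000b00000f00001b00001f) (nat_lit 0x88008800) (.cD (nat_lit 11) (.cut (nat_lit 1)) (.cD (nat_lit 15) (.kS (nat_lit 1) (nat_lit 0x2004008010005001) (nat_lit 4139) (nat_lit 0x8004002003) (nat_lit 0x8008000004002008010001001008008000004006008010001002002004008010007006005)) (.cD (nat_lit 27) (.kS (nat_lit 1) (nat_lit 0x2004008010005001) (nat_lit 4127) (nat_lit 0x8004002003) (nat_lit 0x800800000400200801000100100800800000400600801000100200200400801000d006005))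 (.cD (nat_lit 31) (.cut (nat_lit 0)) .nil))))))
theorem c707 : (chk [(x301, s706), (x301, s703)] [] p707).n x301 s707 = true := by decide +kernel
noncomputable def p708 : Pf := (.anc (nat_lit 72) (nat_lit 0x1001000014006002) (nat_lit 0x1005020010008) (.czp (nat_lit 64) (nat_lit 0) (nat_lit 0x1040020010008004) z6 (.dfs (nat_lit 8) (nat_lit 4097) (nat_lit 4097) (nat_lit 1) (nat_lit 1) (nat_lit 0) (nat_lit 0) (nat_lit 3) (nat_lit 0) (nat_lit 0) (nat_lit 0) (nat_lit 1) (nat_lit 0) (nat_lit 0x1008004) (nat_lit 32772) (nat_lit 0x1001004000008001014000018) (nat_lit 0x1000101110110) (.cD (nat_lit 4) (.dfs (nat_lit 16) (nat_lit 4098) (nat_lit 4098) (nat_lit 4097) (nat_lit 4097) (nat_lit 0) (nat_lit 0) (nat_lit 3) (nat_lit 0) (nat_lit 0) (nat_lit 0) (nat_lit 1) (nat_lit 0) (nat_lit 1) (nat_lit 0) (nat_lit 1) (nat_lit 0x11001100110010) (.cD (nat_lit 4) (.kc (nat_lit 24) (nat_lit 0x3001001)) (.cD (nat_lit 16) (.dfs (nat_lit 32) (nat_lit 4100) (nat_lit 4100) (nat_lit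 0x1002001) (nat_lit 0x1002001) (nat_lit 0) (nat_lit 0) (nat_lit 3) (nat_lit 0) (nat_lit 0) (nat_lit 0) (nat_lit 1) (nat_lit 0) (nat_lit 1) (nat_lit 0) (nat_lit 1) (nat_lit 0x11001100110010) (.cD (nat_lit 4) (.kc (nat_lit 40) (nat_lit 0x5001001)) (.cD (nat_lit 16) (.kc (nat_lit 48) (nat_lit 0x3001001)) (.cD (nat_lit 20) (.kc (nat_lit 56) (nat_lit 0x7001001)) (.cD (nat_lit 32) (.kA false (nat_lit 0x5004002008001002004008014007001001000003)) (.cD (nat_lit 36) (.kA false (nat_lit 0x100100000400100200d001001001000003)) (.cD (nat_lit 48) (.kA false (nat_lit 0x600800c01000600400100200d001001001000003)) (.cD (nat_lit 52) (.kA false (nat_lit 0x5004002008001002004008014007001001000003)) .nil)))))))) (.cD (nat_lit 20) (.dfs (nat_lit 32) (nat_lit 4100) (nat_lit 4100) (nat_lit 0x1002001) (nat_lit 0x1002001) (nat_lit 0) (nat_lit 0) (nat_lit 3) (nat_lit 0) (nat_lit 0) (nat_lit 0) (nat_lit 1) (nat_lit 0) (nat_lit 1) (nat_lit 0) (nat_lit 1) (nat_lit 0x11001100110010)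 (.cD (nat_lit 4) (.kc (nat_lit 40) (nat_lit 0x5001001)) (.cD (nat_lit 16) (.kc (nat_lit 56) (nat_lit 0x7001001)) (.cD (nat_lit 20) (.kc (nat_lit 48) (nat_lit 0x3001001)) (.cD (nat_lit 32) (.kA false (nat_lit 0x5004002008001002004008014007001001000003)) (.cD (nat_lit 36) (.kA false (nat_lit 0x100100000400100200d001001001000003)) (.cD (nat_lit 48) (.kA false (nat_lit 0x600800a01000600400100200d001001001000003)) (.cD (nat_lit 52) (.kA false (nat_lit 0x5004002008001002004008014007001001000003)) .nil)))))))) (.cD (nat_lit 32) (.kF (nat_lit 16) (nat_lit 0x4010006002002000001006001003)) (.cD (nat_lit 36) (.kF (nat_lit 16) (nat_lit 0x1001000001007001002002000003)) (.cD (nat_lit 48) (.dfs (nat_lit 32) (nat_lit 4100) (nat_lit 4100) (nat_lit 0x1002001) (nat_lit 0x1002001) (nat_lit 0) (nat_lit 0) (nat_lit 3) (nat_lit 0) (nat_lit 0) (nat_lit 0) (nat_lit 1) (nat_lit 0) (nat_lit 1) (nat_lit 0) (nat_lit 1) (nat_lit 0x11001100110010) (.cD (nat_lit 4) (.kc (nat_lit 40)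 (nat_lit 0x5001001)) (.cD (nat_lit 16) (.kA false (nat_lit 0x200c00801e00500400100200d001001001000003)) (.cD (nat_lit 20) (.kA false (nat_lit 0x200200000400100200d001001001000003)) (.cD (nat_lit 32) (.kA false (nat_lit 0x5004002008001002004008014007001001000003)) (.cD (nat_lit 36) (.kA false (nat_lit 0x100100000400100200d001001001000003)) (.cD (nat_lit 48) (.kc (nat_lit 48) (nat_lit 0x3001001)) (.cD (nat_lit 52) (.kc (nat_lit 56) (nat_lit 0x7001001)) .nil)))))))) (.cD (nat_lit 52) (.dfs (nat_lit 32) (nat_lit 4100) (nat_lit 4100) (nat_lit 0x1002001) (nat_lit 0x1002001) (nat_lit 0) (nat_lit 0) (nat_lit 3) (nat_lit 0) (nat_lit 0) (nat_lit 0) (nat_lit 1) (nat_lit 0) (nat_lit 1) (nat_lit 0) (nat_lit 1) (nat_lit 0x11001100110010) (.cD (nat_lit 4) (.kc (nat_lit 40) (nat_lit 0x5001001)) (.cD (nat_lit 16) (.kA false (nat_lit 0x200c00a01e00500400100200d001001001000003)) (.cD (nat_lit 20) (.kA false (nat_lit 0x200200000400100200d001001001000003)) (.cD (nat_lit 32)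 (.kA false (nat_lit 0x5004002008001002004008014007001001000003)) (.cD (nat_lit 36) (.kA false (nat_lit 0x100100000400100200d001001001000003)) (.cD (nat_lit 48) (.kc (nat_lit 56) (nat_lit 0x7001001)) (.cD (nat_lit 52) (.kc (nat_lit 48) (nat_lit 0x3001001)) .nil)))))))) .nil)))))))) (.cD (nat_lit 8) (.dfs (nat_lit 16) (nat_lit 4098) (nat_lit 4098) (nat_lit 4097) (nat_lit 4097) (nat_lit 0) (nat_lit 0) (nat_lit 3) (nat_lit 0) (nat_lit 0) (nat_lit 0) (nat_lit 1) (nat_lit 0) (nat_lit 1) (nat_lit 0) (nat_lit 1) (nat_lit 0x101010101010100) (.cD (nat_lit 8) (.kc (nat_lit 24) (nat_lit 0x3001001)) (.cD (nat_lit 16) (.dfs (nat_lit 32) (nat_lit 4100) (nat_lit 4100) (nat_lit 0x1002001) (nat_lit 0x1002001) (nat_lit 0) (nat_lit 0) (nat_lit 3) (nat_lit 0) (nat_lit 0) (nat_lit 0) (nat_lit 1) (nat_lit 0) (nat_lit 1) (nat_lit 0) (nat_lit 1) (nat_lit 0x101010101010100) (.cD (nat_lit 8) (.kc (nat_lit 40) (nat_lit 0x5001001)) (.cD (nat_lit 16) (.kc (nat_lit 48) (nat_lit 0x3001001))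 (.cD (nat_lit 24) (.kc (nat_lit 56) (nat_lit 0x7001001)) (.cD (nat_lit 32) (.dfs (nat_lit 5) (nat_lit 0x1004001002008) (nat_lit 0x1005001002008) (nat_lit 1) (nat_lit 1) (nat_lit 0) (nat_lit 0) (nat_lit 2) (nat_lit 0) (nat_lit 0) (nat_lit 4) (nat_lit 1) (nat_lit 0) (nat_lit 4104) (nat_lit 8) (nat_lit 0x1000004000014) (nat_lit 0x100010) (.cD (nat_lit 4) (.cut (nat_lit 1)) (.cD (nat_lit 20) (.cut (nat_lit 0)) .nil))) (.cD (nat_lit 40) (.dfs (nat_lit 5) (nat_lit 4101) (nat_lit 4100) (nat_lit 1) (nat_lit 1) (nat_lit 0) (nat_lit 0) (nat_lit 1) (nat_lit 4128) (nat_lit 0x40020010008004002001) (nat_lit 0) (nat_lit 1) (nat_lit 0) (nat_lit 1) (nat_lit 0) (nat_lit 1) (nat_lit 0) .nil) (.cD (nat_lit 48) (.kA false (nat_lit 0x5004002008001002004008014007001001000003)) (.cD (nat_lit 56) (.kA false (nat_lit 0x5004002008001002004008014007001001000003)) .nil)))))))) (.cD (nat_lit 24) (.dfs (nat_lit 32) (nat_lit 4100) (nat_lit 4100) (nat_lit 0x1002001) (nat_lit 0x1002001)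 (nat_lit 0) (nat_lit 0) (nat_lit 3) (nat_lit 0) (nat_lit 0) (nat_lit 0) (nat_lit 1) (nat_lit 0) (nat_lit 1) (nat_lit 0) (nat_lit 1) (nat_lit 0x101010101010100) (.cD (nat_lit 8) (.kc (nat_lit 40) (nat_lit 0x5001001)) (.cD (nat_lit 16) (.kc (nat_lit 56) (nat_lit 0x7001001)) (.cD (nat_lit 24) (.kc (nat_lit 48) (nat_lit 0x3001001)) (.cD (nat_lit 32) (.kA false (nat_lit 0x5004002008001002004008014007001001000003)) (.cD (nat_lit 40) (.kA false (nat_lit 0x100100000400100200d001001001000003)) (.cD (nat_lit 48) (.kA false (nat_lit 0x5004002008001002004008014007001001000003)) (.cD (nat_lit 56) (.kA false (nat_lit 0x5004002008001002004008014007001001000003)) .nil)))))))) (.cD (nat_lit 32) (.kF (nat_lit 16) (nat_lit 0x1001000006014008001006001003)) (.cD (nat_lit 40) (.kF (nat_lit 16) (nat_lit 0x1001000001007001002002000003)) (.cD (nat_lit 48) (.dfs (nat_lit 32) (nat_lit 4100) (nat_lit 4100) (nat_lit 0x1002001) (nat_lit 0x1002001) (nat_lit 0) (nat_lit 0) (nat_lit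 3) (nat_lit 0) (nat_lit 0) (nat_lit 0) (nat_lit 1) (nat_lit 0) (nat_lit 1) (nat_lit 0) (nat_lit 1) (nat_lit 0x101010101010100) (.cD (nat_lit 8) (.kc (nat_lit 40) (nat_lit 0x5001001)) (.cD (nat_lit 16) (.kA false (nat_lit 0x400200300800100400100200c001002)) (.cD (nat_lit 24) (.kA false (nat_lit 0x400600300800100400100200c001002)) (.cD (nat_lit 32) (.kA false (nat_lit 0x5004002008001002004008014007001001000003)) (.cD (nat_lit 40) (.kA false (nat_lit 0x400500300800100400100200c001002)) (.cD (nat_lit 48) (.kc (nat_lit 48) (nat_lit 0x3001001)) (.cD (nat_lit 56) (.kc (nat_lit 56) (nat_lit 0x7001001)) .nil)))))))) (.cD (nat_lit 56) (.dfs (nat_lit 32) (nat_lit 4100) (nat_lit 4100) (nat_lit 0x1002001) (nat_lit 0x1002001) (nat_lit 0) (nat_lit 0) (nat_lit 3) (nat_lit 0) (nat_lit 0) (nat_lit 0) (nat_lit 1) (nat_lit 0) (nat_lit 1) (nat_lit 0) (nat_lit 1) (nat_lit 0x101010101010100) (.cD (nat_lit 8) (.kc (nat_lit 40) (nat_lit 0x5001001)) (.cD (nat_lit 16) (.kA false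 (nat_lit 0x400200700800100400100200c001002)) (.cD (nat_lit 24) (.kA false (nat_lit 0x400600700800100400100200c001002)) (.cD (nat_lit 32) (.kA false (nat_lit 0x5004002008001002004008014007001001000003)) (.cD (nat_lit 40) (.kA false (nat_lit 0x400500700800100400100200c001002)) (.cD (nat_lit 48) (.kc (nat_lit 56) (nat_lit 0x7001001)) (.cD (nat_lit 56) (.kc (nat_lit 48) (nat_lit 0x3001001)) .nil)))))))) .nil)))))))) (.cD (nat_lit 16) (.kF (nat_lit 8) (nat_lit 0x2002000001003001002)) (.cD (nat_lit 20) (.kF (nat_lit 8) (nat_lit 0xe01e005001003001002)) (.cD (nat_lit 24) (.kF (nat_lit 8) (nat_lit 0x100100000c014008002002000001003001004)) (.cD (nat_lit 32) (.dfs (nat_lit 16) (nat_lit 4098) (nat_lit 4098) (nat_lit 4097) (nat_lit 4097) (nat_lit 0) (nat_lit 0) (nat_lit 3) (nat_lit 0) (nat_lit 0) (nat_lit 0) (nat_lit 1) (nat_lit 0) (nat_lit 0x1008004) (nat_lit 32772) (nat_lit 0x1001004000008001014000018) (nat_lit 0x1000101110110) (.cD (nat_lit 4) (.kF (nat_lit 16)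 (nat_lit 0x1001000001006001002)) (.cD (nat_lit 8) (.kF (nat_lit 16) (nat_lit 0x1001000001006001002)) (.cD (nat_lit 16) (.dfs (nat_lit 32) (nat_lit 4100) (nat_lit 4100) (nat_lit 0x1002001) (nat_lit 0x1002001) (nat_lit 0) (nat_lit 0) (nat_lit 3) (nat_lit 0) (nat_lit 0) (nat_lit 0) (nat_lit 1) (nat_lit 0) (nat_lit 0x1008004) (nat_lit 32772) (nat_lit 0x1001004000008001014000018) (nat_lit 0x1000101110110) (.cD (nat_lit 4) (.kA false (nat_lit 0x100100000400100200c001002)) (.cD (nat_lit 8) (.dfs (nat_lit 5) (nat_lit 4100) (nat_lit 4101) (nat_lit 1) (nat_lit 1) (nat_lit 0) (nat_lit 0) (nat_lit 1) (nat_lit 4128) (nat_lit 0x40020010008004002001) (nat_lit 0) (nat_lit 1) (nat_lit 0) (nat_lit 1) (nat_lit 0) (nat_lit 1) (nat_lit 0) .nil) (.cD (nat_lit 16) (.kc (nat_lit 48) (nat_lit 0x3001001)) (.cD (nat_lit 20) (.kA false (nat_lit 0x100100000400100200c001002)) (.cD (nat_lit 24) (.kA false (nat_lit 0x300400200c002001001000002)) (.cD (nat_lit 32) (.kc (nat_lit 40) (nat_lit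 0x5001001)) (.cD (nat_lit 48) (.kc (nat_lit 56) (nat_lit 0x7001001)) .nil)))))))) (.cD (nat_lit 20) (.dfs (nat_lit 32) (nat_lit 4100) (nat_lit 4100) (nat_lit 0x1002001) (nat_lit 0x1002001) (nat_lit 0) (nat_lit 0) (nat_lit 3) (nat_lit 0) (nat_lit 0) (nat_lit 0) (nat_lit 1) (nat_lit 0) (nat_lit 1) (nat_lit 0) (nat_lit 1) (nat_lit 0x11001100110010) (.cD (nat_lit 4) (.kA false (nat_lit 0x100100000400100200c001002)) (.cD (nat_lit 16) (.kA false (nat_lit 0x100100000400100200c001002)) (.cD (nat_lit 20) (.kc (nat_lit 48) (nat_lit 0x3001001)) (.cD (nat_lit 32) (.kc (nat_lit 40) (nat_lit 0x5001001)) (.cD (nat_lit 36) (.kA false (nat_lit 0x100100000400100200c001002)) (.cD (nat_lit 48) (.kA false (nat_lit 0x100100000400100200c001002)) (.cD (nat_lit 52) (.kc (nat_lit 56) (nat_lit 0x7001001)) .nil)))))))) (.cD (nat_lit 24) (.dfs (nat_lit 32) (nat_lit 4100) (nat_lit 4100) (nat_lit 0x1002001) (nat_lit 0x1002001) (nat_lit 0) (nat_lit 0) (nat_lit 3) (nat_lit 0) (nat_lit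 0) (nat_lit 0) (nat_lit 1) (nat_lit 0) (nat_lit 1) (nat_lit 0) (nat_lit 1) (nat_lit 0x101010101010100) (.cD (nat_lit 8) (.kA false (nat_lit 0x100400300c002001001000002)) (.cD (nat_lit 16) (.kA false (nat_lit 0x300400100c002001001000002)) (.cD (nat_lit 24) (.kc (nat_lit 48) (nat_lit 0x3001001)) (.cD (nat_lit 32) (.kc (nat_lit 40) (nat_lit 0x5001001)) (.cD (nat_lit 40) (.kA false (nat_lit 0x500400700c002001001000002)) (.cD (nat_lit 48) (.kA false (nat_lit 0x700400500c002001001000002)) (.cD (nat_lit 56) (.kc (nat_lit 56) (nat_lit 0x7001001)) .nil)))))))) (.cD (nat_lit 32) (.kc (nat_lit 24) (nat_lit 0x3001001)) (.cD (nat_lit 48) (.dfs (nat_lit 32) (nat_lit 4100) (nat_lit 4100) (nat_lit 0x1002001) (nat_lit 0x1002001) (nat_lit 0) (nat_lit 0) (nat_lit 3) (nat_lit 0) (nat_lit 0) (nat_lit 0) (nat_lit 1) (nat_lit 0) (nat_lit 0x1008004) (nat_lit 32772) (nat_lit 0x1001004000008001014000018) (nat_lit 0x1000101110110) (.cD (nat_lit 4) (.kA false (nat_lit 0x100100000400100200c001002))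 (.cD (nat_lit 8) (.kA false (nat_lit 0x100400600c002001001000002)) (.cD (nat_lit 16) (.kc (nat_lit 56) (nat_lit 0x7001001)) (.cD (nat_lit 20) (.kA false (nat_lit 0x100100000400100200c001002)) (.cD (nat_lit 24) (.kA false (nat_lit 0x700400600c002001001000002)) (.cD (nat_lit 32) (.kc (nat_lit 40) (nat_lit 0x5001001)) (.cD (nat_lit 48) (.kc (nat_lit 48) (nat_lit 0x3001001)) .nil)))))))) .nil)))))))) (.cD (nat_lit 48) (.kF (nat_lit 8) (nat_lit 0x3003000001003001002)) .nil))))))))))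
theorem c708 : (chk [(x301, s704), (x301, s707)] [] p708).n x301 s708 = true := by decide +kernel
noncomputable def p709 : Pf := (.ext (nat_lit 1) (nat_lit 0) (nat_lit 0x1040030020004) (nat_lit 0x1002004008005001) (nat_lit 0x2003004008) (nat_lit 4107) (nat_lit 4107) (nat_lit 0xc004002001) (.dfs (nat_lit 11) (nat_lit 0x1002003004008) (nat_lit 0x100200300400c) (nat_lit 4097) (nat_lit 4097) (nat_lit 0) (nat_lit 0) (nat_lit 2) (nat_lit 1) (nat_lit 0) (nat_lit 11) (nat_lit 1) (nat_lit 0) (nat_lit 4160) (nat_lit 64) (nat_lit 0x100000b00000f00001b00001f) (nat_lit 0x88008800) (.cD (nat_lit 11) (.cut (nat_lit 0)) (.cD (nat_lit 15) (.iso x301 s708 (nat_lit 0) (nat_lit 0x1040020010008004012001) (nat_lit 0x40020010008004012001) [(nat_lit 0x1000800400200d001001), (nat_lit 0x1000800400200d003001), (nat_lit 0x10008004002009005001)] (.cut (nat_lit 0))) (.cD (nat_lit 27) (.kS (nat_lit 1) (nat_lit 0x2006008010002008008000002) (nat_lit 4159) (nat_lit 0x8004002003) (nat_lit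 0x800800000200400801000100100800800000200600801000f001004)) (.cD (nat_lit 31) (.kS (nat_lit 1) (nat_lit 0x2006008010002008008000002) (nat_lit 4123) (nat_lit 0x8004002003) (nat_lit 0x800800000200400801000100100800800000200600801000d001004)) .nil))))))
theorem c709 : (chk [(x301, s708)] [g7] p709).n x301 s709 = true := by decide +kernel
noncomputable def p710 : Pf := (.anc (nat_lit 68) (nat_lit 0x10002002002000002) (nat_lit 0x1009020010004) (.czp (nat_lit 64) (nat_lit 0) (nat_lit 0x1040020010008004) z6 (.dfs (nat_lit 4) (nat_lit 4097) (nat_lit 4097) (nat_lit 1) (nat_lit 1) (nat_lit 0) (nat_lit 0) (nat_lit 3) (nat_lit 0) (nat_lit 0) (nat_lit 0) (nat_lit 1) (nat_lit 0) (nat_lit 0x1008004) (nat_lit 32772) (nat_lit 0x1001004000008001014000018) (nat_lit 0x1000101110110) (.cD (nat_lit 4) (.dfs (nat_lit 16) (nat_lit 4098) (nat_lit 4098) (nat_lit 4097) (nat_lit 4097) (nat_lit 0) (nat_lit 0) (nat_lit 3) (nat_lit 0) (nat_lit 0) (nat_lit 0) (nat_lit 1) (nat_lit 0)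 (nat_lit 1) (nat_lit 0) (nat_lit 1) (nat_lit 0x11001100110010) (.cD (nat_lit 4) (.kc (nat_lit 20) (nat_lit 0x3001001)) (.cD (nat_lit 16) (.dfs (nat_lit 32) (nat_lit 4100) (nat_lit 4100) (nat_lit 0x1002001) (nat_lit 0x1002001) (nat_lit 0) (nat_lit 0) (nat_lit 3) (nat_lit 0) (nat_lit 0) (nat_lit 0) (nat_lit 1) (nat_lit 0) (nat_lit 1) (nat_lit 0) (nat_lit 1) (nat_lit 0x11001100110010) (.cD (nat_lit 4) (.kc (nat_lit 36) (nat_lit 0x5001001)) (.cD (nat_lit 16) (.kc (nat_lit 48) (nat_lit 0x3001001)) (.cD (nat_lit 20) (.kc (nat_lit 52) (nat_lit 0x7001001)) (.cD (nat_lit 32) (.dfs (nat_lit 9) (nat_lit 0x1004001003008) (nat_lit 0x1005001003008) (nat_lit 4098) (nat_lit 4098) (nat_lit 0) (nat_lit 0) (nat_lit 2) (nat_lit 1) (nat_lit 0) (nat_lit 8) (nat_lit 1) (nat_lit 0) (nat_lit 4100) (nat_lit 4) (nat_lit 0x1000048000058) (nat_lit 0x10001000000000000000000) (.cD (nat_lit 72) (.kb (nat_lit 9) (nat_lit 0x1001000014006001001003) (nat_lit 0x1020010008044002001)) (.cD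 (nat_lit 88) (.kb (nat_lit 25) (nat_lit 0x1001000014006005001003) (nat_lit 0x1020010008044002001)) .nil))) (.cD (nat_lit 36) (.kA true (nat_lit 0x100100000400100300d001001001000003)) (.cD (nat_lit 48) (.kA true (nat_lit 0x600800401000400400100300d001001001000003)) (.cD (nat_lit 52) (.kA true (nat_lit 0x5004003008001008004002005007001001000003)) .nil)))))))) (.cD (nat_lit 20) (.dfs (nat_lit 32) (nat_lit 4100) (nat_lit 4100) (nat_lit 0x1002001) (nat_lit 0x1002001) (nat_lit 0) (nat_lit 0) (nat_lit 3) (nat_lit 0) (nat_lit 0) (nat_lit 0) (nat_lit 1) (nat_lit 0) (nat_lit 1) (nat_lit 0) (nat_lit 1) (nat_lit 0x11001100110010) (.cD (nat_lit 4) (.kc (nat_lit 36) (nat_lit 0x5001001)) (.cD (nat_lit 16) (.kc (nat_lit 52) (nat_lit 0x7001001)) (.cD (nat_lit 20) (.kc (nat_lit 48) (nat_lit 0x3001001)) (.cD (nat_lit 32) (.kA true (nat_lit 0x5004003008001008004002005007001001000003)) (.cD (nat_lit 36) (.dfs (nat_lit 9) (nat_lit 4102) (nat_lit 4103) (nat_lit 1) (nat_lit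 1) (nat_lit 0) (nat_lit 0) (nat_lit 1) (nat_lit 4112) (nat_lit 0x40020010008004002001) (nat_lit 0) (nat_lit 1) (nat_lit 0) (nat_lit 1) (nat_lit 0) (nat_lit 1) (nat_lit 0) .nil) (.cD (nat_lit 48) (.kA true (nat_lit 0x400300500800100400100300c001002)) (.cD (nat_lit 52) (.kA true (nat_lit 0x400700100800100400100300c001002)) .nil)))))))) (.cD (nat_lit 32) (.kF (nat_lit 16) (nat_lit 0x100400100c012004002002000003)) (.cD (nat_lit 36) (.kF (nat_lit 16) (nat_lit 0x100400100c012004002002000003)) (.cD (nat_lit 48) (.dfs (nat_lit 32) (nat_lit 4100) (nat_lit 4100) (nat_lit 0x1002001) (nat_lit 0x1002001) (nat_lit 0) (nat_lit 0) (nat_lit 3) (nat_lit 0) (nat_lit 0) (nat_lit 0) (nat_lit 1) (nat_lit 0) (nat_lit 1) (nat_lit 0) (nat_lit 1) (nat_lit 0x11001100110010) (.cD (nat_lit 4) (.kc (nat_lit 36) (nat_lit 0x5001001)) (.cD (nat_lit 16) (.kA true (nat_lit 0x400200100800100400100300c001002)) (.cD (nat_lit 20) (.kA true (nat_lit 0x400600500800100400100300c001002)) (.cD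 (nat_lit 32) (.kA true (nat_lit 0x5004003008001008004002005007001001000003)) (.cD (nat_lit 36) (.kA true (nat_lit 0x400500600800100400100300c001002)) (.cD (nat_lit 48) (.kc (nat_lit 48) (nat_lit 0x3001001)) (.cD (nat_lit 52) (.kc (nat_lit 52) (nat_lit 0x7001001)) .nil)))))))) (.cD (nat_lit 52) (.dfs (nat_lit 32) (nat_lit 4100) (nat_lit 4100) (nat_lit 0x1002001) (nat_lit 0x1002001) (nat_lit 0) (nat_lit 0) (nat_lit 3) (nat_lit 0) (nat_lit 0) (nat_lit 0) (nat_lit 1) (nat_lit 0) (nat_lit 1) (nat_lit 0) (nat_lit 1) (nat_lit 0x11001100110010) (.cD (nat_lit 4) (.kc (nat_lit 36) (nat_lit 0x5001001)) (.cD (nat_lit 16) (.kA true (nat_lit 0x400200500800100400100300c001002)) (.cD (nat_lit 20) (.kA true (nat_lit 0x400600100800100400100300c001002)) (.cD (nat_lit 32) (.kA true (nat_lit 0x5004003008001008004002005007001001000003)) (.cD (nat_lit 36) (.kA true (nat_lit 0x400500200800100400100300c001002)) (.cD (nat_lit 48) (.kc (nat_lit 52) (nat_lit 0x7001001)) (.cD (nat_lit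 52) (.kc (nat_lit 48) (nat_lit 0x3001001)) .nil)))))))) .nil)))))))) (.cD (nat_lit 8) (.dfs (nat_lit 16) (nat_lit 4098) (nat_lit 4098) (nat_lit 4097) (nat_lit 4097) (nat_lit 0) (nat_lit 0) (nat_lit 3) (nat_lit 0) (nat_lit 0) (nat_lit 0) (nat_lit 1) (nat_lit 0) (nat_lit 1) (nat_lit 0) (nat_lit 1) (nat_lit 0x101010101010100) (.cD (nat_lit 8) (.kc (nat_lit 20) (nat_lit 0x3001001)) (.cD (nat_lit 16) (.dfs (nat_lit 32) (nat_lit 4100) (nat_lit 4100) (nat_lit 0x1002001) (nat_lit 0x1002001) (nat_lit 0) (nat_lit 0) (nat_lit 3) (nat_lit 0) (nat_lit 0) (nat_lit 0) (nat_lit 1) (nat_lit 0) (nat_lit 1) (nat_lit 0) (nat_lit 1) (nat_lit 0x101010101010100) (.cD (nat_lit 8) (.kc (nat_lit 36) (nat_lit 0x5001001)) (.cD (nat_lit 16) (.kc (nat_lit 48) (nat_lit 0x3001001)) (.cD (nat_lit 24) (.kc (nat_lit 52) (nat_lit 0x7001001)) (.cD (nat_lit 32) (.kA false (nat_lit 0x500400200c002002004008014005001001000003)) (.cD (nat_lit 40) (.kA false (nat_lit 0x100100000400500200d002001001000003))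 (.cD (nat_lit 48) (.kA false (nat_lit 0x600800c01000400400300200b002001001000003)) (.cD (nat_lit 56) (.kA false (nat_lit 0x300400200c002002004008014005001001000003)) .nil)))))))) (.cD (nat_lit 24) (.dfs (nat_lit 32) (nat_lit 4100) (nat_lit 4100) (nat_lit 0x1002001) (nat_lit 0x1002001) (nat_lit 0) (nat_lit 0) (nat_lit 3) (nat_lit 0) (nat_lit 0) (nat_lit 0) (nat_lit 1) (nat_lit 0) (nat_lit 1) (nat_lit 0) (nat_lit 1) (nat_lit 0x101010101010100) (.cD (nat_lit 8) (.kc (nat_lit 36) (nat_lit 0x5001001)) (.cD (nat_lit 16) (.kc (nat_lit 52) (nat_lit 0x7001001)) (.cD (nat_lit 24) (.kc (nat_lit 48) (nat_lit 0x3001001)) (.cD (nat_lit 32) (.kA false (nat_lit 0x500400600c002002004008014005001001000003)) (.cD (nat_lit 40) (.kA false (nat_lit 0x100100000400500600d002001001000003)) (.cD (nat_lit 48) (.kA false (nat_lit 0x300400600c002002004008014005001001000003)) (.cD (nat_lit 56) (.kA false (nat_lit 0x600800a01000400400300600b002001001000003)) .nil)))))))) (.cD (nat_lit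 32) (.kF (nat_lit 16) (nat_lit 0x100400100c012004002002000003)) (.cD (nat_lit 40) (.kF (nat_lit 16) (nat_lit 0x100400100c012004002002000003)) (.cD (nat_lit 48) (.dfs (nat_lit 32) (nat_lit 4100) (nat_lit 4100) (nat_lit 0x1002001) (nat_lit 0x1002001) (nat_lit 0) (nat_lit 0) (nat_lit 3) (nat_lit 0) (nat_lit 0) (nat_lit 0) (nat_lit 1) (nat_lit 0) (nat_lit 1) (nat_lit 0) (nat_lit 1) (nat_lit 0x101010101010100) (.cD (nat_lit 8) (.kc (nat_lit 36) (nat_lit 0x5001001)) (.cD (nat_lit 16) (.kA false (nat_lit 0x600800401000400400300100b002001001000003)) (.cD (nat_lit 24) (.kA false (nat_lit 0x300400500c002002004008014005001001000003)) (.cD (nat_lit 32) (.kA false (nat_lit 0x500400300c002002004008014005001001000003)) (.cD (nat_lit 40) (.kA false (nat_lit 0x100100000400500700d002001001000003)) (.cD (nat_lit 48) (.kc (nat_lit 48) (nat_lit 0x3001001)) (.cD (nat_lit 56) (.kc (nat_lit 52) (nat_lit 0x7001001)) .nil)))))))) (.cD (nat_lit 56) (.dfs (nat_lit 32) (nat_lit 4100)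 (nat_lit 4100) (nat_lit 0x1002001) (nat_lit 0x1002001) (nat_lit 0) (nat_lit 0) (nat_lit 3) (nat_lit 0) (nat_lit 0) (nat_lit 0) (nat_lit 1) (nat_lit 0) (nat_lit 1) (nat_lit 0) (nat_lit 1) (nat_lit 0x101010101010100) (.cD (nat_lit 8) (.kc (nat_lit 36) (nat_lit 0x5001001)) (.cD (nat_lit 16) (.kA false (nat_lit 0x300400100c002002004008014005001001000003)) (.cD (nat_lit 24) (.kA false (nat_lit 0x600800201000400400300500b002001001000003)) (.cD (nat_lit 32) (.kA false (nat_lit 0x500400700c002002004008014005001001000003)) (.cD (nat_lit 40) (.kA false (nat_lit 0x100100000400500300d002001001000003)) (.cD (nat_lit 48) (.kc (nat_lit 52) (nat_lit 0x7001001)) (.cD (nat_lit 56) (.kc (nat_lit 48) (nat_lit 0x3001001)) .nil)))))))) .nil)))))))) (.cD (nat_lit 16) (.kF (nat_lit 4) (nat_lit 0x2002000001003001002)) (.cD (nat_lit 20) (.kF (nat_lit 4) (nat_lit 0xe01e003001003001002)) (.cD (nat_lit 24) (.kF (nat_lit 4) (nat_lit 0x1002001002012004002002000003)) (.cD (nat_lit 32)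 (.dfs (nat_lit 16) (nat_lit 4098) (nat_lit 4098) (nat_lit 4097) (nat_lit 4097) (nat_lit 0) (nat_lit 0) (nat_lit 3) (nat_lit 0) (nat_lit 0) (nat_lit 0) (nat_lit 1) (nat_lit 0) (nat_lit 0x1008004) (nat_lit 32772) (nat_lit 0x1001004000008001014000018) (nat_lit 0x1000101110110) (.cD (nat_lit 4) (.kF (nat_lit 16) (nat_lit 0x1001000001006001002)) (.cD (nat_lit 8) (.kF (nat_lit 16) (nat_lit 0x1001000001006001002)) (.cD (nat_lit 16) (.dfs (nat_lit 32) (nat_lit 4100) (nat_lit 4100) (nat_lit 0x1002001) (nat_lit 0x1002001) (nat_lit 0) (nat_lit 0) (nat_lit 3) (nat_lit 0) (nat_lit 0) (nat_lit 0) (nat_lit 1) (nat_lit 0) (nat_lit 0x1008004) (nat_lit 32772) (nat_lit 0x1001004000008001014000018) (nat_lit 0x1000101110110) (.cD (nat_lit 4) (.kA true (nat_lit 0x100400600c002001001000002)) (.cD (nat_lit 8) (.kA false (nat_lit 0x100400200c002001001000002)) (.cD (nat_lit 16) (.kc (nat_lit 48) (nat_lit 0x3001001)) (.cD (nat_lit 20) (.kA true (nat_lit 0x300400600c002001001000002))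 (.cD (nat_lit 24) (.kA false (nat_lit 0x300400200c002001001000002)) (.cD (nat_lit 32) (.kc (nat_lit 36) (nat_lit 0x5001001)) (.cD (nat_lit 48) (.kc (nat_lit 52) (nat_lit 0x7001001)) .nil)))))))) (.cD (nat_lit 20) (.dfs (nat_lit 32) (nat_lit 4100) (nat_lit 4100) (nat_lit 0x1002001) (nat_lit 0x1002001) (nat_lit 0) (nat_lit 0) (nat_lit 3) (nat_lit 0) (nat_lit 0) (nat_lit 0) (nat_lit 1) (nat_lit 0) (nat_lit 1) (nat_lit 0) (nat_lit 1) (nat_lit 0x11001100110010) (.cD (nat_lit 4) (.kA true (nat_lit 0x100400700c002001001000002)) (.cD (nat_lit 16) (.kA true (nat_lit 0x300400500c002001001000002)) (.cD (nat_lit 20) (.kc (nat_lit 48) (nat_lit 0x3001001)) (.cD (nat_lit 32) (.kc (nat_lit 36) (nat_lit 0x5001001)) (.cD (nat_lit 36) (.dfs (nat_lit 9) (nat_lit 4100) (nat_lit 4101) (nat_lit 1) (nat_lit 1) (nat_lit 0) (nat_lit 0) (nat_lit 1) (nat_lit 4128) (nat_lit 0x40020010008004002001) (nat_lit 0) (nat_lit 1) (nat_lit 0) (nat_lit 1) (nat_lit 0) (nat_lit 1) (nat_lit 0)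 .nil) (.cD (nat_lit 48) (.kA true (nat_lit 0x700400100c002001001000002)) (.cD (nat_lit 52) (.kc (nat_lit 52) (nat_lit 0x7001001)) .nil)))))))) (.cD (nat_lit 24) (.dfs (nat_lit 32) (nat_lit 4100) (nat_lit 4100) (nat_lit 0x1002001) (nat_lit 0x1002001) (nat_lit 0) (nat_lit 0) (nat_lit 3) (nat_lit 0) (nat_lit 0) (nat_lit 0) (nat_lit 1) (nat_lit 0) (nat_lit 1) (nat_lit 0) (nat_lit 1) (nat_lit 0x101010101010100) (.cD (nat_lit 8) (.kA false (nat_lit 0x100400300c002001001000002)) (.cD (nat_lit 16) (.kA false (nat_lit 0x300400100c002001001000002)) (.cD (nat_lit 24) (.kc (nat_lit 48) (nat_lit 0x3001001)) (.cD (nat_lit 32) (.kc (nat_lit 36) (nat_lit 0x5001001)) (.cD (nat_lit 40) (.kA false (nat_lit 0x500400700c002001001000002)) (.cD (nat_lit 48) (.kA false (nat_lit 0x700400500c002001001000002)) (.cD (nat_lit 56) (.kc (nat_lit 52) (nat_lit 0x7001001)) .nil)))))))) (.cD (nat_lit 32) (.kc (nat_lit 20) (nat_lit 0x3001001)) (.cD (nat_lit 48) (.dfs (nat_lit 32) (nat_lit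 4100) (nat_lit 4100) (nat_lit 0x1002001) (nat_lit 0x1002001) (nat_lit 0) (nat_lit 0) (nat_lit 3) (nat_lit 0) (nat_lit 0) (nat_lit 0) (nat_lit 1) (nat_lit 0) (nat_lit 0x1008004) (nat_lit 32772) (nat_lit 0x1001004000008001014000018) (nat_lit 0x1000101110110) (.cD (nat_lit 4) (.kA true (nat_lit 0x100400200c002001001000002)) (.cD (nat_lit 8) (.kA false (nat_lit 0x100400600c002001001000002)) (.cD (nat_lit 16) (.kc (nat_lit 52) (nat_lit 0x7001001)) (.cD (nat_lit 20) (.kA true (nat_lit 0x700400200c002001001000002)) (.cD (nat_lit 24) (.kA false (nat_lit 0x700400600c002001001000002)) (.cD (nat_lit 32) (.kc (nat_lit 36) (nat_lit 0x5001001)) (.cD (nat_lit 48) (.kc (nat_lit 48) (nat_lit 0x3001001)) .nil)))))))) .nil)))))))) (.cD (nat_lit 48) (.kF (nat_lit 4) (nat_lit 0x1002001002012004002002000003)) .nil))))))))))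
theorem c710 : (chk [] [] p710).n x360 s710 = true := by decide +kernel
noncomputable def p711 : Pf := (.anc (nat_lit 68) (nat_lit 0x10002002002000002) (nat_lit 0x1009020010004) (.czp (nat_lit 64) (nat_lit 0) (nat_lit 0x1040020010008004) z6 (.dfs (nat_lit 4) (nat_lit 4097) (nat_lit 4097) (nat_lit 1) (nat_lit 1) (nat_lit 0) (nat_lit 0) (nat_lit 3) (nat_lit 0) (nat_lit 0) (nat_lit 0) (nat_lit 1) (nat_lit 0) (nat_lit 0x1008004) (nat_lit 32772) (nat_lit 0x1001004000008001014000018) (nat_lit 0x1000101110110) (.cD (nat_lit 4) (.dfs (nat_lit 16) (nat_lit 4098) (nat_lit 4098) (nat_lit 4097) (nat_lit 4097) (nat_lit 0) (nat_lit 0) (nat_lit 3) (nat_lit 0) (nat_lit 0) (nat_lit 0) (nat_lit 1) (nat_lit 0) (nat_lit 1) (nat_lit 0) (nat_lit 1) (nat_lit 0x11001100110010) (.cD (nat_lit 4) (.kc (nat_lit 20) (nat_lit 0x3001001)) (.cD (nat_lit 16) (.dfs (nat_lit 32) (nat_lit 4100) (nat_lit 4100) (nat_lit 0x1002001) (nat_lit 0x1002001) (nat_lit 0) (nat_lit 0) (nat_lit 3) (nat_lit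 0) (nat_lit 0) (nat_lit 0) (nat_lit 1) (nat_lit 0) (nat_lit 1) (nat_lit 0) (nat_lit 1) (nat_lit 0x11001100110010) (.cD (nat_lit 4) (.kc (nat_lit 36) (nat_lit 0x5001001)) (.cD (nat_lit 16) (.kc (nat_lit 48) (nat_lit 0x3001001)) (.cD (nat_lit 20) (.kc (nat_lit 52) (nat_lit 0x7001001)) (.cD (nat_lit 32) (.dfs (nat_lit 9) (nat_lit 0x1004001003008) (nat_lit 0x1005001003008) (nat_lit 4098) (nat_lit 4098) (nat_lit 2) (nat_lit 0) (nat_lit 2) (nat_lit 1) (nat_lit 0) (nat_lit 8) (nat_lit 1) (nat_lit 0) (nat_lit 1) (nat_lit 0) (nat_lit 1) (nat_lit 0) .nil) (.cD (nat_lit 36) (.kA true (nat_lit 0x1100100000400100300d001011001000003)) (.cD (nat_lit 48) (.kA true (nat_lit 0x600800401000400400100300d001011001000003)) (.cD (nat_lit 52) (.kA true (nat_lit 0x5004003008001008004002005007011001000003)) .nil)))))))) (.cD (nat_lit 20) (.dfs (nat_lit 32) (nat_lit 4100) (nat_lit 4100) (nat_lit 0x1002001) (nat_lit 0x1002001) (nat_lit 0) (nat_lit 0) (nat_lit 3) (nat_lit 0) (nat_lit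 0) (nat_lit 0) (nat_lit 1) (nat_lit 0) (nat_lit 1) (nat_lit 0) (nat_lit 1) (nat_lit 0x11001100110010) (.cD (nat_lit 4) (.kc (nat_lit 36) (nat_lit 0x5001001)) (.cD (nat_lit 16) (.kc (nat_lit 52) (nat_lit 0x7001001)) (.cD (nat_lit 20) (.kc (nat_lit 48) (nat_lit 0x3001001)) (.cD (nat_lit 32) (.kA true (nat_lit 0x5004003008001008004002005007011001000003)) (.cD (nat_lit 36) (.dfs (nat_lit 9) (nat_lit 4102) (nat_lit 4103) (nat_lit 1) (nat_lit 1) (nat_lit 2) (nat_lit 0) (nat_lit 1) (nat_lit 4112) (nat_lit 0x40020010008004002011) (nat_lit 0) (nat_lit 1) (nat_lit 0) (nat_lit 1) (nat_lit 0) (nat_lit 1) (nat_lit 0) .nil) (.cD (nat_lit 48) (.kA true (nat_lit 0x400300500800100400100300c001002)) (.cD (nat_lit 52) (.kA true (nat_lit 0x400700100800100400100300c001002)) .nil)))))))) (.cD (nat_lit 32) (.kF (nat_lit 16) (nat_lit 0x100400100c012004002002000003)) (.cD (nat_lit 36) (.kF (nat_lit 16) (nat_lit 0x100400100c012004002002000003)) (.cD (nat_lit 48) (.dfs (nat_lit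 32) (nat_lit 4100) (nat_lit 4100) (nat_lit 0x1002001) (nat_lit 0x1002001) (nat_lit 0) (nat_lit 0) (nat_lit 3) (nat_lit 0) (nat_lit 0) (nat_lit 0) (nat_lit 1) (nat_lit 0) (nat_lit 1) (nat_lit 0) (nat_lit 1) (nat_lit 0x11001100110010) (.cD (nat_lit 4) (.kc (nat_lit 36) (nat_lit 0x5001001)) (.cD (nat_lit 16) (.kA true (nat_lit 0x400200100800100400100300c001002)) (.cD (nat_lit 20) (.kA true (nat_lit 0x400600500800100400100300c001002)) (.cD (nat_lit 32) (.kA true (nat_lit 0x5004003008001008004002005007011001000003)) (.cD (nat_lit 36) (.kA true (nat_lit 0x400500600800100400100300c001002)) (.cD (nat_lit 48) (.kc (nat_lit 48) (nat_lit 0x3001001)) (.cD (nat_lit 52) (.kc (nat_lit 52) (nat_lit 0x7001001)) .nil)))))))) (.cD (nat_lit 52) (.dfs (nat_lit 32) (nat_lit 4100) (nat_lit 4100) (nat_lit 0x1002001) (nat_lit 0x1002001) (nat_lit 0) (nat_lit 0) (nat_lit 3) (nat_lit 0) (nat_lit 0) (nat_lit 0) (nat_lit 1) (nat_lit 0) (nat_lit 1) (nat_lit 0) (nat_lit 1) (nat_lit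 0x11001100110010) (.cD (nat_lit 4) (.kc (nat_lit 36) (nat_lit 0x5001001)) (.cD (nat_lit 16) (.kA true (nat_lit 0x400200500800100400100300c001002)) (.cD (nat_lit 20) (.kA true (nat_lit 0x400600100800100400100300c001002)) (.cD (nat_lit 32) (.kA true (nat_lit 0x5004003008001008004002005007011001000003)) (.cD (nat_lit 36) (.kA true (nat_lit 0x400500200800100400100300c001002)) (.cD (nat_lit 48) (.kc (nat_lit 52) (nat_lit 0x7001001)) (.cD (nat_lit 52) (.kc (nat_lit 48) (nat_lit 0x3001001)) .nil)))))))) .nil)))))))) (.cD (nat_lit 8) (.dfs (nat_lit 16) (nat_lit 4098) (nat_lit 4098) (nat_lit 4097) (nat_lit 4097) (nat_lit 0) (nat_lit 0) (nat_lit 3) (nat_lit 0) (nat_lit 0) (nat_lit 0) (nat_lit 1) (nat_lit 0) (nat_lit 1) (nat_lit 0) (nat_lit 1) (nat_lit 0x101010101010100) (.cD (nat_lit 8) (.kc (nat_lit 20) (nat_lit 0x3001001)) (.cD (nat_lit 16) (.dfs (nat_lit 32) (nat_lit 4100) (nat_lit 4100) (nat_lit 0x1002001) (nat_lit 0x1002001) (nat_lit 0) (nat_lit 0) (nat_lit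 3) (nat_lit 0) (nat_lit 0) (nat_lit 0) (nat_lit 1) (nat_lit 0) (nat_lit 1) (nat_lit 0) (nat_lit 1) (nat_lit 0x101010101010100) (.cD (nat_lit 8) (.kc (nat_lit 36) (nat_lit 0x5001001)) (.cD (nat_lit 16) (.kc (nat_lit 48) (nat_lit 0x3001001)) (.cD (nat_lit 24) (.kc (nat_lit 52) (nat_lit 0x7001001)) (.cD (nat_lit 32) (.kA false (nat_lit 0x500400200c002002004008014005011001000003)) (.cD (nat_lit 40) (.kA false (nat_lit 0x1100100000400500200d002011001000003)) (.cD (nat_lit 48) (.kA false (nat_lit 0x600800c01000400400300200b002011001000003)) (.cD (nat_lit 56) (.kA false (nat_lit 0x300400200c002002004008014005011001000003)) .nil)))))))) (.cD (nat_lit 24) (.dfs (nat_lit 32) (nat_lit 4100) (nat_lit 4100) (nat_lit 0x1002001) (nat_lit 0x1002001) (nat_lit 0) (nat_lit 0) (nat_lit 3) (nat_lit 0) (nat_lit 0) (nat_lit 0) (nat_lit 1) (nat_lit 0) (nat_lit 1) (nat_lit 0) (nat_lit 1) (nat_lit 0x101010101010100) (.cD (nat_lit 8) (.kc (nat_lit 36) (nat_lit 0x5001001)) (.cD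 (nat_lit 16) (.kc (nat_lit 52) (nat_lit 0x7001001)) (.cD (nat_lit 24) (.kc (nat_lit 48) (nat_lit 0x3001001)) (.cD (nat_lit 32) (.kA false (nat_lit 0x500400600c002002004008014005011001000003)) (.cD (nat_lit 40) (.kA false (nat_lit 0x1100100000400500600d002011001000003)) (.cD (nat_lit 48) (.kA false (nat_lit 0x300400600c002002004008014005011001000003)) (.cD (nat_lit 56) (.kA false (nat_lit 0x600800a01000400400300600b002011001000003)) .nil)))))))) (.cD (nat_lit 32) (.kF (nat_lit 16) (nat_lit 0x100400100c012004002002000003)) (.cD (nat_lit 40) (.kF (nat_lit 16) (nat_lit 0x100400100c012004002002000003)) (.cD (nat_lit 48) (.dfs (nat_lit 32) (nat_lit 4100) (nat_lit 4100) (nat_lit 0x1002001) (nat_lit 0x1002001) (nat_lit 0) (nat_lit 0) (nat_lit 3) (nat_lit 0) (nat_lit 0) (nat_lit 0) (nat_lit 1) (nat_lit 0) (nat_lit 1) (nat_lit 0) (nat_lit 1) (nat_lit 0x101010101010100) (.cD (nat_lit 8) (.kc (nat_lit 36) (nat_lit 0x5001001)) (.cD (nat_lit 16) (.kA false (nat_lit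 0x600800401000400400300100b002011001000003)) (.cD (nat_lit 24) (.kA false (nat_lit 0x300400500c002002004008014005011001000003)) (.cD (nat_lit 32) (.kA false (nat_lit 0x500400300c002002004008014005011001000003)) (.cD (nat_lit 40) (.kA false (nat_lit 0x1100100000400500700d002011001000003)) (.cD (nat_lit 48) (.kc (nat_lit 48) (nat_lit 0x3001001)) (.cD (nat_lit 56) (.kc (nat_lit 52) (nat_lit 0x7001001)) .nil)))))))) (.cD (nat_lit 56) (.dfs (nat_lit 32) (nat_lit 4100) (nat_lit 4100) (nat_lit 0x1002001) (nat_lit 0x1002001) (nat_lit 0) (nat_lit 0) (nat_lit 3) (nat_lit 0) (nat_lit 0) (nat_lit 0) (nat_lit 1) (nat_lit 0) (nat_lit 1) (nat_lit 0) (nat_lit 1) (nat_lit 0x101010101010100) (.cD (nat_lit 8) (.kc (nat_lit 36) (nat_lit 0x5001001)) (.cD (nat_lit 16) (.kA false (nat_lit 0x300400100c002002004008014005011001000003)) (.cD (nat_lit 24) (.kA false (nat_lit 0x600800201000400400300500b002011001000003)) (.cD (nat_lit 32) (.kA false (nat_lit 0x500400700c002002004008014005011001000003))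 (.cD (nat_lit 40) (.kA false (nat_lit 0x1100100000400500300d002011001000003)) (.cD (nat_lit 48) (.kc (nat_lit 52) (nat_lit 0x7001001)) (.cD (nat_lit 56) (.kc (nat_lit 48) (nat_lit 0x3001001)) .nil)))))))) .nil)))))))) (.cD (nat_lit 16) (.kF (nat_lit 4) (nat_lit 0x2002000001003001002)) (.cD (nat_lit 20) (.kF (nat_lit 4) (nat_lit 0xe01e003001003001002)) (.cD (nat_lit 24) (.kF (nat_lit 4) (nat_lit 0x1002001002012004002002000003)) (.cD (nat_lit 32) (.dfs (nat_lit 16) (nat_lit 4098) (nat_lit 4098) (nat_lit 4097) (nat_lit 4097) (nat_lit 0) (nat_lit 0) (nat_lit 3) (nat_lit 0) (nat_lit 0) (nat_lit 0) (nat_lit 1) (nat_lit 0) (nat_lit 0x1008004) (nat_lit 32772) (nat_lit 0x1001004000008001014000018) (nat_lit 0x1000101110110) (.cD (nat_lit 4) (.kF (nat_lit 16) (nat_lit 0x11001000001006001002)) (.cD (nat_lit 8) (.kF (nat_lit 16) (nat_lit 0x11001000001006001002)) (.cD (nat_lit 16) (.dfs (nat_lit 32) (nat_lit 4100) (nat_lit 4100) (nat_lit 0x1002001) (nat_lit 0x1002001)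 (nat_lit 0) (nat_lit 0) (nat_lit 3) (nat_lit 0) (nat_lit 0) (nat_lit 0) (nat_lit 1) (nat_lit 0) (nat_lit 0x1008004) (nat_lit 32772) (nat_lit 0x1001004000008001014000018) (nat_lit 0x1000101110110) (.cD (nat_lit 4) (.kA true (nat_lit 0x100400600c002011001000002)) (.cD (nat_lit 8) (.kA false (nat_lit 0x100400200c002011001000002)) (.cD (nat_lit 16) (.kc (nat_lit 48) (nat_lit 0x3001001)) (.cD (nat_lit 20) (.kA true (nat_lit 0x300400600c002011001000002)) (.cD (nat_lit 24) (.kA false (nat_lit 0x300400200c002011001000002)) (.cD (nat_lit 32) (.kc (nat_lit 36) (nat_lit 0x5001001)) (.cD (nat_lit 48) (.kc (nat_lit 52) (nat_lit 0x7001001)) .nil)))))))) (.cD (nat_lit 20) (.dfs (nat_lit 32) (nat_lit 4100) (nat_lit 4100) (nat_lit 0x1002001) (nat_lit 0x1002001) (nat_lit 0) (nat_lit 0) (nat_lit 3) (nat_lit 0) (nat_lit 0) (nat_lit 0) (nat_lit 1) (nat_lit 0) (nat_lit 1) (nat_lit 0) (nat_lit 1) (nat_lit 0x11001100110010) (.cD (nat_lit 4) (.kA true (nat_lit 0x100400700c002011001000002))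 (.cD (nat_lit 16) (.kA true (nat_lit 0x300400500c002011001000002)) (.cD (nat_lit 20) (.kc (nat_lit 48) (nat_lit 0x3001001)) (.cD (nat_lit 32) (.kc (nat_lit 36) (nat_lit 0x5001001)) (.cD (nat_lit 36) (.dfs (nat_lit 9) (nat_lit 4100) (nat_lit 4101) (nat_lit 1) (nat_lit 1) (nat_lit 2) (nat_lit 0) (nat_lit 1) (nat_lit 4128) (nat_lit 0x40020010008004002011) (nat_lit 0) (nat_lit 1) (nat_lit 0) (nat_lit 1) (nat_lit 0) (nat_lit 1) (nat_lit 0) .nil) (.cD (nat_lit 48) (.kA true (nat_lit 0x700400100c002011001000002)) (.cD (nat_lit 52) (.kc (nat_lit 52) (nat_lit 0x7001001)) .nil)))))))) (.cD (nat_lit 24) (.dfs (nat_lit 32) (nat_lit 4100) (nat_lit 4100) (nat_lit 0x1002001) (nat_lit 0x1002001) (nat_lit 0) (nat_lit 0) (nat_lit 3) (nat_lit 0) (nat_lit 0) (nat_lit 0) (nat_lit 1) (nat_lit 0) (nat_lit 1) (nat_lit 0) (nat_lit 1) (nat_lit 0x101010101010100) (.cD (nat_lit 8) (.kA false (nat_lit 0x100400300c002011001000002)) (.cD (nat_lit 16) (.kA false (nat_lit 0x300400100c002011001000002))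 (.cD (nat_lit 24) (.kc (nat_lit 48) (nat_lit 0x3001001)) (.cD (nat_lit 32) (.kc (nat_lit 36) (nat_lit 0x5001001)) (.cD (nat_lit 40) (.kA false (nat_lit 0x500400700c002011001000002)) (.cD (nat_lit 48) (.kA false (nat_lit 0x700400500c002011001000002)) (.cD (nat_lit 56) (.kc (nat_lit 52) (nat_lit 0x7001001)) .nil)))))))) (.cD (nat_lit 32) (.kc (nat_lit 20) (nat_lit 0x3001001)) (.cD (nat_lit 48) (.dfs (nat_lit 32) (nat_lit 4100) (nat_lit 4100) (nat_lit 0x1002001) (nat_lit 0x1002001) (nat_lit 0) (nat_lit 0) (nat_lit 3) (nat_lit 0) (nat_lit 0) (nat_lit 0) (nat_lit 1) (nat_lit 0) (nat_lit 0x1008004) (nat_lit 32772) (nat_lit 0x1001004000008001014000018) (nat_lit 0x1000101110110) (.cD (nat_lit 4) (.kA true (nat_lit 0x100400200c002011001000002)) (.cD (nat_lit 8) (.kA false (nat_lit 0x100400600c002011001000002)) (.cD (nat_lit 16) (.kc (nat_lit 52) (nat_lit 0x7001001)) (.cD (nat_lit 20) (.kA true (nat_lit 0x700400200c002011001000002)) (.cD (nat_lit 24) (.kA false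 (nat_lit 0x700400600c002011001000002)) (.cD (nat_lit 32) (.kc (nat_lit 36) (nat_lit 0x5001001)) (.cD (nat_lit 48) (.kc (nat_lit 48) (nat_lit 0x3001001)) .nil)))))))) .nil)))))))) (.cD (nat_lit 48) (.kF (nat_lit 4) (nat_lit 0x1002001002012004002002000003)) .nil))))))))))
theorem c711 : (chk [] [] p711).n x361 s711 = true := by decide +kernel
noncomputable def p712 : Pf := (.anc (nat_lit 68) (nat_lit 0x10002002002000002) (nat_lit 0x1009020010004) (.czp (nat_lit 64) (nat_lit 0) (nat_lit 0x1040020010008004) z6 (.dfs (nat_lit 4) (nat_lit 4097) (nat_lit 4097) (nat_lit 1) (nat_lit 1) (nat_lit 0) (nat_lit 0) (nat_lit 3) (nat_lit 0) (nat_lit 0) (nat_lit 0) (nat_lit 1) (nat_lit 0) (nat_lit 0x1008004) (nat_lit 32772) (nat_lit 0x1001004000008001014000018) (nat_lit 0x1000101110110) (.cD (nat_lit 4) (.dfs (nat_lit 16) (nat_lit 4098) (nat_lit 4098) (nat_lit 4097) (nat_lit 4097) (nat_lit 0) (nat_lit 0) (nat_lit 3) (nat_lit 0) (nat_lit 0) (nat_lit 0) (nat_lit 1) (nat_lit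 0) (nat_lit 1) (nat_lit 0) (nat_lit 1) (nat_lit 0x11001100110010) (.cD (nat_lit 4) (.kc (nat_lit 20) (nat_lit 0x3001001)) (.cD (nat_lit 16) (.dfs (nat_lit 32) (nat_lit 4100) (nat_lit 4100) (nat_lit 0x1002001) (nat_lit 0x1002001) (nat_lit 0) (nat_lit 0) (nat_lit 3) (nat_lit 0) (nat_lit 0) (nat_lit 0) (nat_lit 1) (nat_lit 0) (nat_lit 1) (nat_lit 0) (nat_lit 1) (nat_lit 0x11001100110010) (.cD (nat_lit 4) (.kc (nat_lit 36) (nat_lit 0x5001001)) (.cD (nat_lit 16) (.kc (nat_lit 48) (nat_lit 0x3001001)) (.cD (nat_lit 20) (.kc (nat_lit 52) (nat_lit 0x7001001)) (.cD (nat_lit 32) (.dfs (nat_lit 9) (nat_lit 0x1004001003008) (nat_lit 0x1005001003008) (nat_lit 4098) (nat_lit 4098) (nat_lit 2) (nat_lit 0) (nat_lit 2) (nat_lit 1) (nat_lit 0) (nat_lit 8) (nat_lit 1) (nat_lit 0) (nat_lit 1) (nat_lit 0) (nat_lit 1) (nat_lit 0) .nil) (.cD (nat_lit 36) (.kA true (nat_lit 0x1100100000400100300d001011001000003)) (.cD (nat_lit 48) (.kA true (nat_lit 0x600800401000400400100300d001011001000003))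 (.cD (nat_lit 52) (.kA true (nat_lit 0x5004003008001008004002005007011001000003)) .nil)))))))) (.cD (nat_lit 20) (.dfs (nat_lit 32) (nat_lit 4100) (nat_lit 4100) (nat_lit 0x1002001) (nat_lit 0x1002001) (nat_lit 0) (nat_lit 0) (nat_lit 3) (nat_lit 0) (nat_lit 0) (nat_lit 0) (nat_lit 1) (nat_lit 0) (nat_lit 1) (nat_lit 0) (nat_lit 1) (nat_lit 0x11001100110010) (.cD (nat_lit 4) (.kc (nat_lit 36) (nat_lit 0x5001001)) (.cD (nat_lit 16) (.kc (nat_lit 52) (nat_lit 0x7001001)) (.cD (nat_lit 20) (.kc (nat_lit 48) (nat_lit 0x3001001)) (.cD (nat_lit 32) (.kA true (nat_lit 0x5004003008001008004002005007011001000003)) (.cD (nat_lit 36) (.dfs (nat_lit 9) (nat_lit 4102) (nat_lit 4103) (nat_lit 1) (nat_lit 1) (nat_lit 2) (nat_lit 0) (nat_lit 1) (nat_lit 4112) (nat_lit 0x40020010008004002011) (nat_lit 0) (nat_lit 1) (nat_lit 0) (nat_lit 1) (nat_lit 0) (nat_lit 1) (nat_lit 0) .nil) (.cD (nat_lit 48) (.kA true (nat_lit 0x400300500800100400100300c001002)) (.cD (nat_lit 52)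 (.kA true (nat_lit 0x400700100800100400100300c001002)) .nil)))))))) (.cD (nat_lit 32) (.kF (nat_lit 16) (nat_lit 0x100400100c012004002002000003)) (.cD (nat_lit 36) (.kF (nat_lit 16) (nat_lit 0x100400100c012004002002000003)) (.cD (nat_lit 48) (.dfs (nat_lit 32) (nat_lit 4100) (nat_lit 4100) (nat_lit 0x1002001) (nat_lit 0x1002001) (nat_lit 0) (nat_lit 0) (nat_lit 3) (nat_lit 0) (nat_lit 0) (nat_lit 0) (nat_lit 1) (nat_lit 0) (nat_lit 1) (nat_lit 0) (nat_lit 1) (nat_lit 0x11001100110010) (.cD (nat_lit 4) (.kc (nat_lit 36) (nat_lit 0x5001001)) (.cD (nat_lit 16) (.kA true (nat_lit 0x400200100800100400100300c001002)) (.cD (nat_lit 20) (.kA true (nat_lit 0x400600500800100400100300c001002)) (.cD (nat_lit 32) (.kA true (nat_lit 0x5004003008001008004002005007011001000003)) (.cD (nat_lit 36) (.kA true (nat_lit 0x400500600800100400100300c001002)) (.cD (nat_lit 48) (.kc (nat_lit 48) (nat_lit 0x3001001)) (.cD (nat_lit 52) (.kc (nat_lit 52) (nat_lit 0x7001001)) .nil))))))))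 (.cD (nat_lit 52) (.dfs (nat_lit 32) (nat_lit 4100) (nat_lit 4100) (nat_lit 0x1002001) (nat_lit 0x1002001) (nat_lit 0) (nat_lit 0) (nat_lit 3) (nat_lit 0) (nat_lit 0) (nat_lit 0) (nat_lit 1) (nat_lit 0) (nat_lit 1) (nat_lit 0) (nat_lit 1) (nat_lit 0x11001100110010) (.cD (nat_lit 4) (.kc (nat_lit 36) (nat_lit 0x5001001)) (.cD (nat_lit 16) (.kA true (nat_lit 0x400200500800100400100300c001002)) (.cD (nat_lit 20) (.kA true (nat_lit 0x400600100800100400100300c001002)) (.cD (nat_lit 32) (.kA true (nat_lit 0x5004003008001008004002005007011001000003)) (.cD (nat_lit 36) (.kA true (nat_lit 0x400500200800100400100300c001002)) (.cD (nat_lit 48) (.kc (nat_lit 52) (nat_lit 0x7001001)) (.cD (nat_lit 52) (.kc (nat_lit 48) (nat_lit 0x3001001)) .nil)))))))) .nil)))))))) (.cD (nat_lit 8) (.dfs (nat_lit 16) (nat_lit 4098) (nat_lit 4098) (nat_lit 4097) (nat_lit 4097) (nat_lit 0) (nat_lit 0) (nat_lit 3) (nat_lit 0) (nat_lit 0) (nat_lit 0) (nat_lit 1) (nat_lit 0) (nat_lit 1)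 (nat_lit 0) (nat_lit 1) (nat_lit 0x101010101010100) (.cD (nat_lit 8) (.kc (nat_lit 20) (nat_lit 0x3001001)) (.cD (nat_lit 16) (.dfs (nat_lit 32) (nat_lit 4100) (nat_lit 4100) (nat_lit 0x1002001) (nat_lit 0x1002001) (nat_lit 0) (nat_lit 0) (nat_lit 3) (nat_lit 0) (nat_lit 0) (nat_lit 0) (nat_lit 1) (nat_lit 0) (nat_lit 1) (nat_lit 0) (nat_lit 1) (nat_lit 0x101010101010100) (.cD (nat_lit 8) (.kc (nat_lit 36) (nat_lit 0x5001001)) (.cD (nat_lit 16) (.kc (nat_lit 48) (nat_lit 0x3001001)) (.cD (nat_lit 24) (.kc (nat_lit 52) (nat_lit 0x7001001)) (.cD (nat_lit 32) (.kA false (nat_lit 0x500400200c002002004008014005011001000003)) (.cD (nat_lit 40) (.kA false (nat_lit 0x1100100000400500200d002011001000003)) (.cD (nat_lit 48) (.kA false (nat_lit 0x600800c01000400400300200b002011001000003)) (.cD (nat_lit 56) (.kA false (nat_lit 0x300400200c002002004008014005011001000003)) .nil)))))))) (.cD (nat_lit 24) (.dfs (nat_lit 32) (nat_lit 4100) (nat_lit 4100) (nat_lit 0x1002001)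 (nat_lit 0x1002001) (nat_lit 0) (nat_lit 0) (nat_lit 3) (nat_lit 0) (nat_lit 0) (nat_lit 0) (nat_lit 1) (nat_lit 0) (nat_lit 1) (nat_lit 0) (nat_lit 1) (nat_lit 0x101010101010100) (.cD (nat_lit 8) (.kc (nat_lit 36) (nat_lit 0x5001001)) (.cD (nat_lit 16) (.kc (nat_lit 52) (nat_lit 0x7001001)) (.cD (nat_lit 24) (.kc (nat_lit 48) (nat_lit 0x3001001)) (.cD (nat_lit 32) (.kA false (nat_lit 0x500400600c002002004008014005011001000003)) (.cD (nat_lit 40) (.kA false (nat_lit 0x1100100000400500600d002011001000003)) (.cD (nat_lit 48) (.kA false (nat_lit 0x300400600c002002004008014005011001000003)) (.cD (nat_lit 56) (.kA false (nat_lit 0x600800a01000400400300600b002011001000003)) .nil)))))))) (.cD (nat_lit 32) (.kF (nat_lit 16) (nat_lit 0x100400100c012004002002000003)) (.cD (nat_lit 40) (.kF (nat_lit 16) (nat_lit 0x100400100c012004002002000003)) (.cD (nat_lit 48) (.dfs (nat_lit 32) (nat_lit 4100) (nat_lit 4100) (nat_lit 0x1002001) (nat_lit 0x1002001) (nat_lit 0)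 (nat_lit 0) (nat_lit 3) (nat_lit 0) (nat_lit 0) (nat_lit 0) (nat_lit 1) (nat_lit 0) (nat_lit 1) (nat_lit 0) (nat_lit 1) (nat_lit 0x101010101010100) (.cD (nat_lit 8) (.kc (nat_lit 36) (nat_lit 0x5001001)) (.cD (nat_lit 16) (.kA false (nat_lit 0x600800401000400400300100b002011001000003)) (.cD (nat_lit 24) (.kA false (nat_lit 0x300400500c002002004008014005011001000003)) (.cD (nat_lit 32) (.kA false (nat_lit 0x500400300c002002004008014005011001000003)) (.cD (nat_lit 40) (.kA false (nat_lit 0x1100100000400500700d002011001000003)) (.cD (nat_lit 48) (.kc (nat_lit 48) (nat_lit 0x3001001)) (.cD (nat_lit 56) (.kc (nat_lit 52) (nat_lit 0x7001001)) .nil)))))))) (.cD (nat_lit 56) (.dfs (nat_lit 32) (nat_lit 4100) (nat_lit 4100) (nat_lit 0x1002001) (nat_lit 0x1002001) (nat_lit 0) (nat_lit 0) (nat_lit 3) (nat_lit 0) (nat_lit 0) (nat_lit 0) (nat_lit 1) (nat_lit 0) (nat_lit 1) (nat_lit 0) (nat_lit 1) (nat_lit 0x101010101010100) (.cD (nat_lit 8) (.kc (nat_lit 36) (nat_lit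 0x5001001)) (.cD (nat_lit 16) (.kA false (nat_lit 0x300400100c002002004008014005011001000003)) (.cD (nat_lit 24) (.kA false (nat_lit 0x600800201000400400300500b002011001000003)) (.cD (nat_lit 32) (.kA false (nat_lit 0x500400700c002002004008014005011001000003)) (.cD (nat_lit 40) (.kA false (nat_lit 0x1100100000400500300d002011001000003)) (.cD (nat_lit 48) (.kc (nat_lit 52) (nat_lit 0x7001001)) (.cD (nat_lit 56) (.kc (nat_lit 48) (nat_lit 0x3001001)) .nil)))))))) .nil)))))))) (.cD (nat_lit 16) (.kF (nat_lit 4) (nat_lit 0x2002000001003001002)) (.cD (nat_lit 20) (.kF (nat_lit 4) (nat_lit 0xe01e003001003001002)) (.cD (nat_lit 24) (.kF (nat_lit 4) (nat_lit 0x1002001002012004002002000003)) (.cD (nat_lit 32) (.dfs (nat_lit 16) (nat_lit 4098) (nat_lit 4098) (nat_lit 4097) (nat_lit 4097) (nat_lit 0) (nat_lit 0) (nat_lit 3) (nat_lit 0) (nat_lit 0) (nat_lit 0) (nat_lit 1) (nat_lit 0) (nat_lit 0x1008004) (nat_lit 32772) (nat_lit 0x1001004000008001014000018) (nat_lit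 0x1000101110110) (.cD (nat_lit 4) (.kF (nat_lit 16) (nat_lit 0x11001000001006001002)) (.cD (nat_lit 8) (.kF (nat_lit 16) (nat_lit 0x11001000001006001002)) (.cD (nat_lit 16) (.dfs (nat_lit 32) (nat_lit 4100) (nat_lit 4100) (nat_lit 0x1002001) (nat_lit 0x1002001) (nat_lit 0) (nat_lit 0) (nat_lit 3) (nat_lit 0) (nat_lit 0) (nat_lit 0) (nat_lit 1) (nat_lit 0) (nat_lit 0x1008004) (nat_lit 32772) (nat_lit 0x1001004000008001014000018) (nat_lit 0x1000101110110) (.cD (nat_lit 4) (.kA true (nat_lit 0x100400600c002011001000002)) (.cD (nat_lit 8) (.kA false (nat_lit 0x100400200c002011001000002)) (.cD (nat_lit 16) (.kc (nat_lit 48) (nat_lit 0x3001001)) (.cD (nat_lit 20) (.kA true (nat_lit 0x300400600c002011001000002)) (.cD (nat_lit 24) (.kA false (nat_lit 0x300400200c002011001000002)) (.cD (nat_lit 32) (.kc (nat_lit 36) (nat_lit 0x5001001)) (.cD (nat_lit 48) (.kc (nat_lit 52) (nat_lit 0x7001001)) .nil)))))))) (.cD (nat_lit 20) (.dfs (nat_lit 32) (nat_lit 4100) (nat_lit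 4100) (nat_lit 0x1002001) (nat_lit 0x1002001) (nat_lit 0) (nat_lit 0) (nat_lit 3) (nat_lit 0) (nat_lit 0) (nat_lit 0) (nat_lit 1) (nat_lit 0) (nat_lit 1) (nat_lit 0) (nat_lit 1) (nat_lit 0x11001100110010) (.cD (nat_lit 4) (.kA true (nat_lit 0x100400700c002011001000002)) (.cD (nat_lit 16) (.kA true (nat_lit 0x300400500c002011001000002)) (.cD (nat_lit 20) (.kc (nat_lit 48) (nat_lit 0x3001001)) (.cD (nat_lit 32) (.kc (nat_lit 36) (nat_lit 0x5001001)) (.cD (nat_lit 36) (.dfs (nat_lit 9) (nat_lit 4100) (nat_lit 4101) (nat_lit 1) (nat_lit 1) (nat_lit 2) (nat_lit 0) (nat_lit 1) (nat_lit 4128) (nat_lit 0x40020010008004002011) (nat_lit 0) (nat_lit 1) (nat_lit 0) (nat_lit 1) (nat_lit 0) (nat_lit 1) (nat_lit 0) .nil) (.cD (nat_lit 48) (.kA true (nat_lit 0x700400100c002011001000002)) (.cD (nat_lit 52) (.kc (nat_lit 52) (nat_lit 0x7001001)) .nil)))))))) (.cD (nat_lit 24) (.dfs (nat_lit 32) (nat_lit 4100) (nat_lit 4100) (nat_lit 0x1002001) (nat_lit 0x1002001) (nat_lit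 0) (nat_lit 0) (nat_lit 3) (nat_lit 0) (nat_lit 0) (nat_lit 0) (nat_lit 1) (nat_lit 0) (nat_lit 1) (nat_lit 0) (nat_lit 1) (nat_lit 0x101010101010100) (.cD (nat_lit 8) (.kA false (nat_lit 0x100400300c002011001000002)) (.cD (nat_lit 16) (.kA false (nat_lit 0x300400100c002011001000002)) (.cD (nat_lit 24) (.kc (nat_lit 48) (nat_lit 0x3001001)) (.cD (nat_lit 32) (.kc (nat_lit 36) (nat_lit 0x5001001)) (.cD (nat_lit 40) (.kA false (nat_lit 0x500400700c002011001000002)) (.cD (nat_lit 48) (.kA false (nat_lit 0x700400500c002011001000002)) (.cD (nat_lit 56) (.kc (nat_lit 52) (nat_lit 0x7001001)) .nil)))))))) (.cD (nat_lit 32) (.kc (nat_lit 20) (nat_lit 0x3001001)) (.cD (nat_lit 48) (.dfs (nat_lit 32) (nat_lit 4100) (nat_lit 4100) (nat_lit 0x1002001) (nat_lit 0x1002001) (nat_lit 0) (nat_lit 0) (nat_lit 3) (nat_lit 0) (nat_lit 0) (nat_lit 0) (nat_lit 1) (nat_lit 0) (nat_lit 0x1008004) (nat_lit 32772) (nat_lit 0x1001004000008001014000018) (nat_lit 0x1000101110110)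 (.cD (nat_lit 4) (.kA true (nat_lit 0x100400200c002011001000002)) (.cD (nat_lit 8) (.kA false (nat_lit 0x100400600c002011001000002)) (.cD (nat_lit 16) (.kc (nat_lit 52) (nat_lit 0x7001001)) (.cD (nat_lit 20) (.kA true (nat_lit 0x700400200c002011001000002)) (.cD (nat_lit 24) (.kA false (nat_lit 0x700400600c002011001000002)) (.cD (nat_lit 32) (.kc (nat_lit 36) (nat_lit 0x5001001)) (.cD (nat_lit 48) (.kc (nat_lit 48) (nat_lit 0x3001001)) .nil)))))))) .nil)))))))) (.cD (nat_lit 48) (.kF (nat_lit 4) (nat_lit 0x1002001002012004002002000003)) .nil))))))))))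
theorem c712 : (chk [] [] p712).n x362 s712 = true := by decide +kernel
noncomputable def p713 : Pf := (.ext (nat_lit 1) (nat_lit 0) (nat_lit 0x1040030020004) (nat_lit 0x1002004008001001) (nat_lit 0x2003004008) (nat_lit 4107) (nat_lit 4107) (nat_lit 0xc004002001) (.dfs (nat_lit 11) (nat_lit 0x1002003004008) (nat_lit 0x100200300400c) (nat_lit 4097) (nat_lit 4097) (nat_lit 2) (nat_lit 0) (nat_lit 2) (nat_lit 1) (nat_lit 0) (nat_lit 11) (nat_lit 1) (nat_lit 0) (nat_lit 1) (nat_lit 0) (nat_lit 1) (nat_lit 0) .nil))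
theorem c713 : (chk [] [] p713).n x363 s713 = true := by decide +kernel
noncomputable def p714 : Pf := (.anc (nat_lit 68) (nat_lit 0x10002002002000002) (nat_lit 0x1009020010004) (.czp (nat_lit 64) (nat_lit 0) (nat_lit 0x1040020010008004) z6 (.dfs (nat_lit 4) (nat_lit 4097) (nat_lit 4097) (nat_lit 1) (nat_lit 1) (nat_lit 0) (nat_lit 0) (nat_lit 3) (nat_lit 0) (nat_lit 0) (nat_lit 0) (nat_lit 1) (nat_lit 0) (nat_lit 0x1008004) (nat_lit 32772) (nat_lit 0x1001004000008001014000018) (nat_lit 0x1000101110110) (.cD (nat_lit 4) (.dfs (nat_lit 16) (nat_lit 4098) (nat_lit 4098) (nat_lit 4097) (nat_lit 4097) (nat_lit 0) (nat_lit 0) (nat_lit 3) (nat_lit 0) (nat_lit 0) (nat_lit 0) (nat_lit 1) (nat_lit 0) (nat_lit 1) (nat_lit 0) (nat_lit 1) (nat_lit 0x11001100110010) (.cD (nat_lit 4) (.kc (nat_lit 20) (nat_lit 0x3001001)) (.cD (nat_lit 16) (.dfs (nat_lit 32) (nat_lit 4100) (nat_lit 4100) (nat_lit 0x1002001) (nat_lit 0x1002001) (nat_lit 0) (nat_lit 0) (nat_lit 3) (nat_lit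 0) (nat_lit 0) (nat_lit 0) (nat_lit 1) (nat_lit 0) (nat_lit 1) (nat_lit 0) (nat_lit 1) (nat_lit 0x11001100110010) (.cD (nat_lit 4) (.kc (nat_lit 36) (nat_lit 0x5001001)) (.cD (nat_lit 16) (.kc (nat_lit 48) (nat_lit 0x3001001)) (.cD (nat_lit 20) (.kc (nat_lit 52) (nat_lit 0x7001001)) (.cD (nat_lit 32) (.dfs (nat_lit 9) (nat_lit 0x1004001003008) (nat_lit 0x1005001003008) (nat_lit 4098) (nat_lit 4098) (nat_lit 1) (nat_lit 0) (nat_lit 2) (nat_lit 1) (nat_lit 0) (nat_lit 8) (nat_lit 1) (nat_lit 0) (nat_lit 4100) (nat_lit 4) (nat_lit 0x100004c00005c) (nat_lit 0x100010000000000000000000) (.cD (nat_lit 76) (.kb (nat_lit 13) (nat_lit 0x102100001400600b001003) (nat_lit 0x102001004800c006001)) (.cD (nat_lit 92) (.kb (nat_lit 29) (nat_lit 0x102100001400600f001003) (nat_lit 0x102001004800c006001)) .nil))) (.cD (nat_lit 36) (.kA true (nat_lit 0x2100100000400100300d001021001000003)) (.cD (nat_lit 48) (.kA true (nat_lit 0x600800401000400400100300d001021001000003)) (.cD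 (nat_lit 52) (.kA true (nat_lit 0x5004003008001008004002005007021001000003)) .nil)))))))) (.cD (nat_lit 20) (.dfs (nat_lit 32) (nat_lit 4100) (nat_lit 4100) (nat_lit 0x1002001) (nat_lit 0x1002001) (nat_lit 0) (nat_lit 0) (nat_lit 3) (nat_lit 0) (nat_lit 0) (nat_lit 0) (nat_lit 1) (nat_lit 0) (nat_lit 1) (nat_lit 0) (nat_lit 1) (nat_lit 0x11001100110010) (.cD (nat_lit 4) (.kc (nat_lit 36) (nat_lit 0x5001001)) (.cD (nat_lit 16) (.kc (nat_lit 52) (nat_lit 0x7001001)) (.cD (nat_lit 20) (.kc (nat_lit 48) (nat_lit 0x3001001)) (.cD (nat_lit 32) (.kA true (nat_lit 0x5004003008001008004002005007021001000003)) (.cD (nat_lit 36) (.dfs (nat_lit 9) (nat_lit 4102) (nat_lit 4103) (nat_lit 1) (nat_lit 1) (nat_lit 1) (nat_lit 0) (nat_lit 1) (nat_lit 4112) (nat_lit 0x40020010008004002021) (nat_lit 0) (nat_lit 1) (nat_lit 0) (nat_lit 1) (nat_lit 0) (nat_lit 1) (nat_lit 0) .nil) (.cD (nat_lit 48) (.kA true (nat_lit 0x400300500800100400100300c001002)) (.cD (nat_lit 52) (.kA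 true (nat_lit 0x400700100800100400100300c001002)) .nil)))))))) (.cD (nat_lit 32) (.kF (nat_lit 16) (nat_lit 0x100400100c012004002002000003)) (.cD (nat_lit 36) (.kF (nat_lit 16) (nat_lit 0x100400100c012004002002000003)) (.cD (nat_lit 48) (.dfs (nat_lit 32) (nat_lit 4100) (nat_lit 4100) (nat_lit 0x1002001) (nat_lit 0x1002001) (nat_lit 0) (nat_lit 0) (nat_lit 3) (nat_lit 0) (nat_lit 0) (nat_lit 0) (nat_lit 1) (nat_lit 0) (nat_lit 1) (nat_lit 0) (nat_lit 1) (nat_lit 0x11001100110010) (.cD (nat_lit 4) (.kc (nat_lit 36) (nat_lit 0x5001001)) (.cD (nat_lit 16) (.kA true (nat_lit 0x400200100800100400100300c001002)) (.cD (nat_lit 20) (.kA true (nat_lit 0x400600500800100400100300c001002)) (.cD (nat_lit 32) (.kA true (nat_lit 0x5004003008001008004002005007021001000003)) (.cD (nat_lit 36) (.kA true (nat_lit 0x400500600800100400100300c001002)) (.cD (nat_lit 48) (.kc (nat_lit 48) (nat_lit 0x3001001)) (.cD (nat_lit 52) (.kc (nat_lit 52) (nat_lit 0x7001001)) .nil))))))))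 (.cD (nat_lit 52) (.dfs (nat_lit 32) (nat_lit 4100) (nat_lit 4100) (nat_lit 0x1002001) (nat_lit 0x1002001) (nat_lit 0) (nat_lit 0) (nat_lit 3) (nat_lit 0) (nat_lit 0) (nat_lit 0) (nat_lit 1) (nat_lit 0) (nat_lit 1) (nat_lit 0) (nat_lit 1) (nat_lit 0x11001100110010) (.cD (nat_lit 4) (.kc (nat_lit 36) (nat_lit 0x5001001)) (.cD (nat_lit 16) (.kA true (nat_lit 0x400200500800100400100300c001002)) (.cD (nat_lit 20) (.kA true (nat_lit 0x400600100800100400100300c001002)) (.cD (nat_lit 32) (.kA true (nat_lit 0x5004003008001008004002005007021001000003)) (.cD (nat_lit 36) (.kA true (nat_lit 0x400500200800100400100300c001002)) (.cD (nat_lit 48) (.kc (nat_lit 52) (nat_lit 0x7001001)) (.cD (nat_lit 52) (.kc (nat_lit 48) (nat_lit 0x3001001)) .nil)))))))) .nil)))))))) (.cD (nat_lit 8) (.dfs (nat_lit 16) (nat_lit 4098) (nat_lit 4098) (nat_lit 4097) (nat_lit 4097) (nat_lit 0) (nat_lit 0) (nat_lit 3) (nat_lit 0) (nat_lit 0) (nat_lit 0) (nat_lit 1) (nat_lit 0) (nat_lit 1)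 (nat_lit 0) (nat_lit 1) (nat_lit 0x101010101010100) (.cD (nat_lit 8) (.kc (nat_lit 20) (nat_lit 0x3001001)) (.cD (nat_lit 16) (.dfs (nat_lit 32) (nat_lit 4100) (nat_lit 4100) (nat_lit 0x1002001) (nat_lit 0x1002001) (nat_lit 0) (nat_lit 0) (nat_lit 3) (nat_lit 0) (nat_lit 0) (nat_lit 0) (nat_lit 1) (nat_lit 0) (nat_lit 1) (nat_lit 0) (nat_lit 1) (nat_lit 0x101010101010100) (.cD (nat_lit 8) (.kc (nat_lit 36) (nat_lit 0x5001001)) (.cD (nat_lit 16) (.kc (nat_lit 48) (nat_lit 0x3001001)) (.cD (nat_lit 24) (.kc (nat_lit 52) (nat_lit 0x7001001)) (.cD (nat_lit 32) (.kA false (nat_lit 0x500400200c002002004008014005021001000003)) (.cD (nat_lit 40) (.kA false (nat_lit 0x2100100000400500200d002021001000003)) (.cD (nat_lit 48) (.kA false (nat_lit 0x600800c01000400400300200b002021001000003)) (.cD (nat_lit 56) (.kA false (nat_lit 0x300400200c002002004008014005021001000003)) .nil)))))))) (.cD (nat_lit 24) (.dfs (nat_lit 32) (nat_lit 4100) (nat_lit 4100) (nat_lit 0x1002001)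 (nat_lit 0x1002001) (nat_lit 0) (nat_lit 0) (nat_lit 3) (nat_lit 0) (nat_lit 0) (nat_lit 0) (nat_lit 1) (nat_lit 0) (nat_lit 1) (nat_lit 0) (nat_lit 1) (nat_lit 0x101010101010100) (.cD (nat_lit 8) (.kc (nat_lit 36) (nat_lit 0x5001001)) (.cD (nat_lit 16) (.kc (nat_lit 52) (nat_lit 0x7001001)) (.cD (nat_lit 24) (.kc (nat_lit 48) (nat_lit 0x3001001)) (.cD (nat_lit 32) (.kA false (nat_lit 0x500400600c002002004008014005021001000003)) (.cD (nat_lit 40) (.kA false (nat_lit 0x2100100000400500600d002021001000003)) (.cD (nat_lit 48) (.kA false (nat_lit 0x300400600c002002004008014005021001000003)) (.cD (nat_lit 56) (.kA false (nat_lit 0x600800a01000400400300600b002021001000003)) .nil)))))))) (.cD (nat_lit 32) (.kF (nat_lit 16) (nat_lit 0x100400100c012004002002000003)) (.cD (nat_lit 40) (.kF (nat_lit 16) (nat_lit 0x100400100c012004002002000003)) (.cD (nat_lit 48) (.dfs (nat_lit 32) (nat_lit 4100) (nat_lit 4100) (nat_lit 0x1002001) (nat_lit 0x1002001) (nat_lit 0)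 (nat_lit 0) (nat_lit 3) (nat_lit 0) (nat_lit 0) (nat_lit 0) (nat_lit 1) (nat_lit 0) (nat_lit 1) (nat_lit 0) (nat_lit 1) (nat_lit 0x101010101010100) (.cD (nat_lit 8) (.kc (nat_lit 36) (nat_lit 0x5001001)) (.cD (nat_lit 16) (.kA false (nat_lit 0x600800401000400400300100b002021001000003)) (.cD (nat_lit 24) (.kA false (nat_lit 0x300400500c002002004008014005021001000003)) (.cD (nat_lit 32) (.kA false (nat_lit 0x500400300c002002004008014005021001000003)) (.cD (nat_lit 40) (.kA false (nat_lit 0x2100100000400500700d002021001000003)) (.cD (nat_lit 48) (.kc (nat_lit 48) (nat_lit 0x3001001)) (.cD (nat_lit 56) (.kc (nat_lit 52) (nat_lit 0x7001001)) .nil)))))))) (.cD (nat_lit 56) (.dfs (nat_lit 32) (nat_lit 4100) (nat_lit 4100) (nat_lit 0x1002001) (nat_lit 0x1002001) (nat_lit 0) (nat_lit 0) (nat_lit 3) (nat_lit 0) (nat_lit 0) (nat_lit 0) (nat_lit 1) (nat_lit 0) (nat_lit 1) (nat_lit 0) (nat_lit 1) (nat_lit 0x101010101010100) (.cD (nat_lit 8) (.kc (nat_lit 36) (nat_lit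 0x5001001)) (.cD (nat_lit 16) (.kA false (nat_lit 0x300400100c002002004008014005021001000003)) (.cD (nat_lit 24) (.kA false (nat_lit 0x600800201000400400300500b002021001000003)) (.cD (nat_lit 32) (.kA false (nat_lit 0x500400700c002002004008014005021001000003)) (.cD (nat_lit 40) (.kA false (nat_lit 0x2100100000400500300d002021001000003)) (.cD (nat_lit 48) (.kc (nat_lit 52) (nat_lit 0x7001001)) (.cD (nat_lit 56) (.kc (nat_lit 48) (nat_lit 0x3001001)) .nil)))))))) .nil)))))))) (.cD (nat_lit 16) (.kF (nat_lit 4) (nat_lit 0x2002000001003001002)) (.cD (nat_lit 20) (.kF (nat_lit 4) (nat_lit 0xe01e003001003001002)) (.cD (nat_lit 24) (.kF (nat_lit 4) (nat_lit 0x1002001002012004002002000003)) (.cD (nat_lit 32) (.dfs (nat_lit 16) (nat_lit 4098) (nat_lit 4098) (nat_lit 4097) (nat_lit 4097) (nat_lit 0) (nat_lit 0) (nat_lit 3) (nat_lit 0) (nat_lit 0) (nat_lit 0) (nat_lit 1) (nat_lit 0) (nat_lit 0x1008004) (nat_lit 32772) (nat_lit 0x1001004000008001014000018) (nat_lit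 0x1000101110110) (.cD (nat_lit 4) (.kF (nat_lit 16) (nat_lit 0x21001000001006001002)) (.cD (nat_lit 8) (.kF (nat_lit 16) (nat_lit 0x21001000001006001002)) (.cD (nat_lit 16) (.dfs (nat_lit 32) (nat_lit 4100) (nat_lit 4100) (nat_lit 0x1002001) (nat_lit 0x1002001) (nat_lit 0) (nat_lit 0) (nat_lit 3) (nat_lit 0) (nat_lit 0) (nat_lit 0) (nat_lit 1) (nat_lit 0) (nat_lit 0x1008004) (nat_lit 32772) (nat_lit 0x1001004000008001014000018) (nat_lit 0x1000101110110) (.cD (nat_lit 4) (.kA true (nat_lit 0x100400600c002021001000002)) (.cD (nat_lit 8) (.kA false (nat_lit 0x100400200c002021001000002)) (.cD (nat_lit 16) (.kc (nat_lit 48) (nat_lit 0x3001001)) (.cD (nat_lit 20) (.kA true (nat_lit 0x300400600c002021001000002)) (.cD (nat_lit 24) (.kA false (nat_lit 0x300400200c002021001000002)) (.cD (nat_lit 32) (.kc (nat_lit 36) (nat_lit 0x5001001)) (.cD (nat_lit 48) (.kc (nat_lit 52) (nat_lit 0x7001001)) .nil)))))))) (.cD (nat_lit 20) (.dfs (nat_lit 32) (nat_lit 4100) (nat_lit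 4100) (nat_lit 0x1002001) (nat_lit 0x1002001) (nat_lit 0) (nat_lit 0) (nat_lit 3) (nat_lit 0) (nat_lit 0) (nat_lit 0) (nat_lit 1) (nat_lit 0) (nat_lit 1) (nat_lit 0) (nat_lit 1) (nat_lit 0x11001100110010) (.cD (nat_lit 4) (.kA true (nat_lit 0x100400700c002021001000002)) (.cD (nat_lit 16) (.kA true (nat_lit 0x300400500c002021001000002)) (.cD (nat_lit 20) (.kc (nat_lit 48) (nat_lit 0x3001001)) (.cD (nat_lit 32) (.kc (nat_lit 36) (nat_lit 0x5001001)) (.cD (nat_lit 36) (.dfs (nat_lit 9) (nat_lit 4100) (nat_lit 4101) (nat_lit 1) (nat_lit 1) (nat_lit 1) (nat_lit 0) (nat_lit 1) (nat_lit 4128) (nat_lit 0x40020010008004002021) (nat_lit 0) (nat_lit 1) (nat_lit 0) (nat_lit 1) (nat_lit 0) (nat_lit 1) (nat_lit 0) .nil) (.cD (nat_lit 48) (.kA true (nat_lit 0x700400100c002021001000002)) (.cD (nat_lit 52) (.kc (nat_lit 52) (nat_lit 0x7001001)) .nil)))))))) (.cD (nat_lit 24) (.dfs (nat_lit 32) (nat_lit 4100) (nat_lit 4100) (nat_lit 0x1002001) (nat_lit 0x1002001) (nat_lit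 0) (nat_lit 0) (nat_lit 3) (nat_lit 0) (nat_lit 0) (nat_lit 0) (nat_lit 1) (nat_lit 0) (nat_lit 1) (nat_lit 0) (nat_lit 1) (nat_lit 0x101010101010100) (.cD (nat_lit 8) (.kA false (nat_lit 0x100400300c002021001000002)) (.cD (nat_lit 16) (.kA false (nat_lit 0x300400100c002021001000002)) (.cD (nat_lit 24) (.kc (nat_lit 48) (nat_lit 0x3001001)) (.cD (nat_lit 32) (.kc (nat_lit 36) (nat_lit 0x5001001)) (.cD (nat_lit 40) (.kA false (nat_lit 0x500400700c002021001000002)) (.cD (nat_lit 48) (.kA false (nat_lit 0x700400500c002021001000002)) (.cD (nat_lit 56) (.kc (nat_lit 52) (nat_lit 0x7001001)) .nil)))))))) (.cD (nat_lit 32) (.kc (nat_lit 20) (nat_lit 0x3001001)) (.cD (nat_lit 48) (.dfs (nat_lit 32) (nat_lit 4100) (nat_lit 4100) (nat_lit 0x1002001) (nat_lit 0x1002001) (nat_lit 0) (nat_lit 0) (nat_lit 3) (nat_lit 0) (nat_lit 0) (nat_lit 0) (nat_lit 1) (nat_lit 0) (nat_lit 0x1008004) (nat_lit 32772) (nat_lit 0x1001004000008001014000018) (nat_lit 0x1000101110110)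 (.cD (nat_lit 4) (.kA true (nat_lit 0x100400200c002021001000002)) (.cD (nat_lit 8) (.kA false (nat_lit 0x100400600c002021001000002)) (.cD (nat_lit 16) (.kc (nat_lit 52) (nat_lit 0x7001001)) (.cD (nat_lit 20) (.kA true (nat_lit 0x700400200c002021001000002)) (.cD (nat_lit 24) (.kA false (nat_lit 0x700400600c002021001000002)) (.cD (nat_lit 32) (.kc (nat_lit 36) (nat_lit 0x5001001)) (.cD (nat_lit 48) (.kc (nat_lit 48) (nat_lit 0x3001001)) .nil)))))))) .nil)))))))) (.cD (nat_lit 48) (.kF (nat_lit 4) (nat_lit 0x1002001002012004002002000003)) .nil))))))))))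
theorem c714 : (chk [] [] p714).n x364 s714 = true := by decide +kernel
noncomputable def p715 : Pf := (.anc (nat_lit 68) (nat_lit 0x10002002002000002) (nat_lit 0x1009020010004) (.czp (nat_lit 64) (nat_lit 0) (nat_lit 0x1040020010008004) z6 (.dfs (nat_lit 4) (nat_lit 4097) (nat_lit 4097) (nat_lit 1) (nat_lit 1) (nat_lit 0) (nat_lit 0) (nat_lit 3) (nat_lit 0) (nat_lit 0) (nat_lit 0) (nat_lit 1) (nat_lit 0) (nat_lit 0x1008004) (nat_lit 32772) (nat_lit 0x1001004000008001014000018) (nat_lit 0x1000101110110) (.cD (nat_lit 4) (.dfs (nat_lit 16) (nat_lit 4098) (nat_lit 4098) (nat_lit 4097) (nat_lit 4097) (nat_lit 0) (nat_lit 0) (nat_lit 3) (nat_lit 0) (nat_lit 0) (nat_lit 0) (nat_lit 1) (nat_lit 0) (nat_lit 1) (nat_lit 0) (nat_lit 1) (nat_lit 0x11001100110010) (.cD (nat_lit 4) (.kc (nat_lit 20) (nat_lit 0x3001001)) (.cD (nat_lit 16) (.dfs (nat_lit 32) (nat_lit 4100) (nat_lit 4100) (nat_lit 0x1002001) (nat_lit 0x1002001) (nat_lit 0) (nat_lit 0) (nat_lit 3) (nat_lit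 0) (nat_lit 0) (nat_lit 0) (nat_lit 1) (nat_lit 0) (nat_lit 1) (nat_lit 0) (nat_lit 1) (nat_lit 0x11001100110010) (.cD (nat_lit 4) (.kc (nat_lit 36) (nat_lit 0x5001001)) (.cD (nat_lit 16) (.kc (nat_lit 48) (nat_lit 0x3001001)) (.cD (nat_lit 20) (.kc (nat_lit 52) (nat_lit 0x7001001)) (.cD (nat_lit 32) (.dfs (nat_lit 9) (nat_lit 0x1004001003008) (nat_lit 0x1005001003008) (nat_lit 4098) (nat_lit 4098) (nat_lit 3) (nat_lit 0) (nat_lit 2) (nat_lit 1) (nat_lit 0) (nat_lit 8) (nat_lit 1) (nat_lit 0) (nat_lit 1) (nat_lit 0) (nat_lit 1) (nat_lit 0) .nil) (.cD (nat_lit 36) (.kA true (nat_lit 0x3100100000400100300d001031001000003)) (.cD (nat_lit 48) (.kA true (nat_lit 0x600800401000400400100300d001031001000003)) (.cD (nat_lit 52) (.kA true (nat_lit 0x5004003008001008004002005007031001000003)) .nil)))))))) (.cD (nat_lit 20) (.dfs (nat_lit 32) (nat_lit 4100) (nat_lit 4100) (nat_lit 0x1002001) (nat_lit 0x1002001) (nat_lit 0) (nat_lit 0) (nat_lit 3) (nat_lit 0) (nat_lit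 0) (nat_lit 0) (nat_lit 1) (nat_lit 0) (nat_lit 1) (nat_lit 0) (nat_lit 1) (nat_lit 0x11001100110010) (.cD (nat_lit 4) (.kc (nat_lit 36) (nat_lit 0x5001001)) (.cD (nat_lit 16) (.kc (nat_lit 52) (nat_lit 0x7001001)) (.cD (nat_lit 20) (.kc (nat_lit 48) (nat_lit 0x3001001)) (.cD (nat_lit 32) (.kA true (nat_lit 0x5004003008001008004002005007031001000003)) (.cD (nat_lit 36) (.dfs (nat_lit 9) (nat_lit 4102) (nat_lit 4103) (nat_lit 1) (nat_lit 1) (nat_lit 3) (nat_lit 0) (nat_lit 1) (nat_lit 4112) (nat_lit 0x40020010008004002031) (nat_lit 0) (nat_lit 1) (nat_lit 0) (nat_lit 1) (nat_lit 0) (nat_lit 1) (nat_lit 0) .nil) (.cD (nat_lit 48) (.kA true (nat_lit 0x400300500800100400100300c001002)) (.cD (nat_lit 52) (.kA true (nat_lit 0x400700100800100400100300c001002)) .nil)))))))) (.cD (nat_lit 32) (.kF (nat_lit 16) (nat_lit 0x100400100c012004002002000003)) (.cD (nat_lit 36) (.kF (nat_lit 16) (nat_lit 0x100400100c012004002002000003)) (.cD (nat_lit 48) (.dfs (nat_lit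 32) (nat_lit 4100) (nat_lit 4100) (nat_lit 0x1002001) (nat_lit 0x1002001) (nat_lit 0) (nat_lit 0) (nat_lit 3) (nat_lit 0) (nat_lit 0) (nat_lit 0) (nat_lit 1) (nat_lit 0) (nat_lit 1) (nat_lit 0) (nat_lit 1) (nat_lit 0x11001100110010) (.cD (nat_lit 4) (.kc (nat_lit 36) (nat_lit 0x5001001)) (.cD (nat_lit 16) (.kA true (nat_lit 0x400200100800100400100300c001002)) (.cD (nat_lit 20) (.kA true (nat_lit 0x400600500800100400100300c001002)) (.cD (nat_lit 32) (.kA true (nat_lit 0x5004003008001008004002005007031001000003)) (.cD (nat_lit 36) (.kA true (nat_lit 0x400500600800100400100300c001002)) (.cD (nat_lit 48) (.kc (nat_lit 48) (nat_lit 0x3001001)) (.cD (nat_lit 52) (.kc (nat_lit 52) (nat_lit 0x7001001)) .nil)))))))) (.cD (nat_lit 52) (.dfs (nat_lit 32) (nat_lit 4100) (nat_lit 4100) (nat_lit 0x1002001) (nat_lit 0x1002001) (nat_lit 0) (nat_lit 0) (nat_lit 3) (nat_lit 0) (nat_lit 0) (nat_lit 0) (nat_lit 1) (nat_lit 0) (nat_lit 1) (nat_lit 0) (nat_lit 1) (nat_lit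 0x11001100110010) (.cD (nat_lit 4) (.kc (nat_lit 36) (nat_lit 0x5001001)) (.cD (nat_lit 16) (.kA true (nat_lit 0x400200500800100400100300c001002)) (.cD (nat_lit 20) (.kA true (nat_lit 0x400600100800100400100300c001002)) (.cD (nat_lit 32) (.kA true (nat_lit 0x5004003008001008004002005007031001000003)) (.cD (nat_lit 36) (.kA true (nat_lit 0x400500200800100400100300c001002)) (.cD (nat_lit 48) (.kc (nat_lit 52) (nat_lit 0x7001001)) (.cD (nat_lit 52) (.kc (nat_lit 48) (nat_lit 0x3001001)) .nil)))))))) .nil)))))))) (.cD (nat_lit 8) (.dfs (nat_lit 16) (nat_lit 4098) (nat_lit 4098) (nat_lit 4097) (nat_lit 4097) (nat_lit 0) (nat_lit 0) (nat_lit 3) (nat_lit 0) (nat_lit 0) (nat_lit 0) (nat_lit 1) (nat_lit 0) (nat_lit 1) (nat_lit 0) (nat_lit 1) (nat_lit 0x101010101010100) (.cD (nat_lit 8) (.kc (nat_lit 20) (nat_lit 0x3001001)) (.cD (nat_lit 16) (.dfs (nat_lit 32) (nat_lit 4100) (nat_lit 4100) (nat_lit 0x1002001) (nat_lit 0x1002001) (nat_lit 0) (nat_lit 0) (nat_lit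 3) (nat_lit 0) (nat_lit 0) (nat_lit 0) (nat_lit 1) (nat_lit 0) (nat_lit 1) (nat_lit 0) (nat_lit 1) (nat_lit 0x101010101010100) (.cD (nat_lit 8) (.kc (nat_lit 36) (nat_lit 0x5001001)) (.cD (nat_lit 16) (.kc (nat_lit 48) (nat_lit 0x3001001)) (.cD (nat_lit 24) (.kc (nat_lit 52) (nat_lit 0x7001001)) (.cD (nat_lit 32) (.kA false (nat_lit 0x500400200c002002004008014005031001000003)) (.cD (nat_lit 40) (.kA false (nat_lit 0x3100100000400500200d002031001000003)) (.cD (nat_lit 48) (.kA false (nat_lit 0x600800c01000400400300200b002031001000003)) (.cD (nat_lit 56) (.kA false (nat_lit 0x300400200c002002004008014005031001000003)) .nil)))))))) (.cD (nat_lit 24) (.dfs (nat_lit 32) (nat_lit 4100) (nat_lit 4100) (nat_lit 0x1002001) (nat_lit 0x1002001) (nat_lit 0) (nat_lit 0) (nat_lit 3) (nat_lit 0) (nat_lit 0) (nat_lit 0) (nat_lit 1) (nat_lit 0) (nat_lit 1) (nat_lit 0) (nat_lit 1) (nat_lit 0x101010101010100) (.cD (nat_lit 8) (.kc (nat_lit 36) (nat_lit 0x5001001)) (.cD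 (nat_lit 16) (.kc (nat_lit 52) (nat_lit 0x7001001)) (.cD (nat_lit 24) (.kc (nat_lit 48) (nat_lit 0x3001001)) (.cD (nat_lit 32) (.kA false (nat_lit 0x500400600c002002004008014005031001000003)) (.cD (nat_lit 40) (.kA false (nat_lit 0x3100100000400500600d002031001000003)) (.cD (nat_lit 48) (.kA false (nat_lit 0x300400600c002002004008014005031001000003)) (.cD (nat_lit 56) (.kA false (nat_lit 0x600800a01000400400300600b002031001000003)) .nil)))))))) (.cD (nat_lit 32) (.kF (nat_lit 16) (nat_lit 0x100400100c012004002002000003)) (.cD (nat_lit 40) (.kF (nat_lit 16) (nat_lit 0x100400100c012004002002000003)) (.cD (nat_lit 48) (.dfs (nat_lit 32) (nat_lit 4100) (nat_lit 4100) (nat_lit 0x1002001) (nat_lit 0x1002001) (nat_lit 0) (nat_lit 0) (nat_lit 3) (nat_lit 0) (nat_lit 0) (nat_lit 0) (nat_lit 1) (nat_lit 0) (nat_lit 1) (nat_lit 0) (nat_lit 1) (nat_lit 0x101010101010100) (.cD (nat_lit 8) (.kc (nat_lit 36) (nat_lit 0x5001001)) (.cD (nat_lit 16) (.kA false (nat_lit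 0x600800401000400400300100b002031001000003)) (.cD (nat_lit 24) (.kA false (nat_lit 0x300400500c002002004008014005031001000003)) (.cD (nat_lit 32) (.kA false (nat_lit 0x500400300c002002004008014005031001000003)) (.cD (nat_lit 40) (.kA false (nat_lit 0x3100100000400500700d002031001000003)) (.cD (nat_lit 48) (.kc (nat_lit 48) (nat_lit 0x3001001)) (.cD (nat_lit 56) (.kc (nat_lit 52) (nat_lit 0x7001001)) .nil)))))))) (.cD (nat_lit 56) (.dfs (nat_lit 32) (nat_lit 4100) (nat_lit 4100) (nat_lit 0x1002001) (nat_lit 0x1002001) (nat_lit 0) (nat_lit 0) (nat_lit 3) (nat_lit 0) (nat_lit 0) (nat_lit 0) (nat_lit 1) (nat_lit 0) (nat_lit 1) (nat_lit 0) (nat_lit 1) (nat_lit 0x101010101010100) (.cD (nat_lit 8) (.kc (nat_lit 36) (nat_lit 0x5001001)) (.cD (nat_lit 16) (.kA false (nat_lit 0x300400100c002002004008014005031001000003)) (.cD (nat_lit 24) (.kA false (nat_lit 0x600800201000400400300500b002031001000003)) (.cD (nat_lit 32) (.kA false (nat_lit 0x500400700c002002004008014005031001000003))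 (.cD (nat_lit 40) (.kA false (nat_lit 0x3100100000400500300d002031001000003)) (.cD (nat_lit 48) (.kc (nat_lit 52) (nat_lit 0x7001001)) (.cD (nat_lit 56) (.kc (nat_lit 48) (nat_lit 0x3001001)) .nil)))))))) .nil)))))))) (.cD (nat_lit 16) (.kF (nat_lit 4) (nat_lit 0x2002000001003001002)) (.cD (nat_lit 20) (.kF (nat_lit 4) (nat_lit 0xe01e003001003001002)) (.cD (nat_lit 24) (.kF (nat_lit 4) (nat_lit 0x1002001002012004002002000003)) (.cD (nat_lit 32) (.dfs (nat_lit 16) (nat_lit 4098) (nat_lit 4098) (nat_lit 4097) (nat_lit 4097) (nat_lit 0) (nat_lit 0) (nat_lit 3) (nat_lit 0) (nat_lit 0) (nat_lit 0) (nat_lit 1) (nat_lit 0) (nat_lit 0x1008004) (nat_lit 32772) (nat_lit 0x1001004000008001014000018) (nat_lit 0x1000101110110) (.cD (nat_lit 4) (.kF (nat_lit 16) (nat_lit 0x31001000001006001002)) (.cD (nat_lit 8) (.kF (nat_lit 16) (nat_lit 0x31001000001006001002)) (.cD (nat_lit 16) (.dfs (nat_lit 32) (nat_lit 4100) (nat_lit 4100) (nat_lit 0x1002001) (nat_lit 0x1002001)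 (nat_lit 0) (nat_lit 0) (nat_lit 3) (nat_lit 0) (nat_lit 0) (nat_lit 0) (nat_lit 1) (nat_lit 0) (nat_lit 0x1008004) (nat_lit 32772) (nat_lit 0x1001004000008001014000018) (nat_lit 0x1000101110110) (.cD (nat_lit 4) (.kA true (nat_lit 0x100400600c002031001000002)) (.cD (nat_lit 8) (.kA false (nat_lit 0x100400200c002031001000002)) (.cD (nat_lit 16) (.kc (nat_lit 48) (nat_lit 0x3001001)) (.cD (nat_lit 20) (.kA true (nat_lit 0x300400600c002031001000002)) (.cD (nat_lit 24) (.kA false (nat_lit 0x300400200c002031001000002)) (.cD (nat_lit 32) (.kc (nat_lit 36) (nat_lit 0x5001001)) (.cD (nat_lit 48) (.kc (nat_lit 52) (nat_lit 0x7001001)) .nil)))))))) (.cD (nat_lit 20) (.dfs (nat_lit 32) (nat_lit 4100) (nat_lit 4100) (nat_lit 0x1002001) (nat_lit 0x1002001) (nat_lit 0) (nat_lit 0) (nat_lit 3) (nat_lit 0) (nat_lit 0) (nat_lit 0) (nat_lit 1) (nat_lit 0) (nat_lit 1) (nat_lit 0) (nat_lit 1) (nat_lit 0x11001100110010) (.cD (nat_lit 4) (.kA true (nat_lit 0x100400700c002031001000002))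 (.cD (nat_lit 16) (.kA true (nat_lit 0x300400500c002031001000002)) (.cD (nat_lit 20) (.kc (nat_lit 48) (nat_lit 0x3001001)) (.cD (nat_lit 32) (.kc (nat_lit 36) (nat_lit 0x5001001)) (.cD (nat_lit 36) (.dfs (nat_lit 9) (nat_lit 4100) (nat_lit 4101) (nat_lit 1) (nat_lit 1) (nat_lit 3) (nat_lit 0) (nat_lit 1) (nat_lit 4128) (nat_lit 0x40020010008004002031) (nat_lit 0) (nat_lit 1) (nat_lit 0) (nat_lit 1) (nat_lit 0) (nat_lit 1) (nat_lit 0) .nil) (.cD (nat_lit 48) (.kA true (nat_lit 0x700400100c002031001000002)) (.cD (nat_lit 52) (.kc (nat_lit 52) (nat_lit 0x7001001)) .nil)))))))) (.cD (nat_lit 24) (.dfs (nat_lit 32) (nat_lit 4100) (nat_lit 4100) (nat_lit 0x1002001) (nat_lit 0x1002001) (nat_lit 0) (nat_lit 0) (nat_lit 3) (nat_lit 0) (nat_lit 0) (nat_lit 0) (nat_lit 1) (nat_lit 0) (nat_lit 1) (nat_lit 0) (nat_lit 1) (nat_lit 0x101010101010100) (.cD (nat_lit 8) (.kA false (nat_lit 0x100400300c002031001000002)) (.cD (nat_lit 16) (.kA false (nat_lit 0x300400100c002031001000002))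 (.cD (nat_lit 24) (.kc (nat_lit 48) (nat_lit 0x3001001)) (.cD (nat_lit 32) (.kc (nat_lit 36) (nat_lit 0x5001001)) (.cD (nat_lit 40) (.kA false (nat_lit 0x500400700c002031001000002)) (.cD (nat_lit 48) (.kA false (nat_lit 0x700400500c002031001000002)) (.cD (nat_lit 56) (.kc (nat_lit 52) (nat_lit 0x7001001)) .nil)))))))) (.cD (nat_lit 32) (.kc (nat_lit 20) (nat_lit 0x3001001)) (.cD (nat_lit 48) (.dfs (nat_lit 32) (nat_lit 4100) (nat_lit 4100) (nat_lit 0x1002001) (nat_lit 0x1002001) (nat_lit 0) (nat_lit 0) (nat_lit 3) (nat_lit 0) (nat_lit 0) (nat_lit 0) (nat_lit 1) (nat_lit 0) (nat_lit 0x1008004) (nat_lit 32772) (nat_lit 0x1001004000008001014000018) (nat_lit 0x1000101110110) (.cD (nat_lit 4) (.kA true (nat_lit 0x100400200c002031001000002)) (.cD (nat_lit 8) (.kA false (nat_lit 0x100400600c002031001000002)) (.cD (nat_lit 16) (.kc (nat_lit 52) (nat_lit 0x7001001)) (.cD (nat_lit 20) (.kA true (nat_lit 0x700400200c002031001000002)) (.cD (nat_lit 24) (.kA false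 (nat_lit 0x700400600c002031001000002)) (.cD (nat_lit 32) (.kc (nat_lit 36) (nat_lit 0x5001001)) (.cD (nat_lit 48) (.kc (nat_lit 48) (nat_lit 0x3001001)) .nil)))))))) .nil)))))))) (.cD (nat_lit 48) (.kF (nat_lit 4) (nat_lit 0x1002001002012004002002000003)) .nil))))))))))
theorem c715 : (chk [] [] p715).n x365 s715 = true := by decide +kernel
noncomputable def p716 : Pf := (.anc (nat_lit 68) (nat_lit 0x10002002002000002) (nat_lit 0x1009020010004) (.czp (nat_lit 64) (nat_lit 0) (nat_lit 0x1040020010008004) z6 (.dfs (nat_lit 4) (nat_lit 4097) (nat_lit 4097) (nat_lit 1) (nat_lit 1) (nat_lit 0) (nat_lit 0) (nat_lit 3) (nat_lit 0) (nat_lit 0) (nat_lit 0) (nat_lit 1) (nat_lit 0) (nat_lit 0x1008004) (nat_lit 32772) (nat_lit 0x1001004000008001014000018) (nat_lit 0x1000101110110) (.cD (nat_lit 4) (.dfs (nat_lit 16) (nat_lit 4098) (nat_lit 4098) (nat_lit 4097) (nat_lit 4097) (nat_lit 0) (nat_lit 0) (nat_lit 3) (nat_lit 0) (nat_lit 0) (nat_lit 0) (nat_lit 1) (nat_lit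 0) (nat_lit 1) (nat_lit 0) (nat_lit 1) (nat_lit 0x11001100110010) (.cD (nat_lit 4) (.kc (nat_lit 20) (nat_lit 0x3001001)) (.cD (nat_lit 16) (.dfs (nat_lit 32) (nat_lit 4100) (nat_lit 4100) (nat_lit 0x1002001) (nat_lit 0x1002001) (nat_lit 0) (nat_lit 0) (nat_lit 3) (nat_lit 0) (nat_lit 0) (nat_lit 0) (nat_lit 1) (nat_lit 0) (nat_lit 1) (nat_lit 0) (nat_lit 1) (nat_lit 0x11001100110010) (.cD (nat_lit 4) (.kc (nat_lit 36) (nat_lit 0x5001001)) (.cD (nat_lit 16) (.kc (nat_lit 48) (nat_lit 0x3001001)) (.cD (nat_lit 20) (.kc (nat_lit 52) (nat_lit 0x7001001)) (.cD (nat_lit 32) (.dfs (nat_lit 9) (nat_lit 0x1004001003008) (nat_lit 0x1005001003008) (nat_lit 4098) (nat_lit 4098) (nat_lit 3) (nat_lit 0) (nat_lit 2) (nat_lit 1) (nat_lit 0) (nat_lit 8) (nat_lit 1) (nat_lit 0) (nat_lit 1) (nat_lit 0) (nat_lit 1) (nat_lit 0) .nil) (.cD (nat_lit 36) (.kA true (nat_lit 0x3100100000400100300d001031001000003)) (.cD (nat_lit 48) (.kA true (nat_lit 0x600800401000400400100300d001031001000003))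 (.cD (nat_lit 52) (.kA true (nat_lit 0x5004003008001008004002005007031001000003)) .nil)))))))) (.cD (nat_lit 20) (.dfs (nat_lit 32) (nat_lit 4100) (nat_lit 4100) (nat_lit 0x1002001) (nat_lit 0x1002001) (nat_lit 0) (nat_lit 0) (nat_lit 3) (nat_lit 0) (nat_lit 0) (nat_lit 0) (nat_lit 1) (nat_lit 0) (nat_lit 1) (nat_lit 0) (nat_lit 1) (nat_lit 0x11001100110010) (.cD (nat_lit 4) (.kc (nat_lit 36) (nat_lit 0x5001001)) (.cD (nat_lit 16) (.kc (nat_lit 52) (nat_lit 0x7001001)) (.cD (nat_lit 20) (.kc (nat_lit 48) (nat_lit 0x3001001)) (.cD (nat_lit 32) (.kA true (nat_lit 0x5004003008001008004002005007031001000003)) (.cD (nat_lit 36) (.dfs (nat_lit 9) (nat_lit 4102) (nat_lit 4103) (nat_lit 1) (nat_lit 1) (nat_lit 3) (nat_lit 0) (nat_lit 1) (nat_lit 4112) (nat_lit 0x40020010008004002031) (nat_lit 0) (nat_lit 1) (nat_lit 0) (nat_lit 1) (nat_lit 0) (nat_lit 1) (nat_lit 0) .nil) (.cD (nat_lit 48) (.kA true (nat_lit 0x400300500800100400100300c001002)) (.cD (nat_lit 52)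 (.kA true (nat_lit 0x400700100800100400100300c001002)) .nil)))))))) (.cD (nat_lit 32) (.kF (nat_lit 16) (nat_lit 0x100400100c012004002002000003)) (.cD (nat_lit 36) (.kF (nat_lit 16) (nat_lit 0x100400100c012004002002000003)) (.cD (nat_lit 48) (.dfs (nat_lit 32) (nat_lit 4100) (nat_lit 4100) (nat_lit 0x1002001) (nat_lit 0x1002001) (nat_lit 0) (nat_lit 0) (nat_lit 3) (nat_lit 0) (nat_lit 0) (nat_lit 0) (nat_lit 1) (nat_lit 0) (nat_lit 1) (nat_lit 0) (nat_lit 1) (nat_lit 0x11001100110010) (.cD (nat_lit 4) (.kc (nat_lit 36) (nat_lit 0x5001001)) (.cD (nat_lit 16) (.kA true (nat_lit 0x400200100800100400100300c001002)) (.cD (nat_lit 20) (.kA true (nat_lit 0x400600500800100400100300c001002)) (.cD (nat_lit 32) (.kA true (nat_lit 0x5004003008001008004002005007031001000003)) (.cD (nat_lit 36) (.kA true (nat_lit 0x400500600800100400100300c001002)) (.cD (nat_lit 48) (.kc (nat_lit 48) (nat_lit 0x3001001)) (.cD (nat_lit 52) (.kc (nat_lit 52) (nat_lit 0x7001001)) .nil))))))))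 (.cD (nat_lit 52) (.dfs (nat_lit 32) (nat_lit 4100) (nat_lit 4100) (nat_lit 0x1002001) (nat_lit 0x1002001) (nat_lit 0) (nat_lit 0) (nat_lit 3) (nat_lit 0) (nat_lit 0) (nat_lit 0) (nat_lit 1) (nat_lit 0) (nat_lit 1) (nat_lit 0) (nat_lit 1) (nat_lit 0x11001100110010) (.cD (nat_lit 4) (.kc (nat_lit 36) (nat_lit 0x5001001)) (.cD (nat_lit 16) (.kA true (nat_lit 0x400200500800100400100300c001002)) (.cD (nat_lit 20) (.kA true (nat_lit 0x400600100800100400100300c001002)) (.cD (nat_lit 32) (.kA true (nat_lit 0x5004003008001008004002005007031001000003)) (.cD (nat_lit 36) (.kA true (nat_lit 0x400500200800100400100300c001002)) (.cD (nat_lit 48) (.kc (nat_lit 52) (nat_lit 0x7001001)) (.cD (nat_lit 52) (.kc (nat_lit 48) (nat_lit 0x3001001)) .nil)))))))) .nil)))))))) (.cD (nat_lit 8) (.dfs (nat_lit 16) (nat_lit 4098) (nat_lit 4098) (nat_lit 4097) (nat_lit 4097) (nat_lit 0) (nat_lit 0) (nat_lit 3) (nat_lit 0) (nat_lit 0) (nat_lit 0) (nat_lit 1) (nat_lit 0) (nat_lit 1)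 (nat_lit 0) (nat_lit 1) (nat_lit 0x101010101010100) (.cD (nat_lit 8) (.kc (nat_lit 20) (nat_lit 0x3001001)) (.cD (nat_lit 16) (.dfs (nat_lit 32) (nat_lit 4100) (nat_lit 4100) (nat_lit 0x1002001) (nat_lit 0x1002001) (nat_lit 0) (nat_lit 0) (nat_lit 3) (nat_lit 0) (nat_lit 0) (nat_lit 0) (nat_lit 1) (nat_lit 0) (nat_lit 1) (nat_lit 0) (nat_lit 1) (nat_lit 0x101010101010100) (.cD (nat_lit 8) (.kc (nat_lit 36) (nat_lit 0x5001001)) (.cD (nat_lit 16) (.kc (nat_lit 48) (nat_lit 0x3001001)) (.cD (nat_lit 24) (.kc (nat_lit 52) (nat_lit 0x7001001)) (.cD (nat_lit 32) (.kA false (nat_lit 0x500400200c002002004008014005031001000003)) (.cD (nat_lit 40) (.kA false (nat_lit 0x3100100000400500200d002031001000003)) (.cD (nat_lit 48) (.kA false (nat_lit 0x600800c01000400400300200b002031001000003)) (.cD (nat_lit 56) (.kA false (nat_lit 0x300400200c002002004008014005031001000003)) .nil)))))))) (.cD (nat_lit 24) (.dfs (nat_lit 32) (nat_lit 4100) (nat_lit 4100) (nat_lit 0x1002001)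 (nat_lit 0x1002001) (nat_lit 0) (nat_lit 0) (nat_lit 3) (nat_lit 0) (nat_lit 0) (nat_lit 0) (nat_lit 1) (nat_lit 0) (nat_lit 1) (nat_lit 0) (nat_lit 1) (nat_lit 0x101010101010100) (.cD (nat_lit 8) (.kc (nat_lit 36) (nat_lit 0x5001001)) (.cD (nat_lit 16) (.kc (nat_lit 52) (nat_lit 0x7001001)) (.cD (nat_lit 24) (.kc (nat_lit 48) (nat_lit 0x3001001)) (.cD (nat_lit 32) (.kA false (nat_lit 0x500400600c002002004008014005031001000003)) (.cD (nat_lit 40) (.kA false (nat_lit 0x3100100000400500600d002031001000003)) (.cD (nat_lit 48) (.kA false (nat_lit 0x300400600c002002004008014005031001000003)) (.cD (nat_lit 56) (.kA false (nat_lit 0x600800a01000400400300600b002031001000003)) .nil)))))))) (.cD (nat_lit 32) (.kF (nat_lit 16) (nat_lit 0x100400100c012004002002000003)) (.cD (nat_lit 40) (.kF (nat_lit 16) (nat_lit 0x100400100c012004002002000003)) (.cD (nat_lit 48) (.dfs (nat_lit 32) (nat_lit 4100) (nat_lit 4100) (nat_lit 0x1002001) (nat_lit 0x1002001) (nat_lit 0)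 (nat_lit 0) (nat_lit 3) (nat_lit 0) (nat_lit 0) (nat_lit 0) (nat_lit 1) (nat_lit 0) (nat_lit 1) (nat_lit 0) (nat_lit 1) (nat_lit 0x101010101010100) (.cD (nat_lit 8) (.kc (nat_lit 36) (nat_lit 0x5001001)) (.cD (nat_lit 16) (.kA false (nat_lit 0x600800401000400400300100b002031001000003)) (.cD (nat_lit 24) (.kA false (nat_lit 0x300400500c002002004008014005031001000003)) (.cD (nat_lit 32) (.kA false (nat_lit 0x500400300c002002004008014005031001000003)) (.cD (nat_lit 40) (.kA false (nat_lit 0x3100100000400500700d002031001000003)) (.cD (nat_lit 48) (.kc (nat_lit 48) (nat_lit 0x3001001)) (.cD (nat_lit 56) (.kc (nat_lit 52) (nat_lit 0x7001001)) .nil)))))))) (.cD (nat_lit 56) (.dfs (nat_lit 32) (nat_lit 4100) (nat_lit 4100) (nat_lit 0x1002001) (nat_lit 0x1002001) (nat_lit 0) (nat_lit 0) (nat_lit 3) (nat_lit 0) (nat_lit 0) (nat_lit 0) (nat_lit 1) (nat_lit 0) (nat_lit 1) (nat_lit 0) (nat_lit 1) (nat_lit 0x101010101010100) (.cD (nat_lit 8) (.kc (nat_lit 36) (nat_lit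 0x5001001)) (.cD (nat_lit 16) (.kA false (nat_lit 0x300400100c002002004008014005031001000003)) (.cD (nat_lit 24) (.kA false (nat_lit 0x600800201000400400300500b002031001000003)) (.cD (nat_lit 32) (.kA false (nat_lit 0x500400700c002002004008014005031001000003)) (.cD (nat_lit 40) (.kA false (nat_lit 0x3100100000400500300d002031001000003)) (.cD (nat_lit 48) (.kc (nat_lit 52) (nat_lit 0x7001001)) (.cD (nat_lit 56) (.kc (nat_lit 48) (nat_lit 0x3001001)) .nil)))))))) .nil)))))))) (.cD (nat_lit 16) (.kF (nat_lit 4) (nat_lit 0x2002000001003001002)) (.cD (nat_lit 20) (.kF (nat_lit 4) (nat_lit 0xe01e003001003001002)) (.cD (nat_lit 24) (.kF (nat_lit 4) (nat_lit 0x1002001002012004002002000003)) (.cD (nat_lit 32) (.dfs (nat_lit 16) (nat_lit 4098) (nat_lit 4098) (nat_lit 4097) (nat_lit 4097) (nat_lit 0) (nat_lit 0) (nat_lit 3) (nat_lit 0) (nat_lit 0) (nat_lit 0) (nat_lit 1) (nat_lit 0) (nat_lit 0x1008004) (nat_lit 32772) (nat_lit 0x1001004000008001014000018) (nat_lit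 0x1000101110110) (.cD (nat_lit 4) (.kF (nat_lit 16) (nat_lit 0x31001000001006001002)) (.cD (nat_lit 8) (.kF (nat_lit 16) (nat_lit 0x31001000001006001002)) (.cD (nat_lit 16) (.dfs (nat_lit 32) (nat_lit 4100) (nat_lit 4100) (nat_lit 0x1002001) (nat_lit 0x1002001) (nat_lit 0) (nat_lit 0) (nat_lit 3) (nat_lit 0) (nat_lit 0) (nat_lit 0) (nat_lit 1) (nat_lit 0) (nat_lit 0x1008004) (nat_lit 32772) (nat_lit 0x1001004000008001014000018) (nat_lit 0x1000101110110) (.cD (nat_lit 4) (.kA true (nat_lit 0x100400600c002031001000002)) (.cD (nat_lit 8) (.kA false (nat_lit 0x100400200c002031001000002)) (.cD (nat_lit 16) (.kc (nat_lit 48) (nat_lit 0x3001001)) (.cD (nat_lit 20) (.kA true (nat_lit 0x300400600c002031001000002)) (.cD (nat_lit 24) (.kA false (nat_lit 0x300400200c002031001000002)) (.cD (nat_lit 32) (.kc (nat_lit 36) (nat_lit 0x5001001)) (.cD (nat_lit 48) (.kc (nat_lit 52) (nat_lit 0x7001001)) .nil)))))))) (.cD (nat_lit 20) (.dfs (nat_lit 32) (nat_lit 4100) (nat_lit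 4100) (nat_lit 0x1002001) (nat_lit 0x1002001) (nat_lit 0) (nat_lit 0) (nat_lit 3) (nat_lit 0) (nat_lit 0) (nat_lit 0) (nat_lit 1) (nat_lit 0) (nat_lit 1) (nat_lit 0) (nat_lit 1) (nat_lit 0x11001100110010) (.cD (nat_lit 4) (.kA true (nat_lit 0x100400700c002031001000002)) (.cD (nat_lit 16) (.kA true (nat_lit 0x300400500c002031001000002)) (.cD (nat_lit 20) (.kc (nat_lit 48) (nat_lit 0x3001001)) (.cD (nat_lit 32) (.kc (nat_lit 36) (nat_lit 0x5001001)) (.cD (nat_lit 36) (.dfs (nat_lit 9) (nat_lit 4100) (nat_lit 4101) (nat_lit 1) (nat_lit 1) (nat_lit 3) (nat_lit 0) (nat_lit 1) (nat_lit 4128) (nat_lit 0x40020010008004002031) (nat_lit 0) (nat_lit 1) (nat_lit 0) (nat_lit 1) (nat_lit 0) (nat_lit 1) (nat_lit 0) .nil) (.cD (nat_lit 48) (.kA true (nat_lit 0x700400100c002031001000002)) (.cD (nat_lit 52) (.kc (nat_lit 52) (nat_lit 0x7001001)) .nil)))))))) (.cD (nat_lit 24) (.dfs (nat_lit 32) (nat_lit 4100) (nat_lit 4100) (nat_lit 0x1002001) (nat_lit 0x1002001) (nat_lit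 0) (nat_lit 0) (nat_lit 3) (nat_lit 0) (nat_lit 0) (nat_lit 0) (nat_lit 1) (nat_lit 0) (nat_lit 1) (nat_lit 0) (nat_lit 1) (nat_lit 0x101010101010100) (.cD (nat_lit 8) (.kA false (nat_lit 0x100400300c002031001000002)) (.cD (nat_lit 16) (.kA false (nat_lit 0x300400100c002031001000002)) (.cD (nat_lit 24) (.kc (nat_lit 48) (nat_lit 0x3001001)) (.cD (nat_lit 32) (.kc (nat_lit 36) (nat_lit 0x5001001)) (.cD (nat_lit 40) (.kA false (nat_lit 0x500400700c002031001000002)) (.cD (nat_lit 48) (.kA false (nat_lit 0x700400500c002031001000002)) (.cD (nat_lit 56) (.kc (nat_lit 52) (nat_lit 0x7001001)) .nil)))))))) (.cD (nat_lit 32) (.kc (nat_lit 20) (nat_lit 0x3001001)) (.cD (nat_lit 48) (.dfs (nat_lit 32) (nat_lit 4100) (nat_lit 4100) (nat_lit 0x1002001) (nat_lit 0x1002001) (nat_lit 0) (nat_lit 0) (nat_lit 3) (nat_lit 0) (nat_lit 0) (nat_lit 0) (nat_lit 1) (nat_lit 0) (nat_lit 0x1008004) (nat_lit 32772) (nat_lit 0x1001004000008001014000018) (nat_lit 0x1000101110110)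 (.cD (nat_lit 4) (.kA true (nat_lit 0x100400200c002031001000002)) (.cD (nat_lit 8) (.kA false (nat_lit 0x100400600c002031001000002)) (.cD (nat_lit 16) (.kc (nat_lit 52) (nat_lit 0x7001001)) (.cD (nat_lit 20) (.kA true (nat_lit 0x700400200c002031001000002)) (.cD (nat_lit 24) (.kA false (nat_lit 0x700400600c002031001000002)) (.cD (nat_lit 32) (.kc (nat_lit 36) (nat_lit 0x5001001)) (.cD (nat_lit 48) (.kc (nat_lit 48) (nat_lit 0x3001001)) .nil)))))))) .nil)))))))) (.cD (nat_lit 48) (.kF (nat_lit 4) (nat_lit 0x1002001002012004002002000003)) .nil))))))))))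
theorem c716 : (chk [] [] p716).n x366 s716 = true := by decide +kernel
noncomputable def p717 : Pf := (.lft (nat_lit 0x20008018001004002003001) (nat_lit 0) (nat_lit 0x1028020) (nat_lit 0x20010008004002001) (.extn a6 (nat_lit 0x20010008004002001) (nat_lit 0x1004010008020) (nat_lit 2) (nat_lit 0) (nat_lit 0) (nat_lit 0) (nat_lit 0x1010101) (.cE (nat_lit 0) b7 t7 (.cut (nat_lit 0)) (.cut (nat_lit 1)) (.cE (nat_lit 8) b46 (nat_lit 0) (.cut (nat_lit 2)) (.cut (nat_lit 3)) (.cE (nat_lit 16) b47 (nat_lit 0) (.iso x363 s713 (nat_lit 0) (nat_lit 0x1040020010008004002001) (nat_lit 0x40020010008004002001) [(nat_lit 0x8004002001009001)] (.cut (nat_lit 4))) (.cut (nat_lit 5)) (.cE (nat_lit 24) b48 (nat_lit 0) (.cut (nat_lit 6)) (.cut (nat_lit 7)) .nil))))))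
theorem c717 : (chk [(x301, s709), (x360, s710), (x361, s711), (x362, s712), (x363, s713), (x364, s714), (x365, s715), (x366, s716)] [g47] p717).n x207 s717 = true := by decide +kernel
noncomputable def p718 : Pf := (.ext (nat_lit 1) (nat_lit 0) (nat_lit 0x1040030020004) (nat_lit 0x1002004008005001) (nat_lit 0x2003004008) (nat_lit 4107) (nat_lit 4107) (nat_lit 0xc004002001) (.dfs (nat_lit 11) (nat_lit 0x1002003004008) (nat_lit 0x100200300400c) (nat_lit 4097) (nat_lit 4097) (nat_lit 0) (nat_lit 0) (nat_lit 2) (nat_lit 1) (nat_lit 0) (nat_lit 11) (nat_lit 1) (nat_lit 0) (nat_lit 4160) (nat_lit 64) (nat_lit 0x100000b00000f00001b00001f) (nat_lit 0x88008800) (.cD (nat_lit 11) (.cut (nat_lit 0)) (.cD (nat_lit 15) (.iso x301 s702 (nat_lit 0) (nat_lit 0x1040020010008004012001) (nat_lit 0x40020010008004012001) [(nat_lit 0x1000800400200d001001), (nat_lit 0x1000800400200d003001), (nat_lit 0x10008004002009005001)] (.cut (nat_lit 0))) (.cD (nat_lit 27) (.kS (nat_lit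 1) (nat_lit 0x2006008010002008008000002) (nat_lit 4159) (nat_lit 0x8004002003) (nat_lit 0x800800000200400801000100100800800000200600801000f001004)) (.cD (nat_lit 31) (.kS (nat_lit 1) (nat_lit 0x2006008010002008008000002) (nat_lit 4123) (nat_lit 0x8004002003) (nat_lit 0x800800000200400801000100100800800000200600801000d001004)) .nil))))))
theorem c718 : (chk [(x301, s702)] [g7] p718).n x301 s718 = true := by decide +kernel
noncomputable def p719 : Pf := (.anc (nat_lit 68) (nat_lit 0x10002002002000002) (nat_lit 0x1009020010004) (.czp (nat_lit 64) (nat_lit 0) (nat_lit 0x1040020010008004) z6 (.dfs (nat_lit 4) (nat_lit 4097) (nat_lit 4097) (nat_lit 1) (nat_lit 1) (nat_lit 0) (nat_lit 0) (nat_lit 3) (nat_lit 0) (nat_lit 0) (nat_lit 0) (nat_lit 1) (nat_lit 0) (nat_lit 0x1008004) (nat_lit 32772) (nat_lit 0x1001004000008001014000018) (nat_lit 0x1000101110110) (.cD (nat_lit 4) (.dfs (nat_lit 16) (nat_lit 4098) (nat_lit 4098) (nat_lit 4097) (nat_lit 4097) (nat_lit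 0) (nat_lit 0) (nat_lit 3) (nat_lit 0) (nat_lit 0) (nat_lit 0) (nat_lit 1) (nat_lit 0) (nat_lit 1) (nat_lit 0) (nat_lit 1) (nat_lit 0x11001100110010) (.cD (nat_lit 4) (.kc (nat_lit 20) (nat_lit 0x3001001)) (.cD (nat_lit 16) (.dfs (nat_lit 32) (nat_lit 4100) (nat_lit 4100) (nat_lit 0x1002001) (nat_lit 0x1002001) (nat_lit 0) (nat_lit 0) (nat_lit 3) (nat_lit 0) (nat_lit 0) (nat_lit 0) (nat_lit 1) (nat_lit 0) (nat_lit 1) (nat_lit 0) (nat_lit 1) (nat_lit 0x11001100110010) (.cD (nat_lit 4) (.kc (nat_lit 36) (nat_lit 0x5001001)) (.cD (nat_lit 16) (.kc (nat_lit 48) (nat_lit 0x3001001)) (.cD (nat_lit 20) (.kc (nat_lit 52) (nat_lit 0x7001001)) (.cD (nat_lit 32) (.dfs (nat_lit 9) (nat_lit 0x1004001003008) (nat_lit 0x1005001003008) (nat_lit 4098) (nat_lit 4098) (nat_lit 0) (nat_lit 0) (nat_lit 2) (nat_lit 1) (nat_lit 0) (nat_lit 8) (nat_lit 1) (nat_lit 0) (nat_lit 4100) (nat_lit 4) (nat_lit 0x1000048000058) (nat_lit 0x10001000000000000000000) (.cD (nat_lit 72) (.kb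 (nat_lit 9) (nat_lit 0x1001000014006001001003) (nat_lit 0x1020010008044002001)) (.cD (nat_lit 88) (.kb (nat_lit 25) (nat_lit 0x1001000014006005001003) (nat_lit 0x1020010008044002001)) .nil))) (.cD (nat_lit 36) (.kA true (nat_lit 0x100100000400100300d001001001000003)) (.cD (nat_lit 48) (.kA true (nat_lit 0x600800401000400400100300d001001001000003)) (.cD (nat_lit 52) (.kA true (nat_lit 0x5004003008001008004002005007001001000003)) .nil)))))))) (.cD (nat_lit 20) (.dfs (nat_lit 32) (nat_lit 4100) (nat_lit 4100) (nat_lit 0x1002001) (nat_lit 0x1002001) (nat_lit 0) (nat_lit 0) (nat_lit 3) (nat_lit 0) (nat_lit 0) (nat_lit 0) (nat_lit 1) (nat_lit 0) (nat_lit 1) (nat_lit 0) (nat_lit 1) (nat_lit 0x11001100110010) (.cD (nat_lit 4) (.kc (nat_lit 36) (nat_lit 0x5001001)) (.cD (nat_lit 16) (.kc (nat_lit 52) (nat_lit 0x7001001)) (.cD (nat_lit 20) (.kc (nat_lit 48) (nat_lit 0x3001001)) (.cD (nat_lit 32) (.kA true (nat_lit 0x5004003008001008004002005007001001000003)) (.cD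 (nat_lit 36) (.dfs (nat_lit 9) (nat_lit 4102) (nat_lit 4103) (nat_lit 1) (nat_lit 1) (nat_lit 0) (nat_lit 0) (nat_lit 1) (nat_lit 4112) (nat_lit 0x40020010008004002001) (nat_lit 0) (nat_lit 1) (nat_lit 0) (nat_lit 1) (nat_lit 0) (nat_lit 1) (nat_lit 0) .nil) (.cD (nat_lit 48) (.kA true (nat_lit 0x400300500800100400100300c001002)) (.cD (nat_lit 52) (.kA true (nat_lit 0x400700100800100400100300c001002)) .nil)))))))) (.cD (nat_lit 32) (.kF (nat_lit 16) (nat_lit 0x100400100c012004002002000003)) (.cD (nat_lit 36) (.kF (nat_lit 16) (nat_lit 0x100400100c012004002002000003)) (.cD (nat_lit 48) (.dfs (nat_lit 32) (nat_lit 4100) (nat_lit 4100) (nat_lit 0x1002001) (nat_lit 0x1002001) (nat_lit 0) (nat_lit 0) (nat_lit 3) (nat_lit 0) (nat_lit 0) (nat_lit 0) (nat_lit 1) (nat_lit 0) (nat_lit 1) (nat_lit 0) (nat_lit 1) (nat_lit 0x11001100110010) (.cD (nat_lit 4) (.kc (nat_lit 36) (nat_lit 0x5001001)) (.cD (nat_lit 16) (.kA true (nat_lit 0x400200100800100400100300c001002))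 (.cD (nat_lit 20) (.kA true (nat_lit 0x400600500800100400100300c001002)) (.cD (nat_lit 32) (.kA true (nat_lit 0x5004003008001008004002005007001001000003)) (.cD (nat_lit 36) (.kA true (nat_lit 0x400500600800100400100300c001002)) (.cD (nat_lit 48) (.kc (nat_lit 48) (nat_lit 0x3001001)) (.cD (nat_lit 52) (.kc (nat_lit 52) (nat_lit 0x7001001)) .nil)))))))) (.cD (nat_lit 52) (.dfs (nat_lit 32) (nat_lit 4100) (nat_lit 4100) (nat_lit 0x1002001) (nat_lit 0x1002001) (nat_lit 0) (nat_lit 0) (nat_lit 3) (nat_lit 0) (nat_lit 0) (nat_lit 0) (nat_lit 1) (nat_lit 0) (nat_lit 1) (nat_lit 0) (nat_lit 1) (nat_lit 0x11001100110010) (.cD (nat_lit 4) (.kc (nat_lit 36) (nat_lit 0x5001001)) (.cD (nat_lit 16) (.kA true (nat_lit 0x400200500800100400100300c001002)) (.cD (nat_lit 20) (.kA true (nat_lit 0x400600100800100400100300c001002)) (.cD (nat_lit 32) (.kA true (nat_lit 0x5004003008001008004002005007001001000003)) (.cD (nat_lit 36) (.kA true (nat_lit 0x400500200800100400100300c001002))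 (.cD (nat_lit 48) (.kc (nat_lit 52) (nat_lit 0x7001001)) (.cD (nat_lit 52) (.kc (nat_lit 48) (nat_lit 0x3001001)) .nil)))))))) .nil)))))))) (.cD (nat_lit 8) (.dfs (nat_lit 16) (nat_lit 4098) (nat_lit 4098) (nat_lit 4097) (nat_lit 4097) (nat_lit 0) (nat_lit 0) (nat_lit 3) (nat_lit 0) (nat_lit 0) (nat_lit 0) (nat_lit 1) (nat_lit 0) (nat_lit 1) (nat_lit 0) (nat_lit 1) (nat_lit 0x101010101010100) (.cD (nat_lit 8) (.kc (nat_lit 20) (nat_lit 0x3001001)) (.cD (nat_lit 16) (.dfs (nat_lit 32) (nat_lit 4100) (nat_lit 4100) (nat_lit 0x1002001) (nat_lit 0x1002001) (nat_lit 0) (nat_lit 0) (nat_lit 3) (nat_lit 0) (nat_lit 0) (nat_lit 0) (nat_lit 1) (nat_lit 0) (nat_lit 1) (nat_lit 0) (nat_lit 1) (nat_lit 0x101010101010100) (.cD (nat_lit 8) (.kc (nat_lit 36) (nat_lit 0x5001001)) (.cD (nat_lit 16) (.kc (nat_lit 48) (nat_lit 0x3001001)) (.cD (nat_lit 24) (.kc (nat_lit 52) (nat_lit 0x7001001)) (.cD (nat_lit 32) (.kA false (nat_lit 0x500400200c002002004008014005001001000003))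 (.cD (nat_lit 40) (.kA false (nat_lit 0x100100000400500200d002001001000003)) (.cD (nat_lit 48) (.kA false (nat_lit 0x600800c01000400400300200b002001001000003)) (.cD (nat_lit 56) (.kA false (nat_lit 0x300400200c002002004008014005001001000003)) .nil)))))))) (.cD (nat_lit 24) (.dfs (nat_lit 32) (nat_lit 4100) (nat_lit 4100) (nat_lit 0x1002001) (nat_lit 0x1002001) (nat_lit 0) (nat_lit 0) (nat_lit 3) (nat_lit 0) (nat_lit 0) (nat_lit 0) (nat_lit 1) (nat_lit 0) (nat_lit 1) (nat_lit 0) (nat_lit 1) (nat_lit 0x101010101010100) (.cD (nat_lit 8) (.kc (nat_lit 36) (nat_lit 0x5001001)) (.cD (nat_lit 16) (.kc (nat_lit 52) (nat_lit 0x7001001)) (.cD (nat_lit 24) (.kc (nat_lit 48) (nat_lit 0x3001001)) (.cD (nat_lit 32) (.kA false (nat_lit 0x500400600c002002004008014005001001000003)) (.cD (nat_lit 40) (.kA false (nat_lit 0x100100000400500600d002001001000003)) (.cD (nat_lit 48) (.kA false (nat_lit 0x300400600c002002004008014005001001000003)) (.cD (nat_lit 56) (.kA false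 (nat_lit 0x600800a01000400400300600b002001001000003)) .nil)))))))) (.cD (nat_lit 32) (.kF (nat_lit 16) (nat_lit 0x100400100c012004002002000003)) (.cD (nat_lit 40) (.kF (nat_lit 16) (nat_lit 0x100400100c012004002002000003)) (.cD (nat_lit 48) (.dfs (nat_lit 32) (nat_lit 4100) (nat_lit 4100) (nat_lit 0x1002001) (nat_lit 0x1002001) (nat_lit 0) (nat_lit 0) (nat_lit 3) (nat_lit 0) (nat_lit 0) (nat_lit 0) (nat_lit 1) (nat_lit 0) (nat_lit 1) (nat_lit 0) (nat_lit 1) (nat_lit 0x101010101010100) (.cD (nat_lit 8) (.kc (nat_lit 36) (nat_lit 0x5001001)) (.cD (nat_lit 16) (.kA false (nat_lit 0x600800401000400400300100b002001001000003)) (.cD (nat_lit 24) (.kA false (nat_lit 0x300400500c002002004008014005001001000003)) (.cD (nat_lit 32) (.kA false (nat_lit 0x500400300c002002004008014005001001000003)) (.cD (nat_lit 40) (.kA false (nat_lit 0x100100000400500700d002001001000003)) (.cD (nat_lit 48) (.kc (nat_lit 48) (nat_lit 0x3001001)) (.cD (nat_lit 56) (.kc (nat_lit 52)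 (nat_lit 0x7001001)) .nil)))))))) (.cD (nat_lit 56) (.dfs (nat_lit 32) (nat_lit 4100) (nat_lit 4100) (nat_lit 0x1002001) (nat_lit 0x1002001) (nat_lit 0) (nat_lit 0) (nat_lit 3) (nat_lit 0) (nat_lit 0) (nat_lit 0) (nat_lit 1) (nat_lit 0) (nat_lit 1) (nat_lit 0) (nat_lit 1) (nat_lit 0x101010101010100) (.cD (nat_lit 8) (.kc (nat_lit 36) (nat_lit 0x5001001)) (.cD (nat_lit 16) (.kA false (nat_lit 0x300400100c002002004008014005001001000003)) (.cD (nat_lit 24) (.kA false (nat_lit 0x600800201000400400300500b002001001000003)) (.cD (nat_lit 32) (.kA false (nat_lit 0x500400700c002002004008014005001001000003)) (.cD (nat_lit 40) (.kA false (nat_lit 0x100100000400500300d002001001000003)) (.cD (nat_lit 48) (.kc (nat_lit 52) (nat_lit 0x7001001)) (.cD (nat_lit 56) (.kc (nat_lit 48) (nat_lit 0x3001001)) .nil)))))))) .nil)))))))) (.cD (nat_lit 16) (.kF (nat_lit 4) (nat_lit 0x2002000001003001002)) (.cD (nat_lit 20) (.kF (nat_lit 4) (nat_lit 0xe01e003001003001002)) (.cD (nat_lit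 24) (.kF (nat_lit 4) (nat_lit 0x1002001002012004002002000003)) (.cD (nat_lit 32) (.dfs (nat_lit 16) (nat_lit 4098) (nat_lit 4098) (nat_lit 4097) (nat_lit 4097) (nat_lit 0) (nat_lit 0) (nat_lit 3) (nat_lit 0) (nat_lit 0) (nat_lit 0) (nat_lit 1) (nat_lit 0) (nat_lit 0x1008004) (nat_lit 32772) (nat_lit 0x1001004000008001014000018) (nat_lit 0x1000101110110) (.cD (nat_lit 4) (.kF (nat_lit 16) (nat_lit 0x1001000001006001002)) (.cD (nat_lit 8) (.kF (nat_lit 16) (nat_lit 0x1001000001006001002)) (.cD (nat_lit 16) (.dfs (nat_lit 32) (nat_lit 4100) (nat_lit 4100) (nat_lit 0x1002001) (nat_lit 0x1002001) (nat_lit 0) (nat_lit 0) (nat_lit 3) (nat_lit 0) (nat_lit 0) (nat_lit 0) (nat_lit 1) (nat_lit 0) (nat_lit 0x1008004) (nat_lit 32772) (nat_lit 0x1001004000008001014000018) (nat_lit 0x1000101110110) (.cD (nat_lit 4) (.kA true (nat_lit 0x100400600c002001001000002)) (.cD (nat_lit 8) (.kA false (nat_lit 0x100400200c002001001000002)) (.cD (nat_lit 16) (.kc (nat_lit 48) (nat_lit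 0x3001001)) (.cD (nat_lit 20) (.kA true (nat_lit 0x300400600c002001001000002)) (.cD (nat_lit 24) (.kA false (nat_lit 0x300400200c002001001000002)) (.cD (nat_lit 32) (.kc (nat_lit 36) (nat_lit 0x5001001)) (.cD (nat_lit 48) (.kc (nat_lit 52) (nat_lit 0x7001001)) .nil)))))))) (.cD (nat_lit 20) (.dfs (nat_lit 32) (nat_lit 4100) (nat_lit 4100) (nat_lit 0x1002001) (nat_lit 0x1002001) (nat_lit 0) (nat_lit 0) (nat_lit 3) (nat_lit 0) (nat_lit 0) (nat_lit 0) (nat_lit 1) (nat_lit 0) (nat_lit 1) (nat_lit 0) (nat_lit 1) (nat_lit 0x11001100110010) (.cD (nat_lit 4) (.kA true (nat_lit 0x100400700c002001001000002)) (.cD (nat_lit 16) (.kA true (nat_lit 0x300400500c002001001000002)) (.cD (nat_lit 20) (.kc (nat_lit 48) (nat_lit 0x3001001)) (.cD (nat_lit 32) (.kc (nat_lit 36) (nat_lit 0x5001001)) (.cD (nat_lit 36) (.dfs (nat_lit 9) (nat_lit 4100) (nat_lit 4101) (nat_lit 1) (nat_lit 1) (nat_lit 0) (nat_lit 0) (nat_lit 1) (nat_lit 4128) (nat_lit 0x40020010008004002001) (nat_lit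 0) (nat_lit 1) (nat_lit 0) (nat_lit 1) (nat_lit 0) (nat_lit 1) (nat_lit 0) .nil) (.cD (nat_lit 48) (.kA true (nat_lit 0x700400100c002001001000002)) (.cD (nat_lit 52) (.kc (nat_lit 52) (nat_lit 0x7001001)) .nil)))))))) (.cD (nat_lit 24) (.dfs (nat_lit 32) (nat_lit 4100) (nat_lit 4100) (nat_lit 0x1002001) (nat_lit 0x1002001) (nat_lit 0) (nat_lit 0) (nat_lit 3) (nat_lit 0) (nat_lit 0) (nat_lit 0) (nat_lit 1) (nat_lit 0) (nat_lit 1) (nat_lit 0) (nat_lit 1) (nat_lit 0x101010101010100) (.cD (nat_lit 8) (.kA false (nat_lit 0x100400300c002001001000002)) (.cD (nat_lit 16) (.kA false (nat_lit 0x300400100c002001001000002)) (.cD (nat_lit 24) (.kc (nat_lit 48) (nat_lit 0x3001001)) (.cD (nat_lit 32) (.kc (nat_lit 36) (nat_lit 0x5001001)) (.cD (nat_lit 40) (.kA false (nat_lit 0x500400700c002001001000002)) (.cD (nat_lit 48) (.kA false (nat_lit 0x700400500c002001001000002)) (.cD (nat_lit 56) (.kc (nat_lit 52) (nat_lit 0x7001001)) .nil)))))))) (.cD (nat_lit 32) (.kc (nat_lit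 20) (nat_lit 0x3001001)) (.cD (nat_lit 48) (.dfs (nat_lit 32) (nat_lit 4100) (nat_lit 4100) (nat_lit 0x1002001) (nat_lit 0x1002001) (nat_lit 0) (nat_lit 0) (nat_lit 3) (nat_lit 0) (nat_lit 0) (nat_lit 0) (nat_lit 1) (nat_lit 0) (nat_lit 0x1008004) (nat_lit 32772) (nat_lit 0x1001004000008001014000018) (nat_lit 0x1000101110110) (.cD (nat_lit 4) (.kA true (nat_lit 0x100400200c002001001000002)) (.cD (nat_lit 8) (.kA false (nat_lit 0x100400600c002001001000002)) (.cD (nat_lit 16) (.kc (nat_lit 52) (nat_lit 0x7001001)) (.cD (nat_lit 20) (.kA true (nat_lit 0x700400200c002001001000002)) (.cD (nat_lit 24) (.kA false (nat_lit 0x700400600c002001001000002)) (.cD (nat_lit 32) (.kc (nat_lit 36) (nat_lit 0x5001001)) (.cD (nat_lit 48) (.kc (nat_lit 48) (nat_lit 0x3001001)) .nil)))))))) .nil)))))))) (.cD (nat_lit 48) (.kF (nat_lit 4) (nat_lit 0x1002001002012004002002000003)) .nil))))))))))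
theorem c719 : (chk [] [] p719).n x360 s719 = true := by decide +kernel
noncomputable def p720 : Pf := (.anc (nat_lit 68) (nat_lit 0x10002002002000002) (nat_lit 0x1009020010004) (.czp (nat_lit 64) (nat_lit 0) (nat_lit 0x1040020010008004) z6 (.dfs (nat_lit 4) (nat_lit 4097) (nat_lit 4097) (nat_lit 1) (nat_lit 1) (nat_lit 0) (nat_lit 0) (nat_lit 3) (nat_lit 0) (nat_lit 0) (nat_lit 0) (nat_lit 1) (nat_lit 0) (nat_lit 0x1008004) (nat_lit 32772) (nat_lit 0x1001004000008001014000018) (nat_lit 0x1000101110110) (.cD (nat_lit 4) (.dfs (nat_lit 16) (nat_lit 4098) (nat_lit 4098) (nat_lit 4097) (nat_lit 4097) (nat_lit 0) (nat_lit 0) (nat_lit 3) (nat_lit 0) (nat_lit 0) (nat_lit 0) (nat_lit 1) (nat_lit 0) (nat_lit 1) (nat_lit 0) (nat_lit 1) (nat_lit 0x11001100110010) (.cD (nat_lit 4) (.kc (nat_lit 20) (nat_lit 0x3001001)) (.cD (nat_lit 16) (.dfs (nat_lit 32) (nat_lit 4100) (nat_lit 4100) (nat_lit 0x1002001) (nat_lit 0x1002001) (nat_lit 0) (nat_lit 0) (nat_lit 3) (nat_lit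 0) (nat_lit 0) (nat_lit 0) (nat_lit 1) (nat_lit 0) (nat_lit 1) (nat_lit 0) (nat_lit 1) (nat_lit 0x11001100110010) (.cD (nat_lit 4) (.kc (nat_lit 36) (nat_lit 0x5001001)) (.cD (nat_lit 16) (.kc (nat_lit 48) (nat_lit 0x3001001)) (.cD (nat_lit 20) (.kc (nat_lit 52) (nat_lit 0x7001001)) (.cD (nat_lit 32) (.dfs (nat_lit 9) (nat_lit 0x1004001003008) (nat_lit 0x1005001003008) (nat_lit 4098) (nat_lit 4098) (nat_lit 2) (nat_lit 0) (nat_lit 2) (nat_lit 1) (nat_lit 0) (nat_lit 8) (nat_lit 1) (nat_lit 0) (nat_lit 1) (nat_lit 0) (nat_lit 1) (nat_lit 0) .nil) (.cD (nat_lit 36) (.kA true (nat_lit 0x1100100000400100300d001011001000003)) (.cD (nat_lit 48) (.kA true (nat_lit 0x600800401000400400100300d001011001000003)) (.cD (nat_lit 52) (.kA true (nat_lit 0x5004003008001008004002005007011001000003)) .nil)))))))) (.cD (nat_lit 20) (.dfs (nat_lit 32) (nat_lit 4100) (nat_lit 4100) (nat_lit 0x1002001) (nat_lit 0x1002001) (nat_lit 0) (nat_lit 0) (nat_lit 3) (nat_lit 0) (nat_lit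 0) (nat_lit 0) (nat_lit 1) (nat_lit 0) (nat_lit 1) (nat_lit 0) (nat_lit 1) (nat_lit 0x11001100110010) (.cD (nat_lit 4) (.kc (nat_lit 36) (nat_lit 0x5001001)) (.cD (nat_lit 16) (.kc (nat_lit 52) (nat_lit 0x7001001)) (.cD (nat_lit 20) (.kc (nat_lit 48) (nat_lit 0x3001001)) (.cD (nat_lit 32) (.kA true (nat_lit 0x5004003008001008004002005007011001000003)) (.cD (nat_lit 36) (.dfs (nat_lit 9) (nat_lit 4102) (nat_lit 4103) (nat_lit 1) (nat_lit 1) (nat_lit 2) (nat_lit 0) (nat_lit 1) (nat_lit 4112) (nat_lit 0x40020010008004002011) (nat_lit 0) (nat_lit 1) (nat_lit 0) (nat_lit 1) (nat_lit 0) (nat_lit 1) (nat_lit 0) .nil) (.cD (nat_lit 48) (.kA true (nat_lit 0x400300500800100400100300c001002)) (.cD (nat_lit 52) (.kA true (nat_lit 0x400700100800100400100300c001002)) .nil)))))))) (.cD (nat_lit 32) (.kF (nat_lit 16) (nat_lit 0x100400100c012004002002000003)) (.cD (nat_lit 36) (.kF (nat_lit 16) (nat_lit 0x100400100c012004002002000003)) (.cD (nat_lit 48) (.dfs (nat_lit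 32) (nat_lit 4100) (nat_lit 4100) (nat_lit 0x1002001) (nat_lit 0x1002001) (nat_lit 0) (nat_lit 0) (nat_lit 3) (nat_lit 0) (nat_lit 0) (nat_lit 0) (nat_lit 1) (nat_lit 0) (nat_lit 1) (nat_lit 0) (nat_lit 1) (nat_lit 0x11001100110010) (.cD (nat_lit 4) (.kc (nat_lit 36) (nat_lit 0x5001001)) (.cD (nat_lit 16) (.kA true (nat_lit 0x400200100800100400100300c001002)) (.cD (nat_lit 20) (.kA true (nat_lit 0x400600500800100400100300c001002)) (.cD (nat_lit 32) (.kA true (nat_lit 0x5004003008001008004002005007011001000003)) (.cD (nat_lit 36) (.kA true (nat_lit 0x400500600800100400100300c001002)) (.cD (nat_lit 48) (.kc (nat_lit 48) (nat_lit 0x3001001)) (.cD (nat_lit 52) (.kc (nat_lit 52) (nat_lit 0x7001001)) .nil)))))))) (.cD (nat_lit 52) (.dfs (nat_lit 32) (nat_lit 4100) (nat_lit 4100) (nat_lit 0x1002001) (nat_lit 0x1002001) (nat_lit 0) (nat_lit 0) (nat_lit 3) (nat_lit 0) (nat_lit 0) (nat_lit 0) (nat_lit 1) (nat_lit 0) (nat_lit 1) (nat_lit 0) (nat_lit 1) (nat_lit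 0x11001100110010) (.cD (nat_lit 4) (.kc (nat_lit 36) (nat_lit 0x5001001)) (.cD (nat_lit 16) (.kA true (nat_lit 0x400200500800100400100300c001002)) (.cD (nat_lit 20) (.kA true (nat_lit 0x400600100800100400100300c001002)) (.cD (nat_lit 32) (.kA true (nat_lit 0x5004003008001008004002005007011001000003)) (.cD (nat_lit 36) (.kA true (nat_lit 0x400500200800100400100300c001002)) (.cD (nat_lit 48) (.kc (nat_lit 52) (nat_lit 0x7001001)) (.cD (nat_lit 52) (.kc (nat_lit 48) (nat_lit 0x3001001)) .nil)))))))) .nil)))))))) (.cD (nat_lit 8) (.dfs (nat_lit 16) (nat_lit 4098) (nat_lit 4098) (nat_lit 4097) (nat_lit 4097) (nat_lit 0) (nat_lit 0) (nat_lit 3) (nat_lit 0) (nat_lit 0) (nat_lit 0) (nat_lit 1) (nat_lit 0) (nat_lit 1) (nat_lit 0) (nat_lit 1) (nat_lit 0x101010101010100) (.cD (nat_lit 8) (.kc (nat_lit 20) (nat_lit 0x3001001)) (.cD (nat_lit 16) (.dfs (nat_lit 32) (nat_lit 4100) (nat_lit 4100) (nat_lit 0x1002001) (nat_lit 0x1002001) (nat_lit 0) (nat_lit 0) (nat_lit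 3) (nat_lit 0) (nat_lit 0) (nat_lit 0) (nat_lit 1) (nat_lit 0) (nat_lit 1) (nat_lit 0) (nat_lit 1) (nat_lit 0x101010101010100) (.cD (nat_lit 8) (.kc (nat_lit 36) (nat_lit 0x5001001)) (.cD (nat_lit 16) (.kc (nat_lit 48) (nat_lit 0x3001001)) (.cD (nat_lit 24) (.kc (nat_lit 52) (nat_lit 0x7001001)) (.cD (nat_lit 32) (.kA false (nat_lit 0x500400200c002002004008014005011001000003)) (.cD (nat_lit 40) (.kA false (nat_lit 0x1100100000400500200d002011001000003)) (.cD (nat_lit 48) (.kA false (nat_lit 0x600800c01000400400300200b002011001000003)) (.cD (nat_lit 56) (.kA false (nat_lit 0x300400200c002002004008014005011001000003)) .nil)))))))) (.cD (nat_lit 24) (.dfs (nat_lit 32) (nat_lit 4100) (nat_lit 4100) (nat_lit 0x1002001) (nat_lit 0x1002001) (nat_lit 0) (nat_lit 0) (nat_lit 3) (nat_lit 0) (nat_lit 0) (nat_lit 0) (nat_lit 1) (nat_lit 0) (nat_lit 1) (nat_lit 0) (nat_lit 1) (nat_lit 0x101010101010100) (.cD (nat_lit 8) (.kc (nat_lit 36) (nat_lit 0x5001001)) (.cD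 (nat_lit 16) (.kc (nat_lit 52) (nat_lit 0x7001001)) (.cD (nat_lit 24) (.kc (nat_lit 48) (nat_lit 0x3001001)) (.cD (nat_lit 32) (.kA false (nat_lit 0x500400600c002002004008014005011001000003)) (.cD (nat_lit 40) (.kA false (nat_lit 0x1100100000400500600d002011001000003)) (.cD (nat_lit 48) (.kA false (nat_lit 0x300400600c002002004008014005011001000003)) (.cD (nat_lit 56) (.kA false (nat_lit 0x600800a01000400400300600b002011001000003)) .nil)))))))) (.cD (nat_lit 32) (.kF (nat_lit 16) (nat_lit 0x100400100c012004002002000003)) (.cD (nat_lit 40) (.kF (nat_lit 16) (nat_lit 0x100400100c012004002002000003)) (.cD (nat_lit 48) (.dfs (nat_lit 32) (nat_lit 4100) (nat_lit 4100) (nat_lit 0x1002001) (nat_lit 0x1002001) (nat_lit 0) (nat_lit 0) (nat_lit 3) (nat_lit 0) (nat_lit 0) (nat_lit 0) (nat_lit 1) (nat_lit 0) (nat_lit 1) (nat_lit 0) (nat_lit 1) (nat_lit 0x101010101010100) (.cD (nat_lit 8) (.kc (nat_lit 36) (nat_lit 0x5001001)) (.cD (nat_lit 16) (.kA false (nat_lit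 0x600800401000400400300100b002011001000003)) (.cD (nat_lit 24) (.kA false (nat_lit 0x300400500c002002004008014005011001000003)) (.cD (nat_lit 32) (.kA false (nat_lit 0x500400300c002002004008014005011001000003)) (.cD (nat_lit 40) (.kA false (nat_lit 0x1100100000400500700d002011001000003)) (.cD (nat_lit 48) (.kc (nat_lit 48) (nat_lit 0x3001001)) (.cD (nat_lit 56) (.kc (nat_lit 52) (nat_lit 0x7001001)) .nil)))))))) (.cD (nat_lit 56) (.dfs (nat_lit 32) (nat_lit 4100) (nat_lit 4100) (nat_lit 0x1002001) (nat_lit 0x1002001) (nat_lit 0) (nat_lit 0) (nat_lit 3) (nat_lit 0) (nat_lit 0) (nat_lit 0) (nat_lit 1) (nat_lit 0) (nat_lit 1) (nat_lit 0) (nat_lit 1) (nat_lit 0x101010101010100) (.cD (nat_lit 8) (.kc (nat_lit 36) (nat_lit 0x5001001)) (.cD (nat_lit 16) (.kA false (nat_lit 0x300400100c002002004008014005011001000003)) (.cD (nat_lit 24) (.kA false (nat_lit 0x600800201000400400300500b002011001000003)) (.cD (nat_lit 32) (.kA false (nat_lit 0x500400700c002002004008014005011001000003))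 (.cD (nat_lit 40) (.kA false (nat_lit 0x1100100000400500300d002011001000003)) (.cD (nat_lit 48) (.kc (nat_lit 52) (nat_lit 0x7001001)) (.cD (nat_lit 56) (.kc (nat_lit 48) (nat_lit 0x3001001)) .nil)))))))) .nil)))))))) (.cD (nat_lit 16) (.kF (nat_lit 4) (nat_lit 0x2002000001003001002)) (.cD (nat_lit 20) (.kF (nat_lit 4) (nat_lit 0xe01e003001003001002)) (.cD (nat_lit 24) (.kF (nat_lit 4) (nat_lit 0x1002001002012004002002000003)) (.cD (nat_lit 32) (.dfs (nat_lit 16) (nat_lit 4098) (nat_lit 4098) (nat_lit 4097) (nat_lit 4097) (nat_lit 0) (nat_lit 0) (nat_lit 3) (nat_lit 0) (nat_lit 0) (nat_lit 0) (nat_lit 1) (nat_lit 0) (nat_lit 0x1008004) (nat_lit 32772) (nat_lit 0x1001004000008001014000018) (nat_lit 0x1000101110110) (.cD (nat_lit 4) (.kF (nat_lit 16) (nat_lit 0x11001000001006001002)) (.cD (nat_lit 8) (.kF (nat_lit 16) (nat_lit 0x11001000001006001002)) (.cD (nat_lit 16) (.dfs (nat_lit 32) (nat_lit 4100) (nat_lit 4100) (nat_lit 0x1002001) (nat_lit 0x1002001)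 (nat_lit 0) (nat_lit 0) (nat_lit 3) (nat_lit 0) (nat_lit 0) (nat_lit 0) (nat_lit 1) (nat_lit 0) (nat_lit 0x1008004) (nat_lit 32772) (nat_lit 0x1001004000008001014000018) (nat_lit 0x1000101110110) (.cD (nat_lit 4) (.kA true (nat_lit 0x100400600c002011001000002)) (.cD (nat_lit 8) (.kA false (nat_lit 0x100400200c002011001000002)) (.cD (nat_lit 16) (.kc (nat_lit 48) (nat_lit 0x3001001)) (.cD (nat_lit 20) (.kA true (nat_lit 0x300400600c002011001000002)) (.cD (nat_lit 24) (.kA false (nat_lit 0x300400200c002011001000002)) (.cD (nat_lit 32) (.kc (nat_lit 36) (nat_lit 0x5001001)) (.cD (nat_lit 48) (.kc (nat_lit 52) (nat_lit 0x7001001)) .nil)))))))) (.cD (nat_lit 20) (.dfs (nat_lit 32) (nat_lit 4100) (nat_lit 4100) (nat_lit 0x1002001) (nat_lit 0x1002001) (nat_lit 0) (nat_lit 0) (nat_lit 3) (nat_lit 0) (nat_lit 0) (nat_lit 0) (nat_lit 1) (nat_lit 0) (nat_lit 1) (nat_lit 0) (nat_lit 1) (nat_lit 0x11001100110010) (.cD (nat_lit 4) (.kA true (nat_lit 0x100400700c002011001000002))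 (.cD (nat_lit 16) (.kA true (nat_lit 0x300400500c002011001000002)) (.cD (nat_lit 20) (.kc (nat_lit 48) (nat_lit 0x3001001)) (.cD (nat_lit 32) (.kc (nat_lit 36) (nat_lit 0x5001001)) (.cD (nat_lit 36) (.dfs (nat_lit 9) (nat_lit 4100) (nat_lit 4101) (nat_lit 1) (nat_lit 1) (nat_lit 2) (nat_lit 0) (nat_lit 1) (nat_lit 4128) (nat_lit 0x40020010008004002011) (nat_lit 0) (nat_lit 1) (nat_lit 0) (nat_lit 1) (nat_lit 0) (nat_lit 1) (nat_lit 0) .nil) (.cD (nat_lit 48) (.kA true (nat_lit 0x700400100c002011001000002)) (.cD (nat_lit 52) (.kc (nat_lit 52) (nat_lit 0x7001001)) .nil)))))))) (.cD (nat_lit 24) (.dfs (nat_lit 32) (nat_lit 4100) (nat_lit 4100) (nat_lit 0x1002001) (nat_lit 0x1002001) (nat_lit 0) (nat_lit 0) (nat_lit 3) (nat_lit 0) (nat_lit 0) (nat_lit 0) (nat_lit 1) (nat_lit 0) (nat_lit 1) (nat_lit 0) (nat_lit 1) (nat_lit 0x101010101010100) (.cD (nat_lit 8) (.kA false (nat_lit 0x100400300c002011001000002)) (.cD (nat_lit 16) (.kA false (nat_lit 0x300400100c002011001000002))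 (.cD (nat_lit 24) (.kc (nat_lit 48) (nat_lit 0x3001001)) (.cD (nat_lit 32) (.kc (nat_lit 36) (nat_lit 0x5001001)) (.cD (nat_lit 40) (.kA false (nat_lit 0x500400700c002011001000002)) (.cD (nat_lit 48) (.kA false (nat_lit 0x700400500c002011001000002)) (.cD (nat_lit 56) (.kc (nat_lit 52) (nat_lit 0x7001001)) .nil)))))))) (.cD (nat_lit 32) (.kc (nat_lit 20) (nat_lit 0x3001001)) (.cD (nat_lit 48) (.dfs (nat_lit 32) (nat_lit 4100) (nat_lit 4100) (nat_lit 0x1002001) (nat_lit 0x1002001) (nat_lit 0) (nat_lit 0) (nat_lit 3) (nat_lit 0) (nat_lit 0) (nat_lit 0) (nat_lit 1) (nat_lit 0) (nat_lit 0x1008004) (nat_lit 32772) (nat_lit 0x1001004000008001014000018) (nat_lit 0x1000101110110) (.cD (nat_lit 4) (.kA true (nat_lit 0x100400200c002011001000002)) (.cD (nat_lit 8) (.kA false (nat_lit 0x100400600c002011001000002)) (.cD (nat_lit 16) (.kc (nat_lit 52) (nat_lit 0x7001001)) (.cD (nat_lit 20) (.kA true (nat_lit 0x700400200c002011001000002)) (.cD (nat_lit 24) (.kA false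 (nat_lit 0x700400600c002011001000002)) (.cD (nat_lit 32) (.kc (nat_lit 36) (nat_lit 0x5001001)) (.cD (nat_lit 48) (.kc (nat_lit 48) (nat_lit 0x3001001)) .nil)))))))) .nil)))))))) (.cD (nat_lit 48) (.kF (nat_lit 4) (nat_lit 0x1002001002012004002002000003)) .nil))))))))))
theorem c720 : (chk [] [] p720).n x361 s720 = true := by decide +kernel
noncomputable def p721 : Pf := (.anc (nat_lit 68) (nat_lit 0x10002002002000002) (nat_lit 0x1009020010004) (.czp (nat_lit 64) (nat_lit 0) (nat_lit 0x1040020010008004) z6 (.dfs (nat_lit 4) (nat_lit 4097) (nat_lit 4097) (nat_lit 1) (nat_lit 1) (nat_lit 0) (nat_lit 0) (nat_lit 3) (nat_lit 0) (nat_lit 0) (nat_lit 0) (nat_lit 1) (nat_lit 0) (nat_lit 0x1008004) (nat_lit 32772) (nat_lit 0x1001004000008001014000018) (nat_lit 0x1000101110110) (.cD (nat_lit 4) (.dfs (nat_lit 16) (nat_lit 4098) (nat_lit 4098) (nat_lit 4097) (nat_lit 4097) (nat_lit 0) (nat_lit 0) (nat_lit 3) (nat_lit 0) (nat_lit 0) (nat_lit 0) (nat_lit 1) (nat_lit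 0) (nat_lit 1) (nat_lit 0) (nat_lit 1) (nat_lit 0x11001100110010) (.cD (nat_lit 4) (.kc (nat_lit 20) (nat_lit 0x3001001)) (.cD (nat_lit 16) (.dfs (nat_lit 32) (nat_lit 4100) (nat_lit 4100) (nat_lit 0x1002001) (nat_lit 0x1002001) (nat_lit 0) (nat_lit 0) (nat_lit 3) (nat_lit 0) (nat_lit 0) (nat_lit 0) (nat_lit 1) (nat_lit 0) (nat_lit 1) (nat_lit 0) (nat_lit 1) (nat_lit 0x11001100110010) (.cD (nat_lit 4) (.kc (nat_lit 36) (nat_lit 0x5001001)) (.cD (nat_lit 16) (.kc (nat_lit 48) (nat_lit 0x3001001)) (.cD (nat_lit 20) (.kc (nat_lit 52) (nat_lit 0x7001001)) (.cD (nat_lit 32) (.dfs (nat_lit 9) (nat_lit 0x1004001003008) (nat_lit 0x1005001003008) (nat_lit 4098) (nat_lit 4098) (nat_lit 2) (nat_lit 0) (nat_lit 2) (nat_lit 1) (nat_lit 0) (nat_lit 8) (nat_lit 1) (nat_lit 0) (nat_lit 1) (nat_lit 0) (nat_lit 1) (nat_lit 0) .nil) (.cD (nat_lit 36) (.kA true (nat_lit 0x1100100000400100300d001011001000003)) (.cD (nat_lit 48) (.kA true (nat_lit 0x600800401000400400100300d001011001000003))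 (.cD (nat_lit 52) (.kA true (nat_lit 0x5004003008001008004002005007011001000003)) .nil)))))))) (.cD (nat_lit 20) (.dfs (nat_lit 32) (nat_lit 4100) (nat_lit 4100) (nat_lit 0x1002001) (nat_lit 0x1002001) (nat_lit 0) (nat_lit 0) (nat_lit 3) (nat_lit 0) (nat_lit 0) (nat_lit 0) (nat_lit 1) (nat_lit 0) (nat_lit 1) (nat_lit 0) (nat_lit 1) (nat_lit 0x11001100110010) (.cD (nat_lit 4) (.kc (nat_lit 36) (nat_lit 0x5001001)) (.cD (nat_lit 16) (.kc (nat_lit 52) (nat_lit 0x7001001)) (.cD (nat_lit 20) (.kc (nat_lit 48) (nat_lit 0x3001001)) (.cD (nat_lit 32) (.kA true (nat_lit 0x5004003008001008004002005007011001000003)) (.cD (nat_lit 36) (.dfs (nat_lit 9) (nat_lit 4102) (nat_lit 4103) (nat_lit 1) (nat_lit 1) (nat_lit 2) (nat_lit 0) (nat_lit 1) (nat_lit 4112) (nat_lit 0x40020010008004002011) (nat_lit 0) (nat_lit 1) (nat_lit 0) (nat_lit 1) (nat_lit 0) (nat_lit 1) (nat_lit 0) .nil) (.cD (nat_lit 48) (.kA true (nat_lit 0x400300500800100400100300c001002)) (.cD (nat_lit 52)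 (.kA true (nat_lit 0x400700100800100400100300c001002)) .nil)))))))) (.cD (nat_lit 32) (.kF (nat_lit 16) (nat_lit 0x100400100c012004002002000003)) (.cD (nat_lit 36) (.kF (nat_lit 16) (nat_lit 0x100400100c012004002002000003)) (.cD (nat_lit 48) (.dfs (nat_lit 32) (nat_lit 4100) (nat_lit 4100) (nat_lit 0x1002001) (nat_lit 0x1002001) (nat_lit 0) (nat_lit 0) (nat_lit 3) (nat_lit 0) (nat_lit 0) (nat_lit 0) (nat_lit 1) (nat_lit 0) (nat_lit 1) (nat_lit 0) (nat_lit 1) (nat_lit 0x11001100110010) (.cD (nat_lit 4) (.kc (nat_lit 36) (nat_lit 0x5001001)) (.cD (nat_lit 16) (.kA true (nat_lit 0x400200100800100400100300c001002)) (.cD (nat_lit 20) (.kA true (nat_lit 0x400600500800100400100300c001002)) (.cD (nat_lit 32) (.kA true (nat_lit 0x5004003008001008004002005007011001000003)) (.cD (nat_lit 36) (.kA true (nat_lit 0x400500600800100400100300c001002)) (.cD (nat_lit 48) (.kc (nat_lit 48) (nat_lit 0x3001001)) (.cD (nat_lit 52) (.kc (nat_lit 52) (nat_lit 0x7001001)) .nil))))))))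 (.cD (nat_lit 52) (.dfs (nat_lit 32) (nat_lit 4100) (nat_lit 4100) (nat_lit 0x1002001) (nat_lit 0x1002001) (nat_lit 0) (nat_lit 0) (nat_lit 3) (nat_lit 0) (nat_lit 0) (nat_lit 0) (nat_lit 1) (nat_lit 0) (nat_lit 1) (nat_lit 0) (nat_lit 1) (nat_lit 0x11001100110010) (.cD (nat_lit 4) (.kc (nat_lit 36) (nat_lit 0x5001001)) (.cD (nat_lit 16) (.kA true (nat_lit 0x400200500800100400100300c001002)) (.cD (nat_lit 20) (.kA true (nat_lit 0x400600100800100400100300c001002)) (.cD (nat_lit 32) (.kA true (nat_lit 0x5004003008001008004002005007011001000003)) (.cD (nat_lit 36) (.kA true (nat_lit 0x400500200800100400100300c001002)) (.cD (nat_lit 48) (.kc (nat_lit 52) (nat_lit 0x7001001)) (.cD (nat_lit 52) (.kc (nat_lit 48) (nat_lit 0x3001001)) .nil)))))))) .nil)))))))) (.cD (nat_lit 8) (.dfs (nat_lit 16) (nat_lit 4098) (nat_lit 4098) (nat_lit 4097) (nat_lit 4097) (nat_lit 0) (nat_lit 0) (nat_lit 3) (nat_lit 0) (nat_lit 0) (nat_lit 0) (nat_lit 1) (nat_lit 0) (nat_lit 1)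 (nat_lit 0) (nat_lit 1) (nat_lit 0x101010101010100) (.cD (nat_lit 8) (.kc (nat_lit 20) (nat_lit 0x3001001)) (.cD (nat_lit 16) (.dfs (nat_lit 32) (nat_lit 4100) (nat_lit 4100) (nat_lit 0x1002001) (nat_lit 0x1002001) (nat_lit 0) (nat_lit 0) (nat_lit 3) (nat_lit 0) (nat_lit 0) (nat_lit 0) (nat_lit 1) (nat_lit 0) (nat_lit 1) (nat_lit 0) (nat_lit 1) (nat_lit 0x101010101010100) (.cD (nat_lit 8) (.kc (nat_lit 36) (nat_lit 0x5001001)) (.cD (nat_lit 16) (.kc (nat_lit 48) (nat_lit 0x3001001)) (.cD (nat_lit 24) (.kc (nat_lit 52) (nat_lit 0x7001001)) (.cD (nat_lit 32) (.kA false (nat_lit 0x500400200c002002004008014005011001000003)) (.cD (nat_lit 40) (.kA false (nat_lit 0x1100100000400500200d002011001000003)) (.cD (nat_lit 48) (.kA false (nat_lit 0x600800c01000400400300200b002011001000003)) (.cD (nat_lit 56) (.kA false (nat_lit 0x300400200c002002004008014005011001000003)) .nil)))))))) (.cD (nat_lit 24) (.dfs (nat_lit 32) (nat_lit 4100) (nat_lit 4100) (nat_lit 0x1002001)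 (nat_lit 0x1002001) (nat_lit 0) (nat_lit 0) (nat_lit 3) (nat_lit 0) (nat_lit 0) (nat_lit 0) (nat_lit 1) (nat_lit 0) (nat_lit 1) (nat_lit 0) (nat_lit 1) (nat_lit 0x101010101010100) (.cD (nat_lit 8) (.kc (nat_lit 36) (nat_lit 0x5001001)) (.cD (nat_lit 16) (.kc (nat_lit 52) (nat_lit 0x7001001)) (.cD (nat_lit 24) (.kc (nat_lit 48) (nat_lit 0x3001001)) (.cD (nat_lit 32) (.kA false (nat_lit 0x500400600c002002004008014005011001000003)) (.cD (nat_lit 40) (.kA false (nat_lit 0x1100100000400500600d002011001000003)) (.cD (nat_lit 48) (.kA false (nat_lit 0x300400600c002002004008014005011001000003)) (.cD (nat_lit 56) (.kA false (nat_lit 0x600800a01000400400300600b002011001000003)) .nil)))))))) (.cD (nat_lit 32) (.kF (nat_lit 16) (nat_lit 0x100400100c012004002002000003)) (.cD (nat_lit 40) (.kF (nat_lit 16) (nat_lit 0x100400100c012004002002000003)) (.cD (nat_lit 48) (.dfs (nat_lit 32) (nat_lit 4100) (nat_lit 4100) (nat_lit 0x1002001) (nat_lit 0x1002001) (nat_lit 0)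 (nat_lit 0) (nat_lit 3) (nat_lit 0) (nat_lit 0) (nat_lit 0) (nat_lit 1) (nat_lit 0) (nat_lit 1) (nat_lit 0) (nat_lit 1) (nat_lit 0x101010101010100) (.cD (nat_lit 8) (.kc (nat_lit 36) (nat_lit 0x5001001)) (.cD (nat_lit 16) (.kA false (nat_lit 0x600800401000400400300100b002011001000003)) (.cD (nat_lit 24) (.kA false (nat_lit 0x300400500c002002004008014005011001000003)) (.cD (nat_lit 32) (.kA false (nat_lit 0x500400300c002002004008014005011001000003)) (.cD (nat_lit 40) (.kA false (nat_lit 0x1100100000400500700d002011001000003)) (.cD (nat_lit 48) (.kc (nat_lit 48) (nat_lit 0x3001001)) (.cD (nat_lit 56) (.kc (nat_lit 52) (nat_lit 0x7001001)) .nil)))))))) (.cD (nat_lit 56) (.dfs (nat_lit 32) (nat_lit 4100) (nat_lit 4100) (nat_lit 0x1002001) (nat_lit 0x1002001) (nat_lit 0) (nat_lit 0) (nat_lit 3) (nat_lit 0) (nat_lit 0) (nat_lit 0) (nat_lit 1) (nat_lit 0) (nat_lit 1) (nat_lit 0) (nat_lit 1) (nat_lit 0x101010101010100) (.cD (nat_lit 8) (.kc (nat_lit 36) (nat_lit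 0x5001001)) (.cD (nat_lit 16) (.kA false (nat_lit 0x300400100c002002004008014005011001000003)) (.cD (nat_lit 24) (.kA false (nat_lit 0x600800201000400400300500b002011001000003)) (.cD (nat_lit 32) (.kA false (nat_lit 0x500400700c002002004008014005011001000003)) (.cD (nat_lit 40) (.kA false (nat_lit 0x1100100000400500300d002011001000003)) (.cD (nat_lit 48) (.kc (nat_lit 52) (nat_lit 0x7001001)) (.cD (nat_lit 56) (.kc (nat_lit 48) (nat_lit 0x3001001)) .nil)))))))) .nil)))))))) (.cD (nat_lit 16) (.kF (nat_lit 4) (nat_lit 0x2002000001003001002)) (.cD (nat_lit 20) (.kF (nat_lit 4) (nat_lit 0xe01e003001003001002)) (.cD (nat_lit 24) (.kF (nat_lit 4) (nat_lit 0x1002001002012004002002000003)) (.cD (nat_lit 32) (.dfs (nat_lit 16) (nat_lit 4098) (nat_lit 4098) (nat_lit 4097) (nat_lit 4097) (nat_lit 0) (nat_lit 0) (nat_lit 3) (nat_lit 0) (nat_lit 0) (nat_lit 0) (nat_lit 1) (nat_lit 0) (nat_lit 0x1008004) (nat_lit 32772) (nat_lit 0x1001004000008001014000018) (nat_lit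 0x1000101110110) (.cD (nat_lit 4) (.kF (nat_lit 16) (nat_lit 0x11001000001006001002)) (.cD (nat_lit 8) (.kF (nat_lit 16) (nat_lit 0x11001000001006001002)) (.cD (nat_lit 16) (.dfs (nat_lit 32) (nat_lit 4100) (nat_lit 4100) (nat_lit 0x1002001) (nat_lit 0x1002001) (nat_lit 0) (nat_lit 0) (nat_lit 3) (nat_lit 0) (nat_lit 0) (nat_lit 0) (nat_lit 1) (nat_lit 0) (nat_lit 0x1008004) (nat_lit 32772) (nat_lit 0x1001004000008001014000018) (nat_lit 0x1000101110110) (.cD (nat_lit 4) (.kA true (nat_lit 0x100400600c002011001000002)) (.cD (nat_lit 8) (.kA false (nat_lit 0x100400200c002011001000002)) (.cD (nat_lit 16) (.kc (nat_lit 48) (nat_lit 0x3001001)) (.cD (nat_lit 20) (.kA true (nat_lit 0x300400600c002011001000002)) (.cD (nat_lit 24) (.kA false (nat_lit 0x300400200c002011001000002)) (.cD (nat_lit 32) (.kc (nat_lit 36) (nat_lit 0x5001001)) (.cD (nat_lit 48) (.kc (nat_lit 52) (nat_lit 0x7001001)) .nil)))))))) (.cD (nat_lit 20) (.dfs (nat_lit 32) (nat_lit 4100) (nat_lit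 4100) (nat_lit 0x1002001) (nat_lit 0x1002001) (nat_lit 0) (nat_lit 0) (nat_lit 3) (nat_lit 0) (nat_lit 0) (nat_lit 0) (nat_lit 1) (nat_lit 0) (nat_lit 1) (nat_lit 0) (nat_lit 1) (nat_lit 0x11001100110010) (.cD (nat_lit 4) (.kA true (nat_lit 0x100400700c002011001000002)) (.cD (nat_lit 16) (.kA true (nat_lit 0x300400500c002011001000002)) (.cD (nat_lit 20) (.kc (nat_lit 48) (nat_lit 0x3001001)) (.cD (nat_lit 32) (.kc (nat_lit 36) (nat_lit 0x5001001)) (.cD (nat_lit 36) (.dfs (nat_lit 9) (nat_lit 4100) (nat_lit 4101) (nat_lit 1) (nat_lit 1) (nat_lit 2) (nat_lit 0) (nat_lit 1) (nat_lit 4128) (nat_lit 0x40020010008004002011) (nat_lit 0) (nat_lit 1) (nat_lit 0) (nat_lit 1) (nat_lit 0) (nat_lit 1) (nat_lit 0) .nil) (.cD (nat_lit 48) (.kA true (nat_lit 0x700400100c002011001000002)) (.cD (nat_lit 52) (.kc (nat_lit 52) (nat_lit 0x7001001)) .nil)))))))) (.cD (nat_lit 24) (.dfs (nat_lit 32) (nat_lit 4100) (nat_lit 4100) (nat_lit 0x1002001) (nat_lit 0x1002001) (nat_lit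 0) (nat_lit 0) (nat_lit 3) (nat_lit 0) (nat_lit 0) (nat_lit 0) (nat_lit 1) (nat_lit 0) (nat_lit 1) (nat_lit 0) (nat_lit 1) (nat_lit 0x101010101010100) (.cD (nat_lit 8) (.kA false (nat_lit 0x100400300c002011001000002)) (.cD (nat_lit 16) (.kA false (nat_lit 0x300400100c002011001000002)) (.cD (nat_lit 24) (.kc (nat_lit 48) (nat_lit 0x3001001)) (.cD (nat_lit 32) (.kc (nat_lit 36) (nat_lit 0x5001001)) (.cD (nat_lit 40) (.kA false (nat_lit 0x500400700c002011001000002)) (.cD (nat_lit 48) (.kA false (nat_lit 0x700400500c002011001000002)) (.cD (nat_lit 56) (.kc (nat_lit 52) (nat_lit 0x7001001)) .nil)))))))) (.cD (nat_lit 32) (.kc (nat_lit 20) (nat_lit 0x3001001)) (.cD (nat_lit 48) (.dfs (nat_lit 32) (nat_lit 4100) (nat_lit 4100) (nat_lit 0x1002001) (nat_lit 0x1002001) (nat_lit 0) (nat_lit 0) (nat_lit 3) (nat_lit 0) (nat_lit 0) (nat_lit 0) (nat_lit 1) (nat_lit 0) (nat_lit 0x1008004) (nat_lit 32772) (nat_lit 0x1001004000008001014000018) (nat_lit 0x1000101110110)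 (.cD (nat_lit 4) (.kA true (nat_lit 0x100400200c002011001000002)) (.cD (nat_lit 8) (.kA false (nat_lit 0x100400600c002011001000002)) (.cD (nat_lit 16) (.kc (nat_lit 52) (nat_lit 0x7001001)) (.cD (nat_lit 20) (.kA true (nat_lit 0x700400200c002011001000002)) (.cD (nat_lit 24) (.kA false (nat_lit 0x700400600c002011001000002)) (.cD (nat_lit 32) (.kc (nat_lit 36) (nat_lit 0x5001001)) (.cD (nat_lit 48) (.kc (nat_lit 48) (nat_lit 0x3001001)) .nil)))))))) .nil)))))))) (.cD (nat_lit 48) (.kF (nat_lit 4) (nat_lit 0x1002001002012004002002000003)) .nil))))))))))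
theorem c721 : (chk [] [] p721).n x362 s721 = true := by decide +kernel
noncomputable def p722 : Pf := (.anc (nat_lit 68) (nat_lit 0x10002002002000002) (nat_lit 0x1009020010004) (.czp (nat_lit 64) (nat_lit 0) (nat_lit 0x1040020010008004) z6 (.dfs (nat_lit 4) (nat_lit 4097) (nat_lit 4097) (nat_lit 1) (nat_lit 1) (nat_lit 0) (nat_lit 0) (nat_lit 3) (nat_lit 0) (nat_lit 0) (nat_lit 0) (nat_lit 1) (nat_lit 0) (nat_lit 0x1008004) (nat_lit 32772) (nat_lit 0x1001004000008001014000018) (nat_lit 0x1000101110110) (.cD (nat_lit 4) (.dfs (nat_lit 16) (nat_lit 4098) (nat_lit 4098) (nat_lit 4097) (nat_lit 4097) (nat_lit 0) (nat_lit 0) (nat_lit 3) (nat_lit 0) (nat_lit 0) (nat_lit 0) (nat_lit 1) (nat_lit 0) (nat_lit 1) (nat_lit 0) (nat_lit 1) (nat_lit 0x11001100110010) (.cD (nat_lit 4) (.kc (nat_lit 20) (nat_lit 0x3001001)) (.cD (nat_lit 16) (.dfs (nat_lit 32) (nat_lit 4100) (nat_lit 4100) (nat_lit 0x1002001) (nat_lit 0x1002001) (nat_lit 0) (nat_lit 0) (nat_lit 3) (nat_lit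 0) (nat_lit 0) (nat_lit 0) (nat_lit 1) (nat_lit 0) (nat_lit 1) (nat_lit 0) (nat_lit 1) (nat_lit 0x11001100110010) (.cD (nat_lit 4) (.kc (nat_lit 36) (nat_lit 0x5001001)) (.cD (nat_lit 16) (.kc (nat_lit 48) (nat_lit 0x3001001)) (.cD (nat_lit 20) (.kc (nat_lit 52) (nat_lit 0x7001001)) (.cD (nat_lit 32) (.dfs (nat_lit 9) (nat_lit 0x1004001003008) (nat_lit 0x1005001003008) (nat_lit 4098) (nat_lit 4098) (nat_lit 1) (nat_lit 0) (nat_lit 2) (nat_lit 1) (nat_lit 0) (nat_lit 8) (nat_lit 1) (nat_lit 0) (nat_lit 4100) (nat_lit 4) (nat_lit 0x100004c00005c) (nat_lit 0x100010000000000000000000) (.cD (nat_lit 76) (.kb (nat_lit 13) (nat_lit 0x102100001400600b001003) (nat_lit 0x102001004800c006001)) (.cD (nat_lit 92) (.kb (nat_lit 29) (nat_lit 0x102100001400600f001003) (nat_lit 0x102001004800c006001)) .nil))) (.cD (nat_lit 36) (.kA true (nat_lit 0x2100100000400100300d001021001000003)) (.cD (nat_lit 48) (.kA true (nat_lit 0x600800401000400400100300d001021001000003)) (.cD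 (nat_lit 52) (.kA true (nat_lit 0x5004003008001008004002005007021001000003)) .nil)))))))) (.cD (nat_lit 20) (.dfs (nat_lit 32) (nat_lit 4100) (nat_lit 4100) (nat_lit 0x1002001) (nat_lit 0x1002001) (nat_lit 0) (nat_lit 0) (nat_lit 3) (nat_lit 0) (nat_lit 0) (nat_lit 0) (nat_lit 1) (nat_lit 0) (nat_lit 1) (nat_lit 0) (nat_lit 1) (nat_lit 0x11001100110010) (.cD (nat_lit 4) (.kc (nat_lit 36) (nat_lit 0x5001001)) (.cD (nat_lit 16) (.kc (nat_lit 52) (nat_lit 0x7001001)) (.cD (nat_lit 20) (.kc (nat_lit 48) (nat_lit 0x3001001)) (.cD (nat_lit 32) (.kA true (nat_lit 0x5004003008001008004002005007021001000003)) (.cD (nat_lit 36) (.dfs (nat_lit 9) (nat_lit 4102) (nat_lit 4103) (nat_lit 1) (nat_lit 1) (nat_lit 1) (nat_lit 0) (nat_lit 1) (nat_lit 4112) (nat_lit 0x40020010008004002021) (nat_lit 0) (nat_lit 1) (nat_lit 0) (nat_lit 1) (nat_lit 0) (nat_lit 1) (nat_lit 0) .nil) (.cD (nat_lit 48) (.kA true (nat_lit 0x400300500800100400100300c001002)) (.cD (nat_lit 52) (.kA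 true (nat_lit 0x400700100800100400100300c001002)) .nil)))))))) (.cD (nat_lit 32) (.kF (nat_lit 16) (nat_lit 0x100400100c012004002002000003)) (.cD (nat_lit 36) (.kF (nat_lit 16) (nat_lit 0x100400100c012004002002000003)) (.cD (nat_lit 48) (.dfs (nat_lit 32) (nat_lit 4100) (nat_lit 4100) (nat_lit 0x1002001) (nat_lit 0x1002001) (nat_lit 0) (nat_lit 0) (nat_lit 3) (nat_lit 0) (nat_lit 0) (nat_lit 0) (nat_lit 1) (nat_lit 0) (nat_lit 1) (nat_lit 0) (nat_lit 1) (nat_lit 0x11001100110010) (.cD (nat_lit 4) (.kc (nat_lit 36) (nat_lit 0x5001001)) (.cD (nat_lit 16) (.kA true (nat_lit 0x400200100800100400100300c001002)) (.cD (nat_lit 20) (.kA true (nat_lit 0x400600500800100400100300c001002)) (.cD (nat_lit 32) (.kA true (nat_lit 0x5004003008001008004002005007021001000003)) (.cD (nat_lit 36) (.kA true (nat_lit 0x400500600800100400100300c001002)) (.cD (nat_lit 48) (.kc (nat_lit 48) (nat_lit 0x3001001)) (.cD (nat_lit 52) (.kc (nat_lit 52) (nat_lit 0x7001001)) .nil))))))))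 (.cD (nat_lit 52) (.dfs (nat_lit 32) (nat_lit 4100) (nat_lit 4100) (nat_lit 0x1002001) (nat_lit 0x1002001) (nat_lit 0) (nat_lit 0) (nat_lit 3) (nat_lit 0) (nat_lit 0) (nat_lit 0) (nat_lit 1) (nat_lit 0) (nat_lit 1) (nat_lit 0) (nat_lit 1) (nat_lit 0x11001100110010) (.cD (nat_lit 4) (.kc (nat_lit 36) (nat_lit 0x5001001)) (.cD (nat_lit 16) (.kA true (nat_lit 0x400200500800100400100300c001002)) (.cD (nat_lit 20) (.kA true (nat_lit 0x400600100800100400100300c001002)) (.cD (nat_lit 32) (.kA true (nat_lit 0x5004003008001008004002005007021001000003)) (.cD (nat_lit 36) (.kA true (nat_lit 0x400500200800100400100300c001002)) (.cD (nat_lit 48) (.kc (nat_lit 52) (nat_lit 0x7001001)) (.cD (nat_lit 52) (.kc (nat_lit 48) (nat_lit 0x3001001)) .nil)))))))) .nil)))))))) (.cD (nat_lit 8) (.dfs (nat_lit 16) (nat_lit 4098) (nat_lit 4098) (nat_lit 4097) (nat_lit 4097) (nat_lit 0) (nat_lit 0) (nat_lit 3) (nat_lit 0) (nat_lit 0) (nat_lit 0) (nat_lit 1) (nat_lit 0) (nat_lit 1)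 (nat_lit 0) (nat_lit 1) (nat_lit 0x101010101010100) (.cD (nat_lit 8) (.kc (nat_lit 20) (nat_lit 0x3001001)) (.cD (nat_lit 16) (.dfs (nat_lit 32) (nat_lit 4100) (nat_lit 4100) (nat_lit 0x1002001) (nat_lit 0x1002001) (nat_lit 0) (nat_lit 0) (nat_lit 3) (nat_lit 0) (nat_lit 0) (nat_lit 0) (nat_lit 1) (nat_lit 0) (nat_lit 1) (nat_lit 0) (nat_lit 1) (nat_lit 0x101010101010100) (.cD (nat_lit 8) (.kc (nat_lit 36) (nat_lit 0x5001001)) (.cD (nat_lit 16) (.kc (nat_lit 48) (nat_lit 0x3001001)) (.cD (nat_lit 24) (.kc (nat_lit 52) (nat_lit 0x7001001)) (.cD (nat_lit 32) (.kA false (nat_lit 0x500400200c002002004008014005021001000003)) (.cD (nat_lit 40) (.kA false (nat_lit 0x2100100000400500200d002021001000003)) (.cD (nat_lit 48) (.kA false (nat_lit 0x600800c01000400400300200b002021001000003)) (.cD (nat_lit 56) (.kA false (nat_lit 0x300400200c002002004008014005021001000003)) .nil)))))))) (.cD (nat_lit 24) (.dfs (nat_lit 32) (nat_lit 4100) (nat_lit 4100) (nat_lit 0x1002001)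 (nat_lit 0x1002001) (nat_lit 0) (nat_lit 0) (nat_lit 3) (nat_lit 0) (nat_lit 0) (nat_lit 0) (nat_lit 1) (nat_lit 0) (nat_lit 1) (nat_lit 0) (nat_lit 1) (nat_lit 0x101010101010100) (.cD (nat_lit 8) (.kc (nat_lit 36) (nat_lit 0x5001001)) (.cD (nat_lit 16) (.kc (nat_lit 52) (nat_lit 0x7001001)) (.cD (nat_lit 24) (.kc (nat_lit 48) (nat_lit 0x3001001)) (.cD (nat_lit 32) (.kA false (nat_lit 0x500400600c002002004008014005021001000003)) (.cD (nat_lit 40) (.kA false (nat_lit 0x2100100000400500600d002021001000003)) (.cD (nat_lit 48) (.kA false (nat_lit 0x300400600c002002004008014005021001000003)) (.cD (nat_lit 56) (.kA false (nat_lit 0x600800a01000400400300600b002021001000003)) .nil)))))))) (.cD (nat_lit 32) (.kF (nat_lit 16) (nat_lit 0x100400100c012004002002000003)) (.cD (nat_lit 40) (.kF (nat_lit 16) (nat_lit 0x100400100c012004002002000003)) (.cD (nat_lit 48) (.dfs (nat_lit 32) (nat_lit 4100) (nat_lit 4100) (nat_lit 0x1002001) (nat_lit 0x1002001) (nat_lit 0)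 (nat_lit 0) (nat_lit 3) (nat_lit 0) (nat_lit 0) (nat_lit 0) (nat_lit 1) (nat_lit 0) (nat_lit 1) (nat_lit 0) (nat_lit 1) (nat_lit 0x101010101010100) (.cD (nat_lit 8) (.kc (nat_lit 36) (nat_lit 0x5001001)) (.cD (nat_lit 16) (.kA false (nat_lit 0x600800401000400400300100b002021001000003)) (.cD (nat_lit 24) (.kA false (nat_lit 0x300400500c002002004008014005021001000003)) (.cD (nat_lit 32) (.kA false (nat_lit 0x500400300c002002004008014005021001000003)) (.cD (nat_lit 40) (.kA false (nat_lit 0x2100100000400500700d002021001000003)) (.cD (nat_lit 48) (.kc (nat_lit 48) (nat_lit 0x3001001)) (.cD (nat_lit 56) (.kc (nat_lit 52) (nat_lit 0x7001001)) .nil)))))))) (.cD (nat_lit 56) (.dfs (nat_lit 32) (nat_lit 4100) (nat_lit 4100) (nat_lit 0x1002001) (nat_lit 0x1002001) (nat_lit 0) (nat_lit 0) (nat_lit 3) (nat_lit 0) (nat_lit 0) (nat_lit 0) (nat_lit 1) (nat_lit 0) (nat_lit 1) (nat_lit 0) (nat_lit 1) (nat_lit 0x101010101010100) (.cD (nat_lit 8) (.kc (nat_lit 36) (nat_lit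 0x5001001)) (.cD (nat_lit 16) (.kA false (nat_lit 0x300400100c002002004008014005021001000003)) (.cD (nat_lit 24) (.kA false (nat_lit 0x600800201000400400300500b002021001000003)) (.cD (nat_lit 32) (.kA false (nat_lit 0x500400700c002002004008014005021001000003)) (.cD (nat_lit 40) (.kA false (nat_lit 0x2100100000400500300d002021001000003)) (.cD (nat_lit 48) (.kc (nat_lit 52) (nat_lit 0x7001001)) (.cD (nat_lit 56) (.kc (nat_lit 48) (nat_lit 0x3001001)) .nil)))))))) .nil)))))))) (.cD (nat_lit 16) (.kF (nat_lit 4) (nat_lit 0x2002000001003001002)) (.cD (nat_lit 20) (.kF (nat_lit 4) (nat_lit 0xe01e003001003001002)) (.cD (nat_lit 24) (.kF (nat_lit 4) (nat_lit 0x1002001002012004002002000003)) (.cD (nat_lit 32) (.dfs (nat_lit 16) (nat_lit 4098) (nat_lit 4098) (nat_lit 4097) (nat_lit 4097) (nat_lit 0) (nat_lit 0) (nat_lit 3) (nat_lit 0) (nat_lit 0) (nat_lit 0) (nat_lit 1) (nat_lit 0) (nat_lit 0x1008004) (nat_lit 32772) (nat_lit 0x1001004000008001014000018) (nat_lit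 0x1000101110110) (.cD (nat_lit 4) (.kF (nat_lit 16) (nat_lit 0x21001000001006001002)) (.cD (nat_lit 8) (.kF (nat_lit 16) (nat_lit 0x21001000001006001002)) (.cD (nat_lit 16) (.dfs (nat_lit 32) (nat_lit 4100) (nat_lit 4100) (nat_lit 0x1002001) (nat_lit 0x1002001) (nat_lit 0) (nat_lit 0) (nat_lit 3) (nat_lit 0) (nat_lit 0) (nat_lit 0) (nat_lit 1) (nat_lit 0) (nat_lit 0x1008004) (nat_lit 32772) (nat_lit 0x1001004000008001014000018) (nat_lit 0x1000101110110) (.cD (nat_lit 4) (.kA true (nat_lit 0x100400600c002021001000002)) (.cD (nat_lit 8) (.kA false (nat_lit 0x100400200c002021001000002)) (.cD (nat_lit 16) (.kc (nat_lit 48) (nat_lit 0x3001001)) (.cD (nat_lit 20) (.kA true (nat_lit 0x300400600c002021001000002)) (.cD (nat_lit 24) (.kA false (nat_lit 0x300400200c002021001000002)) (.cD (nat_lit 32) (.kc (nat_lit 36) (nat_lit 0x5001001)) (.cD (nat_lit 48) (.kc (nat_lit 52) (nat_lit 0x7001001)) .nil)))))))) (.cD (nat_lit 20) (.dfs (nat_lit 32) (nat_lit 4100) (nat_lit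 4100) (nat_lit 0x1002001) (nat_lit 0x1002001) (nat_lit 0) (nat_lit 0) (nat_lit 3) (nat_lit 0) (nat_lit 0) (nat_lit 0) (nat_lit 1) (nat_lit 0) (nat_lit 1) (nat_lit 0) (nat_lit 1) (nat_lit 0x11001100110010) (.cD (nat_lit 4) (.kA true (nat_lit 0x100400700c002021001000002)) (.cD (nat_lit 16) (.kA true (nat_lit 0x300400500c002021001000002)) (.cD (nat_lit 20) (.kc (nat_lit 48) (nat_lit 0x3001001)) (.cD (nat_lit 32) (.kc (nat_lit 36) (nat_lit 0x5001001)) (.cD (nat_lit 36) (.dfs (nat_lit 9) (nat_lit 4100) (nat_lit 4101) (nat_lit 1) (nat_lit 1) (nat_lit 1) (nat_lit 0) (nat_lit 1) (nat_lit 4128) (nat_lit 0x40020010008004002021) (nat_lit 0) (nat_lit 1) (nat_lit 0) (nat_lit 1) (nat_lit 0) (nat_lit 1) (nat_lit 0) .nil) (.cD (nat_lit 48) (.kA true (nat_lit 0x700400100c002021001000002)) (.cD (nat_lit 52) (.kc (nat_lit 52) (nat_lit 0x7001001)) .nil)))))))) (.cD (nat_lit 24) (.dfs (nat_lit 32) (nat_lit 4100) (nat_lit 4100) (nat_lit 0x1002001) (nat_lit 0x1002001) (nat_lit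 0) (nat_lit 0) (nat_lit 3) (nat_lit 0) (nat_lit 0) (nat_lit 0) (nat_lit 1) (nat_lit 0) (nat_lit 1) (nat_lit 0) (nat_lit 1) (nat_lit 0x101010101010100) (.cD (nat_lit 8) (.kA false (nat_lit 0x100400300c002021001000002)) (.cD (nat_lit 16) (.kA false (nat_lit 0x300400100c002021001000002)) (.cD (nat_lit 24) (.kc (nat_lit 48) (nat_lit 0x3001001)) (.cD (nat_lit 32) (.kc (nat_lit 36) (nat_lit 0x5001001)) (.cD (nat_lit 40) (.kA false (nat_lit 0x500400700c002021001000002)) (.cD (nat_lit 48) (.kA false (nat_lit 0x700400500c002021001000002)) (.cD (nat_lit 56) (.kc (nat_lit 52) (nat_lit 0x7001001)) .nil)))))))) (.cD (nat_lit 32) (.kc (nat_lit 20) (nat_lit 0x3001001)) (.cD (nat_lit 48) (.dfs (nat_lit 32) (nat_lit 4100) (nat_lit 4100) (nat_lit 0x1002001) (nat_lit 0x1002001) (nat_lit 0) (nat_lit 0) (nat_lit 3) (nat_lit 0) (nat_lit 0) (nat_lit 0) (nat_lit 1) (nat_lit 0) (nat_lit 0x1008004) (nat_lit 32772) (nat_lit 0x1001004000008001014000018) (nat_lit 0x1000101110110)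 (.cD (nat_lit 4) (.kA true (nat_lit 0x100400200c002021001000002)) (.cD (nat_lit 8) (.kA false (nat_lit 0x100400600c002021001000002)) (.cD (nat_lit 16) (.kc (nat_lit 52) (nat_lit 0x7001001)) (.cD (nat_lit 20) (.kA true (nat_lit 0x700400200c002021001000002)) (.cD (nat_lit 24) (.kA false (nat_lit 0x700400600c002021001000002)) (.cD (nat_lit 32) (.kc (nat_lit 36) (nat_lit 0x5001001)) (.cD (nat_lit 48) (.kc (nat_lit 48) (nat_lit 0x3001001)) .nil)))))))) .nil)))))))) (.cD (nat_lit 48) (.kF (nat_lit 4) (nat_lit 0x1002001002012004002002000003)) .nil))))))))))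
theorem c722 : (chk [] [] p722).n x364 s722 = true := by decide +kernel
noncomputable def p723 : Pf := (.anc (nat_lit 68) (nat_lit 0x10002002002000002) (nat_lit 0x1009020010004) (.czp (nat_lit 64) (nat_lit 0) (nat_lit 0x1040020010008004) z6 (.dfs (nat_lit 4) (nat_lit 4097) (nat_lit 4097) (nat_lit 1) (nat_lit 1) (nat_lit 0) (nat_lit 0) (nat_lit 3) (nat_lit 0) (nat_lit 0) (nat_lit 0) (nat_lit 1) (nat_lit 0) (nat_lit 0x1008004) (nat_lit 32772) (nat_lit 0x1001004000008001014000018) (nat_lit 0x1000101110110) (.cD (nat_lit 4) (.dfs (nat_lit 16) (nat_lit 4098) (nat_lit 4098) (nat_lit 4097) (nat_lit 4097) (nat_lit 0) (nat_lit 0) (nat_lit 3) (nat_lit 0) (nat_lit 0) (nat_lit 0) (nat_lit 1) (nat_lit 0) (nat_lit 1) (nat_lit 0) (nat_lit 1) (nat_lit 0x11001100110010) (.cD (nat_lit 4) (.kc (nat_lit 20) (nat_lit 0x3001001)) (.cD (nat_lit 16) (.dfs (nat_lit 32) (nat_lit 4100) (nat_lit 4100) (nat_lit 0x1002001) (nat_lit 0x1002001) (nat_lit 0) (nat_lit 0) (nat_lit 3) (nat_lit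 0) (nat_lit 0) (nat_lit 0) (nat_lit 1) (nat_lit 0) (nat_lit 1) (nat_lit 0) (nat_lit 1) (nat_lit 0x11001100110010) (.cD (nat_lit 4) (.kc (nat_lit 36) (nat_lit 0x5001001)) (.cD (nat_lit 16) (.kc (nat_lit 48) (nat_lit 0x3001001)) (.cD (nat_lit 20) (.kc (nat_lit 52) (nat_lit 0x7001001)) (.cD (nat_lit 32) (.dfs (nat_lit 9) (nat_lit 0x1004001003008) (nat_lit 0x1005001003008) (nat_lit 4098) (nat_lit 4098) (nat_lit 3) (nat_lit 0) (nat_lit 2) (nat_lit 1) (nat_lit 0) (nat_lit 8) (nat_lit 1) (nat_lit 0) (nat_lit 1) (nat_lit 0) (nat_lit 1) (nat_lit 0) .nil) (.cD (nat_lit 36) (.kA true (nat_lit 0x3100100000400100300d001031001000003)) (.cD (nat_lit 48) (.kA true (nat_lit 0x600800401000400400100300d001031001000003)) (.cD (nat_lit 52) (.kA true (nat_lit 0x5004003008001008004002005007031001000003)) .nil)))))))) (.cD (nat_lit 20) (.dfs (nat_lit 32) (nat_lit 4100) (nat_lit 4100) (nat_lit 0x1002001) (nat_lit 0x1002001) (nat_lit 0) (nat_lit 0) (nat_lit 3) (nat_lit 0) (nat_lit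 0) (nat_lit 0) (nat_lit 1) (nat_lit 0) (nat_lit 1) (nat_lit 0) (nat_lit 1) (nat_lit 0x11001100110010) (.cD (nat_lit 4) (.kc (nat_lit 36) (nat_lit 0x5001001)) (.cD (nat_lit 16) (.kc (nat_lit 52) (nat_lit 0x7001001)) (.cD (nat_lit 20) (.kc (nat_lit 48) (nat_lit 0x3001001)) (.cD (nat_lit 32) (.kA true (nat_lit 0x5004003008001008004002005007031001000003)) (.cD (nat_lit 36) (.dfs (nat_lit 9) (nat_lit 4102) (nat_lit 4103) (nat_lit 1) (nat_lit 1) (nat_lit 3) (nat_lit 0) (nat_lit 1) (nat_lit 4112) (nat_lit 0x40020010008004002031) (nat_lit 0) (nat_lit 1) (nat_lit 0) (nat_lit 1) (nat_lit 0) (nat_lit 1) (nat_lit 0) .nil) (.cD (nat_lit 48) (.kA true (nat_lit 0x400300500800100400100300c001002)) (.cD (nat_lit 52) (.kA true (nat_lit 0x400700100800100400100300c001002)) .nil)))))))) (.cD (nat_lit 32) (.kF (nat_lit 16) (nat_lit 0x100400100c012004002002000003)) (.cD (nat_lit 36) (.kF (nat_lit 16) (nat_lit 0x100400100c012004002002000003)) (.cD (nat_lit 48) (.dfs (nat_lit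 32) (nat_lit 4100) (nat_lit 4100) (nat_lit 0x1002001) (nat_lit 0x1002001) (nat_lit 0) (nat_lit 0) (nat_lit 3) (nat_lit 0) (nat_lit 0) (nat_lit 0) (nat_lit 1) (nat_lit 0) (nat_lit 1) (nat_lit 0) (nat_lit 1) (nat_lit 0x11001100110010) (.cD (nat_lit 4) (.kc (nat_lit 36) (nat_lit 0x5001001)) (.cD (nat_lit 16) (.kA true (nat_lit 0x400200100800100400100300c001002)) (.cD (nat_lit 20) (.kA true (nat_lit 0x400600500800100400100300c001002)) (.cD (nat_lit 32) (.kA true (nat_lit 0x5004003008001008004002005007031001000003)) (.cD (nat_lit 36) (.kA true (nat_lit 0x400500600800100400100300c001002)) (.cD (nat_lit 48) (.kc (nat_lit 48) (nat_lit 0x3001001)) (.cD (nat_lit 52) (.kc (nat_lit 52) (nat_lit 0x7001001)) .nil)))))))) (.cD (nat_lit 52) (.dfs (nat_lit 32) (nat_lit 4100) (nat_lit 4100) (nat_lit 0x1002001) (nat_lit 0x1002001) (nat_lit 0) (nat_lit 0) (nat_lit 3) (nat_lit 0) (nat_lit 0) (nat_lit 0) (nat_lit 1) (nat_lit 0) (nat_lit 1) (nat_lit 0) (nat_lit 1) (nat_lit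 0x11001100110010) (.cD (nat_lit 4) (.kc (nat_lit 36) (nat_lit 0x5001001)) (.cD (nat_lit 16) (.kA true (nat_lit 0x400200500800100400100300c001002)) (.cD (nat_lit 20) (.kA true (nat_lit 0x400600100800100400100300c001002)) (.cD (nat_lit 32) (.kA true (nat_lit 0x5004003008001008004002005007031001000003)) (.cD (nat_lit 36) (.kA true (nat_lit 0x400500200800100400100300c001002)) (.cD (nat_lit 48) (.kc (nat_lit 52) (nat_lit 0x7001001)) (.cD (nat_lit 52) (.kc (nat_lit 48) (nat_lit 0x3001001)) .nil)))))))) .nil)))))))) (.cD (nat_lit 8) (.dfs (nat_lit 16) (nat_lit 4098) (nat_lit 4098) (nat_lit 4097) (nat_lit 4097) (nat_lit 0) (nat_lit 0) (nat_lit 3) (nat_lit 0) (nat_lit 0) (nat_lit 0) (nat_lit 1) (nat_lit 0) (nat_lit 1) (nat_lit 0) (nat_lit 1) (nat_lit 0x101010101010100) (.cD (nat_lit 8) (.kc (nat_lit 20) (nat_lit 0x3001001)) (.cD (nat_lit 16) (.dfs (nat_lit 32) (nat_lit 4100) (nat_lit 4100) (nat_lit 0x1002001) (nat_lit 0x1002001) (nat_lit 0) (nat_lit 0) (nat_lit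 3) (nat_lit 0) (nat_lit 0) (nat_lit 0) (nat_lit 1) (nat_lit 0) (nat_lit 1) (nat_lit 0) (nat_lit 1) (nat_lit 0x101010101010100) (.cD (nat_lit 8) (.kc (nat_lit 36) (nat_lit 0x5001001)) (.cD (nat_lit 16) (.kc (nat_lit 48) (nat_lit 0x3001001)) (.cD (nat_lit 24) (.kc (nat_lit 52) (nat_lit 0x7001001)) (.cD (nat_lit 32) (.kA false (nat_lit 0x500400200c002002004008014005031001000003)) (.cD (nat_lit 40) (.kA false (nat_lit 0x3100100000400500200d002031001000003)) (.cD (nat_lit 48) (.kA false (nat_lit 0x600800c01000400400300200b002031001000003)) (.cD (nat_lit 56) (.kA false (nat_lit 0x300400200c002002004008014005031001000003)) .nil)))))))) (.cD (nat_lit 24) (.dfs (nat_lit 32) (nat_lit 4100) (nat_lit 4100) (nat_lit 0x1002001) (nat_lit 0x1002001) (nat_lit 0) (nat_lit 0) (nat_lit 3) (nat_lit 0) (nat_lit 0) (nat_lit 0) (nat_lit 1) (nat_lit 0) (nat_lit 1) (nat_lit 0) (nat_lit 1) (nat_lit 0x101010101010100) (.cD (nat_lit 8) (.kc (nat_lit 36) (nat_lit 0x5001001)) (.cD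 (nat_lit 16) (.kc (nat_lit 52) (nat_lit 0x7001001)) (.cD (nat_lit 24) (.kc (nat_lit 48) (nat_lit 0x3001001)) (.cD (nat_lit 32) (.kA false (nat_lit 0x500400600c002002004008014005031001000003)) (.cD (nat_lit 40) (.kA false (nat_lit 0x3100100000400500600d002031001000003)) (.cD (nat_lit 48) (.kA false (nat_lit 0x300400600c002002004008014005031001000003)) (.cD (nat_lit 56) (.kA false (nat_lit 0x600800a01000400400300600b002031001000003)) .nil)))))))) (.cD (nat_lit 32) (.kF (nat_lit 16) (nat_lit 0x100400100c012004002002000003)) (.cD (nat_lit 40) (.kF (nat_lit 16) (nat_lit 0x100400100c012004002002000003)) (.cD (nat_lit 48) (.dfs (nat_lit 32) (nat_lit 4100) (nat_lit 4100) (nat_lit 0x1002001) (nat_lit 0x1002001) (nat_lit 0) (nat_lit 0) (nat_lit 3) (nat_lit 0) (nat_lit 0) (nat_lit 0) (nat_lit 1) (nat_lit 0) (nat_lit 1) (nat_lit 0) (nat_lit 1) (nat_lit 0x101010101010100) (.cD (nat_lit 8) (.kc (nat_lit 36) (nat_lit 0x5001001)) (.cD (nat_lit 16) (.kA false (nat_lit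 0x600800401000400400300100b002031001000003)) (.cD (nat_lit 24) (.kA false (nat_lit 0x300400500c002002004008014005031001000003)) (.cD (nat_lit 32) (.kA false (nat_lit 0x500400300c002002004008014005031001000003)) (.cD (nat_lit 40) (.kA false (nat_lit 0x3100100000400500700d002031001000003)) (.cD (nat_lit 48) (.kc (nat_lit 48) (nat_lit 0x3001001)) (.cD (nat_lit 56) (.kc (nat_lit 52) (nat_lit 0x7001001)) .nil)))))))) (.cD (nat_lit 56) (.dfs (nat_lit 32) (nat_lit 4100) (nat_lit 4100) (nat_lit 0x1002001) (nat_lit 0x1002001) (nat_lit 0) (nat_lit 0) (nat_lit 3) (nat_lit 0) (nat_lit 0) (nat_lit 0) (nat_lit 1) (nat_lit 0) (nat_lit 1) (nat_lit 0) (nat_lit 1) (nat_lit 0x101010101010100) (.cD (nat_lit 8) (.kc (nat_lit 36) (nat_lit 0x5001001)) (.cD (nat_lit 16) (.kA false (nat_lit 0x300400100c002002004008014005031001000003)) (.cD (nat_lit 24) (.kA false (nat_lit 0x600800201000400400300500b002031001000003)) (.cD (nat_lit 32) (.kA false (nat_lit 0x500400700c002002004008014005031001000003))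 (.cD (nat_lit 40) (.kA false (nat_lit 0x3100100000400500300d002031001000003)) (.cD (nat_lit 48) (.kc (nat_lit 52) (nat_lit 0x7001001)) (.cD (nat_lit 56) (.kc (nat_lit 48) (nat_lit 0x3001001)) .nil)))))))) .nil)))))))) (.cD (nat_lit 16) (.kF (nat_lit 4) (nat_lit 0x2002000001003001002)) (.cD (nat_lit 20) (.kF (nat_lit 4) (nat_lit 0xe01e003001003001002)) (.cD (nat_lit 24) (.kF (nat_lit 4) (nat_lit 0x1002001002012004002002000003)) (.cD (nat_lit 32) (.dfs (nat_lit 16) (nat_lit 4098) (nat_lit 4098) (nat_lit 4097) (nat_lit 4097) (nat_lit 0) (nat_lit 0) (nat_lit 3) (nat_lit 0) (nat_lit 0) (nat_lit 0) (nat_lit 1) (nat_lit 0) (nat_lit 0x1008004) (nat_lit 32772) (nat_lit 0x1001004000008001014000018) (nat_lit 0x1000101110110) (.cD (nat_lit 4) (.kF (nat_lit 16) (nat_lit 0x31001000001006001002)) (.cD (nat_lit 8) (.kF (nat_lit 16) (nat_lit 0x31001000001006001002)) (.cD (nat_lit 16) (.dfs (nat_lit 32) (nat_lit 4100) (nat_lit 4100) (nat_lit 0x1002001) (nat_lit 0x1002001)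 (nat_lit 0) (nat_lit 0) (nat_lit 3) (nat_lit 0) (nat_lit 0) (nat_lit 0) (nat_lit 1) (nat_lit 0) (nat_lit 0x1008004) (nat_lit 32772) (nat_lit 0x1001004000008001014000018) (nat_lit 0x1000101110110) (.cD (nat_lit 4) (.kA true (nat_lit 0x100400600c002031001000002)) (.cD (nat_lit 8) (.kA false (nat_lit 0x100400200c002031001000002)) (.cD (nat_lit 16) (.kc (nat_lit 48) (nat_lit 0x3001001)) (.cD (nat_lit 20) (.kA true (nat_lit 0x300400600c002031001000002)) (.cD (nat_lit 24) (.kA false (nat_lit 0x300400200c002031001000002)) (.cD (nat_lit 32) (.kc (nat_lit 36) (nat_lit 0x5001001)) (.cD (nat_lit 48) (.kc (nat_lit 52) (nat_lit 0x7001001)) .nil)))))))) (.cD (nat_lit 20) (.dfs (nat_lit 32) (nat_lit 4100) (nat_lit 4100) (nat_lit 0x1002001) (nat_lit 0x1002001) (nat_lit 0) (nat_lit 0) (nat_lit 3) (nat_lit 0) (nat_lit 0) (nat_lit 0) (nat_lit 1) (nat_lit 0) (nat_lit 1) (nat_lit 0) (nat_lit 1) (nat_lit 0x11001100110010) (.cD (nat_lit 4) (.kA true (nat_lit 0x100400700c002031001000002))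 (.cD (nat_lit 16) (.kA true (nat_lit 0x300400500c002031001000002)) (.cD (nat_lit 20) (.kc (nat_lit 48) (nat_lit 0x3001001)) (.cD (nat_lit 32) (.kc (nat_lit 36) (nat_lit 0x5001001)) (.cD (nat_lit 36) (.dfs (nat_lit 9) (nat_lit 4100) (nat_lit 4101) (nat_lit 1) (nat_lit 1) (nat_lit 3) (nat_lit 0) (nat_lit 1) (nat_lit 4128) (nat_lit 0x40020010008004002031) (nat_lit 0) (nat_lit 1) (nat_lit 0) (nat_lit 1) (nat_lit 0) (nat_lit 1) (nat_lit 0) .nil) (.cD (nat_lit 48) (.kA true (nat_lit 0x700400100c002031001000002)) (.cD (nat_lit 52) (.kc (nat_lit 52) (nat_lit 0x7001001)) .nil)))))))) (.cD (nat_lit 24) (.dfs (nat_lit 32) (nat_lit 4100) (nat_lit 4100) (nat_lit 0x1002001) (nat_lit 0x1002001) (nat_lit 0) (nat_lit 0) (nat_lit 3) (nat_lit 0) (nat_lit 0) (nat_lit 0) (nat_lit 1) (nat_lit 0) (nat_lit 1) (nat_lit 0) (nat_lit 1) (nat_lit 0x101010101010100) (.cD (nat_lit 8) (.kA false (nat_lit 0x100400300c002031001000002)) (.cD (nat_lit 16) (.kA false (nat_lit 0x300400100c002031001000002))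 (.cD (nat_lit 24) (.kc (nat_lit 48) (nat_lit 0x3001001)) (.cD (nat_lit 32) (.kc (nat_lit 36) (nat_lit 0x5001001)) (.cD (nat_lit 40) (.kA false (nat_lit 0x500400700c002031001000002)) (.cD (nat_lit 48) (.kA false (nat_lit 0x700400500c002031001000002)) (.cD (nat_lit 56) (.kc (nat_lit 52) (nat_lit 0x7001001)) .nil)))))))) (.cD (nat_lit 32) (.kc (nat_lit 20) (nat_lit 0x3001001)) (.cD (nat_lit 48) (.dfs (nat_lit 32) (nat_lit 4100) (nat_lit 4100) (nat_lit 0x1002001) (nat_lit 0x1002001) (nat_lit 0) (nat_lit 0) (nat_lit 3) (nat_lit 0) (nat_lit 0) (nat_lit 0) (nat_lit 1) (nat_lit 0) (nat_lit 0x1008004) (nat_lit 32772) (nat_lit 0x1001004000008001014000018) (nat_lit 0x1000101110110) (.cD (nat_lit 4) (.kA true (nat_lit 0x100400200c002031001000002)) (.cD (nat_lit 8) (.kA false (nat_lit 0x100400600c002031001000002)) (.cD (nat_lit 16) (.kc (nat_lit 52) (nat_lit 0x7001001)) (.cD (nat_lit 20) (.kA true (nat_lit 0x700400200c002031001000002)) (.cD (nat_lit 24) (.kA false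 (nat_lit 0x700400600c002031001000002)) (.cD (nat_lit 32) (.kc (nat_lit 36) (nat_lit 0x5001001)) (.cD (nat_lit 48) (.kc (nat_lit 48) (nat_lit 0x3001001)) .nil)))))))) .nil)))))))) (.cD (nat_lit 48) (.kF (nat_lit 4) (nat_lit 0x1002001002012004002002000003)) .nil))))))))))
theorem c723 : (chk [] [] p723).n x365 s723 = true := by decide +kernel
noncomputable def p724 : Pf := (.anc (nat_lit 68) (nat_lit 0x10002002002000002) (nat_lit 0x1009020010004) (.czp (nat_lit 64) (nat_lit 0) (nat_lit 0x1040020010008004) z6 (.dfs (nat_lit 4) (nat_lit 4097) (nat_lit 4097) (nat_lit 1) (nat_lit 1) (nat_lit 0) (nat_lit 0) (nat_lit 3) (nat_lit 0) (nat_lit 0) (nat_lit 0) (nat_lit 1) (nat_lit 0) (nat_lit 0x1008004) (nat_lit 32772) (nat_lit 0x1001004000008001014000018) (nat_lit 0x1000101110110) (.cD (nat_lit 4) (.dfs (nat_lit 16) (nat_lit 4098) (nat_lit 4098) (nat_lit 4097) (nat_lit 4097) (nat_lit 0) (nat_lit 0) (nat_lit 3) (nat_lit 0) (nat_lit 0) (nat_lit 0) (nat_lit 1) (nat_lit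 0) (nat_lit 1) (nat_lit 0) (nat_lit 1) (nat_lit 0x11001100110010) (.cD (nat_lit 4) (.kc (nat_lit 20) (nat_lit 0x3001001)) (.cD (nat_lit 16) (.dfs (nat_lit 32) (nat_lit 4100) (nat_lit 4100) (nat_lit 0x1002001) (nat_lit 0x1002001) (nat_lit 0) (nat_lit 0) (nat_lit 3) (nat_lit 0) (nat_lit 0) (nat_lit 0) (nat_lit 1) (nat_lit 0) (nat_lit 1) (nat_lit 0) (nat_lit 1) (nat_lit 0x11001100110010) (.cD (nat_lit 4) (.kc (nat_lit 36) (nat_lit 0x5001001)) (.cD (nat_lit 16) (.kc (nat_lit 48) (nat_lit 0x3001001)) (.cD (nat_lit 20) (.kc (nat_lit 52) (nat_lit 0x7001001)) (.cD (nat_lit 32) (.dfs (nat_lit 9) (nat_lit 0x1004001003008) (nat_lit 0x1005001003008) (nat_lit 4098) (nat_lit 4098) (nat_lit 3) (nat_lit 0) (nat_lit 2) (nat_lit 1) (nat_lit 0) (nat_lit 8) (nat_lit 1) (nat_lit 0) (nat_lit 1) (nat_lit 0) (nat_lit 1) (nat_lit 0) .nil) (.cD (nat_lit 36) (.kA true (nat_lit 0x3100100000400100300d001031001000003)) (.cD (nat_lit 48) (.kA true (nat_lit 0x600800401000400400100300d001031001000003))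 (.cD (nat_lit 52) (.kA true (nat_lit 0x5004003008001008004002005007031001000003)) .nil)))))))) (.cD (nat_lit 20) (.dfs (nat_lit 32) (nat_lit 4100) (nat_lit 4100) (nat_lit 0x1002001) (nat_lit 0x1002001) (nat_lit 0) (nat_lit 0) (nat_lit 3) (nat_lit 0) (nat_lit 0) (nat_lit 0) (nat_lit 1) (nat_lit 0) (nat_lit 1) (nat_lit 0) (nat_lit 1) (nat_lit 0x11001100110010) (.cD (nat_lit 4) (.kc (nat_lit 36) (nat_lit 0x5001001)) (.cD (nat_lit 16) (.kc (nat_lit 52) (nat_lit 0x7001001)) (.cD (nat_lit 20) (.kc (nat_lit 48) (nat_lit 0x3001001)) (.cD (nat_lit 32) (.kA true (nat_lit 0x5004003008001008004002005007031001000003)) (.cD (nat_lit 36) (.dfs (nat_lit 9) (nat_lit 4102) (nat_lit 4103) (nat_lit 1) (nat_lit 1) (nat_lit 3) (nat_lit 0) (nat_lit 1) (nat_lit 4112) (nat_lit 0x40020010008004002031) (nat_lit 0) (nat_lit 1) (nat_lit 0) (nat_lit 1) (nat_lit 0) (nat_lit 1) (nat_lit 0) .nil) (.cD (nat_lit 48) (.kA true (nat_lit 0x400300500800100400100300c001002)) (.cD (nat_lit 52)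 (.kA true (nat_lit 0x400700100800100400100300c001002)) .nil)))))))) (.cD (nat_lit 32) (.kF (nat_lit 16) (nat_lit 0x100400100c012004002002000003)) (.cD (nat_lit 36) (.kF (nat_lit 16) (nat_lit 0x100400100c012004002002000003)) (.cD (nat_lit 48) (.dfs (nat_lit 32) (nat_lit 4100) (nat_lit 4100) (nat_lit 0x1002001) (nat_lit 0x1002001) (nat_lit 0) (nat_lit 0) (nat_lit 3) (nat_lit 0) (nat_lit 0) (nat_lit 0) (nat_lit 1) (nat_lit 0) (nat_lit 1) (nat_lit 0) (nat_lit 1) (nat_lit 0x11001100110010) (.cD (nat_lit 4) (.kc (nat_lit 36) (nat_lit 0x5001001)) (.cD (nat_lit 16) (.kA true (nat_lit 0x400200100800100400100300c001002)) (.cD (nat_lit 20) (.kA true (nat_lit 0x400600500800100400100300c001002)) (.cD (nat_lit 32) (.kA true (nat_lit 0x5004003008001008004002005007031001000003)) (.cD (nat_lit 36) (.kA true (nat_lit 0x400500600800100400100300c001002)) (.cD (nat_lit 48) (.kc (nat_lit 48) (nat_lit 0x3001001)) (.cD (nat_lit 52) (.kc (nat_lit 52) (nat_lit 0x7001001)) .nil))))))))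 (.cD (nat_lit 52) (.dfs (nat_lit 32) (nat_lit 4100) (nat_lit 4100) (nat_lit 0x1002001) (nat_lit 0x1002001) (nat_lit 0) (nat_lit 0) (nat_lit 3) (nat_lit 0) (nat_lit 0) (nat_lit 0) (nat_lit 1) (nat_lit 0) (nat_lit 1) (nat_lit 0) (nat_lit 1) (nat_lit 0x11001100110010) (.cD (nat_lit 4) (.kc (nat_lit 36) (nat_lit 0x5001001)) (.cD (nat_lit 16) (.kA true (nat_lit 0x400200500800100400100300c001002)) (.cD (nat_lit 20) (.kA true (nat_lit 0x400600100800100400100300c001002)) (.cD (nat_lit 32) (.kA true (nat_lit 0x5004003008001008004002005007031001000003)) (.cD (nat_lit 36) (.kA true (nat_lit 0x400500200800100400100300c001002)) (.cD (nat_lit 48) (.kc (nat_lit 52) (nat_lit 0x7001001)) (.cD (nat_lit 52) (.kc (nat_lit 48) (nat_lit 0x3001001)) .nil)))))))) .nil)))))))) (.cD (nat_lit 8) (.dfs (nat_lit 16) (nat_lit 4098) (nat_lit 4098) (nat_lit 4097) (nat_lit 4097) (nat_lit 0) (nat_lit 0) (nat_lit 3) (nat_lit 0) (nat_lit 0) (nat_lit 0) (nat_lit 1) (nat_lit 0) (nat_lit 1)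 (nat_lit 0) (nat_lit 1) (nat_lit 0x101010101010100) (.cD (nat_lit 8) (.kc (nat_lit 20) (nat_lit 0x3001001)) (.cD (nat_lit 16) (.dfs (nat_lit 32) (nat_lit 4100) (nat_lit 4100) (nat_lit 0x1002001) (nat_lit 0x1002001) (nat_lit 0) (nat_lit 0) (nat_lit 3) (nat_lit 0) (nat_lit 0) (nat_lit 0) (nat_lit 1) (nat_lit 0) (nat_lit 1) (nat_lit 0) (nat_lit 1) (nat_lit 0x101010101010100) (.cD (nat_lit 8) (.kc (nat_lit 36) (nat_lit 0x5001001)) (.cD (nat_lit 16) (.kc (nat_lit 48) (nat_lit 0x3001001)) (.cD (nat_lit 24) (.kc (nat_lit 52) (nat_lit 0x7001001)) (.cD (nat_lit 32) (.kA false (nat_lit 0x500400200c002002004008014005031001000003)) (.cD (nat_lit 40) (.kA false (nat_lit 0x3100100000400500200d002031001000003)) (.cD (nat_lit 48) (.kA false (nat_lit 0x600800c01000400400300200b002031001000003)) (.cD (nat_lit 56) (.kA false (nat_lit 0x300400200c002002004008014005031001000003)) .nil)))))))) (.cD (nat_lit 24) (.dfs (nat_lit 32) (nat_lit 4100) (nat_lit 4100) (nat_lit 0x1002001)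 (nat_lit 0x1002001) (nat_lit 0) (nat_lit 0) (nat_lit 3) (nat_lit 0) (nat_lit 0) (nat_lit 0) (nat_lit 1) (nat_lit 0) (nat_lit 1) (nat_lit 0) (nat_lit 1) (nat_lit 0x101010101010100) (.cD (nat_lit 8) (.kc (nat_lit 36) (nat_lit 0x5001001)) (.cD (nat_lit 16) (.kc (nat_lit 52) (nat_lit 0x7001001)) (.cD (nat_lit 24) (.kc (nat_lit 48) (nat_lit 0x3001001)) (.cD (nat_lit 32) (.kA false (nat_lit 0x500400600c002002004008014005031001000003)) (.cD (nat_lit 40) (.kA false (nat_lit 0x3100100000400500600d002031001000003)) (.cD (nat_lit 48) (.kA false (nat_lit 0x300400600c002002004008014005031001000003)) (.cD (nat_lit 56) (.kA false (nat_lit 0x600800a01000400400300600b002031001000003)) .nil)))))))) (.cD (nat_lit 32) (.kF (nat_lit 16) (nat_lit 0x100400100c012004002002000003)) (.cD (nat_lit 40) (.kF (nat_lit 16) (nat_lit 0x100400100c012004002002000003)) (.cD (nat_lit 48) (.dfs (nat_lit 32) (nat_lit 4100) (nat_lit 4100) (nat_lit 0x1002001) (nat_lit 0x1002001) (nat_lit 0)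 (nat_lit 0) (nat_lit 3) (nat_lit 0) (nat_lit 0) (nat_lit 0) (nat_lit 1) (nat_lit 0) (nat_lit 1) (nat_lit 0) (nat_lit 1) (nat_lit 0x101010101010100) (.cD (nat_lit 8) (.kc (nat_lit 36) (nat_lit 0x5001001)) (.cD (nat_lit 16) (.kA false (nat_lit 0x600800401000400400300100b002031001000003)) (.cD (nat_lit 24) (.kA false (nat_lit 0x300400500c002002004008014005031001000003)) (.cD (nat_lit 32) (.kA false (nat_lit 0x500400300c002002004008014005031001000003)) (.cD (nat_lit 40) (.kA false (nat_lit 0x3100100000400500700d002031001000003)) (.cD (nat_lit 48) (.kc (nat_lit 48) (nat_lit 0x3001001)) (.cD (nat_lit 56) (.kc (nat_lit 52) (nat_lit 0x7001001)) .nil)))))))) (.cD (nat_lit 56) (.dfs (nat_lit 32) (nat_lit 4100) (nat_lit 4100) (nat_lit 0x1002001) (nat_lit 0x1002001) (nat_lit 0) (nat_lit 0) (nat_lit 3) (nat_lit 0) (nat_lit 0) (nat_lit 0) (nat_lit 1) (nat_lit 0) (nat_lit 1) (nat_lit 0) (nat_lit 1) (nat_lit 0x101010101010100) (.cD (nat_lit 8) (.kc (nat_lit 36) (nat_lit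 0x5001001)) (.cD (nat_lit 16) (.kA false (nat_lit 0x300400100c002002004008014005031001000003)) (.cD (nat_lit 24) (.kA false (nat_lit 0x600800201000400400300500b002031001000003)) (.cD (nat_lit 32) (.kA false (nat_lit 0x500400700c002002004008014005031001000003)) (.cD (nat_lit 40) (.kA false (nat_lit 0x3100100000400500300d002031001000003)) (.cD (nat_lit 48) (.kc (nat_lit 52) (nat_lit 0x7001001)) (.cD (nat_lit 56) (.kc (nat_lit 48) (nat_lit 0x3001001)) .nil)))))))) .nil)))))))) (.cD (nat_lit 16) (.kF (nat_lit 4) (nat_lit 0x2002000001003001002)) (.cD (nat_lit 20) (.kF (nat_lit 4) (nat_lit 0xe01e003001003001002)) (.cD (nat_lit 24) (.kF (nat_lit 4) (nat_lit 0x1002001002012004002002000003)) (.cD (nat_lit 32) (.dfs (nat_lit 16) (nat_lit 4098) (nat_lit 4098) (nat_lit 4097) (nat_lit 4097) (nat_lit 0) (nat_lit 0) (nat_lit 3) (nat_lit 0) (nat_lit 0) (nat_lit 0) (nat_lit 1) (nat_lit 0) (nat_lit 0x1008004) (nat_lit 32772) (nat_lit 0x1001004000008001014000018) (nat_lit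 0x1000101110110) (.cD (nat_lit 4) (.kF (nat_lit 16) (nat_lit 0x31001000001006001002)) (.cD (nat_lit 8) (.kF (nat_lit 16) (nat_lit 0x31001000001006001002)) (.cD (nat_lit 16) (.dfs (nat_lit 32) (nat_lit 4100) (nat_lit 4100) (nat_lit 0x1002001) (nat_lit 0x1002001) (nat_lit 0) (nat_lit 0) (nat_lit 3) (nat_lit 0) (nat_lit 0) (nat_lit 0) (nat_lit 1) (nat_lit 0) (nat_lit 0x1008004) (nat_lit 32772) (nat_lit 0x1001004000008001014000018) (nat_lit 0x1000101110110) (.cD (nat_lit 4) (.kA true (nat_lit 0x100400600c002031001000002)) (.cD (nat_lit 8) (.kA false (nat_lit 0x100400200c002031001000002)) (.cD (nat_lit 16) (.kc (nat_lit 48) (nat_lit 0x3001001)) (.cD (nat_lit 20) (.kA true (nat_lit 0x300400600c002031001000002)) (.cD (nat_lit 24) (.kA false (nat_lit 0x300400200c002031001000002)) (.cD (nat_lit 32) (.kc (nat_lit 36) (nat_lit 0x5001001)) (.cD (nat_lit 48) (.kc (nat_lit 52) (nat_lit 0x7001001)) .nil)))))))) (.cD (nat_lit 20) (.dfs (nat_lit 32) (nat_lit 4100) (nat_lit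 4100) (nat_lit 0x1002001) (nat_lit 0x1002001) (nat_lit 0) (nat_lit 0) (nat_lit 3) (nat_lit 0) (nat_lit 0) (nat_lit 0) (nat_lit 1) (nat_lit 0) (nat_lit 1) (nat_lit 0) (nat_lit 1) (nat_lit 0x11001100110010) (.cD (nat_lit 4) (.kA true (nat_lit 0x100400700c002031001000002)) (.cD (nat_lit 16) (.kA true (nat_lit 0x300400500c002031001000002)) (.cD (nat_lit 20) (.kc (nat_lit 48) (nat_lit 0x3001001)) (.cD (nat_lit 32) (.kc (nat_lit 36) (nat_lit 0x5001001)) (.cD (nat_lit 36) (.dfs (nat_lit 9) (nat_lit 4100) (nat_lit 4101) (nat_lit 1) (nat_lit 1) (nat_lit 3) (nat_lit 0) (nat_lit 1) (nat_lit 4128) (nat_lit 0x40020010008004002031) (nat_lit 0) (nat_lit 1) (nat_lit 0) (nat_lit 1) (nat_lit 0) (nat_lit 1) (nat_lit 0) .nil) (.cD (nat_lit 48) (.kA true (nat_lit 0x700400100c002031001000002)) (.cD (nat_lit 52) (.kc (nat_lit 52) (nat_lit 0x7001001)) .nil)))))))) (.cD (nat_lit 24) (.dfs (nat_lit 32) (nat_lit 4100) (nat_lit 4100) (nat_lit 0x1002001) (nat_lit 0x1002001) (nat_lit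 0) (nat_lit 0) (nat_lit 3) (nat_lit 0) (nat_lit 0) (nat_lit 0) (nat_lit 1) (nat_lit 0) (nat_lit 1) (nat_lit 0) (nat_lit 1) (nat_lit 0x101010101010100) (.cD (nat_lit 8) (.kA false (nat_lit 0x100400300c002031001000002)) (.cD (nat_lit 16) (.kA false (nat_lit 0x300400100c002031001000002)) (.cD (nat_lit 24) (.kc (nat_lit 48) (nat_lit 0x3001001)) (.cD (nat_lit 32) (.kc (nat_lit 36) (nat_lit 0x5001001)) (.cD (nat_lit 40) (.kA false (nat_lit 0x500400700c002031001000002)) (.cD (nat_lit 48) (.kA false (nat_lit 0x700400500c002031001000002)) (.cD (nat_lit 56) (.kc (nat_lit 52) (nat_lit 0x7001001)) .nil)))))))) (.cD (nat_lit 32) (.kc (nat_lit 20) (nat_lit 0x3001001)) (.cD (nat_lit 48) (.dfs (nat_lit 32) (nat_lit 4100) (nat_lit 4100) (nat_lit 0x1002001) (nat_lit 0x1002001) (nat_lit 0) (nat_lit 0) (nat_lit 3) (nat_lit 0) (nat_lit 0) (nat_lit 0) (nat_lit 1) (nat_lit 0) (nat_lit 0x1008004) (nat_lit 32772) (nat_lit 0x1001004000008001014000018) (nat_lit 0x1000101110110)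 (.cD (nat_lit 4) (.kA true (nat_lit 0x100400200c002031001000002)) (.cD (nat_lit 8) (.kA false (nat_lit 0x100400600c002031001000002)) (.cD (nat_lit 16) (.kc (nat_lit 52) (nat_lit 0x7001001)) (.cD (nat_lit 20) (.kA true (nat_lit 0x700400200c002031001000002)) (.cD (nat_lit 24) (.kA false (nat_lit 0x700400600c002031001000002)) (.cD (nat_lit 32) (.kc (nat_lit 36) (nat_lit 0x5001001)) (.cD (nat_lit 48) (.kc (nat_lit 48) (nat_lit 0x3001001)) .nil)))))))) .nil)))))))) (.cD (nat_lit 48) (.kF (nat_lit 4) (nat_lit 0x1002001002012004002002000003)) .nil))))))))))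
theorem c724 : (chk [] [] p724).n x366 s724 = true := by decide +kernel
noncomputable def p725 : Pf := (.lft (nat_lit 0x20008018001004002003001) (nat_lit 0) (nat_lit 0x1028020) (nat_lit 0x20010008004002001) (.extn a6 (nat_lit 0x20010008004002001) (nat_lit 0x1004010008020) (nat_lit 2) (nat_lit 0) (nat_lit 0) (nat_lit 0) (nat_lit 0x1010101) (.cE (nat_lit 0) b7 t7 (.cut (nat_lit 0)) (.cut (nat_lit 1)) (.cE (nat_lit 8) b46 (nat_lit 0) (.cut (nat_lit 2)) (.cut (nat_lit 3)) (.cE (nat_lit 16) b47 (nat_lit 0) (.cut (nat_lit 4)) (.cut (nat_lit 5)) (.cE (nat_lit 24) b48 (nat_lit 0) (.cut (nat_lit 6)) (.cut (nat_lit 7)) .nil))))))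
theorem c725 : (chk [(x301, s718), (x360, s719), (x361, s720), (x362, s721), (x363, s713), (x364, s722), (x365, s723), (x366, s724)] [] p725).n x207 s725 = true := by decide +kernel
noncomputable def p726 : Pf := (.ext (nat_lit 1) (nat_lit 0) (nat_lit 0x1020018010002) (nat_lit 0x700200c008005001001000001002004008005003) (nat_lit 0x300200400f) (nat_lit 4101) (nat_lit 4101) (nat_lit 0xe004002001) (.dfs (nat_lit 5) (nat_lit 0x100300200400f) (nat_lit 0x1003002004009) (nat_lit 0x1008001) (nat_lit 0x100e001) (nat_lit 0) (nat_lit 0) (nat_lit 2) (nat_lit 1) (nat_lit 0) (nat_lit 5) (nat_lit 1) (nat_lit 0) (nat_lit 4128) (nat_lit 32) (nat_lit 0x1000005000007000015000017) (nat_lit 0xa000a0) (.cD (nat_lit 5) (.cut (nat_lit 1)) (.cD (nat_lit 7) (.kS (nat_lit 1) (nat_lit 0x4008010020003001) (nat_lit 4101) (nat_lit 0x8004002007) (nat_lit 0x600400801a007001002004008010001001004008010020003004003)) (.cD (nat_lit 21) (.cut (nat_lit 0)) (.cD (nat_lit 23) (.kS (nat_lit 1)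 (nat_lit 0x4008010020003001) (nat_lit 4101) (nat_lit 0x8004002007) (nat_lit 0x600400801a003001002004008010001001004008010020003004003)) .nil))))))
theorem c726 : (chk [(x207, s717), (x207, s725)] [] p726).n x207 s726 = true := by decide +kernel
noncomputable def p727 : Pf := (.ext (nat_lit 1) (nat_lit 0) (nat_lit 0x1020018010002) (nat_lit 0x12006002001001001) (nat_lit 0x100200400a) (nat_lit 0x1004001) (nat_lit 0x1004001) (nat_lit 0x800400200300e004002003) (.dfs (nat_lit 1) (nat_lit 0x100100200400a) (nat_lit 0x100300200400c) (nat_lit 4104) (nat_lit 4110) (nat_lit 0) (nat_lit 0) (nat_lit 2) (nat_lit 1) (nat_lit 0) (nat_lit 1) (nat_lit 1) (nat_lit 0) (nat_lit 0x1038002) (nat_lit 0x38002) (nat_lit 0x1000001001001001011) (nat_lit 2) (.cD (nat_lit 1) (.dfs (nat_lit 4) (nat_lit 0x1002004008014) (nat_lit 0x1006004008014) (nat_lit 0x1010001) (nat_lit 0x1010001) (nat_lit 0) (nat_lit 0) (nat_lit 2) (nat_lit 1) (nat_lit 0) (nat_lit 4) (nat_lit 1) (nat_lit 0) (nat_lit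 1) (nat_lit 0) (nat_lit 1) (nat_lit 0x10101010) (.cD (nat_lit 4) (.cut (nat_lit 1)) (.cD (nat_lit 12) (.kA false (nat_lit 0xc002004010003001008018020001002)) (.cD (nat_lit 20) (.cut (nat_lit 0)) (.cD (nat_lit 28) (.kA false (nat_lit 0xe002004010003001008018020001002)) .nil))))) .nil)))
theorem c727 : (chk [(x207, s594), (x207, s726)] [] p727).n x207 s727 = true := by decide +kernel
noncomputable def p728 : Pf := (.anc (nat_lit 48) (nat_lit 0x1001000007004001001000005003004) (nat_lit 0x1002010008004) (.dfs (nat_lit 4) (nat_lit 1) (nat_lit 1) (nat_lit 4097) (nat_lit 4097) (nat_lit 0) (nat_lit 0) (nat_lit 0) (nat_lit 0) (nat_lit 0) (nat_lit 0) (nat_lit 1) (nat_lit 0) (nat_lit 0x1004002) (nat_lit 16386) (nat_lit 0x100100200000400100a00000c) (nat_lit 0x1011514) (.cD (nat_lit 2) (.czs (nat_lit 34) z1 (nat_lit 16) (.dfs (nat_lit 8) (nat_lit 4099) (nat_lit 4099) (nat_lit 0x1002001) (nat_lit 0x1002001) (nat_lit 0) (nat_lit 0) (nat_lit 3) (nat_lit 0) (nat_lit 0)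 (nat_lit 0) (nat_lit 1) (nat_lit 0) (nat_lit 1) (nat_lit 0) (nat_lit 1) (nat_lit 0x5050504) (.cD (nat_lit 2) (.kc (nat_lit 12) (nat_lit 0x3001001)) (.cD (nat_lit 8) (.dfs (nat_lit 16) (nat_lit 4102) (nat_lit 4102) (nat_lit 0x1004002001) (nat_lit 0x1004002001) (nat_lit 0) (nat_lit 0) (nat_lit 3) (nat_lit 0) (nat_lit 0) (nat_lit 0) (nat_lit 1) (nat_lit 0) (nat_lit 1) (nat_lit 0) (nat_lit 1) (nat_lit 0x5050504) (.cD (nat_lit 2) (.kc (nat_lit 20) (nat_lit 0x5001001)) (.cD (nat_lit 8) (.kc (nat_lit 24) (nat_lit 0x3001001)) (.cD (nat_lit 10) (.kc (nat_lit 28) (nat_lit 0x7001001)) (.cD (nat_lit 16) (.kA false (nat_lit 0x400500600900200100100000800400600300500400100200b001001001000005)) (.cD (nat_lit 18) (.kA false (nat_lit 0x100100000400800e00700600400100200b001001001000004)) (.cD (nat_lit 24) (.kA false (nat_lit 0x7001002009002004004000004001002009001003)) (.cD (nat_lit 26) (.kA false (nat_lit 0x100100000400600e007006004001002009001003)) .nil)))))))) (.cD (nat_lit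 10) (.dfs (nat_lit 16) (nat_lit 4102) (nat_lit 4102) (nat_lit 0x1004002001) (nat_lit 0x1004002001) (nat_lit 0) (nat_lit 0) (nat_lit 3) (nat_lit 0) (nat_lit 0) (nat_lit 0) (nat_lit 1) (nat_lit 0) (nat_lit 1) (nat_lit 0) (nat_lit 1) (nat_lit 0x5050504) (.cD (nat_lit 2) (.kc (nat_lit 20) (nat_lit 0x5001001)) (.cD (nat_lit 8) (.kc (nat_lit 28) (nat_lit 0x7001001)) (.cD (nat_lit 10) (.kc (nat_lit 24) (nat_lit 0x3001001)) (.cD (nat_lit 16) (.kA false (nat_lit 0x5001003009002004004000004001002009001003)) (.cD (nat_lit 18) (.kA false (nat_lit 0x100100000c00800a00f005001001000004001002009001004)) (.cD (nat_lit 24) (.kA false (nat_lit 0x3001005009002004004000004001002009001003)) (.cD (nat_lit 26) (.kA false (nat_lit 0x100100000400600a007006004001002009001003)) .nil)))))))) (.cD (nat_lit 16) (.dfs (nat_lit 16) (nat_lit 4102) (nat_lit 4102) (nat_lit 0x1004002001) (nat_lit 0x1004002001) (nat_lit 0) (nat_lit 0) (nat_lit 3) (nat_lit 0) (nat_lit 0) (nat_lit 0) (nat_lit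 1) (nat_lit 0) (nat_lit 1) (nat_lit 0) (nat_lit 1) (nat_lit 0x5050504) (.cD (nat_lit 2) (.kc (nat_lit 20) (nat_lit 0x5001001)) (.cD (nat_lit 8) (.kA false (nat_lit 0x1001000004001002009001002)) (.cD (nat_lit 10) (.kA false (nat_lit 0x100100000800e00400f005004001002009001003)) (.cD (nat_lit 16) (.kc (nat_lit 24) (nat_lit 0x3001001)) (.cD (nat_lit 18) (.kc (nat_lit 28) (nat_lit 0x7001001)) (.cD (nat_lit 24) (.kA false (nat_lit 0x100100000400100200b001001001000003)) (.cD (nat_lit 26) (.kA false (nat_lit 0x100100000400600c007006004001002009001003)) .nil)))))))) (.cD (nat_lit 18) (.dfs (nat_lit 16) (nat_lit 4102) (nat_lit 4102) (nat_lit 0x1004002001) (nat_lit 0x1004002001) (nat_lit 0) (nat_lit 0) (nat_lit 3) (nat_lit 0) (nat_lit 0) (nat_lit 0) (nat_lit 1) (nat_lit 0) (nat_lit 1) (nat_lit 0) (nat_lit 1) (nat_lit 0x5050504) (.cD (nat_lit 2) (.kc (nat_lit 20) (nat_lit 0x5001001)) (.cD (nat_lit 8) (.kA false (nat_lit 0x1001000004001002009001002)) (.cD (nat_lit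 10) (.kA false (nat_lit 0x100100000800e00c00f005004001002009001003)) (.cD (nat_lit 16) (.kc (nat_lit 28) (nat_lit 0x7001001)) (.cD (nat_lit 18) (.kc (nat_lit 24) (nat_lit 0x3001001)) (.cD (nat_lit 24) (.kA false (nat_lit 0x2001004009002004004000004001002009001003)) (.cD (nat_lit 26) (.kA false (nat_lit 0x100100000400100200b001001001000003)) .nil)))))))) (.cD (nat_lit 24) (.dfs (nat_lit 16) (nat_lit 4102) (nat_lit 4102) (nat_lit 0x1004002001) (nat_lit 0x1004002001) (nat_lit 0) (nat_lit 0) (nat_lit 3) (nat_lit 0) (nat_lit 0) (nat_lit 0) (nat_lit 1) (nat_lit 0) (nat_lit 1) (nat_lit 0) (nat_lit 1) (nat_lit 0x5050504) (.cD (nat_lit 2) (.kc (nat_lit 20) (nat_lit 0x5001001)) (.cD (nat_lit 8) (.kA false (nat_lit 0x1001000004001002009001002)) (.cD (nat_lit 10) (.kA false (nat_lit 0x100100000800e00200f005004001002009001003)) (.cD (nat_lit 16) (.kA false (nat_lit 0x100100000400100200b001001001000003)) (.cD (nat_lit 18) (.kA false (nat_lit 0x100100000800c00200f00500400100200b001001001000004))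 (.cD (nat_lit 24) (.kc (nat_lit 24) (nat_lit 0x3001001)) (.cD (nat_lit 26) (.kc (nat_lit 28) (nat_lit 0x7001001)) .nil)))))))) (.cD (nat_lit 26) (.dfs (nat_lit 16) (nat_lit 4102) (nat_lit 4102) (nat_lit 0x1004002001) (nat_lit 0x1004002001) (nat_lit 0) (nat_lit 0) (nat_lit 3) (nat_lit 0) (nat_lit 0) (nat_lit 0) (nat_lit 1) (nat_lit 0) (nat_lit 1) (nat_lit 0) (nat_lit 1) (nat_lit 0x5050504) (.cD (nat_lit 2) (.kc (nat_lit 20) (nat_lit 0x5001001)) (.cD (nat_lit 8) (.kA false (nat_lit 0x1001000004001002009001002)) (.cD (nat_lit 10) (.kA false (nat_lit 0x100100000800e00a00f005004001002009001003)) (.cD (nat_lit 16) (.kA false (nat_lit 0x5001003009002004004000004001002009001003)) (.cD (nat_lit 18) (.kA false (nat_lit 0x100100000400100200b001001001000003)) (.cD (nat_lit 24) (.kc (nat_lit 28) (nat_lit 0x7001001)) (.cD (nat_lit 26) (.kc (nat_lit 24) (nat_lit 0x3001001)) .nil)))))))) .nil))))))))) (.cD (nat_lit 4) (.czs (nat_lit 36) z0 (nat_lit 16) (.dfs (nat_lit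 8) (nat_lit 4099) (nat_lit 4099) (nat_lit 0x1002001) (nat_lit 0x1002001) (nat_lit 0) (nat_lit 0) (nat_lit 3) (nat_lit 0) (nat_lit 0) (nat_lit 0) (nat_lit 1) (nat_lit 0) (nat_lit 1) (nat_lit 0) (nat_lit 1) (nat_lit 0x11111110) (.cD (nat_lit 4) (.kc (nat_lit 12) (nat_lit 0x3001001)) (.cD (nat_lit 8) (.dfs (nat_lit 16) (nat_lit 4102) (nat_lit 4102) (nat_lit 0x1004002001) (nat_lit 0x1004002001) (nat_lit 0) (nat_lit 0) (nat_lit 3) (nat_lit 0) (nat_lit 0) (nat_lit 0) (nat_lit 1) (nat_lit 0) (nat_lit 1) (nat_lit 0) (nat_lit 1) (nat_lit 0x11111110) (.cD (nat_lit 4) (.kc (nat_lit 20) (nat_lit 0x5001001)) (.cD (nat_lit 8) (.kc (nat_lit 24) (nat_lit 0x3001001)) (.cD (nat_lit 12) (.kc (nat_lit 28) (nat_lit 0x7001001)) (.cD (nat_lit 16) (.dfs (nat_lit 2) (nat_lit 0x1004001002008) (nat_lit 0x1005001002008) (nat_lit 1) (nat_lit 1) (nat_lit 0) (nat_lit 0) (nat_lit 2) (nat_lit 0) (nat_lit 0) (nat_lit 2) (nat_lit 1) (nat_lit 0) (nat_lit 4100) (nat_lit 4) (nat_lit 0x100000200000a)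 (nat_lit 1028) (.cD (nat_lit 2) (.cut (nat_lit 1)) (.cD (nat_lit 10) (.kA true (nat_lit 0x700300601000100100100000a004002003005003002006016001001001000005)) .nil))) (.cD (nat_lit 20) (.dfs (nat_lit 2) (nat_lit 4101) (nat_lit 4100) (nat_lit 1) (nat_lit 1) (nat_lit 0) (nat_lit 0) (nat_lit 1) (nat_lit 4112) (nat_lit 0x20010008004002001) (nat_lit 0) (nat_lit 1) (nat_lit 0) (nat_lit 1) (nat_lit 0) (nat_lit 1) (nat_lit 0) .nil) (.cD (nat_lit 24) (.kA false (nat_lit 0x7001002009002002002000004001002009001003)) (.cD (nat_lit 28) (.kA false (nat_lit 0x5006002008001002002000004007002008002003)) .nil)))))))) (.cD (nat_lit 12) (.dfs (nat_lit 16) (nat_lit 4102) (nat_lit 4102) (nat_lit 0x1004002001) (nat_lit 0x1004002001) (nat_lit 0) (nat_lit 0) (nat_lit 3) (nat_lit 0) (nat_lit 0) (nat_lit 0) (nat_lit 1) (nat_lit 0) (nat_lit 1) (nat_lit 0) (nat_lit 1) (nat_lit 0x11111110) (.cD (nat_lit 4) (.kc (nat_lit 20) (nat_lit 0x5001001)) (.cD (nat_lit 8) (.kc (nat_lit 28) (nat_lit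 0x7001001)) (.cD (nat_lit 12) (.kc (nat_lit 24) (nat_lit 0x3001001)) (.cD (nat_lit 16) (.kA false (nat_lit 0x5001007008001002002000004001002009001003)) (.cD (nat_lit 20) (.kA false (nat_lit 0x500100700800100200600a016003004001002009001003)) (.cD (nat_lit 24) (.kA false (nat_lit 0x3001005009002002002000004001002009001003)) (.cD (nat_lit 28) (.kA false (nat_lit 0x5003007008001002002000004003006008002003)) .nil)))))))) (.cD (nat_lit 16) (.dfs (nat_lit 16) (nat_lit 4102) (nat_lit 4102) (nat_lit 0x1004002001) (nat_lit 0x1004002001) (nat_lit 0) (nat_lit 0) (nat_lit 3) (nat_lit 0) (nat_lit 0) (nat_lit 0) (nat_lit 1) (nat_lit 0) (nat_lit 1) (nat_lit 0) (nat_lit 1) (nat_lit 0x11111110) (.cD (nat_lit 4) (.kc (nat_lit 20) (nat_lit 0x5001001)) (.cD (nat_lit 8) (.kA false (nat_lit 0x4002001009002001001000002)) (.cD (nat_lit 12) (.kA false (nat_lit 0x5002004008001002002000004002005008002003)) (.cD (nat_lit 16) (.kc (nat_lit 24) (nat_lit 0x3001001)) (.cD (nat_lit 20)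 (.kc (nat_lit 28) (nat_lit 0x7001001)) (.cD (nat_lit 24) (.kA false (nat_lit 0x100100000400100200b001001001000003)) (.cD (nat_lit 28) (.kA false (nat_lit 0x5002006008001002002000004002007008002003)) .nil)))))))) (.cD (nat_lit 20) (.dfs (nat_lit 16) (nat_lit 4102) (nat_lit 4102) (nat_lit 0x1004002001) (nat_lit 0x1004002001) (nat_lit 0) (nat_lit 0) (nat_lit 3) (nat_lit 0) (nat_lit 0) (nat_lit 0) (nat_lit 1) (nat_lit 0) (nat_lit 1) (nat_lit 0) (nat_lit 1) (nat_lit 0x11111110) (.cD (nat_lit 4) (.kc (nat_lit 20) (nat_lit 0x5001001)) (.cD (nat_lit 8) (.kA false (nat_lit 0x4006001009002001001000002)) (.cD (nat_lit 12) (.kA false (nat_lit 0x5007004008001002002000004006005008002003)) (.cD (nat_lit 16) (.kc (nat_lit 28) (nat_lit 0x7001001)) (.cD (nat_lit 20) (.kc (nat_lit 24) (nat_lit 0x3001001)) (.cD (nat_lit 24) (.kA false (nat_lit 0x4003005008001001001000004001002009001003)) (.cD (nat_lit 28) (.kA false (nat_lit 0x100100000400100200b001001001000003)) .nil))))))))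 (.cD (nat_lit 24) (.dfs (nat_lit 16) (nat_lit 4102) (nat_lit 4102) (nat_lit 0x1004002001) (nat_lit 0x1004002001) (nat_lit 0) (nat_lit 0) (nat_lit 3) (nat_lit 0) (nat_lit 0) (nat_lit 0) (nat_lit 1) (nat_lit 0) (nat_lit 1) (nat_lit 0) (nat_lit 1) (nat_lit 0x11111110) (.cD (nat_lit 4) (.kc (nat_lit 20) (nat_lit 0x5001001)) (.cD (nat_lit 8) (.kA false (nat_lit 0x4003001009002001001000002)) (.cD (nat_lit 12) (.kA false (nat_lit 0x5006004008001002002000004007005008002003)) (.cD (nat_lit 16) (.kA false (nat_lit 0x100100000400100200b001001001000003)) (.cD (nat_lit 20) (.kA false (nat_lit 0x500100600800100200600c016003004001002009001003)) (.cD (nat_lit 24) (.kc (nat_lit 24) (nat_lit 0x3001001)) (.cD (nat_lit 28) (.kc (nat_lit 28) (nat_lit 0x7001001)) .nil)))))))) (.cD (nat_lit 28) (.dfs (nat_lit 16) (nat_lit 4102) (nat_lit 4102) (nat_lit 0x1004002001) (nat_lit 0x1004002001) (nat_lit 0) (nat_lit 0) (nat_lit 3) (nat_lit 0) (nat_lit 0) (nat_lit 0) (nat_lit 1) (nat_lit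 0) (nat_lit 1) (nat_lit 0) (nat_lit 1) (nat_lit 0x11111110) (.cD (nat_lit 4) (.kc (nat_lit 20) (nat_lit 0x5001001)) (.cD (nat_lit 8) (.kA false (nat_lit 0x4007001009002001001000002)) (.cD (nat_lit 12) (.kA false (nat_lit 0x400600700800100400100200b001001001000003)) (.cD (nat_lit 16) (.kA false (nat_lit 0x5001006008001002002000004001002009001003)) (.cD (nat_lit 20) (.kA false (nat_lit 0x100100000400100200b001001001000003)) (.cD (nat_lit 24) (.kc (nat_lit 28) (nat_lit 0x7001001)) (.cD (nat_lit 28) (.kc (nat_lit 24) (nat_lit 0x3001001)) .nil)))))))) .nil))))))))) (.cD (nat_lit 8) (.dfs (nat_lit 8) (nat_lit 1) (nat_lit 1) (nat_lit 0x1002001) (nat_lit 0x1002001) (nat_lit 0) (nat_lit 0) (nat_lit 0) (nat_lit 0) (nat_lit 0) (nat_lit 0) (nat_lit 1) (nat_lit 0) (nat_lit 0x1004002) (nat_lit 16386) (nat_lit 0x100100200000400100a00000c) (nat_lit 0x1011514) (.cD (nat_lit 2) (.czs (nat_lit 34) z1 (nat_lit 16) (.dfs (nat_lit 16) (nat_lit 4101) (nat_lit 4101) (nat_lit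 0x1004002001) (nat_lit 0x1004002001) (nat_lit 0) (nat_lit 0) (nat_lit 3) (nat_lit 0) (nat_lit 0) (nat_lit 0) (nat_lit 1) (nat_lit 0) (nat_lit 1) (nat_lit 0) (nat_lit 1) (nat_lit 0x5050504) (.cD (nat_lit 2) (.kc (nat_lit 24) (nat_lit 0x3001001)) (.cD (nat_lit 8) (.kc (nat_lit 20) (nat_lit 0x5001001)) (.cD (nat_lit 10) (.kc (nat_lit 28) (nat_lit 0x7001001)) (.cD (nat_lit 16) (.kA false (nat_lit 0x4001003009002004004000004001002009001003)) (.cD (nat_lit 18) (.kA false (nat_lit 0x600200300900200e00800400d00600400100200b001001001000004)) (.cD (nat_lit 24) (.kA false (nat_lit 0x4001007009002004004000004001002009001003)) (.cD (nat_lit 26) (.kA false (nat_lit 0x100100000e006004007006004001002009001003)) .nil))))))))) (.cD (nat_lit 4) (.czs (nat_lit 36) z0 (nat_lit 16) (.dfs (nat_lit 16) (nat_lit 4101) (nat_lit 4101) (nat_lit 0x1004002001) (nat_lit 0x1004002001) (nat_lit 0) (nat_lit 0) (nat_lit 3) (nat_lit 0) (nat_lit 0) (nat_lit 0) (nat_lit 1) (nat_lit 0) (nat_lit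 1) (nat_lit 0) (nat_lit 1) (nat_lit 0x11111110) (.cD (nat_lit 4) (.kc (nat_lit 24) (nat_lit 0x3001001)) (.cD (nat_lit 8) (.kc (nat_lit 20) (nat_lit 0x5001001)) (.cD (nat_lit 12) (.kc (nat_lit 28) (nat_lit 0x7001001)) (.cD (nat_lit 16) (.kA false (nat_lit 0x2001005008001002002000004001002009001003)) (.cD (nat_lit 20) (.kA false (nat_lit 0x200500400800100400100200b001001001000003)) (.cD (nat_lit 24) (.kA false (nat_lit 0x2003004008001001001000004001002009001003)) (.cD (nat_lit 28) (.kA false (nat_lit 0x2006005008001002002000002007004008002003)) .nil))))))))) (.cD (nat_lit 8) (.kc (nat_lit 12) (nat_lit 0x3001001)) (.cD (nat_lit 10) (.czs (nat_lit 42) z1 (nat_lit 16) (.dfs (nat_lit 16) (nat_lit 4101) (nat_lit 4101) (nat_lit 0x1004002001) (nat_lit 0x1004002001) (nat_lit 0) (nat_lit 0) (nat_lit 3) (nat_lit 0) (nat_lit 0) (nat_lit 0) (nat_lit 1) (nat_lit 0) (nat_lit 1) (nat_lit 0) (nat_lit 1) (nat_lit 0x5050504) (.cD (nat_lit 2) (.kc (nat_lit 28) (nat_lit 0x7001001))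 (.cD (nat_lit 8) (.kc (nat_lit 20) (nat_lit 0x5001001)) (.cD (nat_lit 10) (.kc (nat_lit 24) (nat_lit 0x3001001)) (.cD (nat_lit 16) (.kA false (nat_lit 0x4001003009002004004000004001002009001003)) (.cD (nat_lit 18) (.kA false (nat_lit 0x100100000600800a00f005001001000004001002009001004)) (.cD (nat_lit 24) (.kA false (nat_lit 0x4001007009002004004000004001002009001003)) (.cD (nat_lit 26) (.kA false (nat_lit 0x100100000e00600a007006004001002009001003)) .nil))))))))) (.cD (nat_lit 12) (.czs (nat_lit 44) z0 (nat_lit 16) (.dfs (nat_lit 16) (nat_lit 4101) (nat_lit 4101) (nat_lit 0x1004002001) (nat_lit 0x1004002001) (nat_lit 0) (nat_lit 0) (nat_lit 3) (nat_lit 0) (nat_lit 0) (nat_lit 0) (nat_lit 1) (nat_lit 0) (nat_lit 1) (nat_lit 0) (nat_lit 1) (nat_lit 0x11111110) (.cD (nat_lit 4) (.kc (nat_lit 28) (nat_lit 0x7001001)) (.cD (nat_lit 8) (.kc (nat_lit 20) (nat_lit 0x5001001)) (.cD (nat_lit 12) (.kc (nat_lit 24) (nat_lit 0x3001001)) (.cD (nat_lit 16) (.kA false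 (nat_lit 0x2001006008001004001002009001002)) (.cD (nat_lit 20) (.kA false (nat_lit 0x200500600900200600700400c002001001000003)) (.cD (nat_lit 24) (.kA false (nat_lit 0x2003006008001001001000004001002009001003)) (.cD (nat_lit 28) (.kA false (nat_lit 0x200700600800100400100200b001001001000003)) .nil))))))))) (.cD (nat_lit 16) (.dfs (nat_lit 16) (nat_lit 1) (nat_lit 1) (nat_lit 0x1004002001) (nat_lit 0x1004002001) (nat_lit 0) (nat_lit 0) (nat_lit 0) (nat_lit 0) (nat_lit 0) (nat_lit 0) (nat_lit 1) (nat_lit 0) (nat_lit 0x1004002) (nat_lit 16386) (nat_lit 0x100100200000400100a00000c) (nat_lit 0x1011514) (.cD (nat_lit 2) (.kA false (nat_lit 0x400300200900200400400000400100200b001001001000004)) (.cD (nat_lit 4) (.kA false (nat_lit 0x2001005008001008004006014004004001002009001003)) (.cD (nat_lit 8) (.kc (nat_lit 20) (nat_lit 0x5001001)) (.cD (nat_lit 10) (.kA false (nat_lit 0x100100000600e00400f005004001002009001003)) (.cD (nat_lit 12) (.kA false (nat_lit 0x4002005008001002002000005002004008002003))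 (.cD (nat_lit 16) (.kc (nat_lit 24) (nat_lit 0x3001001)) (.cD (nat_lit 24) (.kc (nat_lit 28) (nat_lit 0x7001001)) .nil)))))))) (.cD (nat_lit 24) (.dfs (nat_lit 16) (nat_lit 1) (nat_lit 1) (nat_lit 0x1004002001) (nat_lit 0x1004002001) (nat_lit 0) (nat_lit 0) (nat_lit 0) (nat_lit 0) (nat_lit 0) (nat_lit 0) (nat_lit 1) (nat_lit 0) (nat_lit 0x1004002) (nat_lit 16386) (nat_lit 0x100100200000400100a00000c) (nat_lit 0x1011514) (.cD (nat_lit 2) (.kA false (nat_lit 0x400700200900200100100000400100200b001001001000004)) (.cD (nat_lit 4) (.kA false (nat_lit 0x200100700800100800400e014004004001002009001003)) (.cD (nat_lit 8) (.kc (nat_lit 20) (nat_lit 0x5001001)) (.cD (nat_lit 10) (.kA false (nat_lit 0x100100000600e00200f005004001002009001003)) (.cD (nat_lit 12) (.kA false (nat_lit 0x4007005008001002002000005006004008002003)) (.cD (nat_lit 16) (.kc (nat_lit 28) (nat_lit 0x7001001)) (.cD (nat_lit 24) (.kc (nat_lit 24) (nat_lit 0x3001001)) .nil)))))))) .nil))))))))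 (.cD (nat_lit 10) (.czs (nat_lit 42) z1 (nat_lit 16) (.dfs (nat_lit 8) (nat_lit 4099) (nat_lit 4099) (nat_lit 0x1002001) (nat_lit 0x1002001) (nat_lit 0) (nat_lit 0) (nat_lit 3) (nat_lit 0) (nat_lit 0) (nat_lit 0) (nat_lit 1) (nat_lit 0) (nat_lit 1) (nat_lit 0) (nat_lit 1) (nat_lit 0x5050504) (.cD (nat_lit 2) (.dfs (nat_lit 16) (nat_lit 4102) (nat_lit 4102) (nat_lit 0x1004002001) (nat_lit 0x1004002001) (nat_lit 0) (nat_lit 0) (nat_lit 3) (nat_lit 0) (nat_lit 0) (nat_lit 0) (nat_lit 1) (nat_lit 0) (nat_lit 1) (nat_lit 0) (nat_lit 1) (nat_lit 0x5050504) (.cD (nat_lit 2) (.kc (nat_lit 24) (nat_lit 0x3001001)) (.cD (nat_lit 8) (.kc (nat_lit 28) (nat_lit 0x7001001)) (.cD (nat_lit 10) (.kc (nat_lit 20) (nat_lit 0x5001001)) (.cD (nat_lit 16) (.kA false (nat_lit 0x5001003009002004004000004001002009001003)) (.cD (nat_lit 18) (.kA false (nat_lit 0x700200300900200a00800400d00600400100200b001001001000004)) (.cD (nat_lit 24) (.kA false (nat_lit 0x3001005009002004004000004001002009001003))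 (.cD (nat_lit 26) (.kA false (nat_lit 0x100100000a006004007006004001002009001003)) .nil)))))))) (.cD (nat_lit 8) (.dfs (nat_lit 16) (nat_lit 4102) (nat_lit 4102) (nat_lit 0x1004002001) (nat_lit 0x1004002001) (nat_lit 0) (nat_lit 0) (nat_lit 3) (nat_lit 0) (nat_lit 0) (nat_lit 0) (nat_lit 1) (nat_lit 0) (nat_lit 1) (nat_lit 0) (nat_lit 1) (nat_lit 0x5050504) (.cD (nat_lit 2) (.kc (nat_lit 28) (nat_lit 0x7001001)) (.cD (nat_lit 8) (.kc (nat_lit 24) (nat_lit 0x3001001)) (.cD (nat_lit 10) (.kc (nat_lit 20) (nat_lit 0x5001001)) (.cD (nat_lit 16) (.kA false (nat_lit 0x200700400900200100100000e00400600300500400100200b001001001000005)) (.cD (nat_lit 18) (.kA false (nat_lit 0x100100000a00800e00700600400100200b001001001000004)) (.cD (nat_lit 24) (.kA false (nat_lit 0x7001002009002004004000004001002009001003)) (.cD (nat_lit 26) (.kA false (nat_lit 0x100100000a00600e007006004001002009001003)) .nil)))))))) (.cD (nat_lit 10) (.kc (nat_lit 12) (nat_lit 0x3001001)) (.cD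 (nat_lit 16) (.dfs (nat_lit 16) (nat_lit 4102) (nat_lit 4102) (nat_lit 0x1004002001) (nat_lit 0x1004002001) (nat_lit 0) (nat_lit 0) (nat_lit 3) (nat_lit 0) (nat_lit 0) (nat_lit 0) (nat_lit 1) (nat_lit 0) (nat_lit 1) (nat_lit 0) (nat_lit 1) (nat_lit 0x5050504) (.cD (nat_lit 2) (.kA false (nat_lit 0x600300200900200400400000400100200b001001001000004)) (.cD (nat_lit 8) (.kA false (nat_lit 0x1001000004001002009001002)) (.cD (nat_lit 10) (.kc (nat_lit 20) (nat_lit 0x5001001)) (.cD (nat_lit 16) (.kc (nat_lit 24) (nat_lit 0x3001001)) (.cD (nat_lit 18) (.kA false (nat_lit 0x600300200900200400400000400100200b001001001000004)) (.cD (nat_lit 24) (.kA false (nat_lit 0x100100000400100200b001001001000003)) (.cD (nat_lit 26) (.kc (nat_lit 28) (nat_lit 0x7001001)) .nil)))))))) (.cD (nat_lit 18) (.dfs (nat_lit 16) (nat_lit 4102) (nat_lit 4102) (nat_lit 0x1004002001) (nat_lit 0x1004002001) (nat_lit 0) (nat_lit 0) (nat_lit 3) (nat_lit 0) (nat_lit 0) (nat_lit 0) (nat_lit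 1) (nat_lit 0) (nat_lit 1) (nat_lit 0) (nat_lit 1) (nat_lit 0x5050504) (.cD (nat_lit 2) (.kA false (nat_lit 0x500200300900200e00800c00500500400100200b001001001000004)) (.cD (nat_lit 8) (.kA false (nat_lit 0x1001000004001002009001002)) (.cD (nat_lit 10) (.kc (nat_lit 20) (nat_lit 0x5001001)) (.cD (nat_lit 16) (.kA false (nat_lit 0x5001003009002004004000004001002009001003)) (.cD (nat_lit 18) (.kc (nat_lit 24) (nat_lit 0x3001001)) (.cD (nat_lit 24) (.kc (nat_lit 28) (nat_lit 0x7001001)) (.cD (nat_lit 26) (.kA false (nat_lit 0x100100000400100200b001001001000003)) .nil)))))))) (.cD (nat_lit 24) (.dfs (nat_lit 16) (nat_lit 4102) (nat_lit 4102) (nat_lit 0x1004002001) (nat_lit 0x1004002001) (nat_lit 0) (nat_lit 0) (nat_lit 3) (nat_lit 0) (nat_lit 0) (nat_lit 0) (nat_lit 1) (nat_lit 0) (nat_lit 1) (nat_lit 0) (nat_lit 1) (nat_lit 0x5050504) (.cD (nat_lit 2) (.kA false (nat_lit 0x300600200900200100100000400100200b001001001000004)) (.cD (nat_lit 8) (.kA false (nat_lit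 0x1001000004001002009001002)) (.cD (nat_lit 10) (.kc (nat_lit 20) (nat_lit 0x5001001)) (.cD (nat_lit 16) (.kA false (nat_lit 0x100100000400100200b001001001000003)) (.cD (nat_lit 18) (.kc (nat_lit 28) (nat_lit 0x7001001)) (.cD (nat_lit 24) (.kc (nat_lit 24) (nat_lit 0x3001001)) (.cD (nat_lit 26) (.kA false (nat_lit 0x100100000a006002007006004001002009001003)) .nil)))))))) (.cD (nat_lit 26) (.dfs (nat_lit 16) (nat_lit 4102) (nat_lit 4102) (nat_lit 0x1004002001) (nat_lit 0x1004002001) (nat_lit 0) (nat_lit 0) (nat_lit 3) (nat_lit 0) (nat_lit 0) (nat_lit 0) (nat_lit 1) (nat_lit 0) (nat_lit 1) (nat_lit 0) (nat_lit 1) (nat_lit 0x5050504) (.cD (nat_lit 2) (.kA false (nat_lit 0x100100000600800a007006001001000004001002009001004)) (.cD (nat_lit 8) (.kA false (nat_lit 0x1001000004001002009001002)) (.cD (nat_lit 10) (.kc (nat_lit 20) (nat_lit 0x5001001)) (.cD (nat_lit 16) (.kc (nat_lit 28) (nat_lit 0x7001001)) (.cD (nat_lit 18) (.kA false (nat_lit 0x100100000400100200b001001001000003))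 (.cD (nat_lit 24) (.kA false (nat_lit 0x2001004009002004004000004001002009001003)) (.cD (nat_lit 26) (.kc (nat_lit 24) (nat_lit 0x3001001)) .nil)))))))) .nil))))))))) (.cD (nat_lit 12) (.czs (nat_lit 44) z0 (nat_lit 16) (.dfs (nat_lit 8) (nat_lit 4099) (nat_lit 4099) (nat_lit 0x1002001) (nat_lit 0x1002001) (nat_lit 0) (nat_lit 0) (nat_lit 3) (nat_lit 0) (nat_lit 0) (nat_lit 0) (nat_lit 1) (nat_lit 0) (nat_lit 1) (nat_lit 0) (nat_lit 1) (nat_lit 0x11111110) (.cD (nat_lit 4) (.dfs (nat_lit 16) (nat_lit 4102) (nat_lit 4102) (nat_lit 0x1004002001) (nat_lit 0x1004002001) (nat_lit 0) (nat_lit 0) (nat_lit 3) (nat_lit 0) (nat_lit 0) (nat_lit 0) (nat_lit 1) (nat_lit 0) (nat_lit 1) (nat_lit 0) (nat_lit 1) (nat_lit 0x11111110) (.cD (nat_lit 4) (.kc (nat_lit 24) (nat_lit 0x3001001)) (.cD (nat_lit 8) (.kc (nat_lit 28) (nat_lit 0x7001001)) (.cD (nat_lit 12) (.kc (nat_lit 20) (nat_lit 0x5001001)) (.cD (nat_lit 16) (.kA false (nat_lit 0x6001004008001004001002009001002))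 (.cD (nat_lit 20) (.kA false (nat_lit 0x600500400800100400100200b001001001000003)) (.cD (nat_lit 24) (.kA false (nat_lit 0x6003004008001001001000004001002009001003)) (.cD (nat_lit 28) (.kA false (nat_lit 0x600700400900200200500600e002001001000003)) .nil)))))))) (.cD (nat_lit 8) (.dfs (nat_lit 16) (nat_lit 4102) (nat_lit 4102) (nat_lit 0x1004002001) (nat_lit 0x1004002001) (nat_lit 0) (nat_lit 0) (nat_lit 3) (nat_lit 0) (nat_lit 0) (nat_lit 0) (nat_lit 1) (nat_lit 0) (nat_lit 1) (nat_lit 0) (nat_lit 1) (nat_lit 0x11111110) (.cD (nat_lit 4) (.kc (nat_lit 28) (nat_lit 0x7001001)) (.cD (nat_lit 8) (.kc (nat_lit 24) (nat_lit 0x3001001)) (.cD (nat_lit 12) (.kc (nat_lit 20) (nat_lit 0x5001001)) (.cD (nat_lit 16) (.dfs (nat_lit 2) (nat_lit 0x1006001002008) (nat_lit 0x1007001002008) (nat_lit 4100) (nat_lit 4101) (nat_lit 0) (nat_lit 0) (nat_lit 2) (nat_lit 0) (nat_lit 0) (nat_lit 2) (nat_lit 1) (nat_lit 0) (nat_lit 4100) (nat_lit 4) (nat_lit 0x100000200000a) (nat_lit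 1028) (.cD (nat_lit 2) (.cut (nat_lit 0)) (.cD (nat_lit 10) (.kA true (nat_lit 0x700300601000100100100000a004002003005003002006016001001001000005)) .nil))) (.cD (nat_lit 20) (.dfs (nat_lit 2) (nat_lit 4101) (nat_lit 4100) (nat_lit 1) (nat_lit 1) (nat_lit 0) (nat_lit 0) (nat_lit 1) (nat_lit 4120) (nat_lit 0x20010008004002001) (nat_lit 0) (nat_lit 1) (nat_lit 0) (nat_lit 1) (nat_lit 0) (nat_lit 1) (nat_lit 0) .nil) (.cD (nat_lit 24) (.kA false (nat_lit 0x7001002009002002002000004001002009001003)) (.cD (nat_lit 28) (.kA false (nat_lit 0x7004002008001002002000006005002008002003)) .nil)))))))) (.cD (nat_lit 12) (.kc (nat_lit 12) (nat_lit 0x3001001)) (.cD (nat_lit 16) (.dfs (nat_lit 16) (nat_lit 4102) (nat_lit 4102) (nat_lit 0x1004002001) (nat_lit 0x1004002001) (nat_lit 0) (nat_lit 0) (nat_lit 3) (nat_lit 0) (nat_lit 0) (nat_lit 0) (nat_lit 1) (nat_lit 0) (nat_lit 1) (nat_lit 0) (nat_lit 1) (nat_lit 0x11111110) (.cD (nat_lit 4) (.kA false (nat_lit 0x200500300900200100200500d002001001000003))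 (.cD (nat_lit 8) (.kA false (nat_lit 0x5002001009002001001000002)) (.cD (nat_lit 12) (.kc (nat_lit 20) (nat_lit 0x5001001)) (.cD (nat_lit 16) (.kc (nat_lit 24) (nat_lit 0x3001001)) (.cD (nat_lit 20) (.kA false (nat_lit 0x700100400800100a006004016003004001002009001003)) (.cD (nat_lit 24) (.kA false (nat_lit 0x100100000400100200b001001001000003)) (.cD (nat_lit 28) (.kc (nat_lit 28) (nat_lit 0x7001001)) .nil)))))))) (.cD (nat_lit 20) (.dfs (nat_lit 16) (nat_lit 4102) (nat_lit 4102) (nat_lit 0x1004002001) (nat_lit 0x1004002001) (nat_lit 0) (nat_lit 0) (nat_lit 3) (nat_lit 0) (nat_lit 0) (nat_lit 0) (nat_lit 1) (nat_lit 0) (nat_lit 1) (nat_lit 0) (nat_lit 1) (nat_lit 0x11111110) (.cD (nat_lit 4) (.kA false (nat_lit 0x600400500800100400100200b001001001000003)) (.cD (nat_lit 8) (.kA false (nat_lit 0x5007001009002001001000002)) (.cD (nat_lit 12) (.kc (nat_lit 20) (nat_lit 0x5001001)) (.cD (nat_lit 16) (.kA false (nat_lit 0x6001005008001004001002009001002)) (.cD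 (nat_lit 20) (.kc (nat_lit 24) (nat_lit 0x3001001)) (.cD (nat_lit 24) (.kc (nat_lit 28) (nat_lit 0x7001001)) (.cD (nat_lit 28) (.kA false (nat_lit 0x100100000400100200b001001001000003)) .nil)))))))) (.cD (nat_lit 24) (.dfs (nat_lit 16) (nat_lit 4102) (nat_lit 4102) (nat_lit 0x1004002001) (nat_lit 0x1004002001) (nat_lit 0) (nat_lit 0) (nat_lit 3) (nat_lit 0) (nat_lit 0) (nat_lit 0) (nat_lit 1) (nat_lit 0) (nat_lit 1) (nat_lit 0) (nat_lit 1) (nat_lit 0x11111110) (.cD (nat_lit 4) (.kA false (nat_lit 0x700300600900200100700500d002001001000003)) (.cD (nat_lit 8) (.kA false (nat_lit 0x5003001009002001001000002)) (.cD (nat_lit 12) (.kc (nat_lit 20) (nat_lit 0x5001001)) (.cD (nat_lit 16) (.kA false (nat_lit 0x100100000400100200b001001001000003)) (.cD (nat_lit 20) (.kc (nat_lit 28) (nat_lit 0x7001001)) (.cD (nat_lit 24) (.kc (nat_lit 24) (nat_lit 0x3001001)) (.cD (nat_lit 28) (.kA false (nat_lit 0x3004006008001002002000003005007008002003)) .nil)))))))) (.cD (nat_lit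 28) (.dfs (nat_lit 16) (nat_lit 4102) (nat_lit 4102) (nat_lit 0x1004002001) (nat_lit 0x1004002001) (nat_lit 0) (nat_lit 0) (nat_lit 3) (nat_lit 0) (nat_lit 0) (nat_lit 0) (nat_lit 1) (nat_lit 0) (nat_lit 1) (nat_lit 0) (nat_lit 1) (nat_lit 0x11111110) (.cD (nat_lit 4) (.kA false (nat_lit 0x600400700900200100600500d002001001000003)) (.cD (nat_lit 8) (.kA false (nat_lit 0x5006001009002001001000002)) (.cD (nat_lit 12) (.kc (nat_lit 20) (nat_lit 0x5001001)) (.cD (nat_lit 16) (.kc (nat_lit 28) (nat_lit 0x7001001)) (.cD (nat_lit 20) (.kA false (nat_lit 0x100100000400100200b001001001000003)) (.cD (nat_lit 24) (.kA false (nat_lit 0x2001004009002002002000004001002009001003)) (.cD (nat_lit 28) (.kc (nat_lit 24) (nat_lit 0x3001001)) .nil)))))))) .nil))))))))) (.cD (nat_lit 16) (.dfs (nat_lit 8) (nat_lit 1) (nat_lit 1) (nat_lit 0x1002001) (nat_lit 0x1002001) (nat_lit 0) (nat_lit 0) (nat_lit 0) (nat_lit 0) (nat_lit 0) (nat_lit 0) (nat_lit 1) (nat_lit 0) (nat_lit 0x1004002)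 (nat_lit 16386) (nat_lit 0x100100200000400100a00000c) (nat_lit 0x1011514) (.cD (nat_lit 2) (.czs (nat_lit 34) z1 (nat_lit 16) (.dfs (nat_lit 16) (nat_lit 4101) (nat_lit 4101) (nat_lit 0x1004002001) (nat_lit 0x1004002001) (nat_lit 0) (nat_lit 0) (nat_lit 3) (nat_lit 0) (nat_lit 0) (nat_lit 0) (nat_lit 1) (nat_lit 0) (nat_lit 1) (nat_lit 0) (nat_lit 1) (nat_lit 0x5050504) (.cD (nat_lit 2) (.kc (nat_lit 24) (nat_lit 0x3001001)) (.cD (nat_lit 8) (.kA false (nat_lit 0x1001000004001002009001002)) (.cD (nat_lit 10) (.kA false (nat_lit 0x100100000400100200b001001001000003)) (.cD (nat_lit 16) (.kc (nat_lit 20) (nat_lit 0x5001001)) (.cD (nat_lit 18) (.kc (nat_lit 28) (nat_lit 0x7001001)) (.cD (nat_lit 24) (.kA false (nat_lit 0x4001006009002004004000004001002009001003)) (.cD (nat_lit 26) (.kA false (nat_lit 0x100100000c006004007006004001002009001003)) .nil))))))))) (.cD (nat_lit 4) (.czs (nat_lit 36) z0 (nat_lit 16) (.dfs (nat_lit 16) (nat_lit 4101) (nat_lit 4101)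 (nat_lit 0x1004002001) (nat_lit 0x1004002001) (nat_lit 0) (nat_lit 0) (nat_lit 3) (nat_lit 0) (nat_lit 0) (nat_lit 0) (nat_lit 1) (nat_lit 0) (nat_lit 1) (nat_lit 0) (nat_lit 1) (nat_lit 0x11111110) (.cD (nat_lit 4) (.kc (nat_lit 24) (nat_lit 0x3001001)) (.cD (nat_lit 8) (.kA false (nat_lit 0x2004001009002001001000002)) (.cD (nat_lit 12) (.kA false (nat_lit 0x100100000400100200b001001001000003)) (.cD (nat_lit 16) (.kc (nat_lit 20) (nat_lit 0x5001001)) (.cD (nat_lit 20) (.kc (nat_lit 28) (nat_lit 0x7001001)) (.cD (nat_lit 24) (.kA false (nat_lit 0x1003004008001001001000004001002009001003)) (.cD (nat_lit 28) (.kA false (nat_lit 0x2005006008001002002000002004007008002003)) .nil))))))))) (.cD (nat_lit 8) (.dfs (nat_lit 16) (nat_lit 1) (nat_lit 1) (nat_lit 0x1004002001) (nat_lit 0x1004002001) (nat_lit 0) (nat_lit 0) (nat_lit 0) (nat_lit 0) (nat_lit 0) (nat_lit 0) (nat_lit 1) (nat_lit 0) (nat_lit 0x1004002) (nat_lit 16386) (nat_lit 0x100100200000400100a00000c)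 (nat_lit 0x1011514) (.cD (nat_lit 2) (.kA false (nat_lit 0x100100000400800600f00500400100200b001001001000004)) (.cD (nat_lit 4) (.dfs (nat_lit 2) (nat_lit 4100) (nat_lit 4101) (nat_lit 1) (nat_lit 1) (nat_lit 0) (nat_lit 0) (nat_lit 1) (nat_lit 4112) (nat_lit 0x20010008004002001) (nat_lit 0) (nat_lit 1) (nat_lit 0) (nat_lit 1) (nat_lit 0) (nat_lit 1) (nat_lit 0) .nil) (.cD (nat_lit 8) (.kc (nat_lit 24) (nat_lit 0x3001001)) (.cD (nat_lit 10) (.kA false (nat_lit 0x100100000400e00600f005004001002009001003)) (.cD (nat_lit 12) (.kA false (nat_lit 0x3005002008001002002000003004002008002003)) (.cD (nat_lit 16) (.kc (nat_lit 20) (nat_lit 0x5001001)) (.cD (nat_lit 24) (.kc (nat_lit 28) (nat_lit 0x7001001)) .nil)))))))) (.cD (nat_lit 10) (.czs (nat_lit 42) z1 (nat_lit 16) (.dfs (nat_lit 16) (nat_lit 4101) (nat_lit 4101) (nat_lit 0x1004002001) (nat_lit 0x1004002001) (nat_lit 0) (nat_lit 0) (nat_lit 3) (nat_lit 0) (nat_lit 0) (nat_lit 0) (nat_lit 1) (nat_lit 0) (nat_lit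 1) (nat_lit 0) (nat_lit 1) (nat_lit 0x5050504) (.cD (nat_lit 2) (.kA false (nat_lit 0x100100000400100200b001001001000003)) (.cD (nat_lit 8) (.kA false (nat_lit 0x1001000004001002009001002)) (.cD (nat_lit 10) (.kc (nat_lit 24) (nat_lit 0x3001001)) (.cD (nat_lit 16) (.kc (nat_lit 20) (nat_lit 0x5001001)) (.cD (nat_lit 18) (.kA false (nat_lit 0x100100000400800a00f005001001000004001002009001004)) (.cD (nat_lit 24) (.kA false (nat_lit 0x4001006009002004004000004001002009001003)) (.cD (nat_lit 26) (.kc (nat_lit 28) (nat_lit 0x7001001)) .nil))))))))) (.cD (nat_lit 12) (.czs (nat_lit 44) z0 (nat_lit 16) (.dfs (nat_lit 16) (nat_lit 4101) (nat_lit 4101) (nat_lit 0x1004002001) (nat_lit 0x1004002001) (nat_lit 0) (nat_lit 0) (nat_lit 3) (nat_lit 0) (nat_lit 0) (nat_lit 0) (nat_lit 1) (nat_lit 0) (nat_lit 1) (nat_lit 0) (nat_lit 1) (nat_lit 0x11111110) (.cD (nat_lit 4) (.kA false (nat_lit 0x100100000400100200b001001001000003)) (.cD (nat_lit 8) (.kA false (nat_lit 0x3004001009002001001000002))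 (.cD (nat_lit 12) (.kc (nat_lit 24) (nat_lit 0x3001001)) (.cD (nat_lit 16) (.kc (nat_lit 20) (nat_lit 0x5001001)) (.cD (nat_lit 20) (.kA false (nat_lit 0x4005006008001002002000005004007008002003)) (.cD (nat_lit 24) (.kA false (nat_lit 0x1003006008001001001000004001002009001003)) (.cD (nat_lit 28) (.kc (nat_lit 28) (nat_lit 0x7001001)) .nil))))))))) (.cD (nat_lit 16) (.kc (nat_lit 12) (nat_lit 0x3001001)) (.cD (nat_lit 24) (.dfs (nat_lit 16) (nat_lit 1) (nat_lit 1) (nat_lit 0x1004002001) (nat_lit 0x1004002001) (nat_lit 0) (nat_lit 0) (nat_lit 0) (nat_lit 0) (nat_lit 0) (nat_lit 0) (nat_lit 1) (nat_lit 0) (nat_lit 0x1004002) (nat_lit 16386) (nat_lit 0x100100200000400100a00000c) (nat_lit 0x1011514) (.cD (nat_lit 2) (.kA false (nat_lit 0x100100000c00400200700600400100200b001001001000004)) (.cD (nat_lit 4) (.kA false (nat_lit 0x500100700800100600400e014004004001002009001003)) (.cD (nat_lit 8) (.kc (nat_lit 28) (nat_lit 0x7001001)) (.cD (nat_lit 10) (.kA false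 (nat_lit 0x100100000400e00200f005004001002009001003)) (.cD (nat_lit 12) (.kA false (nat_lit 0x6005007008001002002000007004006008002003)) (.cD (nat_lit 16) (.kc (nat_lit 20) (nat_lit 0x5001001)) (.cD (nat_lit 24) (.kc (nat_lit 24) (nat_lit 0x3001001)) .nil)))))))) .nil)))))))) (.cD (nat_lit 24) (.dfs (nat_lit 8) (nat_lit 1) (nat_lit 1) (nat_lit 0x1002001) (nat_lit 0x1002001) (nat_lit 0) (nat_lit 0) (nat_lit 0) (nat_lit 0) (nat_lit 0) (nat_lit 0) (nat_lit 1) (nat_lit 0) (nat_lit 0x1004002) (nat_lit 16386) (nat_lit 0x100100200000400100a00000c) (nat_lit 0x1011514) (.cD (nat_lit 2) (.czs (nat_lit 34) z1 (nat_lit 16) (.dfs (nat_lit 16) (nat_lit 4101) (nat_lit 4101) (nat_lit 0x1004002001) (nat_lit 0x1004002001) (nat_lit 0) (nat_lit 0) (nat_lit 3) (nat_lit 0) (nat_lit 0) (nat_lit 0) (nat_lit 1) (nat_lit 0) (nat_lit 1) (nat_lit 0) (nat_lit 1) (nat_lit 0x5050504) (.cD (nat_lit 2) (.kc (nat_lit 24) (nat_lit 0x3001001)) (.cD (nat_lit 8) (.kA false (nat_lit 0x1001000004001002009001002))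 (.cD (nat_lit 10) (.kA false (nat_lit 0x100100000400100200b001001001000003)) (.cD (nat_lit 16) (.kA false (nat_lit 0x4001003009002004004000004001002009001003)) (.cD (nat_lit 18) (.kA false (nat_lit 0x400200300900200200800400d00600400100200b001001001000004)) (.cD (nat_lit 24) (.kc (nat_lit 20) (nat_lit 0x5001001)) (.cD (nat_lit 26) (.kc (nat_lit 28) (nat_lit 0x7001001)) .nil))))))))) (.cD (nat_lit 4) (.czs (nat_lit 36) z0 (nat_lit 16) (.dfs (nat_lit 16) (nat_lit 4101) (nat_lit 4101) (nat_lit 0x1004002001) (nat_lit 0x1004002001) (nat_lit 0) (nat_lit 0) (nat_lit 3) (nat_lit 0) (nat_lit 0) (nat_lit 0) (nat_lit 1) (nat_lit 0) (nat_lit 1) (nat_lit 0) (nat_lit 1) (nat_lit 0x11111110) (.cD (nat_lit 4) (.kc (nat_lit 24) (nat_lit 0x3001001)) (.cD (nat_lit 8) (.kA false (nat_lit 0x2005001009002001001000002)) (.cD (nat_lit 12) (.kA false (nat_lit 0x100100000400100200b001001001000003)) (.cD (nat_lit 16) (.kA false (nat_lit 0x3001004008001004001002009001002)) (.cD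 (nat_lit 20) (.kA false (nat_lit 0x300500400800100400100200b001001001000003)) (.cD (nat_lit 24) (.kc (nat_lit 20) (nat_lit 0x5001001)) (.cD (nat_lit 28) (.kc (nat_lit 28) (nat_lit 0x7001001)) .nil))))))))) (.cD (nat_lit 8) (.dfs (nat_lit 16) (nat_lit 1) (nat_lit 1) (nat_lit 0x1004002001) (nat_lit 0x1004002001) (nat_lit 0) (nat_lit 0) (nat_lit 0) (nat_lit 0) (nat_lit 0) (nat_lit 0) (nat_lit 1) (nat_lit 0) (nat_lit 0x1004002) (nat_lit 16386) (nat_lit 0x100100200000400100a00000c) (nat_lit 0x1011514) (.cD (nat_lit 2) (.kA false (nat_lit 0x100100000200800600f00500400100200b001001001000004)) (.cD (nat_lit 4) (.dfs (nat_lit 2) (nat_lit 4100) (nat_lit 4101) (nat_lit 1) (nat_lit 1) (nat_lit 0) (nat_lit 0) (nat_lit 1) (nat_lit 4120) (nat_lit 0x20010008004002001) (nat_lit 0) (nat_lit 1) (nat_lit 0) (nat_lit 1) (nat_lit 0) (nat_lit 1) (nat_lit 0) .nil) (.cD (nat_lit 8) (.kc (nat_lit 24) (nat_lit 0x3001001)) (.cD (nat_lit 10) (.kA false (nat_lit 0x100100000200e00600f005004001002009001003))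 (.cD (nat_lit 12) (.kA false (nat_lit 0x3007002008001002002000003006002008002003)) (.cD (nat_lit 16) (.kc (nat_lit 28) (nat_lit 0x7001001)) (.cD (nat_lit 24) (.kc (nat_lit 20) (nat_lit 0x5001001)) .nil)))))))) (.cD (nat_lit 10) (.czs (nat_lit 42) z1 (nat_lit 16) (.dfs (nat_lit 16) (nat_lit 4101) (nat_lit 4101) (nat_lit 0x1004002001) (nat_lit 0x1004002001) (nat_lit 0) (nat_lit 0) (nat_lit 3) (nat_lit 0) (nat_lit 0) (nat_lit 0) (nat_lit 1) (nat_lit 0) (nat_lit 1) (nat_lit 0) (nat_lit 1) (nat_lit 0x5050504) (.cD (nat_lit 2) (.kA false (nat_lit 0x100100000400100200b001001001000003)) (.cD (nat_lit 8) (.kA false (nat_lit 0x1001000004001002009001002)) (.cD (nat_lit 10) (.kc (nat_lit 24) (nat_lit 0x3001001)) (.cD (nat_lit 16) (.kA false (nat_lit 0x4001003009002004004000004001002009001003)) (.cD (nat_lit 18) (.kc (nat_lit 28) (nat_lit 0x7001001)) (.cD (nat_lit 24) (.kc (nat_lit 20) (nat_lit 0x5001001)) (.cD (nat_lit 26) (.kA false (nat_lit 0x100100000200600a007006004001002009001003))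 .nil))))))))) (.cD (nat_lit 12) (.czs (nat_lit 44) z0 (nat_lit 16) (.dfs (nat_lit 16) (nat_lit 4101) (nat_lit 4101) (nat_lit 0x1004002001) (nat_lit 0x1004002001) (nat_lit 0) (nat_lit 0) (nat_lit 3) (nat_lit 0) (nat_lit 0) (nat_lit 0) (nat_lit 1) (nat_lit 0) (nat_lit 1) (nat_lit 0) (nat_lit 1) (nat_lit 0x11111110) (.cD (nat_lit 4) (.kA false (nat_lit 0x100100000400100200b001001001000003)) (.cD (nat_lit 8) (.kA false (nat_lit 0x3005001009002001001000002)) (.cD (nat_lit 12) (.kc (nat_lit 24) (nat_lit 0x3001001)) (.cD (nat_lit 16) (.kA false (nat_lit 0x3001006008001004001002009001002)) (.cD (nat_lit 20) (.kc (nat_lit 28) (nat_lit 0x7001001)) (.cD (nat_lit 24) (.kc (nat_lit 20) (nat_lit 0x5001001)) (.cD (nat_lit 28) (.kA false (nat_lit 0x300700600800100400100200b001001001000003)) .nil))))))))) (.cD (nat_lit 16) (.dfs (nat_lit 16) (nat_lit 1) (nat_lit 1) (nat_lit 0x1004002001) (nat_lit 0x1004002001) (nat_lit 0) (nat_lit 0) (nat_lit 0) (nat_lit 0) (nat_lit 0)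 (nat_lit 0) (nat_lit 1) (nat_lit 0) (nat_lit 0x1004002) (nat_lit 16386) (nat_lit 0x100100200000400100a00000c) (nat_lit 0x1011514) (.cD (nat_lit 2) (.kA false (nat_lit 0x400300200900200400400000400100200b001001001000004)) (.cD (nat_lit 4) (.kA false (nat_lit 0x700100500800100e004006014004004001002009001003)) (.cD (nat_lit 8) (.kc (nat_lit 28) (nat_lit 0x7001001)) (.cD (nat_lit 10) (.kA false (nat_lit 0x100100000200e00400f005004001002009001003)) (.cD (nat_lit 12) (.kA false (nat_lit 0x6002007008001002002000007002006008002003)) (.cD (nat_lit 16) (.kc (nat_lit 24) (nat_lit 0x3001001)) (.cD (nat_lit 24) (.kc (nat_lit 20) (nat_lit 0x5001001)) .nil)))))))) (.cD (nat_lit 24) (.kc (nat_lit 12) (nat_lit 0x3001001)) .nil)))))))) .nil)))))))))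
theorem c728 : (chk [(x207, s550), (x207, s727)] [] p728).n x207 s728 = true := by decide +kernel
noncomputable def p729 : Pf := (.ext (nat_lit 0) (nat_lit 0) (nat_lit 0x1020008010004) (nat_lit 0x1002004008001001) (nat_lit 0x2003004008) (nat_lit 4097) (nat_lit 4097) (nat_lit 0xc004002001) (.dfs (nat_lit 1) (nat_lit 0x1002003004008) (nat_lit 0x100200300400c) (nat_lit 4097) (nat_lit 4097) (nat_lit 0) (nat_lit 0) (nat_lit 2) (nat_lit 0) (nat_lit 0) (nat_lit 1) (nat_lit 1) (nat_lit 0) (nat_lit 4128) (nat_lit 32) (nat_lit 0x1000001000005000011000015) (nat_lit 0x220022) (.cD (nat_lit 1) (.kS (nat_lit 0) (nat_lit 0x2006008010002002002000002) (nat_lit 4117) (nat_lit 0x8004002003) (nat_lit 0x2002000002004008010001001002002000002006008010007001004)) (.cD (nat_lit 5) (.cut (nat_lit 0)) (.cD (nat_lit 17) (.iso x207 s728 (nat_lit 0) (nat_lit 0x1020010008004002011) (nat_lit 0x20010008004002011) [(nat_lit 0x10008004002005001001), (nat_lit 0x8004002001005001)] (.cut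 (nat_lit 0))) (.cD (nat_lit 21) (.kS (nat_lit 0) (nat_lit 0x2006008010002002002000002) (nat_lit 4113) (nat_lit 0x8004002003) (nat_lit 0x2002000002004008010001001002002000002006008010005001004)) .nil))))))
theorem c729 : (chk [(x207, s728)] [g6] p729).n x207 s729 = true := by decide +kernel
noncomputable def p730 : Pf := (.ext (nat_lit 0) (nat_lit 0) (nat_lit 0x1020008010004) (nat_lit 0x1002004008001001) (nat_lit 0x2003004008) (nat_lit 4097) (nat_lit 4097) (nat_lit 0xc004002001) (.dfs (nat_lit 1) (nat_lit 0x1002003004008) (nat_lit 0x100200300400c) (nat_lit 4097) (nat_lit 4097) (nat_lit 2) (nat_lit 0) (nat_lit 2) (nat_lit 0) (nat_lit 0) (nat_lit 1) (nat_lit 1) (nat_lit 0) (nat_lit 1) (nat_lit 0) (nat_lit 1) (nat_lit 0) .nil))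
theorem c730 : (chk [] [] p730).n x367 s730 = true := by decide +kernel
noncomputable def p731 : Pf := (.ext (nat_lit 0) (nat_lit 0) (nat_lit 0x1020008010004) (nat_lit 0x1002004008001001) (nat_lit 0x2003004008) (nat_lit 4097) (nat_lit 4097) (nat_lit 0xc004002001) (.dfs (nat_lit 1) (nat_lit 0x1002003004008) (nat_lit 0x100200300400c) (nat_lit 4097) (nat_lit 4097) (nat_lit 2) (nat_lit 0) (nat_lit 2) (nat_lit 0) (nat_lit 0) (nat_lit 1) (nat_lit 1) (nat_lit 0) (nat_lit 1) (nat_lit 0) (nat_lit 1) (nat_lit 0) .nil))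
theorem c731 : (chk [] [] p731).n x368 s731 = true := by decide +kernel
noncomputable def p732 : Pf := (.ext (nat_lit 0) (nat_lit 0) (nat_lit 0x1040010020008) (nat_lit 0x1002004008001001) (nat_lit 0x2003004008) (nat_lit 4097) (nat_lit 4098) (nat_lit 0xb004002001) (.dfs (nat_lit 1) (nat_lit 0x1002003004008) (nat_lit 0x100200300400b) (nat_lit 4097) (nat_lit 4097) (nat_lit 0) (nat_lit 0) (nat_lit 2) (nat_lit 0) (nat_lit 0) (nat_lit 2) (nat_lit 1) (nat_lit 0) (nat_lit 1) (nat_lit 0) (nat_lit 1) (nat_lit 0) .nil))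
theorem c732 : (chk [] [] p732).n x370 s732 = true := by decide +kernel
noncomputable def p733 : Pf := (.ext (nat_lit 0) (nat_lit 0) (nat_lit 0x1040010020008) (nat_lit 0x1002004008001001) (nat_lit 0x2003004008) (nat_lit 4097) (nat_lit 4098) (nat_lit 0xb004002001) (.dfs (nat_lit 1) (nat_lit 0x1002003004008) (nat_lit 0x100200300400b) (nat_lit 4097) (nat_lit 4097) (nat_lit 0) (nat_lit 0) (nat_lit 2) (nat_lit 0) (nat_lit 0) (nat_lit 2) (nat_lit 1) (nat_lit 0) (nat_lit 1) (nat_lit 0) (nat_lit 1) (nat_lit 0) .nil))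
theorem c733 : (chk [] [] p733).n x371 s733 = true := by decide +kernel
noncomputable def p734 : Pf := (.ext (nat_lit 0) (nat_lit 0) (nat_lit 0x1040010020008) (nat_lit 0x1002004008001001) (nat_lit 0x2003004008) (nat_lit 4097) (nat_lit 4098) (nat_lit 0xb004002001) (.dfs (nat_lit 1) (nat_lit 0x1002003004008) (nat_lit 0x100200300400b) (nat_lit 4097) (nat_lit 4097) (nat_lit 4) (nat_lit 0) (nat_lit 2) (nat_lit 0) (nat_lit 0) (nat_lit 2) (nat_lit 1) (nat_lit 0) (nat_lit 1) (nat_lit 0) (nat_lit 1) (nat_lit 0) .nil))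
theorem c734 : (chk [] [] p734).n x372 s734 = true := by decide +kernel
noncomputable def p735 : Pf := (.ext (nat_lit 0) (nat_lit 0) (nat_lit 0x1040010020008) (nat_lit 0x1002004008003001) (nat_lit 0x2003004008) (nat_lit 4097) (nat_lit 4098) (nat_lit 0xb004002001) (.dfs (nat_lit 1) (nat_lit 0x1002003004008) (nat_lit 0x100200300400b) (nat_lit 4097) (nat_lit 4097) (nat_lit 4) (nat_lit 0) (nat_lit 2) (nat_lit 0) (nat_lit 0) (nat_lit 2) (nat_lit 1) (nat_lit 0) (nat_lit 4160) (nat_lit 64) (nat_lit 0x100000200000a00001200001a) (nat_lit 0x4040404) (.cD (nat_lit 2) (.kS (nat_lit 0) (nat_lit 0x2004008018001012010030040003004004000003) (nat_lit 4122) (nat_lit 0x800400200d) (nat_lit 0x201203004002400300400400000200400801000100100400400001201003004004500400200400801800d002006)) (.cD (nat_lit 10) (.kS (nat_lit 0) (nat_lit 0x2004008018001012010030040003004004000003) (nat_lit 4114) (nat_lit 0x800400200d) (nat_lit 0x201203004003600300400400000200400801000100100400400001201003004004500400200400801800d002006))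 (.cD (nat_lit 18) (.kS (nat_lit 0) (nat_lit 0x2004008018001012010030040003004004000003) (nat_lit 4106) (nat_lit 0x800400200d) (nat_lit 0x201203004001400300400400000200400801000100100400400001201003004004500400200400801800d002006)) (.cD (nat_lit 26) (.kS (nat_lit 0) (nat_lit 0x2004008018001012010030040003004004000003) (nat_lit 4098) (nat_lit 0x800400200d) (nat_lit 0x201203004000600300400400000200400801000100100400400001201003004004500400200400801800d002006)) .nil))))))
theorem c735 : (chk [] [] p735).n x373 s735 = true := by decide +kernel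
noncomputable def p736 : Pf := (.ext (nat_lit 0) (nat_lit 0) (nat_lit 0x1040010020008) (nat_lit 0x1002004008003001) (nat_lit 0x2003004008) (nat_lit 4097) (nat_lit 4098) (nat_lit 0xb004002001) (.dfs (nat_lit 1) (nat_lit 0x1002003004008) (nat_lit 0x100200300400b) (nat_lit 4097) (nat_lit 4097) (nat_lit 4) (nat_lit 0) (nat_lit 2) (nat_lit 0) (nat_lit 0) (nat_lit 2) (nat_lit 1) (nat_lit 0) (nat_lit 4160) (nat_lit 64) (nat_lit 0x100000200000a00001200001a) (nat_lit 0x4040404) (.cD (nat_lit 2) (.kS (nat_lit 0) (nat_lit 0x2004008018001012010030040003004004000003) (nat_lit 4106) (nat_lit 0x800400200d) (nat_lit 0x2012030040024003004004000002004008010001001004004000012010030040045004002004008018005002006)) (.cD (nat_lit 10) (.kS (nat_lit 0) (nat_lit 0x2004008018001012010030040003004004000003) (nat_lit 4098) (nat_lit 0x800400200d) (nat_lit 0x2012030040036003004004000002004008010001001004004000012010030040045004002004008018005002006)) (.cD (nat_lit 18) (.kS (nat_lit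 0) (nat_lit 0x2004008018001012010030040003004004000003) (nat_lit 4122) (nat_lit 0x800400200d) (nat_lit 0x2012030040014003004004000002004008010001001004004000012010030040045004002004008018005002006)) (.cD (nat_lit 26) (.kS (nat_lit 0) (nat_lit 0x2004008018001012010030040003004004000003) (nat_lit 4114) (nat_lit 0x800400200d) (nat_lit 0x2012030040006003004004000002004008010001001004004000012010030040045004002004008018005002006)) .nil))))))
theorem c736 : (chk [] [] p736).n x373 s736 = true := by decide +kernel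
noncomputable def p737 : Pf := (.anc (nat_lit 28) (nat_lit 0x16001022002000002) (nat_lit 0x100908c040020) (.czp (nat_lit 128) (nat_lit 0) (nat_lit 0x1080040020010008) z3 (.dfs (nat_lit 32) (nat_lit 4097) (nat_lit 4097) (nat_lit 1) (nat_lit 1) (nat_lit 0) (nat_lit 0) (nat_lit 3) (nat_lit 0) (nat_lit 0) (nat_lit 0) (nat_lit 1) (nat_lit 0) (nat_lit 0x1010008) (nat_lit 65544) (nat_lit 0x1001008000010001028000030) (nat_lit 0x1000000010001010100010100) (.cD (nat_lit 8) (.dfs (nat_lit 64) (nat_lit 4098) (nat_lit 4098) (nat_lit 4097) (nat_lit 4097) (nat_lit 0) (nat_lit 0) (nat_lit 3) (nat_lit 0) (nat_lit 0) (nat_lit 0) (nat_lit 1) (nat_lit 0) (nat_lit 1) (nat_lit 0) (nat_lit 1) (nat_lit 0x101000001010000010100000100) (.cD (nat_lit 8) (.kc (nat_lit 96) (nat_lit 0x3001001)) (.cD (nat_lit 32) (.kF (nat_lit 8) (nat_lit 0x1001000002005001010010000002004002004)) (.cD (nat_lit 40) (.kF (nat_lit 8) (nat_lit 0x1001000002007001024004000002004002004)) (.cD (nat_lit 64)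 (.kF (nat_lit 64) (nat_lit 0x4016003022002000001004002003)) (.cD (nat_lit 72) (.kF (nat_lit 72) (nat_lit 0x4016003022002000001004002003)) (.cD (nat_lit 96) (.dfs (nat_lit 140) (nat_lit 4100) (nat_lit 4100) (nat_lit 0x1002001) (nat_lit 0x1002001) (nat_lit 0) (nat_lit 0) (nat_lit 3) (nat_lit 0) (nat_lit 0) (nat_lit 0) (nat_lit 1) (nat_lit 0) (nat_lit 1) (nat_lit 0) (nat_lit 1) (nat_lit 0x101000001010000010100000100) (.cD (nat_lit 8) (.kc (nat_lit 172) (nat_lit 0x5001001)) (.cD (nat_lit 32) (.kA true (nat_lit 0x2400400000100200600b001022002000003)) (.cD (nat_lit 40) (.kA true (nat_lit 0xe00800a01600300100200600b001022002000003)) (.cD (nat_lit 64) (.kA true (nat_lit 0x2200200000700100200b002001001000003)) (.cD (nat_lit 72) (.kA true (nat_lit 0xc00e004016003022002000004005002008002003)) (.cD (nat_lit 96) (.kc (nat_lit 204) (nat_lit 0x3001001)) (.cD (nat_lit 104) (.kc (nat_lit 236) (nat_lit 0x7001001)) .nil)))))))) (.cD (nat_lit 104) (.dfs (nat_lit 140) (nat_lit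 4100) (nat_lit 4100) (nat_lit 0x1002001) (nat_lit 0x1002001) (nat_lit 0) (nat_lit 0) (nat_lit 3) (nat_lit 0) (nat_lit 0) (nat_lit 0) (nat_lit 1) (nat_lit 0) (nat_lit 1) (nat_lit 0) (nat_lit 1) (nat_lit 0x101000001010000010100000100) (.cD (nat_lit 8) (.kc (nat_lit 172) (nat_lit 0x5001001)) (.cD (nat_lit 32) (.dfs (nat_lit 9) (nat_lit 4097) (nat_lit 4101) (nat_lit 1) (nat_lit 1) (nat_lit 4) (nat_lit 0) (nat_lit 1) (nat_lit 4128) (nat_lit 0x80040020010008024022001) (nat_lit 0) (nat_lit 1) (nat_lit 0) (nat_lit 1) (nat_lit 0) (nat_lit 1) (nat_lit 0) .nil) (.cD (nat_lit 40) (.dfs (nat_lit 9) (nat_lit 4099) (nat_lit 4103) (nat_lit 1) (nat_lit 1) (nat_lit 4) (nat_lit 0) (nat_lit 1) (nat_lit 4160) (nat_lit 0x80040020010008024022001) (nat_lit 0) (nat_lit 1) (nat_lit 0) (nat_lit 1) (nat_lit 0) (nat_lit 1) (nat_lit 0) .nil) (.cD (nat_lit 64) (.kA true (nat_lit 0xc002008016003022002000004001006008002003)) (.cD (nat_lit 72) (.kA true (nat_lit 0x2200200000700500600b002001001000003))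 (.cD (nat_lit 96) (.kc (nat_lit 236) (nat_lit 0x7001001)) (.cD (nat_lit 104) (.kc (nat_lit 204) (nat_lit 0x3001001)) .nil)))))))) .nil)))))))) (.cD (nat_lit 16) (.dfs (nat_lit 64) (nat_lit 4098) (nat_lit 4098) (nat_lit 4097) (nat_lit 4097) (nat_lit 0) (nat_lit 0) (nat_lit 3) (nat_lit 0) (nat_lit 0) (nat_lit 0) (nat_lit 1) (nat_lit 0) (nat_lit 1) (nat_lit 0) (nat_lit 1) (nat_lit 0x10001000100010001000100010000) (.cD (nat_lit 16) (.kc (nat_lit 96) (nat_lit 0x3001001)) (.cD (nat_lit 32) (.dfs (nat_lit 140) (nat_lit 4100) (nat_lit 4100) (nat_lit 0x1002001) (nat_lit 0x1002001) (nat_lit 0) (nat_lit 0) (nat_lit 3) (nat_lit 0) (nat_lit 0) (nat_lit 0) (nat_lit 1) (nat_lit 0) (nat_lit 1) (nat_lit 0) (nat_lit 1) (nat_lit 0x10001000100010001000100010000) (.cD (nat_lit 16) (.kc (nat_lit 172) (nat_lit 0x5001001)) (.cD (nat_lit 32) (.kc (nat_lit 204) (nat_lit 0x3001001)) (.cD (nat_lit 48) (.kc (nat_lit 236) (nat_lit 0x7001001)) (.cD (nat_lit 64) (.kA false (nat_lit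 0xc002004016003022002000004001002008002003)) (.cD (nat_lit 80) (.kA false (nat_lit 0xc00e004016003022002000004005002008002003)) (.cD (nat_lit 96) (.kA false (nat_lit 0x2200200000400300200b002024004000003)) (.cD (nat_lit 112) (.kA false (nat_lit 0x2200200000400700200b002022002000003)) .nil)))))))) (.cD (nat_lit 48) (.dfs (nat_lit 140) (nat_lit 4100) (nat_lit 4100) (nat_lit 0x1002001) (nat_lit 0x1002001) (nat_lit 0) (nat_lit 0) (nat_lit 3) (nat_lit 0) (nat_lit 0) (nat_lit 0) (nat_lit 1) (nat_lit 0) (nat_lit 1) (nat_lit 0) (nat_lit 1) (nat_lit 0x10001000100010001000100010000) (.cD (nat_lit 16) (.kc (nat_lit 172) (nat_lit 0x5001001)) (.cD (nat_lit 32) (.kc (nat_lit 236) (nat_lit 0x7001001)) (.cD (nat_lit 48) (.kc (nat_lit 204) (nat_lit 0x3001001)) (.cD (nat_lit 64) (.kA false (nat_lit 0xc002008016003022002000004001006008002003)) (.cD (nat_lit 80) (.kA false (nat_lit 0xc00e008016003022002000004005006008002003)) (.cD (nat_lit 96) (.kA false (nat_lit 0x2200200000400700600b002022002000003))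 (.cD (nat_lit 112) (.kA false (nat_lit 0x2200200000400300600b002024004000003)) .nil)))))))) (.cD (nat_lit 64) (.kF (nat_lit 64) (nat_lit 0x4016003022002000001004002003)) (.cD (nat_lit 80) (.kF (nat_lit 80) (nat_lit 0x4016003022002000001004002003)) (.cD (nat_lit 96) (.dfs (nat_lit 140) (nat_lit 4100) (nat_lit 4100) (nat_lit 0x1002001) (nat_lit 0x1002001) (nat_lit 0) (nat_lit 0) (nat_lit 3) (nat_lit 0) (nat_lit 0) (nat_lit 0) (nat_lit 1) (nat_lit 0) (nat_lit 1) (nat_lit 0) (nat_lit 1) (nat_lit 0x10001000100010001000100010000) (.cD (nat_lit 16) (.kc (nat_lit 172) (nat_lit 0x5001001)) (.cD (nat_lit 32) (.kA false (nat_lit 0x2200200000400300100b002024004000003)) (.cD (nat_lit 48) (.kA false (nat_lit 0x2200200000400700500b002022002000003)) (.cD (nat_lit 64) (.kA false (nat_lit 0x2200200000500100300b002001001000003)) (.cD (nat_lit 80) (.kA false (nat_lit 0xc00e00a016003022002000004005007008002003)) (.cD (nat_lit 96) (.kc (nat_lit 204) (nat_lit 0x3001001)) (.cD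 (nat_lit 112) (.kc (nat_lit 236) (nat_lit 0x7001001)) .nil)))))))) (.cD (nat_lit 112) (.dfs (nat_lit 140) (nat_lit 4100) (nat_lit 4100) (nat_lit 0x1002001) (nat_lit 0x1002001) (nat_lit 0) (nat_lit 0) (nat_lit 3) (nat_lit 0) (nat_lit 0) (nat_lit 0) (nat_lit 1) (nat_lit 0) (nat_lit 1) (nat_lit 0) (nat_lit 1) (nat_lit 0x10001000100010001000100010000) (.cD (nat_lit 16) (.kc (nat_lit 172) (nat_lit 0x5001001)) (.cD (nat_lit 32) (.kA false (nat_lit 0x2200200000400700100b002022002000003)) (.cD (nat_lit 48) (.kA false (nat_lit 0x2200200000400300500b002024004000003)) (.cD (nat_lit 64) (.kA false (nat_lit 0xc00200a016003022002000004001007008002003)) (.cD (nat_lit 80) (.kA false (nat_lit 0x2200200000100500300b002001001000003)) (.cD (nat_lit 96) (.kc (nat_lit 236) (nat_lit 0x7001001)) (.cD (nat_lit 112) (.kc (nat_lit 204) (nat_lit 0x3001001)) .nil)))))))) .nil)))))))) (.cD (nat_lit 32) (.kF (nat_lit 32) (nat_lit 0xc016003022002000001002002003)) (.cD (nat_lit 40) (.kF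 (nat_lit 40) (nat_lit 0xc016003022002000001002002003)) (.cD (nat_lit 48) (.kF (nat_lit 48) (nat_lit 0xc016003022002000001002002003)) (.cD (nat_lit 64) (.dfs (nat_lit 64) (nat_lit 4098) (nat_lit 4098) (nat_lit 4097) (nat_lit 4097) (nat_lit 0) (nat_lit 0) (nat_lit 3) (nat_lit 0) (nat_lit 0) (nat_lit 0) (nat_lit 1) (nat_lit 0) (nat_lit 0x1010008) (nat_lit 65544) (nat_lit 0x1001008000010001028000030) (nat_lit 0x1000000010001010100010100) (.cD (nat_lit 8) (.kF (nat_lit 8) (nat_lit 0x4016003022002000001004002003)) (.cD (nat_lit 16) (.kF (nat_lit 16) (nat_lit 0x4016003022002000001004002003)) (.cD (nat_lit 32) (.dfs (nat_lit 140) (nat_lit 4100) (nat_lit 4100) (nat_lit 0x1002001) (nat_lit 0x1002001) (nat_lit 0) (nat_lit 0) (nat_lit 3) (nat_lit 0) (nat_lit 0) (nat_lit 0) (nat_lit 1) (nat_lit 0) (nat_lit 0x1010008) (nat_lit 65544) (nat_lit 0x1001008000010001028000030) (nat_lit 0x1000000010001010100010100) (.cD (nat_lit 8) (.kA true (nat_lit 0x200c008016003022002000001004006008002003))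 (.cD (nat_lit 16) (.kA false (nat_lit 0x200c004016003022002000001004002008002003)) (.cD (nat_lit 32) (.kc (nat_lit 204) (nat_lit 0x3001001)) (.cD (nat_lit 40) (.dfs (nat_lit 9) (nat_lit 0x1003004006008) (nat_lit 0x1007004006008) (nat_lit 0x1002001) (nat_lit 0x1002005) (nat_lit 4) (nat_lit 0) (nat_lit 2) (nat_lit 1) (nat_lit 0) (nat_lit 16) (nat_lit 1) (nat_lit 0) (nat_lit 4104) (nat_lit 8) (nat_lit 0x1000018000038) (nat_lit 0x100000001000000) (.cD (nat_lit 24) (.kA false (nat_lit 0x3008004010001010010000007008004014002001001000004)) (.cD (nat_lit 56) (.kA false (nat_lit 0x7008004010001010010000003008004014002001001000004)) .nil))) (.cD (nat_lit 48) (.kA false (nat_lit 0x600c004016003022002000003004002008002003)) (.cD (nat_lit 64) (.kc (nat_lit 172) (nat_lit 0x5001001)) (.cD (nat_lit 96) (.kc (nat_lit 236) (nat_lit 0x7001001)) .nil)))))))) (.cD (nat_lit 40) (.kF (nat_lit 40) (nat_lit 0x24004000001006001001001000001004002004)) (.cD (nat_lit 48) (.dfs (nat_lit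 140) (nat_lit 4100) (nat_lit 4100) (nat_lit 0x1002001) (nat_lit 0x1002001) (nat_lit 0) (nat_lit 0) (nat_lit 3) (nat_lit 0) (nat_lit 0) (nat_lit 0) (nat_lit 1) (nat_lit 0) (nat_lit 1) (nat_lit 0) (nat_lit 1) (nat_lit 0x10001000100010001000100010000) (.cD (nat_lit 16) (.kA false (nat_lit 0x2200200000500400300b002001001000003)) (.cD (nat_lit 32) (.kA false (nat_lit 0x600c002016003022002000003004001008002003)) (.cD (nat_lit 48) (.kc (nat_lit 204) (nat_lit 0x3001001)) (.cD (nat_lit 64) (.kc (nat_lit 172) (nat_lit 0x5001001)) (.cD (nat_lit 80) (.kA false (nat_lit 0xe00c00a016003022002000005004007008002003)) (.cD (nat_lit 96) (.kA false (nat_lit 0x2200200000700400500b002022002000003)) (.cD (nat_lit 112) (.kc (nat_lit 236) (nat_lit 0x7001001)) .nil)))))))) (.cD (nat_lit 64) (.kc (nat_lit 96) (nat_lit 0x3001001)) (.cD (nat_lit 96) (.dfs (nat_lit 140) (nat_lit 4100) (nat_lit 4100) (nat_lit 0x1002001) (nat_lit 0x1002001) (nat_lit 0) (nat_lit 0) (nat_lit 3) (nat_lit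 0) (nat_lit 0) (nat_lit 0) (nat_lit 1) (nat_lit 0) (nat_lit 0x1010008) (nat_lit 65544) (nat_lit 0x1001008000010001028000030) (nat_lit 0x1000000010001010100010100) (.cD (nat_lit 8) (.kA true (nat_lit 0x200c004016003022002000001004002008002003)) (.cD (nat_lit 16) (.kA false (nat_lit 0x200c008016003022002000001004006008002003)) (.cD (nat_lit 32) (.kc (nat_lit 236) (nat_lit 0x7001001)) (.cD (nat_lit 40) (.kA true (nat_lit 0xe00800c01600300100200600b001022002000003)) (.cD (nat_lit 48) (.kA false (nat_lit 0x2200200000700400600b002022002000003)) (.cD (nat_lit 64) (.kc (nat_lit 172) (nat_lit 0x5001001)) (.cD (nat_lit 96) (.kc (nat_lit 204) (nat_lit 0x3001001)) .nil)))))))) .nil)))))))) (.cD (nat_lit 96) (.kF (nat_lit 96) (nat_lit 0xc016003022002000001002002003)) .nil))))))))))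
theorem c737 : (chk [] [] p737).n x374 s737 = true := by decide +kernel
noncomputable def p738 : Pf := (.anc (nat_lit 28) (nat_lit 0x16001022002000002) (nat_lit 0x100908c040020) (.czp (nat_lit 128) (nat_lit 0) (nat_lit 0x1080040020010008) z3 (.dfs (nat_lit 32) (nat_lit 4097) (nat_lit 4097) (nat_lit 1) (nat_lit 1) (nat_lit 0) (nat_lit 0) (nat_lit 3) (nat_lit 0) (nat_lit 0) (nat_lit 0) (nat_lit 1) (nat_lit 0) (nat_lit 0x1010008) (nat_lit 65544) (nat_lit 0x1001008000010001028000030) (nat_lit 0x1000000010001010100010100) (.cD (nat_lit 8) (.dfs (nat_lit 64) (nat_lit 4098) (nat_lit 4098) (nat_lit 4097) (nat_lit 4097) (nat_lit 0) (nat_lit 0) (nat_lit 3) (nat_lit 0) (nat_lit 0) (nat_lit 0) (nat_lit 1) (nat_lit 0) (nat_lit 1) (nat_lit 0) (nat_lit 1) (nat_lit 0x101000001010000010100000100) (.cD (nat_lit 8) (.kc (nat_lit 96) (nat_lit 0x3001001)) (.cD (nat_lit 32) (.kF (nat_lit 8) (nat_lit 0x1001000002005001010010000002004002004)) (.cD (nat_lit 40) (.kF (nat_lit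 8) (nat_lit 0x1001000002007001024004000002004002004)) (.cD (nat_lit 64) (.kF (nat_lit 64) (nat_lit 0x4016003022002000001004002003)) (.cD (nat_lit 72) (.kF (nat_lit 72) (nat_lit 0x4016003022002000001004002003)) (.cD (nat_lit 96) (.dfs (nat_lit 140) (nat_lit 4100) (nat_lit 4100) (nat_lit 0x1002001) (nat_lit 0x1002001) (nat_lit 0) (nat_lit 0) (nat_lit 3) (nat_lit 0) (nat_lit 0) (nat_lit 0) (nat_lit 1) (nat_lit 0) (nat_lit 1) (nat_lit 0) (nat_lit 1) (nat_lit 0x101000001010000010100000100) (.cD (nat_lit 8) (.kc (nat_lit 172) (nat_lit 0x5001001)) (.cD (nat_lit 32) (.kA true (nat_lit 0x2400400000100200600b001022002000003)) (.cD (nat_lit 40) (.kA true (nat_lit 0xe00800a01600300100200600b001022002000003)) (.cD (nat_lit 64) (.kA true (nat_lit 0x2200200000700100200b002001001000003)) (.cD (nat_lit 72) (.kA true (nat_lit 0xc00e004016003022002000004005002008002003)) (.cD (nat_lit 96) (.kc (nat_lit 204) (nat_lit 0x3001001)) (.cD (nat_lit 104) (.kc (nat_lit 236) (nat_lit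 0x7001001)) .nil)))))))) (.cD (nat_lit 104) (.dfs (nat_lit 140) (nat_lit 4100) (nat_lit 4100) (nat_lit 0x1002001) (nat_lit 0x1002001) (nat_lit 0) (nat_lit 0) (nat_lit 3) (nat_lit 0) (nat_lit 0) (nat_lit 0) (nat_lit 1) (nat_lit 0) (nat_lit 1) (nat_lit 0) (nat_lit 1) (nat_lit 0x101000001010000010100000100) (.cD (nat_lit 8) (.kc (nat_lit 172) (nat_lit 0x5001001)) (.cD (nat_lit 32) (.dfs (nat_lit 9) (nat_lit 4097) (nat_lit 4101) (nat_lit 1) (nat_lit 1) (nat_lit 4) (nat_lit 0) (nat_lit 1) (nat_lit 4128) (nat_lit 0x80040020010008024022001) (nat_lit 0) (nat_lit 1) (nat_lit 0) (nat_lit 1) (nat_lit 0) (nat_lit 1) (nat_lit 0) .nil) (.cD (nat_lit 40) (.dfs (nat_lit 9) (nat_lit 4099) (nat_lit 4103) (nat_lit 1) (nat_lit 1) (nat_lit 4) (nat_lit 0) (nat_lit 1) (nat_lit 4160) (nat_lit 0x80040020010008024022001) (nat_lit 0) (nat_lit 1) (nat_lit 0) (nat_lit 1) (nat_lit 0) (nat_lit 1) (nat_lit 0) .nil) (.cD (nat_lit 64) (.kA true (nat_lit 0xc002008016003022002000004001006008002003))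 (.cD (nat_lit 72) (.kA true (nat_lit 0x2200200000700500600b002001001000003)) (.cD (nat_lit 96) (.kc (nat_lit 236) (nat_lit 0x7001001)) (.cD (nat_lit 104) (.kc (nat_lit 204) (nat_lit 0x3001001)) .nil)))))))) .nil)))))))) (.cD (nat_lit 16) (.dfs (nat_lit 64) (nat_lit 4098) (nat_lit 4098) (nat_lit 4097) (nat_lit 4097) (nat_lit 0) (nat_lit 0) (nat_lit 3) (nat_lit 0) (nat_lit 0) (nat_lit 0) (nat_lit 1) (nat_lit 0) (nat_lit 1) (nat_lit 0) (nat_lit 1) (nat_lit 0x10001000100010001000100010000) (.cD (nat_lit 16) (.kc (nat_lit 96) (nat_lit 0x3001001)) (.cD (nat_lit 32) (.dfs (nat_lit 140) (nat_lit 4100) (nat_lit 4100) (nat_lit 0x1002001) (nat_lit 0x1002001) (nat_lit 0) (nat_lit 0) (nat_lit 3) (nat_lit 0) (nat_lit 0) (nat_lit 0) (nat_lit 1) (nat_lit 0) (nat_lit 1) (nat_lit 0) (nat_lit 1) (nat_lit 0x10001000100010001000100010000) (.cD (nat_lit 16) (.kc (nat_lit 172) (nat_lit 0x5001001)) (.cD (nat_lit 32) (.kc (nat_lit 204) (nat_lit 0x3001001)) (.cD (nat_lit 48) (.kc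 (nat_lit 236) (nat_lit 0x7001001)) (.cD (nat_lit 64) (.kA false (nat_lit 0xc002004016003022002000004001002008002003)) (.cD (nat_lit 80) (.kA false (nat_lit 0xc00e004016003022002000004005002008002003)) (.cD (nat_lit 96) (.kA false (nat_lit 0x2200200000400300200b002024004000003)) (.cD (nat_lit 112) (.kA false (nat_lit 0x2200200000400700200b002022002000003)) .nil)))))))) (.cD (nat_lit 48) (.dfs (nat_lit 140) (nat_lit 4100) (nat_lit 4100) (nat_lit 0x1002001) (nat_lit 0x1002001) (nat_lit 0) (nat_lit 0) (nat_lit 3) (nat_lit 0) (nat_lit 0) (nat_lit 0) (nat_lit 1) (nat_lit 0) (nat_lit 1) (nat_lit 0) (nat_lit 1) (nat_lit 0x10001000100010001000100010000) (.cD (nat_lit 16) (.kc (nat_lit 172) (nat_lit 0x5001001)) (.cD (nat_lit 32) (.kc (nat_lit 236) (nat_lit 0x7001001)) (.cD (nat_lit 48) (.kc (nat_lit 204) (nat_lit 0x3001001)) (.cD (nat_lit 64) (.kA false (nat_lit 0xc002008016003022002000004001006008002003)) (.cD (nat_lit 80) (.kA false (nat_lit 0xc00e008016003022002000004005006008002003))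 (.cD (nat_lit 96) (.kA false (nat_lit 0x2200200000400700600b002022002000003)) (.cD (nat_lit 112) (.kA false (nat_lit 0x2200200000400300600b002024004000003)) .nil)))))))) (.cD (nat_lit 64) (.kF (nat_lit 64) (nat_lit 0x4016003022002000001004002003)) (.cD (nat_lit 80) (.kF (nat_lit 80) (nat_lit 0x4016003022002000001004002003)) (.cD (nat_lit 96) (.dfs (nat_lit 140) (nat_lit 4100) (nat_lit 4100) (nat_lit 0x1002001) (nat_lit 0x1002001) (nat_lit 0) (nat_lit 0) (nat_lit 3) (nat_lit 0) (nat_lit 0) (nat_lit 0) (nat_lit 1) (nat_lit 0) (nat_lit 1) (nat_lit 0) (nat_lit 1) (nat_lit 0x10001000100010001000100010000) (.cD (nat_lit 16) (.kc (nat_lit 172) (nat_lit 0x5001001)) (.cD (nat_lit 32) (.kA false (nat_lit 0x2200200000400300100b002024004000003)) (.cD (nat_lit 48) (.kA false (nat_lit 0x2200200000400700500b002022002000003)) (.cD (nat_lit 64) (.kA false (nat_lit 0x2200200000500100300b002001001000003)) (.cD (nat_lit 80) (.kA false (nat_lit 0xc00e00a016003022002000004005007008002003))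 (.cD (nat_lit 96) (.kc (nat_lit 204) (nat_lit 0x3001001)) (.cD (nat_lit 112) (.kc (nat_lit 236) (nat_lit 0x7001001)) .nil)))))))) (.cD (nat_lit 112) (.dfs (nat_lit 140) (nat_lit 4100) (nat_lit 4100) (nat_lit 0x1002001) (nat_lit 0x1002001) (nat_lit 0) (nat_lit 0) (nat_lit 3) (nat_lit 0) (nat_lit 0) (nat_lit 0) (nat_lit 1) (nat_lit 0) (nat_lit 1) (nat_lit 0) (nat_lit 1) (nat_lit 0x10001000100010001000100010000) (.cD (nat_lit 16) (.kc (nat_lit 172) (nat_lit 0x5001001)) (.cD (nat_lit 32) (.kA false (nat_lit 0x2200200000400700100b002022002000003)) (.cD (nat_lit 48) (.kA false (nat_lit 0x2200200000400300500b002024004000003)) (.cD (nat_lit 64) (.kA false (nat_lit 0xc00200a016003022002000004001007008002003)) (.cD (nat_lit 80) (.kA false (nat_lit 0x2200200000100500300b002001001000003)) (.cD (nat_lit 96) (.kc (nat_lit 236) (nat_lit 0x7001001)) (.cD (nat_lit 112) (.kc (nat_lit 204) (nat_lit 0x3001001)) .nil)))))))) .nil)))))))) (.cD (nat_lit 32) (.kF (nat_lit 32)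 (nat_lit 0xc016003022002000001002002003)) (.cD (nat_lit 40) (.kF (nat_lit 40) (nat_lit 0xc016003022002000001002002003)) (.cD (nat_lit 48) (.kF (nat_lit 48) (nat_lit 0xc016003022002000001002002003)) (.cD (nat_lit 64) (.dfs (nat_lit 64) (nat_lit 4098) (nat_lit 4098) (nat_lit 4097) (nat_lit 4097) (nat_lit 0) (nat_lit 0) (nat_lit 3) (nat_lit 0) (nat_lit 0) (nat_lit 0) (nat_lit 1) (nat_lit 0) (nat_lit 0x1010008) (nat_lit 65544) (nat_lit 0x1001008000010001028000030) (nat_lit 0x1000000010001010100010100) (.cD (nat_lit 8) (.kF (nat_lit 8) (nat_lit 0x4016003022002000001004002003)) (.cD (nat_lit 16) (.kF (nat_lit 16) (nat_lit 0x4016003022002000001004002003)) (.cD (nat_lit 32) (.dfs (nat_lit 140) (nat_lit 4100) (nat_lit 4100) (nat_lit 0x1002001) (nat_lit 0x1002001) (nat_lit 0) (nat_lit 0) (nat_lit 3) (nat_lit 0) (nat_lit 0) (nat_lit 0) (nat_lit 1) (nat_lit 0) (nat_lit 0x1010008) (nat_lit 65544) (nat_lit 0x1001008000010001028000030) (nat_lit 0x1000000010001010100010100)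 (.cD (nat_lit 8) (.kA true (nat_lit 0x200c008016003022002000001004006008002003)) (.cD (nat_lit 16) (.kA false (nat_lit 0x200c004016003022002000001004002008002003)) (.cD (nat_lit 32) (.kc (nat_lit 204) (nat_lit 0x3001001)) (.cD (nat_lit 40) (.dfs (nat_lit 9) (nat_lit 0x1003004006008) (nat_lit 0x1007004006008) (nat_lit 0x1002001) (nat_lit 0x1002005) (nat_lit 4) (nat_lit 0) (nat_lit 2) (nat_lit 1) (nat_lit 0) (nat_lit 16) (nat_lit 1) (nat_lit 0) (nat_lit 4104) (nat_lit 8) (nat_lit 0x10000980000b8) (nat_lit 0x10000000100000000000000000000000000000000000000) (.cD (nat_lit 152) (.kA false (nat_lit 0x1b00800401000100100100001f008004018002024004000004)) (.cD (nat_lit 184) (.kA false (nat_lit 0x1f00800401000100100100001b008004018002024004000004)) .nil))) (.cD (nat_lit 48) (.kA false (nat_lit 0x600c004016003022002000003004002008002003)) (.cD (nat_lit 64) (.kc (nat_lit 172) (nat_lit 0x5001001)) (.cD (nat_lit 96) (.kc (nat_lit 236) (nat_lit 0x7001001)) .nil))))))))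 (.cD (nat_lit 40) (.kF (nat_lit 40) (nat_lit 0x24004000001006001001001000001004002004)) (.cD (nat_lit 48) (.dfs (nat_lit 140) (nat_lit 4100) (nat_lit 4100) (nat_lit 0x1002001) (nat_lit 0x1002001) (nat_lit 0) (nat_lit 0) (nat_lit 3) (nat_lit 0) (nat_lit 0) (nat_lit 0) (nat_lit 1) (nat_lit 0) (nat_lit 1) (nat_lit 0) (nat_lit 1) (nat_lit 0x10001000100010001000100010000) (.cD (nat_lit 16) (.kA false (nat_lit 0x2200200000500400300b002001001000003)) (.cD (nat_lit 32) (.kA false (nat_lit 0x600c002016003022002000003004001008002003)) (.cD (nat_lit 48) (.kc (nat_lit 204) (nat_lit 0x3001001)) (.cD (nat_lit 64) (.kc (nat_lit 172) (nat_lit 0x5001001)) (.cD (nat_lit 80) (.kA false (nat_lit 0xe00c00a016003022002000005004007008002003)) (.cD (nat_lit 96) (.kA false (nat_lit 0x2200200000700400500b002022002000003)) (.cD (nat_lit 112) (.kc (nat_lit 236) (nat_lit 0x7001001)) .nil)))))))) (.cD (nat_lit 64) (.kc (nat_lit 96) (nat_lit 0x3001001)) (.cD (nat_lit 96) (.dfs (nat_lit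 140) (nat_lit 4100) (nat_lit 4100) (nat_lit 0x1002001) (nat_lit 0x1002001) (nat_lit 0) (nat_lit 0) (nat_lit 3) (nat_lit 0) (nat_lit 0) (nat_lit 0) (nat_lit 1) (nat_lit 0) (nat_lit 0x1010008) (nat_lit 65544) (nat_lit 0x1001008000010001028000030) (nat_lit 0x1000000010001010100010100) (.cD (nat_lit 8) (.kA true (nat_lit 0x200c004016003022002000001004002008002003)) (.cD (nat_lit 16) (.kA false (nat_lit 0x200c008016003022002000001004006008002003)) (.cD (nat_lit 32) (.kc (nat_lit 236) (nat_lit 0x7001001)) (.cD (nat_lit 40) (.kA true (nat_lit 0xe00800c01600300100200600b001022002000003)) (.cD (nat_lit 48) (.kA false (nat_lit 0x2200200000700400600b002022002000003)) (.cD (nat_lit 64) (.kc (nat_lit 172) (nat_lit 0x5001001)) (.cD (nat_lit 96) (.kc (nat_lit 204) (nat_lit 0x3001001)) .nil)))))))) .nil)))))))) (.cD (nat_lit 96) (.kF (nat_lit 96) (nat_lit 0xc016003022002000001002002003)) .nil))))))))))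
theorem c738 : (chk [] [] p738).n x375 s738 = true := by decide +kernel
noncomputable def p739 : Pf := (.ext (nat_lit 0) (nat_lit 0x22002000007010030040001002) (nat_lit 0x103c040020049) (nat_lit 0x22002000040030007017001020010008004005040030010007002002022000005) (nat_lit 0x2003004008) (nat_lit 4101) (nat_lit 4101) (nat_lit 0xc004002001) (.dfs (nat_lit 5) (nat_lit 0x1002003004008) (nat_lit 0x100200300400c) (nat_lit 4097) (nat_lit 4097) (nat_lit 4) (nat_lit 0) (nat_lit 2) (nat_lit 0) (nat_lit 0x22002000007010030040003002) (nat_lit 5) (nat_lit 1) (nat_lit 0) (nat_lit 4156) (nat_lit 60) (nat_lit 0x100000500000c00002500002c) (nat_lit 0x102000001020) (.cD (nat_lit 5) (.kS (nat_lit 0) (nat_lit 0x20060080180020f2082000007010030040003003) (nat_lit 4172) (nat_lit 0x8004002003) (nat_lit 0x8008000000200400801000100108008000000200600801800f001004)) (.cD (nat_lit 12) (.kS (nat_lit 0) (nat_lit 0x20060080180020f2082000007010030040003003) (nat_lit 4197) (nat_lit 0x8004002003)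 (nat_lit 0x8008000000200400801000100108008000000200600801800d001004)) (.cD (nat_lit 37) (.iso x218 s500 (nat_lit 0) (nat_lit 0x1080040060008010055034092) (nat_lit 0x8004006000801006a089046) [(nat_lit 0x6002001001800402106200300b00b000002), (nat_lit 0x1000800400201900502a08e000002), (nat_lit 0x4003000701701a00402200200001000800400201300102200200004003001000701a003005)] (.cut (nat_lit 1))) (.cD (nat_lit 44) (.iso x218 s447 (nat_lit 0) (nat_lit 0x1080040060008010035034092) (nat_lit 0x8004006000801006a089066) [(nat_lit 0x6002001001802402104200300b00b000002), (nat_lit 0x1000800400201100502a08e000002), (nat_lit 0x4003000701703a00402200200001000800400201f00102200200004003001000703a003005)] (.cut (nat_lit 0))) .nil))))))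
theorem c739 : (chk [(x218, s447), (x218, s500)] [g79] p739).n x376 s739 = true := by decide +kernel
noncomputable def p740 : Pf := (.ext (nat_lit 1) (nat_lit 0) (nat_lit 0x1080060040008015) (nat_lit 0x1c00800e00a00d001021001000010008004002001001003) (nat_lit 0x600c00801e) (nat_lit 0x1004001) (nat_lit 0x1004010) (nat_lit 0x1400800400a00501c00800400e001) (.dfs (nat_lit 1) (nat_lit 0x100600c00801e) (nat_lit 0x100a00c00801e) (nat_lit 0x1010004002001) (nat_lit 0x101c00400e001) (nat_lit 12) (nat_lit 0) (nat_lit 2) (nat_lit 1) (nat_lit 0) (nat_lit 16) (nat_lit 1) (nat_lit 0) (nat_lit 4104) (nat_lit 8) (nat_lit 0x1000018000038) (nat_lit 0x100000001000000) (.cD (nat_lit 24) (.dfs (nat_lit 4) (nat_lit 0x101501800803c) (nat_lit 0x100d018008024) (nat_lit 0x1020010004002001) (nat_lit 0x102801001400a009) (nat_lit 24) (nat_lit 0) (nat_lit 2) (nat_lit 0) (nat_lit 0) (nat_lit 12) (nat_lit 1) (nat_lit 0) (nat_lit 1) (nat_lit 0) (nat_lit 1) (nat_lit 0x1000000010000000100000001000)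 (.cD (nat_lit 12) (.cut (nat_lit 0)) (.cD (nat_lit 44) (.kA true (nat_lit 0x2200200006907902006200102200200000a00e0080090040220020000790100200670010a7003000007)) (.cD (nat_lit 76) (.kA false (nat_lit 0xa030010078001017010030070001021001000003)) (.cD (nat_lit 108) (.kA false (nat_lit 0x3a030010078001017010030070001021001000003)) .nil))))) (.cD (nat_lit 56) (.dfs (nat_lit 4) (nat_lit 0x101d01800803c) (nat_lit 0x1005018008024) (nat_lit 0x1020010004002001) (nat_lit 0x102801001400a009) (nat_lit 24) (nat_lit 0) (nat_lit 2) (nat_lit 0) (nat_lit 0) (nat_lit 12) (nat_lit 1) (nat_lit 0) (nat_lit 1) (nat_lit 0) (nat_lit 1) (nat_lit 0x1000000010000000100000001000) (.cD (nat_lit 12) (.kA false (nat_lit 0x2a030010078001017010030070001021001000003)) (.cD (nat_lit 44) (.kA false (nat_lit 0x1a030010078001017010030070001021001000003)) (.cD (nat_lit 76) (.kA true (nat_lit 0x2200200001006902007200102200200000600c0080010030220020000790100200670010a7003000007)) (.cD (nat_lit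 108) (.iso x376 s739 (nat_lit 0) (nat_lit 0x1080040020010008044052041) (nat_lit 0x80040020010008044052041) [(nat_lit 0x40020010008004012011001001), (nat_lit 0x10008004002001003001), (nat_lit 0x2001000800400e009005001)] (.cut (nat_lit 0))) .nil))))) .nil))))
theorem c740 : (chk [(x376, s739)] [g478] p740).n x376 s740 = true := by decide +kernel
noncomputable def p741 : Pf := (.ext (nat_lit 1) (nat_lit 0) (nat_lit 0x1080060040008) (nat_lit 0x1002004008003001) (nat_lit 0x2003004008) (nat_lit 4117) (nat_lit 4117) (nat_lit 0xc004002001) (.dfs (nat_lit 21) (nat_lit 0x1002003004008) (nat_lit 0x100200300400c) (nat_lit 4097) (nat_lit 4097) (nat_lit 0) (nat_lit 0) (nat_lit 2) (nat_lit 1) (nat_lit 0) (nat_lit 21) (nat_lit 1) (nat_lit 0) (nat_lit 4224) (nat_lit 128) (nat_lit 0x100001500001d00003500003d) (nat_lit 0x2020000020200000) (.cD (nat_lit 21) (.kS (nat_lit 1) (nat_lit 0x2006008010002010010000002) (nat_lit 4125) (nat_lit 0x8004002003) (nat_lit 0x10010000002004008010001001010010000002006008010007001004))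 (.cD (nat_lit 29) (.kS (nat_lit 1) (nat_lit 0x2006008010002010010000002) (nat_lit 4181) (nat_lit 0x8004002003) (nat_lit 0x10010000002004008010001001010010000002006008010005001004)) (.cD (nat_lit 53) (.cut (nat_lit 0)) (.cD (nat_lit 61) (.iso x376 s740 (nat_lit 0) (nat_lit 0x1080040020010008044052001) (nat_lit 0x80040020010008044052001) [(nat_lit 0x10008004002005001001), (nat_lit 0x2001000800400e009003001)] (.cut (nat_lit 0))) .nil))))))
theorem c741 : (chk [(x376, s740)] [g478] p741).n x376 s741 = true := by decide +kernel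
noncomputable def p742 : Pf := (.anc (nat_lit 28) (nat_lit 0x16001022002000002) (nat_lit 0x100908c040020) (.czp (nat_lit 128) (nat_lit 0) (nat_lit 0x1080040020010008) z3 (.dfs (nat_lit 32) (nat_lit 4097) (nat_lit 4097) (nat_lit 1) (nat_lit 1) (nat_lit 0) (nat_lit 0) (nat_lit 3) (nat_lit 0) (nat_lit 0) (nat_lit 0) (nat_lit 1) (nat_lit 0) (nat_lit 0x1010008) (nat_lit 65544) (nat_lit 0x1001008000010001028000030) (nat_lit 0x1000000010001010100010100) (.cD (nat_lit 8) (.dfs (nat_lit 64) (nat_lit 4098) (nat_lit 4098) (nat_lit 4097) (nat_lit 4097) (nat_lit 0) (nat_lit 0) (nat_lit 3) (nat_lit 0) (nat_lit 0) (nat_lit 0) (nat_lit 1) (nat_lit 0) (nat_lit 1) (nat_lit 0) (nat_lit 1) (nat_lit 0x101000001010000010100000100) (.cD (nat_lit 8) (.kc (nat_lit 96) (nat_lit 0x3001001)) (.cD (nat_lit 32) (.kF (nat_lit 8) (nat_lit 0x21001000002005001010010000002004002004)) (.cD (nat_lit 40) (.kF (nat_lit 8) (nat_lit 0x21001000002007001024004000002004002004)) (.cD (nat_lit 64)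 (.kF (nat_lit 64) (nat_lit 0x4016003022002000001004002003)) (.cD (nat_lit 72) (.kF (nat_lit 72) (nat_lit 0x4016003022002000001004002003)) (.cD (nat_lit 96) (.dfs (nat_lit 140) (nat_lit 4100) (nat_lit 4100) (nat_lit 0x1002001) (nat_lit 0x1002001) (nat_lit 0) (nat_lit 0) (nat_lit 3) (nat_lit 0) (nat_lit 0) (nat_lit 0) (nat_lit 1) (nat_lit 0) (nat_lit 1) (nat_lit 0) (nat_lit 1) (nat_lit 0x101000001010000010100000100) (.cD (nat_lit 8) (.kc (nat_lit 172) (nat_lit 0x5001001)) (.cD (nat_lit 32) (.kA true (nat_lit 0x2400400000100200600b001022002000003)) (.cD (nat_lit 40) (.kA true (nat_lit 0xe00800a01600300100200600b001022002000003)) (.cD (nat_lit 64) (.kA true (nat_lit 0x2200200000700100200b002021001000003)) (.cD (nat_lit 72) (.kA true (nat_lit 0xc00e004016003022002000004005002008002003)) (.cD (nat_lit 96) (.kc (nat_lit 204) (nat_lit 0x3001001)) (.cD (nat_lit 104) (.kc (nat_lit 236) (nat_lit 0x7001001)) .nil)))))))) (.cD (nat_lit 104) (.dfs (nat_lit 140) (nat_lit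 4100) (nat_lit 4100) (nat_lit 0x1002001) (nat_lit 0x1002001) (nat_lit 0) (nat_lit 0) (nat_lit 3) (nat_lit 0) (nat_lit 0) (nat_lit 0) (nat_lit 1) (nat_lit 0) (nat_lit 1) (nat_lit 0) (nat_lit 1) (nat_lit 0x101000001010000010100000100) (.cD (nat_lit 8) (.kc (nat_lit 172) (nat_lit 0x5001001)) (.cD (nat_lit 32) (.dfs (nat_lit 9) (nat_lit 4097) (nat_lit 4101) (nat_lit 1) (nat_lit 1) (nat_lit 0) (nat_lit 0) (nat_lit 1) (nat_lit 4128) (nat_lit 0x80040020010008024022021) (nat_lit 0) (nat_lit 1) (nat_lit 0) (nat_lit 1) (nat_lit 0) (nat_lit 1) (nat_lit 0) .nil) (.cD (nat_lit 40) (.dfs (nat_lit 9) (nat_lit 4099) (nat_lit 4103) (nat_lit 1) (nat_lit 1) (nat_lit 0) (nat_lit 0) (nat_lit 1) (nat_lit 4160) (nat_lit 0x80040020010008024022021) (nat_lit 0) (nat_lit 1) (nat_lit 0) (nat_lit 1) (nat_lit 0) (nat_lit 1) (nat_lit 0) .nil) (.cD (nat_lit 64) (.kA true (nat_lit 0xc002008016003022002000004001006008002003)) (.cD (nat_lit 72) (.kA true (nat_lit 0x2200200000700500600b002021001000003))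 (.cD (nat_lit 96) (.kc (nat_lit 236) (nat_lit 0x7001001)) (.cD (nat_lit 104) (.kc (nat_lit 204) (nat_lit 0x3001001)) .nil)))))))) .nil)))))))) (.cD (nat_lit 16) (.dfs (nat_lit 64) (nat_lit 4098) (nat_lit 4098) (nat_lit 4097) (nat_lit 4097) (nat_lit 0) (nat_lit 0) (nat_lit 3) (nat_lit 0) (nat_lit 0) (nat_lit 0) (nat_lit 1) (nat_lit 0) (nat_lit 1) (nat_lit 0) (nat_lit 1) (nat_lit 0x10001000100010001000100010000) (.cD (nat_lit 16) (.kc (nat_lit 96) (nat_lit 0x3001001)) (.cD (nat_lit 32) (.dfs (nat_lit 140) (nat_lit 4100) (nat_lit 4100) (nat_lit 0x1002001) (nat_lit 0x1002001) (nat_lit 0) (nat_lit 0) (nat_lit 3) (nat_lit 0) (nat_lit 0) (nat_lit 0) (nat_lit 1) (nat_lit 0) (nat_lit 1) (nat_lit 0) (nat_lit 1) (nat_lit 0x10001000100010001000100010000) (.cD (nat_lit 16) (.kc (nat_lit 172) (nat_lit 0x5001001)) (.cD (nat_lit 32) (.kc (nat_lit 204) (nat_lit 0x3001001)) (.cD (nat_lit 48) (.kc (nat_lit 236) (nat_lit 0x7001001)) (.cD (nat_lit 64) (.kA false (nat_lit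 0xc002004016003022002000004001002008002003)) (.cD (nat_lit 80) (.kA false (nat_lit 0xc00e004016003022002000004005002008002003)) (.cD (nat_lit 96) (.kA false (nat_lit 0x2200200000400300200b002024004000003)) (.cD (nat_lit 112) (.kA false (nat_lit 0x2200200000400700200b002022002000003)) .nil)))))))) (.cD (nat_lit 48) (.dfs (nat_lit 140) (nat_lit 4100) (nat_lit 4100) (nat_lit 0x1002001) (nat_lit 0x1002001) (nat_lit 0) (nat_lit 0) (nat_lit 3) (nat_lit 0) (nat_lit 0) (nat_lit 0) (nat_lit 1) (nat_lit 0) (nat_lit 1) (nat_lit 0) (nat_lit 1) (nat_lit 0x10001000100010001000100010000) (.cD (nat_lit 16) (.kc (nat_lit 172) (nat_lit 0x5001001)) (.cD (nat_lit 32) (.kc (nat_lit 236) (nat_lit 0x7001001)) (.cD (nat_lit 48) (.kc (nat_lit 204) (nat_lit 0x3001001)) (.cD (nat_lit 64) (.kA false (nat_lit 0xc002008016003022002000004001006008002003)) (.cD (nat_lit 80) (.kA false (nat_lit 0xc00e008016003022002000004005006008002003)) (.cD (nat_lit 96) (.kA false (nat_lit 0x2200200000400700600b002022002000003))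 (.cD (nat_lit 112) (.kA false (nat_lit 0x2200200000400300600b002024004000003)) .nil)))))))) (.cD (nat_lit 64) (.kF (nat_lit 64) (nat_lit 0x4016003022002000001004002003)) (.cD (nat_lit 80) (.kF (nat_lit 80) (nat_lit 0x4016003022002000001004002003)) (.cD (nat_lit 96) (.dfs (nat_lit 140) (nat_lit 4100) (nat_lit 4100) (nat_lit 0x1002001) (nat_lit 0x1002001) (nat_lit 0) (nat_lit 0) (nat_lit 3) (nat_lit 0) (nat_lit 0) (nat_lit 0) (nat_lit 1) (nat_lit 0) (nat_lit 1) (nat_lit 0) (nat_lit 1) (nat_lit 0x10001000100010001000100010000) (.cD (nat_lit 16) (.kc (nat_lit 172) (nat_lit 0x5001001)) (.cD (nat_lit 32) (.kA false (nat_lit 0x2200200000400300100b002024004000003)) (.cD (nat_lit 48) (.kA false (nat_lit 0x2200200000400700500b002022002000003)) (.cD (nat_lit 64) (.kA false (nat_lit 0x2200200000500100300b002021001000003)) (.cD (nat_lit 80) (.kA false (nat_lit 0xc00e00a016003022002000004005007008002003)) (.cD (nat_lit 96) (.kc (nat_lit 204) (nat_lit 0x3001001)) (.cD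 (nat_lit 112) (.kc (nat_lit 236) (nat_lit 0x7001001)) .nil)))))))) (.cD (nat_lit 112) (.dfs (nat_lit 140) (nat_lit 4100) (nat_lit 4100) (nat_lit 0x1002001) (nat_lit 0x1002001) (nat_lit 0) (nat_lit 0) (nat_lit 3) (nat_lit 0) (nat_lit 0) (nat_lit 0) (nat_lit 1) (nat_lit 0) (nat_lit 1) (nat_lit 0) (nat_lit 1) (nat_lit 0x10001000100010001000100010000) (.cD (nat_lit 16) (.kc (nat_lit 172) (nat_lit 0x5001001)) (.cD (nat_lit 32) (.kA false (nat_lit 0x2200200000400700100b002022002000003)) (.cD (nat_lit 48) (.kA false (nat_lit 0x2200200000400300500b002024004000003)) (.cD (nat_lit 64) (.kA false (nat_lit 0xc00200a016003022002000004001007008002003)) (.cD (nat_lit 80) (.kA false (nat_lit 0x2200200000100500300b002021001000003)) (.cD (nat_lit 96) (.kc (nat_lit 236) (nat_lit 0x7001001)) (.cD (nat_lit 112) (.kc (nat_lit 204) (nat_lit 0x3001001)) .nil)))))))) .nil)))))))) (.cD (nat_lit 32) (.kF (nat_lit 32) (nat_lit 0xc016003022002000001002002003)) (.cD (nat_lit 40) (.kF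 (nat_lit 40) (nat_lit 0xc016003022002000001002002003)) (.cD (nat_lit 48) (.kF (nat_lit 48) (nat_lit 0xc016003022002000001002002003)) (.cD (nat_lit 64) (.dfs (nat_lit 64) (nat_lit 4098) (nat_lit 4098) (nat_lit 4097) (nat_lit 4097) (nat_lit 0) (nat_lit 0) (nat_lit 3) (nat_lit 0) (nat_lit 0) (nat_lit 0) (nat_lit 1) (nat_lit 0) (nat_lit 0x1010008) (nat_lit 65544) (nat_lit 0x1001008000010001028000030) (nat_lit 0x1000000010001010100010100) (.cD (nat_lit 8) (.kF (nat_lit 8) (nat_lit 0x4016003022002000001004002003)) (.cD (nat_lit 16) (.kF (nat_lit 16) (nat_lit 0x4016003022002000001004002003)) (.cD (nat_lit 32) (.dfs (nat_lit 140) (nat_lit 4100) (nat_lit 4100) (nat_lit 0x1002001) (nat_lit 0x1002001) (nat_lit 0) (nat_lit 0) (nat_lit 3) (nat_lit 0) (nat_lit 0) (nat_lit 0) (nat_lit 1) (nat_lit 0) (nat_lit 0x1010008) (nat_lit 65544) (nat_lit 0x1001008000010001028000030) (nat_lit 0x1000000010001010100010100) (.cD (nat_lit 8) (.kA true (nat_lit 0x200c008016003022002000001004006008002003))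 (.cD (nat_lit 16) (.kA false (nat_lit 0x200c004016003022002000001004002008002003)) (.cD (nat_lit 32) (.kc (nat_lit 204) (nat_lit 0x3001001)) (.cD (nat_lit 40) (.dfs (nat_lit 9) (nat_lit 0x1003004006008) (nat_lit 0x1007004006008) (nat_lit 0x1002001) (nat_lit 0x1002005) (nat_lit 0) (nat_lit 0) (nat_lit 2) (nat_lit 1) (nat_lit 0) (nat_lit 16) (nat_lit 1) (nat_lit 0) (nat_lit 4104) (nat_lit 8) (nat_lit 0x10000900000b0) (nat_lit 0x100000001000000000000000000000000000000000000) (.cD (nat_lit 144) (.kb (nat_lit 41) (nat_lit 0x2022000009001002) (nat_lit 0x104002001008800c006)) (.cD (nat_lit 176) (.kb (nat_lit 105) (nat_lit 0x202200000d001002) (nat_lit 0x104002001008800c006)) .nil))) (.cD (nat_lit 48) (.kA false (nat_lit 0x600c004016003022002000003004002008002003)) (.cD (nat_lit 64) (.kc (nat_lit 172) (nat_lit 0x5001001)) (.cD (nat_lit 96) (.kc (nat_lit 236) (nat_lit 0x7001001)) .nil)))))))) (.cD (nat_lit 40) (.kF (nat_lit 40) (nat_lit 0x24004000001006001021001000001004002004))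 (.cD (nat_lit 48) (.dfs (nat_lit 140) (nat_lit 4100) (nat_lit 4100) (nat_lit 0x1002001) (nat_lit 0x1002001) (nat_lit 0) (nat_lit 0) (nat_lit 3) (nat_lit 0) (nat_lit 0) (nat_lit 0) (nat_lit 1) (nat_lit 0) (nat_lit 1) (nat_lit 0) (nat_lit 1) (nat_lit 0x10001000100010001000100010000) (.cD (nat_lit 16) (.kA false (nat_lit 0x2200200000500400300b002021001000003)) (.cD (nat_lit 32) (.kA false (nat_lit 0x600c002016003022002000003004001008002003)) (.cD (nat_lit 48) (.kc (nat_lit 204) (nat_lit 0x3001001)) (.cD (nat_lit 64) (.kc (nat_lit 172) (nat_lit 0x5001001)) (.cD (nat_lit 80) (.kA false (nat_lit 0xe00c00a016003022002000005004007008002003)) (.cD (nat_lit 96) (.kA false (nat_lit 0x2200200000700400500b002022002000003)) (.cD (nat_lit 112) (.kc (nat_lit 236) (nat_lit 0x7001001)) .nil)))))))) (.cD (nat_lit 64) (.kc (nat_lit 96) (nat_lit 0x3001001)) (.cD (nat_lit 96) (.dfs (nat_lit 140) (nat_lit 4100) (nat_lit 4100) (nat_lit 0x1002001) (nat_lit 0x1002001) (nat_lit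 0) (nat_lit 0) (nat_lit 3) (nat_lit 0) (nat_lit 0) (nat_lit 0) (nat_lit 1) (nat_lit 0) (nat_lit 0x1010008) (nat_lit 65544) (nat_lit 0x1001008000010001028000030) (nat_lit 0x1000000010001010100010100) (.cD (nat_lit 8) (.kA true (nat_lit 0x200c004016003022002000001004002008002003)) (.cD (nat_lit 16) (.kA false (nat_lit 0x200c008016003022002000001004006008002003)) (.cD (nat_lit 32) (.kc (nat_lit 236) (nat_lit 0x7001001)) (.cD (nat_lit 40) (.kA true (nat_lit 0xe00800c01600300100200600b001022002000003)) (.cD (nat_lit 48) (.kA false (nat_lit 0x2200200000700400600b002022002000003)) (.cD (nat_lit 64) (.kc (nat_lit 172) (nat_lit 0x5001001)) (.cD (nat_lit 96) (.kc (nat_lit 204) (nat_lit 0x3001001)) .nil)))))))) .nil)))))))) (.cD (nat_lit 96) (.kF (nat_lit 96) (nat_lit 0xc016003022002000001002002003)) .nil))))))))))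
theorem c742 : (chk [] [] p742).n x377 s742 = true := by decide +kernel
noncomputable def p743 : Pf := (.anc (nat_lit 28) (nat_lit 0x16001022002000002) (nat_lit 0x100908c040020) (.czp (nat_lit 128) (nat_lit 0) (nat_lit 0x1080040020010008) z3 (.dfs (nat_lit 32) (nat_lit 4097) (nat_lit 4097) (nat_lit 1) (nat_lit 1) (nat_lit 0) (nat_lit 0) (nat_lit 3) (nat_lit 0) (nat_lit 0) (nat_lit 0) (nat_lit 1) (nat_lit 0) (nat_lit 0x1010008) (nat_lit 65544) (nat_lit 0x1001008000010001028000030) (nat_lit 0x1000000010001010100010100) (.cD (nat_lit 8) (.dfs (nat_lit 64) (nat_lit 4098) (nat_lit 4098) (nat_lit 4097) (nat_lit 4097) (nat_lit 0) (nat_lit 0) (nat_lit 3) (nat_lit 0) (nat_lit 0) (nat_lit 0) (nat_lit 1) (nat_lit 0) (nat_lit 1) (nat_lit 0) (nat_lit 1) (nat_lit 0x101000001010000010100000100) (.cD (nat_lit 8) (.kc (nat_lit 96) (nat_lit 0x3001001)) (.cD (nat_lit 32) (.kF (nat_lit 8) (nat_lit 0x41001000002005001010010000002004002004)) (.cD (nat_lit 40) (.kF (nat_lit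 8) (nat_lit 0x41001000002007001024004000002004002004)) (.cD (nat_lit 64) (.kF (nat_lit 64) (nat_lit 0x4016003022002000001004002003)) (.cD (nat_lit 72) (.kF (nat_lit 72) (nat_lit 0x4016003022002000001004002003)) (.cD (nat_lit 96) (.dfs (nat_lit 140) (nat_lit 4100) (nat_lit 4100) (nat_lit 0x1002001) (nat_lit 0x1002001) (nat_lit 0) (nat_lit 0) (nat_lit 3) (nat_lit 0) (nat_lit 0) (nat_lit 0) (nat_lit 1) (nat_lit 0) (nat_lit 1) (nat_lit 0) (nat_lit 1) (nat_lit 0x101000001010000010100000100) (.cD (nat_lit 8) (.kc (nat_lit 172) (nat_lit 0x5001001)) (.cD (nat_lit 32) (.kA true (nat_lit 0x2400400000100200600b001022002000003)) (.cD (nat_lit 40) (.kA true (nat_lit 0xe00800a01600300100200600b001022002000003)) (.cD (nat_lit 64) (.kA true (nat_lit 0x2200200000700100200b002041001000003)) (.cD (nat_lit 72) (.kA true (nat_lit 0xc00e004016003022002000004005002008002003)) (.cD (nat_lit 96) (.kc (nat_lit 204) (nat_lit 0x3001001)) (.cD (nat_lit 104) (.kc (nat_lit 236) (nat_lit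 0x7001001)) .nil)))))))) (.cD (nat_lit 104) (.dfs (nat_lit 140) (nat_lit 4100) (nat_lit 4100) (nat_lit 0x1002001) (nat_lit 0x1002001) (nat_lit 0) (nat_lit 0) (nat_lit 3) (nat_lit 0) (nat_lit 0) (nat_lit 0) (nat_lit 1) (nat_lit 0) (nat_lit 1) (nat_lit 0) (nat_lit 1) (nat_lit 0x101000001010000010100000100) (.cD (nat_lit 8) (.kc (nat_lit 172) (nat_lit 0x5001001)) (.cD (nat_lit 32) (.dfs (nat_lit 9) (nat_lit 4097) (nat_lit 4101) (nat_lit 1) (nat_lit 1) (nat_lit 6) (nat_lit 0) (nat_lit 1) (nat_lit 4128) (nat_lit 0x80040020010008024022041) (nat_lit 0) (nat_lit 1) (nat_lit 0) (nat_lit 1) (nat_lit 0) (nat_lit 1) (nat_lit 0) .nil) (.cD (nat_lit 40) (.dfs (nat_lit 9) (nat_lit 4099) (nat_lit 4103) (nat_lit 1) (nat_lit 1) (nat_lit 6) (nat_lit 0) (nat_lit 1) (nat_lit 4160) (nat_lit 0x80040020010008024022041) (nat_lit 0) (nat_lit 1) (nat_lit 0) (nat_lit 1) (nat_lit 0) (nat_lit 1) (nat_lit 0) .nil) (.cD (nat_lit 64) (.kA true (nat_lit 0xc002008016003022002000004001006008002003))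 (.cD (nat_lit 72) (.kA true (nat_lit 0x2200200000700500600b002041001000003)) (.cD (nat_lit 96) (.kc (nat_lit 236) (nat_lit 0x7001001)) (.cD (nat_lit 104) (.kc (nat_lit 204) (nat_lit 0x3001001)) .nil)))))))) .nil)))))))) (.cD (nat_lit 16) (.dfs (nat_lit 64) (nat_lit 4098) (nat_lit 4098) (nat_lit 4097) (nat_lit 4097) (nat_lit 0) (nat_lit 0) (nat_lit 3) (nat_lit 0) (nat_lit 0) (nat_lit 0) (nat_lit 1) (nat_lit 0) (nat_lit 1) (nat_lit 0) (nat_lit 1) (nat_lit 0x10001000100010001000100010000) (.cD (nat_lit 16) (.kc (nat_lit 96) (nat_lit 0x3001001)) (.cD (nat_lit 32) (.dfs (nat_lit 140) (nat_lit 4100) (nat_lit 4100) (nat_lit 0x1002001) (nat_lit 0x1002001) (nat_lit 0) (nat_lit 0) (nat_lit 3) (nat_lit 0) (nat_lit 0) (nat_lit 0) (nat_lit 1) (nat_lit 0) (nat_lit 1) (nat_lit 0) (nat_lit 1) (nat_lit 0x10001000100010001000100010000) (.cD (nat_lit 16) (.kc (nat_lit 172) (nat_lit 0x5001001)) (.cD (nat_lit 32) (.kc (nat_lit 204) (nat_lit 0x3001001)) (.cD (nat_lit 48) (.kc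 (nat_lit 236) (nat_lit 0x7001001)) (.cD (nat_lit 64) (.kA false (nat_lit 0xc002004016003022002000004001002008002003)) (.cD (nat_lit 80) (.kA false (nat_lit 0xc00e004016003022002000004005002008002003)) (.cD (nat_lit 96) (.kA false (nat_lit 0x2200200000400300200b002024004000003)) (.cD (nat_lit 112) (.kA false (nat_lit 0x2200200000400700200b002022002000003)) .nil)))))))) (.cD (nat_lit 48) (.dfs (nat_lit 140) (nat_lit 4100) (nat_lit 4100) (nat_lit 0x1002001) (nat_lit 0x1002001) (nat_lit 0) (nat_lit 0) (nat_lit 3) (nat_lit 0) (nat_lit 0) (nat_lit 0) (nat_lit 1) (nat_lit 0) (nat_lit 1) (nat_lit 0) (nat_lit 1) (nat_lit 0x10001000100010001000100010000) (.cD (nat_lit 16) (.kc (nat_lit 172) (nat_lit 0x5001001)) (.cD (nat_lit 32) (.kc (nat_lit 236) (nat_lit 0x7001001)) (.cD (nat_lit 48) (.kc (nat_lit 204) (nat_lit 0x3001001)) (.cD (nat_lit 64) (.kA false (nat_lit 0xc002008016003022002000004001006008002003)) (.cD (nat_lit 80) (.kA false (nat_lit 0xc00e008016003022002000004005006008002003))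 (.cD (nat_lit 96) (.kA false (nat_lit 0x2200200000400700600b002022002000003)) (.cD (nat_lit 112) (.kA false (nat_lit 0x2200200000400300600b002024004000003)) .nil)))))))) (.cD (nat_lit 64) (.kF (nat_lit 64) (nat_lit 0x4016003022002000001004002003)) (.cD (nat_lit 80) (.kF (nat_lit 80) (nat_lit 0x4016003022002000001004002003)) (.cD (nat_lit 96) (.dfs (nat_lit 140) (nat_lit 4100) (nat_lit 4100) (nat_lit 0x1002001) (nat_lit 0x1002001) (nat_lit 0) (nat_lit 0) (nat_lit 3) (nat_lit 0) (nat_lit 0) (nat_lit 0) (nat_lit 1) (nat_lit 0) (nat_lit 1) (nat_lit 0) (nat_lit 1) (nat_lit 0x10001000100010001000100010000) (.cD (nat_lit 16) (.kc (nat_lit 172) (nat_lit 0x5001001)) (.cD (nat_lit 32) (.kA false (nat_lit 0x2200200000400300100b002024004000003)) (.cD (nat_lit 48) (.kA false (nat_lit 0x2200200000400700500b002022002000003)) (.cD (nat_lit 64) (.kA false (nat_lit 0x2200200000500100300b002041001000003)) (.cD (nat_lit 80) (.kA false (nat_lit 0xc00e00a016003022002000004005007008002003))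 (.cD (nat_lit 96) (.kc (nat_lit 204) (nat_lit 0x3001001)) (.cD (nat_lit 112) (.kc (nat_lit 236) (nat_lit 0x7001001)) .nil)))))))) (.cD (nat_lit 112) (.dfs (nat_lit 140) (nat_lit 4100) (nat_lit 4100) (nat_lit 0x1002001) (nat_lit 0x1002001) (nat_lit 0) (nat_lit 0) (nat_lit 3) (nat_lit 0) (nat_lit 0) (nat_lit 0) (nat_lit 1) (nat_lit 0) (nat_lit 1) (nat_lit 0) (nat_lit 1) (nat_lit 0x10001000100010001000100010000) (.cD (nat_lit 16) (.kc (nat_lit 172) (nat_lit 0x5001001)) (.cD (nat_lit 32) (.kA false (nat_lit 0x2200200000400700100b002022002000003)) (.cD (nat_lit 48) (.kA false (nat_lit 0x2200200000400300500b002024004000003)) (.cD (nat_lit 64) (.kA false (nat_lit 0xc00200a016003022002000004001007008002003)) (.cD (nat_lit 80) (.kA false (nat_lit 0x2200200000100500300b002041001000003)) (.cD (nat_lit 96) (.kc (nat_lit 236) (nat_lit 0x7001001)) (.cD (nat_lit 112) (.kc (nat_lit 204) (nat_lit 0x3001001)) .nil)))))))) .nil)))))))) (.cD (nat_lit 32) (.kF (nat_lit 32)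 (nat_lit 0xc016003022002000001002002003)) (.cD (nat_lit 40) (.kF (nat_lit 40) (nat_lit 0xc016003022002000001002002003)) (.cD (nat_lit 48) (.kF (nat_lit 48) (nat_lit 0xc016003022002000001002002003)) (.cD (nat_lit 64) (.dfs (nat_lit 64) (nat_lit 4098) (nat_lit 4098) (nat_lit 4097) (nat_lit 4097) (nat_lit 0) (nat_lit 0) (nat_lit 3) (nat_lit 0) (nat_lit 0) (nat_lit 0) (nat_lit 1) (nat_lit 0) (nat_lit 0x1010008) (nat_lit 65544) (nat_lit 0x1001008000010001028000030) (nat_lit 0x1000000010001010100010100) (.cD (nat_lit 8) (.kF (nat_lit 8) (nat_lit 0x4016003022002000001004002003)) (.cD (nat_lit 16) (.kF (nat_lit 16) (nat_lit 0x4016003022002000001004002003)) (.cD (nat_lit 32) (.dfs (nat_lit 140) (nat_lit 4100) (nat_lit 4100) (nat_lit 0x1002001) (nat_lit 0x1002001) (nat_lit 0) (nat_lit 0) (nat_lit 3) (nat_lit 0) (nat_lit 0) (nat_lit 0) (nat_lit 1) (nat_lit 0) (nat_lit 0x1010008) (nat_lit 65544) (nat_lit 0x1001008000010001028000030) (nat_lit 0x1000000010001010100010100)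 (.cD (nat_lit 8) (.kA true (nat_lit 0x200c008016003022002000001004006008002003)) (.cD (nat_lit 16) (.kA false (nat_lit 0x200c004016003022002000001004002008002003)) (.cD (nat_lit 32) (.kc (nat_lit 204) (nat_lit 0x3001001)) (.cD (nat_lit 40) (.dfs (nat_lit 9) (nat_lit 0x1003004006008) (nat_lit 0x1007004006008) (nat_lit 0x1002001) (nat_lit 0x1002005) (nat_lit 6) (nat_lit 0) (nat_lit 2) (nat_lit 1) (nat_lit 0) (nat_lit 16) (nat_lit 1) (nat_lit 0) (nat_lit 1) (nat_lit 0) (nat_lit 1) (nat_lit 0) .nil) (.cD (nat_lit 48) (.kA false (nat_lit 0x600c004016003022002000003004002008002003)) (.cD (nat_lit 64) (.kc (nat_lit 172) (nat_lit 0x5001001)) (.cD (nat_lit 96) (.kc (nat_lit 236) (nat_lit 0x7001001)) .nil)))))))) (.cD (nat_lit 40) (.kF (nat_lit 40) (nat_lit 0x24004000001006001041001000001004002004)) (.cD (nat_lit 48) (.dfs (nat_lit 140) (nat_lit 4100) (nat_lit 4100) (nat_lit 0x1002001) (nat_lit 0x1002001) (nat_lit 0) (nat_lit 0) (nat_lit 3) (nat_lit 0) (nat_lit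 0) (nat_lit 0) (nat_lit 1) (nat_lit 0) (nat_lit 1) (nat_lit 0) (nat_lit 1) (nat_lit 0x10001000100010001000100010000) (.cD (nat_lit 16) (.kA false (nat_lit 0x2200200000500400300b002041001000003)) (.cD (nat_lit 32) (.kA false (nat_lit 0x600c002016003022002000003004001008002003)) (.cD (nat_lit 48) (.kc (nat_lit 204) (nat_lit 0x3001001)) (.cD (nat_lit 64) (.kc (nat_lit 172) (nat_lit 0x5001001)) (.cD (nat_lit 80) (.kA false (nat_lit 0xe00c00a016003022002000005004007008002003)) (.cD (nat_lit 96) (.kA false (nat_lit 0x2200200000700400500b002022002000003)) (.cD (nat_lit 112) (.kc (nat_lit 236) (nat_lit 0x7001001)) .nil)))))))) (.cD (nat_lit 64) (.kc (nat_lit 96) (nat_lit 0x3001001)) (.cD (nat_lit 96) (.dfs (nat_lit 140) (nat_lit 4100) (nat_lit 4100) (nat_lit 0x1002001) (nat_lit 0x1002001) (nat_lit 0) (nat_lit 0) (nat_lit 3) (nat_lit 0) (nat_lit 0) (nat_lit 0) (nat_lit 1) (nat_lit 0) (nat_lit 0x1010008) (nat_lit 65544) (nat_lit 0x1001008000010001028000030) (nat_lit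 0x1000000010001010100010100) (.cD (nat_lit 8) (.kA true (nat_lit 0x200c004016003022002000001004002008002003)) (.cD (nat_lit 16) (.kA false (nat_lit 0x200c008016003022002000001004006008002003)) (.cD (nat_lit 32) (.kc (nat_lit 236) (nat_lit 0x7001001)) (.cD (nat_lit 40) (.kA true (nat_lit 0xe00800c01600300100200600b001022002000003)) (.cD (nat_lit 48) (.kA false (nat_lit 0x2200200000700400600b002022002000003)) (.cD (nat_lit 64) (.kc (nat_lit 172) (nat_lit 0x5001001)) (.cD (nat_lit 96) (.kc (nat_lit 204) (nat_lit 0x3001001)) .nil)))))))) .nil)))))))) (.cD (nat_lit 96) (.kF (nat_lit 96) (nat_lit 0xc016003022002000001002002003)) .nil))))))))))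
theorem c743 : (chk [] [] p743).n x378 s743 = true := by decide +kernel
noncomputable def p744 : Pf := (.anc (nat_lit 28) (nat_lit 0x16001022002000002) (nat_lit 0x100908c040020) (.czp (nat_lit 128) (nat_lit 0) (nat_lit 0x1080040020010008) z3 (.dfs (nat_lit 32) (nat_lit 4097) (nat_lit 4097) (nat_lit 1) (nat_lit 1) (nat_lit 0) (nat_lit 0) (nat_lit 3) (nat_lit 0) (nat_lit 0) (nat_lit 0) (nat_lit 1) (nat_lit 0) (nat_lit 0x1010008) (nat_lit 65544) (nat_lit 0x1001008000010001028000030) (nat_lit 0x1000000010001010100010100) (.cD (nat_lit 8) (.dfs (nat_lit 64) (nat_lit 4098) (nat_lit 4098) (nat_lit 4097) (nat_lit 4097) (nat_lit 0) (nat_lit 0) (nat_lit 3) (nat_lit 0) (nat_lit 0) (nat_lit 0) (nat_lit 1) (nat_lit 0) (nat_lit 1) (nat_lit 0) (nat_lit 1) (nat_lit 0x101000001010000010100000100) (.cD (nat_lit 8) (.kc (nat_lit 96) (nat_lit 0x3001001)) (.cD (nat_lit 32) (.kF (nat_lit 8) (nat_lit 0x41001000002005001010010000002004002004)) (.cD (nat_lit 40) (.kF (nat_lit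 8) (nat_lit 0x41001000002007001024004000002004002004)) (.cD (nat_lit 64) (.kF (nat_lit 64) (nat_lit 0x4016003022002000001004002003)) (.cD (nat_lit 72) (.kF (nat_lit 72) (nat_lit 0x4016003022002000001004002003)) (.cD (nat_lit 96) (.dfs (nat_lit 140) (nat_lit 4100) (nat_lit 4100) (nat_lit 0x1002001) (nat_lit 0x1002001) (nat_lit 0) (nat_lit 0) (nat_lit 3) (nat_lit 0) (nat_lit 0) (nat_lit 0) (nat_lit 1) (nat_lit 0) (nat_lit 1) (nat_lit 0) (nat_lit 1) (nat_lit 0x101000001010000010100000100) (.cD (nat_lit 8) (.kc (nat_lit 172) (nat_lit 0x5001001)) (.cD (nat_lit 32) (.kA true (nat_lit 0x2400400000100200600b001022002000003)) (.cD (nat_lit 40) (.kA true (nat_lit 0xe00800a01600300100200600b001022002000003)) (.cD (nat_lit 64) (.kA true (nat_lit 0x2200200000700100200b002041001000003)) (.cD (nat_lit 72) (.kA true (nat_lit 0xc00e004016003022002000004005002008002003)) (.cD (nat_lit 96) (.kc (nat_lit 204) (nat_lit 0x3001001)) (.cD (nat_lit 104) (.kc (nat_lit 236) (nat_lit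 0x7001001)) .nil)))))))) (.cD (nat_lit 104) (.dfs (nat_lit 140) (nat_lit 4100) (nat_lit 4100) (nat_lit 0x1002001) (nat_lit 0x1002001) (nat_lit 0) (nat_lit 0) (nat_lit 3) (nat_lit 0) (nat_lit 0) (nat_lit 0) (nat_lit 1) (nat_lit 0) (nat_lit 1) (nat_lit 0) (nat_lit 1) (nat_lit 0x101000001010000010100000100) (.cD (nat_lit 8) (.kc (nat_lit 172) (nat_lit 0x5001001)) (.cD (nat_lit 32) (.dfs (nat_lit 9) (nat_lit 4097) (nat_lit 4101) (nat_lit 1) (nat_lit 1) (nat_lit 6) (nat_lit 0) (nat_lit 1) (nat_lit 4128) (nat_lit 0x80040020010008024022041) (nat_lit 0) (nat_lit 1) (nat_lit 0) (nat_lit 1) (nat_lit 0) (nat_lit 1) (nat_lit 0) .nil) (.cD (nat_lit 40) (.dfs (nat_lit 9) (nat_lit 4099) (nat_lit 4103) (nat_lit 1) (nat_lit 1) (nat_lit 6) (nat_lit 0) (nat_lit 1) (nat_lit 4160) (nat_lit 0x80040020010008024022041) (nat_lit 0) (nat_lit 1) (nat_lit 0) (nat_lit 1) (nat_lit 0) (nat_lit 1) (nat_lit 0) .nil) (.cD (nat_lit 64) (.kA true (nat_lit 0xc002008016003022002000004001006008002003))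 (.cD (nat_lit 72) (.kA true (nat_lit 0x2200200000700500600b002041001000003)) (.cD (nat_lit 96) (.kc (nat_lit 236) (nat_lit 0x7001001)) (.cD (nat_lit 104) (.kc (nat_lit 204) (nat_lit 0x3001001)) .nil)))))))) .nil)))))))) (.cD (nat_lit 16) (.dfs (nat_lit 64) (nat_lit 4098) (nat_lit 4098) (nat_lit 4097) (nat_lit 4097) (nat_lit 0) (nat_lit 0) (nat_lit 3) (nat_lit 0) (nat_lit 0) (nat_lit 0) (nat_lit 1) (nat_lit 0) (nat_lit 1) (nat_lit 0) (nat_lit 1) (nat_lit 0x10001000100010001000100010000) (.cD (nat_lit 16) (.kc (nat_lit 96) (nat_lit 0x3001001)) (.cD (nat_lit 32) (.dfs (nat_lit 140) (nat_lit 4100) (nat_lit 4100) (nat_lit 0x1002001) (nat_lit 0x1002001) (nat_lit 0) (nat_lit 0) (nat_lit 3) (nat_lit 0) (nat_lit 0) (nat_lit 0) (nat_lit 1) (nat_lit 0) (nat_lit 1) (nat_lit 0) (nat_lit 1) (nat_lit 0x10001000100010001000100010000) (.cD (nat_lit 16) (.kc (nat_lit 172) (nat_lit 0x5001001)) (.cD (nat_lit 32) (.kc (nat_lit 204) (nat_lit 0x3001001)) (.cD (nat_lit 48) (.kc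 (nat_lit 236) (nat_lit 0x7001001)) (.cD (nat_lit 64) (.kA false (nat_lit 0xc002004016003022002000004001002008002003)) (.cD (nat_lit 80) (.kA false (nat_lit 0xc00e004016003022002000004005002008002003)) (.cD (nat_lit 96) (.kA false (nat_lit 0x2200200000400300200b002024004000003)) (.cD (nat_lit 112) (.kA false (nat_lit 0x2200200000400700200b002022002000003)) .nil)))))))) (.cD (nat_lit 48) (.dfs (nat_lit 140) (nat_lit 4100) (nat_lit 4100) (nat_lit 0x1002001) (nat_lit 0x1002001) (nat_lit 0) (nat_lit 0) (nat_lit 3) (nat_lit 0) (nat_lit 0) (nat_lit 0) (nat_lit 1) (nat_lit 0) (nat_lit 1) (nat_lit 0) (nat_lit 1) (nat_lit 0x10001000100010001000100010000) (.cD (nat_lit 16) (.kc (nat_lit 172) (nat_lit 0x5001001)) (.cD (nat_lit 32) (.kc (nat_lit 236) (nat_lit 0x7001001)) (.cD (nat_lit 48) (.kc (nat_lit 204) (nat_lit 0x3001001)) (.cD (nat_lit 64) (.kA false (nat_lit 0xc002008016003022002000004001006008002003)) (.cD (nat_lit 80) (.kA false (nat_lit 0xc00e008016003022002000004005006008002003))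 (.cD (nat_lit 96) (.kA false (nat_lit 0x2200200000400700600b002022002000003)) (.cD (nat_lit 112) (.kA false (nat_lit 0x2200200000400300600b002024004000003)) .nil)))))))) (.cD (nat_lit 64) (.kF (nat_lit 64) (nat_lit 0x4016003022002000001004002003)) (.cD (nat_lit 80) (.kF (nat_lit 80) (nat_lit 0x4016003022002000001004002003)) (.cD (nat_lit 96) (.dfs (nat_lit 140) (nat_lit 4100) (nat_lit 4100) (nat_lit 0x1002001) (nat_lit 0x1002001) (nat_lit 0) (nat_lit 0) (nat_lit 3) (nat_lit 0) (nat_lit 0) (nat_lit 0) (nat_lit 1) (nat_lit 0) (nat_lit 1) (nat_lit 0) (nat_lit 1) (nat_lit 0x10001000100010001000100010000) (.cD (nat_lit 16) (.kc (nat_lit 172) (nat_lit 0x5001001)) (.cD (nat_lit 32) (.kA false (nat_lit 0x2200200000400300100b002024004000003)) (.cD (nat_lit 48) (.kA false (nat_lit 0x2200200000400700500b002022002000003)) (.cD (nat_lit 64) (.kA false (nat_lit 0x2200200000500100300b002041001000003)) (.cD (nat_lit 80) (.kA false (nat_lit 0xc00e00a016003022002000004005007008002003))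 (.cD (nat_lit 96) (.kc (nat_lit 204) (nat_lit 0x3001001)) (.cD (nat_lit 112) (.kc (nat_lit 236) (nat_lit 0x7001001)) .nil)))))))) (.cD (nat_lit 112) (.dfs (nat_lit 140) (nat_lit 4100) (nat_lit 4100) (nat_lit 0x1002001) (nat_lit 0x1002001) (nat_lit 0) (nat_lit 0) (nat_lit 3) (nat_lit 0) (nat_lit 0) (nat_lit 0) (nat_lit 1) (nat_lit 0) (nat_lit 1) (nat_lit 0) (nat_lit 1) (nat_lit 0x10001000100010001000100010000) (.cD (nat_lit 16) (.kc (nat_lit 172) (nat_lit 0x5001001)) (.cD (nat_lit 32) (.kA false (nat_lit 0x2200200000400700100b002022002000003)) (.cD (nat_lit 48) (.kA false (nat_lit 0x2200200000400300500b002024004000003)) (.cD (nat_lit 64) (.kA false (nat_lit 0xc00200a016003022002000004001007008002003)) (.cD (nat_lit 80) (.kA false (nat_lit 0x2200200000100500300b002041001000003)) (.cD (nat_lit 96) (.kc (nat_lit 236) (nat_lit 0x7001001)) (.cD (nat_lit 112) (.kc (nat_lit 204) (nat_lit 0x3001001)) .nil)))))))) .nil)))))))) (.cD (nat_lit 32) (.kF (nat_lit 32)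 (nat_lit 0xc016003022002000001002002003)) (.cD (nat_lit 40) (.kF (nat_lit 40) (nat_lit 0xc016003022002000001002002003)) (.cD (nat_lit 48) (.kF (nat_lit 48) (nat_lit 0xc016003022002000001002002003)) (.cD (nat_lit 64) (.dfs (nat_lit 64) (nat_lit 4098) (nat_lit 4098) (nat_lit 4097) (nat_lit 4097) (nat_lit 0) (nat_lit 0) (nat_lit 3) (nat_lit 0) (nat_lit 0) (nat_lit 0) (nat_lit 1) (nat_lit 0) (nat_lit 0x1010008) (nat_lit 65544) (nat_lit 0x1001008000010001028000030) (nat_lit 0x1000000010001010100010100) (.cD (nat_lit 8) (.kF (nat_lit 8) (nat_lit 0x4016003022002000001004002003)) (.cD (nat_lit 16) (.kF (nat_lit 16) (nat_lit 0x4016003022002000001004002003)) (.cD (nat_lit 32) (.dfs (nat_lit 140) (nat_lit 4100) (nat_lit 4100) (nat_lit 0x1002001) (nat_lit 0x1002001) (nat_lit 0) (nat_lit 0) (nat_lit 3) (nat_lit 0) (nat_lit 0) (nat_lit 0) (nat_lit 1) (nat_lit 0) (nat_lit 0x1010008) (nat_lit 65544) (nat_lit 0x1001008000010001028000030) (nat_lit 0x1000000010001010100010100)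 (.cD (nat_lit 8) (.kA true (nat_lit 0x200c008016003022002000001004006008002003)) (.cD (nat_lit 16) (.kA false (nat_lit 0x200c004016003022002000001004002008002003)) (.cD (nat_lit 32) (.kc (nat_lit 204) (nat_lit 0x3001001)) (.cD (nat_lit 40) (.dfs (nat_lit 9) (nat_lit 0x1003004006008) (nat_lit 0x1007004006008) (nat_lit 0x1002001) (nat_lit 0x1002005) (nat_lit 6) (nat_lit 0) (nat_lit 2) (nat_lit 1) (nat_lit 0) (nat_lit 16) (nat_lit 1) (nat_lit 0) (nat_lit 1) (nat_lit 0) (nat_lit 1) (nat_lit 0) .nil) (.cD (nat_lit 48) (.kA false (nat_lit 0x600c004016003022002000003004002008002003)) (.cD (nat_lit 64) (.kc (nat_lit 172) (nat_lit 0x5001001)) (.cD (nat_lit 96) (.kc (nat_lit 236) (nat_lit 0x7001001)) .nil)))))))) (.cD (nat_lit 40) (.kF (nat_lit 40) (nat_lit 0x24004000001006001041001000001004002004)) (.cD (nat_lit 48) (.dfs (nat_lit 140) (nat_lit 4100) (nat_lit 4100) (nat_lit 0x1002001) (nat_lit 0x1002001) (nat_lit 0) (nat_lit 0) (nat_lit 3) (nat_lit 0) (nat_lit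 0) (nat_lit 0) (nat_lit 1) (nat_lit 0) (nat_lit 1) (nat_lit 0) (nat_lit 1) (nat_lit 0x10001000100010001000100010000) (.cD (nat_lit 16) (.kA false (nat_lit 0x2200200000500400300b002041001000003)) (.cD (nat_lit 32) (.kA false (nat_lit 0x600c002016003022002000003004001008002003)) (.cD (nat_lit 48) (.kc (nat_lit 204) (nat_lit 0x3001001)) (.cD (nat_lit 64) (.kc (nat_lit 172) (nat_lit 0x5001001)) (.cD (nat_lit 80) (.kA false (nat_lit 0xe00c00a016003022002000005004007008002003)) (.cD (nat_lit 96) (.kA false (nat_lit 0x2200200000700400500b002022002000003)) (.cD (nat_lit 112) (.kc (nat_lit 236) (nat_lit 0x7001001)) .nil)))))))) (.cD (nat_lit 64) (.kc (nat_lit 96) (nat_lit 0x3001001)) (.cD (nat_lit 96) (.dfs (nat_lit 140) (nat_lit 4100) (nat_lit 4100) (nat_lit 0x1002001) (nat_lit 0x1002001) (nat_lit 0) (nat_lit 0) (nat_lit 3) (nat_lit 0) (nat_lit 0) (nat_lit 0) (nat_lit 1) (nat_lit 0) (nat_lit 0x1010008) (nat_lit 65544) (nat_lit 0x1001008000010001028000030) (nat_lit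 0x1000000010001010100010100) (.cD (nat_lit 8) (.kA true (nat_lit 0x200c004016003022002000001004002008002003)) (.cD (nat_lit 16) (.kA false (nat_lit 0x200c008016003022002000001004006008002003)) (.cD (nat_lit 32) (.kc (nat_lit 236) (nat_lit 0x7001001)) (.cD (nat_lit 40) (.kA true (nat_lit 0xe00800c01600300100200600b001022002000003)) (.cD (nat_lit 48) (.kA false (nat_lit 0x2200200000700400600b002022002000003)) (.cD (nat_lit 64) (.kc (nat_lit 172) (nat_lit 0x5001001)) (.cD (nat_lit 96) (.kc (nat_lit 204) (nat_lit 0x3001001)) .nil)))))))) .nil)))))))) (.cD (nat_lit 96) (.kF (nat_lit 96) (nat_lit 0xc016003022002000001002002003)) .nil))))))))))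
theorem c744 : (chk [] [] p744).n x379 s744 = true := by decide +kernel
noncomputable def p745 : Pf := (.anc (nat_lit 28) (nat_lit 0x16001022002000002) (nat_lit 0x100908c040020) (.czp (nat_lit 128) (nat_lit 0) (nat_lit 0x1080040020010008) z3 (.dfs (nat_lit 32) (nat_lit 4097) (nat_lit 4097) (nat_lit 1) (nat_lit 1) (nat_lit 0) (nat_lit 0) (nat_lit 3) (nat_lit 0) (nat_lit 0) (nat_lit 0) (nat_lit 1) (nat_lit 0) (nat_lit 0x1010008) (nat_lit 65544) (nat_lit 0x1001008000010001028000030) (nat_lit 0x1000000010001010100010100) (.cD (nat_lit 8) (.dfs (nat_lit 64) (nat_lit 4098) (nat_lit 4098) (nat_lit 4097) (nat_lit 4097) (nat_lit 0) (nat_lit 0) (nat_lit 3) (nat_lit 0) (nat_lit 0) (nat_lit 0) (nat_lit 1) (nat_lit 0) (nat_lit 1) (nat_lit 0) (nat_lit 1) (nat_lit 0x101000001010000010100000100) (.cD (nat_lit 8) (.kc (nat_lit 96) (nat_lit 0x3001001)) (.cD (nat_lit 32) (.kF (nat_lit 8) (nat_lit 0x61001000002005001010010000002004002004)) (.cD (nat_lit 40) (.kF (nat_lit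 8) (nat_lit 0x61001000002007001024004000002004002004)) (.cD (nat_lit 64) (.kF (nat_lit 64) (nat_lit 0x4016003022002000001004002003)) (.cD (nat_lit 72) (.kF (nat_lit 72) (nat_lit 0x4016003022002000001004002003)) (.cD (nat_lit 96) (.dfs (nat_lit 140) (nat_lit 4100) (nat_lit 4100) (nat_lit 0x1002001) (nat_lit 0x1002001) (nat_lit 0) (nat_lit 0) (nat_lit 3) (nat_lit 0) (nat_lit 0) (nat_lit 0) (nat_lit 1) (nat_lit 0) (nat_lit 1) (nat_lit 0) (nat_lit 1) (nat_lit 0x101000001010000010100000100) (.cD (nat_lit 8) (.kc (nat_lit 172) (nat_lit 0x5001001)) (.cD (nat_lit 32) (.kA true (nat_lit 0x2400400000100200600b001022002000003)) (.cD (nat_lit 40) (.kA true (nat_lit 0xe00800a01600300100200600b001022002000003)) (.cD (nat_lit 64) (.kA true (nat_lit 0x2200200000700100200b002061001000003)) (.cD (nat_lit 72) (.kA true (nat_lit 0xc00e004016003022002000004005002008002003)) (.cD (nat_lit 96) (.kc (nat_lit 204) (nat_lit 0x3001001)) (.cD (nat_lit 104) (.kc (nat_lit 236) (nat_lit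 0x7001001)) .nil)))))))) (.cD (nat_lit 104) (.dfs (nat_lit 140) (nat_lit 4100) (nat_lit 4100) (nat_lit 0x1002001) (nat_lit 0x1002001) (nat_lit 0) (nat_lit 0) (nat_lit 3) (nat_lit 0) (nat_lit 0) (nat_lit 0) (nat_lit 1) (nat_lit 0) (nat_lit 1) (nat_lit 0) (nat_lit 1) (nat_lit 0x101000001010000010100000100) (.cD (nat_lit 8) (.kc (nat_lit 172) (nat_lit 0x5001001)) (.cD (nat_lit 32) (.dfs (nat_lit 9) (nat_lit 4097) (nat_lit 4101) (nat_lit 1) (nat_lit 1) (nat_lit 2) (nat_lit 0) (nat_lit 1) (nat_lit 4128) (nat_lit 0x80040020010008024022061) (nat_lit 0) (nat_lit 1) (nat_lit 0) (nat_lit 1) (nat_lit 0) (nat_lit 1) (nat_lit 0) .nil) (.cD (nat_lit 40) (.dfs (nat_lit 9) (nat_lit 4099) (nat_lit 4103) (nat_lit 1) (nat_lit 1) (nat_lit 2) (nat_lit 0) (nat_lit 1) (nat_lit 4160) (nat_lit 0x80040020010008024022061) (nat_lit 0) (nat_lit 1) (nat_lit 0) (nat_lit 1) (nat_lit 0) (nat_lit 1) (nat_lit 0) .nil) (.cD (nat_lit 64) (.kA true (nat_lit 0xc002008016003022002000004001006008002003))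 (.cD (nat_lit 72) (.kA true (nat_lit 0x2200200000700500600b002061001000003)) (.cD (nat_lit 96) (.kc (nat_lit 236) (nat_lit 0x7001001)) (.cD (nat_lit 104) (.kc (nat_lit 204) (nat_lit 0x3001001)) .nil)))))))) .nil)))))))) (.cD (nat_lit 16) (.dfs (nat_lit 64) (nat_lit 4098) (nat_lit 4098) (nat_lit 4097) (nat_lit 4097) (nat_lit 0) (nat_lit 0) (nat_lit 3) (nat_lit 0) (nat_lit 0) (nat_lit 0) (nat_lit 1) (nat_lit 0) (nat_lit 1) (nat_lit 0) (nat_lit 1) (nat_lit 0x10001000100010001000100010000) (.cD (nat_lit 16) (.kc (nat_lit 96) (nat_lit 0x3001001)) (.cD (nat_lit 32) (.dfs (nat_lit 140) (nat_lit 4100) (nat_lit 4100) (nat_lit 0x1002001) (nat_lit 0x1002001) (nat_lit 0) (nat_lit 0) (nat_lit 3) (nat_lit 0) (nat_lit 0) (nat_lit 0) (nat_lit 1) (nat_lit 0) (nat_lit 1) (nat_lit 0) (nat_lit 1) (nat_lit 0x10001000100010001000100010000) (.cD (nat_lit 16) (.kc (nat_lit 172) (nat_lit 0x5001001)) (.cD (nat_lit 32) (.kc (nat_lit 204) (nat_lit 0x3001001)) (.cD (nat_lit 48) (.kc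 (nat_lit 236) (nat_lit 0x7001001)) (.cD (nat_lit 64) (.kA false (nat_lit 0xc002004016003022002000004001002008002003)) (.cD (nat_lit 80) (.kA false (nat_lit 0xc00e004016003022002000004005002008002003)) (.cD (nat_lit 96) (.kA false (nat_lit 0x2200200000400300200b002024004000003)) (.cD (nat_lit 112) (.kA false (nat_lit 0x2200200000400700200b002022002000003)) .nil)))))))) (.cD (nat_lit 48) (.dfs (nat_lit 140) (nat_lit 4100) (nat_lit 4100) (nat_lit 0x1002001) (nat_lit 0x1002001) (nat_lit 0) (nat_lit 0) (nat_lit 3) (nat_lit 0) (nat_lit 0) (nat_lit 0) (nat_lit 1) (nat_lit 0) (nat_lit 1) (nat_lit 0) (nat_lit 1) (nat_lit 0x10001000100010001000100010000) (.cD (nat_lit 16) (.kc (nat_lit 172) (nat_lit 0x5001001)) (.cD (nat_lit 32) (.kc (nat_lit 236) (nat_lit 0x7001001)) (.cD (nat_lit 48) (.kc (nat_lit 204) (nat_lit 0x3001001)) (.cD (nat_lit 64) (.kA false (nat_lit 0xc002008016003022002000004001006008002003)) (.cD (nat_lit 80) (.kA false (nat_lit 0xc00e008016003022002000004005006008002003))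 (.cD (nat_lit 96) (.kA false (nat_lit 0x2200200000400700600b002022002000003)) (.cD (nat_lit 112) (.kA false (nat_lit 0x2200200000400300600b002024004000003)) .nil)))))))) (.cD (nat_lit 64) (.kF (nat_lit 64) (nat_lit 0x4016003022002000001004002003)) (.cD (nat_lit 80) (.kF (nat_lit 80) (nat_lit 0x4016003022002000001004002003)) (.cD (nat_lit 96) (.dfs (nat_lit 140) (nat_lit 4100) (nat_lit 4100) (nat_lit 0x1002001) (nat_lit 0x1002001) (nat_lit 0) (nat_lit 0) (nat_lit 3) (nat_lit 0) (nat_lit 0) (nat_lit 0) (nat_lit 1) (nat_lit 0) (nat_lit 1) (nat_lit 0) (nat_lit 1) (nat_lit 0x10001000100010001000100010000) (.cD (nat_lit 16) (.kc (nat_lit 172) (nat_lit 0x5001001)) (.cD (nat_lit 32) (.kA false (nat_lit 0x2200200000400300100b002024004000003)) (.cD (nat_lit 48) (.kA false (nat_lit 0x2200200000400700500b002022002000003)) (.cD (nat_lit 64) (.kA false (nat_lit 0x2200200000500100300b002061001000003)) (.cD (nat_lit 80) (.kA false (nat_lit 0xc00e00a016003022002000004005007008002003))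 (.cD (nat_lit 96) (.kc (nat_lit 204) (nat_lit 0x3001001)) (.cD (nat_lit 112) (.kc (nat_lit 236) (nat_lit 0x7001001)) .nil)))))))) (.cD (nat_lit 112) (.dfs (nat_lit 140) (nat_lit 4100) (nat_lit 4100) (nat_lit 0x1002001) (nat_lit 0x1002001) (nat_lit 0) (nat_lit 0) (nat_lit 3) (nat_lit 0) (nat_lit 0) (nat_lit 0) (nat_lit 1) (nat_lit 0) (nat_lit 1) (nat_lit 0) (nat_lit 1) (nat_lit 0x10001000100010001000100010000) (.cD (nat_lit 16) (.kc (nat_lit 172) (nat_lit 0x5001001)) (.cD (nat_lit 32) (.kA false (nat_lit 0x2200200000400700100b002022002000003)) (.cD (nat_lit 48) (.kA false (nat_lit 0x2200200000400300500b002024004000003)) (.cD (nat_lit 64) (.kA false (nat_lit 0xc00200a016003022002000004001007008002003)) (.cD (nat_lit 80) (.kA false (nat_lit 0x2200200000100500300b002061001000003)) (.cD (nat_lit 96) (.kc (nat_lit 236) (nat_lit 0x7001001)) (.cD (nat_lit 112) (.kc (nat_lit 204) (nat_lit 0x3001001)) .nil)))))))) .nil)))))))) (.cD (nat_lit 32) (.kF (nat_lit 32)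 (nat_lit 0xc016003022002000001002002003)) (.cD (nat_lit 40) (.kF (nat_lit 40) (nat_lit 0xc016003022002000001002002003)) (.cD (nat_lit 48) (.kF (nat_lit 48) (nat_lit 0xc016003022002000001002002003)) (.cD (nat_lit 64) (.dfs (nat_lit 64) (nat_lit 4098) (nat_lit 4098) (nat_lit 4097) (nat_lit 4097) (nat_lit 0) (nat_lit 0) (nat_lit 3) (nat_lit 0) (nat_lit 0) (nat_lit 0) (nat_lit 1) (nat_lit 0) (nat_lit 0x1010008) (nat_lit 65544) (nat_lit 0x1001008000010001028000030) (nat_lit 0x1000000010001010100010100) (.cD (nat_lit 8) (.kF (nat_lit 8) (nat_lit 0x4016003022002000001004002003)) (.cD (nat_lit 16) (.kF (nat_lit 16) (nat_lit 0x4016003022002000001004002003)) (.cD (nat_lit 32) (.dfs (nat_lit 140) (nat_lit 4100) (nat_lit 4100) (nat_lit 0x1002001) (nat_lit 0x1002001) (nat_lit 0) (nat_lit 0) (nat_lit 3) (nat_lit 0) (nat_lit 0) (nat_lit 0) (nat_lit 1) (nat_lit 0) (nat_lit 0x1010008) (nat_lit 65544) (nat_lit 0x1001008000010001028000030) (nat_lit 0x1000000010001010100010100)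 (.cD (nat_lit 8) (.kA true (nat_lit 0x200c008016003022002000001004006008002003)) (.cD (nat_lit 16) (.kA false (nat_lit 0x200c004016003022002000001004002008002003)) (.cD (nat_lit 32) (.kc (nat_lit 204) (nat_lit 0x3001001)) (.cD (nat_lit 40) (.dfs (nat_lit 9) (nat_lit 0x1003004006008) (nat_lit 0x1007004006008) (nat_lit 0x1002001) (nat_lit 0x1002005) (nat_lit 2) (nat_lit 0) (nat_lit 2) (nat_lit 1) (nat_lit 0) (nat_lit 16) (nat_lit 1) (nat_lit 0) (nat_lit 1) (nat_lit 0) (nat_lit 1) (nat_lit 0) .nil) (.cD (nat_lit 48) (.kA false (nat_lit 0x600c004016003022002000003004002008002003)) (.cD (nat_lit 64) (.kc (nat_lit 172) (nat_lit 0x5001001)) (.cD (nat_lit 96) (.kc (nat_lit 236) (nat_lit 0x7001001)) .nil)))))))) (.cD (nat_lit 40) (.kF (nat_lit 40) (nat_lit 0x24004000001006001061001000001004002004)) (.cD (nat_lit 48) (.dfs (nat_lit 140) (nat_lit 4100) (nat_lit 4100) (nat_lit 0x1002001) (nat_lit 0x1002001) (nat_lit 0) (nat_lit 0) (nat_lit 3) (nat_lit 0) (nat_lit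 0) (nat_lit 0) (nat_lit 1) (nat_lit 0) (nat_lit 1) (nat_lit 0) (nat_lit 1) (nat_lit 0x10001000100010001000100010000) (.cD (nat_lit 16) (.kA false (nat_lit 0x2200200000500400300b002061001000003)) (.cD (nat_lit 32) (.kA false (nat_lit 0x600c002016003022002000003004001008002003)) (.cD (nat_lit 48) (.kc (nat_lit 204) (nat_lit 0x3001001)) (.cD (nat_lit 64) (.kc (nat_lit 172) (nat_lit 0x5001001)) (.cD (nat_lit 80) (.kA false (nat_lit 0xe00c00a016003022002000005004007008002003)) (.cD (nat_lit 96) (.kA false (nat_lit 0x2200200000700400500b002022002000003)) (.cD (nat_lit 112) (.kc (nat_lit 236) (nat_lit 0x7001001)) .nil)))))))) (.cD (nat_lit 64) (.kc (nat_lit 96) (nat_lit 0x3001001)) (.cD (nat_lit 96) (.dfs (nat_lit 140) (nat_lit 4100) (nat_lit 4100) (nat_lit 0x1002001) (nat_lit 0x1002001) (nat_lit 0) (nat_lit 0) (nat_lit 3) (nat_lit 0) (nat_lit 0) (nat_lit 0) (nat_lit 1) (nat_lit 0) (nat_lit 0x1010008) (nat_lit 65544) (nat_lit 0x1001008000010001028000030) (nat_lit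 0x1000000010001010100010100) (.cD (nat_lit 8) (.kA true (nat_lit 0x200c004016003022002000001004002008002003)) (.cD (nat_lit 16) (.kA false (nat_lit 0x200c008016003022002000001004006008002003)) (.cD (nat_lit 32) (.kc (nat_lit 236) (nat_lit 0x7001001)) (.cD (nat_lit 40) (.kA true (nat_lit 0xe00800c01600300100200600b001022002000003)) (.cD (nat_lit 48) (.kA false (nat_lit 0x2200200000700400600b002022002000003)) (.cD (nat_lit 64) (.kc (nat_lit 172) (nat_lit 0x5001001)) (.cD (nat_lit 96) (.kc (nat_lit 204) (nat_lit 0x3001001)) .nil)))))))) .nil)))))))) (.cD (nat_lit 96) (.kF (nat_lit 96) (nat_lit 0xc016003022002000001002002003)) .nil))))))))))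
theorem c745 : (chk [] [] p745).n x380 s745 = true := by decide +kernel
noncomputable def p746 : Pf := (.anc (nat_lit 28) (nat_lit 0x16001022002000002) (nat_lit 0x100908c040020) (.czp (nat_lit 128) (nat_lit 0) (nat_lit 0x1080040020010008) z3 (.dfs (nat_lit 32) (nat_lit 4097) (nat_lit 4097) (nat_lit 1) (nat_lit 1) (nat_lit 0) (nat_lit 0) (nat_lit 3) (nat_lit 0) (nat_lit 0) (nat_lit 0) (nat_lit 1) (nat_lit 0) (nat_lit 0x1010008) (nat_lit 65544) (nat_lit 0x1001008000010001028000030) (nat_lit 0x1000000010001010100010100) (.cD (nat_lit 8) (.dfs (nat_lit 64) (nat_lit 4098) (nat_lit 4098) (nat_lit 4097) (nat_lit 4097) (nat_lit 0) (nat_lit 0) (nat_lit 3) (nat_lit 0) (nat_lit 0) (nat_lit 0) (nat_lit 1) (nat_lit 0) (nat_lit 1) (nat_lit 0) (nat_lit 1) (nat_lit 0x101000001010000010100000100) (.cD (nat_lit 8) (.kc (nat_lit 96) (nat_lit 0x3001001)) (.cD (nat_lit 32) (.kF (nat_lit 8) (nat_lit 0x61001000002005001010010000002004002004)) (.cD (nat_lit 40) (.kF (nat_lit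 8) (nat_lit 0x61001000002007001024004000002004002004)) (.cD (nat_lit 64) (.kF (nat_lit 64) (nat_lit 0x4016003022002000001004002003)) (.cD (nat_lit 72) (.kF (nat_lit 72) (nat_lit 0x4016003022002000001004002003)) (.cD (nat_lit 96) (.dfs (nat_lit 140) (nat_lit 4100) (nat_lit 4100) (nat_lit 0x1002001) (nat_lit 0x1002001) (nat_lit 0) (nat_lit 0) (nat_lit 3) (nat_lit 0) (nat_lit 0) (nat_lit 0) (nat_lit 1) (nat_lit 0) (nat_lit 1) (nat_lit 0) (nat_lit 1) (nat_lit 0x101000001010000010100000100) (.cD (nat_lit 8) (.kc (nat_lit 172) (nat_lit 0x5001001)) (.cD (nat_lit 32) (.kA true (nat_lit 0x2400400000100200600b001022002000003)) (.cD (nat_lit 40) (.kA true (nat_lit 0xe00800a01600300100200600b001022002000003)) (.cD (nat_lit 64) (.kA true (nat_lit 0x2200200000700100200b002061001000003)) (.cD (nat_lit 72) (.kA true (nat_lit 0xc00e004016003022002000004005002008002003)) (.cD (nat_lit 96) (.kc (nat_lit 204) (nat_lit 0x3001001)) (.cD (nat_lit 104) (.kc (nat_lit 236) (nat_lit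 0x7001001)) .nil)))))))) (.cD (nat_lit 104) (.dfs (nat_lit 140) (nat_lit 4100) (nat_lit 4100) (nat_lit 0x1002001) (nat_lit 0x1002001) (nat_lit 0) (nat_lit 0) (nat_lit 3) (nat_lit 0) (nat_lit 0) (nat_lit 0) (nat_lit 1) (nat_lit 0) (nat_lit 1) (nat_lit 0) (nat_lit 1) (nat_lit 0x101000001010000010100000100) (.cD (nat_lit 8) (.kc (nat_lit 172) (nat_lit 0x5001001)) (.cD (nat_lit 32) (.dfs (nat_lit 9) (nat_lit 4097) (nat_lit 4101) (nat_lit 1) (nat_lit 1) (nat_lit 2) (nat_lit 0) (nat_lit 1) (nat_lit 4128) (nat_lit 0x80040020010008024022061) (nat_lit 0) (nat_lit 1) (nat_lit 0) (nat_lit 1) (nat_lit 0) (nat_lit 1) (nat_lit 0) .nil) (.cD (nat_lit 40) (.dfs (nat_lit 9) (nat_lit 4099) (nat_lit 4103) (nat_lit 1) (nat_lit 1) (nat_lit 2) (nat_lit 0) (nat_lit 1) (nat_lit 4160) (nat_lit 0x80040020010008024022061) (nat_lit 0) (nat_lit 1) (nat_lit 0) (nat_lit 1) (nat_lit 0) (nat_lit 1) (nat_lit 0) .nil) (.cD (nat_lit 64) (.kA true (nat_lit 0xc002008016003022002000004001006008002003))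 (.cD (nat_lit 72) (.kA true (nat_lit 0x2200200000700500600b002061001000003)) (.cD (nat_lit 96) (.kc (nat_lit 236) (nat_lit 0x7001001)) (.cD (nat_lit 104) (.kc (nat_lit 204) (nat_lit 0x3001001)) .nil)))))))) .nil)))))))) (.cD (nat_lit 16) (.dfs (nat_lit 64) (nat_lit 4098) (nat_lit 4098) (nat_lit 4097) (nat_lit 4097) (nat_lit 0) (nat_lit 0) (nat_lit 3) (nat_lit 0) (nat_lit 0) (nat_lit 0) (nat_lit 1) (nat_lit 0) (nat_lit 1) (nat_lit 0) (nat_lit 1) (nat_lit 0x10001000100010001000100010000) (.cD (nat_lit 16) (.kc (nat_lit 96) (nat_lit 0x3001001)) (.cD (nat_lit 32) (.dfs (nat_lit 140) (nat_lit 4100) (nat_lit 4100) (nat_lit 0x1002001) (nat_lit 0x1002001) (nat_lit 0) (nat_lit 0) (nat_lit 3) (nat_lit 0) (nat_lit 0) (nat_lit 0) (nat_lit 1) (nat_lit 0) (nat_lit 1) (nat_lit 0) (nat_lit 1) (nat_lit 0x10001000100010001000100010000) (.cD (nat_lit 16) (.kc (nat_lit 172) (nat_lit 0x5001001)) (.cD (nat_lit 32) (.kc (nat_lit 204) (nat_lit 0x3001001)) (.cD (nat_lit 48) (.kc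 (nat_lit 236) (nat_lit 0x7001001)) (.cD (nat_lit 64) (.kA false (nat_lit 0xc002004016003022002000004001002008002003)) (.cD (nat_lit 80) (.kA false (nat_lit 0xc00e004016003022002000004005002008002003)) (.cD (nat_lit 96) (.kA false (nat_lit 0x2200200000400300200b002024004000003)) (.cD (nat_lit 112) (.kA false (nat_lit 0x2200200000400700200b002022002000003)) .nil)))))))) (.cD (nat_lit 48) (.dfs (nat_lit 140) (nat_lit 4100) (nat_lit 4100) (nat_lit 0x1002001) (nat_lit 0x1002001) (nat_lit 0) (nat_lit 0) (nat_lit 3) (nat_lit 0) (nat_lit 0) (nat_lit 0) (nat_lit 1) (nat_lit 0) (nat_lit 1) (nat_lit 0) (nat_lit 1) (nat_lit 0x10001000100010001000100010000) (.cD (nat_lit 16) (.kc (nat_lit 172) (nat_lit 0x5001001)) (.cD (nat_lit 32) (.kc (nat_lit 236) (nat_lit 0x7001001)) (.cD (nat_lit 48) (.kc (nat_lit 204) (nat_lit 0x3001001)) (.cD (nat_lit 64) (.kA false (nat_lit 0xc002008016003022002000004001006008002003)) (.cD (nat_lit 80) (.kA false (nat_lit 0xc00e008016003022002000004005006008002003))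 (.cD (nat_lit 96) (.kA false (nat_lit 0x2200200000400700600b002022002000003)) (.cD (nat_lit 112) (.kA false (nat_lit 0x2200200000400300600b002024004000003)) .nil)))))))) (.cD (nat_lit 64) (.kF (nat_lit 64) (nat_lit 0x4016003022002000001004002003)) (.cD (nat_lit 80) (.kF (nat_lit 80) (nat_lit 0x4016003022002000001004002003)) (.cD (nat_lit 96) (.dfs (nat_lit 140) (nat_lit 4100) (nat_lit 4100) (nat_lit 0x1002001) (nat_lit 0x1002001) (nat_lit 0) (nat_lit 0) (nat_lit 3) (nat_lit 0) (nat_lit 0) (nat_lit 0) (nat_lit 1) (nat_lit 0) (nat_lit 1) (nat_lit 0) (nat_lit 1) (nat_lit 0x10001000100010001000100010000) (.cD (nat_lit 16) (.kc (nat_lit 172) (nat_lit 0x5001001)) (.cD (nat_lit 32) (.kA false (nat_lit 0x2200200000400300100b002024004000003)) (.cD (nat_lit 48) (.kA false (nat_lit 0x2200200000400700500b002022002000003)) (.cD (nat_lit 64) (.kA false (nat_lit 0x2200200000500100300b002061001000003)) (.cD (nat_lit 80) (.kA false (nat_lit 0xc00e00a016003022002000004005007008002003))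 (.cD (nat_lit 96) (.kc (nat_lit 204) (nat_lit 0x3001001)) (.cD (nat_lit 112) (.kc (nat_lit 236) (nat_lit 0x7001001)) .nil)))))))) (.cD (nat_lit 112) (.dfs (nat_lit 140) (nat_lit 4100) (nat_lit 4100) (nat_lit 0x1002001) (nat_lit 0x1002001) (nat_lit 0) (nat_lit 0) (nat_lit 3) (nat_lit 0) (nat_lit 0) (nat_lit 0) (nat_lit 1) (nat_lit 0) (nat_lit 1) (nat_lit 0) (nat_lit 1) (nat_lit 0x10001000100010001000100010000) (.cD (nat_lit 16) (.kc (nat_lit 172) (nat_lit 0x5001001)) (.cD (nat_lit 32) (.kA false (nat_lit 0x2200200000400700100b002022002000003)) (.cD (nat_lit 48) (.kA false (nat_lit 0x2200200000400300500b002024004000003)) (.cD (nat_lit 64) (.kA false (nat_lit 0xc00200a016003022002000004001007008002003)) (.cD (nat_lit 80) (.kA false (nat_lit 0x2200200000100500300b002061001000003)) (.cD (nat_lit 96) (.kc (nat_lit 236) (nat_lit 0x7001001)) (.cD (nat_lit 112) (.kc (nat_lit 204) (nat_lit 0x3001001)) .nil)))))))) .nil)))))))) (.cD (nat_lit 32) (.kF (nat_lit 32)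 (nat_lit 0xc016003022002000001002002003)) (.cD (nat_lit 40) (.kF (nat_lit 40) (nat_lit 0xc016003022002000001002002003)) (.cD (nat_lit 48) (.kF (nat_lit 48) (nat_lit 0xc016003022002000001002002003)) (.cD (nat_lit 64) (.dfs (nat_lit 64) (nat_lit 4098) (nat_lit 4098) (nat_lit 4097) (nat_lit 4097) (nat_lit 0) (nat_lit 0) (nat_lit 3) (nat_lit 0) (nat_lit 0) (nat_lit 0) (nat_lit 1) (nat_lit 0) (nat_lit 0x1010008) (nat_lit 65544) (nat_lit 0x1001008000010001028000030) (nat_lit 0x1000000010001010100010100) (.cD (nat_lit 8) (.kF (nat_lit 8) (nat_lit 0x4016003022002000001004002003)) (.cD (nat_lit 16) (.kF (nat_lit 16) (nat_lit 0x4016003022002000001004002003)) (.cD (nat_lit 32) (.dfs (nat_lit 140) (nat_lit 4100) (nat_lit 4100) (nat_lit 0x1002001) (nat_lit 0x1002001) (nat_lit 0) (nat_lit 0) (nat_lit 3) (nat_lit 0) (nat_lit 0) (nat_lit 0) (nat_lit 1) (nat_lit 0) (nat_lit 0x1010008) (nat_lit 65544) (nat_lit 0x1001008000010001028000030) (nat_lit 0x1000000010001010100010100)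 (.cD (nat_lit 8) (.kA true (nat_lit 0x200c008016003022002000001004006008002003)) (.cD (nat_lit 16) (.kA false (nat_lit 0x200c004016003022002000001004002008002003)) (.cD (nat_lit 32) (.kc (nat_lit 204) (nat_lit 0x3001001)) (.cD (nat_lit 40) (.dfs (nat_lit 9) (nat_lit 0x1003004006008) (nat_lit 0x1007004006008) (nat_lit 0x1002001) (nat_lit 0x1002005) (nat_lit 2) (nat_lit 0) (nat_lit 2) (nat_lit 1) (nat_lit 0) (nat_lit 16) (nat_lit 1) (nat_lit 0) (nat_lit 1) (nat_lit 0) (nat_lit 1) (nat_lit 0) .nil) (.cD (nat_lit 48) (.kA false (nat_lit 0x600c004016003022002000003004002008002003)) (.cD (nat_lit 64) (.kc (nat_lit 172) (nat_lit 0x5001001)) (.cD (nat_lit 96) (.kc (nat_lit 236) (nat_lit 0x7001001)) .nil)))))))) (.cD (nat_lit 40) (.kF (nat_lit 40) (nat_lit 0x24004000001006001061001000001004002004)) (.cD (nat_lit 48) (.dfs (nat_lit 140) (nat_lit 4100) (nat_lit 4100) (nat_lit 0x1002001) (nat_lit 0x1002001) (nat_lit 0) (nat_lit 0) (nat_lit 3) (nat_lit 0) (nat_lit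 0) (nat_lit 0) (nat_lit 1) (nat_lit 0) (nat_lit 1) (nat_lit 0) (nat_lit 1) (nat_lit 0x10001000100010001000100010000) (.cD (nat_lit 16) (.kA false (nat_lit 0x2200200000500400300b002061001000003)) (.cD (nat_lit 32) (.kA false (nat_lit 0x600c002016003022002000003004001008002003)) (.cD (nat_lit 48) (.kc (nat_lit 204) (nat_lit 0x3001001)) (.cD (nat_lit 64) (.kc (nat_lit 172) (nat_lit 0x5001001)) (.cD (nat_lit 80) (.kA false (nat_lit 0xe00c00a016003022002000005004007008002003)) (.cD (nat_lit 96) (.kA false (nat_lit 0x2200200000700400500b002022002000003)) (.cD (nat_lit 112) (.kc (nat_lit 236) (nat_lit 0x7001001)) .nil)))))))) (.cD (nat_lit 64) (.kc (nat_lit 96) (nat_lit 0x3001001)) (.cD (nat_lit 96) (.dfs (nat_lit 140) (nat_lit 4100) (nat_lit 4100) (nat_lit 0x1002001) (nat_lit 0x1002001) (nat_lit 0) (nat_lit 0) (nat_lit 3) (nat_lit 0) (nat_lit 0) (nat_lit 0) (nat_lit 1) (nat_lit 0) (nat_lit 0x1010008) (nat_lit 65544) (nat_lit 0x1001008000010001028000030) (nat_lit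 0x1000000010001010100010100) (.cD (nat_lit 8) (.kA true (nat_lit 0x200c004016003022002000001004002008002003)) (.cD (nat_lit 16) (.kA false (nat_lit 0x200c008016003022002000001004006008002003)) (.cD (nat_lit 32) (.kc (nat_lit 236) (nat_lit 0x7001001)) (.cD (nat_lit 40) (.kA true (nat_lit 0xe00800c01600300100200600b001022002000003)) (.cD (nat_lit 48) (.kA false (nat_lit 0x2200200000700400600b002022002000003)) (.cD (nat_lit 64) (.kc (nat_lit 172) (nat_lit 0x5001001)) (.cD (nat_lit 96) (.kc (nat_lit 204) (nat_lit 0x3001001)) .nil)))))))) .nil)))))))) (.cD (nat_lit 96) (.kF (nat_lit 96) (nat_lit 0xc016003022002000001002002003)) .nil))))))))))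
theorem c746 : (chk [] [] p746).n x381 s746 = true := by decide +kernel
noncomputable def p747 : Pf := (.lft (nat_lit 0x40010030002008004001003001) (nat_lit 0) (nat_lit 0x1068060048040) (nat_lit 0x40020010008004012011) (.extn a169 (nat_lit 0x40020010008004002001) (nat_lit 0x1008020010040) (nat_lit 2) (nat_lit 0) (nat_lit 0) (nat_lit 0) (nat_lit 0x1000100010001) (.cE (nat_lit 0) b477 (nat_lit 0) (.cut (nat_lit 0)) (.cut (nat_lit 1)) (.cE (nat_lit 16) b478 (nat_lit 0) (.cut (nat_lit 2)) (.cut (nat_lit 3)) (.cE (nat_lit 32) b479 (nat_lit 0) (.cut (nat_lit 4)) (.cut (nat_lit 5)) (.cE (nat_lit 48) b480 (nat_lit 0) (.cut (nat_lit 6)) (.cut (nat_lit 7)) .nil))))))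
theorem c747 : (chk [(x374, s737), (x375, s738), (x376, s741), (x377, s742), (x378, s743), (x379, s744), (x380, s745), (x381, s746)] [] p747).n x373 s747 = true := by decide +kernel
noncomputable def p748 : Pf := (.ext (nat_lit 0) (nat_lit 0) (nat_lit 0x1040010020008) (nat_lit 0x1002004008005001) (nat_lit 0x2003004008) (nat_lit 0x1002001) (nat_lit 0x1003002) (nat_lit 0xa00400200100b004002001) (.dfs (nat_lit 1) (nat_lit 0x1002003004008) (nat_lit 0x100200300400b) (nat_lit 4097) (nat_lit 4097) (nat_lit 4) (nat_lit 0) (nat_lit 2) (nat_lit 0) (nat_lit 0) (nat_lit 2) (nat_lit 1) (nat_lit 0) (nat_lit 4160) (nat_lit 64) (nat_lit 0x100000200000a00001200001a) (nat_lit 0x4040404) (.cD (nat_lit 2) (.dfs (nat_lit 2) (nat_lit 0x1004006008010) (nat_lit 0x1004006008014) (nat_lit 0x1002001) (nat_lit 0x100200b) (nat_lit 8) (nat_lit 0) (nat_lit 2) (nat_lit 0) (nat_lit 0) (nat_lit 3) (nat_lit 1) (nat_lit 0) (nat_lit 1) (nat_lit 0) (nat_lit 1) (nat_lit 0x8080808080808080000000000000000)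 (.cD (nat_lit 67) (.kS (nat_lit 0) (nat_lit 0x400c010020002004004000002) (nat_lit 4098) (nat_lit 0x800400200d) (nat_lit 0x400400000400801002000200100400400000400c010020001001004)) (.cD (nat_lit 75) (.kS (nat_lit 0) (nat_lit 0x400c010020002004004000002) (nat_lit 4130) (nat_lit 0x800400200d) (nat_lit 0x400400000400801002000200100400400000400c010020009001004)) (.cD (nat_lit 83) (.kS (nat_lit 0) (nat_lit 0x800c010020002001) (nat_lit 4211) (nat_lit 0x800400200d) (nat_lit 0xc00401002000100100400801002000200100800c01002002f001003)) (.cD (nat_lit 91) (.cut (nat_lit 0)) (.cD (nat_lit 99) (.kS (nat_lit 0) (nat_lit 0x400c010020002004004000002) (nat_lit 4138) (nat_lit 0x800400200d) (nat_lit 0x400400000400801002000200100400400000400c01002000d001004)) (.cD (nat_lit 107) (.kS (nat_lit 0) (nat_lit 0x400c010020002004004000002) (nat_lit 4106) (nat_lit 0x800400200d) (nat_lit 0x400400000400801002000200100400400000400c010020005001004)) (.cD (nat_lit 115) (.kS (nat_lit 0)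 (nat_lit 0x400c010020002004004000002) (nat_lit 4154) (nat_lit 0x800400200d) (nat_lit 0x400400000400801002000200100400400000400c01002001d001004)) (.cD (nat_lit 123) (.kS (nat_lit 0) (nat_lit 0x400c010020002004004000002) (nat_lit 4122) (nat_lit 0x800400200d) (nat_lit 0x400400000400801002000200100400400000400c010020015001004)) .nil))))))))) (.cD (nat_lit 10) (.dfs (nat_lit 2) (nat_lit 0x1004006008010) (nat_lit 0x1004006008014) (nat_lit 0x1002001) (nat_lit 0x100200b) (nat_lit 8) (nat_lit 0) (nat_lit 2) (nat_lit 0) (nat_lit 0) (nat_lit 3) (nat_lit 1) (nat_lit 0) (nat_lit 1) (nat_lit 0) (nat_lit 1) (nat_lit 0x8080808080808080000000000000000) (.cD (nat_lit 67) (.kS (nat_lit 0) (nat_lit 0x400c010020002004004000002) (nat_lit 4098) (nat_lit 0x800400200d) (nat_lit 0x400400000400801002000200100400400000400c010020001001004)) (.cD (nat_lit 75) (.kS (nat_lit 0) (nat_lit 0x400c010020002004004000002) (nat_lit 4130) (nat_lit 0x800400200d) (nat_lit 0x400400000400801002000200100400400000400c010020009001004))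 (.cD (nat_lit 83) (.kS (nat_lit 0) (nat_lit 0x400c010020002004004000002) (nat_lit 4114) (nat_lit 0x800400200d) (nat_lit 0x400400000400801002000200100400400000400c010020011001004)) (.cD (nat_lit 91) (.kS (nat_lit 0) (nat_lit 0x400c010020002004004000002) (nat_lit 4146) (nat_lit 0x800400200d) (nat_lit 0x400400000400801002000200100400400000400c010020019001004)) (.cD (nat_lit 99) (.kS (nat_lit 0) (nat_lit 0x400c010020002004004000002) (nat_lit 4138) (nat_lit 0x800400200d) (nat_lit 0x400400000400801002000200100400400000400c01002000d001004)) (.cD (nat_lit 107) (.kS (nat_lit 0) (nat_lit 0x400c010020002004004000002) (nat_lit 4106) (nat_lit 0x800400200d) (nat_lit 0x400400000400801002000200100400400000400c010020005001004)) (.cD (nat_lit 115) (.kS (nat_lit 0) (nat_lit 0x800c010020002001) (nat_lit 4219) (nat_lit 0x800400200d) (nat_lit 0xc00401002000500100400801002000200100800c01002002b001003)) (.cD (nat_lit 123) (.iso x373 s747 (nat_lit 0) (nat_lit 0x1040020010008004002021)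 (nat_lit 0x40020010008004002021) [(nat_lit 0x2001000800400a001001001), (nat_lit 0x40020010008004002011003001), (nat_lit 0x10008004002001005001), (nat_lit 0x8004002001009001)] (.cut (nat_lit 0))) .nil))))))))) (.cD (nat_lit 18) (.dfs (nat_lit 2) (nat_lit 0x1004006008010) (nat_lit 0x1004006008014) (nat_lit 0x1002001) (nat_lit 0x100200b) (nat_lit 8) (nat_lit 0) (nat_lit 2) (nat_lit 0) (nat_lit 0) (nat_lit 3) (nat_lit 1) (nat_lit 0) (nat_lit 1) (nat_lit 0) (nat_lit 1) (nat_lit 0x8080808080808080000000000000000) (.cD (nat_lit 67) (.kS (nat_lit 0) (nat_lit 0x800c010020002001) (nat_lit 4211) (nat_lit 0x800400200d) (nat_lit 0xc00401002001100100400801002000200100800c01002002f001003)) (.cD (nat_lit 75) (.iso x373 s747 (nat_lit 0) (nat_lit 0x1040020010008004002011) (nat_lit 0x40020010008004002011) [(nat_lit 0x20010008004012001001001), (nat_lit 0x40020010008004002031003001), (nat_lit 0x10008004002001005001), (nat_lit 0x8004002001009001)] (.cut (nat_lit 0))) (.cD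 (nat_lit 83) (.kS (nat_lit 0) (nat_lit 0x400c010020002004004000002) (nat_lit 4114) (nat_lit 0x800400200d) (nat_lit 0x400400000400801002000200100400400000400c010020011001004)) (.cD (nat_lit 91) (.kS (nat_lit 0) (nat_lit 0x400c010020002004004000002) (nat_lit 4146) (nat_lit 0x800400200d) (nat_lit 0x400400000400801002000200100400400000400c010020019001004)) (.cD (nat_lit 99) (.kS (nat_lit 0) (nat_lit 0x400c010020002004004000002) (nat_lit 4138) (nat_lit 0x800400200d) (nat_lit 0x400400000400801002000200100400400000400c01002000d001004)) (.cD (nat_lit 107) (.kS (nat_lit 0) (nat_lit 0x400c010020002004004000002) (nat_lit 4106) (nat_lit 0x800400200d) (nat_lit 0x400400000400801002000200100400400000400c010020005001004)) (.cD (nat_lit 115) (.kS (nat_lit 0) (nat_lit 0x400c010020002004004000002) (nat_lit 4154) (nat_lit 0x800400200d) (nat_lit 0x400400000400801002000200100400400000400c01002001d001004)) (.cD (nat_lit 123) (.kS (nat_lit 0) (nat_lit 0x400c010020002004004000002)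 (nat_lit 4122) (nat_lit 0x800400200d) (nat_lit 0x400400000400801002000200100400400000400c010020015001004)) .nil))))))))) (.cD (nat_lit 26) (.dfs (nat_lit 2) (nat_lit 0x1004006008010) (nat_lit 0x1004006008014) (nat_lit 0x1002001) (nat_lit 0x100200b) (nat_lit 8) (nat_lit 0) (nat_lit 2) (nat_lit 0) (nat_lit 0) (nat_lit 3) (nat_lit 1) (nat_lit 0) (nat_lit 1) (nat_lit 0) (nat_lit 1) (nat_lit 0x8080808080808080000000000000000) (.cD (nat_lit 67) (.kS (nat_lit 0) (nat_lit 0x400c010020002004004000002) (nat_lit 4098) (nat_lit 0x800400200d) (nat_lit 0x400400000400801002000200100400400000400c010020001001004)) (.cD (nat_lit 75) (.kS (nat_lit 0) (nat_lit 0x400c010020002004004000002) (nat_lit 4130) (nat_lit 0x800400200d) (nat_lit 0x400400000400801002000200100400400000400c010020009001004)) (.cD (nat_lit 83) (.kS (nat_lit 0) (nat_lit 0x400c010020002004004000002) (nat_lit 4114) (nat_lit 0x800400200d) (nat_lit 0x400400000400801002000200100400400000400c010020011001004))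 (.cD (nat_lit 91) (.kS (nat_lit 0) (nat_lit 0x400c010020002004004000002) (nat_lit 4146) (nat_lit 0x800400200d) (nat_lit 0x400400000400801002000200100400400000400c010020019001004)) (.cD (nat_lit 99) (.kS (nat_lit 0) (nat_lit 0x800c010020002001) (nat_lit 4219) (nat_lit 0x800400200d) (nat_lit 0xc00401002001500100400801002000200100800c01002002b001003)) (.cD (nat_lit 107) (.iso x373 s747 (nat_lit 0) (nat_lit 0x1040020010008004002031) (nat_lit 0x40020010008004002031) [(nat_lit 0x2001000800401a001001001), (nat_lit 0x40020010008004002021003001), (nat_lit 0x10008004002001005001), (nat_lit 0x8004002001009001)] (.cut (nat_lit 0))) (.cD (nat_lit 115) (.kS (nat_lit 0) (nat_lit 0x400c010020002004004000002) (nat_lit 4154) (nat_lit 0x800400200d) (nat_lit 0x400400000400801002000200100400400000400c01002001d001004)) (.cD (nat_lit 123) (.kS (nat_lit 0) (nat_lit 0x400c010020002004004000002) (nat_lit 4122) (nat_lit 0x800400200d) (nat_lit 0x400400000400801002000200100400400000400c010020015001004))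 .nil))))))))) .nil))))))
theorem c748 : (chk [(x373, s747)] [g476] p748).n x373 s748 = true := by decide +kernel
noncomputable def p749 : Pf := (.ext (nat_lit 0) (nat_lit 0) (nat_lit 0x1040010020008) (nat_lit 0x1002004008003001) (nat_lit 0x2003004008) (nat_lit 4097) (nat_lit 4098) (nat_lit 0xb004002001) (.dfs (nat_lit 1) (nat_lit 0x1002003004008) (nat_lit 0x100200300400b) (nat_lit 4097) (nat_lit 4097) (nat_lit 4) (nat_lit 0) (nat_lit 2) (nat_lit 0) (nat_lit 0) (nat_lit 2) (nat_lit 1) (nat_lit 0) (nat_lit 4160) (nat_lit 64) (nat_lit 0x100000200000a00001200001a) (nat_lit 0x4040404) (.cD (nat_lit 2) (.kS (nat_lit 0) (nat_lit 0x2004008018001012010030040003004004000003) (nat_lit 4098) (nat_lit 0x800400200d) (nat_lit 0x2012030040024003004004000002004008010001001004004000012010030040045004002004008018001002006)) (.cD (nat_lit 10) (.kS (nat_lit 0) (nat_lit 0x2004008018001012010030040003004004000003) (nat_lit 4106) (nat_lit 0x800400200d) (nat_lit 0x2012030040036003004004000002004008010001001004004000012010030040045004002004008018001002006))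 (.cD (nat_lit 18) (.kS (nat_lit 0) (nat_lit 0x2004008018001012010030040003004004000003) (nat_lit 4114) (nat_lit 0x800400200d) (nat_lit 0x2012030040014003004004000002004008010001001004004000012010030040045004002004008018001002006)) (.cD (nat_lit 26) (.kS (nat_lit 0) (nat_lit 0x2004008018001012010030040003004004000003) (nat_lit 4122) (nat_lit 0x800400200d) (nat_lit 0x2012030040006003004004000002004008010001001004004000012010030040045004002004008018001002006)) .nil))))))
theorem c749 : (chk [] [] p749).n x373 s749 = true := by decide +kernel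
noncomputable def p750 : Pf := (.ext (nat_lit 0) (nat_lit 0) (nat_lit 0x1040030020004002008) (nat_lit 0x20010008004002001001001) (nat_lit 0x9008018038) (nat_lit 4097) (nat_lit 4163) (nat_lit 0x2901000802601b001) (.dfs (nat_lit 1) (nat_lit 0x1009008018038) (nat_lit 0x1009008018031) (nat_lit 0x1020010004002001) (nat_lit 0x102901002601b001) (nat_lit 24) (nat_lit 0) (nat_lit 2) (nat_lit 0) (nat_lit 0) (nat_lit 3) (nat_lit 1) (nat_lit 0) (nat_lit 1) (nat_lit 0) (nat_lit 1) (nat_lit 0x80008000800080000000000000000) (.cD (nat_lit 67) (.cut (nat_lit 3)) (.cD (nat_lit 83) (.cut (nat_lit 2)) (.cD (nat_lit 99) (.cut (nat_lit 1)) (.cD (nat_lit 115) (.cut (nat_lit 0)) .nil))))))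
theorem c750 : (chk [(x373, s735), (x373, s736), (x373, s748), (x373, s749)] [] p750).n x373 s750 = true := by decide +kernel
noncomputable def p751 : Pf := (.ext (nat_lit 0) (nat_lit 0) (nat_lit 0x1040010020008) (nat_lit 0x1002004008001001) (nat_lit 0x2003004008) (nat_lit 4097) (nat_lit 4098) (nat_lit 0xb004002001) (.dfs (nat_lit 1) (nat_lit 0x1002003004008) (nat_lit 0x100200300400b) (nat_lit 4097) (nat_lit 4097) (nat_lit 2) (nat_lit 0) (nat_lit 2) (nat_lit 0) (nat_lit 0) (nat_lit 2) (nat_lit 1) (nat_lit 0) (nat_lit 1) (nat_lit 0) (nat_lit 1) (nat_lit 0) .nil))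
theorem c751 : (chk [] [] p751).n x382 s751 = true := by decide +kernel
noncomputable def p752 : Pf := (.ext (nat_lit 0) (nat_lit 0) (nat_lit 0x1040010020008) (nat_lit 0x1002004008001001) (nat_lit 0x2003004008) (nat_lit 4097) (nat_lit 4098) (nat_lit 0xb004002001) (.dfs (nat_lit 1) (nat_lit 0x1002003004008) (nat_lit 0x100200300400b) (nat_lit 4097) (nat_lit 4097) (nat_lit 2) (nat_lit 0) (nat_lit 2) (nat_lit 0) (nat_lit 0) (nat_lit 2) (nat_lit 1) (nat_lit 0) (nat_lit 1) (nat_lit 0) (nat_lit 1) (nat_lit 0) .nil))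
theorem c752 : (chk [] [] p752).n x383 s752 = true := by decide +kernel
noncomputable def p753 : Pf := (.ext (nat_lit 0) (nat_lit 0) (nat_lit 0x1040010020008) (nat_lit 0x1002004008001001) (nat_lit 0x2003004008) (nat_lit 4097) (nat_lit 4098) (nat_lit 0xb004002001) (.dfs (nat_lit 1) (nat_lit 0x1002003004008) (nat_lit 0x100200300400b) (nat_lit 4097) (nat_lit 4097) (nat_lit 6) (nat_lit 0) (nat_lit 2) (nat_lit 0) (nat_lit 0) (nat_lit 2) (nat_lit 1) (nat_lit 0) (nat_lit 1) (nat_lit 0) (nat_lit 1) (nat_lit 0) .nil))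
theorem c753 : (chk [] [] p753).n x384 s753 = true := by decide +kernel
noncomputable def p754 : Pf := (.ext (nat_lit 0) (nat_lit 0) (nat_lit 0x1040010020008) (nat_lit 0x1002004008001001) (nat_lit 0x2003004008) (nat_lit 4097) (nat_lit 4098) (nat_lit 0xb004002001) (.dfs (nat_lit 1) (nat_lit 0x1002003004008) (nat_lit 0x100200300400b) (nat_lit 4097) (nat_lit 4097) (nat_lit 6) (nat_lit 0) (nat_lit 2) (nat_lit 0) (nat_lit 0) (nat_lit 2) (nat_lit 1) (nat_lit 0) (nat_lit 1) (nat_lit 0) (nat_lit 1) (nat_lit 0) .nil))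
theorem c754 : (chk [] [] p754).n x385 s754 = true := by decide +kernel
noncomputable def p755 : Pf := (.lft (nat_lit 0x20008010004001002001001) (nat_lit 0) (nat_lit 0x1030020) (nat_lit 0x20010008004002009) (.extn a168 (nat_lit 0x20010008004002001) (nat_lit 0x1004010008020) (nat_lit 2) (nat_lit 0) (nat_lit 0) (nat_lit 0) (nat_lit 0x1010101) (.cE (nat_lit 0) b475 (nat_lit 0) (.cut (nat_lit 0)) (.cut (nat_lit 1)) (.cE (nat_lit 8) b476 (nat_lit 0) (.cut (nat_lit 2)) (.cut (nat_lit 3)) (.cE (nat_lit 16) b481 (nat_lit 0) (.cut (nat_lit 4)) (.cut (nat_lit 5)) (.cE (nat_lit 24) b482 (nat_lit 0) (.cut (nat_lit 6)) (.cut (nat_lit 7)) .nil))))))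
theorem c755 : (chk [(x370, s732), (x371, s733), (x372, s734), (x373, s750), (x382, s751), (x383, s752), (x384, s753), (x385, s754)] [] p755).n x369 s755 = true := by decide +kernel
noncomputable def p756 : Pf := (.ext (nat_lit 0) (nat_lit 0) (nat_lit 0x1020008010004) (nat_lit 0xd002004008006009001000001002004008005003) (nat_lit 0x100200400b) (nat_lit 0x1002001) (nat_lit 0x1003001) (nat_lit 0x800400200300a004002001) (.dfs (nat_lit 1) (nat_lit 0x100100200400b) (nat_lit 0x1001002004009) (nat_lit 4104) (nat_lit 4106) (nat_lit 4) (nat_lit 0) (nat_lit 2) (nat_lit 0) (nat_lit 0) (nat_lit 1) (nat_lit 1) (nat_lit 0) (nat_lit 4128) (nat_lit 32) (nat_lit 0x100000100000500000900000d) (nat_lit 8738) (.cD (nat_lit 1) (.dfs (nat_lit 2) (nat_lit 0x1002004008016) (nat_lit 0x1006004008012) (nat_lit 0x1010001) (nat_lit 0x101000d) (nat_lit 0) (nat_lit 0) (nat_lit 2) (nat_lit 0) (nat_lit 0) (nat_lit 3) (nat_lit 1) (nat_lit 0) (nat_lit 1) (nat_lit 0) (nat_lit 1) (nat_lit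 0) .nil) (.cD (nat_lit 5) (.dfs (nat_lit 2) (nat_lit 0x1002004008016) (nat_lit 0x1006004008012) (nat_lit 0x1010001) (nat_lit 0x101000d) (nat_lit 0) (nat_lit 0) (nat_lit 2) (nat_lit 0) (nat_lit 0) (nat_lit 3) (nat_lit 1) (nat_lit 0) (nat_lit 4100) (nat_lit 4) (nat_lit 0x100002300002b) (nat_lit 0x80800000000) (.cD (nat_lit 35) (.kA true (nat_lit 0x3b00801802c001001008018020001002)) (.cD (nat_lit 43) (.kA true (nat_lit 0x2b00801802c001001008018020001002)) .nil))) (.cD (nat_lit 9) (.dfs (nat_lit 2) (nat_lit 0x1002004008016) (nat_lit 0x1006004008012) (nat_lit 0x1010001) (nat_lit 0x101000d) (nat_lit 0) (nat_lit 0) (nat_lit 2) (nat_lit 0) (nat_lit 0) (nat_lit 3) (nat_lit 1) (nat_lit 0) (nat_lit 1) (nat_lit 0) (nat_lit 1) (nat_lit 0) .nil) (.cD (nat_lit 13) (.dfs (nat_lit 2) (nat_lit 0x1002004008016) (nat_lit 0x1006004008012) (nat_lit 0x1010001) (nat_lit 0x101000d) (nat_lit 0) (nat_lit 0) (nat_lit 2) (nat_lit 0) (nat_lit 0) (nat_lit 3) (nat_lit 1) (nat_lit 0)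 (nat_lit 4100) (nat_lit 4) (nat_lit 0x100002300002b) (nat_lit 0x80800000000) (.cD (nat_lit 35) (.cut (nat_lit 0)) (.cD (nat_lit 43) (.iso x369 s755 (nat_lit 0) (nat_lit 0x1020010008004002009) (nat_lit 0x20010008004002009) [(nat_lit 0x20010008004012001001001), (nat_lit 0x2001000800401a001003001), (nat_lit 0x1600800c00a00f006001), (nat_lit 0x8004002001007001), (nat_lit 0x8004002001009001)] (.cut (nat_lit 0))) .nil))) .nil))))))
theorem c756 : (chk [(x369, s755)] [g474] p756).n x369 s756 = true := by decide +kernel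
noncomputable def p757 : Pf := (.anc (nat_lit 36) (nat_lit 0x9001000005006002) (nat_lit 0x1003010008004) (.dfs (nat_lit 4) (nat_lit 1) (nat_lit 1) (nat_lit 4097) (nat_lit 4097) (nat_lit 0) (nat_lit 0) (nat_lit 0) (nat_lit 0) (nat_lit 0) (nat_lit 0) (nat_lit 1) (nat_lit 0) (nat_lit 0x1004002) (nat_lit 16386) (nat_lit 0x100100200000400100a00000c) (nat_lit 0x1011514) (.cD (nat_lit 2) (.czs (nat_lit 34) z1 (nat_lit 16) (.dfs (nat_lit 8) (nat_lit 4099) (nat_lit 4099) (nat_lit 0x1002001) (nat_lit 0x1002001) (nat_lit 0) (nat_lit 0) (nat_lit 3) (nat_lit 0) (nat_lit 0) (nat_lit 0) (nat_lit 1) (nat_lit 0) (nat_lit 1) (nat_lit 0) (nat_lit 1) (nat_lit 0x5050504) (.cD (nat_lit 2) (.kc (nat_lit 12) (nat_lit 0x3001001)) (.cD (nat_lit 8) (.kF (nat_lit 8) (nat_lit 0xc016005004004000001006001003)) (.cD (nat_lit 10) (.kF (nat_lit 8) (nat_lit 0xa016005004004000001006001003)) (.cD (nat_lit 16) (.kF (nat_lit 4) (nat_lit 0x2016005002007001001020003003)) (.cD (nat_lit 18) (.kF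 (nat_lit 4) (nat_lit 0x9001000002007001001020003003)) (.cD (nat_lit 24) (.dfs (nat_lit 16) (nat_lit 4102) (nat_lit 4102) (nat_lit 0x1004002001) (nat_lit 0x1004002001) (nat_lit 0) (nat_lit 0) (nat_lit 3) (nat_lit 0) (nat_lit 0) (nat_lit 0) (nat_lit 1) (nat_lit 0) (nat_lit 1) (nat_lit 0) (nat_lit 1) (nat_lit 0x5050504) (.cD (nat_lit 2) (.kc (nat_lit 20) (nat_lit 0x5001001)) (.cD (nat_lit 8) (.kA false (nat_lit 0x5004002008001008004002005007009001000003)) (.cD (nat_lit 10) (.kA false (nat_lit 0x401c01003800300400100200d001009001000003)) (.cD (nat_lit 16) (.kA false (nat_lit 0x200400801600500400100200d001009001000003)) (.cD (nat_lit 18) (.kA false (nat_lit 0x900100000400100200d001009001000003)) (.cD (nat_lit 24) (.kc (nat_lit 24) (nat_lit 0x3001001)) (.cD (nat_lit 26) (.kc (nat_lit 28) (nat_lit 0x7001001)) .nil)))))))) (.cD (nat_lit 26) (.dfs (nat_lit 16) (nat_lit 4102) (nat_lit 4102) (nat_lit 0x1004002001) (nat_lit 0x1004002001) (nat_lit 0) (nat_lit 0) (nat_lit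 3) (nat_lit 0) (nat_lit 0) (nat_lit 0) (nat_lit 1) (nat_lit 0) (nat_lit 1) (nat_lit 0) (nat_lit 1) (nat_lit 0x5050504) (.cD (nat_lit 2) (.kc (nat_lit 20) (nat_lit 0x5001001)) (.cD (nat_lit 8) (.kA false (nat_lit 0x5004002008001008004002005007009001000003)) (.cD (nat_lit 10) (.kA false (nat_lit 0x401c01403800300400100200d001009001000003)) (.cD (nat_lit 16) (.kA false (nat_lit 0x200400a01600500400100200d001009001000003)) (.cD (nat_lit 18) (.kA false (nat_lit 0x900100000400100200d001009001000003)) (.cD (nat_lit 24) (.kc (nat_lit 28) (nat_lit 0x7001001)) (.cD (nat_lit 26) (.kc (nat_lit 24) (nat_lit 0x3001001)) .nil)))))))) .nil))))))))) (.cD (nat_lit 4) (.dfs (nat_lit 8) (nat_lit 1) (nat_lit 1) (nat_lit 0x1002001) (nat_lit 0x1002001) (nat_lit 0) (nat_lit 0) (nat_lit 0) (nat_lit 0) (nat_lit 0) (nat_lit 0) (nat_lit 1) (nat_lit 0) (nat_lit 1) (nat_lit 0) (nat_lit 1) (nat_lit 0x11111110) (.cD (nat_lit 4) (.kc (nat_lit 12) (nat_lit 0x3001001)) (.cD (nat_lit 8)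 (.dfs (nat_lit 16) (nat_lit 1) (nat_lit 1) (nat_lit 0x1004002001) (nat_lit 0x1004002001) (nat_lit 0) (nat_lit 0) (nat_lit 0) (nat_lit 0) (nat_lit 0) (nat_lit 0) (nat_lit 1) (nat_lit 0) (nat_lit 1) (nat_lit 0) (nat_lit 1) (nat_lit 0x11111110) (.cD (nat_lit 4) (.kc (nat_lit 20) (nat_lit 0x5001001)) (.cD (nat_lit 8) (.kc (nat_lit 24) (nat_lit 0x3001001)) (.cD (nat_lit 12) (.kc (nat_lit 28) (nat_lit 0x7001001)) (.cD (nat_lit 16) (.dfs (nat_lit 3) (nat_lit 0x1004001002008) (nat_lit 0x1005001002008) (nat_lit 1) (nat_lit 1) (nat_lit 1) (nat_lit 0) (nat_lit 2) (nat_lit 0) (nat_lit 0) (nat_lit 2) (nat_lit 1) (nat_lit 0) (nat_lit 4100) (nat_lit 4) (nat_lit 0x100002600002e) (nat_lit 0x404000000000) (.cD (nat_lit 38) (.kA true (nat_lit 0xc00801003800301b002006014001026008010021003019002006010002004)) (.cD (nat_lit 46) (.kA true (nat_lit 0xc00801003800301f00200601400103e00801002100301d002006010002004)) .nil))) (.cD (nat_lit 20) (.dfs (nat_lit 3) (nat_lit 4101) (nat_lit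 4100) (nat_lit 1) (nat_lit 1) (nat_lit 1) (nat_lit 0) (nat_lit 1) (nat_lit 4112) (nat_lit 0x20010008004002009) (nat_lit 0) (nat_lit 1) (nat_lit 0) (nat_lit 1) (nat_lit 0) (nat_lit 1) (nat_lit 0) .nil) (.cD (nat_lit 24) (.kA false (nat_lit 0x5004002008001008004002005007009001000003)) (.cD (nat_lit 28) (.kA false (nat_lit 0x5004002008001008004002005007009001000003)) .nil)))))))) (.cD (nat_lit 12) (.dfs (nat_lit 16) (nat_lit 1) (nat_lit 1) (nat_lit 0x1004002001) (nat_lit 0x1004002001) (nat_lit 0) (nat_lit 0) (nat_lit 0) (nat_lit 0) (nat_lit 0) (nat_lit 0) (nat_lit 1) (nat_lit 0) (nat_lit 1) (nat_lit 0) (nat_lit 1) (nat_lit 0x11111110) (.cD (nat_lit 4) (.kc (nat_lit 20) (nat_lit 0x5001001)) (.cD (nat_lit 8) (.kc (nat_lit 28) (nat_lit 0x7001001)) (.cD (nat_lit 12) (.kc (nat_lit 24) (nat_lit 0x3001001)) (.cD (nat_lit 16) (.kA false (nat_lit 0x5004002008001008004002005007009001000003)) (.cD (nat_lit 20) (.kA false (nat_lit 0x900100000400100200d001009001000003))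 (.cD (nat_lit 24) (.kA false (nat_lit 0x5004002008001008004002005007009001000003)) (.cD (nat_lit 28) (.kA false (nat_lit 0x5004002008001008004002005007009001000003)) .nil)))))))) (.cD (nat_lit 16) (.kF (nat_lit 8) (nat_lit 0x900100000c005008001006001003)) (.cD (nat_lit 20) (.kF (nat_lit 8) (nat_lit 0x9001000008005008001006001003)) (.cD (nat_lit 24) (.dfs (nat_lit 16) (nat_lit 1) (nat_lit 1) (nat_lit 0x1004002001) (nat_lit 0x1004002001) (nat_lit 0) (nat_lit 0) (nat_lit 0) (nat_lit 0) (nat_lit 0) (nat_lit 0) (nat_lit 1) (nat_lit 0) (nat_lit 1) (nat_lit 0) (nat_lit 1) (nat_lit 0x11111110) (.cD (nat_lit 4) (.kc (nat_lit 20) (nat_lit 0x5001001)) (.cD (nat_lit 8) (.kA false (nat_lit 0x400200300800100400100200c001002)) (.cD (nat_lit 12) (.kA false (nat_lit 0x400600300800100400100200c001002)) (.cD (nat_lit 16) (.kA false (nat_lit 0x5004002008001008004002005007009001000003)) (.cD (nat_lit 20) (.kA false (nat_lit 0x400500300800100400100200c001002)) (.cD (nat_lit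 24) (.kc (nat_lit 24) (nat_lit 0x3001001)) (.cD (nat_lit 28) (.kc (nat_lit 28) (nat_lit 0x7001001)) .nil)))))))) (.cD (nat_lit 28) (.dfs (nat_lit 16) (nat_lit 1) (nat_lit 1) (nat_lit 0x1004002001) (nat_lit 0x1004002001) (nat_lit 0) (nat_lit 0) (nat_lit 0) (nat_lit 0) (nat_lit 0) (nat_lit 0) (nat_lit 1) (nat_lit 0) (nat_lit 1) (nat_lit 0) (nat_lit 1) (nat_lit 0x11111110) (.cD (nat_lit 4) (.kc (nat_lit 20) (nat_lit 0x5001001)) (.cD (nat_lit 8) (.kA false (nat_lit 0x400200700800100400100200c001002)) (.cD (nat_lit 12) (.kA false (nat_lit 0x400600700800100400100200c001002)) (.cD (nat_lit 16) (.kA false (nat_lit 0x5004002008001008004002005007009001000003)) (.cD (nat_lit 20) (.kA false (nat_lit 0x400500700800100400100200c001002)) (.cD (nat_lit 24) (.kc (nat_lit 28) (nat_lit 0x7001001)) (.cD (nat_lit 28) (.kc (nat_lit 24) (nat_lit 0x3001001)) .nil)))))))) .nil)))))))) (.cD (nat_lit 8) (.kF (nat_lit 4) (nat_lit 0x18038003001003001002)) (.cD (nat_lit 10) (.kF (nat_lit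 4) (nat_lit 0x1803800300e00f009001003001003)) (.cD (nat_lit 12) (.kF (nat_lit 4) (nat_lit 0x9001000006005008019039003001003001004)) (.cD (nat_lit 16) (.dfs (nat_lit 8) (nat_lit 1) (nat_lit 1) (nat_lit 0x1002001) (nat_lit 0x1002001) (nat_lit 0) (nat_lit 0) (nat_lit 0) (nat_lit 0) (nat_lit 0) (nat_lit 0) (nat_lit 1) (nat_lit 0) (nat_lit 0x1004002) (nat_lit 16386) (nat_lit 0x100100200000400100a00000c) (nat_lit 0x1011514) (.cD (nat_lit 2) (.kF (nat_lit 4) (nat_lit 0x4016005002007001001020003003)) (.cD (nat_lit 4) (.kF (nat_lit 8) (nat_lit 0x9001000001006001002)) (.cD (nat_lit 8) (.dfs (nat_lit 16) (nat_lit 1) (nat_lit 1) (nat_lit 0x1004002001) (nat_lit 0x1004002001) (nat_lit 0) (nat_lit 0) (nat_lit 0) (nat_lit 0) (nat_lit 0) (nat_lit 0) (nat_lit 1) (nat_lit 0) (nat_lit 0x1004002) (nat_lit 16386) (nat_lit 0x100100200000400100a00000c) (nat_lit 0x1011514) (.cD (nat_lit 2) (.kA false (nat_lit 0x900100000400100200c001002)) (.cD (nat_lit 4) (.dfs (nat_lit 3) (nat_lit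 4100) (nat_lit 4101) (nat_lit 1) (nat_lit 1) (nat_lit 1) (nat_lit 0) (nat_lit 1) (nat_lit 4112) (nat_lit 0x20010008004002009) (nat_lit 0) (nat_lit 1) (nat_lit 0) (nat_lit 1) (nat_lit 0) (nat_lit 1) (nat_lit 0) .nil) (.cD (nat_lit 8) (.kc (nat_lit 24) (nat_lit 0x3001001)) (.cD (nat_lit 10) (.kA false (nat_lit 0x900100000400100200c001002)) (.cD (nat_lit 12) (.kA false (nat_lit 0x300400200c002009001000002)) (.cD (nat_lit 16) (.kc (nat_lit 20) (nat_lit 0x5001001)) (.cD (nat_lit 24) (.kc (nat_lit 28) (nat_lit 0x7001001)) .nil)))))))) (.cD (nat_lit 10) (.kF (nat_lit 8) (nat_lit 0x9001000001006001002)) (.cD (nat_lit 12) (.dfs (nat_lit 16) (nat_lit 1) (nat_lit 1) (nat_lit 0x1004002001) (nat_lit 0x1004002001) (nat_lit 0) (nat_lit 0) (nat_lit 0) (nat_lit 0) (nat_lit 0) (nat_lit 0) (nat_lit 1) (nat_lit 0) (nat_lit 1) (nat_lit 0) (nat_lit 1) (nat_lit 0x11111110) (.cD (nat_lit 4) (.kA false (nat_lit 0x100400300c002009001000002)) (.cD (nat_lit 8) (.kA false (nat_lit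 0x300400100c002009001000002)) (.cD (nat_lit 12) (.kc (nat_lit 24) (nat_lit 0x3001001)) (.cD (nat_lit 16) (.kc (nat_lit 20) (nat_lit 0x5001001)) (.cD (nat_lit 20) (.kA false (nat_lit 0x500400700c002009001000002)) (.cD (nat_lit 24) (.kA false (nat_lit 0x700400500c002009001000002)) (.cD (nat_lit 28) (.kc (nat_lit 28) (nat_lit 0x7001001)) .nil)))))))) (.cD (nat_lit 16) (.kc (nat_lit 12) (nat_lit 0x3001001)) (.cD (nat_lit 24) (.dfs (nat_lit 16) (nat_lit 1) (nat_lit 1) (nat_lit 0x1004002001) (nat_lit 0x1004002001) (nat_lit 0) (nat_lit 0) (nat_lit 0) (nat_lit 0) (nat_lit 0) (nat_lit 0) (nat_lit 1) (nat_lit 0) (nat_lit 0x1004002) (nat_lit 16386) (nat_lit 0x100100200000400100a00000c) (nat_lit 0x1011514) (.cD (nat_lit 2) (.kA false (nat_lit 0x900100000400100200c001002)) (.cD (nat_lit 4) (.kA false (nat_lit 0x100400600c002009001000002)) (.cD (nat_lit 8) (.kc (nat_lit 28) (nat_lit 0x7001001)) (.cD (nat_lit 10) (.kA false (nat_lit 0x900100000400100200c001002)) (.cD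 (nat_lit 12) (.kA false (nat_lit 0x700400600c002009001000002)) (.cD (nat_lit 16) (.kc (nat_lit 20) (nat_lit 0x5001001)) (.cD (nat_lit 24) (.kc (nat_lit 24) (nat_lit 0x3001001)) .nil)))))))) .nil)))))))) (.cD (nat_lit 24) (.kF (nat_lit 4) (nat_lit 0x10038003009001000001003001003)) .nil)))))))))
theorem c757 : (chk [] [] p757).n x369 s757 = true := by decide +kernel
noncomputable def p758 : Pf := (.ext (nat_lit 1) (nat_lit 0) (nat_lit 0x1020018010002001) (nat_lit 0x1200800c00e007001004004000010008004002001001003) (nat_lit 0xe00400801c) (nat_lit 4100) (nat_lit 4100) (nat_lit 0x10008004006001) (.dfs (nat_lit 4) (nat_lit 0x100e00400801c) (nat_lit 0x100a00400801c) (nat_lit 0x1010002001) (nat_lit 0x1010006001) (nat_lit 0) (nat_lit 0) (nat_lit 2) (nat_lit 1) (nat_lit 0) (nat_lit 4) (nat_lit 1) (nat_lit 0) (nat_lit 1) (nat_lit 0) (nat_lit 1) (nat_lit 0x10101010) (.cD (nat_lit 4) (.cut (nat_lit 1)) (.cD (nat_lit 12) (.kA false (nat_lit 0xc002004010005001008018020001002))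 (.cD (nat_lit 20) (.cut (nat_lit 0)) (.cD (nat_lit 28) (.kA false (nat_lit 0xe002004010005001008018020001002)) .nil))))))
theorem c758 : (chk [(x369, s756), (x369, s757)] [] p758).n x369 s758 = true := by decide +kernel
noncomputable def p759 : Pf := (.ext (nat_lit 1) (nat_lit 0) (nat_lit 0x1020018010002) (nat_lit 0xd00200600a006009001000001002004008005003) (nat_lit 0x500600400b) (nat_lit 4097) (nat_lit 4097) (nat_lit 0xa004002005) (.dfs (nat_lit 1) (nat_lit 0x100500600400b) (nat_lit 0x100100600400d) (nat_lit 0x1008002001) (nat_lit 0x100a002005) (nat_lit 6) (nat_lit 0) (nat_lit 2) (nat_lit 1) (nat_lit 0) (nat_lit 1) (nat_lit 1) (nat_lit 0) (nat_lit 0x1020002) (nat_lit 0x20002) (nat_lit 0x100000300100300101b) (nat_lit 8) (.cD (nat_lit 3) (.cut (nat_lit 0)) .nil)))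
theorem c759 : (chk [(x369, s758)] [] p759).n x369 s759 = true := by decide +kernel
noncomputable def p760 : Pf := (.anc (nat_lit 40) (nat_lit 0x900100000d003009001000007003004) (nat_lit 0x1002010008004) (.dfs (nat_lit 4) (nat_lit 1) (nat_lit 1) (nat_lit 4097) (nat_lit 4097) (nat_lit 0) (nat_lit 0) (nat_lit 0) (nat_lit 0) (nat_lit 0) (nat_lit 0) (nat_lit 1) (nat_lit 0) (nat_lit 0x1004002) (nat_lit 16386) (nat_lit 0x100100200000400100a00000c) (nat_lit 0x1011514) (.cD (nat_lit 2) (.czs (nat_lit 2) z1 (nat_lit 16) (.dfs (nat_lit 8) (nat_lit 4097) (nat_lit 4097) (nat_lit 4098) (nat_lit 4098) (nat_lit 0) (nat_lit 0) (nat_lit 3) (nat_lit 0) (nat_lit 0) (nat_lit 0) (nat_lit 1) (nat_lit 0) (nat_lit 1) (nat_lit 0) (nat_lit 1) (nat_lit 0x5050504) (.cD (nat_lit 2) (.kc (nat_lit 12) (nat_lit 0x3001001)) (.cD (nat_lit 8) (.kF (nat_lit 4) (nat_lit 0x900100000e00d005009001000008007005002005001005)) (.cD (nat_lit 10) (.kF (nat_lit 4) (nat_lit 0x9001000006005006009001000002005001004))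 (.cD (nat_lit 16) (.kF (nat_lit 4) (nat_lit 0x9001000002005001002)) (.cD (nat_lit 18) (.kF (nat_lit 4) (nat_lit 0x900100000800d005002005001003)) (.cD (nat_lit 24) (.dfs (nat_lit 16) (nat_lit 4098) (nat_lit 4098) (nat_lit 0x1004001) (nat_lit 0x1004001) (nat_lit 0) (nat_lit 0) (nat_lit 3) (nat_lit 0) (nat_lit 0) (nat_lit 0) (nat_lit 1) (nat_lit 0) (nat_lit 1) (nat_lit 0) (nat_lit 1) (nat_lit 0x5050504) (.cD (nat_lit 2) (.kc (nat_lit 20) (nat_lit 0x5001001)) (.cD (nat_lit 8) (.kA false (nat_lit 0x900100000400100200b001009001000003)) (.cD (nat_lit 10) (.kA false (nat_lit 0x300600200a00200400400000400100200a001003)) (.cD (nat_lit 16) (.kA false (nat_lit 0x600100200a00200900100000400100200b001009001000004)) (.cD (nat_lit 18) (.kA false (nat_lit 0x900100000600a00200500600900100000400100200b001009001000005)) (.cD (nat_lit 24) (.kc (nat_lit 24) (nat_lit 0x3001001)) (.cD (nat_lit 26) (.kc (nat_lit 28) (nat_lit 0x7001001)) .nil)))))))) (.cD (nat_lit 26) (.dfs (nat_lit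 16) (nat_lit 4098) (nat_lit 4098) (nat_lit 0x1004001) (nat_lit 0x1004001) (nat_lit 0) (nat_lit 0) (nat_lit 3) (nat_lit 0) (nat_lit 0) (nat_lit 0) (nat_lit 1) (nat_lit 0) (nat_lit 1) (nat_lit 0) (nat_lit 1) (nat_lit 0x5050504) (.cD (nat_lit 2) (.kc (nat_lit 20) (nat_lit 0x5001001)) (.cD (nat_lit 8) (.kA false (nat_lit 0x200100400a00200900100000400100200b001009001000004)) (.cD (nat_lit 10) (.kA false (nat_lit 0x900100000400100200b001009001000003)) (.cD (nat_lit 16) (.kA false (nat_lit 0x500100300a00200400400000400100200b001009001000004)) (.cD (nat_lit 18) (.kA false (nat_lit 0x100500700a00200800c00a00700500400100200b001009001000004)) (.cD (nat_lit 24) (.kc (nat_lit 28) (nat_lit 0x7001001)) (.cD (nat_lit 26) (.kc (nat_lit 24) (nat_lit 0x3001001)) .nil)))))))) .nil))))))))) (.cD (nat_lit 4) (.dfs (nat_lit 8) (nat_lit 1) (nat_lit 1) (nat_lit 0x1002001) (nat_lit 0x1002001) (nat_lit 0) (nat_lit 0) (nat_lit 0) (nat_lit 0) (nat_lit 0) (nat_lit 0) (nat_lit 1) (nat_lit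 0) (nat_lit 1) (nat_lit 0) (nat_lit 1) (nat_lit 0x11111110) (.cD (nat_lit 4) (.kc (nat_lit 12) (nat_lit 0x3001001)) (.cD (nat_lit 8) (.dfs (nat_lit 16) (nat_lit 1) (nat_lit 1) (nat_lit 0x1004002001) (nat_lit 0x1004002001) (nat_lit 0) (nat_lit 0) (nat_lit 0) (nat_lit 0) (nat_lit 0) (nat_lit 0) (nat_lit 1) (nat_lit 0) (nat_lit 1) (nat_lit 0) (nat_lit 1) (nat_lit 0x11111110) (.cD (nat_lit 4) (.kc (nat_lit 20) (nat_lit 0x5001001)) (.cD (nat_lit 8) (.kc (nat_lit 24) (nat_lit 0x3001001)) (.cD (nat_lit 12) (.kc (nat_lit 28) (nat_lit 0x7001001)) (.cD (nat_lit 16) (.dfs (nat_lit 2) (nat_lit 0x1004001002008) (nat_lit 0x1005001002008) (nat_lit 1) (nat_lit 1) (nat_lit 0) (nat_lit 0) (nat_lit 2) (nat_lit 0) (nat_lit 0) (nat_lit 2) (nat_lit 1) (nat_lit 0) (nat_lit 4100) (nat_lit 4) (nat_lit 0x100000200000a) (nat_lit 1028) (.cD (nat_lit 2) (.kA true (nat_lit 0x300700601000100900100000a004002003005007002006016001009001000005)) (.cD (nat_lit 10) (.cut (nat_lit 0)) .nil)))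 (.cD (nat_lit 20) (.dfs (nat_lit 2) (nat_lit 4101) (nat_lit 4100) (nat_lit 1) (nat_lit 1) (nat_lit 0) (nat_lit 0) (nat_lit 1) (nat_lit 4112) (nat_lit 0x20010008004002009) (nat_lit 0) (nat_lit 1) (nat_lit 0) (nat_lit 1) (nat_lit 0) (nat_lit 1) (nat_lit 0) .nil) (.cD (nat_lit 24) (.kA false (nat_lit 0x900100000400100200b001009001000003)) (.cD (nat_lit 28) (.kA false (nat_lit 0x500600200800100200200000400100200a001003)) .nil)))))))) (.cD (nat_lit 12) (.dfs (nat_lit 16) (nat_lit 1) (nat_lit 1) (nat_lit 0x1004002001) (nat_lit 0x1004002001) (nat_lit 0) (nat_lit 0) (nat_lit 0) (nat_lit 0) (nat_lit 0) (nat_lit 0) (nat_lit 1) (nat_lit 0) (nat_lit 1) (nat_lit 0) (nat_lit 1) (nat_lit 0x11111110) (.cD (nat_lit 4) (.kc (nat_lit 20) (nat_lit 0x5001001)) (.cD (nat_lit 8) (.kc (nat_lit 28) (nat_lit 0x7001001)) (.cD (nat_lit 12) (.kc (nat_lit 24) (nat_lit 0x3001001)) (.cD (nat_lit 16) (.kA false (nat_lit 0x5001007008001002002000004001006008002003)) (.cD (nat_lit 20) (.kA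 false (nat_lit 0x5004007008001002002000004005006008002003)) (.cD (nat_lit 24) (.kA false (nat_lit 0x5006007008001002002000004007006008002003)) (.cD (nat_lit 28) (.kA false (nat_lit 0x900100000400100200b001009001000003)) .nil)))))))) (.cD (nat_lit 16) (.kF (nat_lit 8) (nat_lit 0x9001000001005001002)) (.cD (nat_lit 20) (.kF (nat_lit 8) (nat_lit 0x900100000c00d003001005001003)) (.cD (nat_lit 24) (.dfs (nat_lit 16) (nat_lit 1) (nat_lit 1) (nat_lit 0x1004002001) (nat_lit 0x1004002001) (nat_lit 0) (nat_lit 0) (nat_lit 0) (nat_lit 0) (nat_lit 0) (nat_lit 0) (nat_lit 1) (nat_lit 0) (nat_lit 1) (nat_lit 0) (nat_lit 1) (nat_lit 0x11111110) (.cD (nat_lit 4) (.kc (nat_lit 20) (nat_lit 0x5001001)) (.cD (nat_lit 8) (.kA false (nat_lit 0x900100000400100200b001009001000003)) (.cD (nat_lit 12) (.kA false (nat_lit 0x400600300800100900100000400100200a001003)) (.cD (nat_lit 16) (.kA false (nat_lit 0x5004006008001008004006003003004001003008002003)) (.cD (nat_lit 20) (.kA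 false (nat_lit 0x400500300800100900100000400100200a001003)) (.cD (nat_lit 24) (.kc (nat_lit 24) (nat_lit 0x3001001)) (.cD (nat_lit 28) (.kc (nat_lit 28) (nat_lit 0x7001001)) .nil)))))))) (.cD (nat_lit 28) (.dfs (nat_lit 16) (nat_lit 1) (nat_lit 1) (nat_lit 0x1004002001) (nat_lit 0x1004002001) (nat_lit 0) (nat_lit 0) (nat_lit 0) (nat_lit 0) (nat_lit 0) (nat_lit 0) (nat_lit 1) (nat_lit 0) (nat_lit 1) (nat_lit 0) (nat_lit 1) (nat_lit 0x11111110) (.cD (nat_lit 4) (.kc (nat_lit 20) (nat_lit 0x5001001)) (.cD (nat_lit 8) (.kA false (nat_lit 0x5006001008001002002000004007001008002003)) (.cD (nat_lit 12) (.kA false (nat_lit 0x900100000400100200b001009001000003)) (.cD (nat_lit 16) (.kA false (nat_lit 0x5001006008001002002000004001007008002003)) (.cD (nat_lit 20) (.kA false (nat_lit 0x400500700800100400100200b001009001000003)) (.cD (nat_lit 24) (.kc (nat_lit 28) (nat_lit 0x7001001)) (.cD (nat_lit 28) (.kc (nat_lit 24) (nat_lit 0x3001001)) .nil)))))))) .nil))))))))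 (.cD (nat_lit 8) (.kF (nat_lit 8) (nat_lit 0x900100000a00d005009001000004007005004003004001002002006)) (.cD (nat_lit 10) (.kF (nat_lit 10) (nat_lit 0x900100000a00d005009001000004007005004003004001002002006)) (.cD (nat_lit 12) (.kF (nat_lit 12) (nat_lit 0x900100000a00d005009001000004007005004003004001002002006)) (.cD (nat_lit 16) (.dfs (nat_lit 8) (nat_lit 1) (nat_lit 1) (nat_lit 0x1002001) (nat_lit 0x1002001) (nat_lit 0) (nat_lit 0) (nat_lit 0) (nat_lit 0) (nat_lit 0) (nat_lit 0) (nat_lit 1) (nat_lit 0) (nat_lit 0x1004002) (nat_lit 16386) (nat_lit 0x100100200000400100a00000c) (nat_lit 0x1011514) (.cD (nat_lit 2) (.kF (nat_lit 4) (nat_lit 0x900100000c005006002005001003)) (.cD (nat_lit 4) (.kF (nat_lit 8) (nat_lit 0x9001000004005004001005001003)) (.cD (nat_lit 8) (.dfs (nat_lit 16) (nat_lit 1) (nat_lit 1) (nat_lit 0x1004002001) (nat_lit 0x1004002001) (nat_lit 0) (nat_lit 0) (nat_lit 0) (nat_lit 0) (nat_lit 0) (nat_lit 0) (nat_lit 1) (nat_lit 0) (nat_lit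 0x1004002) (nat_lit 16386) (nat_lit 0x100100200000400100a00000c) (nat_lit 0x1011514) (.cD (nat_lit 2) (.kA false (nat_lit 0x100500700a00200400800600f00500400100200b001009001000004)) (.cD (nat_lit 4) (.dfs (nat_lit 2) (nat_lit 4100) (nat_lit 4101) (nat_lit 1) (nat_lit 1) (nat_lit 0) (nat_lit 0) (nat_lit 1) (nat_lit 4112) (nat_lit 0x20010008004002009) (nat_lit 0) (nat_lit 1) (nat_lit 0) (nat_lit 1) (nat_lit 0) (nat_lit 1) (nat_lit 0) .nil) (.cD (nat_lit 8) (.kc (nat_lit 24) (nat_lit 0x3001001)) (.cD (nat_lit 10) (.kA false (nat_lit 0x900100000c00a00e00500600400100200b001009001000004)) (.cD (nat_lit 12) (.kA false (nat_lit 0x100600200800100400100200a001002)) (.cD (nat_lit 16) (.kc (nat_lit 20) (nat_lit 0x5001001)) (.cD (nat_lit 24) (.kc (nat_lit 28) (nat_lit 0x7001001)) .nil)))))))) (.cD (nat_lit 10) (.kF (nat_lit 4) (nat_lit 0x900100000c005006009001000002005001004)) (.cD (nat_lit 12) (.dfs (nat_lit 16) (nat_lit 1) (nat_lit 1) (nat_lit 0x1004002001) (nat_lit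 0x1004002001) (nat_lit 0) (nat_lit 0) (nat_lit 0) (nat_lit 0) (nat_lit 0) (nat_lit 0) (nat_lit 1) (nat_lit 0) (nat_lit 1) (nat_lit 0) (nat_lit 1) (nat_lit 0x11111110) (.cD (nat_lit 4) (.kA false (nat_lit 0x100400600800100400100200b001009001000003)) (.cD (nat_lit 8) (.kA false (nat_lit 0x500300400a00200300400100c002009001000003)) (.cD (nat_lit 12) (.kc (nat_lit 24) (nat_lit 0x3001001)) (.cD (nat_lit 16) (.kc (nat_lit 20) (nat_lit 0x5001001)) (.cD (nat_lit 20) (.kA false (nat_lit 0x100500600a00200500400700c002009001000003)) (.cD (nat_lit 24) (.kA false (nat_lit 0x600700300a00200700400500c002009001000003)) (.cD (nat_lit 28) (.kc (nat_lit 28) (nat_lit 0x7001001)) .nil)))))))) (.cD (nat_lit 16) (.kc (nat_lit 12) (nat_lit 0x3001001)) (.cD (nat_lit 24) (.dfs (nat_lit 16) (nat_lit 1) (nat_lit 1) (nat_lit 0x1004002001) (nat_lit 0x1004002001) (nat_lit 0) (nat_lit 0) (nat_lit 0) (nat_lit 0) (nat_lit 0) (nat_lit 0) (nat_lit 1) (nat_lit 0) (nat_lit 0x1004002) (nat_lit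 16386) (nat_lit 0x100100200000400100a00000c) (nat_lit 0x1011514) (.cD (nat_lit 2) (.kA false (nat_lit 0x900100000400a00200d00500900100000400100200b001009001000005)) (.cD (nat_lit 4) (.kA false (nat_lit 0x100400300800100900100000400100200a001003)) (.cD (nat_lit 8) (.kc (nat_lit 28) (nat_lit 0x7001001)) (.cD (nat_lit 10) (.kA false (nat_lit 0x700600200a00200400e00200300500400100200a001003)) (.cD (nat_lit 12) (.kA false (nat_lit 0x100600300800100900100000400100200a001003)) (.cD (nat_lit 16) (.kc (nat_lit 20) (nat_lit 0x5001001)) (.cD (nat_lit 24) (.kc (nat_lit 24) (nat_lit 0x3001001)) .nil)))))))) .nil)))))))) (.cD (nat_lit 24) (.kF (nat_lit 24) (nat_lit 0x900100000a00d005009001000004007005004003004001002002006)) .nil)))))))))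
theorem c760 : (chk [(x369, s759)] [] p760).n x369 s760 = true := by decide +kernel
noncomputable def p761 : Pf := (.ext (nat_lit 0) (nat_lit 0) (nat_lit 0x1020008010004) (nat_lit 0xd002004008004009001000001002004008003003) (nat_lit 0x100200400b) (nat_lit 0x1002001) (nat_lit 0x1003001) (nat_lit 0x800400200300a004002001) (.dfs (nat_lit 1) (nat_lit 0x100100200400b) (nat_lit 0x1001002004009) (nat_lit 4104) (nat_lit 4106) (nat_lit 4) (nat_lit 0) (nat_lit 2) (nat_lit 0) (nat_lit 0) (nat_lit 1) (nat_lit 1) (nat_lit 0) (nat_lit 4128) (nat_lit 32) (nat_lit 0x100000100000500000900000d) (nat_lit 8738) (.cD (nat_lit 1) (.dfs (nat_lit 2) (nat_lit 0x1002004008016) (nat_lit 0x1006004008012) (nat_lit 0x1010001) (nat_lit 0x101000d) (nat_lit 0) (nat_lit 0) (nat_lit 2) (nat_lit 0) (nat_lit 0) (nat_lit 3) (nat_lit 1) (nat_lit 0) (nat_lit 4100) (nat_lit 4) (nat_lit 0x100000700000f) (nat_lit 32896) (.cD (nat_lit 7) (.kA true (nat_lit 0x1f00801802c001001008018020001002)) (.cD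 (nat_lit 15) (.kA true (nat_lit 0xf00801802c001001008018020001002)) .nil))) (.cD (nat_lit 5) (.dfs (nat_lit 2) (nat_lit 0x1002004008016) (nat_lit 0x1006004008012) (nat_lit 0x1010001) (nat_lit 0x101000d) (nat_lit 0) (nat_lit 0) (nat_lit 2) (nat_lit 0) (nat_lit 0) (nat_lit 3) (nat_lit 1) (nat_lit 0) (nat_lit 1) (nat_lit 0) (nat_lit 1) (nat_lit 0) .nil) (.cD (nat_lit 9) (.dfs (nat_lit 2) (nat_lit 0x1002004008016) (nat_lit 0x1006004008012) (nat_lit 0x1010001) (nat_lit 0x101000d) (nat_lit 0) (nat_lit 0) (nat_lit 2) (nat_lit 0) (nat_lit 0) (nat_lit 3) (nat_lit 1) (nat_lit 0) (nat_lit 4100) (nat_lit 4) (nat_lit 0x100000700000f) (nat_lit 32896) (.cD (nat_lit 7) (.kF (nat_lit 16) (nat_lit 0x401600300803b00100401300400900100001003b00200c016004006)) (.cD (nat_lit 15) (.kF (nat_lit 16) (nat_lit 0x401600300802b00100c01300300100900001002b00200c016004006)) .nil))) (.cD (nat_lit 13) (.dfs (nat_lit 2) (nat_lit 0x1002004008016) (nat_lit 0x1006004008012) (nat_lit 0x1010001)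 (nat_lit 0x101000d) (nat_lit 0) (nat_lit 0) (nat_lit 2) (nat_lit 0) (nat_lit 0) (nat_lit 3) (nat_lit 1) (nat_lit 0) (nat_lit 1) (nat_lit 0) (nat_lit 1) (nat_lit 0) .nil) .nil))))))
theorem c761 : (chk [] [] p761).n x386 s761 = true := by decide +kernel
noncomputable def p762 : Pf := (.ext (nat_lit 1) (nat_lit 0) (nat_lit 0x1020018010002001) (nat_lit 0x1200800c00e007001004004000010008004002001001003) (nat_lit 0xe00400801c) (nat_lit 4100) (nat_lit 4100) (nat_lit 0x10008004006001) (.dfs (nat_lit 4) (nat_lit 0x100e00400801c) (nat_lit 0x100a00400801c) (nat_lit 0x1010002001) (nat_lit 0x1010006001) (nat_lit 0) (nat_lit 0) (nat_lit 2) (nat_lit 1) (nat_lit 0) (nat_lit 4) (nat_lit 1) (nat_lit 0) (nat_lit 1) (nat_lit 0) (nat_lit 1) (nat_lit 0x10101010) (.cD (nat_lit 4) (.cut (nat_lit 0)) (.cD (nat_lit 12) (.kA false (nat_lit 0xc002004010005001008018020001002)) (.cD (nat_lit 20) (.cut (nat_lit 0)) (.cD (nat_lit 28) (.kA false (nat_lit 0xe002004010005001008018020001002))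 .nil))))))
theorem c762 : (chk [(x386, s761)] [] p762).n x386 s762 = true := by decide +kernel
noncomputable def p763 : Pf := (.ext (nat_lit 1) (nat_lit 0) (nat_lit 0x1020018010002) (nat_lit 0xd00200600a006009001000001002004008005003) (nat_lit 0x500600400b) (nat_lit 4097) (nat_lit 4097) (nat_lit 0xa004002005) (.dfs (nat_lit 1) (nat_lit 0x100500600400b) (nat_lit 0x100100600400d) (nat_lit 0x1008002001) (nat_lit 0x100a002005) (nat_lit 6) (nat_lit 0) (nat_lit 2) (nat_lit 1) (nat_lit 0) (nat_lit 1) (nat_lit 1) (nat_lit 0) (nat_lit 0x1020002) (nat_lit 0x20002) (nat_lit 0x100000300100300101b) (nat_lit 8) (.cD (nat_lit 3) (.cut (nat_lit 0)) .nil)))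
theorem c763 : (chk [(x386, s762)] [] p763).n x386 s763 = true := by decide +kernel
noncomputable def p764 : Pf := (.anc (nat_lit 40) (nat_lit 0x900100000d003009001000007003004) (nat_lit 0x1002010008004) (.dfs (nat_lit 4) (nat_lit 1) (nat_lit 1) (nat_lit 4097) (nat_lit 4097) (nat_lit 0) (nat_lit 0) (nat_lit 0) (nat_lit 0) (nat_lit 0) (nat_lit 0) (nat_lit 1) (nat_lit 0) (nat_lit 0x1004002) (nat_lit 16386) (nat_lit 0x100100200000400100a00000c) (nat_lit 0x1011514) (.cD (nat_lit 2) (.czs (nat_lit 2) z1 (nat_lit 16) (.dfs (nat_lit 8) (nat_lit 4097) (nat_lit 4097) (nat_lit 4098) (nat_lit 4098) (nat_lit 0) (nat_lit 0) (nat_lit 3) (nat_lit 0) (nat_lit 0) (nat_lit 0) (nat_lit 1) (nat_lit 0) (nat_lit 1) (nat_lit 0) (nat_lit 1) (nat_lit 0x5050504) (.cD (nat_lit 2) (.kc (nat_lit 12) (nat_lit 0x3001001)) (.cD (nat_lit 8) (.kF (nat_lit 4) (nat_lit 0x900100000e00d005009001000008007005002005001005)) (.cD (nat_lit 10) (.kF (nat_lit 4) (nat_lit 0x9001000006005006009001000002005001004))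 (.cD (nat_lit 16) (.kF (nat_lit 4) (nat_lit 0x9001000002005001002)) (.cD (nat_lit 18) (.kF (nat_lit 4) (nat_lit 0x900100000800d005002005001003)) (.cD (nat_lit 24) (.dfs (nat_lit 16) (nat_lit 4098) (nat_lit 4098) (nat_lit 0x1004001) (nat_lit 0x1004001) (nat_lit 0) (nat_lit 0) (nat_lit 3) (nat_lit 0) (nat_lit 0) (nat_lit 0) (nat_lit 1) (nat_lit 0) (nat_lit 1) (nat_lit 0) (nat_lit 1) (nat_lit 0x5050504) (.cD (nat_lit 2) (.kc (nat_lit 20) (nat_lit 0x5001001)) (.cD (nat_lit 8) (.kA false (nat_lit 0x900100000400100200b001009001000003)) (.cD (nat_lit 10) (.kA false (nat_lit 0x300600200a00200400400000400100200a001003)) (.cD (nat_lit 16) (.kA false (nat_lit 0x600100200a00200900100000400100200b001009001000004)) (.cD (nat_lit 18) (.kA false (nat_lit 0x900100000600a00200500600900100000400100200b001009001000005)) (.cD (nat_lit 24) (.kc (nat_lit 24) (nat_lit 0x3001001)) (.cD (nat_lit 26) (.kc (nat_lit 28) (nat_lit 0x7001001)) .nil)))))))) (.cD (nat_lit 26) (.dfs (nat_lit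 16) (nat_lit 4098) (nat_lit 4098) (nat_lit 0x1004001) (nat_lit 0x1004001) (nat_lit 0) (nat_lit 0) (nat_lit 3) (nat_lit 0) (nat_lit 0) (nat_lit 0) (nat_lit 1) (nat_lit 0) (nat_lit 1) (nat_lit 0) (nat_lit 1) (nat_lit 0x5050504) (.cD (nat_lit 2) (.kc (nat_lit 20) (nat_lit 0x5001001)) (.cD (nat_lit 8) (.kA false (nat_lit 0x200100400a00200900100000400100200b001009001000004)) (.cD (nat_lit 10) (.kA false (nat_lit 0x900100000400100200b001009001000003)) (.cD (nat_lit 16) (.kA false (nat_lit 0x500100300a00200400400000400100200b001009001000004)) (.cD (nat_lit 18) (.kA false (nat_lit 0x100500700a00200800c00a00700500400100200b001009001000004)) (.cD (nat_lit 24) (.kc (nat_lit 28) (nat_lit 0x7001001)) (.cD (nat_lit 26) (.kc (nat_lit 24) (nat_lit 0x3001001)) .nil)))))))) .nil))))))))) (.cD (nat_lit 4) (.dfs (nat_lit 8) (nat_lit 1) (nat_lit 1) (nat_lit 0x1002001) (nat_lit 0x1002001) (nat_lit 0) (nat_lit 0) (nat_lit 0) (nat_lit 0) (nat_lit 0) (nat_lit 0) (nat_lit 1) (nat_lit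 0) (nat_lit 1) (nat_lit 0) (nat_lit 1) (nat_lit 0x11111110) (.cD (nat_lit 4) (.kc (nat_lit 12) (nat_lit 0x3001001)) (.cD (nat_lit 8) (.dfs (nat_lit 16) (nat_lit 1) (nat_lit 1) (nat_lit 0x1004002001) (nat_lit 0x1004002001) (nat_lit 0) (nat_lit 0) (nat_lit 0) (nat_lit 0) (nat_lit 0) (nat_lit 0) (nat_lit 1) (nat_lit 0) (nat_lit 1) (nat_lit 0) (nat_lit 1) (nat_lit 0x11111110) (.cD (nat_lit 4) (.kc (nat_lit 20) (nat_lit 0x5001001)) (.cD (nat_lit 8) (.kc (nat_lit 24) (nat_lit 0x3001001)) (.cD (nat_lit 12) (.kc (nat_lit 28) (nat_lit 0x7001001)) (.cD (nat_lit 16) (.dfs (nat_lit 2) (nat_lit 0x1004001002008) (nat_lit 0x1005001002008) (nat_lit 1) (nat_lit 1) (nat_lit 0) (nat_lit 0) (nat_lit 2) (nat_lit 0) (nat_lit 0) (nat_lit 2) (nat_lit 1) (nat_lit 0) (nat_lit 4100) (nat_lit 4) (nat_lit 0x100000200000a) (nat_lit 1028) (.cD (nat_lit 2) (.kA true (nat_lit 0x300700601000100900100000a004002003005007002006016001009001000005)) (.cD (nat_lit 10) (.cut (nat_lit 0)) .nil)))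 (.cD (nat_lit 20) (.dfs (nat_lit 2) (nat_lit 4101) (nat_lit 4100) (nat_lit 1) (nat_lit 1) (nat_lit 0) (nat_lit 0) (nat_lit 1) (nat_lit 4112) (nat_lit 0x20010008004002009) (nat_lit 0) (nat_lit 1) (nat_lit 0) (nat_lit 1) (nat_lit 0) (nat_lit 1) (nat_lit 0) .nil) (.cD (nat_lit 24) (.kA false (nat_lit 0x900100000400100200b001009001000003)) (.cD (nat_lit 28) (.kA false (nat_lit 0x500600200800100200200000400100200a001003)) .nil)))))))) (.cD (nat_lit 12) (.dfs (nat_lit 16) (nat_lit 1) (nat_lit 1) (nat_lit 0x1004002001) (nat_lit 0x1004002001) (nat_lit 0) (nat_lit 0) (nat_lit 0) (nat_lit 0) (nat_lit 0) (nat_lit 0) (nat_lit 1) (nat_lit 0) (nat_lit 1) (nat_lit 0) (nat_lit 1) (nat_lit 0x11111110) (.cD (nat_lit 4) (.kc (nat_lit 20) (nat_lit 0x5001001)) (.cD (nat_lit 8) (.kc (nat_lit 28) (nat_lit 0x7001001)) (.cD (nat_lit 12) (.kc (nat_lit 24) (nat_lit 0x3001001)) (.cD (nat_lit 16) (.kA false (nat_lit 0x5001007008001002002000004001006008002003)) (.cD (nat_lit 20) (.kA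 false (nat_lit 0x5004007008001002002000004005006008002003)) (.cD (nat_lit 24) (.kA false (nat_lit 0x5006007008001002002000004007006008002003)) (.cD (nat_lit 28) (.kA false (nat_lit 0x900100000400100200b001009001000003)) .nil)))))))) (.cD (nat_lit 16) (.kF (nat_lit 8) (nat_lit 0x9001000001005001002)) (.cD (nat_lit 20) (.kF (nat_lit 8) (nat_lit 0x900100000c00d003001005001003)) (.cD (nat_lit 24) (.dfs (nat_lit 16) (nat_lit 1) (nat_lit 1) (nat_lit 0x1004002001) (nat_lit 0x1004002001) (nat_lit 0) (nat_lit 0) (nat_lit 0) (nat_lit 0) (nat_lit 0) (nat_lit 0) (nat_lit 1) (nat_lit 0) (nat_lit 1) (nat_lit 0) (nat_lit 1) (nat_lit 0x11111110) (.cD (nat_lit 4) (.kc (nat_lit 20) (nat_lit 0x5001001)) (.cD (nat_lit 8) (.kA false (nat_lit 0x900100000400100200b001009001000003)) (.cD (nat_lit 12) (.kA false (nat_lit 0x400600300800100900100000400100200a001003)) (.cD (nat_lit 16) (.kA false (nat_lit 0x5004006008001008004006003003004001003008002003)) (.cD (nat_lit 20) (.kA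 false (nat_lit 0x400500300800100900100000400100200a001003)) (.cD (nat_lit 24) (.kc (nat_lit 24) (nat_lit 0x3001001)) (.cD (nat_lit 28) (.kc (nat_lit 28) (nat_lit 0x7001001)) .nil)))))))) (.cD (nat_lit 28) (.dfs (nat_lit 16) (nat_lit 1) (nat_lit 1) (nat_lit 0x1004002001) (nat_lit 0x1004002001) (nat_lit 0) (nat_lit 0) (nat_lit 0) (nat_lit 0) (nat_lit 0) (nat_lit 0) (nat_lit 1) (nat_lit 0) (nat_lit 1) (nat_lit 0) (nat_lit 1) (nat_lit 0x11111110) (.cD (nat_lit 4) (.kc (nat_lit 20) (nat_lit 0x5001001)) (.cD (nat_lit 8) (.kA false (nat_lit 0x5006001008001002002000004007001008002003)) (.cD (nat_lit 12) (.kA false (nat_lit 0x900100000400100200b001009001000003)) (.cD (nat_lit 16) (.kA false (nat_lit 0x5001006008001002002000004001007008002003)) (.cD (nat_lit 20) (.kA false (nat_lit 0x400500700800100400100200b001009001000003)) (.cD (nat_lit 24) (.kc (nat_lit 28) (nat_lit 0x7001001)) (.cD (nat_lit 28) (.kc (nat_lit 24) (nat_lit 0x3001001)) .nil)))))))) .nil))))))))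 (.cD (nat_lit 8) (.kF (nat_lit 8) (nat_lit 0x900100000a00d005009001000004007005004003004001002002006)) (.cD (nat_lit 10) (.kF (nat_lit 10) (nat_lit 0x900100000a00d005009001000004007005004003004001002002006)) (.cD (nat_lit 12) (.kF (nat_lit 12) (nat_lit 0x900100000a00d005009001000004007005004003004001002002006)) (.cD (nat_lit 16) (.dfs (nat_lit 8) (nat_lit 1) (nat_lit 1) (nat_lit 0x1002001) (nat_lit 0x1002001) (nat_lit 0) (nat_lit 0) (nat_lit 0) (nat_lit 0) (nat_lit 0) (nat_lit 0) (nat_lit 1) (nat_lit 0) (nat_lit 0x1004002) (nat_lit 16386) (nat_lit 0x100100200000400100a00000c) (nat_lit 0x1011514) (.cD (nat_lit 2) (.kF (nat_lit 4) (nat_lit 0x900100000c005006002005001003)) (.cD (nat_lit 4) (.kF (nat_lit 8) (nat_lit 0x9001000004005004001005001003)) (.cD (nat_lit 8) (.dfs (nat_lit 16) (nat_lit 1) (nat_lit 1) (nat_lit 0x1004002001) (nat_lit 0x1004002001) (nat_lit 0) (nat_lit 0) (nat_lit 0) (nat_lit 0) (nat_lit 0) (nat_lit 0) (nat_lit 1) (nat_lit 0) (nat_lit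 0x1004002) (nat_lit 16386) (nat_lit 0x100100200000400100a00000c) (nat_lit 0x1011514) (.cD (nat_lit 2) (.kA false (nat_lit 0x100500700a00200400800600f00500400100200b001009001000004)) (.cD (nat_lit 4) (.dfs (nat_lit 2) (nat_lit 4100) (nat_lit 4101) (nat_lit 1) (nat_lit 1) (nat_lit 0) (nat_lit 0) (nat_lit 1) (nat_lit 4112) (nat_lit 0x20010008004002009) (nat_lit 0) (nat_lit 1) (nat_lit 0) (nat_lit 1) (nat_lit 0) (nat_lit 1) (nat_lit 0) .nil) (.cD (nat_lit 8) (.kc (nat_lit 24) (nat_lit 0x3001001)) (.cD (nat_lit 10) (.kA false (nat_lit 0x900100000c00a00e00500600400100200b001009001000004)) (.cD (nat_lit 12) (.kA false (nat_lit 0x100600200800100400100200a001002)) (.cD (nat_lit 16) (.kc (nat_lit 20) (nat_lit 0x5001001)) (.cD (nat_lit 24) (.kc (nat_lit 28) (nat_lit 0x7001001)) .nil)))))))) (.cD (nat_lit 10) (.kF (nat_lit 4) (nat_lit 0x900100000c005006009001000002005001004)) (.cD (nat_lit 12) (.dfs (nat_lit 16) (nat_lit 1) (nat_lit 1) (nat_lit 0x1004002001) (nat_lit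 0x1004002001) (nat_lit 0) (nat_lit 0) (nat_lit 0) (nat_lit 0) (nat_lit 0) (nat_lit 0) (nat_lit 1) (nat_lit 0) (nat_lit 1) (nat_lit 0) (nat_lit 1) (nat_lit 0x11111110) (.cD (nat_lit 4) (.kA false (nat_lit 0x100400600800100400100200b001009001000003)) (.cD (nat_lit 8) (.kA false (nat_lit 0x500300400a00200300400100c002009001000003)) (.cD (nat_lit 12) (.kc (nat_lit 24) (nat_lit 0x3001001)) (.cD (nat_lit 16) (.kc (nat_lit 20) (nat_lit 0x5001001)) (.cD (nat_lit 20) (.kA false (nat_lit 0x100500600a00200500400700c002009001000003)) (.cD (nat_lit 24) (.kA false (nat_lit 0x600700300a00200700400500c002009001000003)) (.cD (nat_lit 28) (.kc (nat_lit 28) (nat_lit 0x7001001)) .nil)))))))) (.cD (nat_lit 16) (.kc (nat_lit 12) (nat_lit 0x3001001)) (.cD (nat_lit 24) (.dfs (nat_lit 16) (nat_lit 1) (nat_lit 1) (nat_lit 0x1004002001) (nat_lit 0x1004002001) (nat_lit 0) (nat_lit 0) (nat_lit 0) (nat_lit 0) (nat_lit 0) (nat_lit 0) (nat_lit 1) (nat_lit 0) (nat_lit 0x1004002) (nat_lit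 16386) (nat_lit 0x100100200000400100a00000c) (nat_lit 0x1011514) (.cD (nat_lit 2) (.kA false (nat_lit 0x900100000400a00200d00500900100000400100200b001009001000005)) (.cD (nat_lit 4) (.kA false (nat_lit 0x100400300800100900100000400100200a001003)) (.cD (nat_lit 8) (.kc (nat_lit 28) (nat_lit 0x7001001)) (.cD (nat_lit 10) (.kA false (nat_lit 0x700600200a00200400e00200300500400100200a001003)) (.cD (nat_lit 12) (.kA false (nat_lit 0x100600300800100900100000400100200a001003)) (.cD (nat_lit 16) (.kc (nat_lit 20) (nat_lit 0x5001001)) (.cD (nat_lit 24) (.kc (nat_lit 24) (nat_lit 0x3001001)) .nil)))))))) .nil)))))))) (.cD (nat_lit 24) (.kF (nat_lit 24) (nat_lit 0x900100000a00d005009001000004007005004003004001002002006)) .nil)))))))))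
theorem c764 : (chk [(x386, s763)] [] p764).n x386 s764 = true := by decide +kernel
noncomputable def p765 : Pf := (.anc (nat_lit 36) (nat_lit 0x1001000005002002) (nat_lit 0x1003010008004) (.dfs (nat_lit 4) (nat_lit 1) (nat_lit 1) (nat_lit 4097) (nat_lit 4097) (nat_lit 0) (nat_lit 0) (nat_lit 0) (nat_lit 0) (nat_lit 0) (nat_lit 0) (nat_lit 1) (nat_lit 0) (nat_lit 0x1004002) (nat_lit 16386) (nat_lit 0x100100200000400100a00000c) (nat_lit 0x1011514) (.cD (nat_lit 2) (.czs (nat_lit 34) z1 (nat_lit 16) (.dfs (nat_lit 8) (nat_lit 4099) (nat_lit 4099) (nat_lit 0x1002001) (nat_lit 0x1002001) (nat_lit 0) (nat_lit 0) (nat_lit 3) (nat_lit 0) (nat_lit 0) (nat_lit 0) (nat_lit 1) (nat_lit 0) (nat_lit 1) (nat_lit 0) (nat_lit 1) (nat_lit 0x5050504) (.cD (nat_lit 2) (.kc (nat_lit 12) (nat_lit 0x3001001)) (.cD (nat_lit 8) (.kF (nat_lit 8) (nat_lit 0x100100000e005006001006001003)) (.cD (nat_lit 10) (.kF (nat_lit 8) (nat_lit 0x100100000a005006001006001003)) (.cD (nat_lit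 16) (.kF (nat_lit 8) (nat_lit 0x1004001002005003001001000002001004004)) (.cD (nat_lit 18) (.kF (nat_lit 8) (nat_lit 0x1004001002005003001001000002001004004)) (.cD (nat_lit 24) (.dfs (nat_lit 16) (nat_lit 4102) (nat_lit 4102) (nat_lit 0x1004002001) (nat_lit 0x1004002001) (nat_lit 0) (nat_lit 0) (nat_lit 3) (nat_lit 0) (nat_lit 0) (nat_lit 0) (nat_lit 1) (nat_lit 0) (nat_lit 1) (nat_lit 0) (nat_lit 1) (nat_lit 0x5050504) (.cD (nat_lit 2) (.kc (nat_lit 20) (nat_lit 0x5001001)) (.cD (nat_lit 8) (.kA false (nat_lit 0x5004002008001008004002005003001001000003)) (.cD (nat_lit 10) (.kA false (nat_lit 0x5004002008001008004002005003001001000003)) (.cD (nat_lit 16) (.kA false (nat_lit 0x5004002008001008004002005003001001000003)) (.cD (nat_lit 18) (.kA false (nat_lit 0x100100000400100200d001001001000003)) (.cD (nat_lit 24) (.kc (nat_lit 24) (nat_lit 0x3001001)) (.cD (nat_lit 26) (.kc (nat_lit 28) (nat_lit 0x7001001)) .nil)))))))) (.cD (nat_lit 26) (.dfs (nat_lit 16)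 (nat_lit 4102) (nat_lit 4102) (nat_lit 0x1004002001) (nat_lit 0x1004002001) (nat_lit 0) (nat_lit 0) (nat_lit 3) (nat_lit 0) (nat_lit 0) (nat_lit 0) (nat_lit 1) (nat_lit 0) (nat_lit 1) (nat_lit 0) (nat_lit 1) (nat_lit 0x5050504) (.cD (nat_lit 2) (.kc (nat_lit 20) (nat_lit 0x5001001)) (.cD (nat_lit 8) (.kA false (nat_lit 0x5004002008001008004002005003001001000003)) (.cD (nat_lit 10) (.kA false (nat_lit 0x5004002008001008004002005003001001000003)) (.cD (nat_lit 16) (.kA false (nat_lit 0x5004002008001008004002005003001001000003)) (.cD (nat_lit 18) (.kA false (nat_lit 0x100100000400100200d001001001000003)) (.cD (nat_lit 24) (.kc (nat_lit 28) (nat_lit 0x7001001)) (.cD (nat_lit 26) (.kc (nat_lit 24) (nat_lit 0x3001001)) .nil)))))))) .nil))))))))) (.cD (nat_lit 4) (.dfs (nat_lit 8) (nat_lit 1) (nat_lit 1) (nat_lit 0x1002001) (nat_lit 0x1002001) (nat_lit 0) (nat_lit 0) (nat_lit 0) (nat_lit 0) (nat_lit 0) (nat_lit 0) (nat_lit 1) (nat_lit 0) (nat_lit 1) (nat_lit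 0) (nat_lit 1) (nat_lit 0x11111110) (.cD (nat_lit 4) (.kc (nat_lit 12) (nat_lit 0x3001001)) (.cD (nat_lit 8) (.dfs (nat_lit 16) (nat_lit 1) (nat_lit 1) (nat_lit 0x1004002001) (nat_lit 0x1004002001) (nat_lit 0) (nat_lit 0) (nat_lit 0) (nat_lit 0) (nat_lit 0) (nat_lit 0) (nat_lit 1) (nat_lit 0) (nat_lit 1) (nat_lit 0) (nat_lit 1) (nat_lit 0x11111110) (.cD (nat_lit 4) (.kc (nat_lit 20) (nat_lit 0x5001001)) (.cD (nat_lit 8) (.kc (nat_lit 24) (nat_lit 0x3001001)) (.cD (nat_lit 12) (.kc (nat_lit 28) (nat_lit 0x7001001)) (.cD (nat_lit 16) (.dfs (nat_lit 3) (nat_lit 0x1004001002008) (nat_lit 0x1005001002008) (nat_lit 1) (nat_lit 1) (nat_lit 3) (nat_lit 0) (nat_lit 2) (nat_lit 0) (nat_lit 0) (nat_lit 2) (nat_lit 1) (nat_lit 0) (nat_lit 1) (nat_lit 0) (nat_lit 1) (nat_lit 0) .nil) (.cD (nat_lit 20) (.dfs (nat_lit 3) (nat_lit 4101) (nat_lit 4100) (nat_lit 1) (nat_lit 1) (nat_lit 3) (nat_lit 0) (nat_lit 1) (nat_lit 4112) (nat_lit 0x20010008004002001) (nat_lit 0)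 (nat_lit 1) (nat_lit 0) (nat_lit 1) (nat_lit 0) (nat_lit 1) (nat_lit 0) .nil) (.cD (nat_lit 24) (.kA false (nat_lit 0x5004002008001008004002005003001001000003)) (.cD (nat_lit 28) (.kA false (nat_lit 0x5004002008001008004002005003001001000003)) .nil)))))))) (.cD (nat_lit 12) (.dfs (nat_lit 16) (nat_lit 1) (nat_lit 1) (nat_lit 0x1004002001) (nat_lit 0x1004002001) (nat_lit 0) (nat_lit 0) (nat_lit 0) (nat_lit 0) (nat_lit 0) (nat_lit 0) (nat_lit 1) (nat_lit 0) (nat_lit 1) (nat_lit 0) (nat_lit 1) (nat_lit 0x11111110) (.cD (nat_lit 4) (.kc (nat_lit 20) (nat_lit 0x5001001)) (.cD (nat_lit 8) (.kc (nat_lit 28) (nat_lit 0x7001001)) (.cD (nat_lit 12) (.kc (nat_lit 24) (nat_lit 0x3001001)) (.cD (nat_lit 16) (.kA false (nat_lit 0x5004002008001008004002005003001001000003)) (.cD (nat_lit 20) (.kA false (nat_lit 0x100100000400100200d001001001000003)) (.cD (nat_lit 24) (.kA false (nat_lit 0x5004002008001008004002005003001001000003)) (.cD (nat_lit 28) (.kA false (nat_lit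 0x5004002008001008004002005003001001000003)) .nil)))))))) (.cD (nat_lit 16) (.kF (nat_lit 8) (nat_lit 0x100100000c005004001006001003)) (.cD (nat_lit 20) (.kF (nat_lit 8) (nat_lit 0x1001000008005004001006001003)) (.cD (nat_lit 24) (.dfs (nat_lit 16) (nat_lit 1) (nat_lit 1) (nat_lit 0x1004002001) (nat_lit 0x1004002001) (nat_lit 0) (nat_lit 0) (nat_lit 0) (nat_lit 0) (nat_lit 0) (nat_lit 0) (nat_lit 1) (nat_lit 0) (nat_lit 1) (nat_lit 0) (nat_lit 1) (nat_lit 0x11111110) (.cD (nat_lit 4) (.kc (nat_lit 20) (nat_lit 0x5001001)) (.cD (nat_lit 8) (.kA false (nat_lit 0x400200300800100400100200c001002)) (.cD (nat_lit 12) (.kA false (nat_lit 0x400600300800100400100200c001002)) (.cD (nat_lit 16) (.kA false (nat_lit 0x5004002008001008004002005003001001000003)) (.cD (nat_lit 20) (.kA false (nat_lit 0x400500300800100400100200c001002)) (.cD (nat_lit 24) (.kc (nat_lit 24) (nat_lit 0x3001001)) (.cD (nat_lit 28) (.kc (nat_lit 28) (nat_lit 0x7001001)) .nil)))))))) (.cD (nat_lit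 28) (.dfs (nat_lit 16) (nat_lit 1) (nat_lit 1) (nat_lit 0x1004002001) (nat_lit 0x1004002001) (nat_lit 0) (nat_lit 0) (nat_lit 0) (nat_lit 0) (nat_lit 0) (nat_lit 0) (nat_lit 1) (nat_lit 0) (nat_lit 1) (nat_lit 0) (nat_lit 1) (nat_lit 0x11111110) (.cD (nat_lit 4) (.kc (nat_lit 20) (nat_lit 0x5001001)) (.cD (nat_lit 8) (.kA false (nat_lit 0x400200700800100400100200c001002)) (.cD (nat_lit 12) (.kA false (nat_lit 0x400600700800100400100200c001002)) (.cD (nat_lit 16) (.kA false (nat_lit 0x5004002008001008004002005003001001000003)) (.cD (nat_lit 20) (.kA false (nat_lit 0x400500700800100400100200c001002)) (.cD (nat_lit 24) (.kc (nat_lit 28) (nat_lit 0x7001001)) (.cD (nat_lit 28) (.kc (nat_lit 24) (nat_lit 0x3001001)) .nil)))))))) .nil)))))))) (.cD (nat_lit 8) (.kF (nat_lit 4) (nat_lit 0x1002001004005003001001000004001004004)) (.cD (nat_lit 10) (.kF (nat_lit 4) (nat_lit 0x1001000008005006001001000001003001004)) (.cD (nat_lit 12) (.kF (nat_lit 4) (nat_lit 0x1002001004005003001001000004001004004))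 (.cD (nat_lit 16) (.dfs (nat_lit 8) (nat_lit 1) (nat_lit 1) (nat_lit 0x1002001) (nat_lit 0x1002001) (nat_lit 0) (nat_lit 0) (nat_lit 0) (nat_lit 0) (nat_lit 0) (nat_lit 0) (nat_lit 1) (nat_lit 0) (nat_lit 0x1004002) (nat_lit 16386) (nat_lit 0x100100200000400100a00000c) (nat_lit 0x1011514) (.cD (nat_lit 2) (.kF (nat_lit 8) (nat_lit 0x1004001002005003001001000002001004004)) (.cD (nat_lit 4) (.kF (nat_lit 8) (nat_lit 0x1001000001006001002)) (.cD (nat_lit 8) (.dfs (nat_lit 16) (nat_lit 1) (nat_lit 1) (nat_lit 0x1004002001) (nat_lit 0x1004002001) (nat_lit 0) (nat_lit 0) (nat_lit 0) (nat_lit 0) (nat_lit 0) (nat_lit 0) (nat_lit 1) (nat_lit 0) (nat_lit 0x1004002) (nat_lit 16386) (nat_lit 0x100100200000400100a00000c) (nat_lit 0x1011514) (.cD (nat_lit 2) (.kA false (nat_lit 0x100100000400100200c001002)) (.cD (nat_lit 4) (.dfs (nat_lit 3) (nat_lit 4100) (nat_lit 4101) (nat_lit 1) (nat_lit 1) (nat_lit 3) (nat_lit 0) (nat_lit 1) (nat_lit 4112) (nat_lit 0x20010008004002001)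 (nat_lit 0) (nat_lit 1) (nat_lit 0) (nat_lit 1) (nat_lit 0) (nat_lit 1) (nat_lit 0) .nil) (.cD (nat_lit 8) (.kc (nat_lit 24) (nat_lit 0x3001001)) (.cD (nat_lit 10) (.kA false (nat_lit 0x100100000400100200c001002)) (.cD (nat_lit 12) (.kA false (nat_lit 0x300400200c002001001000002)) (.cD (nat_lit 16) (.kc (nat_lit 20) (nat_lit 0x5001001)) (.cD (nat_lit 24) (.kc (nat_lit 28) (nat_lit 0x7001001)) .nil)))))))) (.cD (nat_lit 10) (.kF (nat_lit 8) (nat_lit 0x1001000001006001002)) (.cD (nat_lit 12) (.dfs (nat_lit 16) (nat_lit 1) (nat_lit 1) (nat_lit 0x1004002001) (nat_lit 0x1004002001) (nat_lit 0) (nat_lit 0) (nat_lit 0) (nat_lit 0) (nat_lit 0) (nat_lit 0) (nat_lit 1) (nat_lit 0) (nat_lit 1) (nat_lit 0) (nat_lit 1) (nat_lit 0x11111110) (.cD (nat_lit 4) (.kA false (nat_lit 0x100400300c002001001000002)) (.cD (nat_lit 8) (.kA false (nat_lit 0x300400100c002001001000002)) (.cD (nat_lit 12) (.kc (nat_lit 24) (nat_lit 0x3001001)) (.cD (nat_lit 16) (.kc (nat_lit 20) (nat_lit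 0x5001001)) (.cD (nat_lit 20) (.kA false (nat_lit 0x500400700c002001001000002)) (.cD (nat_lit 24) (.kA false (nat_lit 0x700400500c002001001000002)) (.cD (nat_lit 28) (.kc (nat_lit 28) (nat_lit 0x7001001)) .nil)))))))) (.cD (nat_lit 16) (.kc (nat_lit 12) (nat_lit 0x3001001)) (.cD (nat_lit 24) (.dfs (nat_lit 16) (nat_lit 1) (nat_lit 1) (nat_lit 0x1004002001) (nat_lit 0x1004002001) (nat_lit 0) (nat_lit 0) (nat_lit 0) (nat_lit 0) (nat_lit 0) (nat_lit 0) (nat_lit 1) (nat_lit 0) (nat_lit 0x1004002) (nat_lit 16386) (nat_lit 0x100100200000400100a00000c) (nat_lit 0x1011514) (.cD (nat_lit 2) (.kA false (nat_lit 0x100100000400100200c001002)) (.cD (nat_lit 4) (.kA false (nat_lit 0x100400600c002001001000002)) (.cD (nat_lit 8) (.kc (nat_lit 28) (nat_lit 0x7001001)) (.cD (nat_lit 10) (.kA false (nat_lit 0x100100000400100200c001002)) (.cD (nat_lit 12) (.kA false (nat_lit 0x700400600c002001001000002)) (.cD (nat_lit 16) (.kc (nat_lit 20) (nat_lit 0x5001001)) (.cD (nat_lit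 24) (.kc (nat_lit 24) (nat_lit 0x3001001)) .nil)))))))) .nil)))))))) (.cD (nat_lit 24) (.kF (nat_lit 4) (nat_lit 0x1002001004005003001001000004001004004)) .nil)))))))))
theorem c765 : (chk [] [] p765).n x387 s765 = true := by decide +kernel
noncomputable def p766 : Pf := (.anc (nat_lit 36) (nat_lit 0x1001000005002002) (nat_lit 0x1003010008004) (.dfs (nat_lit 4) (nat_lit 1) (nat_lit 1) (nat_lit 4097) (nat_lit 4097) (nat_lit 0) (nat_lit 0) (nat_lit 0) (nat_lit 0) (nat_lit 0) (nat_lit 0) (nat_lit 1) (nat_lit 0) (nat_lit 0x1004002) (nat_lit 16386) (nat_lit 0x100100200000400100a00000c) (nat_lit 0x1011514) (.cD (nat_lit 2) (.czs (nat_lit 34) z1 (nat_lit 16) (.dfs (nat_lit 8) (nat_lit 4099) (nat_lit 4099) (nat_lit 0x1002001) (nat_lit 0x1002001) (nat_lit 0) (nat_lit 0) (nat_lit 3) (nat_lit 0) (nat_lit 0) (nat_lit 0) (nat_lit 1) (nat_lit 0) (nat_lit 1) (nat_lit 0) (nat_lit 1) (nat_lit 0x5050504) (.cD (nat_lit 2) (.kc (nat_lit 12) (nat_lit 0x3001001)) (.cD (nat_lit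 8) (.kF (nat_lit 8) (nat_lit 0x100100000e005006001006001003)) (.cD (nat_lit 10) (.kF (nat_lit 8) (nat_lit 0x100100000a005006001006001003)) (.cD (nat_lit 16) (.kF (nat_lit 8) (nat_lit 0x1004001002005003001001000002001004004)) (.cD (nat_lit 18) (.kF (nat_lit 8) (nat_lit 0x1004001002005003001001000002001004004)) (.cD (nat_lit 24) (.dfs (nat_lit 16) (nat_lit 4102) (nat_lit 4102) (nat_lit 0x1004002001) (nat_lit 0x1004002001) (nat_lit 0) (nat_lit 0) (nat_lit 3) (nat_lit 0) (nat_lit 0) (nat_lit 0) (nat_lit 1) (nat_lit 0) (nat_lit 1) (nat_lit 0) (nat_lit 1) (nat_lit 0x5050504) (.cD (nat_lit 2) (.kc (nat_lit 20) (nat_lit 0x5001001)) (.cD (nat_lit 8) (.kA false (nat_lit 0x5004002008001008004002005003001001000003)) (.cD (nat_lit 10) (.kA false (nat_lit 0x5004002008001008004002005003001001000003)) (.cD (nat_lit 16) (.kA false (nat_lit 0x5004002008001008004002005003001001000003)) (.cD (nat_lit 18) (.kA false (nat_lit 0x100100000400100200d001001001000003)) (.cD (nat_lit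 24) (.kc (nat_lit 24) (nat_lit 0x3001001)) (.cD (nat_lit 26) (.kc (nat_lit 28) (nat_lit 0x7001001)) .nil)))))))) (.cD (nat_lit 26) (.dfs (nat_lit 16) (nat_lit 4102) (nat_lit 4102) (nat_lit 0x1004002001) (nat_lit 0x1004002001) (nat_lit 0) (nat_lit 0) (nat_lit 3) (nat_lit 0) (nat_lit 0) (nat_lit 0) (nat_lit 1) (nat_lit 0) (nat_lit 1) (nat_lit 0) (nat_lit 1) (nat_lit 0x5050504) (.cD (nat_lit 2) (.kc (nat_lit 20) (nat_lit 0x5001001)) (.cD (nat_lit 8) (.kA false (nat_lit 0x5004002008001008004002005003001001000003)) (.cD (nat_lit 10) (.kA false (nat_lit 0x5004002008001008004002005003001001000003)) (.cD (nat_lit 16) (.kA false (nat_lit 0x5004002008001008004002005003001001000003)) (.cD (nat_lit 18) (.kA false (nat_lit 0x100100000400100200d001001001000003)) (.cD (nat_lit 24) (.kc (nat_lit 28) (nat_lit 0x7001001)) (.cD (nat_lit 26) (.kc (nat_lit 24) (nat_lit 0x3001001)) .nil)))))))) .nil))))))))) (.cD (nat_lit 4) (.dfs (nat_lit 8) (nat_lit 1) (nat_lit 1) (nat_lit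 0x1002001) (nat_lit 0x1002001) (nat_lit 0) (nat_lit 0) (nat_lit 0) (nat_lit 0) (nat_lit 0) (nat_lit 0) (nat_lit 1) (nat_lit 0) (nat_lit 1) (nat_lit 0) (nat_lit 1) (nat_lit 0x11111110) (.cD (nat_lit 4) (.kc (nat_lit 12) (nat_lit 0x3001001)) (.cD (nat_lit 8) (.dfs (nat_lit 16) (nat_lit 1) (nat_lit 1) (nat_lit 0x1004002001) (nat_lit 0x1004002001) (nat_lit 0) (nat_lit 0) (nat_lit 0) (nat_lit 0) (nat_lit 0) (nat_lit 0) (nat_lit 1) (nat_lit 0) (nat_lit 1) (nat_lit 0) (nat_lit 1) (nat_lit 0x11111110) (.cD (nat_lit 4) (.kc (nat_lit 20) (nat_lit 0x5001001)) (.cD (nat_lit 8) (.kc (nat_lit 24) (nat_lit 0x3001001)) (.cD (nat_lit 12) (.kc (nat_lit 28) (nat_lit 0x7001001)) (.cD (nat_lit 16) (.dfs (nat_lit 3) (nat_lit 0x1004001002008) (nat_lit 0x1005001002008) (nat_lit 1) (nat_lit 1) (nat_lit 3) (nat_lit 0) (nat_lit 2) (nat_lit 0) (nat_lit 0) (nat_lit 2) (nat_lit 1) (nat_lit 0) (nat_lit 1) (nat_lit 0) (nat_lit 1) (nat_lit 0) .nil) (.cD (nat_lit 20) (.dfs (nat_lit 3)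 (nat_lit 4101) (nat_lit 4100) (nat_lit 1) (nat_lit 1) (nat_lit 3) (nat_lit 0) (nat_lit 1) (nat_lit 4112) (nat_lit 0x20010008004002001) (nat_lit 0) (nat_lit 1) (nat_lit 0) (nat_lit 1) (nat_lit 0) (nat_lit 1) (nat_lit 0) .nil) (.cD (nat_lit 24) (.kA false (nat_lit 0x5004002008001008004002005003001001000003)) (.cD (nat_lit 28) (.kA false (nat_lit 0x5004002008001008004002005003001001000003)) .nil)))))))) (.cD (nat_lit 12) (.dfs (nat_lit 16) (nat_lit 1) (nat_lit 1) (nat_lit 0x1004002001) (nat_lit 0x1004002001) (nat_lit 0) (nat_lit 0) (nat_lit 0) (nat_lit 0) (nat_lit 0) (nat_lit 0) (nat_lit 1) (nat_lit 0) (nat_lit 1) (nat_lit 0) (nat_lit 1) (nat_lit 0x11111110) (.cD (nat_lit 4) (.kc (nat_lit 20) (nat_lit 0x5001001)) (.cD (nat_lit 8) (.kc (nat_lit 28) (nat_lit 0x7001001)) (.cD (nat_lit 12) (.kc (nat_lit 24) (nat_lit 0x3001001)) (.cD (nat_lit 16) (.kA false (nat_lit 0x5004002008001008004002005003001001000003)) (.cD (nat_lit 20) (.kA false (nat_lit 0x100100000400100200d001001001000003))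 (.cD (nat_lit 24) (.kA false (nat_lit 0x5004002008001008004002005003001001000003)) (.cD (nat_lit 28) (.kA false (nat_lit 0x5004002008001008004002005003001001000003)) .nil)))))))) (.cD (nat_lit 16) (.kF (nat_lit 8) (nat_lit 0x100100000c005004001006001003)) (.cD (nat_lit 20) (.kF (nat_lit 8) (nat_lit 0x1001000008005004001006001003)) (.cD (nat_lit 24) (.dfs (nat_lit 16) (nat_lit 1) (nat_lit 1) (nat_lit 0x1004002001) (nat_lit 0x1004002001) (nat_lit 0) (nat_lit 0) (nat_lit 0) (nat_lit 0) (nat_lit 0) (nat_lit 0) (nat_lit 1) (nat_lit 0) (nat_lit 1) (nat_lit 0) (nat_lit 1) (nat_lit 0x11111110) (.cD (nat_lit 4) (.kc (nat_lit 20) (nat_lit 0x5001001)) (.cD (nat_lit 8) (.kA false (nat_lit 0x400200300800100400100200c001002)) (.cD (nat_lit 12) (.kA false (nat_lit 0x400600300800100400100200c001002)) (.cD (nat_lit 16) (.kA false (nat_lit 0x5004002008001008004002005003001001000003)) (.cD (nat_lit 20) (.kA false (nat_lit 0x400500300800100400100200c001002)) (.cD (nat_lit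 24) (.kc (nat_lit 24) (nat_lit 0x3001001)) (.cD (nat_lit 28) (.kc (nat_lit 28) (nat_lit 0x7001001)) .nil)))))))) (.cD (nat_lit 28) (.dfs (nat_lit 16) (nat_lit 1) (nat_lit 1) (nat_lit 0x1004002001) (nat_lit 0x1004002001) (nat_lit 0) (nat_lit 0) (nat_lit 0) (nat_lit 0) (nat_lit 0) (nat_lit 0) (nat_lit 1) (nat_lit 0) (nat_lit 1) (nat_lit 0) (nat_lit 1) (nat_lit 0x11111110) (.cD (nat_lit 4) (.kc (nat_lit 20) (nat_lit 0x5001001)) (.cD (nat_lit 8) (.kA false (nat_lit 0x400200700800100400100200c001002)) (.cD (nat_lit 12) (.kA false (nat_lit 0x400600700800100400100200c001002)) (.cD (nat_lit 16) (.kA false (nat_lit 0x5004002008001008004002005003001001000003)) (.cD (nat_lit 20) (.kA false (nat_lit 0x400500700800100400100200c001002)) (.cD (nat_lit 24) (.kc (nat_lit 28) (nat_lit 0x7001001)) (.cD (nat_lit 28) (.kc (nat_lit 24) (nat_lit 0x3001001)) .nil)))))))) .nil)))))))) (.cD (nat_lit 8) (.kF (nat_lit 4) (nat_lit 0x1002001004005003001001000004001004004)) (.cD (nat_lit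 10) (.kF (nat_lit 4) (nat_lit 0x1001000008005006001001000001003001004)) (.cD (nat_lit 12) (.kF (nat_lit 4) (nat_lit 0x1002001004005003001001000004001004004)) (.cD (nat_lit 16) (.dfs (nat_lit 8) (nat_lit 1) (nat_lit 1) (nat_lit 0x1002001) (nat_lit 0x1002001) (nat_lit 0) (nat_lit 0) (nat_lit 0) (nat_lit 0) (nat_lit 0) (nat_lit 0) (nat_lit 1) (nat_lit 0) (nat_lit 0x1004002) (nat_lit 16386) (nat_lit 0x100100200000400100a00000c) (nat_lit 0x1011514) (.cD (nat_lit 2) (.kF (nat_lit 8) (nat_lit 0x1004001002005003001001000002001004004)) (.cD (nat_lit 4) (.kF (nat_lit 8) (nat_lit 0x1001000001006001002)) (.cD (nat_lit 8) (.dfs (nat_lit 16) (nat_lit 1) (nat_lit 1) (nat_lit 0x1004002001) (nat_lit 0x1004002001) (nat_lit 0) (nat_lit 0) (nat_lit 0) (nat_lit 0) (nat_lit 0) (nat_lit 0) (nat_lit 1) (nat_lit 0) (nat_lit 0x1004002) (nat_lit 16386) (nat_lit 0x100100200000400100a00000c) (nat_lit 0x1011514) (.cD (nat_lit 2) (.kA false (nat_lit 0x100100000400100200c001002)) (.cD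 (nat_lit 4) (.dfs (nat_lit 3) (nat_lit 4100) (nat_lit 4101) (nat_lit 1) (nat_lit 1) (nat_lit 3) (nat_lit 0) (nat_lit 1) (nat_lit 4112) (nat_lit 0x20010008004002001) (nat_lit 0) (nat_lit 1) (nat_lit 0) (nat_lit 1) (nat_lit 0) (nat_lit 1) (nat_lit 0) .nil) (.cD (nat_lit 8) (.kc (nat_lit 24) (nat_lit 0x3001001)) (.cD (nat_lit 10) (.kA false (nat_lit 0x100100000400100200c001002)) (.cD (nat_lit 12) (.kA false (nat_lit 0x300400200c002001001000002)) (.cD (nat_lit 16) (.kc (nat_lit 20) (nat_lit 0x5001001)) (.cD (nat_lit 24) (.kc (nat_lit 28) (nat_lit 0x7001001)) .nil)))))))) (.cD (nat_lit 10) (.kF (nat_lit 8) (nat_lit 0x1001000001006001002)) (.cD (nat_lit 12) (.dfs (nat_lit 16) (nat_lit 1) (nat_lit 1) (nat_lit 0x1004002001) (nat_lit 0x1004002001) (nat_lit 0) (nat_lit 0) (nat_lit 0) (nat_lit 0) (nat_lit 0) (nat_lit 0) (nat_lit 1) (nat_lit 0) (nat_lit 1) (nat_lit 0) (nat_lit 1) (nat_lit 0x11111110) (.cD (nat_lit 4) (.kA false (nat_lit 0x100400300c002001001000002))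 (.cD (nat_lit 8) (.kA false (nat_lit 0x300400100c002001001000002)) (.cD (nat_lit 12) (.kc (nat_lit 24) (nat_lit 0x3001001)) (.cD (nat_lit 16) (.kc (nat_lit 20) (nat_lit 0x5001001)) (.cD (nat_lit 20) (.kA false (nat_lit 0x500400700c002001001000002)) (.cD (nat_lit 24) (.kA false (nat_lit 0x700400500c002001001000002)) (.cD (nat_lit 28) (.kc (nat_lit 28) (nat_lit 0x7001001)) .nil)))))))) (.cD (nat_lit 16) (.kc (nat_lit 12) (nat_lit 0x3001001)) (.cD (nat_lit 24) (.dfs (nat_lit 16) (nat_lit 1) (nat_lit 1) (nat_lit 0x1004002001) (nat_lit 0x1004002001) (nat_lit 0) (nat_lit 0) (nat_lit 0) (nat_lit 0) (nat_lit 0) (nat_lit 0) (nat_lit 1) (nat_lit 0) (nat_lit 0x1004002) (nat_lit 16386) (nat_lit 0x100100200000400100a00000c) (nat_lit 0x1011514) (.cD (nat_lit 2) (.kA false (nat_lit 0x100100000400100200c001002)) (.cD (nat_lit 4) (.kA false (nat_lit 0x100400600c002001001000002)) (.cD (nat_lit 8) (.kc (nat_lit 28) (nat_lit 0x7001001)) (.cD (nat_lit 10) (.kA false (nat_lit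 0x100100000400100200c001002)) (.cD (nat_lit 12) (.kA false (nat_lit 0x700400600c002001001000002)) (.cD (nat_lit 16) (.kc (nat_lit 20) (nat_lit 0x5001001)) (.cD (nat_lit 24) (.kc (nat_lit 24) (nat_lit 0x3001001)) .nil)))))))) .nil)))))))) (.cD (nat_lit 24) (.kF (nat_lit 4) (nat_lit 0x1002001004005003001001000004001004004)) .nil)))))))))
theorem c766 : (chk [] [] p766).n x388 s766 = true := by decide +kernel
noncomputable def p767 : Pf := (.anc (nat_lit 68) (nat_lit 0x16001008008000002) (nat_lit 0x1001020010004) (.czp (nat_lit 64) (nat_lit 0) (nat_lit 0x1040020010008004) z6 (.dfs (nat_lit 4) (nat_lit 4097) (nat_lit 4097) (nat_lit 1) (nat_lit 1) (nat_lit 0) (nat_lit 0) (nat_lit 3) (nat_lit 0) (nat_lit 0) (nat_lit 0) (nat_lit 1) (nat_lit 0) (nat_lit 0x1008004) (nat_lit 32772) (nat_lit 0x1001004000008001014000018) (nat_lit 0x1000101110110) (.cD (nat_lit 4) (.dfs (nat_lit 16) (nat_lit 4098) (nat_lit 4098) (nat_lit 4097) (nat_lit 4097) (nat_lit 0) (nat_lit 0)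 (nat_lit 3) (nat_lit 0) (nat_lit 0) (nat_lit 0) (nat_lit 1) (nat_lit 0) (nat_lit 1) (nat_lit 0) (nat_lit 1) (nat_lit 0x11001100110010) (.cD (nat_lit 4) (.kc (nat_lit 20) (nat_lit 0x3001001)) (.cD (nat_lit 16) (.kF (nat_lit 4) (nat_lit 0x3004001001001000002006001003)) (.cD (nat_lit 20) (.kF (nat_lit 4) (nat_lit 0x1001000003007001001001000003)) (.cD (nat_lit 32) (.dfs (nat_lit 32) (nat_lit 4100) (nat_lit 4100) (nat_lit 0x1002001) (nat_lit 0x1002001) (nat_lit 0) (nat_lit 0) (nat_lit 3) (nat_lit 0) (nat_lit 0) (nat_lit 0) (nat_lit 1) (nat_lit 0) (nat_lit 1) (nat_lit 0) (nat_lit 1) (nat_lit 0x11001100110010) (.cD (nat_lit 4) (.kc (nat_lit 36) (nat_lit 0x5001001)) (.cD (nat_lit 16) (.dfs (nat_lit 1) (nat_lit 0x1004002003008) (nat_lit 0x1006002003008) (nat_lit 4097) (nat_lit 4097) (nat_lit 0) (nat_lit 0) (nat_lit 2) (nat_lit 1) (nat_lit 0) (nat_lit 8) (nat_lit 1) (nat_lit 0) (nat_lit 4100) (nat_lit 4) (nat_lit 0x1000008000018) (nat_lit 0x1000100) (.cD (nat_lit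 8) (.kA false (nat_lit 0x7004002010001008008000005004002012002001001000004)) (.cD (nat_lit 24) (.kA false (nat_lit 0x5004002010001008008000007004002012002001001000004)) .nil))) (.cD (nat_lit 20) (.kA true (nat_lit 0x600e00a01600300600100300e001001001000003)) (.cD (nat_lit 32) (.kc (nat_lit 48) (nat_lit 0x3001001)) (.cD (nat_lit 36) (.kc (nat_lit 52) (nat_lit 0x7001001)) (.cD (nat_lit 48) (.kA true (nat_lit 0x400300200800100400100300c001002)) (.cD (nat_lit 52) (.kA true (nat_lit 0x400700600800100400100300c001002)) .nil)))))))) (.cD (nat_lit 36) (.dfs (nat_lit 32) (nat_lit 4100) (nat_lit 4100) (nat_lit 0x1002001) (nat_lit 0x1002001) (nat_lit 0) (nat_lit 0) (nat_lit 3) (nat_lit 0) (nat_lit 0) (nat_lit 0) (nat_lit 1) (nat_lit 0) (nat_lit 1) (nat_lit 0) (nat_lit 1) (nat_lit 0x11001100110010) (.cD (nat_lit 4) (.kc (nat_lit 36) (nat_lit 0x5001001)) (.cD (nat_lit 16) (.kA true (nat_lit 0x200200000600100300e001001001000003)) (.cD (nat_lit 20) (.dfs (nat_lit 1)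 (nat_lit 4102) (nat_lit 4100) (nat_lit 1) (nat_lit 1) (nat_lit 0) (nat_lit 0) (nat_lit 1) (nat_lit 4128) (nat_lit 0x40020010008004002001) (nat_lit 0) (nat_lit 1) (nat_lit 0) (nat_lit 1) (nat_lit 0) (nat_lit 1) (nat_lit 0) .nil) (.cD (nat_lit 32) (.kc (nat_lit 52) (nat_lit 0x7001001)) (.cD (nat_lit 36) (.kc (nat_lit 48) (nat_lit 0x3001001)) (.cD (nat_lit 48) (.kA true (nat_lit 0x400300600800100400100300c001002)) (.cD (nat_lit 52) (.kA true (nat_lit 0x400700200800100400100300c001002)) .nil)))))))) (.cD (nat_lit 48) (.kF (nat_lit 4) (nat_lit 0x2016003002002000003007001001001000004)) (.cD (nat_lit 52) (.kF (nat_lit 4) (nat_lit 0x23003000003007001001001000003)) .nil)))))))) (.cD (nat_lit 8) (.dfs (nat_lit 16) (nat_lit 4098) (nat_lit 4098) (nat_lit 4097) (nat_lit 4097) (nat_lit 0) (nat_lit 0) (nat_lit 3) (nat_lit 0) (nat_lit 0) (nat_lit 0) (nat_lit 1) (nat_lit 0) (nat_lit 1) (nat_lit 0) (nat_lit 1) (nat_lit 0x101010101010100) (.cD (nat_lit 8) (.kc (nat_lit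 20) (nat_lit 0x3001001)) (.cD (nat_lit 16) (.kF (nat_lit 4) (nat_lit 0xe016005001001000003007001001001000004)) (.cD (nat_lit 24) (.kF (nat_lit 4) (nat_lit 0x1001000003007001001001000003)) (.cD (nat_lit 32) (.dfs (nat_lit 32) (nat_lit 4100) (nat_lit 4100) (nat_lit 0x1002001) (nat_lit 0x1002001) (nat_lit 0) (nat_lit 0) (nat_lit 3) (nat_lit 0) (nat_lit 0) (nat_lit 0) (nat_lit 1) (nat_lit 0) (nat_lit 1) (nat_lit 0) (nat_lit 1) (nat_lit 0x101010101010100) (.cD (nat_lit 8) (.kc (nat_lit 36) (nat_lit 0x5001001)) (.cD (nat_lit 16) (.kA false (nat_lit 0xe00c004016003006002001009002001001000003)) (.cD (nat_lit 24) (.kA false (nat_lit 0x200200000600200500d002001001000003)) (.cD (nat_lit 32) (.kc (nat_lit 48) (nat_lit 0x3001001)) (.cD (nat_lit 40) (.kc (nat_lit 52) (nat_lit 0x7001001)) (.cD (nat_lit 48) (.kA false (nat_lit 0x500400300c00200a004002005007002002000003)) (.cD (nat_lit 56) (.kA false (nat_lit 0x100400700c00200a004002005007002002000003)) .nil)))))))) (.cD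 (nat_lit 40) (.dfs (nat_lit 32) (nat_lit 4100) (nat_lit 4100) (nat_lit 0x1002001) (nat_lit 0x1002001) (nat_lit 0) (nat_lit 0) (nat_lit 3) (nat_lit 0) (nat_lit 0) (nat_lit 0) (nat_lit 1) (nat_lit 0) (nat_lit 1) (nat_lit 0) (nat_lit 1) (nat_lit 0x101010101010100) (.cD (nat_lit 8) (.kc (nat_lit 36) (nat_lit 0x5001001)) (.cD (nat_lit 16) (.kA false (nat_lit 0xc00e004016003002006001009002001001000003)) (.cD (nat_lit 24) (.kA false (nat_lit 0x200200000200600500d002001001000003)) (.cD (nat_lit 32) (.kc (nat_lit 52) (nat_lit 0x7001001)) (.cD (nat_lit 40) (.kc (nat_lit 48) (nat_lit 0x3001001)) (.cD (nat_lit 48) (.kA false (nat_lit 0x100100000300600700e002002002000003)) (.cD (nat_lit 56) (.kA false (nat_lit 0x100100000700600300e002002002000003)) .nil)))))))) (.cD (nat_lit 48) (.kF (nat_lit 16) (nat_lit 0xc016005004004000001006001003)) (.cD (nat_lit 56) (.kF (nat_lit 16) (nat_lit 0xa016005004004000001006001003)) .nil)))))))) (.cD (nat_lit 16) (.kF (nat_lit 4) (nat_lit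 0x1001000001003001002)) (.cD (nat_lit 20) (.kF (nat_lit 4) (nat_lit 0x100100000e00f009001003001003)) (.cD (nat_lit 24) (.kF (nat_lit 4) (nat_lit 0xe016005001001000001003001003)) (.cD (nat_lit 32) (.dfs (nat_lit 16) (nat_lit 4098) (nat_lit 4098) (nat_lit 4097) (nat_lit 4097) (nat_lit 0) (nat_lit 0) (nat_lit 3) (nat_lit 0) (nat_lit 0) (nat_lit 0) (nat_lit 1) (nat_lit 0) (nat_lit 0x1008004) (nat_lit 32772) (nat_lit 0x1001004000008001014000018) (nat_lit 0x1000101110110) (.cD (nat_lit 4) (.dfs (nat_lit 32) (nat_lit 4100) (nat_lit 4100) (nat_lit 0x1002001) (nat_lit 0x1002001) (nat_lit 0) (nat_lit 0) (nat_lit 3) (nat_lit 0) (nat_lit 0) (nat_lit 0) (nat_lit 1) (nat_lit 0) (nat_lit 1) (nat_lit 0) (nat_lit 1) (nat_lit 0x11001100110010) (.cD (nat_lit 4) (.kc (nat_lit 48) (nat_lit 0x3001001)) (.cD (nat_lit 16) (.kA true (nat_lit 0x700400500c002002002000002)) (.cD (nat_lit 20) (.kA true (nat_lit 0x500400700c002002002000002)) (.cD (nat_lit 32) (.kc (nat_lit 36) (nat_lit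 0x5001001)) (.cD (nat_lit 36) (.kc (nat_lit 52) (nat_lit 0x7001001)) (.cD (nat_lit 48) (.kA true (nat_lit 0x300400100c002002002000002)) (.cD (nat_lit 52) (.dfs (nat_lit 1) (nat_lit 4100) (nat_lit 4102) (nat_lit 1) (nat_lit 1) (nat_lit 0) (nat_lit 0) (nat_lit 1) (nat_lit 4128) (nat_lit 0x40020010008004002001) (nat_lit 0) (nat_lit 1) (nat_lit 0) (nat_lit 1) (nat_lit 0) (nat_lit 1) (nat_lit 0) .nil) .nil)))))))) (.cD (nat_lit 8) (.dfs (nat_lit 32) (nat_lit 4100) (nat_lit 4100) (nat_lit 0x1002001) (nat_lit 0x1002001) (nat_lit 0) (nat_lit 0) (nat_lit 3) (nat_lit 0) (nat_lit 0) (nat_lit 0) (nat_lit 1) (nat_lit 0) (nat_lit 1) (nat_lit 0) (nat_lit 1) (nat_lit 0x101010101010100) (.cD (nat_lit 8) (.kc (nat_lit 48) (nat_lit 0x3001001)) (.cD (nat_lit 16) (.kA false (nat_lit 0x300400100c002002002000002)) (.cD (nat_lit 24) (.kA false (nat_lit 0x100400300c002002002000002)) (.cD (nat_lit 32) (.kc (nat_lit 36) (nat_lit 0x5001001)) (.cD (nat_lit 40) (.kc (nat_lit 52) (nat_lit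 0x7001001)) (.cD (nat_lit 48) (.kA false (nat_lit 0x700400500c002002002000002)) (.cD (nat_lit 56) (.kA false (nat_lit 0x500400700c002002002000002)) .nil)))))))) (.cD (nat_lit 16) (.kF (nat_lit 4) (nat_lit 0x23003000003007001001001000003)) (.cD (nat_lit 20) (.kF (nat_lit 16) (nat_lit 0x2002000001006001002)) (.cD (nat_lit 24) (.kF (nat_lit 16) (nat_lit 0x2002000001006001002)) (.cD (nat_lit 32) (.kc (nat_lit 20) (nat_lit 0x3001001)) (.cD (nat_lit 48) (.kF (nat_lit 4) (nat_lit 0x1001000003007001001001000003)) .nil)))))))) (.cD (nat_lit 48) (.kF (nat_lit 4) (nat_lit 0x23003000001003001002)) .nil))))))))))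
theorem c767 : (chk [] [] p767).n x390 s767 = true := by decide +kernel
noncomputable def p768 : Pf := (.anc (nat_lit 72) (nat_lit 0x16003004004000002) (nat_lit 0x1003020010008) (.czp (nat_lit 64) (nat_lit 0) (nat_lit 0x1040020010008004) z6 (.dfs (nat_lit 8) (nat_lit 4097) (nat_lit 4097) (nat_lit 1) (nat_lit 1) (nat_lit 0) (nat_lit 0) (nat_lit 3) (nat_lit 0) (nat_lit 0) (nat_lit 0) (nat_lit 1) (nat_lit 0) (nat_lit 0x1008004) (nat_lit 32772) (nat_lit 0x1001004000008001014000018) (nat_lit 0x1000101110110) (.cD (nat_lit 4) (.dfs (nat_lit 16) (nat_lit 4098) (nat_lit 4098) (nat_lit 4097) (nat_lit 4097) (nat_lit 0) (nat_lit 0) (nat_lit 3) (nat_lit 0) (nat_lit 0) (nat_lit 0) (nat_lit 1) (nat_lit 0) (nat_lit 1) (nat_lit 0) (nat_lit 1) (nat_lit 0x11001100110010) (.cD (nat_lit 4) (.kc (nat_lit 24) (nat_lit 0x3001001)) (.cD (nat_lit 16) (.kF (nat_lit 8) (nat_lit 0x3006002001001000002006001003)) (.cD (nat_lit 20) (.kF (nat_lit 8) (nat_lit 0x1006002001001000002006001003))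 (.cD (nat_lit 32) (.kF (nat_lit 8) (nat_lit 0x2016003002007001015005000003)) (.cD (nat_lit 36) (.kF (nat_lit 8) (nat_lit 0x2002000002007001015005000003)) (.cD (nat_lit 48) (.dfs (nat_lit 32) (nat_lit 4100) (nat_lit 4100) (nat_lit 0x1002001) (nat_lit 0x1002001) (nat_lit 0) (nat_lit 0) (nat_lit 3) (nat_lit 0) (nat_lit 0) (nat_lit 0) (nat_lit 1) (nat_lit 0) (nat_lit 1) (nat_lit 0) (nat_lit 1) (nat_lit 0x11001100110010) (.cD (nat_lit 4) (.kc (nat_lit 40) (nat_lit 0x5001001)) (.cD (nat_lit 16) (.kA false (nat_lit 0x700400200800100a004002005007002002000003)) (.cD (nat_lit 20) (.kA false (nat_lit 0x100100000600100200d001002002000003)) (.cD (nat_lit 32) (.kA false (nat_lit 0xa00400801600300600100200d001002002000003)) (.cD (nat_lit 36) (.kA false (nat_lit 0x200200000600100200d001002002000003)) (.cD (nat_lit 48) (.kc (nat_lit 48) (nat_lit 0x3001001)) (.cD (nat_lit 52) (.kc (nat_lit 56) (nat_lit 0x7001001)) .nil)))))))) (.cD (nat_lit 52) (.dfs (nat_lit 32) (nat_lit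 4100) (nat_lit 4100) (nat_lit 0x1002001) (nat_lit 0x1002001) (nat_lit 0) (nat_lit 0) (nat_lit 3) (nat_lit 0) (nat_lit 0) (nat_lit 0) (nat_lit 1) (nat_lit 0) (nat_lit 1) (nat_lit 0) (nat_lit 1) (nat_lit 0x11001100110010) (.cD (nat_lit 4) (.kc (nat_lit 40) (nat_lit 0x5001001)) (.cD (nat_lit 16) (.kA false (nat_lit 0x700400200800100a004002005007002002000003)) (.cD (nat_lit 20) (.kA false (nat_lit 0x100100000600100200d001002002000003)) (.cD (nat_lit 32) (.kA false (nat_lit 0x800400a01600300600100200d001002002000003)) (.cD (nat_lit 36) (.kA false (nat_lit 0x200200000600100200d001002002000003)) (.cD (nat_lit 48) (.kc (nat_lit 56) (nat_lit 0x7001001)) (.cD (nat_lit 52) (.kc (nat_lit 48) (nat_lit 0x3001001)) .nil)))))))) .nil)))))))) (.cD (nat_lit 8) (.dfs (nat_lit 16) (nat_lit 4098) (nat_lit 4098) (nat_lit 4097) (nat_lit 4097) (nat_lit 0) (nat_lit 0) (nat_lit 3) (nat_lit 0) (nat_lit 0) (nat_lit 0) (nat_lit 1) (nat_lit 0) (nat_lit 1) (nat_lit 0) (nat_lit 1) (nat_lit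 0x101010101010100) (.cD (nat_lit 8) (.kc (nat_lit 24) (nat_lit 0x3001001)) (.cD (nat_lit 16) (.dfs (nat_lit 32) (nat_lit 4100) (nat_lit 4100) (nat_lit 0x1002001) (nat_lit 0x1002001) (nat_lit 0) (nat_lit 0) (nat_lit 3) (nat_lit 0) (nat_lit 0) (nat_lit 0) (nat_lit 1) (nat_lit 0) (nat_lit 1) (nat_lit 0) (nat_lit 1) (nat_lit 0x101010101010100) (.cD (nat_lit 8) (.kc (nat_lit 40) (nat_lit 0x5001001)) (.cD (nat_lit 16) (.kc (nat_lit 48) (nat_lit 0x3001001)) (.cD (nat_lit 24) (.kc (nat_lit 56) (nat_lit 0x7001001)) (.cD (nat_lit 32) (.kA false (nat_lit 0xa00400801600500600100200d001002002000003)) (.cD (nat_lit 40) (.kA false (nat_lit 0x200200000600100200d001002002000003)) (.cD (nat_lit 48) (.dfs (nat_lit 3) (nat_lit 0x1004003002008) (nat_lit 0x1007003002008) (nat_lit 4097) (nat_lit 4097) (nat_lit 1) (nat_lit 0) (nat_lit 2) (nat_lit 0) (nat_lit 0) (nat_lit 4) (nat_lit 1) (nat_lit 0) (nat_lit 1) (nat_lit 0) (nat_lit 1) (nat_lit 0) .nil) (.cD (nat_lit 56) (.dfs (nat_lit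 3) (nat_lit 4101) (nat_lit 4102) (nat_lit 1) (nat_lit 1) (nat_lit 1) (nat_lit 0) (nat_lit 1) (nat_lit 4144) (nat_lit 0x40020010008004002001) (nat_lit 0) (nat_lit 1) (nat_lit 0) (nat_lit 1) (nat_lit 0) (nat_lit 1) (nat_lit 0) .nil) .nil)))))))) (.cD (nat_lit 24) (.dfs (nat_lit 32) (nat_lit 4100) (nat_lit 4100) (nat_lit 0x1002001) (nat_lit 0x1002001) (nat_lit 0) (nat_lit 0) (nat_lit 3) (nat_lit 0) (nat_lit 0) (nat_lit 0) (nat_lit 1) (nat_lit 0) (nat_lit 1) (nat_lit 0) (nat_lit 1) (nat_lit 0x101010101010100) (.cD (nat_lit 8) (.kc (nat_lit 40) (nat_lit 0x5001001)) (.cD (nat_lit 16) (.kc (nat_lit 56) (nat_lit 0x7001001)) (.cD (nat_lit 24) (.kc (nat_lit 48) (nat_lit 0x3001001)) (.cD (nat_lit 32) (.kA false (nat_lit 0x100100000500100200e001001001000003)) (.cD (nat_lit 40) (.kA false (nat_lit 0x100100000500100200e001001001000003)) (.cD (nat_lit 48) (.kA false (nat_lit 0x100100000500100200e001001001000003)) (.cD (nat_lit 56) (.kA false (nat_lit 0x100100000500100200e001001001000003))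 .nil)))))))) (.cD (nat_lit 32) (.kF (nat_lit 8) (nat_lit 0x2016005002007001015005000003)) (.cD (nat_lit 40) (.kF (nat_lit 8) (nat_lit 0x2002000002007001015005000003)) (.cD (nat_lit 48) (.kF (nat_lit 16) (nat_lit 0xc016005004004000001006001003)) (.cD (nat_lit 56) (.kF (nat_lit 16) (nat_lit 0xa016005004004000001006001003)) .nil)))))))) (.cD (nat_lit 16) (.kF (nat_lit 8) (nat_lit 0x1001000001003001002)) (.cD (nat_lit 20) (.kF (nat_lit 8) (nat_lit 0x100100000e00f009001003001003)) (.cD (nat_lit 24) (.kF (nat_lit 8) (nat_lit 0xe016005001001000001003001003)) (.cD (nat_lit 32) (.dfs (nat_lit 16) (nat_lit 4098) (nat_lit 4098) (nat_lit 4097) (nat_lit 4097) (nat_lit 0) (nat_lit 0) (nat_lit 3) (nat_lit 0) (nat_lit 0) (nat_lit 0) (nat_lit 1) (nat_lit 0) (nat_lit 0x1008004) (nat_lit 32772) (nat_lit 0x1001004000008001014000018) (nat_lit 0x1000101110110) (.cD (nat_lit 4) (.kF (nat_lit 8) (nat_lit 0x4016003002007001015005000003)) (.cD (nat_lit 8) (.kF (nat_lit 8) (nat_lit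 0x4016005002007001015005000003)) (.cD (nat_lit 16) (.dfs (nat_lit 32) (nat_lit 4100) (nat_lit 4100) (nat_lit 0x1002001) (nat_lit 0x1002001) (nat_lit 0) (nat_lit 0) (nat_lit 3) (nat_lit 0) (nat_lit 0) (nat_lit 0) (nat_lit 1) (nat_lit 0) (nat_lit 0x1008004) (nat_lit 32772) (nat_lit 0x1001004000008001014000018) (nat_lit 0x1000101110110) (.cD (nat_lit 4) (.kA false (nat_lit 0x200200000400100200c001002)) (.cD (nat_lit 8) (.kA false (nat_lit 0x300400200c002002002000002)) (.cD (nat_lit 16) (.kc (nat_lit 48) (nat_lit 0x3001001)) (.cD (nat_lit 20) (.kA false (nat_lit 0x200200000400100200c001002)) (.cD (nat_lit 24) (.dfs (nat_lit 3) (nat_lit 4100) (nat_lit 4103) (nat_lit 1) (nat_lit 1) (nat_lit 1) (nat_lit 0) (nat_lit 1) (nat_lit 4128) (nat_lit 0x40020010008004002001) (nat_lit 0) (nat_lit 1) (nat_lit 0) (nat_lit 1) (nat_lit 0) (nat_lit 1) (nat_lit 0) .nil) (.cD (nat_lit 32) (.kc (nat_lit 40) (nat_lit 0x5001001)) (.cD (nat_lit 48) (.kc (nat_lit 56) (nat_lit 0x7001001))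 .nil)))))))) (.cD (nat_lit 20) (.kF (nat_lit 16) (nat_lit 0x2002000001006001002)) (.cD (nat_lit 24) (.kF (nat_lit 16) (nat_lit 0x2002000001006001002)) (.cD (nat_lit 32) (.kc (nat_lit 24) (nat_lit 0x3001001)) (.cD (nat_lit 48) (.dfs (nat_lit 32) (nat_lit 4100) (nat_lit 4100) (nat_lit 0x1002001) (nat_lit 0x1002001) (nat_lit 0) (nat_lit 0) (nat_lit 3) (nat_lit 0) (nat_lit 0) (nat_lit 0) (nat_lit 1) (nat_lit 0) (nat_lit 0x1008004) (nat_lit 32772) (nat_lit 0x1001004000008001014000018) (nat_lit 0x1000101110110) (.cD (nat_lit 4) (.kA false (nat_lit 0x200200000400100200c001002)) (.cD (nat_lit 8) (.kA false (nat_lit 0x700400600c002002002000002)) (.cD (nat_lit 16) (.kc (nat_lit 56) (nat_lit 0x7001001)) (.cD (nat_lit 20) (.kA false (nat_lit 0x200200000400100200c001002)) (.cD (nat_lit 24) (.kA false (nat_lit 0x100400600c002002002000002)) (.cD (nat_lit 32) (.kc (nat_lit 40) (nat_lit 0x5001001)) (.cD (nat_lit 48) (.kc (nat_lit 48) (nat_lit 0x3001001)) .nil))))))))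 .nil)))))))) (.cD (nat_lit 48) (.kF (nat_lit 8) (nat_lit 0x23003000001003001002)) .nil))))))))))
theorem c768 : (chk [] [] p768).n x391 s768 = true := by decide +kernel
noncomputable def p769 : Pf := (.anc (nat_lit 68) (nat_lit 0x16001008008000002) (nat_lit 0x1001020010004) (.czp (nat_lit 64) (nat_lit 0) (nat_lit 0x1040020010008004) z6 (.dfs (nat_lit 4) (nat_lit 4097) (nat_lit 4097) (nat_lit 1) (nat_lit 1) (nat_lit 0) (nat_lit 0) (nat_lit 3) (nat_lit 0) (nat_lit 0) (nat_lit 0) (nat_lit 1) (nat_lit 0) (nat_lit 0x1008004) (nat_lit 32772) (nat_lit 0x1001004000008001014000018) (nat_lit 0x1000101110110) (.cD (nat_lit 4) (.dfs (nat_lit 16) (nat_lit 4098) (nat_lit 4098) (nat_lit 4097) (nat_lit 4097) (nat_lit 0) (nat_lit 0) (nat_lit 3) (nat_lit 0) (nat_lit 0) (nat_lit 0) (nat_lit 1) (nat_lit 0) (nat_lit 1) (nat_lit 0) (nat_lit 1) (nat_lit 0x11001100110010) (.cD (nat_lit 4) (.kc (nat_lit 20) (nat_lit 0x3001001)) (.cD (nat_lit 16) (.kF (nat_lit 4) (nat_lit 0x3004001011001000002006001003))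 (.cD (nat_lit 20) (.kF (nat_lit 4) (nat_lit 0x11001000003007001011001000003)) (.cD (nat_lit 32) (.dfs (nat_lit 32) (nat_lit 4100) (nat_lit 4100) (nat_lit 0x1002001) (nat_lit 0x1002001) (nat_lit 0) (nat_lit 0) (nat_lit 3) (nat_lit 0) (nat_lit 0) (nat_lit 0) (nat_lit 1) (nat_lit 0) (nat_lit 1) (nat_lit 0) (nat_lit 1) (nat_lit 0x11001100110010) (.cD (nat_lit 4) (.kc (nat_lit 36) (nat_lit 0x5001001)) (.cD (nat_lit 16) (.dfs (nat_lit 1) (nat_lit 0x1004002003008) (nat_lit 0x1006002003008) (nat_lit 4097) (nat_lit 4097) (nat_lit 2) (nat_lit 0) (nat_lit 2) (nat_lit 1) (nat_lit 0) (nat_lit 8) (nat_lit 1) (nat_lit 0) (nat_lit 4100) (nat_lit 4) (nat_lit 0x100000c00001c) (nat_lit 0x10001000) (.cD (nat_lit 12) (.kA false (nat_lit 0xb00400201000100200200000f004002014002002002000004)) (.cD (nat_lit 28) (.kA false (nat_lit 0x900400201000100200200000d004002014002002002000004)) .nil))) (.cD (nat_lit 20) (.kA true (nat_lit 0x600e00a01600300600100300e001011001000003)) (.cD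 (nat_lit 32) (.kc (nat_lit 48) (nat_lit 0x3001001)) (.cD (nat_lit 36) (.kc (nat_lit 52) (nat_lit 0x7001001)) (.cD (nat_lit 48) (.kA true (nat_lit 0x400300200800100400100300c001002)) (.cD (nat_lit 52) (.kA true (nat_lit 0x400700600800100400100300c001002)) .nil)))))))) (.cD (nat_lit 36) (.dfs (nat_lit 32) (nat_lit 4100) (nat_lit 4100) (nat_lit 0x1002001) (nat_lit 0x1002001) (nat_lit 0) (nat_lit 0) (nat_lit 3) (nat_lit 0) (nat_lit 0) (nat_lit 0) (nat_lit 1) (nat_lit 0) (nat_lit 1) (nat_lit 0) (nat_lit 1) (nat_lit 0x11001100110010) (.cD (nat_lit 4) (.kc (nat_lit 36) (nat_lit 0x5001001)) (.cD (nat_lit 16) (.kA true (nat_lit 0x200200000600100300e001011001000003)) (.cD (nat_lit 20) (.dfs (nat_lit 1) (nat_lit 4102) (nat_lit 4100) (nat_lit 1) (nat_lit 1) (nat_lit 2) (nat_lit 0) (nat_lit 1) (nat_lit 4128) (nat_lit 0x40020010008004002011) (nat_lit 0) (nat_lit 1) (nat_lit 0) (nat_lit 1) (nat_lit 0) (nat_lit 1) (nat_lit 0) .nil) (.cD (nat_lit 32) (.kc (nat_lit 52)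 (nat_lit 0x7001001)) (.cD (nat_lit 36) (.kc (nat_lit 48) (nat_lit 0x3001001)) (.cD (nat_lit 48) (.kA true (nat_lit 0x400300600800100400100300c001002)) (.cD (nat_lit 52) (.kA true (nat_lit 0x400700200800100400100300c001002)) .nil)))))))) (.cD (nat_lit 48) (.kF (nat_lit 4) (nat_lit 0x2016003002002000003007001011001000004)) (.cD (nat_lit 52) (.kF (nat_lit 4) (nat_lit 0x33003000003007001011001000003)) .nil)))))))) (.cD (nat_lit 8) (.dfs (nat_lit 16) (nat_lit 4098) (nat_lit 4098) (nat_lit 4097) (nat_lit 4097) (nat_lit 0) (nat_lit 0) (nat_lit 3) (nat_lit 0) (nat_lit 0) (nat_lit 0) (nat_lit 1) (nat_lit 0) (nat_lit 1) (nat_lit 0) (nat_lit 1) (nat_lit 0x101010101010100) (.cD (nat_lit 8) (.kc (nat_lit 20) (nat_lit 0x3001001)) (.cD (nat_lit 16) (.kF (nat_lit 4) (nat_lit 0xe016005011001000003007001011001000004)) (.cD (nat_lit 24) (.kF (nat_lit 4) (nat_lit 0x11001000003007001011001000003)) (.cD (nat_lit 32) (.dfs (nat_lit 32) (nat_lit 4100) (nat_lit 4100) (nat_lit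 0x1002001) (nat_lit 0x1002001) (nat_lit 0) (nat_lit 0) (nat_lit 3) (nat_lit 0) (nat_lit 0) (nat_lit 0) (nat_lit 1) (nat_lit 0) (nat_lit 1) (nat_lit 0) (nat_lit 1) (nat_lit 0x101010101010100) (.cD (nat_lit 8) (.kc (nat_lit 36) (nat_lit 0x5001001)) (.cD (nat_lit 16) (.kA false (nat_lit 0xe00c004016003006002001009002011001000003)) (.cD (nat_lit 24) (.kA false (nat_lit 0x200200000600200500d002011001000003)) (.cD (nat_lit 32) (.kc (nat_lit 48) (nat_lit 0x3001001)) (.cD (nat_lit 40) (.kc (nat_lit 52) (nat_lit 0x7001001)) (.cD (nat_lit 48) (.kA false (nat_lit 0x500400300c00200a004002005007002002000003)) (.cD (nat_lit 56) (.kA false (nat_lit 0x100400700c00200a004002005007002002000003)) .nil)))))))) (.cD (nat_lit 40) (.dfs (nat_lit 32) (nat_lit 4100) (nat_lit 4100) (nat_lit 0x1002001) (nat_lit 0x1002001) (nat_lit 0) (nat_lit 0) (nat_lit 3) (nat_lit 0) (nat_lit 0) (nat_lit 0) (nat_lit 1) (nat_lit 0) (nat_lit 1) (nat_lit 0) (nat_lit 1) (nat_lit 0x101010101010100)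 (.cD (nat_lit 8) (.kc (nat_lit 36) (nat_lit 0x5001001)) (.cD (nat_lit 16) (.kA false (nat_lit 0xc00e004016003002006001009002011001000003)) (.cD (nat_lit 24) (.kA false (nat_lit 0x200200000200600500d002011001000003)) (.cD (nat_lit 32) (.kc (nat_lit 52) (nat_lit 0x7001001)) (.cD (nat_lit 40) (.kc (nat_lit 48) (nat_lit 0x3001001)) (.cD (nat_lit 48) (.kA false (nat_lit 0x1100100000300600700e002002002000003)) (.cD (nat_lit 56) (.kA false (nat_lit 0x1100100000700600300e002002002000003)) .nil)))))))) (.cD (nat_lit 48) (.kF (nat_lit 16) (nat_lit 0xc016005004004000001006001003)) (.cD (nat_lit 56) (.kF (nat_lit 16) (nat_lit 0xa016005004004000001006001003)) .nil)))))))) (.cD (nat_lit 16) (.kF (nat_lit 4) (nat_lit 0x11001000001003001002)) (.cD (nat_lit 20) (.kF (nat_lit 4) (nat_lit 0x1100100000e00f009001003001003)) (.cD (nat_lit 24) (.kF (nat_lit 4) (nat_lit 0xe016005011001000001003001003)) (.cD (nat_lit 32) (.dfs (nat_lit 16) (nat_lit 4098) (nat_lit 4098) (nat_lit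 4097) (nat_lit 4097) (nat_lit 0) (nat_lit 0) (nat_lit 3) (nat_lit 0) (nat_lit 0) (nat_lit 0) (nat_lit 1) (nat_lit 0) (nat_lit 0x1008004) (nat_lit 32772) (nat_lit 0x1001004000008001014000018) (nat_lit 0x1000101110110) (.cD (nat_lit 4) (.dfs (nat_lit 32) (nat_lit 4100) (nat_lit 4100) (nat_lit 0x1002001) (nat_lit 0x1002001) (nat_lit 0) (nat_lit 0) (nat_lit 3) (nat_lit 0) (nat_lit 0) (nat_lit 0) (nat_lit 1) (nat_lit 0) (nat_lit 1) (nat_lit 0) (nat_lit 1) (nat_lit 0x11001100110010) (.cD (nat_lit 4) (.kc (nat_lit 48) (nat_lit 0x3001001)) (.cD (nat_lit 16) (.kA true (nat_lit 0x700400500c002002002000002)) (.cD (nat_lit 20) (.kA true (nat_lit 0x500400700c002002002000002)) (.cD (nat_lit 32) (.kc (nat_lit 36) (nat_lit 0x5001001)) (.cD (nat_lit 36) (.kc (nat_lit 52) (nat_lit 0x7001001)) (.cD (nat_lit 48) (.kA true (nat_lit 0x300400100c002002002000002)) (.cD (nat_lit 52) (.dfs (nat_lit 1) (nat_lit 4100) (nat_lit 4102) (nat_lit 1) (nat_lit 1) (nat_lit 2) (nat_lit 0)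 (nat_lit 1) (nat_lit 4128) (nat_lit 0x40020010008004002011) (nat_lit 0) (nat_lit 1) (nat_lit 0) (nat_lit 1) (nat_lit 0) (nat_lit 1) (nat_lit 0) .nil) .nil)))))))) (.cD (nat_lit 8) (.dfs (nat_lit 32) (nat_lit 4100) (nat_lit 4100) (nat_lit 0x1002001) (nat_lit 0x1002001) (nat_lit 0) (nat_lit 0) (nat_lit 3) (nat_lit 0) (nat_lit 0) (nat_lit 0) (nat_lit 1) (nat_lit 0) (nat_lit 1) (nat_lit 0) (nat_lit 1) (nat_lit 0x101010101010100) (.cD (nat_lit 8) (.kc (nat_lit 48) (nat_lit 0x3001001)) (.cD (nat_lit 16) (.kA false (nat_lit 0x300400100c002002002000002)) (.cD (nat_lit 24) (.kA false (nat_lit 0x100400300c002002002000002)) (.cD (nat_lit 32) (.kc (nat_lit 36) (nat_lit 0x5001001)) (.cD (nat_lit 40) (.kc (nat_lit 52) (nat_lit 0x7001001)) (.cD (nat_lit 48) (.kA false (nat_lit 0x700400500c002002002000002)) (.cD (nat_lit 56) (.kA false (nat_lit 0x500400700c002002002000002)) .nil)))))))) (.cD (nat_lit 16) (.kF (nat_lit 4) (nat_lit 0x33003000003007001011001000003)) (.cD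 (nat_lit 20) (.kF (nat_lit 16) (nat_lit 0x2002000001006001002)) (.cD (nat_lit 24) (.kF (nat_lit 16) (nat_lit 0x2002000001006001002)) (.cD (nat_lit 32) (.kc (nat_lit 20) (nat_lit 0x3001001)) (.cD (nat_lit 48) (.kF (nat_lit 4) (nat_lit 0x11001000003007001011001000003)) .nil)))))))) (.cD (nat_lit 48) (.kF (nat_lit 4) (nat_lit 0x33003000001003001002)) .nil))))))))))
theorem c769 : (chk [] [] p769).n x392 s769 = true := by decide +kernel
noncomputable def p770 : Pf := (.anc (nat_lit 68) (nat_lit 0x16001008008000002) (nat_lit 0x1001020010004) (.czp (nat_lit 64) (nat_lit 0) (nat_lit 0x1040020010008004) z6 (.dfs (nat_lit 4) (nat_lit 4097) (nat_lit 4097) (nat_lit 1) (nat_lit 1) (nat_lit 0) (nat_lit 0) (nat_lit 3) (nat_lit 0) (nat_lit 0) (nat_lit 0) (nat_lit 1) (nat_lit 0) (nat_lit 0x1008004) (nat_lit 32772) (nat_lit 0x1001004000008001014000018) (nat_lit 0x1000101110110) (.cD (nat_lit 4) (.dfs (nat_lit 16) (nat_lit 4098) (nat_lit 4098) (nat_lit 4097) (nat_lit 4097)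 (nat_lit 0) (nat_lit 0) (nat_lit 3) (nat_lit 0) (nat_lit 0) (nat_lit 0) (nat_lit 1) (nat_lit 0) (nat_lit 1) (nat_lit 0) (nat_lit 1) (nat_lit 0x11001100110010) (.cD (nat_lit 4) (.kc (nat_lit 20) (nat_lit 0x3001001)) (.cD (nat_lit 16) (.kF (nat_lit 4) (nat_lit 0x3004001011001000002006001003)) (.cD (nat_lit 20) (.kF (nat_lit 4) (nat_lit 0x11001000003007001011001000003)) (.cD (nat_lit 32) (.dfs (nat_lit 32) (nat_lit 4100) (nat_lit 4100) (nat_lit 0x1002001) (nat_lit 0x1002001) (nat_lit 0) (nat_lit 0) (nat_lit 3) (nat_lit 0) (nat_lit 0) (nat_lit 0) (nat_lit 1) (nat_lit 0) (nat_lit 1) (nat_lit 0) (nat_lit 1) (nat_lit 0x11001100110010) (.cD (nat_lit 4) (.kc (nat_lit 36) (nat_lit 0x5001001)) (.cD (nat_lit 16) (.dfs (nat_lit 1) (nat_lit 0x1004002003008) (nat_lit 0x1006002003008) (nat_lit 4097) (nat_lit 4097) (nat_lit 2) (nat_lit 0) (nat_lit 2) (nat_lit 1) (nat_lit 0) (nat_lit 8) (nat_lit 1) (nat_lit 0) (nat_lit 4100) (nat_lit 4) (nat_lit 0x100004c00005c) (nat_lit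 0x100010000000000000000000) (.cD (nat_lit 76) (.kb (nat_lit 5) (nat_lit 0x10006009001002) (nat_lit 0x1020010008044006003)) (.cD (nat_lit 92) (.kb (nat_lit 37) (nat_lit 0x1000600b001002) (nat_lit 0x1020010008044006003)) .nil))) (.cD (nat_lit 20) (.kA true (nat_lit 0x600e00a01600300600100300e001011001000003)) (.cD (nat_lit 32) (.kc (nat_lit 48) (nat_lit 0x3001001)) (.cD (nat_lit 36) (.kc (nat_lit 52) (nat_lit 0x7001001)) (.cD (nat_lit 48) (.kA true (nat_lit 0x400300200800100400100300c001002)) (.cD (nat_lit 52) (.kA true (nat_lit 0x400700600800100400100300c001002)) .nil)))))))) (.cD (nat_lit 36) (.dfs (nat_lit 32) (nat_lit 4100) (nat_lit 4100) (nat_lit 0x1002001) (nat_lit 0x1002001) (nat_lit 0) (nat_lit 0) (nat_lit 3) (nat_lit 0) (nat_lit 0) (nat_lit 0) (nat_lit 1) (nat_lit 0) (nat_lit 1) (nat_lit 0) (nat_lit 1) (nat_lit 0x11001100110010) (.cD (nat_lit 4) (.kc (nat_lit 36) (nat_lit 0x5001001)) (.cD (nat_lit 16) (.kA true (nat_lit 0x200200000600100300e001011001000003))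 (.cD (nat_lit 20) (.dfs (nat_lit 1) (nat_lit 4102) (nat_lit 4100) (nat_lit 1) (nat_lit 1) (nat_lit 2) (nat_lit 0) (nat_lit 1) (nat_lit 4128) (nat_lit 0x40020010008004002011) (nat_lit 0) (nat_lit 1) (nat_lit 0) (nat_lit 1) (nat_lit 0) (nat_lit 1) (nat_lit 0) .nil) (.cD (nat_lit 32) (.kc (nat_lit 52) (nat_lit 0x7001001)) (.cD (nat_lit 36) (.kc (nat_lit 48) (nat_lit 0x3001001)) (.cD (nat_lit 48) (.kA true (nat_lit 0x400300600800100400100300c001002)) (.cD (nat_lit 52) (.kA true (nat_lit 0x400700200800100400100300c001002)) .nil)))))))) (.cD (nat_lit 48) (.kF (nat_lit 4) (nat_lit 0x2016003002002000003007001011001000004)) (.cD (nat_lit 52) (.kF (nat_lit 4) (nat_lit 0x33003000003007001011001000003)) .nil)))))))) (.cD (nat_lit 8) (.dfs (nat_lit 16) (nat_lit 4098) (nat_lit 4098) (nat_lit 4097) (nat_lit 4097) (nat_lit 0) (nat_lit 0) (nat_lit 3) (nat_lit 0) (nat_lit 0) (nat_lit 0) (nat_lit 1) (nat_lit 0) (nat_lit 1) (nat_lit 0) (nat_lit 1) (nat_lit 0x101010101010100)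 (.cD (nat_lit 8) (.kc (nat_lit 20) (nat_lit 0x3001001)) (.cD (nat_lit 16) (.kF (nat_lit 4) (nat_lit 0xe016005011001000003007001011001000004)) (.cD (nat_lit 24) (.kF (nat_lit 4) (nat_lit 0x11001000003007001011001000003)) (.cD (nat_lit 32) (.dfs (nat_lit 32) (nat_lit 4100) (nat_lit 4100) (nat_lit 0x1002001) (nat_lit 0x1002001) (nat_lit 0) (nat_lit 0) (nat_lit 3) (nat_lit 0) (nat_lit 0) (nat_lit 0) (nat_lit 1) (nat_lit 0) (nat_lit 1) (nat_lit 0) (nat_lit 1) (nat_lit 0x101010101010100) (.cD (nat_lit 8) (.kc (nat_lit 36) (nat_lit 0x5001001)) (.cD (nat_lit 16) (.kA false (nat_lit 0xe00c004016003006002001009002011001000003)) (.cD (nat_lit 24) (.kA false (nat_lit 0x200200000600200500d002011001000003)) (.cD (nat_lit 32) (.kc (nat_lit 48) (nat_lit 0x3001001)) (.cD (nat_lit 40) (.kc (nat_lit 52) (nat_lit 0x7001001)) (.cD (nat_lit 48) (.kA false (nat_lit 0x500400300c00200a004002005007002002000003)) (.cD (nat_lit 56) (.kA false (nat_lit 0x100400700c00200a004002005007002002000003))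 .nil)))))))) (.cD (nat_lit 40) (.dfs (nat_lit 32) (nat_lit 4100) (nat_lit 4100) (nat_lit 0x1002001) (nat_lit 0x1002001) (nat_lit 0) (nat_lit 0) (nat_lit 3) (nat_lit 0) (nat_lit 0) (nat_lit 0) (nat_lit 1) (nat_lit 0) (nat_lit 1) (nat_lit 0) (nat_lit 1) (nat_lit 0x101010101010100) (.cD (nat_lit 8) (.kc (nat_lit 36) (nat_lit 0x5001001)) (.cD (nat_lit 16) (.kA false (nat_lit 0xc00e004016003002006001009002011001000003)) (.cD (nat_lit 24) (.kA false (nat_lit 0x200200000200600500d002011001000003)) (.cD (nat_lit 32) (.kc (nat_lit 52) (nat_lit 0x7001001)) (.cD (nat_lit 40) (.kc (nat_lit 48) (nat_lit 0x3001001)) (.cD (nat_lit 48) (.kA false (nat_lit 0x1100100000300600700e002002002000003)) (.cD (nat_lit 56) (.kA false (nat_lit 0x1100100000700600300e002002002000003)) .nil)))))))) (.cD (nat_lit 48) (.kF (nat_lit 16) (nat_lit 0xc016005004004000001006001003)) (.cD (nat_lit 56) (.kF (nat_lit 16) (nat_lit 0xa016005004004000001006001003)) .nil)))))))) (.cD (nat_lit 16)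 (.kF (nat_lit 4) (nat_lit 0x11001000001003001002)) (.cD (nat_lit 20) (.kF (nat_lit 4) (nat_lit 0x1100100000e00f009001003001003)) (.cD (nat_lit 24) (.kF (nat_lit 4) (nat_lit 0xe016005011001000001003001003)) (.cD (nat_lit 32) (.dfs (nat_lit 16) (nat_lit 4098) (nat_lit 4098) (nat_lit 4097) (nat_lit 4097) (nat_lit 0) (nat_lit 0) (nat_lit 3) (nat_lit 0) (nat_lit 0) (nat_lit 0) (nat_lit 1) (nat_lit 0) (nat_lit 0x1008004) (nat_lit 32772) (nat_lit 0x1001004000008001014000018) (nat_lit 0x1000101110110) (.cD (nat_lit 4) (.dfs (nat_lit 32) (nat_lit 4100) (nat_lit 4100) (nat_lit 0x1002001) (nat_lit 0x1002001) (nat_lit 0) (nat_lit 0) (nat_lit 3) (nat_lit 0) (nat_lit 0) (nat_lit 0) (nat_lit 1) (nat_lit 0) (nat_lit 1) (nat_lit 0) (nat_lit 1) (nat_lit 0x11001100110010) (.cD (nat_lit 4) (.kc (nat_lit 48) (nat_lit 0x3001001)) (.cD (nat_lit 16) (.kA true (nat_lit 0x700400500c002002002000002)) (.cD (nat_lit 20) (.kA true (nat_lit 0x500400700c002002002000002)) (.cD (nat_lit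 32) (.kc (nat_lit 36) (nat_lit 0x5001001)) (.cD (nat_lit 36) (.kc (nat_lit 52) (nat_lit 0x7001001)) (.cD (nat_lit 48) (.kA true (nat_lit 0x300400100c002002002000002)) (.cD (nat_lit 52) (.dfs (nat_lit 1) (nat_lit 4100) (nat_lit 4102) (nat_lit 1) (nat_lit 1) (nat_lit 2) (nat_lit 0) (nat_lit 1) (nat_lit 4128) (nat_lit 0x40020010008004002011) (nat_lit 0) (nat_lit 1) (nat_lit 0) (nat_lit 1) (nat_lit 0) (nat_lit 1) (nat_lit 0) .nil) .nil)))))))) (.cD (nat_lit 8) (.dfs (nat_lit 32) (nat_lit 4100) (nat_lit 4100) (nat_lit 0x1002001) (nat_lit 0x1002001) (nat_lit 0) (nat_lit 0) (nat_lit 3) (nat_lit 0) (nat_lit 0) (nat_lit 0) (nat_lit 1) (nat_lit 0) (nat_lit 1) (nat_lit 0) (nat_lit 1) (nat_lit 0x101010101010100) (.cD (nat_lit 8) (.kc (nat_lit 48) (nat_lit 0x3001001)) (.cD (nat_lit 16) (.kA false (nat_lit 0x300400100c002002002000002)) (.cD (nat_lit 24) (.kA false (nat_lit 0x100400300c002002002000002)) (.cD (nat_lit 32) (.kc (nat_lit 36) (nat_lit 0x5001001)) (.cD (nat_lit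 40) (.kc (nat_lit 52) (nat_lit 0x7001001)) (.cD (nat_lit 48) (.kA false (nat_lit 0x700400500c002002002000002)) (.cD (nat_lit 56) (.kA false (nat_lit 0x500400700c002002002000002)) .nil)))))))) (.cD (nat_lit 16) (.kF (nat_lit 4) (nat_lit 0x33003000003007001011001000003)) (.cD (nat_lit 20) (.kF (nat_lit 16) (nat_lit 0x2002000001006001002)) (.cD (nat_lit 24) (.kF (nat_lit 16) (nat_lit 0x2002000001006001002)) (.cD (nat_lit 32) (.kc (nat_lit 20) (nat_lit 0x3001001)) (.cD (nat_lit 48) (.kF (nat_lit 4) (nat_lit 0x11001000003007001011001000003)) .nil)))))))) (.cD (nat_lit 48) (.kF (nat_lit 4) (nat_lit 0x33003000001003001002)) .nil))))))))))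
theorem c770 : (chk [] [] p770).n x393 s770 = true := by decide +kernel
noncomputable def p771 : Pf := (.anc (nat_lit 68) (nat_lit 0x16001008008000002) (nat_lit 0x1001020010004) (.czp (nat_lit 64) (nat_lit 0) (nat_lit 0x1040020010008004) z6 (.dfs (nat_lit 4) (nat_lit 4097) (nat_lit 4097) (nat_lit 1) (nat_lit 1) (nat_lit 0) (nat_lit 0) (nat_lit 3) (nat_lit 0) (nat_lit 0) (nat_lit 0) (nat_lit 1) (nat_lit 0) (nat_lit 0x1008004) (nat_lit 32772) (nat_lit 0x1001004000008001014000018) (nat_lit 0x1000101110110) (.cD (nat_lit 4) (.dfs (nat_lit 16) (nat_lit 4098) (nat_lit 4098) (nat_lit 4097) (nat_lit 4097) (nat_lit 0) (nat_lit 0) (nat_lit 3) (nat_lit 0) (nat_lit 0) (nat_lit 0) (nat_lit 1) (nat_lit 0) (nat_lit 1) (nat_lit 0) (nat_lit 1) (nat_lit 0x11001100110010) (.cD (nat_lit 4) (.kc (nat_lit 20) (nat_lit 0x3001001)) (.cD (nat_lit 16) (.kF (nat_lit 4) (nat_lit 0x3004001031001000002006001003)) (.cD (nat_lit 20) (.kF (nat_lit 4) (nat_lit 0x31001000003007001031001000003))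 (.cD (nat_lit 32) (.dfs (nat_lit 32) (nat_lit 4100) (nat_lit 4100) (nat_lit 0x1002001) (nat_lit 0x1002001) (nat_lit 0) (nat_lit 0) (nat_lit 3) (nat_lit 0) (nat_lit 0) (nat_lit 0) (nat_lit 1) (nat_lit 0) (nat_lit 1) (nat_lit 0) (nat_lit 1) (nat_lit 0x11001100110010) (.cD (nat_lit 4) (.kc (nat_lit 36) (nat_lit 0x5001001)) (.cD (nat_lit 16) (.dfs (nat_lit 1) (nat_lit 0x1004002003008) (nat_lit 0x1006002003008) (nat_lit 4097) (nat_lit 4097) (nat_lit 3) (nat_lit 0) (nat_lit 2) (nat_lit 1) (nat_lit 0) (nat_lit 8) (nat_lit 1) (nat_lit 0) (nat_lit 1) (nat_lit 0) (nat_lit 1) (nat_lit 0) .nil) (.cD (nat_lit 20) (.kA true (nat_lit 0x600e00a01600300600100300e001031001000003)) (.cD (nat_lit 32) (.kc (nat_lit 48) (nat_lit 0x3001001)) (.cD (nat_lit 36) (.kc (nat_lit 52) (nat_lit 0x7001001)) (.cD (nat_lit 48) (.kA true (nat_lit 0x400300200800100400100300c001002)) (.cD (nat_lit 52) (.kA true (nat_lit 0x400700600800100400100300c001002)) .nil)))))))) (.cD (nat_lit 36) (.dfs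 (nat_lit 32) (nat_lit 4100) (nat_lit 4100) (nat_lit 0x1002001) (nat_lit 0x1002001) (nat_lit 0) (nat_lit 0) (nat_lit 3) (nat_lit 0) (nat_lit 0) (nat_lit 0) (nat_lit 1) (nat_lit 0) (nat_lit 1) (nat_lit 0) (nat_lit 1) (nat_lit 0x11001100110010) (.cD (nat_lit 4) (.kc (nat_lit 36) (nat_lit 0x5001001)) (.cD (nat_lit 16) (.kA true (nat_lit 0x200200000600100300e001031001000003)) (.cD (nat_lit 20) (.dfs (nat_lit 1) (nat_lit 4102) (nat_lit 4100) (nat_lit 1) (nat_lit 1) (nat_lit 3) (nat_lit 0) (nat_lit 1) (nat_lit 4128) (nat_lit 0x40020010008004002031) (nat_lit 0) (nat_lit 1) (nat_lit 0) (nat_lit 1) (nat_lit 0) (nat_lit 1) (nat_lit 0) .nil) (.cD (nat_lit 32) (.kc (nat_lit 52) (nat_lit 0x7001001)) (.cD (nat_lit 36) (.kc (nat_lit 48) (nat_lit 0x3001001)) (.cD (nat_lit 48) (.kA true (nat_lit 0x400300600800100400100300c001002)) (.cD (nat_lit 52) (.kA true (nat_lit 0x400700200800100400100300c001002)) .nil)))))))) (.cD (nat_lit 48) (.kF (nat_lit 4) (nat_lit 0x2016003002002000003007001031001000004))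 (.cD (nat_lit 52) (.kF (nat_lit 4) (nat_lit 0x13003000003007001031001000003)) .nil)))))))) (.cD (nat_lit 8) (.dfs (nat_lit 16) (nat_lit 4098) (nat_lit 4098) (nat_lit 4097) (nat_lit 4097) (nat_lit 0) (nat_lit 0) (nat_lit 3) (nat_lit 0) (nat_lit 0) (nat_lit 0) (nat_lit 1) (nat_lit 0) (nat_lit 1) (nat_lit 0) (nat_lit 1) (nat_lit 0x101010101010100) (.cD (nat_lit 8) (.kc (nat_lit 20) (nat_lit 0x3001001)) (.cD (nat_lit 16) (.kF (nat_lit 4) (nat_lit 0xe016005031001000003007001031001000004)) (.cD (nat_lit 24) (.kF (nat_lit 4) (nat_lit 0x31001000003007001031001000003)) (.cD (nat_lit 32) (.dfs (nat_lit 32) (nat_lit 4100) (nat_lit 4100) (nat_lit 0x1002001) (nat_lit 0x1002001) (nat_lit 0) (nat_lit 0) (nat_lit 3) (nat_lit 0) (nat_lit 0) (nat_lit 0) (nat_lit 1) (nat_lit 0) (nat_lit 1) (nat_lit 0) (nat_lit 1) (nat_lit 0x101010101010100) (.cD (nat_lit 8) (.kc (nat_lit 36) (nat_lit 0x5001001)) (.cD (nat_lit 16) (.kA false (nat_lit 0xe00c004016003006002001009002031001000003))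 (.cD (nat_lit 24) (.kA false (nat_lit 0x200200000600200500d002031001000003)) (.cD (nat_lit 32) (.kc (nat_lit 48) (nat_lit 0x3001001)) (.cD (nat_lit 40) (.kc (nat_lit 52) (nat_lit 0x7001001)) (.cD (nat_lit 48) (.kA false (nat_lit 0x500400300c00200a004002005007002002000003)) (.cD (nat_lit 56) (.kA false (nat_lit 0x100400700c00200a004002005007002002000003)) .nil)))))))) (.cD (nat_lit 40) (.dfs (nat_lit 32) (nat_lit 4100) (nat_lit 4100) (nat_lit 0x1002001) (nat_lit 0x1002001) (nat_lit 0) (nat_lit 0) (nat_lit 3) (nat_lit 0) (nat_lit 0) (nat_lit 0) (nat_lit 1) (nat_lit 0) (nat_lit 1) (nat_lit 0) (nat_lit 1) (nat_lit 0x101010101010100) (.cD (nat_lit 8) (.kc (nat_lit 36) (nat_lit 0x5001001)) (.cD (nat_lit 16) (.kA false (nat_lit 0xc00e004016003002006001009002031001000003)) (.cD (nat_lit 24) (.kA false (nat_lit 0x200200000200600500d002031001000003)) (.cD (nat_lit 32) (.kc (nat_lit 52) (nat_lit 0x7001001)) (.cD (nat_lit 40) (.kc (nat_lit 48) (nat_lit 0x3001001))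 (.cD (nat_lit 48) (.kA false (nat_lit 0x3100100000300600700e002002002000003)) (.cD (nat_lit 56) (.kA false (nat_lit 0x3100100000700600300e002002002000003)) .nil)))))))) (.cD (nat_lit 48) (.kF (nat_lit 16) (nat_lit 0xc016005004004000001006001003)) (.cD (nat_lit 56) (.kF (nat_lit 16) (nat_lit 0xa016005004004000001006001003)) .nil)))))))) (.cD (nat_lit 16) (.kF (nat_lit 4) (nat_lit 0x31001000001003001002)) (.cD (nat_lit 20) (.kF (nat_lit 4) (nat_lit 0x3100100000e00f009001003001003)) (.cD (nat_lit 24) (.kF (nat_lit 4) (nat_lit 0xe016005031001000001003001003)) (.cD (nat_lit 32) (.dfs (nat_lit 16) (nat_lit 4098) (nat_lit 4098) (nat_lit 4097) (nat_lit 4097) (nat_lit 0) (nat_lit 0) (nat_lit 3) (nat_lit 0) (nat_lit 0) (nat_lit 0) (nat_lit 1) (nat_lit 0) (nat_lit 0x1008004) (nat_lit 32772) (nat_lit 0x1001004000008001014000018) (nat_lit 0x1000101110110) (.cD (nat_lit 4) (.dfs (nat_lit 32) (nat_lit 4100) (nat_lit 4100) (nat_lit 0x1002001) (nat_lit 0x1002001) (nat_lit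 0) (nat_lit 0) (nat_lit 3) (nat_lit 0) (nat_lit 0) (nat_lit 0) (nat_lit 1) (nat_lit 0) (nat_lit 1) (nat_lit 0) (nat_lit 1) (nat_lit 0x11001100110010) (.cD (nat_lit 4) (.kc (nat_lit 48) (nat_lit 0x3001001)) (.cD (nat_lit 16) (.kA true (nat_lit 0x700400500c002002002000002)) (.cD (nat_lit 20) (.kA true (nat_lit 0x500400700c002002002000002)) (.cD (nat_lit 32) (.kc (nat_lit 36) (nat_lit 0x5001001)) (.cD (nat_lit 36) (.kc (nat_lit 52) (nat_lit 0x7001001)) (.cD (nat_lit 48) (.kA true (nat_lit 0x300400100c002002002000002)) (.cD (nat_lit 52) (.dfs (nat_lit 1) (nat_lit 4100) (nat_lit 4102) (nat_lit 1) (nat_lit 1) (nat_lit 3) (nat_lit 0) (nat_lit 1) (nat_lit 4128) (nat_lit 0x40020010008004002031) (nat_lit 0) (nat_lit 1) (nat_lit 0) (nat_lit 1) (nat_lit 0) (nat_lit 1) (nat_lit 0) .nil) .nil)))))))) (.cD (nat_lit 8) (.dfs (nat_lit 32) (nat_lit 4100) (nat_lit 4100) (nat_lit 0x1002001) (nat_lit 0x1002001) (nat_lit 0) (nat_lit 0) (nat_lit 3) (nat_lit 0) (nat_lit 0) (nat_lit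 0) (nat_lit 1) (nat_lit 0) (nat_lit 1) (nat_lit 0) (nat_lit 1) (nat_lit 0x101010101010100) (.cD (nat_lit 8) (.kc (nat_lit 48) (nat_lit 0x3001001)) (.cD (nat_lit 16) (.kA false (nat_lit 0x300400100c002002002000002)) (.cD (nat_lit 24) (.kA false (nat_lit 0x100400300c002002002000002)) (.cD (nat_lit 32) (.kc (nat_lit 36) (nat_lit 0x5001001)) (.cD (nat_lit 40) (.kc (nat_lit 52) (nat_lit 0x7001001)) (.cD (nat_lit 48) (.kA false (nat_lit 0x700400500c002002002000002)) (.cD (nat_lit 56) (.kA false (nat_lit 0x500400700c002002002000002)) .nil)))))))) (.cD (nat_lit 16) (.kF (nat_lit 4) (nat_lit 0x13003000003007001031001000003)) (.cD (nat_lit 20) (.kF (nat_lit 16) (nat_lit 0x2002000001006001002)) (.cD (nat_lit 24) (.kF (nat_lit 16) (nat_lit 0x2002000001006001002)) (.cD (nat_lit 32) (.kc (nat_lit 20) (nat_lit 0x3001001)) (.cD (nat_lit 48) (.kF (nat_lit 4) (nat_lit 0x31001000003007001031001000003)) .nil)))))))) (.cD (nat_lit 48) (.kF (nat_lit 4) (nat_lit 0x13003000001003001002))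 .nil))))))))))
theorem c771 : (chk [] [] p771).n x394 s771 = true := by decide +kernel
noncomputable def p772 : Pf := (.anc (nat_lit 68) (nat_lit 0x16001008008000002) (nat_lit 0x1001020010004) (.czp (nat_lit 64) (nat_lit 0) (nat_lit 0x1040020010008004) z6 (.dfs (nat_lit 4) (nat_lit 4097) (nat_lit 4097) (nat_lit 1) (nat_lit 1) (nat_lit 0) (nat_lit 0) (nat_lit 3) (nat_lit 0) (nat_lit 0) (nat_lit 0) (nat_lit 1) (nat_lit 0) (nat_lit 0x1008004) (nat_lit 32772) (nat_lit 0x1001004000008001014000018) (nat_lit 0x1000101110110) (.cD (nat_lit 4) (.dfs (nat_lit 16) (nat_lit 4098) (nat_lit 4098) (nat_lit 4097) (nat_lit 4097) (nat_lit 0) (nat_lit 0) (nat_lit 3) (nat_lit 0) (nat_lit 0) (nat_lit 0) (nat_lit 1) (nat_lit 0) (nat_lit 1) (nat_lit 0) (nat_lit 1) (nat_lit 0x11001100110010) (.cD (nat_lit 4) (.kc (nat_lit 20) (nat_lit 0x3001001)) (.cD (nat_lit 16) (.kF (nat_lit 4) (nat_lit 0x3004001031001000002006001003)) (.cD (nat_lit 20) (.kF (nat_lit 4) (nat_lit 0x31001000003007001031001000003))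 (.cD (nat_lit 32) (.dfs (nat_lit 32) (nat_lit 4100) (nat_lit 4100) (nat_lit 0x1002001) (nat_lit 0x1002001) (nat_lit 0) (nat_lit 0) (nat_lit 3) (nat_lit 0) (nat_lit 0) (nat_lit 0) (nat_lit 1) (nat_lit 0) (nat_lit 1) (nat_lit 0) (nat_lit 1) (nat_lit 0x11001100110010) (.cD (nat_lit 4) (.kc (nat_lit 36) (nat_lit 0x5001001)) (.cD (nat_lit 16) (.dfs (nat_lit 1) (nat_lit 0x1004002003008) (nat_lit 0x1006002003008) (nat_lit 4097) (nat_lit 4097) (nat_lit 3) (nat_lit 0) (nat_lit 2) (nat_lit 1) (nat_lit 0) (nat_lit 8) (nat_lit 1) (nat_lit 0) (nat_lit 1) (nat_lit 0) (nat_lit 1) (nat_lit 0) .nil) (.cD (nat_lit 20) (.kA true (nat_lit 0x600e00a01600300600100300e001031001000003)) (.cD (nat_lit 32) (.kc (nat_lit 48) (nat_lit 0x3001001)) (.cD (nat_lit 36) (.kc (nat_lit 52) (nat_lit 0x7001001)) (.cD (nat_lit 48) (.kA true (nat_lit 0x400300200800100400100300c001002)) (.cD (nat_lit 52) (.kA true (nat_lit 0x400700600800100400100300c001002)) .nil)))))))) (.cD (nat_lit 36) (.dfs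 (nat_lit 32) (nat_lit 4100) (nat_lit 4100) (nat_lit 0x1002001) (nat_lit 0x1002001) (nat_lit 0) (nat_lit 0) (nat_lit 3) (nat_lit 0) (nat_lit 0) (nat_lit 0) (nat_lit 1) (nat_lit 0) (nat_lit 1) (nat_lit 0) (nat_lit 1) (nat_lit 0x11001100110010) (.cD (nat_lit 4) (.kc (nat_lit 36) (nat_lit 0x5001001)) (.cD (nat_lit 16) (.kA true (nat_lit 0x200200000600100300e001031001000003)) (.cD (nat_lit 20) (.dfs (nat_lit 1) (nat_lit 4102) (nat_lit 4100) (nat_lit 1) (nat_lit 1) (nat_lit 3) (nat_lit 0) (nat_lit 1) (nat_lit 4128) (nat_lit 0x40020010008004002031) (nat_lit 0) (nat_lit 1) (nat_lit 0) (nat_lit 1) (nat_lit 0) (nat_lit 1) (nat_lit 0) .nil) (.cD (nat_lit 32) (.kc (nat_lit 52) (nat_lit 0x7001001)) (.cD (nat_lit 36) (.kc (nat_lit 48) (nat_lit 0x3001001)) (.cD (nat_lit 48) (.kA true (nat_lit 0x400300600800100400100300c001002)) (.cD (nat_lit 52) (.kA true (nat_lit 0x400700200800100400100300c001002)) .nil)))))))) (.cD (nat_lit 48) (.kF (nat_lit 4) (nat_lit 0x2016003002002000003007001031001000004))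 (.cD (nat_lit 52) (.kF (nat_lit 4) (nat_lit 0x13003000003007001031001000003)) .nil)))))))) (.cD (nat_lit 8) (.dfs (nat_lit 16) (nat_lit 4098) (nat_lit 4098) (nat_lit 4097) (nat_lit 4097) (nat_lit 0) (nat_lit 0) (nat_lit 3) (nat_lit 0) (nat_lit 0) (nat_lit 0) (nat_lit 1) (nat_lit 0) (nat_lit 1) (nat_lit 0) (nat_lit 1) (nat_lit 0x101010101010100) (.cD (nat_lit 8) (.kc (nat_lit 20) (nat_lit 0x3001001)) (.cD (nat_lit 16) (.kF (nat_lit 4) (nat_lit 0xe016005031001000003007001031001000004)) (.cD (nat_lit 24) (.kF (nat_lit 4) (nat_lit 0x31001000003007001031001000003)) (.cD (nat_lit 32) (.dfs (nat_lit 32) (nat_lit 4100) (nat_lit 4100) (nat_lit 0x1002001) (nat_lit 0x1002001) (nat_lit 0) (nat_lit 0) (nat_lit 3) (nat_lit 0) (nat_lit 0) (nat_lit 0) (nat_lit 1) (nat_lit 0) (nat_lit 1) (nat_lit 0) (nat_lit 1) (nat_lit 0x101010101010100) (.cD (nat_lit 8) (.kc (nat_lit 36) (nat_lit 0x5001001)) (.cD (nat_lit 16) (.kA false (nat_lit 0xe00c004016003006002001009002031001000003))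 (.cD (nat_lit 24) (.kA false (nat_lit 0x200200000600200500d002031001000003)) (.cD (nat_lit 32) (.kc (nat_lit 48) (nat_lit 0x3001001)) (.cD (nat_lit 40) (.kc (nat_lit 52) (nat_lit 0x7001001)) (.cD (nat_lit 48) (.kA false (nat_lit 0x500400300c00200a004002005007002002000003)) (.cD (nat_lit 56) (.kA false (nat_lit 0x100400700c00200a004002005007002002000003)) .nil)))))))) (.cD (nat_lit 40) (.dfs (nat_lit 32) (nat_lit 4100) (nat_lit 4100) (nat_lit 0x1002001) (nat_lit 0x1002001) (nat_lit 0) (nat_lit 0) (nat_lit 3) (nat_lit 0) (nat_lit 0) (nat_lit 0) (nat_lit 1) (nat_lit 0) (nat_lit 1) (nat_lit 0) (nat_lit 1) (nat_lit 0x101010101010100) (.cD (nat_lit 8) (.kc (nat_lit 36) (nat_lit 0x5001001)) (.cD (nat_lit 16) (.kA false (nat_lit 0xc00e004016003002006001009002031001000003)) (.cD (nat_lit 24) (.kA false (nat_lit 0x200200000200600500d002031001000003)) (.cD (nat_lit 32) (.kc (nat_lit 52) (nat_lit 0x7001001)) (.cD (nat_lit 40) (.kc (nat_lit 48) (nat_lit 0x3001001))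 (.cD (nat_lit 48) (.kA false (nat_lit 0x3100100000300600700e002002002000003)) (.cD (nat_lit 56) (.kA false (nat_lit 0x3100100000700600300e002002002000003)) .nil)))))))) (.cD (nat_lit 48) (.kF (nat_lit 16) (nat_lit 0xc016005004004000001006001003)) (.cD (nat_lit 56) (.kF (nat_lit 16) (nat_lit 0xa016005004004000001006001003)) .nil)))))))) (.cD (nat_lit 16) (.kF (nat_lit 4) (nat_lit 0x31001000001003001002)) (.cD (nat_lit 20) (.kF (nat_lit 4) (nat_lit 0x3100100000e00f009001003001003)) (.cD (nat_lit 24) (.kF (nat_lit 4) (nat_lit 0xe016005031001000001003001003)) (.cD (nat_lit 32) (.dfs (nat_lit 16) (nat_lit 4098) (nat_lit 4098) (nat_lit 4097) (nat_lit 4097) (nat_lit 0) (nat_lit 0) (nat_lit 3) (nat_lit 0) (nat_lit 0) (nat_lit 0) (nat_lit 1) (nat_lit 0) (nat_lit 0x1008004) (nat_lit 32772) (nat_lit 0x1001004000008001014000018) (nat_lit 0x1000101110110) (.cD (nat_lit 4) (.dfs (nat_lit 32) (nat_lit 4100) (nat_lit 4100) (nat_lit 0x1002001) (nat_lit 0x1002001) (nat_lit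 0) (nat_lit 0) (nat_lit 3) (nat_lit 0) (nat_lit 0) (nat_lit 0) (nat_lit 1) (nat_lit 0) (nat_lit 1) (nat_lit 0) (nat_lit 1) (nat_lit 0x11001100110010) (.cD (nat_lit 4) (.kc (nat_lit 48) (nat_lit 0x3001001)) (.cD (nat_lit 16) (.kA true (nat_lit 0x700400500c002002002000002)) (.cD (nat_lit 20) (.kA true (nat_lit 0x500400700c002002002000002)) (.cD (nat_lit 32) (.kc (nat_lit 36) (nat_lit 0x5001001)) (.cD (nat_lit 36) (.kc (nat_lit 52) (nat_lit 0x7001001)) (.cD (nat_lit 48) (.kA true (nat_lit 0x300400100c002002002000002)) (.cD (nat_lit 52) (.dfs (nat_lit 1) (nat_lit 4100) (nat_lit 4102) (nat_lit 1) (nat_lit 1) (nat_lit 3) (nat_lit 0) (nat_lit 1) (nat_lit 4128) (nat_lit 0x40020010008004002031) (nat_lit 0) (nat_lit 1) (nat_lit 0) (nat_lit 1) (nat_lit 0) (nat_lit 1) (nat_lit 0) .nil) .nil)))))))) (.cD (nat_lit 8) (.dfs (nat_lit 32) (nat_lit 4100) (nat_lit 4100) (nat_lit 0x1002001) (nat_lit 0x1002001) (nat_lit 0) (nat_lit 0) (nat_lit 3) (nat_lit 0) (nat_lit 0) (nat_lit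 0) (nat_lit 1) (nat_lit 0) (nat_lit 1) (nat_lit 0) (nat_lit 1) (nat_lit 0x101010101010100) (.cD (nat_lit 8) (.kc (nat_lit 48) (nat_lit 0x3001001)) (.cD (nat_lit 16) (.kA false (nat_lit 0x300400100c002002002000002)) (.cD (nat_lit 24) (.kA false (nat_lit 0x100400300c002002002000002)) (.cD (nat_lit 32) (.kc (nat_lit 36) (nat_lit 0x5001001)) (.cD (nat_lit 40) (.kc (nat_lit 52) (nat_lit 0x7001001)) (.cD (nat_lit 48) (.kA false (nat_lit 0x700400500c002002002000002)) (.cD (nat_lit 56) (.kA false (nat_lit 0x500400700c002002002000002)) .nil)))))))) (.cD (nat_lit 16) (.kF (nat_lit 4) (nat_lit 0x13003000003007001031001000003)) (.cD (nat_lit 20) (.kF (nat_lit 16) (nat_lit 0x2002000001006001002)) (.cD (nat_lit 24) (.kF (nat_lit 16) (nat_lit 0x2002000001006001002)) (.cD (nat_lit 32) (.kc (nat_lit 20) (nat_lit 0x3001001)) (.cD (nat_lit 48) (.kF (nat_lit 4) (nat_lit 0x31001000003007001031001000003)) .nil)))))))) (.cD (nat_lit 48) (.kF (nat_lit 4) (nat_lit 0x13003000001003001002))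 .nil))))))))))
theorem c772 : (chk [] [] p772).n x395 s772 = true := by decide +kernel
noncomputable def p773 : Pf := (.lft (nat_lit 0x20008018001004002001001) (nat_lit 0) (nat_lit 0x1030020) (nat_lit 0x20010008004002001) (.extn a161 (nat_lit 0x20010008004002001) (nat_lit 0x1004010008020) (nat_lit 2) (nat_lit 0) (nat_lit 0) (nat_lit 0) (nat_lit 0x1010101) (.cE (nat_lit 0) b454 (nat_lit 0) (.cut (nat_lit 0)) (.cut (nat_lit 1)) (.cE (nat_lit 8) b455 (nat_lit 0) (.cut (nat_lit 2)) (.cut (nat_lit 3)) (.cE (nat_lit 16) (nat_lit 0x2f03e02503403b02a03102002703602d03c03302203902803f02e03502402b03a02103003702603d02c02303202903800701600d01c01300201900800f01e00501401b00a01100001700601d00c00301200901801f00e01500400b01a001010) (nat_lit 0) (.iso x390 s767 (nat_lit 0) (nat_lit 0x1040020030004008002003) (nat_lit 0x40020030004008002003) [(nat_lit 0x10008004002001007001), (nat_lit 0x10008004002001005001), (nat_lit 0x800400200100b001), (nat_lit 0x8004002001009001)] (.cut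 (nat_lit 0))) (.iso x391 s768 (nat_lit 0) (nat_lit 0x1040020030004008002003) (nat_lit 0x40020030004008002003) [(nat_lit 0x10008004002001007001), (nat_lit 0x10008004002001005001), (nat_lit 0x800400200100b001), (nat_lit 0x8004002001009001)] (.cut (nat_lit 1))) (.cE (nat_lit 24) b456 (nat_lit 0) (.cut (nat_lit 4)) (.cut (nat_lit 5)) .nil))))))
theorem c773 : (chk [(x390, s767), (x391, s768), (x392, s769), (x393, s770), (x394, s771), (x395, s772)] [g454] p773).n x389 s773 = true := by decide +kernel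
noncomputable def p774 : Pf := (.anc (nat_lit 72) (nat_lit 0x16003004004000002) (nat_lit 0x1007020010008) (.czp (nat_lit 64) (nat_lit 0) (nat_lit 0x1040020010008004) z6 (.dfs (nat_lit 8) (nat_lit 4097) (nat_lit 4097) (nat_lit 1) (nat_lit 1) (nat_lit 0) (nat_lit 0) (nat_lit 3) (nat_lit 0) (nat_lit 0) (nat_lit 0) (nat_lit 1) (nat_lit 0) (nat_lit 0x1008004) (nat_lit 32772) (nat_lit 0x1001004000008001014000018) (nat_lit 0x1000101110110) (.cD (nat_lit 4) (.dfs (nat_lit 16) (nat_lit 4098) (nat_lit 4098) (nat_lit 4097) (nat_lit 4097) (nat_lit 0) (nat_lit 0) (nat_lit 3) (nat_lit 0) (nat_lit 0) (nat_lit 0) (nat_lit 1) (nat_lit 0) (nat_lit 1) (nat_lit 0) (nat_lit 1) (nat_lit 0x11001100110010) (.cD (nat_lit 4) (.kc (nat_lit 24) (nat_lit 0x3001001)) (.cD (nat_lit 16) (.kF (nat_lit 8) (nat_lit 0x3006002001001000002006001003)) (.cD (nat_lit 20) (.kF (nat_lit 8) (nat_lit 0x1001000002007001001001000003)) (.cD (nat_lit 32) (.kF (nat_lit 8) (nat_lit 0x2016003002007001001001000003))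 (.cD (nat_lit 36) (.kF (nat_lit 8) (nat_lit 0x2002000002007001001001000003)) (.cD (nat_lit 48) (.dfs (nat_lit 32) (nat_lit 4100) (nat_lit 4100) (nat_lit 0x1002001) (nat_lit 0x1002001) (nat_lit 0) (nat_lit 0) (nat_lit 3) (nat_lit 0) (nat_lit 0) (nat_lit 0) (nat_lit 1) (nat_lit 0) (nat_lit 1) (nat_lit 0) (nat_lit 1) (nat_lit 0x11001100110010) (.cD (nat_lit 4) (.kc (nat_lit 40) (nat_lit 0x5001001)) (.cD (nat_lit 16) (.kA false (nat_lit 0x700400200800100a004002005007002002000003)) (.cD (nat_lit 20) (.kA false (nat_lit 0x100100000600100200d001002002000003)) (.cD (nat_lit 32) (.kA false (nat_lit 0xa00400801600300600100200d001002002000003)) (.cD (nat_lit 36) (.kA false (nat_lit 0x200200000600100200d001002002000003)) (.cD (nat_lit 48) (.kc (nat_lit 48) (nat_lit 0x3001001)) (.cD (nat_lit 52) (.kc (nat_lit 56) (nat_lit 0x7001001)) .nil)))))))) (.cD (nat_lit 52) (.dfs (nat_lit 32) (nat_lit 4100) (nat_lit 4100) (nat_lit 0x1002001) (nat_lit 0x1002001) (nat_lit 0)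 (nat_lit 0) (nat_lit 3) (nat_lit 0) (nat_lit 0) (nat_lit 0) (nat_lit 1) (nat_lit 0) (nat_lit 1) (nat_lit 0) (nat_lit 1) (nat_lit 0x11001100110010) (.cD (nat_lit 4) (.kc (nat_lit 40) (nat_lit 0x5001001)) (.cD (nat_lit 16) (.kA false (nat_lit 0x700400200800100a004002005007002002000003)) (.cD (nat_lit 20) (.kA false (nat_lit 0x100100000600100200d001002002000003)) (.cD (nat_lit 32) (.kA false (nat_lit 0x800400a01600300600100200d001002002000003)) (.cD (nat_lit 36) (.kA false (nat_lit 0x200200000600100200d001002002000003)) (.cD (nat_lit 48) (.kc (nat_lit 56) (nat_lit 0x7001001)) (.cD (nat_lit 52) (.kc (nat_lit 48) (nat_lit 0x3001001)) .nil)))))))) .nil)))))))) (.cD (nat_lit 8) (.dfs (nat_lit 16) (nat_lit 4098) (nat_lit 4098) (nat_lit 4097) (nat_lit 4097) (nat_lit 0) (nat_lit 0) (nat_lit 3) (nat_lit 0) (nat_lit 0) (nat_lit 0) (nat_lit 1) (nat_lit 0) (nat_lit 1) (nat_lit 0) (nat_lit 1) (nat_lit 0x101010101010100) (.cD (nat_lit 8) (.kc (nat_lit 24) (nat_lit 0x3001001))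 (.cD (nat_lit 16) (.dfs (nat_lit 32) (nat_lit 4100) (nat_lit 4100) (nat_lit 0x1002001) (nat_lit 0x1002001) (nat_lit 0) (nat_lit 0) (nat_lit 3) (nat_lit 0) (nat_lit 0) (nat_lit 0) (nat_lit 1) (nat_lit 0) (nat_lit 1) (nat_lit 0) (nat_lit 1) (nat_lit 0x101010101010100) (.cD (nat_lit 8) (.kc (nat_lit 40) (nat_lit 0x5001001)) (.cD (nat_lit 16) (.kc (nat_lit 48) (nat_lit 0x3001001)) (.cD (nat_lit 24) (.kc (nat_lit 56) (nat_lit 0x7001001)) (.cD (nat_lit 32) (.kA false (nat_lit 0xa00400801600500600100200d001002002000003)) (.cD (nat_lit 40) (.kA false (nat_lit 0x200200000600100200d001002002000003)) (.cD (nat_lit 48) (.dfs (nat_lit 7) (nat_lit 0x1004003002008) (nat_lit 0x1007003002008) (nat_lit 4097) (nat_lit 4097) (nat_lit 0) (nat_lit 0) (nat_lit 2) (nat_lit 0) (nat_lit 0) (nat_lit 4) (nat_lit 1) (nat_lit 0) (nat_lit 4104) (nat_lit 8) (nat_lit 0x1000004000014) (nat_lit 0x100010) (.cD (nat_lit 4) (.kA true (nat_lit 0x3006002010001001001000005006002014002001001000004))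 (.cD (nat_lit 20) (.kA true (nat_lit 0x7006002010001001001000001006002014002001001000004)) .nil))) (.cD (nat_lit 56) (.dfs (nat_lit 7) (nat_lit 4101) (nat_lit 4102) (nat_lit 1) (nat_lit 1) (nat_lit 0) (nat_lit 0) (nat_lit 1) (nat_lit 4144) (nat_lit 0x40020010008004002001) (nat_lit 0) (nat_lit 1) (nat_lit 0) (nat_lit 1) (nat_lit 0) (nat_lit 1) (nat_lit 0) .nil) .nil)))))))) (.cD (nat_lit 24) (.dfs (nat_lit 32) (nat_lit 4100) (nat_lit 4100) (nat_lit 0x1002001) (nat_lit 0x1002001) (nat_lit 0) (nat_lit 0) (nat_lit 3) (nat_lit 0) (nat_lit 0) (nat_lit 0) (nat_lit 1) (nat_lit 0) (nat_lit 1) (nat_lit 0) (nat_lit 1) (nat_lit 0x101010101010100) (.cD (nat_lit 8) (.kc (nat_lit 40) (nat_lit 0x5001001)) (.cD (nat_lit 16) (.kc (nat_lit 56) (nat_lit 0x7001001)) (.cD (nat_lit 24) (.kc (nat_lit 48) (nat_lit 0x3001001)) (.cD (nat_lit 32) (.kA false (nat_lit 0x100100000400100200e001001001000003)) (.cD (nat_lit 40) (.kA false (nat_lit 0x100100000400100200e001001001000003))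 (.cD (nat_lit 48) (.kA false (nat_lit 0x100100000400100200e001001001000003)) (.cD (nat_lit 56) (.kA false (nat_lit 0x100100000400100200e001001001000003)) .nil)))))))) (.cD (nat_lit 32) (.kF (nat_lit 8) (nat_lit 0x2016005002007001001001000003)) (.cD (nat_lit 40) (.kF (nat_lit 8) (nat_lit 0x2002000002007001001001000003)) (.cD (nat_lit 48) (.kF (nat_lit 16) (nat_lit 0xc016005004004000001006001003)) (.cD (nat_lit 56) (.kF (nat_lit 16) (nat_lit 0xa016005004004000001006001003)) .nil)))))))) (.cD (nat_lit 16) (.kF (nat_lit 8) (nat_lit 0x1001000001003001002)) (.cD (nat_lit 20) (.kF (nat_lit 8) (nat_lit 0x100100000e00f009001003001003)) (.cD (nat_lit 24) (.kF (nat_lit 8) (nat_lit 0x2016005002002000001003001003)) (.cD (nat_lit 32) (.dfs (nat_lit 16) (nat_lit 4098) (nat_lit 4098) (nat_lit 4097) (nat_lit 4097) (nat_lit 0) (nat_lit 0) (nat_lit 3) (nat_lit 0) (nat_lit 0) (nat_lit 0) (nat_lit 1) (nat_lit 0) (nat_lit 0x1008004) (nat_lit 32772) (nat_lit 0x1001004000008001014000018)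 (nat_lit 0x1000101110110) (.cD (nat_lit 4) (.kF (nat_lit 8) (nat_lit 0x4016003002007001001001000003)) (.cD (nat_lit 8) (.kF (nat_lit 8) (nat_lit 0x4016005002007001001001000003)) (.cD (nat_lit 16) (.dfs (nat_lit 32) (nat_lit 4100) (nat_lit 4100) (nat_lit 0x1002001) (nat_lit 0x1002001) (nat_lit 0) (nat_lit 0) (nat_lit 3) (nat_lit 0) (nat_lit 0) (nat_lit 0) (nat_lit 1) (nat_lit 0) (nat_lit 0x1008004) (nat_lit 32772) (nat_lit 0x1001004000008001014000018) (nat_lit 0x1000101110110) (.cD (nat_lit 4) (.kA false (nat_lit 0x200200000400100200c001002)) (.cD (nat_lit 8) (.kA false (nat_lit 0x300400200c002002002000002)) (.cD (nat_lit 16) (.kc (nat_lit 48) (nat_lit 0x3001001)) (.cD (nat_lit 20) (.kA false (nat_lit 0x200200000400100200c001002)) (.cD (nat_lit 24) (.dfs (nat_lit 7) (nat_lit 4100) (nat_lit 4103) (nat_lit 1) (nat_lit 1) (nat_lit 0) (nat_lit 0) (nat_lit 1) (nat_lit 4128) (nat_lit 0x40020010008004002001) (nat_lit 0) (nat_lit 1) (nat_lit 0) (nat_lit 1) (nat_lit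 0) (nat_lit 1) (nat_lit 0) .nil) (.cD (nat_lit 32) (.kc (nat_lit 40) (nat_lit 0x5001001)) (.cD (nat_lit 48) (.kc (nat_lit 56) (nat_lit 0x7001001)) .nil)))))))) (.cD (nat_lit 20) (.kF (nat_lit 16) (nat_lit 0x2002000001006001002)) (.cD (nat_lit 24) (.kF (nat_lit 16) (nat_lit 0x2002000001006001002)) (.cD (nat_lit 32) (.kc (nat_lit 24) (nat_lit 0x3001001)) (.cD (nat_lit 48) (.dfs (nat_lit 32) (nat_lit 4100) (nat_lit 4100) (nat_lit 0x1002001) (nat_lit 0x1002001) (nat_lit 0) (nat_lit 0) (nat_lit 3) (nat_lit 0) (nat_lit 0) (nat_lit 0) (nat_lit 1) (nat_lit 0) (nat_lit 0x1008004) (nat_lit 32772) (nat_lit 0x1001004000008001014000018) (nat_lit 0x1000101110110) (.cD (nat_lit 4) (.kA false (nat_lit 0x200200000400100200c001002)) (.cD (nat_lit 8) (.kA false (nat_lit 0x700400600c002002002000002)) (.cD (nat_lit 16) (.kc (nat_lit 56) (nat_lit 0x7001001)) (.cD (nat_lit 20) (.kA false (nat_lit 0x200200000400100200c001002)) (.cD (nat_lit 24) (.kA false (nat_lit 0x100400600c002002002000002))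 (.cD (nat_lit 32) (.kc (nat_lit 40) (nat_lit 0x5001001)) (.cD (nat_lit 48) (.kc (nat_lit 48) (nat_lit 0x3001001)) .nil)))))))) .nil)))))))) (.cD (nat_lit 48) (.kF (nat_lit 8) (nat_lit 0x23003000001003001002)) .nil))))))))))
theorem c774 : (chk [] [] p774).n x396 s774 = true := by decide +kernel
noncomputable def p775 : Pf := (.anc (nat_lit 68) (nat_lit 0x16001008008000002) (nat_lit 0x1001020010004) (.czp (nat_lit 64) (nat_lit 0) (nat_lit 0x1040020010008004) z6 (.dfs (nat_lit 4) (nat_lit 4097) (nat_lit 4097) (nat_lit 1) (nat_lit 1) (nat_lit 0) (nat_lit 0) (nat_lit 3) (nat_lit 0) (nat_lit 0) (nat_lit 0) (nat_lit 1) (nat_lit 0) (nat_lit 0x1008004) (nat_lit 32772) (nat_lit 0x1001004000008001014000018) (nat_lit 0x1000101110110) (.cD (nat_lit 4) (.dfs (nat_lit 16) (nat_lit 4098) (nat_lit 4098) (nat_lit 4097) (nat_lit 4097) (nat_lit 0) (nat_lit 0) (nat_lit 3) (nat_lit 0) (nat_lit 0) (nat_lit 0) (nat_lit 1) (nat_lit 0) (nat_lit 1) (nat_lit 0) (nat_lit 1) (nat_lit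 0x11001100110010) (.cD (nat_lit 4) (.kc (nat_lit 20) (nat_lit 0x3001001)) (.cD (nat_lit 16) (.kF (nat_lit 4) (nat_lit 0x3004001011001000002006001003)) (.cD (nat_lit 20) (.kF (nat_lit 4) (nat_lit 0x11001000003007001011001000003)) (.cD (nat_lit 32) (.dfs (nat_lit 32) (nat_lit 4100) (nat_lit 4100) (nat_lit 0x1002001) (nat_lit 0x1002001) (nat_lit 0) (nat_lit 0) (nat_lit 3) (nat_lit 0) (nat_lit 0) (nat_lit 0) (nat_lit 1) (nat_lit 0) (nat_lit 1) (nat_lit 0) (nat_lit 1) (nat_lit 0x11001100110010) (.cD (nat_lit 4) (.kc (nat_lit 36) (nat_lit 0x5001001)) (.cD (nat_lit 16) (.dfs (nat_lit 1) (nat_lit 0x1004002003008) (nat_lit 0x1006002003008) (nat_lit 4097) (nat_lit 4097) (nat_lit 2) (nat_lit 0) (nat_lit 2) (nat_lit 1) (nat_lit 0) (nat_lit 8) (nat_lit 1) (nat_lit 0) (nat_lit 4100) (nat_lit 4) (nat_lit 0x100000c00001c) (nat_lit 0x10001000) (.cD (nat_lit 12) (.kb (nat_lit 65) (nat_lit 0x10006019001002) (nat_lit 0x1020010008044002005)) (.cD (nat_lit 28) (.kb (nat_lit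 97) (nat_lit 0x1000601b001002) (nat_lit 0x1020010008044002005)) .nil))) (.cD (nat_lit 20) (.kA true (nat_lit 0x600e00a01600300600100300e001011001000003)) (.cD (nat_lit 32) (.kc (nat_lit 48) (nat_lit 0x3001001)) (.cD (nat_lit 36) (.kc (nat_lit 52) (nat_lit 0x7001001)) (.cD (nat_lit 48) (.kA true (nat_lit 0x400300200800100400100300c001002)) (.cD (nat_lit 52) (.kA true (nat_lit 0x400700600800100400100300c001002)) .nil)))))))) (.cD (nat_lit 36) (.dfs (nat_lit 32) (nat_lit 4100) (nat_lit 4100) (nat_lit 0x1002001) (nat_lit 0x1002001) (nat_lit 0) (nat_lit 0) (nat_lit 3) (nat_lit 0) (nat_lit 0) (nat_lit 0) (nat_lit 1) (nat_lit 0) (nat_lit 1) (nat_lit 0) (nat_lit 1) (nat_lit 0x11001100110010) (.cD (nat_lit 4) (.kc (nat_lit 36) (nat_lit 0x5001001)) (.cD (nat_lit 16) (.kA true (nat_lit 0x200200000600100300e001011001000003)) (.cD (nat_lit 20) (.dfs (nat_lit 1) (nat_lit 4102) (nat_lit 4100) (nat_lit 1) (nat_lit 1) (nat_lit 2) (nat_lit 0) (nat_lit 1) (nat_lit 4128)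 (nat_lit 0x40020010008004002011) (nat_lit 0) (nat_lit 1) (nat_lit 0) (nat_lit 1) (nat_lit 0) (nat_lit 1) (nat_lit 0) .nil) (.cD (nat_lit 32) (.kc (nat_lit 52) (nat_lit 0x7001001)) (.cD (nat_lit 36) (.kc (nat_lit 48) (nat_lit 0x3001001)) (.cD (nat_lit 48) (.kA true (nat_lit 0x400300600800100400100300c001002)) (.cD (nat_lit 52) (.kA true (nat_lit 0x400700200800100400100300c001002)) .nil)))))))) (.cD (nat_lit 48) (.kF (nat_lit 4) (nat_lit 0x2016003002002000003007001011001000004)) (.cD (nat_lit 52) (.kF (nat_lit 4) (nat_lit 0x33003000003007001011001000003)) .nil)))))))) (.cD (nat_lit 8) (.dfs (nat_lit 16) (nat_lit 4098) (nat_lit 4098) (nat_lit 4097) (nat_lit 4097) (nat_lit 0) (nat_lit 0) (nat_lit 3) (nat_lit 0) (nat_lit 0) (nat_lit 0) (nat_lit 1) (nat_lit 0) (nat_lit 1) (nat_lit 0) (nat_lit 1) (nat_lit 0x101010101010100) (.cD (nat_lit 8) (.kc (nat_lit 20) (nat_lit 0x3001001)) (.cD (nat_lit 16) (.kF (nat_lit 4) (nat_lit 0x3006002011001000003007001011001000004))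 (.cD (nat_lit 24) (.kF (nat_lit 4) (nat_lit 0x11001000003007001011001000003)) (.cD (nat_lit 32) (.dfs (nat_lit 32) (nat_lit 4100) (nat_lit 4100) (nat_lit 0x1002001) (nat_lit 0x1002001) (nat_lit 0) (nat_lit 0) (nat_lit 3) (nat_lit 0) (nat_lit 0) (nat_lit 0) (nat_lit 1) (nat_lit 0) (nat_lit 1) (nat_lit 0) (nat_lit 1) (nat_lit 0x101010101010100) (.cD (nat_lit 8) (.kc (nat_lit 36) (nat_lit 0x5001001)) (.cD (nat_lit 16) (.kA false (nat_lit 0x200c004016003004002001009002011001000003)) (.cD (nat_lit 24) (.kA false (nat_lit 0x200200000400200500d002011001000003)) (.cD (nat_lit 32) (.kc (nat_lit 48) (nat_lit 0x3001001)) (.cD (nat_lit 40) (.kc (nat_lit 52) (nat_lit 0x7001001)) (.cD (nat_lit 48) (.kA false (nat_lit 0x500400300c00200a004002005007002002000003)) (.cD (nat_lit 56) (.kA false (nat_lit 0x100400700c00200a004002005007002002000003)) .nil)))))))) (.cD (nat_lit 40) (.dfs (nat_lit 32) (nat_lit 4100) (nat_lit 4100) (nat_lit 0x1002001) (nat_lit 0x1002001) (nat_lit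 0) (nat_lit 0) (nat_lit 3) (nat_lit 0) (nat_lit 0) (nat_lit 0) (nat_lit 1) (nat_lit 0) (nat_lit 1) (nat_lit 0) (nat_lit 1) (nat_lit 0x101010101010100) (.cD (nat_lit 8) (.kc (nat_lit 36) (nat_lit 0x5001001)) (.cD (nat_lit 16) (.kA false (nat_lit 0x200e004016003004006001009002011001000003)) (.cD (nat_lit 24) (.kA false (nat_lit 0x200200000400600500d002011001000003)) (.cD (nat_lit 32) (.kc (nat_lit 52) (nat_lit 0x7001001)) (.cD (nat_lit 40) (.kc (nat_lit 48) (nat_lit 0x3001001)) (.cD (nat_lit 48) (.kA false (nat_lit 0x1100100000300600700e002002002000003)) (.cD (nat_lit 56) (.kA false (nat_lit 0x1100100000700600300e002002002000003)) .nil)))))))) (.cD (nat_lit 48) (.kF (nat_lit 16) (nat_lit 0xc016005004004000001006001003)) (.cD (nat_lit 56) (.kF (nat_lit 16) (nat_lit 0xa016005004004000001006001003)) .nil)))))))) (.cD (nat_lit 16) (.kF (nat_lit 4) (nat_lit 0x11001000001003001002)) (.cD (nat_lit 20) (.kF (nat_lit 4) (nat_lit 0x1100100000e00f009001003001003))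 (.cD (nat_lit 24) (.kF (nat_lit 4) (nat_lit 0x2016005002002000001003001003)) (.cD (nat_lit 32) (.dfs (nat_lit 16) (nat_lit 4098) (nat_lit 4098) (nat_lit 4097) (nat_lit 4097) (nat_lit 0) (nat_lit 0) (nat_lit 3) (nat_lit 0) (nat_lit 0) (nat_lit 0) (nat_lit 1) (nat_lit 0) (nat_lit 0x1008004) (nat_lit 32772) (nat_lit 0x1001004000008001014000018) (nat_lit 0x1000101110110) (.cD (nat_lit 4) (.dfs (nat_lit 32) (nat_lit 4100) (nat_lit 4100) (nat_lit 0x1002001) (nat_lit 0x1002001) (nat_lit 0) (nat_lit 0) (nat_lit 3) (nat_lit 0) (nat_lit 0) (nat_lit 0) (nat_lit 1) (nat_lit 0) (nat_lit 1) (nat_lit 0) (nat_lit 1) (nat_lit 0x11001100110010) (.cD (nat_lit 4) (.kc (nat_lit 48) (nat_lit 0x3001001)) (.cD (nat_lit 16) (.kA true (nat_lit 0x700400500c002002002000002)) (.cD (nat_lit 20) (.kA true (nat_lit 0x500400700c002002002000002)) (.cD (nat_lit 32) (.kc (nat_lit 36) (nat_lit 0x5001001)) (.cD (nat_lit 36) (.kc (nat_lit 52) (nat_lit 0x7001001)) (.cD (nat_lit 48) (.kA true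 (nat_lit 0x300400100c002002002000002)) (.cD (nat_lit 52) (.dfs (nat_lit 1) (nat_lit 4100) (nat_lit 4102) (nat_lit 1) (nat_lit 1) (nat_lit 2) (nat_lit 0) (nat_lit 1) (nat_lit 4128) (nat_lit 0x40020010008004002011) (nat_lit 0) (nat_lit 1) (nat_lit 0) (nat_lit 1) (nat_lit 0) (nat_lit 1) (nat_lit 0) .nil) .nil)))))))) (.cD (nat_lit 8) (.dfs (nat_lit 32) (nat_lit 4100) (nat_lit 4100) (nat_lit 0x1002001) (nat_lit 0x1002001) (nat_lit 0) (nat_lit 0) (nat_lit 3) (nat_lit 0) (nat_lit 0) (nat_lit 0) (nat_lit 1) (nat_lit 0) (nat_lit 1) (nat_lit 0) (nat_lit 1) (nat_lit 0x101010101010100) (.cD (nat_lit 8) (.kc (nat_lit 48) (nat_lit 0x3001001)) (.cD (nat_lit 16) (.kA false (nat_lit 0x300400100c002002002000002)) (.cD (nat_lit 24) (.kA false (nat_lit 0x100400300c002002002000002)) (.cD (nat_lit 32) (.kc (nat_lit 36) (nat_lit 0x5001001)) (.cD (nat_lit 40) (.kc (nat_lit 52) (nat_lit 0x7001001)) (.cD (nat_lit 48) (.kA false (nat_lit 0x700400500c002002002000002)) (.cD (nat_lit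 56) (.kA false (nat_lit 0x500400700c002002002000002)) .nil)))))))) (.cD (nat_lit 16) (.kF (nat_lit 4) (nat_lit 0x33003000003007001011001000003)) (.cD (nat_lit 20) (.kF (nat_lit 16) (nat_lit 0x2002000001006001002)) (.cD (nat_lit 24) (.kF (nat_lit 16) (nat_lit 0x2002000001006001002)) (.cD (nat_lit 32) (.kc (nat_lit 20) (nat_lit 0x3001001)) (.cD (nat_lit 48) (.kF (nat_lit 4) (nat_lit 0x11001000003007001011001000003)) .nil)))))))) (.cD (nat_lit 48) (.kF (nat_lit 4) (nat_lit 0x33003000001003001002)) .nil))))))))))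
theorem c775 : (chk [] [] p775).n x397 s775 = true := by decide +kernel

end Cfsg.Lib.D8.T0O
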