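import Cfsg.Agent.Lib.D8.T.T0OG0

/-! Certificates (generated, helper29). -/

set_option maxRecDepth 100000
set_option Elab.async false

namespace Cfsg.Lib.D8.T0O

universe u

noncomputable def p1001 : Pf := (.clm (.cut (nat_lit 0)) (.dfs (nat_lit 16) (nat_lit 1) (nat_lit 1) (nat_lit 1) (nat_lit 1) (nat_lit 0) (nat_lit 0) (nat_lit 0) (nat_lit 0) (nat_lit 0) (nat_lit 0) (nat_lit 1) (nat_lit 0) (nat_lit 0x1002001) (nat_lit 8193) (nat_lit 0x1001011000012001015000016) (nat_lit 0x11770000) (.cD (nat_lit 16) (.kin (nat_lit 1) (nat_lit 0)) (.cD (nat_lit 17) (.kn (nat_lit 1) (nat_lit 0x1010008004002001) false (nat_lit 4098) (nat_lit 2) (nat_lit 0x1000011)) (.cD (nat_lit 18) (.kn (nat_lit 1) (nat_lit 0x1010008004002001) false (nat_lit 4097) (nat_lit 1) (nat_lit 0x1000012)) (.cD (nat_lit 20) (.dfs (nat_lit 11) (nat_lit 1) (nat_lit 1) (nat_lit 4097) (nat_lit 4097) (nat_lit 0) (nat_lit 1) (nat_lit 0) (nat_lit 0) (nat_lit 0) (nat_lit 0) (nat_lit 1) (nat_lit 0) (nat_lit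 4097) (nat_lit 1) (nat_lit 0x1000003000007) (nat_lit 136) (.cD (nat_lit 3) (.mulh (nat_lit 1) (nat_lit 1) (.dfs (nat_lit 2) (nat_lit 1) (nat_lit 1) (nat_lit 0x1004002001) (nat_lit 0x1004003001) (nat_lit 0) (nat_lit 0) (nat_lit 0) (nat_lit 0) (nat_lit 0) (nat_lit 0) (nat_lit 1) (nat_lit 0) (nat_lit 4099) (nat_lit 11) (nat_lit 0x1000001000002000005000006) (nat_lit 102) (.cD (nat_lit 1) (.dfs (nat_lit 4) (nat_lit 1) (nat_lit 1) (nat_lit 0x1008004002001) (nat_lit 0x1008004002001) (nat_lit 0) (nat_lit 0) (nat_lit 0) (nat_lit 0) (nat_lit 0) (nat_lit 0) (nat_lit 0x1002001) (nat_lit 8) (nat_lit 1) (nat_lit 0) (nat_lit 1) (nat_lit 4368) (.cD (nat_lit 4) (.kA true (nat_lit 0x600200301100100800400600300300a004005010001003)) (.cD (nat_lit 8) (.kc (nat_lit 12) (nat_lit 0x5001001)) (.cD (nat_lit 12) (.extn (nat_lit 0x1b01101201001701d01e01c01301901a01801f01501601400f00500600400300900a00800700d00e00c00b001002000) (nat_lit 0x1000400100200a) (nat_lit 4112) (nat_lit 1) (nat_lit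 4112) (nat_lit 0x10008004002001) (nat_lit 0) (nat_lit 0) .nil) .nil)))) (.cD (nat_lit 2) (.dfs (nat_lit 4) (nat_lit 1) (nat_lit 1) (nat_lit 0x1008004002001) (nat_lit 0x1008004002001) (nat_lit 0) (nat_lit 0) (nat_lit 0) (nat_lit 0) (nat_lit 0) (nat_lit 0) (nat_lit 0x1002001) (nat_lit 8) (nat_lit 1) (nat_lit 0) (nat_lit 1) (nat_lit 4368) (.cD (nat_lit 4) (.extn a5 (nat_lit 0x1000400100200a) (nat_lit 0x1002008004010) (nat_lit 2) (nat_lit 0) (nat_lit 0) (nat_lit 0) (nat_lit 4369) (.cE (nat_lit 0) b6 t6 (.cut (nat_lit 5)) (.cut (nat_lit 6)) (.cE (nat_lit 4) (nat_lit 0x1701e01501c01301a01101801f01601d01401b01201901000300a00100800700e00500c00b00200900000f00600d004) (nat_lit 0) (.iso x207 s729 (nat_lit 2) (nat_lit 0x1020010008004002021) (nat_lit 0x20010008004002021) [(nat_lit 0x8004002001003001), (nat_lit 0x8004002001005001)] (.cut (nat_lit 6))) (.iso x87 s390 (nat_lit 2) (nat_lit 0x1020010008004002021) (nat_lit 0x20010008004002021) [(nat_lit 0x8004002001003001),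 (nat_lit 0x8004002001005001)] (.cut (nat_lit 5))) (.cE (nat_lit 8) b161 (nat_lit 0) (.cut (nat_lit 8)) (.cut (nat_lit 7)) (.cE (nat_lit 12) (nat_lit 0x1f01601d01401b01201901001701e01501c01301a01101800b00200900000f00600d00400300a00100800700e00500c) (nat_lit 0) (.iso x367 s730 (nat_lit 3) (nat_lit 0x1020010008004002021) (nat_lit 0x20010008004002021) [(nat_lit 0x8004002001003001)] (.cut (nat_lit 7))) (.iso x368 s731 (nat_lit 3) (nat_lit 0x1020010008004002021) (nat_lit 0x20010008004002021) [(nat_lit 0x8004002001003001)] (.cut (nat_lit 8))) .nil))))) (.cD (nat_lit 8) (.kc (nat_lit 12) (nat_lit 0x5001001)) (.cD (nat_lit 12) (.kA false (nat_lit 0x6002007010002008004006003003002004001010001003)) .nil)))) (.cD (nat_lit 5) (.dfs (nat_lit 4) (nat_lit 1) (nat_lit 1) (nat_lit 0x1008004002001) (nat_lit 0x1008004002001) (nat_lit 0) (nat_lit 0) (nat_lit 0) (nat_lit 0) (nat_lit 0) (nat_lit 0) (nat_lit 0x1002001) (nat_lit 8) (nat_lit 1) (nat_lit 0) (nat_lit 1) (nat_lit 4368)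 (.cD (nat_lit 4) (.kA false (nat_lit 0xf00500101100100600200e00f00500100500201300100200600800b00400100a00f01f00100e004006007005002004001010001007)) (.cD (nat_lit 8) (.kc (nat_lit 12) (nat_lit 0x5001001)) (.cD (nat_lit 12) (.kA false (nat_lit 0xb00a00501500100a00400200300500f004005015002003)) .nil)))) (.cD (nat_lit 6) (.dfs (nat_lit 4) (nat_lit 1) (nat_lit 1) (nat_lit 0x1008004002001) (nat_lit 0x1008004002001) (nat_lit 0) (nat_lit 0) (nat_lit 0) (nat_lit 0) (nat_lit 0) (nat_lit 0) (nat_lit 0x1002001) (nat_lit 8) (nat_lit 1) (nat_lit 0) (nat_lit 1) (nat_lit 4368) (.cD (nat_lit 4) (.kA false (nat_lit 0x700200101100100a004002003003002004001010001003)) (.cD (nat_lit 8) (.kc (nat_lit 12) (nat_lit 0x5001001)) (.cD (nat_lit 12) (.kA false (nat_lit 0x600700201000200a004006003003002004001010001003)) .nil)))) .nil)))))) (.cD (nat_lit 7) (.mulh (nat_lit 1) (nat_lit 1) (.dfs (nat_lit 2) (nat_lit 1) (nat_lit 1) (nat_lit 0x1004002001) (nat_lit 0x1004003001) (nat_lit 0)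 (nat_lit 0) (nat_lit 0) (nat_lit 0) (nat_lit 0) (nat_lit 0) (nat_lit 1) (nat_lit 0) (nat_lit 4099) (nat_lit 11) (nat_lit 0x1000001000002000005000006) (nat_lit 102) (.cD (nat_lit 1) (.dfs (nat_lit 4) (nat_lit 1) (nat_lit 1) (nat_lit 0x1008004002001) (nat_lit 0x1008004002001) (nat_lit 0) (nat_lit 0) (nat_lit 0) (nat_lit 0) (nat_lit 0) (nat_lit 0) (nat_lit 0x1002001) (nat_lit 8) (nat_lit 1) (nat_lit 0) (nat_lit 1) (nat_lit 4368) (.cD (nat_lit 4) (.kA false (nat_lit 0xa004001011001002004001010001002)) (.cD (nat_lit 8) (.kc (nat_lit 12) (nat_lit 0x5001001)) (.cD (nat_lit 12) (.kA false (nat_lit 0xb00a00501500100a00400200300500f004005015002003)) .nil)))) (.cD (nat_lit 2) (.dfs (nat_lit 4) (nat_lit 1) (nat_lit 1) (nat_lit 0x1008004002001) (nat_lit 0x1008004002001) (nat_lit 0) (nat_lit 0) (nat_lit 0) (nat_lit 0) (nat_lit 0) (nat_lit 0) (nat_lit 0x1002001) (nat_lit 8) (nat_lit 1) (nat_lit 0) (nat_lit 1) (nat_lit 4368) (.cD (nat_lit 4) (.extn a66 (nat_lit 0x1000400100200a)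 (nat_lit 0x1002008004010) (nat_lit 2) (nat_lit 0) (nat_lit 0) (nat_lit 0) (nat_lit 4369) (.cE (nat_lit 0) b162 t162 (.cut (nat_lit 3)) (.cut (nat_lit 4)) (.cE (nat_lit 4) (nat_lit 0x1301e01101c01701a01501801b01601901401f01201d01000700a00500800300e00100c00f00200d00000b006009004) (nat_lit 0) (.iso x86 s151 (nat_lit 1) (nat_lit 0x1020010008004002021) (nat_lit 0x20010008004002021) [(nat_lit 0x8004002001005001)] (.cut (nat_lit 4))) (.iso x3 s150 (nat_lit 1) (nat_lit 0x1020010008004002021) (nat_lit 0x20010008004002021) [(nat_lit 0x8004002001003001), (nat_lit 0x8004002001005001)] (.cut (nat_lit 3))) (.cE (nat_lit 8) b187 (nat_lit 0) (.cut (nat_lit 2)) (.cut (nat_lit 1)) (.cE (nat_lit 12) (nat_lit 0x1b01601901401f01201d01001301e01101c01701a01501800f00200d00000b00600900400700a00500800300e00100c) (nat_lit 0) (.iso x1 s1 (nat_lit 0) (nat_lit 0x1020010008004002021) (nat_lit 0x20010008004002021) [(nat_lit 0x8004002001005001)] (.cut (nat_lit 1))) (.iso x2 s2 (nat_lit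 0) (nat_lit 0x1020010008004002021) (nat_lit 0x20010008004002021) [(nat_lit 0x8004002001005001)] (.cut (nat_lit 2))) .nil))))) (.cD (nat_lit 8) (.kc (nat_lit 12) (nat_lit 0x5001001)) (.cD (nat_lit 12) (.kA false (nat_lit 0x6002007010002008004006003003002004001010001003)) .nil)))) (.cD (nat_lit 5) (.dfs (nat_lit 4) (nat_lit 1) (nat_lit 1) (nat_lit 0x1008004002001) (nat_lit 0x1008004002001) (nat_lit 0) (nat_lit 0) (nat_lit 0) (nat_lit 0) (nat_lit 0) (nat_lit 0) (nat_lit 0x1002001) (nat_lit 8) (nat_lit 1) (nat_lit 0) (nat_lit 1) (nat_lit 4368) (.cD (nat_lit 4) (.kA false (nat_lit 0xb004001011001002004001010001002)) (.cD (nat_lit 8) (.kc (nat_lit 12) (nat_lit 0x5001001)) (.cD (nat_lit 12) (.kA false (nat_lit 0x700300101500100e00a00200700400500700101300200e004002007005002004001010001005)) .nil)))) (.cD (nat_lit 6) (.dfs (nat_lit 4) (nat_lit 1) (nat_lit 1) (nat_lit 0x1008004002001) (nat_lit 0x1008004002001) (nat_lit 0) (nat_lit 0) (nat_lit 0) (nat_lit 0) (nat_lit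 0) (nat_lit 0) (nat_lit 0x1002001) (nat_lit 8) (nat_lit 1) (nat_lit 0) (nat_lit 1) (nat_lit 4368) (.cD (nat_lit 4) (.kA false (nat_lit 0x700200101100100a004002003003002004001010001003)) (.cD (nat_lit 8) (.kc (nat_lit 12) (nat_lit 0x5001001)) (.cD (nat_lit 12) (.kA false (nat_lit 0x600700201000200a004006003003002004001010001003)) .nil)))) .nil)))))) .nil))) (.cD (nat_lit 21) (.kn (nat_lit 1) (nat_lit 0x1010008004002001) false (nat_lit 4098) (nat_lit 2) (nat_lit 0x1000015)) (.cD (nat_lit 22) (.kn (nat_lit 1) (nat_lit 0x1010008004002001) false (nat_lit 4097) (nat_lit 1) (nat_lit 0x1000016)) (.cD (nat_lit 24) (.dfs (nat_lit 11) (nat_lit 1) (nat_lit 1) (nat_lit 4097) (nat_lit 4097) (nat_lit 0) (nat_lit 1) (nat_lit 0) (nat_lit 0) (nat_lit 0) (nat_lit 0) (nat_lit 1) (nat_lit 0) (nat_lit 4097) (nat_lit 1) (nat_lit 0x1000003000007) (nat_lit 136) (.cD (nat_lit 3) (.mulh (nat_lit 1) (nat_lit 1) (.dfs (nat_lit 2) (nat_lit 1) (nat_lit 1) (nat_lit 0x1004002001) (nat_lit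 0x1004003001) (nat_lit 0) (nat_lit 0) (nat_lit 0) (nat_lit 0) (nat_lit 0) (nat_lit 0) (nat_lit 1) (nat_lit 0) (nat_lit 4099) (nat_lit 11) (nat_lit 0x1000001000002000005000006) (nat_lit 102) (.cD (nat_lit 1) (.dfs (nat_lit 4) (nat_lit 1) (nat_lit 1) (nat_lit 0x1008004002001) (nat_lit 0x1008004002001) (nat_lit 0) (nat_lit 0) (nat_lit 0) (nat_lit 0) (nat_lit 0) (nat_lit 0) (nat_lit 0x1002001) (nat_lit 8) (nat_lit 1) (nat_lit 0) (nat_lit 1) (nat_lit 4368) (.cD (nat_lit 4) (.kA false (nat_lit 0x400600501400100c00800e00d00300e00a00f01a001008004006005005002004001010001005)) (.cD (nat_lit 8) (.kc (nat_lit 12) (nat_lit 0x5001001)) (.cD (nat_lit 12) (.kA false (nat_lit 0x400600101400100c00800200d00300e00a00501a001008004002005005002004001010001005)) .nil)))) (.cD (nat_lit 2) (.dfs (nat_lit 4) (nat_lit 1) (nat_lit 1) (nat_lit 0x1008004002001) (nat_lit 0x1008004002001) (nat_lit 0) (nat_lit 0) (nat_lit 0) (nat_lit 0) (nat_lit 0) (nat_lit 0) (nat_lit 0x1002001) (nat_lit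 8) (nat_lit 1) (nat_lit 0) (nat_lit 1) (nat_lit 4368) (.cD (nat_lit 4) (.extn a79 (nat_lit 0x1000400100200a) (nat_lit 0x1002008004010) (nat_lit 2) (nat_lit 0) (nat_lit 0) (nat_lit 0) (nat_lit 4369) (.cE (nat_lit 0) b188 t188 (.cut (nat_lit 17)) (.cut (nat_lit 18)) (.cE (nat_lit 4) b439 (nat_lit 0) (.cut (nat_lit 19)) (.iso x522 s1000 (nat_lit 9) (nat_lit 0x1020010018002004027) (nat_lit 0x20010018002004027) [(nat_lit 0x8004002001005001), (nat_lit 0x8004002001003001)] (.cut (nat_lit 19))) (.cE (nat_lit 8) (nat_lit 0x1701e01501c01301a01101801f01601d01401b01201901000f00600d00400b00200900000700e00500c00300a001008) (nat_lit 0) (.iso x513 s999 (nat_lit 10) (nat_lit 0x1020010008004002021) (nat_lit 0x20010008004002021) [(nat_lit 0x8004002001003001), (nat_lit 0x8004002001005001)] (.cut (nat_lit 18))) (.iso x440 s976 (nat_lit 10) (nat_lit 0x1020010008004002021) (nat_lit 0x20010008004002021) [(nat_lit 0x8004002001003001), (nat_lit 0x8004002001005001)] (.cut (nat_lit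 17))) (.cE (nat_lit 12) (nat_lit 0x1301a01101801701e01501c01b01201901001f01601d01400b00200900000f00600d00400300a00100800700e00500c) (nat_lit 0) (.iso x522 s1000 (nat_lit 9) (nat_lit 0x1020010018002004007) (nat_lit 0x20010018002004007) [(nat_lit 0x8004002001005001), (nat_lit 0x8004002001003001)] (.cut (nat_lit 19))) (.iso x522 s1000 (nat_lit 9) (nat_lit 0x1020010008004002021) (nat_lit 0x20010008004002021) [(nat_lit 0x8004002001003001), (nat_lit 0x8004002001005001)] (.cut (nat_lit 19))) .nil))))) (.cD (nat_lit 8) (.kc (nat_lit 12) (nat_lit 0x5001001)) (.cD (nat_lit 12) (.extn a154 (nat_lit 0x1000400100200a) (nat_lit 0x1002008004010) (nat_lit 2) (nat_lit 0) (nat_lit 0) (nat_lit 0) (nat_lit 257) (.cE (nat_lit 0) b440 t440 (.cut (nat_lit 16)) (.iso x431 s864 (nat_lit 8) (nat_lit 0x1020010008004002029) (nat_lit 0x20010008004002029) [(nat_lit 0x8004002001003001), (nat_lit 0x8004002001005001)] (.cut (nat_lit 16))) (.cE (nat_lit 8) (nat_lit 0x1f01601d01401301a01101801701e01501c01b01201901000700e00500c00b00200900000f00600d00400300a001008)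 (nat_lit 0) (.iso x431 s864 (nat_lit 8) (nat_lit 0x1020010008004002009) (nat_lit 0x20010008004002009) [(nat_lit 0x8004002001003001), (nat_lit 0x8004002001005001)] (.cut (nat_lit 16))) (.iso x431 s864 (nat_lit 8) (nat_lit 0x1020010008004002021) (nat_lit 0x20010008004002021) [(nat_lit 0x8004002001003001), (nat_lit 0x8004002001005001)] (.cut (nat_lit 16))) .nil))) .nil)))) (.cD (nat_lit 5) (.dfs (nat_lit 4) (nat_lit 1) (nat_lit 1) (nat_lit 0x1008004002001) (nat_lit 0x1008004002001) (nat_lit 0) (nat_lit 0) (nat_lit 0) (nat_lit 0) (nat_lit 0) (nat_lit 0) (nat_lit 0x1002001) (nat_lit 8) (nat_lit 1) (nat_lit 0) (nat_lit 1) (nat_lit 4368) (.cD (nat_lit 4) (.kA false (nat_lit 0xf00500101400100600200e00d00500100500201300100200600800b00400100a00f01a00100e004006005005002004001010001007)) (.cD (nat_lit 8) (.kc (nat_lit 12) (nat_lit 0x5001001)) (.cD (nat_lit 12) (.extn (nat_lit 0x1701901a01c01b01501601001f01101201401301d01e01800f00100200400300d00e00800700900a00c00b005006000)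 (nat_lit 0x1000400100200a) (nat_lit 0x1002008004010) (nat_lit 2) (nat_lit 0) (nat_lit 0) (nat_lit 1) (nat_lit 32896) (.cE (nat_lit 7) (nat_lit 0x1801601d01b01401a01101701001e01501301c01201901f00000e00500300c00200900f00800600d00b00400a001007) (nat_lit 0) (.kb (nat_lit 40) (nat_lit 0x101f00000500400101f000007005004) (nat_lit 0x1020010008004002001)) (.kb (nat_lit 40) (nat_lit 0x101f00000500400101f000007005004) (nat_lit 0x1020010008004002001)) (.cE (nat_lit 15) (nat_lit 0x1001e01501301c01201901f01801601d01b01401a01101700800600d00b00400a00100700000e00500300c00200900f) (nat_lit 0) (.kb (nat_lit 40) (nat_lit 0x100f00000500400100f000007005004) (nat_lit 0x1020010008004002001)) (.kb (nat_lit 40) (nat_lit 0x100f00000500400100f000007005004) (nat_lit 0x1020010008004002001)) .nil))) .nil)))) (.cD (nat_lit 6) (.dfs (nat_lit 4) (nat_lit 1) (nat_lit 1) (nat_lit 0x1008004002001) (nat_lit 0x1008004002001) (nat_lit 0) (nat_lit 0) (nat_lit 0) (nat_lit 0) (nat_lit 0) (nat_lit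 0) (nat_lit 0x1002001) (nat_lit 8) (nat_lit 1) (nat_lit 0) (nat_lit 1) (nat_lit 4368) (.cD (nat_lit 4) (.extn a159 (nat_lit 0x1000400100200a) (nat_lit 0x1002008004010) (nat_lit 2) (nat_lit 0) (nat_lit 0) (nat_lit 0) (nat_lit 4369) (.cE (nat_lit 0) b449 t449 (.cut (nat_lit 13)) (.cut (nat_lit 14)) (.cE (nat_lit 4) b464 t464 (.cut (nat_lit 15)) (.iso x414 s839 (nat_lit 6) (nat_lit 0x1020010018002004021) (nat_lit 0x20010018002004021) [(nat_lit 0x8004002001005001), (nat_lit 0x8004002001003001)] (.cut (nat_lit 15))) (.cE (nat_lit 8) (nat_lit 0x1701a01101c01301e01501801f01201901401b01601d01000f00200900400b00600d00000700a00100c00300e005008) (nat_lit 0) (.iso x400 s817 (nat_lit 7) (nat_lit 0x1020010008004002021) (nat_lit 0x20010008004002021) [(nat_lit 0x8004002001003001), (nat_lit 0x8004002001005001)] (.cut (nat_lit 14))) (.iso x389 s782 (nat_lit 7) (nat_lit 0x1020010008004002021) (nat_lit 0x20010008004002021) [(nat_lit 0x8004002001003001), (nat_lit 0x8004002001005001)]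 (.cut (nat_lit 13))) (.cE (nat_lit 12) (nat_lit 0x1301e01501801701a01101c01b01601d01001f01201901400b00600d00000f00200900400300e00500800700a00100c) (nat_lit 0) (.iso x414 s839 (nat_lit 6) (nat_lit 0x1020010018002004001) (nat_lit 0x20010018002004001) [(nat_lit 0x8004002001005001), (nat_lit 0x8004002001003001)] (.cut (nat_lit 15))) (.iso x414 s839 (nat_lit 6) (nat_lit 0x1020010008004002021) (nat_lit 0x20010008004002021) [(nat_lit 0x8004002001003001), (nat_lit 0x8004002001005001)] (.cut (nat_lit 15))) .nil))))) (.cD (nat_lit 8) (.kc (nat_lit 12) (nat_lit 0x5001001)) (.cD (nat_lit 12) (.kA false (nat_lit 0x600100501400100c00200600500400400500201300100400600800b00400700200301200100a004006005003002004001010001007)) .nil)))) .nil)))))) (.cD (nat_lit 7) (.mulh (nat_lit 1) (nat_lit 1) (.dfs (nat_lit 2) (nat_lit 1) (nat_lit 1) (nat_lit 0x1004002001) (nat_lit 0x1004003001) (nat_lit 0) (nat_lit 0) (nat_lit 0) (nat_lit 0) (nat_lit 0) (nat_lit 0) (nat_lit 1) (nat_lit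 0) (nat_lit 4099) (nat_lit 11) (nat_lit 0x1000001000002000005000006) (nat_lit 102) (.cD (nat_lit 1) (.kF (nat_lit 14) (nat_lit 0x300800200700a002002)) (.cD (nat_lit 2) (.dfs (nat_lit 4) (nat_lit 1) (nat_lit 1) (nat_lit 0x1008004002001) (nat_lit 0x1008004002001) (nat_lit 0) (nat_lit 0) (nat_lit 0) (nat_lit 0) (nat_lit 0) (nat_lit 0) (nat_lit 0x1002001) (nat_lit 8) (nat_lit 1) (nat_lit 0) (nat_lit 1) (nat_lit 4368) (.cD (nat_lit 4) (.extn a167 (nat_lit 0x1000400100200a) (nat_lit 0x1002008004010) (nat_lit 2) (nat_lit 0) (nat_lit 0) (nat_lit 0) (nat_lit 4369) (.cE (nat_lit 0) b473 (nat_lit 0) (.cut (nat_lit 11)) (.cut (nat_lit 12)) (.cE (nat_lit 4) b474 t474 (.cut (nat_lit 10)) (.cut (nat_lit 9)) (.cE (nat_lit 8) (nat_lit 0x1301e01101c01701a01501801b01601901401f01201d01000b00600900400f00200d00000300e00100c00700a005008) (nat_lit 0) (.iso x388 s766 (nat_lit 5) (nat_lit 0x1020010008004002021) (nat_lit 0x20010008004002021) [(nat_lit 0x8004002001003001), (nat_lit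 0x8004002001005001)] (.cut (nat_lit 12))) (.iso x387 s765 (nat_lit 5) (nat_lit 0x1020010008004002021) (nat_lit 0x20010008004002021) [(nat_lit 0x8004002001003001), (nat_lit 0x8004002001005001)] (.cut (nat_lit 11))) (.cE (nat_lit 12) (nat_lit 0x1701a01501801301e01101c01f01201d01001b01601901400f00200d00000b00600900400700a00500800300e00100c) (nat_lit 0) (.iso x369 s760 (nat_lit 4) (nat_lit 0x1020010008004002021) (nat_lit 0x20010008004002021) [(nat_lit 0x8004002001003001), (nat_lit 0x8004002001005001)] (.cut (nat_lit 9))) (.iso x386 s764 (nat_lit 4) (nat_lit 0x1020010008004002021) (nat_lit 0x20010008004002021) [(nat_lit 0x8004002001003001), (nat_lit 0x8004002001005001)] (.cut (nat_lit 10))) .nil))))) (.cD (nat_lit 8) (.kc (nat_lit 12) (nat_lit 0x5001001)) (.cD (nat_lit 12) (.kA true (nat_lit 0xe00500101400100c00200600500600400100a01f00100400600800b00600b00a00f01a00100a00400600500500a004005010001007)) .nil)))) (.cD (nat_lit 5) (.kF (nat_lit 8) (nat_lit 0x300a00100800d00300500d00100400500500200a002005))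 (.cD (nat_lit 6) (.dfs (nat_lit 4) (nat_lit 1) (nat_lit 1) (nat_lit 0x1008004002001) (nat_lit 0x1008004002001) (nat_lit 0) (nat_lit 0) (nat_lit 0) (nat_lit 0) (nat_lit 0) (nat_lit 0) (nat_lit 0x1002001) (nat_lit 8) (nat_lit 1) (nat_lit 0) (nat_lit 1) (nat_lit 4368) (.cD (nat_lit 4) (.extn (nat_lit 0x1b01201d01401f01601901001301a01501c01701e01101800300a00500c00700e00100800b00200d00400f006009000) (nat_lit 0x1000400100200a) (nat_lit 0x1002008004010) (nat_lit 2) (nat_lit 0) (nat_lit 0) (nat_lit 0) (nat_lit 4369) (.cE (nat_lit 0) (nat_lit 0x1b01201d01401f01601901001301a01501c01701e01101800300a00500c00700e00100800b00200d00400f006009000) (nat_lit 0) (.iso x369 s760 (nat_lit 4) (nat_lit 0x1020010018002004025) (nat_lit 0x20010018002004023) [(nat_lit 0x8004002001005001), (nat_lit 0x8004002001003001)] (.cut (nat_lit 9))) (.iso x386 s764 (nat_lit 4) (nat_lit 0x1020010018002004025) (nat_lit 0x20010018002004023) [(nat_lit 0x8004002001005001), (nat_lit 0x8004002001003001)]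 (.cut (nat_lit 10))) (.cE (nat_lit 4) (nat_lit 0x1f01601901001b01201d01401701e01101801301a01501c00700e00100800300a00500c00f00600900000b00200d004) (nat_lit 0) (.iso x387 s765 (nat_lit 5) (nat_lit 0x1020010018002004005) (nat_lit 0x20010018002004003) [(nat_lit 0x8004002001005001), (nat_lit 0x8004002001003001)] (.cut (nat_lit 11))) (.iso x388 s766 (nat_lit 5) (nat_lit 0x1020010018002004005) (nat_lit 0x20010018002004003) [(nat_lit 0x8004002001005001), (nat_lit 0x8004002001003001)] (.cut (nat_lit 12))) (.cE (nat_lit 8) (nat_lit 0x1301a01501c01701e01101801b01201d01401f01601901000b00200d00400f00600900000300a00500c00700e001008) (nat_lit 0) (.iso x386 s764 (nat_lit 4) (nat_lit 0x1020010018002004005) (nat_lit 0x20010018002004003) [(nat_lit 0x8004002001005001), (nat_lit 0x8004002001003001)] (.cut (nat_lit 10))) (.iso x369 s760 (nat_lit 4) (nat_lit 0x1020010018002004005) (nat_lit 0x20010018002004003) [(nat_lit 0x8004002001005001), (nat_lit 0x8004002001003001)] (.cut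 (nat_lit 9))) (.cE (nat_lit 12) (nat_lit 0x1701e01101801301a01501c01f01601901001b01201d01400f00600900000b00200d00400700e00100800300a00500c) (nat_lit 0) (.iso x388 s766 (nat_lit 5) (nat_lit 0x1020010018002004025) (nat_lit 0x20010018002004023) [(nat_lit 0x8004002001005001), (nat_lit 0x8004002001003001)] (.cut (nat_lit 12))) (.iso x387 s765 (nat_lit 5) (nat_lit 0x1020010018002004025) (nat_lit 0x20010018002004023) [(nat_lit 0x8004002001005001), (nat_lit 0x8004002001003001)] (.cut (nat_lit 11))) .nil))))) (.cD (nat_lit 8) (.kc (nat_lit 12) (nat_lit 0x5001001)) (.cD (nat_lit 12) (.kA false (nat_lit 0x600100501400100c00200600500400400500201300100400600800b00400700200301200100a004006005003002004001010001007)) .nil)))) .nil)))))) .nil))) (.cD (nat_lit 28) (.dfs (nat_lit 11) (nat_lit 1) (nat_lit 1) (nat_lit 4097) (nat_lit 4097) (nat_lit 0) (nat_lit 1) (nat_lit 0) (nat_lit 0) (nat_lit 0) (nat_lit 0) (nat_lit 1) (nat_lit 0) (nat_lit 4097) (nat_lit 1) (nat_lit 0x1000003000007)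 (nat_lit 136) (.cD (nat_lit 3) (.mulh (nat_lit 1) (nat_lit 1) (.dfs (nat_lit 2) (nat_lit 1) (nat_lit 1) (nat_lit 0x1004002001) (nat_lit 0x1004003001) (nat_lit 0) (nat_lit 0) (nat_lit 0) (nat_lit 0) (nat_lit 0) (nat_lit 0) (nat_lit 1) (nat_lit 0) (nat_lit 4099) (nat_lit 11) (nat_lit 0x1000001000002000005000006) (nat_lit 102) (.cD (nat_lit 1) (.dfs (nat_lit 4) (nat_lit 1) (nat_lit 1) (nat_lit 0x1008004002001) (nat_lit 0x1008004002001) (nat_lit 0) (nat_lit 0) (nat_lit 0) (nat_lit 0) (nat_lit 0) (nat_lit 0) (nat_lit 0x1002001) (nat_lit 8) (nat_lit 1) (nat_lit 0) (nat_lit 1) (nat_lit 4368) (.cD (nat_lit 4) (.kA false (nat_lit 0xe00a00f015001008004006003005002004001010001003)) (.cD (nat_lit 8) (.kc (nat_lit 12) (nat_lit 0x5001001)) (.cD (nat_lit 12) (.extn (nat_lit 0x1301901a01801f01501601401b01101201001701d01e01c00f00500600400300900a00800700d00e00c00b001002000) (nat_lit 0x1000400100200a) (nat_lit 4112) (nat_lit 1) (nat_lit 4112) (nat_lit 0x10008004002001) (nat_lit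 0) (nat_lit 0) .nil) .nil)))) (.cD (nat_lit 2) (.dfs (nat_lit 4) (nat_lit 1) (nat_lit 1) (nat_lit 0x1008004002001) (nat_lit 0x1008004002001) (nat_lit 0) (nat_lit 0) (nat_lit 0) (nat_lit 0) (nat_lit 0) (nat_lit 0) (nat_lit 0x1002001) (nat_lit 8) (nat_lit 1) (nat_lit 0) (nat_lit 1) (nat_lit 4368) (.cD (nat_lit 4) (.extn (nat_lit 0x1b01201901001f01601d01401301a01101801701e01501c00700e00500c00300a00100800f00600d00400b002009000) (nat_lit 0x1000400100200a) (nat_lit 0x1002008004010) (nat_lit 2) (nat_lit 0) (nat_lit 0) (nat_lit 0) (nat_lit 4369) (.cE (nat_lit 0) (nat_lit 0x1b01201901001f01601d01401301a01101801701e01501c00700e00500c00300a00100800f00600d00400b002009000) (nat_lit 0) (.iso x87 s390 (nat_lit 2) (nat_lit 0x1020010018002004007) (nat_lit 0x20010018002004007) [(nat_lit 0x8004002001005001), (nat_lit 0x8004002001003001)] (.cut (nat_lit 5))) (.iso x207 s729 (nat_lit 2) (nat_lit 0x1020010018002004007) (nat_lit 0x20010018002004007) [(nat_lit 0x8004002001005001),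 (nat_lit 0x8004002001003001)] (.cut (nat_lit 6))) (.cE (nat_lit 4) (nat_lit 0x1f01601d01401b01201901001701e01501c01301a01101800300a00100800700e00500c00b00200900000f00600d004) (nat_lit 0) (.iso x367 s730 (nat_lit 3) (nat_lit 0x1020010018002004027) (nat_lit 0x20010018002004027) [(nat_lit 0x8004002001005001)] (.cut (nat_lit 7))) (.iso x368 s731 (nat_lit 3) (nat_lit 0x1020010018002004027) (nat_lit 0x20010018002004027) [(nat_lit 0x8004002001005001)] (.cut (nat_lit 8))) (.cE (nat_lit 8) (nat_lit 0x1301a01101801701e01501c01b01201901001f01601d01400f00600d00400b00200900000700e00500c00300a001008) (nat_lit 0) (.iso x368 s731 (nat_lit 3) (nat_lit 0x1020010018002004007) (nat_lit 0x20010018002004007) [(nat_lit 0x8004002001005001)] (.cut (nat_lit 8))) (.iso x367 s730 (nat_lit 3) (nat_lit 0x1020010018002004007) (nat_lit 0x20010018002004007) [(nat_lit 0x8004002001005001)] (.cut (nat_lit 7))) (.cE (nat_lit 12) (nat_lit 0x1701e01501c01301a01101801f01601d01401b01201901000b00200900000f00600d00400300a00100800700e00500c)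 (nat_lit 0) (.iso x207 s729 (nat_lit 2) (nat_lit 0x1020010018002004027) (nat_lit 0x20010018002004027) [(nat_lit 0x8004002001005001), (nat_lit 0x8004002001003001)] (.cut (nat_lit 6))) (.iso x87 s390 (nat_lit 2) (nat_lit 0x1020010018002004027) (nat_lit 0x20010018002004027) [(nat_lit 0x8004002001005001), (nat_lit 0x8004002001003001)] (.cut (nat_lit 5))) .nil))))) (.cD (nat_lit 8) (.kc (nat_lit 12) (nat_lit 0x5001001)) (.cD (nat_lit 12) (.kA false (nat_lit 0x6002003011001008004006003003002004005011002003)) .nil)))) (.cD (nat_lit 5) (.dfs (nat_lit 4) (nat_lit 1) (nat_lit 1) (nat_lit 0x1008004002001) (nat_lit 0x1008004002001) (nat_lit 0) (nat_lit 0) (nat_lit 0) (nat_lit 0) (nat_lit 0) (nat_lit 0) (nat_lit 0x1002001) (nat_lit 8) (nat_lit 1) (nat_lit 0) (nat_lit 1) (nat_lit 4368) (.cD (nat_lit 4) (.kA false (nat_lit 0x100a00f01500100e004006003005002004001010001003)) (.cD (nat_lit 8) (.kc (nat_lit 12) (nat_lit 0x5001001)) (.cD (nat_lit 12) (.kA false (nat_lit 0x500700101000200e004002003005002004001010001003))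 .nil)))) (.cD (nat_lit 6) (.dfs (nat_lit 4) (nat_lit 1) (nat_lit 1) (nat_lit 0x1008004002001) (nat_lit 0x1008004002001) (nat_lit 0) (nat_lit 0) (nat_lit 0) (nat_lit 0) (nat_lit 0) (nat_lit 0) (nat_lit 0x1002001) (nat_lit 8) (nat_lit 1) (nat_lit 0) (nat_lit 1) (nat_lit 4368) (.cD (nat_lit 4) (.kA true (nat_lit 0xb00a00501500100a00400200300500a004005010001003)) (.cD (nat_lit 8) (.kc (nat_lit 12) (nat_lit 0x5001001)) (.cD (nat_lit 12) (.kA false (nat_lit 0x500200301100100e004006003003007004005011002003)) .nil)))) .nil)))))) (.cD (nat_lit 7) (.mulh (nat_lit 1) (nat_lit 1) (.dfs (nat_lit 2) (nat_lit 1) (nat_lit 1) (nat_lit 0x1004002001) (nat_lit 0x1004003001) (nat_lit 0) (nat_lit 0) (nat_lit 0) (nat_lit 0) (nat_lit 0) (nat_lit 0) (nat_lit 1) (nat_lit 0) (nat_lit 4099) (nat_lit 11) (nat_lit 0x1000001000002000005000006) (nat_lit 102) (.cD (nat_lit 1) (.dfs (nat_lit 4) (nat_lit 1) (nat_lit 1) (nat_lit 0x1008004002001) (nat_lit 0x1008004002001) (nat_lit 0) (nat_lit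 0) (nat_lit 0) (nat_lit 0) (nat_lit 0) (nat_lit 0) (nat_lit 0x1002001) (nat_lit 8) (nat_lit 1) (nat_lit 0) (nat_lit 1) (nat_lit 4368) (.cD (nat_lit 4) (.kA false (nat_lit 0xa004001015001002004001010001002)) (.cD (nat_lit 8) (.kc (nat_lit 12) (nat_lit 0x5001001)) (.cD (nat_lit 12) (.kA false (nat_lit 0x400e00501000200c00a00200f00300b00a00501f00100a00400200700500f004005011002005)) .nil)))) (.cD (nat_lit 2) (.dfs (nat_lit 4) (nat_lit 1) (nat_lit 1) (nat_lit 0x1008004002001) (nat_lit 0x1008004002001) (nat_lit 0) (nat_lit 0) (nat_lit 0) (nat_lit 0) (nat_lit 0) (nat_lit 0) (nat_lit 0x1002001) (nat_lit 8) (nat_lit 1) (nat_lit 0) (nat_lit 1) (nat_lit 4368) (.cD (nat_lit 4) (.kA true (nat_lit 0xb00a00501500100a00400200300500a004005010001003)) (.cD (nat_lit 8) (.kc (nat_lit 12) (nat_lit 0x5001001)) (.cD (nat_lit 12) (.kA false (nat_lit 0x6002003011001008004006003003002004005011002003)) .nil)))) (.cD (nat_lit 5) (.dfs (nat_lit 4) (nat_lit 1) (nat_lit 1) (nat_lit 0x1008004002001)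 (nat_lit 0x1008004002001) (nat_lit 0) (nat_lit 0) (nat_lit 0) (nat_lit 0) (nat_lit 0) (nat_lit 0) (nat_lit 0x1002001) (nat_lit 8) (nat_lit 1) (nat_lit 0) (nat_lit 1) (nat_lit 4368) (.cD (nat_lit 4) (.kA false (nat_lit 0xb004001015001002004001010001002)) (.cD (nat_lit 8) (.kc (nat_lit 12) (nat_lit 0x5001001)) (.cD (nat_lit 12) (.kA false (nat_lit 0x500700101000200e004002003005002004001010001003)) .nil)))) (.cD (nat_lit 6) (.dfs (nat_lit 4) (nat_lit 1) (nat_lit 1) (nat_lit 0x1008004002001) (nat_lit 0x1008004002001) (nat_lit 0) (nat_lit 0) (nat_lit 0) (nat_lit 0) (nat_lit 0) (nat_lit 0) (nat_lit 0x1002001) (nat_lit 8) (nat_lit 1) (nat_lit 0) (nat_lit 1) (nat_lit 4368) (.cD (nat_lit 4) (.extn (nat_lit 0x1f01601901001b01201d01401701e01101801301a01501c00300a00500c00700e00100800b00200d00400f006009000) (nat_lit 0x1000400100200a) (nat_lit 0x1002008004010) (nat_lit 2) (nat_lit 0) (nat_lit 0) (nat_lit 0) (nat_lit 4369) (.cE (nat_lit 0) (nat_lit 0x1f01601901001b01201d01401701e01101801301a01501c00300a00500c00700e00100800b00200d00400f006009000)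 (nat_lit 0) (.iso x1 s1 (nat_lit 0) (nat_lit 0x1020010018002004025) (nat_lit 0x20010018002004023) [(nat_lit 0x8004002001003001)] (.cut (nat_lit 1))) (.iso x2 s2 (nat_lit 0) (nat_lit 0x1020010018002004025) (nat_lit 0x20010018002004023) [(nat_lit 0x8004002001003001)] (.cut (nat_lit 2))) (.cE (nat_lit 4) (nat_lit 0x1b01201d01401f01601901001301a01501c01701e01101800700e00100800300a00500c00f00600900000b00200d004) (nat_lit 0) (.iso x3 s150 (nat_lit 1) (nat_lit 0x1020010018002004005) (nat_lit 0x20010018002004003) [(nat_lit 0x8004002001005001), (nat_lit 0x8004002001003001)] (.cut (nat_lit 3))) (.iso x86 s151 (nat_lit 1) (nat_lit 0x1020010018002004005) (nat_lit 0x20010018002004003) [(nat_lit 0x8004002001003001)] (.cut (nat_lit 4))) (.cE (nat_lit 8) (nat_lit 0x1701e01101801301a01501c01f01601901001b01201d01400b00200d00400f00600900000300a00500c00700e001008) (nat_lit 0) (.iso x86 s151 (nat_lit 1) (nat_lit 0x1020010018002004025) (nat_lit 0x20010018002004023) [(nat_lit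 0x8004002001003001)] (.cut (nat_lit 4))) (.iso x3 s150 (nat_lit 1) (nat_lit 0x1020010018002004025) (nat_lit 0x20010018002004023) [(nat_lit 0x8004002001005001), (nat_lit 0x8004002001003001)] (.cut (nat_lit 3))) (.cE (nat_lit 12) (nat_lit 0x1301a01501c01701e01101801b01201d01401f01601901000f00600900000b00200d00400700e00100800300a00500c) (nat_lit 0) (.iso x2 s2 (nat_lit 0) (nat_lit 0x1020010018002004005) (nat_lit 0x20010018002004003) [(nat_lit 0x8004002001003001)] (.cut (nat_lit 2))) (.iso x1 s1 (nat_lit 0) (nat_lit 0x1020010018002004005) (nat_lit 0x20010018002004003) [(nat_lit 0x8004002001003001)] (.cut (nat_lit 1))) .nil))))) (.cD (nat_lit 8) (.kc (nat_lit 12) (nat_lit 0x5001001)) (.cD (nat_lit 12) (.kA false (nat_lit 0x500200301100100e004006003003007004005011002003)) .nil)))) .nil)))))) .nil))) .nil))))))))))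
theorem c1001 : (chk [(x0, s0), (x1, s1), (x2, s2), (x3, s150), (x86, s151), (x87, s390), (x207, s729), (x367, s730), (x368, s731), (x369, s760), (x386, s764), (x387, s765), (x388, s766), (x389, s782), (x400, s817), (x414, s839), (x431, s864), (x440, s976), (x513, s999), (x522, s1000)] [g187, g162, g6, g161, g474, g473, g464, g449, g440, g439, g188] p1001).n x0 s1001 = true := by decide +kernel
noncomputable def p1002 : Pf := (.cut (nat_lit 0))
theorem c1002 : (chk [(x0, s1001)] [] p1002).n x0 s1002 = true := by decide +kernel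

end Cfsg.Lib.D8.T0O
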