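import Cfsg.Agent.Lib.D8.CkZ
import Cfsg.Agent.Lib.D8.T.T0OC0
import Cfsg.Agent.Lib.D8.T.T0OC1
import Cfsg.Agent.Lib.D8.T.T0OC2
import Cfsg.Agent.Lib.D8.T.T0OC3
import Cfsg.Agent.Lib.D8.T.T0OC4

/-! The chain (generated, helper29). -/

set_option maxRecDepth 100000
set_option Elab.async false

namespace Cfsg.Lib.D8.T0O

universe u

theorem k0 : TabOK.{u} g0 := .triv
theorem k1 : TabOK.{u} g1 := k0.ext ha0 hb1
theorem k2 : TabOK.{u} g2 := k1.ext ha1 hb2
theorem k3 : TabOK.{u} g3 := k2.ext ha2 hb3
theorem k4 : TabOK.{u} g4 := k3.ext ha3 hb4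
theorem k5 : TabOK.{u} g5 := (k4.ext ha4 hb5).tb ht5
theorem k6 : TabOK.{u} g6 := (k5.ext ha5 hb6).tb ht6
theorem k7 : TabOK.{u} g7 := (k6.ext ha6 hb7).tb ht7
theorem k8 : TabOK.{u} g8 := k7.ext ha7 hb8
theorem k9 : TabOK.{u} g9 := k8.ext ha8 hb9
theorem k13 : TabOK.{u} g13 := k8.ext ha9 hb13
theorem k17 : TabOK.{u} g17 := k8.ext ha10 hb17
theorem k21 : TabOK.{u} g21 := k8.ext ha11 hb21
theorem k22 : TabOK.{u} g22 := k7.ext ha12 hb22
theorem k30 : TabOK.{u} g30 := k7.ext ha14 hb30
theorem k31 : TabOK.{u} g31 := k30.ext ha15 hb31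
theorem k47 : TabOK.{u} g47 := k6.ext ha6 hb47
theorem k53 : TabOK.{u} g53 := k6.ext ha19 hb53
theorem k55 : TabOK.{u} g55 := (k6.ext ha19 hb55).tb ht55
theorem k56 : TabOK.{u} g56 := k55.ext ha20 hb56
theorem k68 : TabOK.{u} g68 := (k6.ext ha22 hb68).tb ht68
theorem k69 : TabOK.{u} g69 := k2.ext ha23 hb69
theorem k70 : TabOK.{u} g70 := k69.ext ha24 hb70
theorem k71 : TabOK.{u} g71 := (k70.ext ha25 hb71).tb ht71
theorem k72 : TabOK.{u} g72 := k71.ext ha26 hb72
theorem k73 : TabOK.{u} g73 := k72.ext ha27 hb73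
theorem k74 : TabOK.{u} g74 := k73.ext ha28 hb74
theorem k75 : TabOK.{u} g75 := k74.ext ha29 hb75
theorem k76 : TabOK.{u} g76 := k68.ext ha30 hb76
theorem k78 : TabOK.{u} g78 := k68.ext ha31 hb78
theorem k79 : TabOK.{u} g79 := k68.ext ha31 hb79
theorem k80 : TabOK.{u} g80 := k79.ext ha32 hb80
theorem k81 : TabOK.{u} g81 := k79.ext ha32 hb81
theorem k86 : TabOK.{u} g86 := k79.ext ha32 hb86
theorem k87 : TabOK.{u} g87 := k79.ext ha32 hb87
theorem k91 : TabOK.{u} g91 := k68.ext ha34 hb91
theorem k93 : TabOK.{u} g93 := k91.ext ha35 hb93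
theorem k96 : TabOK.{u} g96 := k93.ext ha36 hb96
theorem k97 : TabOK.{u} g97 := k93.ext ha36 hb97
theorem k98 : TabOK.{u} g98 := k97.ext ha37 hb98
theorem k99 : TabOK.{u} g99 := k68.ext ha38 hb99
theorem k100 : TabOK.{u} g100 := k99.ext ha39 hb100
theorem k101 : TabOK.{u} g101 := k99.ext ha39 hb101
theorem k104 : TabOK.{u} g104 := k101.ext ha41 hb104
theorem k105 : TabOK.{u} g105 := k101.ext ha41 hb105
theorem k108 : TabOK.{u} g108 := k68.ext ha43 hb108
theorem k109 : TabOK.{u} g109 := k108.ext ha44 hb109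
theorem k114 : TabOK.{u} g114 := k108.ext ha44 hb114
theorem k115 : TabOK.{u} g115 := k81.ext ha47 hb115
theorem k116 : TabOK.{u} g116 := k115.ext ha48 hb116
theorem k123 : TabOK.{u} g123 := k79.ext ha49 hb123
theorem k127 : TabOK.{u} g127 := k123.ext ha50 hb127
theorem k128 : TabOK.{u} g128 := k127.ext ha51 hb128
theorem k130 : TabOK.{u} g130 := k79.ext ha49 hb130
theorem k131 : TabOK.{u} g131 := k79.ext ha49 hb131
theorem k132 : TabOK.{u} g132 := k79.ext ha49 hb132
theorem k135 : TabOK.{u} g135 := k68.ext ha52 hb135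
theorem k136 : TabOK.{u} g136 := k135.ext ha53 hb136
theorem k142 : TabOK.{u} g142 := k135.ext ha53 hb142
theorem k143 : TabOK.{u} g143 := k135.ext ha53 hb143
theorem k144 : TabOK.{u} g144 := k68.ext ha55 hb144
theorem k145 : TabOK.{u} g145 := k144.ext ha56 hb145
theorem k150 : TabOK.{u} g150 := k144.ext ha56 hb150
theorem k151 : TabOK.{u} g151 := k150.ext ha59 hb151
theorem k152 : TabOK.{u} g152 := k151.ext ha60 hb152
theorem k153 : TabOK.{u} g153 := k68.ext ha61 hb153
theorem k155 : TabOK.{u} g155 := k153.ext ha62 hb155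
theorem k158 : TabOK.{u} g158 := k155.ext ha64 hb158
theorem k161 : TabOK.{u} g161 := k5.ext ha5 hb161
theorem k162 : TabOK.{u} g162 := (k5.ext ha66 hb162).tb ht162
theorem k163 : TabOK.{u} g163 := (k162.ext ha67 hb163).tb ht163
theorem k165 : TabOK.{u} g165 := k163.ext ha68 hb165
theorem k166 : TabOK.{u} g166 := k165.ext ha69 hb166
theorem k168 : TabOK.{u} g168 := k166.ext ha70 hb168
theorem k173 : TabOK.{u} g173 := k163.ext ha72 hb173
theorem k175 : TabOK.{u} g175 := (k162.ext ha73 hb175).tb ht175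
theorem k177 : TabOK.{u} g177 := k175.ext ha74 hb177
theorem k178 : TabOK.{u} g178 := k177.ext ha75 hb178
theorem k179 : TabOK.{u} g179 := k178.ext ha76 hb179
theorem k185 : TabOK.{u} g185 := k175.ext ha78 hb185
theorem k187 : TabOK.{u} g187 := k5.ext ha66 hb187
theorem k188 : TabOK.{u} g188 := (k5.ext ha79 hb188).tb ht188
theorem k189 : TabOK.{u} g189 := (k188.ext ha80 hb189).tb ht189
theorem k190 : TabOK.{u} g190 := k189.ext ha81 hb190
theorem k191 : TabOK.{u} g191 := k190.ext ha82 hb191
theorem k192 : TabOK.{u} g192 := k3.ext ha83 hb192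
theorem k193 : TabOK.{u} g193 := (k192.ext ha84 hb193).tb ht193
theorem k194 : TabOK.{u} g194 := (k193.ext ha85 hb194).tb ht194
theorem k195 : TabOK.{u} g195 := k194.ext ha86 hb195
theorem k196 : TabOK.{u} g196 := k195.ext ha87 hb196
theorem k197 : TabOK.{u} g197 := k196.ext ha88 hb197
theorem k198 : TabOK.{u} g198 := k194.ext ha89 hb198
theorem k199 : TabOK.{u} g199 := k198.ext ha90 hb199
theorem k200 : TabOK.{u} g200 := k199.ext ha91 hb200
theorem k201 : TabOK.{u} g201 := k190.ext ha92 hb201
theorem k202 : TabOK.{u} g202 := k190.ext ha92 hb202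
theorem k275 : TabOK.{u} g275 := k189.ext ha111 hb275
theorem k276 : TabOK.{u} g276 := k189.ext ha111 hb276
theorem k277 : TabOK.{u} g277 := k276.ext ha112 hb277
theorem k341 : TabOK.{u} g341 := k189.ext ha111 hb341
theorem k342 : TabOK.{u} g342 := (k188.ext ha128 hb342).tb ht342
theorem k349 : TabOK.{u} g349 := k342.ext ha130 hb349
theorem k350 : TabOK.{u} g350 := k349.ext ha131 hb350
theorem k351 : TabOK.{u} g351 := k349.ext ha132 hb351
theorem k352 : TabOK.{u} g352 := k349.ext ha132 hb352
theorem k427 : TabOK.{u} g427 := k188.ext ha128 hb427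
theorem k428 : TabOK.{u} g428 := k188.ext ha80 hb428
theorem k429 : TabOK.{u} g429 := k188.ext ha80 hb429
theorem k430 : TabOK.{u} g430 := k188.ext ha80 hb430
theorem k431 : TabOK.{u} g431 := k189.ext ha152 hb431
theorem k437 : TabOK.{u} g437 := k188.ext ha153 hb437
theorem k439 : TabOK.{u} g439 := k5.ext ha79 hb439
theorem k440 : TabOK.{u} g440 := (k5.ext ha154 hb440).tb ht440
theorem k441 : TabOK.{u} g441 := k440.ext ha155 hb441
theorem k442 : TabOK.{u} g442 := k441.ext ha156 hb442
theorem k443 : TabOK.{u} g443 := k441.ext ha156 hb443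
theorem k444 : TabOK.{u} g444 := k441.ext ha157 hb444
theorem k445 : TabOK.{u} g445 := k441.ext ha157 hb445
theorem k446 : TabOK.{u} g446 := k440.ext ha155 hb446
theorem k447 : TabOK.{u} g447 := k440.ext ha158 hb447
theorem k448 : TabOK.{u} g448 := k440.ext ha158 hb448
theorem k449 : TabOK.{u} g449 := (k5.ext ha159 hb449).tb ht449
theorem k450 : TabOK.{u} g450 := k449.ext ha160 hb450
theorem k451 : TabOK.{u} g451 := k449.ext ha160 hb451
theorem k452 : TabOK.{u} g452 := k449.ext ha160 hb452
theorem k454 : TabOK.{u} g454 := k449.ext ha161 hb454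
theorem k455 : TabOK.{u} g455 := k449.ext ha161 hb455
theorem k456 : TabOK.{u} g456 := k449.ext ha161 hb456
theorem k458 : TabOK.{u} g458 := k450.ext ha162 hb458
theorem k460 : TabOK.{u} g460 := k450.ext ha163 hb460
theorem k462 : TabOK.{u} g462 := k450.ext ha164 hb462
theorem k464 : TabOK.{u} g464 := (k5.ext ha159 hb464).tb ht464
theorem k473 : TabOK.{u} g473 := k5.ext ha167 hb473
theorem k474 : TabOK.{u} g474 := (k5.ext ha167 hb474).tb ht474
theorem k476 : TabOK.{u} g476 := k474.ext ha168 hb476
theorem k478 : TabOK.{u} g478 := k476.ext ha169 hb478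
theorem v0 : Valid.{u} x0 s0 := chk_ok .nil .nil c0
theorem v1 : Valid.{u} x1 s1 := chk_ok .nil .nil c1
theorem v2 : Valid.{u} x2 s2 := chk_ok .nil .nil c2
theorem v3 : Valid.{u} x5 s3 := chk_ok .nil .nil c3
theorem v4 : Valid.{u} x6 s4 := chk_ok .nil .nil c4
theorem v5 : Valid.{u} x7 s5 := chk_ok .nil .nil c5
theorem v6 : Valid.{u} x8 s6 := chk_ok .nil .nil c6
theorem v7 : Valid.{u} x9 s7 := chk_ok .nil .nil c7
theorem v8 : Valid.{u} x9 s8 := chk_ok .nil .nil c8
theorem v9 : Valid.{u} x9 s9 := chk_ok (.cons v7 (.cons v8 .nil)) .nil c9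
theorem v10 : Valid.{u} x9 s10 := chk_ok (.cons v9 .nil) .nil c10
theorem v11 : Valid.{u} x10 s11 := chk_ok .nil .nil c11
theorem v12 : Valid.{u} x11 s12 := chk_ok .nil .nil c12
theorem v13 : Valid.{u} x12 s13 := chk_ok .nil .nil c13
theorem v14 : Valid.{u} x15 s14 := chk_ok .nil .nil c14
theorem v15 : Valid.{u} x17 s15 := chk_ok .nil .nil c15
theorem v16 : Valid.{u} x18 s16 := chk_ok .nil .nil c16
theorem v17 : Valid.{u} x19 s17 := chk_ok .nil .nil c17
theorem v18 : Valid.{u} x20 s18 := chk_ok .nil .nil c18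
theorem v19 : Valid.{u} x16 s19 := chk_ok (.cons v15 (.cons v16 (.cons v17 (.cons v18 .nil)))) .nil c19
theorem v20 : Valid.{u} x21 s20 := chk_ok .nil .nil c20
theorem v21 : Valid.{u} x22 s21 := chk_ok .nil .nil c21
theorem v22 : Valid.{u} x23 s22 := chk_ok .nil .nil c22
theorem v23 : Valid.{u} x24 s23 := chk_ok .nil .nil c23
theorem v24 : Valid.{u} x16 s24 := chk_ok (.cons v20 (.cons v21 (.cons v22 (.cons v23 .nil)))) .nil c24
theorem v25 : Valid.{u} x16 s25 := chk_ok (.cons v19 (.cons v24 .nil)) .nil c25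
theorem v26 : Valid.{u} x16 s26 := chk_ok (.cons v25 .nil) .nil c26
theorem v27 : Valid.{u} x16 s27 := chk_ok (.cons v26 .nil) .nil c27
theorem v28 : Valid.{u} x16 s28 := chk_ok (.cons v27 .nil) .nil c28
theorem v29 : Valid.{u} x16 s29 := chk_ok (.cons v28 .nil) .nil c29
theorem v30 : Valid.{u} x25 s30 := chk_ok .nil .nil c30
theorem v31 : Valid.{u} x26 s31 := chk_ok .nil .nil c31
theorem v32 : Valid.{u} x26 s32 := chk_ok (.cons v31 .nil) .nil c32
theorem v33 : Valid.{u} x26 s33 := chk_ok (.cons v32 .nil) .nil c33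
theorem v34 : Valid.{u} x14 s34 := chk_ok (.cons v14 (.cons v29 (.cons v30 (.cons v33 .nil)))) .nil c34
theorem v35 : Valid.{u} x30 s35 := chk_ok .nil .nil c35
theorem v36 : Valid.{u} x31 s36 := chk_ok .nil .nil c36
theorem v37 : Valid.{u} x31 s37 := chk_ok (.cons v36 .nil) .nil c37
theorem v38 : Valid.{u} x32 s38 := chk_ok .nil .nil c38
theorem v39 : Valid.{u} x33 s39 := chk_ok .nil .nil c39
theorem v40 : Valid.{u} x29 s40 := chk_ok (.cons v35 (.cons v37 (.cons v38 (.cons v39 .nil)))) (.cons k98 .nil) c40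
theorem v41 : Valid.{u} x29 s41 := chk_ok (.cons v40 .nil) .nil c41
theorem v42 : Valid.{u} x34 s42 := chk_ok .nil .nil c42
theorem v43 : Valid.{u} x35 s43 := chk_ok .nil .nil c43
theorem v44 : Valid.{u} x36 s44 := chk_ok .nil .nil c44
theorem v45 : Valid.{u} x37 s45 := chk_ok .nil .nil c45
theorem v46 : Valid.{u} x28 s46 := chk_ok (.cons v42 (.cons v43 (.cons v44 (.cons v45 .nil)))) .nil c46
theorem v47 : Valid.{u} x28 s47 := chk_ok (.cons v46 .nil) .nil c47
theorem v48 : Valid.{u} x28 s48 := chk_ok (.cons v47 .nil) .nil c48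
theorem v49 : Valid.{u} x28 s49 := chk_ok (.cons v48 .nil) .nil c49
theorem v50 : Valid.{u} x28 s50 := chk_ok (.cons v49 .nil) .nil c50
theorem v51 : Valid.{u} x28 s51 := chk_ok (.cons v41 (.cons v50 .nil)) (.cons k105 .nil) c51
theorem v52 : Valid.{u} x28 s52 := chk_ok (.cons v51 .nil) (.cons k179 .nil) c52
theorem v53 : Valid.{u} x28 s53 := chk_ok (.cons v51 .nil) (.cons k179 .nil) c53
theorem v54 : Valid.{u} x28 s54 := chk_ok (.cons v52 (.cons v53 (.cons v51 .nil))) (.cons k179 .nil) c54
theorem v55 : Valid.{u} x38 s55 := chk_ok .nil .nil c55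
theorem v56 : Valid.{u} x39 s56 := chk_ok .nil .nil c56
theorem v57 : Valid.{u} x40 s57 := chk_ok .nil .nil c57
theorem v58 : Valid.{u} x27 s58 := chk_ok (.cons v54 (.cons v55 (.cons v56 (.cons v57 .nil)))) (.cons k105 (.cons k104 .nil)) c58
theorem v59 : Valid.{u} x42 s59 := chk_ok .nil .nil c59
theorem v60 : Valid.{u} x43 s60 := chk_ok .nil .nil c60
theorem v61 : Valid.{u} x44 s61 := chk_ok .nil .nil c61
theorem v62 : Valid.{u} x45 s62 := chk_ok .nil .nil c62
theorem v63 : Valid.{u} x41 s63 := chk_ok (.cons v59 (.cons v60 (.cons v61 (.cons v62 .nil)))) .nil c63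
theorem v64 : Valid.{u} x27 s64 := chk_ok (.cons v58 (.cons v63 .nil)) (.cons k101 .nil) c64
theorem v65 : Valid.{u} x27 s65 := chk_ok (.cons v64 .nil) .nil c65
theorem v66 : Valid.{u} x27 s66 := chk_ok (.cons v65 .nil) .nil c66
theorem v67 : Valid.{u} x27 s67 := chk_ok (.cons v66 .nil) .nil c67
theorem v68 : Valid.{u} x27 s68 := chk_ok (.cons v67 .nil) .nil c68
theorem v69 : Valid.{u} x13 s69 := chk_ok (.cons v30 (.cons v68 (.cons v14 (.cons v29 .nil)))) (.cons k114 (.cons k109 .nil)) c69
theorem v70 : Valid.{u} x13 s70 := chk_ok (.cons v34 (.cons v69 .nil)) (.cons k108 .nil) c70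
theorem v71 : Valid.{u} x13 s71 := chk_ok (.cons v70 .nil) .nil c71
theorem v72 : Valid.{u} x13 s72 := chk_ok (.cons v71 .nil) .nil c72
theorem v73 : Valid.{u} x13 s73 := chk_ok (.cons v72 .nil) (.cons k177 .nil) c73
theorem v74 : Valid.{u} x13 s74 := chk_ok (.cons v73 .nil) .nil c74
theorem v75 : Valid.{u} x4 s75 := chk_ok (.cons v3 (.cons v4 (.cons v5 (.cons v6 (.cons v10 (.cons v11 (.cons v12 (.cons v13 (.cons v74 .nil))))))))) (.cons k163 .nil) c75
theorem v76 : Valid.{u} x4 s76 := chk_ok (.cons v75 .nil) .nil c76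
theorem v77 : Valid.{u} x46 s77 := chk_ok .nil .nil c77
theorem v78 : Valid.{u} x3 s78 := chk_ok (.cons v76 (.cons v77 .nil)) (.cons k163 (.cons k175 .nil)) c78
theorem v79 : Valid.{u} x47 s79 := chk_ok .nil .nil c79
theorem v80 : Valid.{u} x48 s80 := chk_ok .nil .nil c80
theorem v81 : Valid.{u} x49 s81 := chk_ok .nil .nil c81
theorem v82 : Valid.{u} x49 s82 := chk_ok .nil .nil c82
theorem v83 : Valid.{u} x49 s83 := chk_ok (.cons v82 .nil) .nil c83
theorem v84 : Valid.{u} x49 s84 := chk_ok (.cons v83 .nil) .nil c84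
theorem v85 : Valid.{u} x49 s85 := chk_ok (.cons v81 (.cons v84 .nil)) .nil c85
theorem v86 : Valid.{u} x49 s86 := chk_ok (.cons v85 .nil) .nil c86
theorem v87 : Valid.{u} x50 s87 := chk_ok .nil .nil c87
theorem v88 : Valid.{u} x51 s88 := chk_ok .nil .nil c88
theorem v89 : Valid.{u} x52 s89 := chk_ok .nil .nil c89
theorem v90 : Valid.{u} x57 s90 := chk_ok .nil .nil c90
theorem v91 : Valid.{u} x58 s91 := chk_ok .nil .nil c91
theorem v92 : Valid.{u} x59 s92 := chk_ok .nil .nil c92
theorem v93 : Valid.{u} x60 s93 := chk_ok .nil .nil c93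
theorem v94 : Valid.{u} x56 s94 := chk_ok (.cons v90 (.cons v91 (.cons v92 (.cons v93 .nil)))) .nil c94
theorem v95 : Valid.{u} x61 s95 := chk_ok .nil .nil c95
theorem v96 : Valid.{u} x62 s96 := chk_ok .nil .nil c96
theorem v97 : Valid.{u} x63 s97 := chk_ok .nil .nil c97
theorem v98 : Valid.{u} x64 s98 := chk_ok .nil .nil c98
theorem v99 : Valid.{u} x56 s99 := chk_ok (.cons v95 (.cons v96 (.cons v97 (.cons v98 .nil)))) .nil c99
theorem v100 : Valid.{u} x56 s100 := chk_ok (.cons v94 (.cons v99 .nil)) .nil c100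
theorem v101 : Valid.{u} x55 s101 := chk_ok (.cons v100 .nil) (.cons k145 .nil) c101
theorem v102 : Valid.{u} x55 s102 := chk_ok (.cons v101 .nil) .nil c102
theorem v103 : Valid.{u} x66 s103 := chk_ok .nil .nil c103
theorem v104 : Valid.{u} x65 s104 := chk_ok (.cons v103 .nil) (.cons k100 .nil) c104
theorem v105 : Valid.{u} x65 s105 := chk_ok (.cons v104 .nil) .nil c105
theorem v106 : Valid.{u} x54 s106 := chk_ok (.cons v102 (.cons v30 (.cons v105 (.cons v14 .nil)))) (.cons k114 (.cons k109 .nil)) c106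
theorem v107 : Valid.{u} x68 s107 := chk_ok .nil .nil c107
theorem v108 : Valid.{u} x69 s108 := chk_ok .nil .nil c108
theorem v109 : Valid.{u} x72 s109 := chk_ok .nil .nil c109
theorem v110 : Valid.{u} x73 s110 := chk_ok .nil .nil c110
theorem v111 : Valid.{u} x74 s111 := chk_ok .nil .nil c111
theorem v112 : Valid.{u} x75 s112 := chk_ok .nil .nil c112
theorem v113 : Valid.{u} x71 s113 := chk_ok (.cons v109 (.cons v110 (.cons v111 (.cons v112 .nil)))) (.cons k152 .nil) c113
theorem v114 : Valid.{u} x71 s114 := chk_ok (.cons v113 .nil) .nil c114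
theorem v115 : Valid.{u} x76 s115 := chk_ok .nil .nil c115
theorem v116 : Valid.{u} x77 s116 := chk_ok .nil .nil c116
theorem v117 : Valid.{u} x78 s117 := chk_ok .nil .nil c117
theorem v118 : Valid.{u} x78 s118 := chk_ok (.cons v117 .nil) .nil c118
theorem v119 : Valid.{u} x79 s119 := chk_ok .nil .nil c119
theorem v120 : Valid.{u} x70 s120 := chk_ok (.cons v115 (.cons v116 (.cons v118 (.cons v119 .nil)))) (.cons k128 .nil) c120
theorem v121 : Valid.{u} x70 s121 := chk_ok (.cons v120 .nil) .nil c121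
theorem v122 : Valid.{u} x70 s122 := chk_ok (.cons v121 .nil) .nil c122
theorem v123 : Valid.{u} x70 s123 := chk_ok (.cons v122 .nil) .nil c123
theorem v124 : Valid.{u} x70 s124 := chk_ok (.cons v123 .nil) .nil c124
theorem v125 : Valid.{u} x70 s125 := chk_ok (.cons v114 (.cons v124 .nil)) (.cons k158 .nil) c125
theorem v126 : Valid.{u} x70 s126 := chk_ok (.cons v125 .nil) (.cons k168 .nil) c126
theorem v127 : Valid.{u} x80 s127 := chk_ok .nil .nil c127
theorem v128 : Valid.{u} x67 s128 := chk_ok (.cons v107 (.cons v108 (.cons v126 (.cons v127 .nil)))) (.cons k151 .nil) c128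
theorem v129 : Valid.{u} x81 s129 := chk_ok .nil .nil c129
theorem v130 : Valid.{u} x82 s130 := chk_ok .nil .nil c130
theorem v131 : Valid.{u} x83 s131 := chk_ok .nil .nil c131
theorem v132 : Valid.{u} x84 s132 := chk_ok .nil .nil c132
theorem v133 : Valid.{u} x65 s133 := chk_ok (.cons v129 (.cons v130 (.cons v131 (.cons v132 .nil)))) .nil c133
theorem v134 : Valid.{u} x67 s134 := chk_ok (.cons v128 (.cons v133 .nil)) (.cons k155 .nil) c134
theorem v135 : Valid.{u} x67 s135 := chk_ok (.cons v134 .nil) .nil c135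
theorem v136 : Valid.{u} x67 s136 := chk_ok (.cons v135 .nil) .nil c136
theorem v137 : Valid.{u} x67 s137 := chk_ok (.cons v136 .nil) .nil c137
theorem v138 : Valid.{u} x67 s138 := chk_ok (.cons v137 .nil) .nil c138
theorem v139 : Valid.{u} x53 s139 := chk_ok (.cons v138 (.cons v14 (.cons v33 (.cons v30 .nil)))) (.cons k109 (.cons k114 .nil)) c139
theorem v140 : Valid.{u} x53 s140 := chk_ok (.cons v106 (.cons v139 .nil)) (.cons k153 .nil) c140
theorem v141 : Valid.{u} x53 s141 := chk_ok (.cons v140 .nil) .nil c141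
theorem v142 : Valid.{u} x53 s142 := chk_ok (.cons v141 .nil) .nil c142
theorem v143 : Valid.{u} x53 s143 := chk_ok (.cons v142 .nil) (.cons k165 .nil) c143
theorem v144 : Valid.{u} x53 s144 := chk_ok (.cons v143 .nil) .nil c144
theorem v145 : Valid.{u} x85 s145 := chk_ok .nil .nil c145
theorem v146 : Valid.{u} x5 s146 := chk_ok (.cons v3 (.cons v79 (.cons v80 (.cons v86 (.cons v87 (.cons v88 (.cons v89 (.cons v144 (.cons v145 .nil))))))))) .nil c146
theorem v147 : Valid.{u} x5 s147 := chk_ok (.cons v146 .nil) .nil c147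
theorem v148 : Valid.{u} x3 s148 := chk_ok (.cons v147 (.cons v77 .nil)) (.cons k163 .nil) c148
theorem v149 : Valid.{u} x3 s149 := chk_ok (.cons v78 (.cons v148 .nil)) .nil c149
theorem v150 : Valid.{u} x3 s150 := chk_ok (.cons v149 .nil) (.cons k162 .nil) c150
theorem v151 : Valid.{u} x86 s151 := chk_ok .nil .nil c151
theorem v152 : Valid.{u} x88 s152 := chk_ok .nil .nil c152
theorem v153 : Valid.{u} x89 s153 := chk_ok .nil .nil c153
theorem v154 : Valid.{u} x90 s154 := chk_ok .nil .nil c154
theorem v155 : Valid.{u} x91 s155 := chk_ok .nil .nil c155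
theorem v156 : Valid.{u} x92 s156 := chk_ok .nil .nil c156
theorem v157 : Valid.{u} x93 s157 := chk_ok .nil .nil c157
theorem v158 : Valid.{u} x94 s158 := chk_ok .nil .nil c158
theorem v159 : Valid.{u} x95 s159 := chk_ok .nil .nil c159
theorem v160 : Valid.{u} x87 s160 := chk_ok (.cons v152 (.cons v153 (.cons v154 (.cons v155 (.cons v156 (.cons v157 (.cons v158 (.cons v159 .nil)))))))) .nil c160
theorem v161 : Valid.{u} x88 s161 := chk_ok .nil .nil c161
theorem v162 : Valid.{u} x89 s162 := chk_ok .nil .nil c162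
theorem v163 : Valid.{u} x90 s163 := chk_ok .nil .nil c163
theorem v164 : Valid.{u} x91 s164 := chk_ok .nil .nil c164
theorem v165 : Valid.{u} x92 s165 := chk_ok .nil .nil c165
theorem v166 : Valid.{u} x93 s166 := chk_ok .nil .nil c166
theorem v167 : Valid.{u} x94 s167 := chk_ok .nil .nil c167
theorem v168 : Valid.{u} x95 s168 := chk_ok .nil .nil c168
theorem v169 : Valid.{u} x87 s169 := chk_ok (.cons v161 (.cons v162 (.cons v163 (.cons v164 (.cons v165 (.cons v166 (.cons v167 (.cons v168 .nil)))))))) .nil c169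
theorem v170 : Valid.{u} x87 s170 := chk_ok (.cons v160 (.cons v169 .nil)) .nil c170
theorem v171 : Valid.{u} x96 s171 := chk_ok .nil .nil c171
theorem v172 : Valid.{u} x97 s172 := chk_ok .nil .nil c172
theorem v173 : Valid.{u} x98 s173 := chk_ok .nil .nil c173
theorem v174 : Valid.{u} x99 s174 := chk_ok .nil .nil c174
theorem v175 : Valid.{u} x100 s175 := chk_ok .nil .nil c175
theorem v176 : Valid.{u} x101 s176 := chk_ok .nil .nil c176
theorem v177 : Valid.{u} x102 s177 := chk_ok .nil .nil c177
theorem v178 : Valid.{u} x103 s178 := chk_ok .nil .nil c178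
theorem v179 : Valid.{u} x87 s179 := chk_ok (.cons v171 (.cons v172 (.cons v173 (.cons v174 (.cons v175 (.cons v176 (.cons v177 (.cons v178 .nil)))))))) .nil c179
theorem v180 : Valid.{u} x96 s180 := chk_ok .nil .nil c180
theorem v181 : Valid.{u} x97 s181 := chk_ok .nil .nil c181
theorem v182 : Valid.{u} x98 s182 := chk_ok .nil .nil c182
theorem v183 : Valid.{u} x99 s183 := chk_ok .nil .nil c183
theorem v184 : Valid.{u} x100 s184 := chk_ok .nil .nil c184
theorem v185 : Valid.{u} x101 s185 := chk_ok .nil .nil c185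
theorem v186 : Valid.{u} x102 s186 := chk_ok .nil .nil c186
theorem v187 : Valid.{u} x103 s187 := chk_ok .nil .nil c187
theorem v188 : Valid.{u} x87 s188 := chk_ok (.cons v180 (.cons v181 (.cons v182 (.cons v183 (.cons v184 (.cons v185 (.cons v186 (.cons v187 .nil)))))))) .nil c188
theorem v189 : Valid.{u} x87 s189 := chk_ok (.cons v179 (.cons v188 .nil)) .nil c189
theorem v190 : Valid.{u} x87 s190 := chk_ok (.cons v170 (.cons v189 .nil)) .nil c190
theorem v191 : Valid.{u} x104 s191 := chk_ok .nil .nil c191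
theorem v192 : Valid.{u} x105 s192 := chk_ok .nil .nil c192
theorem v193 : Valid.{u} x106 s193 := chk_ok .nil .nil c193
theorem v194 : Valid.{u} x107 s194 := chk_ok .nil .nil c194
theorem v195 : Valid.{u} x108 s195 := chk_ok .nil .nil c195
theorem v196 : Valid.{u} x109 s196 := chk_ok .nil .nil c196
theorem v197 : Valid.{u} x110 s197 := chk_ok .nil .nil c197
theorem v198 : Valid.{u} x111 s198 := chk_ok .nil .nil c198
theorem v199 : Valid.{u} x112 s199 := chk_ok .nil .nil c199
theorem v200 : Valid.{u} x113 s200 := chk_ok .nil .nil c200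
theorem v201 : Valid.{u} x114 s201 := chk_ok .nil .nil c201
theorem v202 : Valid.{u} x115 s202 := chk_ok .nil .nil c202
theorem v203 : Valid.{u} x116 s203 := chk_ok .nil .nil c203
theorem v204 : Valid.{u} x108 s204 := chk_ok (.cons v196 (.cons v197 (.cons v198 (.cons v199 (.cons v200 (.cons v201 (.cons v202 (.cons v203 .nil)))))))) .nil c204
theorem v205 : Valid.{u} x109 s205 := chk_ok .nil .nil c205
theorem v206 : Valid.{u} x109 s206 := chk_ok (.cons v205 .nil) (.cons k56 .nil) c206
theorem v207 : Valid.{u} x110 s207 := chk_ok .nil .nil c207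
theorem v208 : Valid.{u} x111 s208 := chk_ok .nil .nil c208
theorem v209 : Valid.{u} x112 s209 := chk_ok .nil .nil c209
theorem v210 : Valid.{u} x113 s210 := chk_ok .nil .nil c210
theorem v211 : Valid.{u} x114 s211 := chk_ok .nil .nil c211
theorem v212 : Valid.{u} x115 s212 := chk_ok .nil .nil c212
theorem v213 : Valid.{u} x116 s213 := chk_ok .nil .nil c213
theorem v214 : Valid.{u} x108 s214 := chk_ok (.cons v206 (.cons v207 (.cons v208 (.cons v209 (.cons v210 (.cons v211 (.cons v212 (.cons v213 .nil)))))))) .nil c214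
theorem v215 : Valid.{u} x108 s215 := chk_ok (.cons v204 (.cons v214 .nil)) .nil c215
theorem v216 : Valid.{u} x108 s216 := chk_ok (.cons v215 .nil) .nil c216
theorem v217 : Valid.{u} x108 s217 := chk_ok (.cons v195 (.cons v216 .nil)) .nil c217
theorem v218 : Valid.{u} x108 s218 := chk_ok (.cons v217 .nil) (.cons k55 .nil) c218
theorem v219 : Valid.{u} x108 s219 := chk_ok (.cons v218 .nil) (.cons k55 .nil) c219
theorem v220 : Valid.{u} x117 s220 := chk_ok .nil .nil c220
theorem v221 : Valid.{u} x118 s221 := chk_ok .nil .nil c221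
theorem v222 : Valid.{u} x119 s222 := chk_ok .nil .nil c222
theorem v223 : Valid.{u} x87 s223 := chk_ok (.cons v191 (.cons v192 (.cons v193 (.cons v194 (.cons v219 (.cons v220 (.cons v221 (.cons v222 .nil)))))))) (.cons k53 .nil) c223
theorem v224 : Valid.{u} x105 s224 := chk_ok .nil .nil c224
theorem v225 : Valid.{u} x106 s225 := chk_ok .nil .nil c225
theorem v226 : Valid.{u} x107 s226 := chk_ok .nil .nil c226
theorem v227 : Valid.{u} x108 s227 := chk_ok (.cons v217 .nil) (.cons k55 .nil) c227
theorem v228 : Valid.{u} x108 s228 := chk_ok (.cons v227 .nil) (.cons k55 .nil) c228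
theorem v229 : Valid.{u} x117 s229 := chk_ok .nil .nil c229
theorem v230 : Valid.{u} x118 s230 := chk_ok .nil .nil c230
theorem v231 : Valid.{u} x119 s231 := chk_ok .nil .nil c231
theorem v232 : Valid.{u} x87 s232 := chk_ok (.cons v191 (.cons v224 (.cons v225 (.cons v226 (.cons v228 (.cons v229 (.cons v230 (.cons v231 .nil)))))))) .nil c232
theorem v233 : Valid.{u} x87 s233 := chk_ok (.cons v223 (.cons v232 .nil)) .nil c233
theorem v234 : Valid.{u} x121 s234 := chk_ok .nil .nil c234
theorem v235 : Valid.{u} x122 s235 := chk_ok .nil .nil c235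
theorem v236 : Valid.{u} x123 s236 := chk_ok .nil .nil c236
theorem v237 : Valid.{u} x124 s237 := chk_ok .nil .nil c237
theorem v238 : Valid.{u} x125 s238 := chk_ok .nil .nil c238
theorem v239 : Valid.{u} x126 s239 := chk_ok .nil .nil c239
theorem v240 : Valid.{u} x127 s240 := chk_ok .nil .nil c240
theorem v241 : Valid.{u} x128 s241 := chk_ok .nil .nil c241
theorem v242 : Valid.{u} x120 s242 := chk_ok (.cons v234 (.cons v235 (.cons v236 (.cons v237 (.cons v238 (.cons v239 (.cons v240 (.cons v241 .nil)))))))) .nil c242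
theorem v243 : Valid.{u} x120 s243 := chk_ok (.cons v242 .nil) .nil c243
theorem v244 : Valid.{u} x129 s244 := chk_ok .nil .nil c244
theorem v245 : Valid.{u} x130 s245 := chk_ok .nil .nil c245
theorem v246 : Valid.{u} x131 s246 := chk_ok .nil .nil c246
theorem v247 : Valid.{u} x132 s247 := chk_ok .nil .nil c247
theorem v248 : Valid.{u} x133 s248 := chk_ok .nil .nil c248
theorem v249 : Valid.{u} x134 s249 := chk_ok .nil .nil c249
theorem v250 : Valid.{u} x135 s250 := chk_ok .nil .nil c250
theorem v251 : Valid.{u} x136 s251 := chk_ok .nil .nil c251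
theorem v252 : Valid.{u} x120 s252 := chk_ok (.cons v244 (.cons v245 (.cons v246 (.cons v247 (.cons v248 (.cons v249 (.cons v250 (.cons v251 .nil)))))))) .nil c252
theorem v253 : Valid.{u} x120 s253 := chk_ok (.cons v252 .nil) .nil c253
theorem v254 : Valid.{u} x120 s254 := chk_ok (.cons v243 (.cons v253 .nil)) (.cons k7 .nil) c254
theorem v255 : Valid.{u} x120 s255 := chk_ok .nil .nil c255
theorem v256 : Valid.{u} x120 s256 := chk_ok (.cons v255 .nil) .nil c256
theorem v257 : Valid.{u} x120 s257 := chk_ok .nil .nil c257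
theorem v258 : Valid.{u} x120 s258 := chk_ok (.cons v257 .nil) .nil c258
theorem v259 : Valid.{u} x120 s259 := chk_ok (.cons v256 (.cons v258 .nil)) (.cons k7 .nil) c259
theorem v260 : Valid.{u} x120 s260 := chk_ok (.cons v254 (.cons v259 .nil)) (.cons k7 .nil) c260
theorem v261 : Valid.{u} x120 s261 := chk_ok (.cons v260 .nil) .nil c261
theorem v262 : Valid.{u} x120 s262 := chk_ok .nil .nil c262
theorem v263 : Valid.{u} x120 s263 := chk_ok (.cons v243 (.cons v262 .nil)) .nil c263
theorem v264 : Valid.{u} x120 s264 := chk_ok .nil .nil c264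
theorem v265 : Valid.{u} x120 s265 := chk_ok (.cons v256 (.cons v264 .nil)) .nil c265
theorem v266 : Valid.{u} x120 s266 := chk_ok (.cons v263 (.cons v265 .nil)) (.cons k7 .nil) c266
theorem v267 : Valid.{u} x120 s267 := chk_ok (.cons v266 .nil) .nil c267
theorem v268 : Valid.{u} x139 s268 := chk_ok .nil .nil c268
theorem v269 : Valid.{u} x139 s269 := chk_ok (.cons v268 .nil) .nil c269
theorem v270 : Valid.{u} x139 s270 := chk_ok (.cons v269 .nil) .nil c270
theorem v271 : Valid.{u} x140 s271 := chk_ok .nil .nil c271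
theorem v272 : Valid.{u} x141 s272 := chk_ok .nil .nil c272
theorem v273 : Valid.{u} x142 s273 := chk_ok .nil .nil c273
theorem v274 : Valid.{u} x143 s274 := chk_ok .nil .nil c274
theorem v275 : Valid.{u} x144 s275 := chk_ok .nil .nil c275
theorem v276 : Valid.{u} x145 s276 := chk_ok .nil .nil c276
theorem v277 : Valid.{u} x146 s277 := chk_ok .nil .nil c277
theorem v278 : Valid.{u} x138 s278 := chk_ok (.cons v270 (.cons v271 (.cons v272 (.cons v273 (.cons v274 (.cons v275 (.cons v276 (.cons v277 .nil)))))))) .nil c278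
theorem v279 : Valid.{u} x147 s279 := chk_ok .nil .nil c279
theorem v280 : Valid.{u} x147 s280 := chk_ok (.cons v279 .nil) .nil c280
theorem v281 : Valid.{u} x147 s281 := chk_ok (.cons v280 .nil) .nil c281
theorem v282 : Valid.{u} x148 s282 := chk_ok .nil .nil c282
theorem v283 : Valid.{u} x149 s283 := chk_ok .nil .nil c283
theorem v284 : Valid.{u} x150 s284 := chk_ok .nil .nil c284
theorem v285 : Valid.{u} x151 s285 := chk_ok .nil .nil c285
theorem v286 : Valid.{u} x152 s286 := chk_ok .nil .nil c286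
theorem v287 : Valid.{u} x153 s287 := chk_ok .nil .nil c287
theorem v288 : Valid.{u} x154 s288 := chk_ok .nil .nil c288
theorem v289 : Valid.{u} x138 s289 := chk_ok (.cons v281 (.cons v282 (.cons v283 (.cons v284 (.cons v285 (.cons v286 (.cons v287 (.cons v288 .nil)))))))) .nil c289
theorem v290 : Valid.{u} x155 s290 := chk_ok .nil .nil c290
theorem v291 : Valid.{u} x156 s291 := chk_ok .nil .nil c291
theorem v292 : Valid.{u} x157 s292 := chk_ok .nil .nil c292
theorem v293 : Valid.{u} x158 s293 := chk_ok .nil .nil c293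
theorem v294 : Valid.{u} x159 s294 := chk_ok .nil .nil c294
theorem v295 : Valid.{u} x160 s295 := chk_ok .nil .nil c295
theorem v296 : Valid.{u} x161 s296 := chk_ok .nil .nil c296
theorem v297 : Valid.{u} x137 s297 := chk_ok (.cons v269 (.cons v290 (.cons v291 (.cons v292 (.cons v293 (.cons v294 (.cons v295 (.cons v296 .nil)))))))) (.cons k13 (.cons k21 .nil)) c297
theorem v298 : Valid.{u} x137 s298 := chk_ok (.cons v297 .nil) .nil c298
theorem v299 : Valid.{u} x162 s299 := chk_ok .nil .nil c299
theorem v300 : Valid.{u} x162 s300 := chk_ok (.cons v299 .nil) .nil c300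
theorem v301 : Valid.{u} x162 s301 := chk_ok (.cons v300 .nil) .nil c301
theorem v302 : Valid.{u} x163 s302 := chk_ok .nil .nil c302
theorem v303 : Valid.{u} x164 s303 := chk_ok .nil .nil c303
theorem v304 : Valid.{u} x165 s304 := chk_ok .nil .nil c304
theorem v305 : Valid.{u} x166 s305 := chk_ok .nil .nil c305
theorem v306 : Valid.{u} x167 s306 := chk_ok .nil .nil c306
theorem v307 : Valid.{u} x168 s307 := chk_ok .nil .nil c307
theorem v308 : Valid.{u} x169 s308 := chk_ok .nil .nil c308
theorem v309 : Valid.{u} x138 s309 := chk_ok (.cons v301 (.cons v302 (.cons v303 (.cons v304 (.cons v305 (.cons v306 (.cons v307 (.cons v308 .nil)))))))) .nil c309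
theorem v310 : Valid.{u} x137 s310 := chk_ok (.cons v278 (.cons v289 (.cons v298 (.cons v309 .nil)))) (.cons k8 .nil) c310
theorem v311 : Valid.{u} x170 s311 := chk_ok .nil .nil c311
theorem v312 : Valid.{u} x171 s312 := chk_ok .nil .nil c312
theorem v313 : Valid.{u} x172 s313 := chk_ok .nil .nil c313
theorem v314 : Valid.{u} x173 s314 := chk_ok .nil .nil c314
theorem v315 : Valid.{u} x174 s315 := chk_ok .nil .nil c315
theorem v316 : Valid.{u} x175 s316 := chk_ok .nil .nil c316
theorem v317 : Valid.{u} x176 s317 := chk_ok .nil .nil c317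
theorem v318 : Valid.{u} x120 s318 := chk_ok (.cons v310 (.cons v311 (.cons v312 (.cons v313 (.cons v314 (.cons v315 (.cons v316 (.cons v317 .nil)))))))) .nil c318
theorem v319 : Valid.{u} x120 s319 := chk_ok (.cons v318 .nil) .nil c319
theorem v320 : Valid.{u} x120 s320 := chk_ok .nil .nil c320
theorem v321 : Valid.{u} x120 s321 := chk_ok (.cons v319 (.cons v320 .nil)) .nil c321
theorem v322 : Valid.{u} x177 s322 := chk_ok .nil .nil c322
theorem v323 : Valid.{u} x179 s323 := chk_ok .nil .nil c323
theorem v324 : Valid.{u} x179 s324 := chk_ok (.cons v323 .nil) .nil c324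
theorem v325 : Valid.{u} x180 s325 := chk_ok .nil .nil c325
theorem v326 : Valid.{u} x181 s326 := chk_ok .nil .nil c326
theorem v327 : Valid.{u} x182 s327 := chk_ok .nil .nil c327
theorem v328 : Valid.{u} x183 s328 := chk_ok .nil .nil c328
theorem v329 : Valid.{u} x184 s329 := chk_ok .nil .nil c329
theorem v330 : Valid.{u} x185 s330 := chk_ok .nil .nil c330
theorem v331 : Valid.{u} x186 s331 := chk_ok .nil .nil c331
theorem v332 : Valid.{u} x178 s332 := chk_ok (.cons v324 (.cons v325 (.cons v326 (.cons v327 (.cons v328 (.cons v329 (.cons v330 (.cons v331 .nil)))))))) (.cons k31 .nil) c332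
theorem v333 : Valid.{u} x178 s333 := chk_ok (.cons v332 .nil) .nil c333
theorem v334 : Valid.{u} x179 s334 := chk_ok (.cons v324 .nil) .nil c334
theorem v335 : Valid.{u} x187 s335 := chk_ok .nil .nil c335
theorem v336 : Valid.{u} x188 s336 := chk_ok .nil .nil c336
theorem v337 : Valid.{u} x189 s337 := chk_ok .nil .nil c337
theorem v338 : Valid.{u} x190 s338 := chk_ok .nil .nil c338
theorem v339 : Valid.{u} x191 s339 := chk_ok .nil .nil c339
theorem v340 : Valid.{u} x192 s340 := chk_ok .nil .nil c340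
theorem v341 : Valid.{u} x193 s341 := chk_ok .nil .nil c341
theorem v342 : Valid.{u} x178 s342 := chk_ok (.cons v334 (.cons v335 (.cons v336 (.cons v337 (.cons v338 (.cons v339 (.cons v340 (.cons v341 .nil)))))))) .nil c342
theorem v343 : Valid.{u} x178 s343 := chk_ok (.cons v342 .nil) .nil c343
theorem v344 : Valid.{u} x178 s344 := chk_ok (.cons v332 (.cons v333 (.cons v342 (.cons v343 .nil)))) (.cons k30 .nil) c344
theorem v345 : Valid.{u} x194 s345 := chk_ok .nil .nil c345
theorem v346 : Valid.{u} x195 s346 := chk_ok .nil .nil c346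
theorem v347 : Valid.{u} x196 s347 := chk_ok .nil .nil c347
theorem v348 : Valid.{u} x197 s348 := chk_ok .nil .nil c348
theorem v349 : Valid.{u} x198 s349 := chk_ok .nil .nil c349
theorem v350 : Valid.{u} x199 s350 := chk_ok .nil .nil c350
theorem v351 : Valid.{u} x120 s351 := chk_ok (.cons v322 (.cons v344 (.cons v345 (.cons v346 (.cons v347 (.cons v348 (.cons v349 (.cons v350 .nil)))))))) .nil c351
theorem v352 : Valid.{u} x120 s352 := chk_ok (.cons v351 .nil) .nil c352
theorem v353 : Valid.{u} x120 s353 := chk_ok .nil .nil c353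
theorem v354 : Valid.{u} x120 s354 := chk_ok (.cons v352 (.cons v353 .nil)) .nil c354
theorem v355 : Valid.{u} x120 s355 := chk_ok (.cons v321 (.cons v354 .nil)) (.cons k7 .nil) c355
theorem v356 : Valid.{u} x120 s356 := chk_ok (.cons v355 .nil) .nil c356
theorem v357 : Valid.{u} x120 s357 := chk_ok (.cons v267 (.cons v356 .nil)) .nil c357
theorem v358 : Valid.{u} x120 s358 := chk_ok (.cons v265 (.cons v263 .nil)) .nil c358
theorem v359 : Valid.{u} x120 s359 := chk_ok (.cons v358 .nil) .nil c359
theorem v360 : Valid.{u} x120 s360 := chk_ok (.cons v354 (.cons v321 .nil)) .nil c360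
theorem v361 : Valid.{u} x120 s361 := chk_ok (.cons v360 .nil) .nil c361
theorem v362 : Valid.{u} x120 s362 := chk_ok (.cons v359 (.cons v361 .nil)) .nil c362
theorem v363 : Valid.{u} x120 s363 := chk_ok (.cons v357 (.cons v362 .nil)) .nil c363
theorem v364 : Valid.{u} x120 s364 := chk_ok (.cons v363 .nil) (.cons k7 .nil) c364
theorem v365 : Valid.{u} x120 s365 := chk_ok (.cons v261 (.cons v364 .nil)) (.cons k7 .nil) c365
theorem v366 : Valid.{u} x120 s366 := chk_ok (.cons v259 (.cons v254 .nil)) .nil c366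
theorem v367 : Valid.{u} x120 s367 := chk_ok (.cons v366 .nil) .nil c367
theorem v368 : Valid.{u} x120 s368 := chk_ok (.cons v367 (.cons v364 .nil)) .nil c368
theorem v369 : Valid.{u} x120 s369 := chk_ok (.cons v365 (.cons v368 .nil)) .nil c369
theorem v370 : Valid.{u} x120 s370 := chk_ok (.cons v369 .nil) (.cons k7 .nil) c370
theorem v371 : Valid.{u} x200 s371 := chk_ok .nil .nil c371
theorem v372 : Valid.{u} x201 s372 := chk_ok .nil .nil c372
theorem v373 : Valid.{u} x202 s373 := chk_ok .nil .nil c373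
theorem v374 : Valid.{u} x203 s374 := chk_ok .nil .nil c374
theorem v375 : Valid.{u} x204 s375 := chk_ok .nil .nil c375
theorem v376 : Valid.{u} x205 s376 := chk_ok .nil .nil c376
theorem v377 : Valid.{u} x206 s377 := chk_ok .nil .nil c377
theorem v378 : Valid.{u} x87 s378 := chk_ok (.cons v370 (.cons v371 (.cons v372 (.cons v373 (.cons v374 (.cons v375 (.cons v376 (.cons v377 .nil)))))))) (.cons k47 .nil) c378
theorem v379 : Valid.{u} x120 s379 := chk_ok (.cons v363 .nil) (.cons k7 .nil) c379
theorem v380 : Valid.{u} x200 s380 := chk_ok .nil .nil c380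
theorem v381 : Valid.{u} x201 s381 := chk_ok .nil .nil c381
theorem v382 : Valid.{u} x202 s382 := chk_ok .nil .nil c382
theorem v383 : Valid.{u} x204 s383 := chk_ok .nil .nil c383
theorem v384 : Valid.{u} x205 s384 := chk_ok .nil .nil c384
theorem v385 : Valid.{u} x206 s385 := chk_ok .nil .nil c385
theorem v386 : Valid.{u} x87 s386 := chk_ok (.cons v379 (.cons v380 (.cons v381 (.cons v382 (.cons v374 (.cons v383 (.cons v384 (.cons v385 .nil)))))))) .nil c386
theorem v387 : Valid.{u} x87 s387 := chk_ok (.cons v378 (.cons v386 .nil)) .nil c387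
theorem v388 : Valid.{u} x87 s388 := chk_ok (.cons v233 (.cons v387 .nil)) .nil c388
theorem v389 : Valid.{u} x87 s389 := chk_ok (.cons v190 (.cons v388 .nil)) .nil c389
theorem v390 : Valid.{u} x87 s390 := chk_ok (.cons v389 .nil) (.cons k6 .nil) c390
theorem v391 : Valid.{u} x208 s391 := chk_ok .nil .nil c391
theorem v392 : Valid.{u} x209 s392 := chk_ok .nil .nil c392
theorem v393 : Valid.{u} x210 s393 := chk_ok .nil .nil c393
theorem v394 : Valid.{u} x211 s394 := chk_ok .nil .nil c394
theorem v395 : Valid.{u} x212 s395 := chk_ok .nil .nil c395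
theorem v396 : Valid.{u} x213 s396 := chk_ok .nil .nil c396
theorem v397 : Valid.{u} x214 s397 := chk_ok .nil .nil c397
theorem v398 : Valid.{u} x215 s398 := chk_ok .nil .nil c398
theorem v399 : Valid.{u} x216 s399 := chk_ok .nil .nil c399
theorem v400 : Valid.{u} x217 s400 := chk_ok .nil .nil c400
theorem v401 : Valid.{u} x218 s401 := chk_ok .nil .nil c401
theorem v402 : Valid.{u} x221 s402 := chk_ok .nil .nil c402
theorem v403 : Valid.{u} x222 s403 := chk_ok .nil .nil c403
theorem v404 : Valid.{u} x223 s404 := chk_ok .nil .nil c404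
theorem v405 : Valid.{u} x224 s405 := chk_ok .nil .nil c405
theorem v406 : Valid.{u} x225 s406 := chk_ok .nil .nil c406
theorem v407 : Valid.{u} x226 s407 := chk_ok .nil .nil c407
theorem v408 : Valid.{u} x227 s408 := chk_ok .nil .nil c408
theorem v409 : Valid.{u} x228 s409 := chk_ok .nil .nil c409
theorem v410 : Valid.{u} x220 s410 := chk_ok (.cons v402 (.cons v403 (.cons v404 (.cons v405 (.cons v406 (.cons v407 (.cons v408 (.cons v409 .nil)))))))) .nil c410
theorem v411 : Valid.{u} x220 s411 := chk_ok (.cons v410 .nil) .nil c411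
theorem v412 : Valid.{u} x219 s412 := chk_ok (.cons v411 .nil) (.cons k136 .nil) c412
theorem v413 : Valid.{u} x219 s413 := chk_ok (.cons v412 .nil) .nil c413
theorem v414 : Valid.{u} x219 s414 := chk_ok (.cons v413 .nil) (.cons k123 .nil) c414
theorem v415 : Valid.{u} x229 s415 := chk_ok .nil .nil c415
theorem v416 : Valid.{u} x230 s416 := chk_ok .nil .nil c416
theorem v417 : Valid.{u} x231 s417 := chk_ok .nil .nil c417
theorem v418 : Valid.{u} x232 s418 := chk_ok .nil .nil c418
theorem v419 : Valid.{u} x233 s419 := chk_ok .nil .nil c419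
theorem v420 : Valid.{u} x234 s420 := chk_ok .nil .nil c420
theorem v421 : Valid.{u} x235 s421 := chk_ok .nil .nil c421
theorem v422 : Valid.{u} x218 s422 := chk_ok (.cons v414 (.cons v415 (.cons v416 (.cons v417 (.cons v418 (.cons v419 (.cons v420 (.cons v421 .nil)))))))) (.cons k123 (.cons k130 (.cons k131 (.cons k132 .nil)))) c422
theorem v423 : Valid.{u} x236 s423 := chk_ok .nil .nil c423
theorem v424 : Valid.{u} x237 s424 := chk_ok .nil .nil c424
theorem v425 : Valid.{u} x238 s425 := chk_ok .nil .nil c425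
theorem v426 : Valid.{u} x239 s426 := chk_ok .nil .nil c426
theorem v427 : Valid.{u} x240 s427 := chk_ok .nil .nil c427
theorem v428 : Valid.{u} x241 s428 := chk_ok .nil .nil c428
theorem v429 : Valid.{u} x78 s429 := chk_ok (.cons v118 .nil) .nil c429
theorem v430 : Valid.{u} x78 s430 := chk_ok (.cons v429 .nil) .nil c430
theorem v431 : Valid.{u} x243 s431 := chk_ok .nil .nil c431
theorem v432 : Valid.{u} x242 s432 := chk_ok (.cons v430 (.cons v431 (.cons v118 .nil))) (.cons k128 .nil) c432
theorem v433 : Valid.{u} x242 s433 := chk_ok (.cons v432 .nil) .nil c433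
theorem v434 : Valid.{u} x242 s434 := chk_ok (.cons v432 (.cons v433 .nil)) (.cons k127 .nil) c434
theorem v435 : Valid.{u} x244 s435 := chk_ok .nil .nil c435
theorem v436 : Valid.{u} x219 s436 := chk_ok (.cons v423 (.cons v424 (.cons v425 (.cons v426 (.cons v427 (.cons v428 (.cons v434 (.cons v435 .nil)))))))) .nil c436
theorem v437 : Valid.{u} x219 s437 := chk_ok (.cons v436 .nil) .nil c437
theorem v438 : Valid.{u} x219 s438 := chk_ok (.cons v437 .nil) (.cons k123 .nil) c438
theorem v439 : Valid.{u} x219 s439 := chk_ok (.cons v438 .nil) .nil c439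
theorem v440 : Valid.{u} x219 s440 := chk_ok (.cons v439 .nil) (.cons k123 .nil) c440
theorem v441 : Valid.{u} x218 s441 := chk_ok (.cons v440 (.cons v415 (.cons v416 (.cons v417 (.cons v418 (.cons v419 (.cons v420 (.cons v421 .nil)))))))) .nil c441
theorem v442 : Valid.{u} x218 s442 := chk_ok (.cons v422 (.cons v441 .nil)) (.cons k79 .nil) c442
theorem v443 : Valid.{u} x218 s443 := chk_ok (.cons v442 .nil) (.cons k79 .nil) c443
theorem v444 : Valid.{u} x218 s444 := chk_ok .nil .nil c444
theorem v445 : Valid.{u} x218 s445 := chk_ok (.cons v444 .nil) (.cons k79 .nil) c445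
theorem v446 : Valid.{u} x218 s446 := chk_ok .nil .nil c446
theorem v447 : Valid.{u} x218 s447 := chk_ok (.cons v401 (.cons v443 (.cons v445 (.cons v446 .nil)))) (.cons k79 .nil) c447
theorem v448 : Valid.{u} x245 s448 := chk_ok .nil .nil c448
theorem v449 : Valid.{u} x246 s449 := chk_ok .nil .nil c449
theorem v450 : Valid.{u} x247 s450 := chk_ok .nil .nil c450
theorem v451 : Valid.{u} x248 s451 := chk_ok .nil .nil c451
theorem v452 : Valid.{u} x249 s452 := chk_ok .nil .nil c452
theorem v453 : Valid.{u} x215 s453 := chk_ok (.cons v399 (.cons v400 (.cons v447 (.cons v448 (.cons v449 (.cons v450 (.cons v451 (.cons v452 .nil)))))))) (.cons k78 .nil) c453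
theorem v454 : Valid.{u} x216 s454 := chk_ok .nil .nil c454
theorem v455 : Valid.{u} x217 s455 := chk_ok .nil .nil c455
theorem v456 : Valid.{u} x218 s456 := chk_ok .nil .nil c456
theorem v457 : Valid.{u} x250 s457 := chk_ok .nil .nil c457
theorem v458 : Valid.{u} x251 s458 := chk_ok .nil .nil c458
theorem v459 : Valid.{u} x254 s459 := chk_ok .nil .nil c459
theorem v460 : Valid.{u} x253 s460 := chk_ok (.cons v37 (.cons v459 .nil)) (.cons k98 (.cons k116 .nil)) c460
theorem v461 : Valid.{u} x253 s461 := chk_ok (.cons v460 .nil) .nil c461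
theorem v462 : Valid.{u} x253 s462 := chk_ok (.cons v460 (.cons v461 .nil)) (.cons k115 .nil) c462
theorem v463 : Valid.{u} x255 s463 := chk_ok .nil .nil c463
theorem v464 : Valid.{u} x256 s464 := chk_ok .nil .nil c464
theorem v465 : Valid.{u} x257 s465 := chk_ok .nil .nil c465
theorem v466 : Valid.{u} x258 s466 := chk_ok .nil .nil c466
theorem v467 : Valid.{u} x259 s467 := chk_ok .nil .nil c467
theorem v468 : Valid.{u} x260 s468 := chk_ok .nil .nil c468
theorem v469 : Valid.{u} x261 s469 := chk_ok .nil .nil c469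
theorem v470 : Valid.{u} x252 s470 := chk_ok (.cons v462 (.cons v463 (.cons v464 (.cons v465 (.cons v466 (.cons v467 (.cons v468 (.cons v469 .nil)))))))) (.cons k96 .nil) c470
theorem v471 : Valid.{u} x252 s471 := chk_ok (.cons v470 .nil) .nil c471
theorem v472 : Valid.{u} x252 s472 := chk_ok (.cons v471 .nil) (.cons k81 .nil) c472
theorem v473 : Valid.{u} x252 s473 := chk_ok (.cons v472 .nil) .nil c473
theorem v474 : Valid.{u} x252 s474 := chk_ok (.cons v473 .nil) (.cons k81 .nil) c474
theorem v475 : Valid.{u} x262 s475 := chk_ok .nil .nil c475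
theorem v476 : Valid.{u} x263 s476 := chk_ok .nil .nil c476
theorem v477 : Valid.{u} x264 s477 := chk_ok .nil .nil c477
theorem v478 : Valid.{u} x265 s478 := chk_ok .nil .nil c478
theorem v479 : Valid.{u} x266 s479 := chk_ok .nil .nil c479
theorem v480 : Valid.{u} x218 s480 := chk_ok (.cons v457 (.cons v458 (.cons v474 (.cons v475 (.cons v476 (.cons v477 (.cons v478 (.cons v479 .nil)))))))) (.cons k80 (.cons k81 (.cons k86 (.cons k87 .nil)))) c480
theorem v481 : Valid.{u} x267 s481 := chk_ok .nil .nil c481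
theorem v482 : Valid.{u} x268 s482 := chk_ok .nil .nil c482
theorem v483 : Valid.{u} x269 s483 := chk_ok .nil .nil c483
theorem v484 : Valid.{u} x270 s484 := chk_ok .nil .nil c484
theorem v485 : Valid.{u} x271 s485 := chk_ok .nil .nil c485
theorem v486 : Valid.{u} x272 s486 := chk_ok .nil .nil c486
theorem v487 : Valid.{u} x273 s487 := chk_ok .nil .nil c487
theorem v488 : Valid.{u} x274 s488 := chk_ok .nil .nil c488
theorem v489 : Valid.{u} x252 s489 := chk_ok (.cons v481 (.cons v482 (.cons v483 (.cons v484 (.cons v485 (.cons v486 (.cons v487 (.cons v488 .nil)))))))) .nil c489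
theorem v490 : Valid.{u} x252 s490 := chk_ok (.cons v489 .nil) .nil c490
theorem v491 : Valid.{u} x252 s491 := chk_ok (.cons v490 .nil) (.cons k81 .nil) c491
theorem v492 : Valid.{u} x252 s492 := chk_ok (.cons v491 .nil) .nil c492
theorem v493 : Valid.{u} x252 s493 := chk_ok (.cons v492 .nil) (.cons k81 .nil) c493
theorem v494 : Valid.{u} x218 s494 := chk_ok (.cons v457 (.cons v458 (.cons v493 (.cons v475 (.cons v476 (.cons v477 (.cons v478 (.cons v479 .nil)))))))) .nil c494
theorem v495 : Valid.{u} x218 s495 := chk_ok (.cons v480 (.cons v494 .nil)) (.cons k79 .nil) c495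
theorem v496 : Valid.{u} x218 s496 := chk_ok (.cons v495 .nil) (.cons k79 .nil) c496
theorem v497 : Valid.{u} x218 s497 := chk_ok .nil .nil c497
theorem v498 : Valid.{u} x218 s498 := chk_ok (.cons v497 .nil) (.cons k79 .nil) c498
theorem v499 : Valid.{u} x218 s499 := chk_ok .nil .nil c499
theorem v500 : Valid.{u} x218 s500 := chk_ok (.cons v456 (.cons v496 (.cons v498 (.cons v499 .nil)))) (.cons k79 .nil) c500
theorem v501 : Valid.{u} x245 s501 := chk_ok .nil .nil c501
theorem v502 : Valid.{u} x246 s502 := chk_ok .nil .nil c502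
theorem v503 : Valid.{u} x247 s503 := chk_ok .nil .nil c503
theorem v504 : Valid.{u} x248 s504 := chk_ok .nil .nil c504
theorem v505 : Valid.{u} x249 s505 := chk_ok .nil .nil c505
theorem v506 : Valid.{u} x215 s506 := chk_ok (.cons v454 (.cons v455 (.cons v500 (.cons v501 (.cons v502 (.cons v503 (.cons v504 (.cons v505 .nil)))))))) (.cons k78 .nil) c506
theorem v507 : Valid.{u} x215 s507 := chk_ok (.cons v453 (.cons v506 .nil)) .nil c507
theorem v508 : Valid.{u} x215 s508 := chk_ok (.cons v507 .nil) .nil c508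
theorem v509 : Valid.{u} x215 s509 := chk_ok (.cons v398 (.cons v508 .nil)) .nil c509
theorem v510 : Valid.{u} x215 s510 := chk_ok (.cons v509 .nil) (.cons k68 .nil) c510
theorem v511 : Valid.{u} x215 s511 := chk_ok (.cons v510 .nil) (.cons k68 .nil) c511
theorem v512 : Valid.{u} x207 s512 := chk_ok (.cons v391 (.cons v392 (.cons v393 (.cons v394 (.cons v395 (.cons v396 (.cons v397 (.cons v511 .nil)))))))) .nil c512
theorem v513 : Valid.{u} x208 s513 := chk_ok .nil .nil c513
theorem v514 : Valid.{u} x209 s514 := chk_ok .nil .nil c514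
theorem v515 : Valid.{u} x210 s515 := chk_ok .nil .nil c515
theorem v516 : Valid.{u} x211 s516 := chk_ok .nil .nil c516
theorem v517 : Valid.{u} x212 s517 := chk_ok .nil .nil c517
theorem v518 : Valid.{u} x213 s518 := chk_ok .nil .nil c518
theorem v519 : Valid.{u} x214 s519 := chk_ok .nil .nil c519
theorem v520 : Valid.{u} x275 s520 := chk_ok .nil .nil c520
theorem v521 : Valid.{u} x276 s521 := chk_ok .nil .nil c521
theorem v522 : Valid.{u} x215 s522 := chk_ok (.cons v520 (.cons v521 .nil)) (.cons k76 .nil) c522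
theorem v523 : Valid.{u} x215 s523 := chk_ok (.cons v522 .nil) (.cons k68 .nil) c523
theorem v524 : Valid.{u} x215 s524 := chk_ok (.cons v523 .nil) .nil c524
theorem v525 : Valid.{u} x215 s525 := chk_ok .nil .nil c525
theorem v526 : Valid.{u} x215 s526 := chk_ok (.cons v524 (.cons v525 .nil)) .nil c526
theorem v527 : Valid.{u} x215 s527 := chk_ok (.cons v526 .nil) (.cons k68 .nil) c527
theorem v528 : Valid.{u} x215 s528 := chk_ok (.cons v527 .nil) (.cons k68 .nil) c528
theorem v529 : Valid.{u} x207 s529 := chk_ok (.cons v513 (.cons v514 (.cons v515 (.cons v516 (.cons v517 (.cons v518 (.cons v519 (.cons v528 .nil)))))))) .nil c529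
theorem v530 : Valid.{u} x207 s530 := chk_ok (.cons v512 (.cons v529 .nil)) .nil c530
theorem v531 : Valid.{u} x277 s531 := chk_ok .nil .nil c531
theorem v532 : Valid.{u} x278 s532 := chk_ok .nil .nil c532
theorem v533 : Valid.{u} x279 s533 := chk_ok .nil .nil c533
theorem v534 : Valid.{u} x280 s534 := chk_ok .nil .nil c534
theorem v535 : Valid.{u} x281 s535 := chk_ok .nil .nil c535
theorem v536 : Valid.{u} x282 s536 := chk_ok .nil .nil c536
theorem v537 : Valid.{u} x283 s537 := chk_ok .nil .nil c537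
theorem v538 : Valid.{u} x284 s538 := chk_ok .nil .nil c538
theorem v539 : Valid.{u} x207 s539 := chk_ok (.cons v531 (.cons v532 (.cons v533 (.cons v534 (.cons v535 (.cons v536 (.cons v537 (.cons v538 .nil)))))))) .nil c539
theorem v540 : Valid.{u} x277 s540 := chk_ok .nil .nil c540
theorem v541 : Valid.{u} x278 s541 := chk_ok .nil .nil c541
theorem v542 : Valid.{u} x279 s542 := chk_ok .nil .nil c542
theorem v543 : Valid.{u} x280 s543 := chk_ok .nil .nil c543
theorem v544 : Valid.{u} x281 s544 := chk_ok .nil .nil c544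
theorem v545 : Valid.{u} x282 s545 := chk_ok .nil .nil c545
theorem v546 : Valid.{u} x283 s546 := chk_ok .nil .nil c546
theorem v547 : Valid.{u} x284 s547 := chk_ok .nil .nil c547
theorem v548 : Valid.{u} x207 s548 := chk_ok (.cons v540 (.cons v541 (.cons v542 (.cons v543 (.cons v544 (.cons v545 (.cons v546 (.cons v547 .nil)))))))) .nil c548
theorem v549 : Valid.{u} x207 s549 := chk_ok (.cons v539 (.cons v548 .nil)) .nil c549
theorem v550 : Valid.{u} x207 s550 := chk_ok (.cons v530 (.cons v549 .nil)) .nil c550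
theorem v551 : Valid.{u} x285 s551 := chk_ok .nil .nil c551
theorem v552 : Valid.{u} x286 s552 := chk_ok .nil .nil c552
theorem v553 : Valid.{u} x287 s553 := chk_ok .nil .nil c553
theorem v554 : Valid.{u} x288 s554 := chk_ok .nil .nil c554
theorem v555 : Valid.{u} x289 s555 := chk_ok .nil .nil c555
theorem v556 : Valid.{u} x290 s556 := chk_ok .nil .nil c556
theorem v557 : Valid.{u} x290 s557 := chk_ok (.cons v556 .nil) (.cons k56 .nil) c557
theorem v558 : Valid.{u} x291 s558 := chk_ok .nil .nil c558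
theorem v559 : Valid.{u} x292 s559 := chk_ok .nil .nil c559
theorem v560 : Valid.{u} x293 s560 := chk_ok .nil .nil c560
theorem v561 : Valid.{u} x294 s561 := chk_ok .nil .nil c561
theorem v562 : Valid.{u} x295 s562 := chk_ok .nil .nil c562
theorem v563 : Valid.{u} x296 s563 := chk_ok .nil .nil c563
theorem v564 : Valid.{u} x297 s564 := chk_ok .nil .nil c564
theorem v565 : Valid.{u} x289 s565 := chk_ok (.cons v557 (.cons v558 (.cons v559 (.cons v560 (.cons v561 (.cons v562 (.cons v563 (.cons v564 .nil)))))))) .nil c565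
theorem v566 : Valid.{u} x290 s566 := chk_ok .nil .nil c566
theorem v567 : Valid.{u} x290 s567 := chk_ok (.cons v566 .nil) (.cons k56 .nil) c567
theorem v568 : Valid.{u} x291 s568 := chk_ok .nil .nil c568
theorem v569 : Valid.{u} x292 s569 := chk_ok .nil .nil c569
theorem v570 : Valid.{u} x293 s570 := chk_ok .nil .nil c570
theorem v571 : Valid.{u} x294 s571 := chk_ok .nil .nil c571
theorem v572 : Valid.{u} x295 s572 := chk_ok .nil .nil c572
theorem v573 : Valid.{u} x296 s573 := chk_ok .nil .nil c573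
theorem v574 : Valid.{u} x297 s574 := chk_ok .nil .nil c574
theorem v575 : Valid.{u} x289 s575 := chk_ok (.cons v567 (.cons v568 (.cons v569 (.cons v570 (.cons v571 (.cons v572 (.cons v573 (.cons v574 .nil)))))))) .nil c575
theorem v576 : Valid.{u} x289 s576 := chk_ok (.cons v565 (.cons v575 .nil)) .nil c576
theorem v577 : Valid.{u} x289 s577 := chk_ok (.cons v576 .nil) .nil c577
theorem v578 : Valid.{u} x289 s578 := chk_ok (.cons v555 (.cons v577 .nil)) .nil c578
theorem v579 : Valid.{u} x289 s579 := chk_ok (.cons v578 .nil) (.cons k55 .nil) c579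
theorem v580 : Valid.{u} x289 s580 := chk_ok (.cons v579 .nil) (.cons k55 .nil) c580
theorem v581 : Valid.{u} x298 s581 := chk_ok .nil .nil c581
theorem v582 : Valid.{u} x299 s582 := chk_ok .nil .nil c582
theorem v583 : Valid.{u} x300 s583 := chk_ok .nil .nil c583
theorem v584 : Valid.{u} x207 s584 := chk_ok (.cons v551 (.cons v552 (.cons v553 (.cons v554 (.cons v580 (.cons v581 (.cons v582 (.cons v583 .nil)))))))) (.cons k53 .nil) c584
theorem v585 : Valid.{u} x286 s585 := chk_ok .nil .nil c585
theorem v586 : Valid.{u} x287 s586 := chk_ok .nil .nil c586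
theorem v587 : Valid.{u} x288 s587 := chk_ok .nil .nil c587
theorem v588 : Valid.{u} x289 s588 := chk_ok (.cons v578 .nil) (.cons k55 .nil) c588
theorem v589 : Valid.{u} x289 s589 := chk_ok (.cons v588 .nil) (.cons k55 .nil) c589
theorem v590 : Valid.{u} x298 s590 := chk_ok .nil .nil c590
theorem v591 : Valid.{u} x299 s591 := chk_ok .nil .nil c591
theorem v592 : Valid.{u} x300 s592 := chk_ok .nil .nil c592
theorem v593 : Valid.{u} x207 s593 := chk_ok (.cons v551 (.cons v585 (.cons v586 (.cons v587 (.cons v589 (.cons v590 (.cons v591 (.cons v592 .nil)))))))) .nil c593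
theorem v594 : Valid.{u} x207 s594 := chk_ok (.cons v584 (.cons v593 .nil)) .nil c594
theorem v595 : Valid.{u} x302 s595 := chk_ok .nil .nil c595
theorem v596 : Valid.{u} x303 s596 := chk_ok .nil .nil c596
theorem v597 : Valid.{u} x304 s597 := chk_ok .nil .nil c597
theorem v598 : Valid.{u} x305 s598 := chk_ok .nil .nil c598
theorem v599 : Valid.{u} x306 s599 := chk_ok .nil .nil c599
theorem v600 : Valid.{u} x307 s600 := chk_ok .nil .nil c600
theorem v601 : Valid.{u} x308 s601 := chk_ok .nil .nil c601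
theorem v602 : Valid.{u} x309 s602 := chk_ok .nil .nil c602
theorem v603 : Valid.{u} x301 s603 := chk_ok (.cons v595 (.cons v596 (.cons v597 (.cons v598 (.cons v599 (.cons v600 (.cons v601 (.cons v602 .nil)))))))) .nil c603
theorem v604 : Valid.{u} x301 s604 := chk_ok (.cons v603 .nil) .nil c604
theorem v605 : Valid.{u} x310 s605 := chk_ok .nil .nil c605
theorem v606 : Valid.{u} x311 s606 := chk_ok .nil .nil c606
theorem v607 : Valid.{u} x312 s607 := chk_ok .nil .nil c607
theorem v608 : Valid.{u} x313 s608 := chk_ok .nil .nil c608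
theorem v609 : Valid.{u} x314 s609 := chk_ok .nil .nil c609
theorem v610 : Valid.{u} x315 s610 := chk_ok .nil .nil c610
theorem v611 : Valid.{u} x316 s611 := chk_ok .nil .nil c611
theorem v612 : Valid.{u} x317 s612 := chk_ok .nil .nil c612
theorem v613 : Valid.{u} x301 s613 := chk_ok (.cons v605 (.cons v606 (.cons v607 (.cons v608 (.cons v609 (.cons v610 (.cons v611 (.cons v612 .nil)))))))) .nil c613
theorem v614 : Valid.{u} x301 s614 := chk_ok (.cons v613 .nil) .nil c614
theorem v615 : Valid.{u} x301 s615 := chk_ok (.cons v604 (.cons v614 .nil)) (.cons k7 .nil) c615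
theorem v616 : Valid.{u} x301 s616 := chk_ok .nil .nil c616
theorem v617 : Valid.{u} x301 s617 := chk_ok (.cons v616 .nil) .nil c617
theorem v618 : Valid.{u} x301 s618 := chk_ok .nil .nil c618
theorem v619 : Valid.{u} x301 s619 := chk_ok (.cons v618 .nil) .nil c619
theorem v620 : Valid.{u} x301 s620 := chk_ok (.cons v617 (.cons v619 .nil)) (.cons k7 .nil) c620
theorem v621 : Valid.{u} x301 s621 := chk_ok (.cons v615 (.cons v620 .nil)) (.cons k7 .nil) c621
theorem v622 : Valid.{u} x301 s622 := chk_ok (.cons v621 .nil) .nil c622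
theorem v623 : Valid.{u} x301 s623 := chk_ok .nil .nil c623
theorem v624 : Valid.{u} x301 s624 := chk_ok (.cons v604 (.cons v623 .nil)) .nil c624
theorem v625 : Valid.{u} x301 s625 := chk_ok .nil .nil c625
theorem v626 : Valid.{u} x301 s626 := chk_ok (.cons v617 (.cons v625 .nil)) .nil c626
theorem v627 : Valid.{u} x301 s627 := chk_ok (.cons v624 (.cons v626 .nil)) (.cons k7 .nil) c627
theorem v628 : Valid.{u} x301 s628 := chk_ok (.cons v627 .nil) .nil c628
theorem v629 : Valid.{u} x320 s629 := chk_ok .nil .nil c629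
theorem v630 : Valid.{u} x320 s630 := chk_ok (.cons v629 .nil) .nil c630
theorem v631 : Valid.{u} x320 s631 := chk_ok (.cons v630 .nil) (.cons k13 .nil) c631
theorem v632 : Valid.{u} x321 s632 := chk_ok .nil .nil c632
theorem v633 : Valid.{u} x322 s633 := chk_ok .nil .nil c633
theorem v634 : Valid.{u} x323 s634 := chk_ok .nil .nil c634
theorem v635 : Valid.{u} x324 s635 := chk_ok .nil .nil c635
theorem v636 : Valid.{u} x325 s636 := chk_ok .nil .nil c636
theorem v637 : Valid.{u} x326 s637 := chk_ok .nil .nil c637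
theorem v638 : Valid.{u} x327 s638 := chk_ok .nil .nil c638
theorem v639 : Valid.{u} x319 s639 := chk_ok (.cons v631 (.cons v632 (.cons v633 (.cons v634 (.cons v635 (.cons v636 (.cons v637 (.cons v638 .nil)))))))) .nil c639
theorem v640 : Valid.{u} x319 s640 := chk_ok (.cons v639 .nil) (.cons k8 .nil) c640
theorem v641 : Valid.{u} x328 s641 := chk_ok .nil .nil c641
theorem v642 : Valid.{u} x328 s642 := chk_ok (.cons v641 .nil) .nil c642
theorem v643 : Valid.{u} x328 s643 := chk_ok (.cons v642 .nil) (.cons k17 .nil) c643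
theorem v644 : Valid.{u} x329 s644 := chk_ok .nil .nil c644
theorem v645 : Valid.{u} x330 s645 := chk_ok .nil .nil c645
theorem v646 : Valid.{u} x331 s646 := chk_ok .nil .nil c646
theorem v647 : Valid.{u} x332 s647 := chk_ok .nil .nil c647
theorem v648 : Valid.{u} x333 s648 := chk_ok .nil .nil c648
theorem v649 : Valid.{u} x334 s649 := chk_ok .nil .nil c649
theorem v650 : Valid.{u} x335 s650 := chk_ok .nil .nil c650
theorem v651 : Valid.{u} x319 s651 := chk_ok (.cons v643 (.cons v644 (.cons v645 (.cons v646 (.cons v647 (.cons v648 (.cons v649 (.cons v650 .nil)))))))) .nil c651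
theorem v652 : Valid.{u} x319 s652 := chk_ok (.cons v651 .nil) (.cons k8 .nil) c652
theorem v653 : Valid.{u} x336 s653 := chk_ok (.cons v630 .nil) (.cons k13 .nil) c653
theorem v654 : Valid.{u} x337 s654 := chk_ok .nil .nil c654
theorem v655 : Valid.{u} x338 s655 := chk_ok .nil .nil c655
theorem v656 : Valid.{u} x339 s656 := chk_ok .nil .nil c656
theorem v657 : Valid.{u} x340 s657 := chk_ok .nil .nil c657
theorem v658 : Valid.{u} x341 s658 := chk_ok .nil .nil c658
theorem v659 : Valid.{u} x342 s659 := chk_ok .nil .nil c659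
theorem v660 : Valid.{u} x343 s660 := chk_ok .nil .nil c660
theorem v661 : Valid.{u} x318 s661 := chk_ok (.cons v653 (.cons v654 (.cons v655 (.cons v656 (.cons v657 (.cons v658 (.cons v659 (.cons v660 .nil)))))))) (.cons k21 .nil) c661
theorem v662 : Valid.{u} x318 s662 := chk_ok (.cons v661 .nil) (.cons k22 .nil) c662
theorem v663 : Valid.{u} x344 s663 := chk_ok .nil .nil c663
theorem v664 : Valid.{u} x344 s664 := chk_ok (.cons v663 .nil) .nil c664
theorem v665 : Valid.{u} x344 s665 := chk_ok .nil .nil c665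
theorem v666 : Valid.{u} x344 s666 := chk_ok (.cons v664 (.cons v665 .nil)) (.cons k75 .nil) c666
theorem v667 : Valid.{u} x344 s667 := chk_ok (.cons v666 .nil) .nil c667
theorem v668 : Valid.{u} x344 s668 := chk_ok (.cons v667 .nil) (.cons k9 .nil) c668
theorem v669 : Valid.{u} x346 s669 := chk_ok .nil .nil c669
theorem v670 : Valid.{u} x347 s670 := chk_ok .nil .nil c670
theorem v671 : Valid.{u} x348 s671 := chk_ok .nil .nil c671
theorem v672 : Valid.{u} x349 s672 := chk_ok .nil .nil c672
theorem v673 : Valid.{u} x350 s673 := chk_ok .nil .nil c673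
theorem v674 : Valid.{u} x351 s674 := chk_ok .nil .nil c674
theorem v675 : Valid.{u} x352 s675 := chk_ok .nil .nil c675
theorem v676 : Valid.{u} x319 s676 := chk_ok (.cons v668 (.cons v669 (.cons v670 (.cons v671 (.cons v672 (.cons v673 (.cons v674 (.cons v675 .nil)))))))) .nil c676
theorem v677 : Valid.{u} x319 s677 := chk_ok (.cons v676 .nil) (.cons k8 .nil) c677
theorem v678 : Valid.{u} x318 s678 := chk_ok (.cons v640 (.cons v652 (.cons v662 (.cons v677 .nil)))) (.cons k8 .nil) c678
theorem v679 : Valid.{u} x353 s679 := chk_ok .nil .nil c679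
theorem v680 : Valid.{u} x354 s680 := chk_ok .nil .nil c680
theorem v681 : Valid.{u} x355 s681 := chk_ok .nil .nil c681
theorem v682 : Valid.{u} x356 s682 := chk_ok .nil .nil c682
theorem v683 : Valid.{u} x357 s683 := chk_ok .nil .nil c683
theorem v684 : Valid.{u} x358 s684 := chk_ok .nil .nil c684
theorem v685 : Valid.{u} x359 s685 := chk_ok .nil .nil c685
theorem v686 : Valid.{u} x301 s686 := chk_ok (.cons v678 (.cons v679 (.cons v680 (.cons v681 (.cons v682 (.cons v683 (.cons v684 (.cons v685 .nil)))))))) .nil c686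
theorem v687 : Valid.{u} x301 s687 := chk_ok (.cons v686 .nil) .nil c687
theorem v688 : Valid.{u} x301 s688 := chk_ok .nil .nil c688
theorem v689 : Valid.{u} x301 s689 := chk_ok (.cons v687 (.cons v688 .nil)) .nil c689
theorem v690 : Valid.{u} x301 s690 := chk_ok .nil .nil c690
theorem v691 : Valid.{u} x301 s691 := chk_ok (.cons v690 .nil) .nil c691
theorem v692 : Valid.{u} x301 s692 := chk_ok .nil .nil c692
theorem v693 : Valid.{u} x301 s693 := chk_ok (.cons v691 (.cons v692 .nil)) .nil c693
theorem v694 : Valid.{u} x301 s694 := chk_ok (.cons v689 (.cons v693 .nil)) (.cons k7 .nil) c694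
theorem v695 : Valid.{u} x301 s695 := chk_ok (.cons v694 .nil) .nil c695
theorem v696 : Valid.{u} x301 s696 := chk_ok (.cons v628 (.cons v695 .nil)) .nil c696
theorem v697 : Valid.{u} x301 s697 := chk_ok (.cons v626 (.cons v624 .nil)) .nil c697
theorem v698 : Valid.{u} x301 s698 := chk_ok (.cons v697 .nil) .nil c698
theorem v699 : Valid.{u} x301 s699 := chk_ok (.cons v693 (.cons v689 .nil)) .nil c699
theorem v700 : Valid.{u} x301 s700 := chk_ok (.cons v699 .nil) .nil c700
theorem v701 : Valid.{u} x301 s701 := chk_ok (.cons v698 (.cons v700 .nil)) .nil c701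
theorem v702 : Valid.{u} x301 s702 := chk_ok (.cons v696 (.cons v701 .nil)) .nil c702
theorem v703 : Valid.{u} x301 s703 := chk_ok (.cons v702 .nil) (.cons k7 .nil) c703
theorem v704 : Valid.{u} x301 s704 := chk_ok (.cons v622 (.cons v703 .nil)) (.cons k7 .nil) c704
theorem v705 : Valid.{u} x301 s705 := chk_ok (.cons v620 (.cons v615 .nil)) .nil c705
theorem v706 : Valid.{u} x301 s706 := chk_ok (.cons v705 .nil) .nil c706
theorem v707 : Valid.{u} x301 s707 := chk_ok (.cons v706 (.cons v703 .nil)) .nil c707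
theorem v708 : Valid.{u} x301 s708 := chk_ok (.cons v704 (.cons v707 .nil)) .nil c708
theorem v709 : Valid.{u} x301 s709 := chk_ok (.cons v708 .nil) (.cons k7 .nil) c709
theorem v710 : Valid.{u} x360 s710 := chk_ok .nil .nil c710
theorem v711 : Valid.{u} x361 s711 := chk_ok .nil .nil c711
theorem v712 : Valid.{u} x362 s712 := chk_ok .nil .nil c712
theorem v713 : Valid.{u} x363 s713 := chk_ok .nil .nil c713
theorem v714 : Valid.{u} x364 s714 := chk_ok .nil .nil c714
theorem v715 : Valid.{u} x365 s715 := chk_ok .nil .nil c715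
theorem v716 : Valid.{u} x366 s716 := chk_ok .nil .nil c716
theorem v717 : Valid.{u} x207 s717 := chk_ok (.cons v709 (.cons v710 (.cons v711 (.cons v712 (.cons v713 (.cons v714 (.cons v715 (.cons v716 .nil)))))))) (.cons k47 .nil) c717
theorem v718 : Valid.{u} x301 s718 := chk_ok (.cons v702 .nil) (.cons k7 .nil) c718
theorem v719 : Valid.{u} x360 s719 := chk_ok .nil .nil c719
theorem v720 : Valid.{u} x361 s720 := chk_ok .nil .nil c720
theorem v721 : Valid.{u} x362 s721 := chk_ok .nil .nil c721
theorem v722 : Valid.{u} x364 s722 := chk_ok .nil .nil c722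
theorem v723 : Valid.{u} x365 s723 := chk_ok .nil .nil c723
theorem v724 : Valid.{u} x366 s724 := chk_ok .nil .nil c724
theorem v725 : Valid.{u} x207 s725 := chk_ok (.cons v718 (.cons v719 (.cons v720 (.cons v721 (.cons v713 (.cons v722 (.cons v723 (.cons v724 .nil)))))))) .nil c725
theorem v726 : Valid.{u} x207 s726 := chk_ok (.cons v717 (.cons v725 .nil)) .nil c726
theorem v727 : Valid.{u} x207 s727 := chk_ok (.cons v594 (.cons v726 .nil)) .nil c727
theorem v728 : Valid.{u} x207 s728 := chk_ok (.cons v550 (.cons v727 .nil)) .nil c728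
theorem v729 : Valid.{u} x207 s729 := chk_ok (.cons v728 .nil) (.cons k6 .nil) c729
theorem v730 : Valid.{u} x367 s730 := chk_ok .nil .nil c730
theorem v731 : Valid.{u} x368 s731 := chk_ok .nil .nil c731
theorem v732 : Valid.{u} x370 s732 := chk_ok .nil .nil c732
theorem v733 : Valid.{u} x371 s733 := chk_ok .nil .nil c733
theorem v734 : Valid.{u} x372 s734 := chk_ok .nil .nil c734
theorem v735 : Valid.{u} x373 s735 := chk_ok .nil .nil c735
theorem v736 : Valid.{u} x373 s736 := chk_ok .nil .nil c736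
theorem v737 : Valid.{u} x374 s737 := chk_ok .nil .nil c737
theorem v738 : Valid.{u} x375 s738 := chk_ok .nil .nil c738
theorem v739 : Valid.{u} x376 s739 := chk_ok (.cons v447 (.cons v500 .nil)) (.cons k79 .nil) c739
theorem v740 : Valid.{u} x376 s740 := chk_ok (.cons v739 .nil) (.cons k478 .nil) c740
theorem v741 : Valid.{u} x376 s741 := chk_ok (.cons v740 .nil) (.cons k478 .nil) c741
theorem v742 : Valid.{u} x377 s742 := chk_ok .nil .nil c742
theorem v743 : Valid.{u} x378 s743 := chk_ok .nil .nil c743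
theorem v744 : Valid.{u} x379 s744 := chk_ok .nil .nil c744
theorem v745 : Valid.{u} x380 s745 := chk_ok .nil .nil c745
theorem v746 : Valid.{u} x381 s746 := chk_ok .nil .nil c746
theorem v747 : Valid.{u} x373 s747 := chk_ok (.cons v737 (.cons v738 (.cons v741 (.cons v742 (.cons v743 (.cons v744 (.cons v745 (.cons v746 .nil)))))))) .nil c747
theorem v748 : Valid.{u} x373 s748 := chk_ok (.cons v747 .nil) (.cons k476 .nil) c748
theorem v749 : Valid.{u} x373 s749 := chk_ok .nil .nil c749
theorem v750 : Valid.{u} x373 s750 := chk_ok (.cons v735 (.cons v736 (.cons v748 (.cons v749 .nil)))) .nil c750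
theorem v751 : Valid.{u} x382 s751 := chk_ok .nil .nil c751
theorem v752 : Valid.{u} x383 s752 := chk_ok .nil .nil c752
theorem v753 : Valid.{u} x384 s753 := chk_ok .nil .nil c753
theorem v754 : Valid.{u} x385 s754 := chk_ok .nil .nil c754
theorem v755 : Valid.{u} x369 s755 := chk_ok (.cons v732 (.cons v733 (.cons v734 (.cons v750 (.cons v751 (.cons v752 (.cons v753 (.cons v754 .nil)))))))) .nil c755
theorem v756 : Valid.{u} x369 s756 := chk_ok (.cons v755 .nil) (.cons k474 .nil) c756
theorem v757 : Valid.{u} x369 s757 := chk_ok .nil .nil c757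
theorem v758 : Valid.{u} x369 s758 := chk_ok (.cons v756 (.cons v757 .nil)) .nil c758
theorem v759 : Valid.{u} x369 s759 := chk_ok (.cons v758 .nil) .nil c759
theorem v760 : Valid.{u} x369 s760 := chk_ok (.cons v759 .nil) .nil c760
theorem v761 : Valid.{u} x386 s761 := chk_ok .nil .nil c761
theorem v762 : Valid.{u} x386 s762 := chk_ok (.cons v761 .nil) .nil c762
theorem v763 : Valid.{u} x386 s763 := chk_ok (.cons v762 .nil) .nil c763
theorem v764 : Valid.{u} x386 s764 := chk_ok (.cons v763 .nil) .nil c764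
theorem v765 : Valid.{u} x387 s765 := chk_ok .nil .nil c765
theorem v766 : Valid.{u} x388 s766 := chk_ok .nil .nil c766
theorem v767 : Valid.{u} x390 s767 := chk_ok .nil .nil c767
theorem v768 : Valid.{u} x391 s768 := chk_ok .nil .nil c768
theorem v769 : Valid.{u} x392 s769 := chk_ok .nil .nil c769
theorem v770 : Valid.{u} x393 s770 := chk_ok .nil .nil c770
theorem v771 : Valid.{u} x394 s771 := chk_ok .nil .nil c771
theorem v772 : Valid.{u} x395 s772 := chk_ok .nil .nil c772
theorem v773 : Valid.{u} x389 s773 := chk_ok (.cons v767 (.cons v768 (.cons v769 (.cons v770 (.cons v771 (.cons v772 .nil)))))) (.cons k454 .nil) c773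
theorem v774 : Valid.{u} x396 s774 := chk_ok .nil .nil c774
theorem v775 : Valid.{u} x397 s775 := chk_ok .nil .nil c775
theorem v776 : Valid.{u} x398 s776 := chk_ok .nil .nil c776
theorem v777 : Valid.{u} x399 s777 := chk_ok .nil .nil c777
theorem v778 : Valid.{u} x389 s778 := chk_ok (.cons v774 (.cons v775 (.cons v776 (.cons v777 .nil)))) (.cons k450 (.cons k452 (.cons k451 .nil))) c778
theorem v779 : Valid.{u} x389 s779 := chk_ok (.cons v773 (.cons v778 .nil)) .nil c779
theorem v780 : Valid.{u} x389 s780 := chk_ok (.cons v779 .nil) .nil c780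
theorem v781 : Valid.{u} x389 s781 := chk_ok (.cons v780 .nil) .nil c781
theorem v782 : Valid.{u} x389 s782 := chk_ok (.cons v781 .nil) .nil c782
theorem v783 : Valid.{u} x401 s783 := chk_ok .nil .nil c783
theorem v784 : Valid.{u} x402 s784 := chk_ok .nil .nil c784
theorem v785 : Valid.{u} x403 s785 := chk_ok .nil .nil c785
theorem v786 : Valid.{u} x404 s786 := chk_ok .nil .nil c786
theorem v787 : Valid.{u} x400 s787 := chk_ok (.cons v783 (.cons v784 (.cons v785 (.cons v786 .nil)))) (.cons k455 (.cons k454 (.cons k456 .nil))) c787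
theorem v788 : Valid.{u} x406 s788 := chk_ok .nil .nil c788
theorem v789 : Valid.{u} x405 s789 := chk_ok (.cons v8 (.cons v788 .nil)) (.cons k185 (.cons k462 .nil)) c789
theorem v790 : Valid.{u} x407 s790 := chk_ok .nil .nil c790
theorem v791 : Valid.{u} x405 s791 := chk_ok (.cons v84 (.cons v790 .nil)) (.cons k173 (.cons k458 .nil)) c791
theorem v792 : Valid.{u} x405 s792 := chk_ok (.cons v789 (.cons v791 .nil)) (.cons k450 .nil) c792
theorem v793 : Valid.{u} x408 s793 := chk_ok .nil .nil c793
theorem v794 : Valid.{u} x405 s794 := chk_ok (.cons v793 (.cons v7 .nil)) (.cons k185 (.cons k460 .nil)) c794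
theorem v795 : Valid.{u} x407 s795 := chk_ok .nil .nil c795
theorem v796 : Valid.{u} x405 s796 := chk_ok (.cons v81 (.cons v795 .nil)) (.cons k173 (.cons k458 .nil)) c796
theorem v797 : Valid.{u} x405 s797 := chk_ok (.cons v794 (.cons v796 .nil)) (.cons k450 .nil) c797
theorem v798 : Valid.{u} x405 s798 := chk_ok (.cons v792 (.cons v797 .nil)) .nil c798
theorem v799 : Valid.{u} x405 s799 := chk_ok .nil .nil c799
theorem v800 : Valid.{u} x405 s800 := chk_ok (.cons v798 (.cons v799 .nil)) .nil c800
theorem v801 : Valid.{u} x405 s801 := chk_ok .nil .nil c801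
theorem v802 : Valid.{u} x405 s802 := chk_ok (.cons v796 (.cons v791 .nil)) .nil c802
theorem v803 : Valid.{u} x405 s803 := chk_ok (.cons v802 .nil) (.cons k450 .nil) c803
theorem v804 : Valid.{u} x405 s804 := chk_ok (.cons v801 (.cons v803 .nil)) .nil c804
theorem v805 : Valid.{u} x405 s805 := chk_ok (.cons v800 (.cons v804 .nil)) .nil c805
theorem v806 : Valid.{u} x405 s806 := chk_ok (.cons v805 .nil) (.cons k450 .nil) c806
theorem v807 : Valid.{u} x405 s807 := chk_ok (.cons v806 .nil) (.cons k450 .nil) c807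
theorem v808 : Valid.{u} x409 s808 := chk_ok .nil .nil c808
theorem v809 : Valid.{u} x410 s809 := chk_ok .nil .nil c809
theorem v810 : Valid.{u} x411 s810 := chk_ok .nil .nil c810
theorem v811 : Valid.{u} x412 s811 := chk_ok .nil .nil c811
theorem v812 : Valid.{u} x413 s812 := chk_ok .nil .nil c812
theorem v813 : Valid.{u} x400 s813 := chk_ok (.cons v807 (.cons v808 (.cons v809 (.cons v810 (.cons v811 (.cons v812 .nil)))))) (.cons k451 .nil) c813
theorem v814 : Valid.{u} x400 s814 := chk_ok (.cons v787 (.cons v813 .nil)) .nil c814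
theorem v815 : Valid.{u} x400 s815 := chk_ok (.cons v814 .nil) .nil c815
theorem v816 : Valid.{u} x400 s816 := chk_ok (.cons v815 .nil) .nil c816
theorem v817 : Valid.{u} x400 s817 := chk_ok (.cons v816 .nil) .nil c817
theorem v818 : Valid.{u} x415 s818 := chk_ok .nil .nil c818
theorem v819 : Valid.{u} x416 s819 := chk_ok .nil .nil c819
theorem v820 : Valid.{u} x417 s820 := chk_ok .nil .nil c820
theorem v821 : Valid.{u} x418 s821 := chk_ok .nil .nil c821
theorem v822 : Valid.{u} x419 s822 := chk_ok .nil .nil c822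
theorem v823 : Valid.{u} x420 s823 := chk_ok .nil .nil c823
theorem v824 : Valid.{u} x421 s824 := chk_ok .nil .nil c824
theorem v825 : Valid.{u} x422 s825 := chk_ok .nil .nil c825
theorem v826 : Valid.{u} x414 s826 := chk_ok (.cons v818 (.cons v819 (.cons v820 (.cons v821 (.cons v822 (.cons v823 (.cons v824 (.cons v825 .nil)))))))) .nil c826
theorem v827 : Valid.{u} x423 s827 := chk_ok .nil .nil c827
theorem v828 : Valid.{u} x424 s828 := chk_ok .nil .nil c828
theorem v829 : Valid.{u} x425 s829 := chk_ok .nil .nil c829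
theorem v830 : Valid.{u} x426 s830 := chk_ok .nil .nil c830
theorem v831 : Valid.{u} x427 s831 := chk_ok .nil .nil c831
theorem v832 : Valid.{u} x428 s832 := chk_ok .nil .nil c832
theorem v833 : Valid.{u} x429 s833 := chk_ok .nil .nil c833
theorem v834 : Valid.{u} x430 s834 := chk_ok .nil .nil c834
theorem v835 : Valid.{u} x414 s835 := chk_ok (.cons v827 (.cons v828 (.cons v829 (.cons v830 (.cons v831 (.cons v832 (.cons v833 (.cons v834 .nil)))))))) .nil c835
theorem v836 : Valid.{u} x414 s836 := chk_ok (.cons v826 (.cons v835 .nil)) .nil c836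
theorem v837 : Valid.{u} x414 s837 := chk_ok (.cons v836 .nil) .nil c837
theorem v838 : Valid.{u} x414 s838 := chk_ok (.cons v837 .nil) .nil c838
theorem v839 : Valid.{u} x414 s839 := chk_ok (.cons v838 .nil) .nil c839
theorem v840 : Valid.{u} x432 s840 := chk_ok .nil .nil c840
theorem v841 : Valid.{u} x432 s841 := chk_ok (.cons v840 .nil) (.cons k447 .nil) c841
theorem v842 : Valid.{u} x433 s842 := chk_ok .nil .nil c842
theorem v843 : Valid.{u} x431 s843 := chk_ok (.cons v841 (.cons v842 .nil)) (.cons k447 (.cons k448 .nil)) c843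
theorem v844 : Valid.{u} x431 s844 := chk_ok (.cons v843 .nil) .nil c844
theorem v845 : Valid.{u} x431 s845 := chk_ok (.cons v844 .nil) .nil c845
theorem v846 : Valid.{u} x431 s846 := chk_ok (.cons v845 .nil) .nil c846
theorem v847 : Valid.{u} x435 s847 := chk_ok .nil .nil c847
theorem v848 : Valid.{u} x435 s848 := chk_ok (.cons v847 .nil) .nil c848
theorem v849 : Valid.{u} x435 s849 := chk_ok (.cons v848 .nil) (.cons k444 .nil) c849
theorem v850 : Valid.{u} x436 s850 := chk_ok .nil .nil c850
theorem v851 : Valid.{u} x434 s851 := chk_ok (.cons v849 (.cons v850 .nil)) (.cons k444 (.cons k445 .nil)) c851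
theorem v852 : Valid.{u} x434 s852 := chk_ok (.cons v851 .nil) (.cons k441 .nil) c852
theorem v853 : Valid.{u} x437 s853 := chk_ok .nil .nil c853
theorem v854 : Valid.{u} x437 s854 := chk_ok (.cons v853 .nil) .nil c854
theorem v855 : Valid.{u} x437 s855 := chk_ok (.cons v854 .nil) .nil c855
theorem v856 : Valid.{u} x438 s856 := chk_ok .nil .nil c856
theorem v857 : Valid.{u} x434 s857 := chk_ok (.cons v855 (.cons v854 (.cons v856 .nil))) (.cons k442 (.cons k443 .nil)) c857
theorem v858 : Valid.{u} x434 s858 := chk_ok (.cons v857 .nil) .nil c858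
theorem v859 : Valid.{u} x434 s859 := chk_ok (.cons v852 (.cons v858 .nil)) .nil c859
theorem v860 : Valid.{u} x439 s860 := chk_ok .nil .nil c860
theorem v861 : Valid.{u} x431 s861 := chk_ok (.cons v859 (.cons v860 .nil)) (.cons k441 (.cons k446 .nil)) c861
theorem v862 : Valid.{u} x431 s862 := chk_ok (.cons v861 .nil) .nil c862
theorem v863 : Valid.{u} x431 s863 := chk_ok (.cons v862 .nil) .nil c863
theorem v864 : Valid.{u} x431 s864 := chk_ok (.cons v846 (.cons v863 .nil)) .nil c864
theorem v865 : Valid.{u} x441 s865 := chk_ok .nil .nil c865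
theorem v866 : Valid.{u} x442 s866 := chk_ok .nil .nil c866
theorem v867 : Valid.{u} x442 s867 := chk_ok (.cons v342 (.cons v332 .nil)) (.cons k30 .nil) c867
theorem v868 : Valid.{u} x442 s868 := chk_ok (.cons v866 (.cons v867 .nil)) .nil c868
theorem v869 : Valid.{u} x442 s869 := chk_ok (.cons v868 .nil) (.cons k431 .nil) c869
theorem v870 : Valid.{u} x443 s870 := chk_ok .nil .nil c870
theorem v871 : Valid.{u} x444 s871 := chk_ok .nil .nil c871
theorem v872 : Valid.{u} x445 s872 := chk_ok .nil .nil c872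
theorem v873 : Valid.{u} x446 s873 := chk_ok .nil .nil c873
theorem v874 : Valid.{u} x447 s874 := chk_ok .nil .nil c874
theorem v875 : Valid.{u} x448 s875 := chk_ok .nil .nil c875
theorem v876 : Valid.{u} x449 s876 := chk_ok .nil .nil c876
theorem v877 : Valid.{u} x441 s877 := chk_ok (.cons v869 (.cons v870 (.cons v871 (.cons v872 (.cons v873 (.cons v874 (.cons v875 (.cons v876 .nil)))))))) .nil c877
theorem v878 : Valid.{u} x441 s878 := chk_ok (.cons v877 .nil) .nil c878
theorem v879 : Valid.{u} x441 s879 := chk_ok (.cons v878 .nil) (.cons k189 .nil) c879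
theorem v880 : Valid.{u} x441 s880 := chk_ok (.cons v879 .nil) .nil c880
theorem v881 : Valid.{u} x441 s881 := chk_ok (.cons v865 (.cons v880 .nil)) .nil c881
theorem v882 : Valid.{u} x441 s882 := chk_ok (.cons v881 .nil) (.cons k189 .nil) c882
theorem v883 : Valid.{u} x450 s883 := chk_ok .nil .nil c883
theorem v884 : Valid.{u} x451 s884 := chk_ok .nil .nil c884
theorem v885 : Valid.{u} x452 s885 := chk_ok .nil .nil c885
theorem v886 : Valid.{u} x453 s886 := chk_ok .nil .nil c886
theorem v887 : Valid.{u} x454 s887 := chk_ok .nil .nil c887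
theorem v888 : Valid.{u} x455 s888 := chk_ok .nil .nil c888
theorem v889 : Valid.{u} x456 s889 := chk_ok .nil .nil c889
theorem v890 : Valid.{u} x440 s890 := chk_ok (.cons v882 (.cons v883 (.cons v884 (.cons v885 (.cons v886 (.cons v887 (.cons v888 (.cons v889 .nil)))))))) (.cons k342 (.cons k428 (.cons k429 (.cons k427 (.cons k430 .nil))))) c890
theorem v891 : Valid.{u} x458 s891 := chk_ok .nil .nil c891
theorem v892 : Valid.{u} x459 s892 := chk_ok .nil .nil c892
theorem v893 : Valid.{u} x460 s893 := chk_ok .nil .nil c893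
theorem v894 : Valid.{u} x461 s894 := chk_ok .nil .nil c894
theorem v895 : Valid.{u} x462 s895 := chk_ok .nil .nil c895
theorem v896 : Valid.{u} x463 s896 := chk_ok .nil .nil c896
theorem v897 : Valid.{u} x464 s897 := chk_ok .nil .nil c897
theorem v898 : Valid.{u} x464 s898 := chk_ok .nil .nil c898
theorem v899 : Valid.{u} x465 s899 := chk_ok (.cons v630 .nil) (.cons k13 .nil) c899
theorem v900 : Valid.{u} x465 s900 := chk_ok (.cons v899 (.cons v630 .nil)) (.cons k13 .nil) c900
theorem v901 : Valid.{u} x465 s901 := chk_ok (.cons v900 .nil) (.cons k277 .nil) c901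
theorem v902 : Valid.{u} x466 s902 := chk_ok .nil .nil c902
theorem v903 : Valid.{u} x467 s903 := chk_ok .nil .nil c903
theorem v904 : Valid.{u} x468 s904 := chk_ok .nil .nil c904
theorem v905 : Valid.{u} x469 s905 := chk_ok .nil .nil c905
theorem v906 : Valid.{u} x470 s906 := chk_ok .nil .nil c906
theorem v907 : Valid.{u} x471 s907 := chk_ok .nil .nil c907
theorem v908 : Valid.{u} x464 s908 := chk_ok (.cons v897 (.cons v898 (.cons v269 (.cons v901 (.cons v902 (.cons v903 (.cons v904 (.cons v905 (.cons v906 (.cons v907 .nil)))))))))) (.cons k13 .nil) c908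
theorem v909 : Valid.{u} x464 s909 := chk_ok (.cons v908 .nil) (.cons k276 .nil) c909
theorem v910 : Valid.{u} x472 s910 := chk_ok .nil .nil c910
theorem v911 : Valid.{u} x457 s911 := chk_ok (.cons v891 (.cons v892 (.cons v893 (.cons v894 (.cons v895 (.cons v896 (.cons v909 (.cons v910 .nil)))))))) (.cons k275 (.cons k341 (.cons k276 .nil))) c911
theorem v912 : Valid.{u} x457 s912 := chk_ok (.cons v911 .nil) (.cons k342 .nil) c912
theorem v913 : Valid.{u} x473 s913 := chk_ok .nil .nil c913
theorem v914 : Valid.{u} x474 s914 := chk_ok .nil .nil c914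
theorem v915 : Valid.{u} x475 s915 := chk_ok .nil .nil c915
theorem v916 : Valid.{u} x476 s916 := chk_ok .nil .nil c916
theorem v917 : Valid.{u} x477 s917 := chk_ok .nil .nil c917
theorem v918 : Valid.{u} x477 s918 := chk_ok .nil .nil c918
theorem v919 : Valid.{u} x478 s919 := chk_ok (.cons v642 .nil) (.cons k17 .nil) c919
theorem v920 : Valid.{u} x478 s920 := chk_ok (.cons v919 (.cons v642 .nil)) (.cons k17 .nil) c920
theorem v921 : Valid.{u} x478 s921 := chk_ok (.cons v920 .nil) (.cons k351 .nil) c921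
theorem v922 : Valid.{u} x479 s922 := chk_ok .nil .nil c922
theorem v923 : Valid.{u} x480 s923 := chk_ok .nil .nil c923
theorem v924 : Valid.{u} x481 s924 := chk_ok .nil .nil c924
theorem v925 : Valid.{u} x482 s925 := chk_ok .nil .nil c925
theorem v926 : Valid.{u} x477 s926 := chk_ok (.cons v918 (.cons v280 (.cons v921 (.cons v922 (.cons v923 (.cons v924 (.cons v925 .nil))))))) (.cons k17 (.cons k352 .nil)) c926
theorem v927 : Valid.{u} x483 s927 := chk_ok .nil .nil c927
theorem v928 : Valid.{u} x483 s928 := chk_ok (.cons v927 .nil) .nil c928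
theorem v929 : Valid.{u} x484 s929 := chk_ok .nil .nil c929
theorem v930 : Valid.{u} x484 s930 := chk_ok (.cons v929 .nil) .nil c930
theorem v931 : Valid.{u} x477 s931 := chk_ok (.cons v917 (.cons v926 (.cons v928 (.cons v930 .nil)))) (.cons k350 .nil) c931
theorem v932 : Valid.{u} x477 s932 := chk_ok (.cons v931 .nil) (.cons k349 .nil) c932
theorem v933 : Valid.{u} x485 s933 := chk_ok .nil .nil c933
theorem v934 : Valid.{u} x486 s934 := chk_ok .nil .nil c934
theorem v935 : Valid.{u} x487 s935 := chk_ok .nil .nil c935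
theorem v936 : Valid.{u} x457 s936 := chk_ok (.cons v913 (.cons v914 (.cons v915 (.cons v916 (.cons v932 (.cons v933 (.cons v934 (.cons v935 .nil)))))))) .nil c936
theorem v937 : Valid.{u} x457 s937 := chk_ok (.cons v936 .nil) (.cons k342 .nil) c937
theorem v938 : Valid.{u} x488 s938 := chk_ok .nil .nil c938
theorem v939 : Valid.{u} x489 s939 := chk_ok .nil .nil c939
theorem v940 : Valid.{u} x490 s940 := chk_ok (.cons v908 .nil) (.cons k276 .nil) c940
theorem v941 : Valid.{u} x491 s941 := chk_ok .nil .nil c941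
theorem v942 : Valid.{u} x492 s942 := chk_ok .nil .nil c942
theorem v943 : Valid.{u} x493 s943 := chk_ok .nil .nil c943
theorem v944 : Valid.{u} x494 s944 := chk_ok .nil .nil c944
theorem v945 : Valid.{u} x495 s945 := chk_ok .nil .nil c945
theorem v946 : Valid.{u} x457 s946 := chk_ok (.cons v938 (.cons v939 (.cons v940 (.cons v941 (.cons v942 (.cons v943 (.cons v944 (.cons v945 .nil)))))))) .nil c946
theorem v947 : Valid.{u} x457 s947 := chk_ok (.cons v946 .nil) (.cons k342 .nil) c947
theorem v948 : Valid.{u} x496 s948 := chk_ok .nil .nil c948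
theorem v949 : Valid.{u} x496 s949 := chk_ok .nil .nil c949
theorem v950 : Valid.{u} x497 s950 := chk_ok (.cons v667 .nil) (.cons k9 .nil) c950
theorem v951 : Valid.{u} x497 s951 := chk_ok (.cons v950 (.cons v667 .nil)) (.cons k9 .nil) c951
theorem v952 : Valid.{u} x497 s952 := chk_ok (.cons v951 .nil) (.cons k201 .nil) c952
theorem v953 : Valid.{u} x498 s953 := chk_ok .nil .nil c953
theorem v954 : Valid.{u} x499 s954 := chk_ok .nil .nil c954
theorem v955 : Valid.{u} x500 s955 := chk_ok .nil .nil c955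
theorem v956 : Valid.{u} x501 s956 := chk_ok .nil .nil c956
theorem v957 : Valid.{u} x496 s957 := chk_ok (.cons v949 (.cons v300 (.cons v952 (.cons v953 (.cons v954 (.cons v955 (.cons v956 .nil))))))) (.cons k9 (.cons k202 .nil)) c957
theorem v958 : Valid.{u} x502 s958 := chk_ok .nil (.cons k197 .nil) c958
theorem v959 : Valid.{u} x502 s959 := chk_ok (.cons v958 .nil) .nil c959
theorem v960 : Valid.{u} x504 s960 := chk_ok .nil (.cons k200 .nil) c960
theorem v961 : Valid.{u} x504 s961 := chk_ok (.cons v960 .nil) .nil c961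
theorem v962 : Valid.{u} x496 s962 := chk_ok (.cons v948 (.cons v957 (.cons v959 (.cons v961 .nil)))) (.cons k191 .nil) c962
theorem v963 : Valid.{u} x496 s963 := chk_ok (.cons v962 .nil) (.cons k190 .nil) c963
theorem v964 : Valid.{u} x506 s964 := chk_ok .nil .nil c964
theorem v965 : Valid.{u} x507 s965 := chk_ok .nil .nil c965
theorem v966 : Valid.{u} x508 s966 := chk_ok .nil .nil c966
theorem v967 : Valid.{u} x509 s967 := chk_ok .nil .nil c967
theorem v968 : Valid.{u} x510 s968 := chk_ok .nil .nil c968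
theorem v969 : Valid.{u} x511 s969 := chk_ok .nil .nil c969
theorem v970 : Valid.{u} x512 s970 := chk_ok .nil .nil c970
theorem v971 : Valid.{u} x441 s971 := chk_ok (.cons v963 (.cons v964 (.cons v965 (.cons v966 (.cons v967 (.cons v968 (.cons v969 (.cons v970 .nil)))))))) .nil c971
theorem v972 : Valid.{u} x441 s972 := chk_ok (.cons v971 .nil) (.cons k189 .nil) c972
theorem v973 : Valid.{u} x457 s973 := chk_ok (.cons v912 (.cons v937 (.cons v947 (.cons v972 .nil)))) (.cons k189 .nil) c973
theorem v974 : Valid.{u} x440 s974 := chk_ok (.cons v973 (.cons v883 (.cons v884 (.cons v885 (.cons v886 (.cons v887 (.cons v888 (.cons v889 .nil)))))))) (.cons k342 (.cons k427 .nil)) c974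
theorem v975 : Valid.{u} x440 s975 := chk_ok (.cons v890 (.cons v974 .nil)) .nil c975
theorem v976 : Valid.{u} x440 s976 := chk_ok (.cons v975 .nil) (.cons k188 .nil) c976
theorem v977 : Valid.{u} x514 s977 := chk_ok .nil .nil c977
theorem v978 : Valid.{u} x515 s978 := chk_ok .nil .nil c978
theorem v979 : Valid.{u} x516 s979 := chk_ok .nil .nil c979
theorem v980 : Valid.{u} x517 s980 := chk_ok .nil .nil c980
theorem v981 : Valid.{u} x518 s981 := chk_ok .nil .nil c981
theorem v982 : Valid.{u} x519 s982 := chk_ok .nil .nil c982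
theorem v983 : Valid.{u} x519 s983 := chk_ok (.cons v982 .nil) (.cons k437 .nil) c983
theorem v984 : Valid.{u} x520 s984 := chk_ok .nil .nil c984
theorem v985 : Valid.{u} x521 s985 := chk_ok .nil .nil c985
theorem v986 : Valid.{u} x513 s986 := chk_ok (.cons v977 (.cons v978 (.cons v979 (.cons v980 (.cons v981 (.cons v983 (.cons v984 (.cons v985 .nil)))))))) .nil c986
theorem v987 : Valid.{u} x514 s987 := chk_ok .nil .nil c987
theorem v988 : Valid.{u} x515 s988 := chk_ok .nil .nil c988
theorem v989 : Valid.{u} x516 s989 := chk_ok .nil .nil c989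
theorem v990 : Valid.{u} x517 s990 := chk_ok .nil .nil c990
theorem v991 : Valid.{u} x518 s991 := chk_ok .nil .nil c991
theorem v992 : Valid.{u} x519 s992 := chk_ok .nil .nil c992
theorem v993 : Valid.{u} x519 s993 := chk_ok (.cons v992 .nil) .nil c993
theorem v994 : Valid.{u} x519 s994 := chk_ok (.cons v993 .nil) (.cons k437 .nil) c994
theorem v995 : Valid.{u} x520 s995 := chk_ok .nil .nil c995
theorem v996 : Valid.{u} x521 s996 := chk_ok .nil .nil c996
theorem v997 : Valid.{u} x513 s997 := chk_ok (.cons v987 (.cons v988 (.cons v989 (.cons v990 (.cons v991 (.cons v994 (.cons v995 (.cons v996 .nil)))))))) .nil c997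
theorem v998 : Valid.{u} x513 s998 := chk_ok (.cons v986 (.cons v997 .nil)) .nil c998
theorem v999 : Valid.{u} x513 s999 := chk_ok (.cons v998 .nil) (.cons k188 .nil) c999
theorem v1000 : Valid.{u} x522 s1000 := chk_ok .nil .nil c1000
theorem v1001 : Valid.{u} x0 s1001 := chk_ok (.cons v0 (.cons v1 (.cons v2 (.cons v150 (.cons v151 (.cons v390 (.cons v729 (.cons v730 (.cons v731 (.cons v760 (.cons v764 (.cons v765 (.cons v766 (.cons v782 (.cons v817 (.cons v839 (.cons v864 (.cons v976 (.cons v999 (.cons v1000 .nil)))))))))))))))))))) (.cons k187 (.cons k162 (.cons k6 (.cons k161 (.cons k474 (.cons k473 (.cons k464 (.cons k449 (.cons k440 (.cons k439 (.cons k188 .nil))))))))))) c1001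
theorem v1002 : Valid.{u} x0 s1002 := chk_ok (.cons v1001 .nil) .nil c1002

end Cfsg.Lib.D8.T0O
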