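import Cfsg.Agent.Lib.D8.T.T1IG0

/-! Certificates (generated, helper29). -/

set_option maxRecDepth 100000
set_option Elab.async false

namespace Cfsg.Lib.D8.T1I

universe u

theorem hb1 : tabB (mu g0 (nat_lit 1)) (nat_lit 1) a0 b1 (look b1 0) = true := by decide +kernel
theorem ha0 : tabA (mu g0 (nat_lit 1)) (nat_lit 1) a0 = true := by decide +kernel
theorem hb2 : tabB (mu g1 (nat_lit 2)) (nat_lit 2) a1 b2 (look b2 0) = true := by decide +kernel
theorem ha1 : tabA (mu g1 (nat_lit 2)) (nat_lit 2) a1 = true := by decide +kernel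
theorem hb3 : tabB (mu g2 (nat_lit 4)) (nat_lit 4) a2 b3 (look b3 0) = true := by decide +kernel
theorem ha2 : tabA (mu g2 (nat_lit 4)) (nat_lit 4) a2 = true := by decide +kernel
theorem hb4 : tabB (mu g3 (nat_lit 8)) (nat_lit 8) a3 b4 (look b4 0) = true := by decide +kernel
theorem ha3 : tabA (mu g3 (nat_lit 8)) (nat_lit 8) a3 = true := by decide +kernel
theorem hb5 : tabB (mu g4 (nat_lit 16)) (nat_lit 16) a4 b5 (look b5 0) = true := by decide +kernel
theorem ha4 : tabA (mu g4 (nat_lit 16)) (nat_lit 16) a4 = true := by decide +kernel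
theorem ht5 : tabT (mu (.ext a4 b5 (nat_lit 16) g4) (nat_lit 32)) (nat_lit 32) t5 = true := by decide +kernel
theorem hb6 : tabB (mu g5 (nat_lit 32)) (nat_lit 32) a5 b6 (look b6 0) = true := by decide +kernel
theorem ha5 : tabA (mu g5 (nat_lit 32)) (nat_lit 32) a5 = true := by decide +kernel
theorem ht6 : tabT (mu (.ext a5 b6 (nat_lit 32) g5) (nat_lit 64)) (nat_lit 64) t6 = true := by decide +kernel
theorem hb7 : tabB (mu g6 (nat_lit 64)) (nat_lit 64) a6 b7 (look b7 0) = true := by decide +kernel
theorem ha6 : tabA (mu g6 (nat_lit 64)) (nat_lit 64) a6 = true := by decide +kernel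
theorem ht7 : tabT (mu (.ext a6 b7 (nat_lit 64) g6) (nat_lit 128)) (nat_lit 128) t7 = true := by decide +kernel
theorem hb9 : tabB (mu g7 (nat_lit 128)) (nat_lit 128) a7 b9 (look b9 0) = true := by decide +kernel
theorem ha7 : tabA (mu g7 (nat_lit 128)) (nat_lit 128) a7 = true := by decide +kernel
theorem hb12 : tabB (mu g3 (nat_lit 8)) (nat_lit 8) a9 b12 (look b12 0) = true := by decide +kernel
theorem ha9 : tabA (mu g3 (nat_lit 8)) (nat_lit 8) a9 = true := by decide +kernel
theorem ht12 : tabT (mu (.ext a9 b12 (nat_lit 8) g3) (nat_lit 16)) (nat_lit 16) t12 = true := by decide +kernel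
theorem hb13 : tabB (mu g12 (nat_lit 16)) (nat_lit 16) a10 b13 (look b13 0) = true := by decide +kernel
theorem ha10 : tabA (mu g12 (nat_lit 16)) (nat_lit 16) a10 = true := by decide +kernel
theorem ht13 : tabT (mu (.ext a10 b13 (nat_lit 16) g12) (nat_lit 32)) (nat_lit 32) t13 = true := by decide +kernel
theorem hb14 : tabB (mu g13 (nat_lit 32)) (nat_lit 32) a11 b14 (look b14 0) = true := by decide +kernel
theorem ha11 : tabA (mu g13 (nat_lit 32)) (nat_lit 32) a11 = true := by decide +kernel
theorem hb15 : tabB (mu g14 (nat_lit 64)) (nat_lit 64) a12 b15 (look b15 0) = true := by decide +kernel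
theorem ha12 : tabA (mu g14 (nat_lit 64)) (nat_lit 64) a12 = true := by decide +kernel
theorem hb16 : tabB (mu g15 (nat_lit 128)) (nat_lit 128) a13 b16 (look b16 0) = true := by decide +kernel
theorem ha13 : tabA (mu g15 (nat_lit 128)) (nat_lit 128) a13 = true := by decide +kernel
theorem hb17 : tabB (mu g16 (nat_lit 256)) (nat_lit 256) a14 b17 (look b17 0) = true := by decide +kernel
theorem ha14 : tabA (mu g16 (nat_lit 256)) (nat_lit 256) a14 = true := by decide +kernel
theorem hb18 : tabB (mu g15 (nat_lit 128)) (nat_lit 128) a15 b18 (look b18 0) = true := by decide +kernel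
theorem ha15 : tabA (mu g15 (nat_lit 128)) (nat_lit 128) a15 = true := by decide +kernel
theorem hb19 : tabB (mu g18 (nat_lit 256)) (nat_lit 256) a16 b19 (look b19 0) = true := by decide +kernel
theorem ha16 : tabA (mu g18 (nat_lit 256)) (nat_lit 256) a16 = true := by decide +kernel
theorem hb22 : tabB (mu g3 (nat_lit 8)) (nat_lit 8) a18 b22 (look b22 0) = true := by decide +kernel
theorem ha18 : tabA (mu g3 (nat_lit 8)) (nat_lit 8) a18 = true := by decide +kernel
theorem ht22 : tabT (mu (.ext a18 b22 (nat_lit 8) g3) (nat_lit 16)) (nat_lit 16) t22 = true := by decide +kernel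
theorem hb23 : tabB (mu g22 (nat_lit 16)) (nat_lit 16) a19 b23 (look b23 0) = true := by decide +kernel
theorem ha19 : tabA (mu g22 (nat_lit 16)) (nat_lit 16) a19 = true := by decide +kernel
theorem ht23 : tabT (mu (.ext a19 b23 (nat_lit 16) g22) (nat_lit 32)) (nat_lit 32) t23 = true := by decide +kernel
theorem hb24 : tabB (mu g23 (nat_lit 32)) (nat_lit 32) a20 b24 (look b24 0) = true := by decide +kernel
theorem ha20 : tabA (mu g23 (nat_lit 32)) (nat_lit 32) a20 = true := by decide +kernel
theorem hb25 : tabB (mu g24 (nat_lit 64)) (nat_lit 64) a21 b25 (look b25 0) = true := by decide +kernel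
theorem ha21 : tabA (mu g24 (nat_lit 64)) (nat_lit 64) a21 = true := by decide +kernel
theorem hb26 : tabB (mu g25 (nat_lit 128)) (nat_lit 128) a22 b26 (look b26 0) = true := by decide +kernel
theorem ha22 : tabA (mu g25 (nat_lit 128)) (nat_lit 128) a22 = true := by decide +kernel
theorem hb27 : tabB (mu g26 (nat_lit 256)) (nat_lit 256) a23 b27 (look b27 0) = true := by decide +kernel
theorem ha23 : tabA (mu g26 (nat_lit 256)) (nat_lit 256) a23 = true := by decide +kernel
theorem hb28 : tabB (mu g25 (nat_lit 128)) (nat_lit 128) a22 b28 (look b28 0) = true := by decide +kernel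
theorem hb29 : tabB (mu g28 (nat_lit 256)) (nat_lit 256) a24 b29 (look b29 0) = true := by decide +kernel
theorem ha24 : tabA (mu g28 (nat_lit 256)) (nat_lit 256) a24 = true := by decide +kernel
theorem hb31 : tabB (mu g9 (nat_lit 256)) (nat_lit 256) a25 b31 (look b31 0) = true := by decide +kernel
theorem ha25 : tabA (mu g9 (nat_lit 256)) (nat_lit 256) a25 = true := by decide +kernel
theorem hb32 : tabB (mu g2 (nat_lit 4)) (nat_lit 4) a26 b32 (look b32 0) = true := by decide +kernel
theorem ha26 : tabA (mu g2 (nat_lit 4)) (nat_lit 4) a26 = true := by decide +kernel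
theorem hb33 : tabB (mu g32 (nat_lit 8)) (nat_lit 8) a27 b33 (look b33 0) = true := by decide +kernel
theorem ha27 : tabA (mu g32 (nat_lit 8)) (nat_lit 8) a27 = true := by decide +kernel
theorem hb34 : tabB (mu g33 (nat_lit 16)) (nat_lit 16) a28 b34 (look b34 0) = true := by decide +kernel
theorem ha28 : tabA (mu g33 (nat_lit 16)) (nat_lit 16) a28 = true := by decide +kernel
theorem ht34 : tabT (mu (.ext a28 b34 (nat_lit 16) g33) (nat_lit 32)) (nat_lit 32) t34 = true := by decide +kernel
theorem hb35 : tabB (mu g34 (nat_lit 32)) (nat_lit 32) a29 b35 (look b35 0) = true := by decide +kernel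
theorem ha29 : tabA (mu g34 (nat_lit 32)) (nat_lit 32) a29 = true := by decide +kernel
theorem hb36 : tabB (mu g35 (nat_lit 64)) (nat_lit 64) a30 b36 (look b36 0) = true := by decide +kernel
theorem ha30 : tabA (mu g35 (nat_lit 64)) (nat_lit 64) a30 = true := by decide +kernel
theorem hb37 : tabB (mu g36 (nat_lit 128)) (nat_lit 128) a31 b37 (look b37 0) = true := by decide +kernel
theorem ha31 : tabA (mu g36 (nat_lit 128)) (nat_lit 128) a31 = true := by decide +kernel
theorem hb38 : tabB (mu g37 (nat_lit 256)) (nat_lit 256) a32 b38 (look b38 0) = true := by decide +kernel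
theorem ha32 : tabA (mu g37 (nat_lit 256)) (nat_lit 256) a32 = true := by decide +kernel
theorem hb39 : tabB (mu g2 (nat_lit 4)) (nat_lit 4) a26 b39 (look b39 0) = true := by decide +kernel
theorem hb40 : tabB (mu g39 (nat_lit 8)) (nat_lit 8) a33 b40 (look b40 0) = true := by decide +kernel
theorem ha33 : tabA (mu g39 (nat_lit 8)) (nat_lit 8) a33 = true := by decide +kernel
theorem ht40 : tabT (mu (.ext a33 b40 (nat_lit 8) g39) (nat_lit 16)) (nat_lit 16) t40 = true := by decide +kernel
theorem hb41 : tabB (mu g40 (nat_lit 16)) (nat_lit 16) a34 b41 (look b41 0) = true := by decide +kernel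
theorem ha34 : tabA (mu g40 (nat_lit 16)) (nat_lit 16) a34 = true := by decide +kernel
theorem hb42 : tabB (mu g41 (nat_lit 32)) (nat_lit 32) a35 b42 (look b42 0) = true := by decide +kernel
theorem ha35 : tabA (mu g41 (nat_lit 32)) (nat_lit 32) a35 = true := by decide +kernel
theorem hb43 : tabB (mu g42 (nat_lit 64)) (nat_lit 64) a36 b43 (look b43 0) = true := by decide +kernel
theorem ha36 : tabA (mu g42 (nat_lit 64)) (nat_lit 64) a36 = true := by decide +kernel
theorem hb44 : tabB (mu g43 (nat_lit 128)) (nat_lit 128) a37 b44 (look b44 0) = true := by decide +kernel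
theorem ha37 : tabA (mu g43 (nat_lit 128)) (nat_lit 128) a37 = true := by decide +kernel
theorem hb45 : tabB (mu g44 (nat_lit 256)) (nat_lit 256) a38 b45 (look b45 0) = true := by decide +kernel
theorem ha38 : tabA (mu g44 (nat_lit 256)) (nat_lit 256) a38 = true := by decide +kernel
theorem hb50 : tabB (mu g4 (nat_lit 16)) (nat_lit 16) a41 b50 (look b50 0) = true := by decide +kernel
theorem ha41 : tabA (mu g4 (nat_lit 16)) (nat_lit 16) a41 = true := by decide +kernel
theorem ht50 : tabT (mu (.ext a41 b50 (nat_lit 16) g4) (nat_lit 32)) (nat_lit 32) t50 = true := by decide +kernel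
theorem hb51 : tabB (mu g50 (nat_lit 32)) (nat_lit 32) a42 b51 (look b51 0) = true := by decide +kernel
theorem ha42 : tabA (mu g50 (nat_lit 32)) (nat_lit 32) a42 = true := by decide +kernel
theorem hb52 : tabB (mu g51 (nat_lit 64)) (nat_lit 64) a43 b52 (look b52 0) = true := by decide +kernel
theorem ha43 : tabA (mu g51 (nat_lit 64)) (nat_lit 64) a43 = true := by decide +kernel
theorem hb53 : tabB (mu g52 (nat_lit 128)) (nat_lit 128) a44 b53 (look b53 0) = true := by decide +kernel
theorem ha44 : tabA (mu g52 (nat_lit 128)) (nat_lit 128) a44 = true := by decide +kernel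
theorem hb54 : tabB (mu g53 (nat_lit 256)) (nat_lit 256) a45 b54 (look b54 0) = true := by decide +kernel
theorem ha45 : tabA (mu g53 (nat_lit 256)) (nat_lit 256) a45 = true := by decide +kernel
theorem hb55 : tabB (mu g54 (nat_lit 512)) (nat_lit 512) a46 b55 (look b55 0) = true := by decide +kernel
theorem ha46 : tabA (mu g54 (nat_lit 512)) (nat_lit 512) a46 = true := by decide +kernel
theorem hb56 : tabB (mu g2 (nat_lit 4)) (nat_lit 4) a2 b56 (look b56 0) = true := by decide +kernel
theorem hb57 : tabB (mu g56 (nat_lit 8)) (nat_lit 8) a47 b57 (look b57 0) = true := by decide +kernel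
theorem ha47 : tabA (mu g56 (nat_lit 8)) (nat_lit 8) a47 = true := by decide +kernel
theorem ht57 : tabT (mu (.ext a47 b57 (nat_lit 8) g56) (nat_lit 16)) (nat_lit 16) t57 = true := by decide +kernel
theorem hb58 : tabB (mu g57 (nat_lit 16)) (nat_lit 16) a48 b58 (look b58 0) = true := by decide +kernel
theorem ha48 : tabA (mu g57 (nat_lit 16)) (nat_lit 16) a48 = true := by decide +kernel
theorem ht58 : tabT (mu (.ext a48 b58 (nat_lit 16) g57) (nat_lit 32)) (nat_lit 32) t58 = true := by decide +kernel
theorem hb59 : tabB (mu g58 (nat_lit 32)) (nat_lit 32) a49 b59 (look b59 0) = true := by decide +kernel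
theorem ha49 : tabA (mu g58 (nat_lit 32)) (nat_lit 32) a49 = true := by decide +kernel
theorem hb60 : tabB (mu g59 (nat_lit 64)) (nat_lit 64) a50 b60 (look b60 0) = true := by decide +kernel
theorem ha50 : tabA (mu g59 (nat_lit 64)) (nat_lit 64) a50 = true := by decide +kernel
theorem hb61 : tabB (mu g60 (nat_lit 128)) (nat_lit 128) a51 b61 (look b61 0) = true := by decide +kernel
theorem ha51 : tabA (mu g60 (nat_lit 128)) (nat_lit 128) a51 = true := by decide +kernel
theorem hb62 : tabB (mu g61 (nat_lit 256)) (nat_lit 256) a52 b62 (look b62 0) = true := by decide +kernel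
theorem ha52 : tabA (mu g61 (nat_lit 256)) (nat_lit 256) a52 = true := by decide +kernel
theorem hb63 : tabB (mu g62 (nat_lit 512)) (nat_lit 512) a53 b63 (look b63 0) = true := by decide +kernel
theorem ha53 : tabA (mu g62 (nat_lit 512)) (nat_lit 512) a53 = true := by decide +kernel
theorem hb64 : tabB (mu g7 (nat_lit 128)) (nat_lit 128) a54 b64 (look b64 0) = true := by decide +kernel
theorem ha54 : tabA (mu g7 (nat_lit 128)) (nat_lit 128) a54 = true := by decide +kernel
theorem hb66 : tabB (mu g64 (nat_lit 256)) (nat_lit 256) a55 b66 (look b66 0) = true := by decide +kernel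
theorem ha55 : tabA (mu g64 (nat_lit 256)) (nat_lit 256) a55 = true := by decide +kernel
theorem hb67 : tabB (mu g56 (nat_lit 8)) (nat_lit 8) a56 b67 (look b67 0) = true := by decide +kernel
theorem ha56 : tabA (mu g56 (nat_lit 8)) (nat_lit 8) a56 = true := by decide +kernel
theorem hb68 : tabB (mu g67 (nat_lit 16)) (nat_lit 16) a57 b68 (look b68 0) = true := by decide +kernel
theorem ha57 : tabA (mu g67 (nat_lit 16)) (nat_lit 16) a57 = true := by decide +kernel
theorem ht68 : tabT (mu (.ext a57 b68 (nat_lit 16) g67) (nat_lit 32)) (nat_lit 32) t68 = true := by decide +kernel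
theorem hb69 : tabB (mu g68 (nat_lit 32)) (nat_lit 32) a58 b69 (look b69 0) = true := by decide +kernel
theorem ha58 : tabA (mu g68 (nat_lit 32)) (nat_lit 32) a58 = true := by decide +kernel
theorem hb70 : tabB (mu g69 (nat_lit 64)) (nat_lit 64) a59 b70 (look b70 0) = true := by decide +kernel
theorem ha59 : tabA (mu g69 (nat_lit 64)) (nat_lit 64) a59 = true := by decide +kernel
theorem hb71 : tabB (mu g70 (nat_lit 128)) (nat_lit 128) a60 b71 (look b71 0) = true := by decide +kernel
theorem ha60 : tabA (mu g70 (nat_lit 128)) (nat_lit 128) a60 = true := by decide +kernel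
theorem hb72 : tabB (mu g71 (nat_lit 256)) (nat_lit 256) a61 b72 (look b72 0) = true := by decide +kernel
theorem ha61 : tabA (mu g71 (nat_lit 256)) (nat_lit 256) a61 = true := by decide +kernel
theorem hb74 : tabB (mu g66 (nat_lit 512)) (nat_lit 512) a62 b74 (look b74 0) = true := by decide +kernel
theorem ha62 : tabA (mu g66 (nat_lit 512)) (nat_lit 512) a62 = true := by decide +kernel
theorem hb75 : tabB (mu g4 (nat_lit 16)) (nat_lit 16) a63 b75 (look b75 0) = true := by decide +kernel
theorem ha63 : tabA (mu g4 (nat_lit 16)) (nat_lit 16) a63 = true := by decide +kernel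
theorem ht75 : tabT (mu (.ext a63 b75 (nat_lit 16) g4) (nat_lit 32)) (nat_lit 32) t75 = true := by decide +kernel
theorem hb76 : tabB (mu g75 (nat_lit 32)) (nat_lit 32) a64 b76 (look b76 0) = true := by decide +kernel
theorem ha64 : tabA (mu g75 (nat_lit 32)) (nat_lit 32) a64 = true := by decide +kernel
theorem hb77 : tabB (mu g76 (nat_lit 64)) (nat_lit 64) a65 b77 (look b77 0) = true := by decide +kernel
theorem ha65 : tabA (mu g76 (nat_lit 64)) (nat_lit 64) a65 = true := by decide +kernel
theorem hb78 : tabB (mu g77 (nat_lit 128)) (nat_lit 128) a66 b78 (look b78 0) = true := by decide +kernel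
theorem ha66 : tabA (mu g77 (nat_lit 128)) (nat_lit 128) a66 = true := by decide +kernel
theorem hb79 : tabB (mu g78 (nat_lit 256)) (nat_lit 256) a67 b79 (look b79 0) = true := by decide +kernel
theorem ha67 : tabA (mu g78 (nat_lit 256)) (nat_lit 256) a67 = true := by decide +kernel
theorem hb80 : tabB (mu g79 (nat_lit 512)) (nat_lit 512) a68 b80 (look b80 0) = true := by decide +kernel
theorem ha68 : tabA (mu g79 (nat_lit 512)) (nat_lit 512) a68 = true := by decide +kernel
theorem hb89 : tabB (mu g7 (nat_lit 128)) (nat_lit 128) a54 b89 (look b89 0) = true := by decide +kernel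
theorem hb91 : tabB (mu g89 (nat_lit 256)) (nat_lit 256) a73 b91 (look b91 0) = true := by decide +kernel
theorem ha73 : tabA (mu g89 (nat_lit 256)) (nat_lit 256) a73 = true := by decide +kernel
theorem hb92 : tabB (mu g1 (nat_lit 2)) (nat_lit 2) a1 b92 (look b92 0) = true := by decide +kernel
theorem hb93 : tabB (mu g92 (nat_lit 4)) (nat_lit 4) a74 b93 (look b93 0) = true := by decide +kernel
theorem ha74 : tabA (mu g92 (nat_lit 4)) (nat_lit 4) a74 = true := by decide +kernel
theorem hb94 : tabB (mu g93 (nat_lit 8)) (nat_lit 8) a75 b94 (look b94 0) = true := by decide +kernel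
theorem ha75 : tabA (mu g93 (nat_lit 8)) (nat_lit 8) a75 = true := by decide +kernel
theorem hb95 : tabB (mu g94 (nat_lit 16)) (nat_lit 16) a76 b95 (look b95 0) = true := by decide +kernel
theorem ha76 : tabA (mu g94 (nat_lit 16)) (nat_lit 16) a76 = true := by decide +kernel
theorem ht95 : tabT (mu (.ext a76 b95 (nat_lit 16) g94) (nat_lit 32)) (nat_lit 32) t95 = true := by decide +kernel
theorem hb96 : tabB (mu g95 (nat_lit 32)) (nat_lit 32) a77 b96 (look b96 0) = true := by decide +kernel
theorem ha77 : tabA (mu g95 (nat_lit 32)) (nat_lit 32) a77 = true := by decide +kernel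
theorem ht96 : tabT (mu (.ext a77 b96 (nat_lit 32) g95) (nat_lit 64)) (nat_lit 64) t96 = true := by decide +kernel
theorem hb97 : tabB (mu g96 (nat_lit 64)) (nat_lit 64) a78 b97 (look b97 0) = true := by decide +kernel
theorem ha78 : tabA (mu g96 (nat_lit 64)) (nat_lit 64) a78 = true := by decide +kernel
theorem ht97 : tabT (mu (.ext a78 b97 (nat_lit 64) g96) (nat_lit 128)) (nat_lit 128) t97 = true := by decide +kernel
theorem hb98 : tabB (mu g97 (nat_lit 128)) (nat_lit 128) a79 b98 (look b98 0) = true := by decide +kernel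
theorem ha79 : tabA (mu g97 (nat_lit 128)) (nat_lit 128) a79 = true := by decide +kernel
theorem hb99 : tabB (mu g98 (nat_lit 256)) (nat_lit 256) a80 b99 (look b99 0) = true := by decide +kernel
theorem ha80 : tabA (mu g98 (nat_lit 256)) (nat_lit 256) a80 = true := by decide +kernel
theorem hb101 : tabB (mu g39 (nat_lit 8)) (nat_lit 8) a82 b101 (look b101 0) = true := by decide +kernel
theorem ha82 : tabA (mu g39 (nat_lit 8)) (nat_lit 8) a82 = true := by decide +kernel
theorem hb102 : tabB (mu g101 (nat_lit 16)) (nat_lit 16) a83 b102 (look b102 0) = true := by decide +kernel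
theorem ha83 : tabA (mu g101 (nat_lit 16)) (nat_lit 16) a83 = true := by decide +kernel
theorem ht102 : tabT (mu (.ext a83 b102 (nat_lit 16) g101) (nat_lit 32)) (nat_lit 32) t102 = true := by decide +kernel
theorem hb103 : tabB (mu g102 (nat_lit 32)) (nat_lit 32) a84 b103 (look b103 0) = true := by decide +kernel
theorem ha84 : tabA (mu g102 (nat_lit 32)) (nat_lit 32) a84 = true := by decide +kernel
theorem ht103 : tabT (mu (.ext a84 b103 (nat_lit 32) g102) (nat_lit 64)) (nat_lit 64) t103 = true := by decide +kernel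
theorem hb104 : tabB (mu g103 (nat_lit 64)) (nat_lit 64) a85 b104 (look b104 0) = true := by decide +kernel
theorem ha85 : tabA (mu g103 (nat_lit 64)) (nat_lit 64) a85 = true := by decide +kernel
theorem hb105 : tabB (mu g104 (nat_lit 128)) (nat_lit 128) a86 b105 (look b105 0) = true := by decide +kernel
theorem ha86 : tabA (mu g104 (nat_lit 128)) (nat_lit 128) a86 = true := by decide +kernel
theorem hb106 : tabB (mu g105 (nat_lit 256)) (nat_lit 256) a87 b106 (look b106 0) = true := by decide +kernel
theorem ha87 : tabA (mu g105 (nat_lit 256)) (nat_lit 256) a87 = true := by decide +kernel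
theorem hb107 : tabB (mu g106 (nat_lit 512)) (nat_lit 512) a88 b107 (look b107 0) = true := by decide +kernel
theorem ha88 : tabA (mu g106 (nat_lit 512)) (nat_lit 512) a88 = true := by decide +kernel
theorem hb112 : tabB (mu g3 (nat_lit 8)) (nat_lit 8) a91 b112 (look b112 0) = true := by decide +kernel
theorem ha91 : tabA (mu g3 (nat_lit 8)) (nat_lit 8) a91 = true := by decide +kernel
theorem hb113 : tabB (mu g112 (nat_lit 16)) (nat_lit 16) a92 b113 (look b113 0) = true := by decide +kernel
theorem ha92 : tabA (mu g112 (nat_lit 16)) (nat_lit 16) a92 = true := by decide +kernel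
theorem ht113 : tabT (mu (.ext a92 b113 (nat_lit 16) g112) (nat_lit 32)) (nat_lit 32) t113 = true := by decide +kernel
theorem hb114 : tabB (mu g113 (nat_lit 32)) (nat_lit 32) a93 b114 (look b114 0) = true := by decide +kernel
theorem ha93 : tabA (mu g113 (nat_lit 32)) (nat_lit 32) a93 = true := by decide +kernel
theorem ht114 : tabT (mu (.ext a93 b114 (nat_lit 32) g113) (nat_lit 64)) (nat_lit 64) t114 = true := by decide +kernel
theorem hb115 : tabB (mu g114 (nat_lit 64)) (nat_lit 64) a94 b115 (look b115 0) = true := by decide +kernel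
theorem ha94 : tabA (mu g114 (nat_lit 64)) (nat_lit 64) a94 = true := by decide +kernel
theorem hb116 : tabB (mu g115 (nat_lit 128)) (nat_lit 128) a95 b116 (look b116 0) = true := by decide +kernel
theorem ha95 : tabA (mu g115 (nat_lit 128)) (nat_lit 128) a95 = true := by decide +kernel
theorem hb117 : tabB (mu g116 (nat_lit 256)) (nat_lit 256) a96 b117 (look b117 0) = true := by decide +kernel
theorem ha96 : tabA (mu g116 (nat_lit 256)) (nat_lit 256) a96 = true := by decide +kernel
theorem hb118 : tabB (mu g117 (nat_lit 512)) (nat_lit 512) a97 b118 (look b118 0) = true := by decide +kernel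
theorem ha97 : tabA (mu g117 (nat_lit 512)) (nat_lit 512) a97 = true := by decide +kernel
theorem hb119 : tabB (mu g118 (nat_lit 1024)) (nat_lit 1024) a98 b119 (look b119 0) = true := by decide +kernel
theorem ha98 : tabA (mu g118 (nat_lit 1024)) (nat_lit 1024) a98 = true := by decide +kernel
theorem hb120 : tabB (mu g97 (nat_lit 128)) (nat_lit 128) a99 b120 (look b120 0) = true := by decide +kernel
theorem ha99 : tabA (mu g97 (nat_lit 128)) (nat_lit 128) a99 = true := by decide +kernel
theorem hb121 : tabB (mu g120 (nat_lit 256)) (nat_lit 256) a100 b121 (look b121 0) = true := by decide +kernel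
theorem ha100 : tabA (mu g120 (nat_lit 256)) (nat_lit 256) a100 = true := by decide +kernel
theorem hb122 : tabB (mu g121 (nat_lit 512)) (nat_lit 512) a101 b122 (look b122 0) = true := by decide +kernel
theorem ha101 : tabA (mu g121 (nat_lit 512)) (nat_lit 512) a101 = true := by decide +kernel
theorem hb123 : tabB (mu g122 (nat_lit 1024)) (nat_lit 1024) a102 b123 (look b123 0) = true := by decide +kernel
theorem ha102 : tabA (mu g122 (nat_lit 1024)) (nat_lit 1024) a102 = true := by decide +kernel
theorem hb128 : tabB (mu g112 (nat_lit 16)) (nat_lit 16) a105 b128 (look b128 0) = true := by decide +kernel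
theorem ha105 : tabA (mu g112 (nat_lit 16)) (nat_lit 16) a105 = true := by decide +kernel
theorem ht128 : tabT (mu (.ext a105 b128 (nat_lit 16) g112) (nat_lit 32)) (nat_lit 32) t128 = true := by decide +kernel
theorem hb129 : tabB (mu g128 (nat_lit 32)) (nat_lit 32) a106 b129 (look b129 0) = true := by decide +kernel
theorem ha106 : tabA (mu g128 (nat_lit 32)) (nat_lit 32) a106 = true := by decide +kernel
theorem hb130 : tabB (mu g129 (nat_lit 64)) (nat_lit 64) a107 b130 (look b130 0) = true := by decide +kernel
theorem ha107 : tabA (mu g129 (nat_lit 64)) (nat_lit 64) a107 = true := by decide +kernel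
theorem hb131 : tabB (mu g130 (nat_lit 128)) (nat_lit 128) a108 b131 (look b131 0) = true := by decide +kernel
theorem ha108 : tabA (mu g130 (nat_lit 128)) (nat_lit 128) a108 = true := by decide +kernel
theorem hb132 : tabB (mu g131 (nat_lit 256)) (nat_lit 256) a109 b132 (look b132 0) = true := by decide +kernel
theorem ha109 : tabA (mu g131 (nat_lit 256)) (nat_lit 256) a109 = true := by decide +kernel
theorem hb133 : tabB (mu g132 (nat_lit 512)) (nat_lit 512) a110 b133 (look b133 0) = true := by decide +kernel
theorem ha110 : tabA (mu g132 (nat_lit 512)) (nat_lit 512) a110 = true := by decide +kernel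
theorem hb134 : tabB (mu g133 (nat_lit 1024)) (nat_lit 1024) a111 b134 (look b134 0) = true := by decide +kernel
theorem ha111 : tabA (mu g133 (nat_lit 1024)) (nat_lit 1024) a111 = true := by decide +kernel
theorem hb135 : tabB (mu g97 (nat_lit 128)) (nat_lit 128) a99 b135 (look b135 0) = true := by decide +kernel
theorem hb136 : tabB (mu g135 (nat_lit 256)) (nat_lit 256) a112 b136 (look b136 0) = true := by decide +kernel
theorem ha112 : tabA (mu g135 (nat_lit 256)) (nat_lit 256) a112 = true := by decide +kernel
theorem hb137 : tabB (mu g136 (nat_lit 512)) (nat_lit 512) a113 b137 (look b137 0) = true := by decide +kernel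
theorem ha113 : tabA (mu g136 (nat_lit 512)) (nat_lit 512) a113 = true := by decide +kernel
theorem hb138 : tabB (mu g137 (nat_lit 1024)) (nat_lit 1024) a114 b138 (look b138 0) = true := by decide +kernel
theorem ha114 : tabA (mu g137 (nat_lit 1024)) (nat_lit 1024) a114 = true := by decide +kernel
theorem hb140 : tabB (mu g105 (nat_lit 256)) (nat_lit 256) a116 b140 (look b140 0) = true := by decide +kernel
theorem ha116 : tabA (mu g105 (nat_lit 256)) (nat_lit 256) a116 = true := by decide +kernel
theorem hb141 : tabB (mu g140 (nat_lit 512)) (nat_lit 512) a117 b141 (look b141 0) = true := by decide +kernel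
theorem ha117 : tabA (mu g140 (nat_lit 512)) (nat_lit 512) a117 = true := by decide +kernel
theorem hb146 : tabB (mu g113 (nat_lit 32)) (nat_lit 32) a93 b146 (look b146 0) = true := by decide +kernel
theorem ht146 : tabT (mu (.ext a93 b146 (nat_lit 32) g113) (nat_lit 64)) (nat_lit 64) t146 = true := by decide +kernel
theorem hb147 : tabB (mu g146 (nat_lit 64)) (nat_lit 64) a120 b147 (look b147 0) = true := by decide +kernel
theorem ha120 : tabA (mu g146 (nat_lit 64)) (nat_lit 64) a120 = true := by decide +kernel
theorem hb148 : tabB (mu g147 (nat_lit 128)) (nat_lit 128) a121 b148 (look b148 0) = true := by decide +kernel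
theorem ha121 : tabA (mu g147 (nat_lit 128)) (nat_lit 128) a121 = true := by decide +kernel
theorem hb149 : tabB (mu g148 (nat_lit 256)) (nat_lit 256) a122 b149 (look b149 0) = true := by decide +kernel
theorem ha122 : tabA (mu g148 (nat_lit 256)) (nat_lit 256) a122 = true := by decide +kernel
theorem hb150 : tabB (mu g149 (nat_lit 512)) (nat_lit 512) a123 b150 (look b150 0) = true := by decide +kernel
theorem ha123 : tabA (mu g149 (nat_lit 512)) (nat_lit 512) a123 = true := by decide +kernel
theorem hb151 : tabB (mu g150 (nat_lit 1024)) (nat_lit 1024) a124 b151 (look b151 0) = true := by decide +kernel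
theorem ha124 : tabA (mu g150 (nat_lit 1024)) (nat_lit 1024) a124 = true := by decide +kernel
theorem hb152 : tabB (mu g3 (nat_lit 8)) (nat_lit 8) a3 b152 (look b152 0) = true := by decide +kernel
theorem hb153 : tabB (mu g152 (nat_lit 16)) (nat_lit 16) a125 b153 (look b153 0) = true := by decide +kernel
theorem ha125 : tabA (mu g152 (nat_lit 16)) (nat_lit 16) a125 = true := by decide +kernel
theorem ht153 : tabT (mu (.ext a125 b153 (nat_lit 16) g152) (nat_lit 32)) (nat_lit 32) t153 = true := by decide +kernel
theorem hb154 : tabB (mu g153 (nat_lit 32)) (nat_lit 32) a126 b154 (look b154 0) = true := by decide +kernel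
theorem ha126 : tabA (mu g153 (nat_lit 32)) (nat_lit 32) a126 = true := by decide +kernel
theorem hb155 : tabB (mu g154 (nat_lit 64)) (nat_lit 64) a127 b155 (look b155 0) = true := by decide +kernel
theorem ha127 : tabA (mu g154 (nat_lit 64)) (nat_lit 64) a127 = true := by decide +kernel
theorem hb156 : tabB (mu g155 (nat_lit 128)) (nat_lit 128) a128 b156 (look b156 0) = true := by decide +kernel
theorem ha128 : tabA (mu g155 (nat_lit 128)) (nat_lit 128) a128 = true := by decide +kernel
theorem hb157 : tabB (mu g156 (nat_lit 256)) (nat_lit 256) a129 b157 (look b157 0) = true := by decide +kernel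
theorem ha129 : tabA (mu g156 (nat_lit 256)) (nat_lit 256) a129 = true := by decide +kernel
theorem hb158 : tabB (mu g157 (nat_lit 512)) (nat_lit 512) a130 b158 (look b158 0) = true := by decide +kernel
theorem ha130 : tabA (mu g157 (nat_lit 512)) (nat_lit 512) a130 = true := by decide +kernel
theorem hb159 : tabB (mu g158 (nat_lit 1024)) (nat_lit 1024) a131 b159 (look b159 0) = true := by decide +kernel
theorem ha131 : tabA (mu g158 (nat_lit 1024)) (nat_lit 1024) a131 = true := by decide +kernel
theorem hb164 : tabB (mu g113 (nat_lit 32)) (nat_lit 32) a134 b164 (look b164 0) = true := by decide +kernel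
theorem ha134 : tabA (mu g113 (nat_lit 32)) (nat_lit 32) a134 = true := by decide +kernel
theorem hb165 : tabB (mu g164 (nat_lit 64)) (nat_lit 64) a135 b165 (look b165 0) = true := by decide +kernel
theorem ha135 : tabA (mu g164 (nat_lit 64)) (nat_lit 64) a135 = true := by decide +kernel
theorem hb166 : tabB (mu g165 (nat_lit 128)) (nat_lit 128) a136 b166 (look b166 0) = true := by decide +kernel
theorem ha136 : tabA (mu g165 (nat_lit 128)) (nat_lit 128) a136 = true := by decide +kernel
theorem hb167 : tabB (mu g166 (nat_lit 256)) (nat_lit 256) a137 b167 (look b167 0) = true := by decide +kernel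
theorem ha137 : tabA (mu g166 (nat_lit 256)) (nat_lit 256) a137 = true := by decide +kernel
theorem hb168 : tabB (mu g167 (nat_lit 512)) (nat_lit 512) a138 b168 (look b168 0) = true := by decide +kernel
theorem ha138 : tabA (mu g167 (nat_lit 512)) (nat_lit 512) a138 = true := by decide +kernel
theorem hb169 : tabB (mu g168 (nat_lit 1024)) (nat_lit 1024) a139 b169 (look b169 0) = true := by decide +kernel
theorem ha139 : tabA (mu g168 (nat_lit 1024)) (nat_lit 1024) a139 = true := by decide +kernel
theorem hb170 : tabB (mu g102 (nat_lit 32)) (nat_lit 32) a140 b170 (look b170 0) = true := by decide +kernel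
theorem ha140 : tabA (mu g102 (nat_lit 32)) (nat_lit 32) a140 = true := by decide +kernel
theorem hb171 : tabB (mu g170 (nat_lit 64)) (nat_lit 64) a141 b171 (look b171 0) = true := by decide +kernel
theorem ha141 : tabA (mu g170 (nat_lit 64)) (nat_lit 64) a141 = true := by decide +kernel
theorem hb172 : tabB (mu g171 (nat_lit 128)) (nat_lit 128) a142 b172 (look b172 0) = true := by decide +kernel
theorem ha142 : tabA (mu g171 (nat_lit 128)) (nat_lit 128) a142 = true := by decide +kernel
theorem hb173 : tabB (mu g172 (nat_lit 256)) (nat_lit 256) a143 b173 (look b173 0) = true := by decide +kernel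
theorem ha143 : tabA (mu g172 (nat_lit 256)) (nat_lit 256) a143 = true := by decide +kernel
theorem hb174 : tabB (mu g173 (nat_lit 512)) (nat_lit 512) a144 b174 (look b174 0) = true := by decide +kernel
theorem ha144 : tabA (mu g173 (nat_lit 512)) (nat_lit 512) a144 = true := by decide +kernel
theorem hb175 : tabB (mu g174 (nat_lit 1024)) (nat_lit 1024) a145 b175 (look b175 0) = true := by decide +kernel
theorem ha145 : tabA (mu g174 (nat_lit 1024)) (nat_lit 1024) a145 = true := by decide +kernel
theorem hb176 : tabB (mu g91 (nat_lit 512)) (nat_lit 512) a146 b176 (look b176 0) = true := by decide +kernel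
theorem ha146 : tabA (mu g91 (nat_lit 512)) (nat_lit 512) a146 = true := by decide +kernel
theorem hb177 : tabB (mu g113 (nat_lit 32)) (nat_lit 32) a147 b177 (look b177 0) = true := by decide +kernel
theorem ha147 : tabA (mu g113 (nat_lit 32)) (nat_lit 32) a147 = true := by decide +kernel
theorem ht177 : tabT (mu (.ext a147 b177 (nat_lit 32) g113) (nat_lit 64)) (nat_lit 64) t177 = true := by decide +kernel
theorem hb178 : tabB (mu g177 (nat_lit 64)) (nat_lit 64) a148 b178 (look b178 0) = true := by decide +kernel
theorem ha148 : tabA (mu g177 (nat_lit 64)) (nat_lit 64) a148 = true := by decide +kernel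
theorem ht178 : tabT (mu (.ext a148 b178 (nat_lit 64) g177) (nat_lit 128)) (nat_lit 128) t178 = true := by decide +kernel
theorem hb179 : tabB (mu g178 (nat_lit 128)) (nat_lit 128) a149 b179 (look b179 0) = true := by decide +kernel
theorem ha149 : tabA (mu g178 (nat_lit 128)) (nat_lit 128) a149 = true := by decide +kernel
theorem hb180 : tabB (mu g179 (nat_lit 256)) (nat_lit 256) a150 b180 (look b180 0) = true := by decide +kernel
theorem ha150 : tabA (mu g179 (nat_lit 256)) (nat_lit 256) a150 = true := by decide +kernel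
theorem hb181 : tabB (mu g180 (nat_lit 512)) (nat_lit 512) a151 b181 (look b181 0) = true := by decide +kernel
theorem ha151 : tabA (mu g180 (nat_lit 512)) (nat_lit 512) a151 = true := by decide +kernel
theorem hb184 : tabB (mu g180 (nat_lit 512)) (nat_lit 512) a153 b184 (look b184 0) = true := by decide +kernel
theorem ha153 : tabA (mu g180 (nat_lit 512)) (nat_lit 512) a153 = true := by decide +kernel
theorem hb185 : tabB (mu g184 (nat_lit 1024)) (nat_lit 1024) a154 b185 (look b185 0) = true := by decide +kernel
theorem ha154 : tabA (mu g184 (nat_lit 1024)) (nat_lit 1024) a154 = true := by decide +kernel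
theorem hb186 : tabB (mu g179 (nat_lit 256)) (nat_lit 256) a155 b186 (look b186 0) = true := by decide +kernel
theorem ha155 : tabA (mu g179 (nat_lit 256)) (nat_lit 256) a155 = true := by decide +kernel
theorem hb187 : tabB (mu g186 (nat_lit 512)) (nat_lit 512) a156 b187 (look b187 0) = true := by decide +kernel
theorem ha156 : tabA (mu g186 (nat_lit 512)) (nat_lit 512) a156 = true := by decide +kernel
theorem hb188 : tabB (mu g187 (nat_lit 1024)) (nat_lit 1024) a157 b188 (look b188 0) = true := by decide +kernel
theorem ha157 : tabA (mu g187 (nat_lit 1024)) (nat_lit 1024) a157 = true := by decide +kernel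
theorem hb191 : tabB (mu g180 (nat_lit 512)) (nat_lit 512) a159 b191 (look b191 0) = true := by decide +kernel
theorem ha159 : tabA (mu g180 (nat_lit 512)) (nat_lit 512) a159 = true := by decide +kernel
theorem hb192 : tabB (mu g191 (nat_lit 1024)) (nat_lit 1024) a160 b192 (look b192 0) = true := by decide +kernel
theorem ha160 : tabA (mu g191 (nat_lit 1024)) (nat_lit 1024) a160 = true := by decide +kernel
theorem hb193 : tabB (mu g186 (nat_lit 512)) (nat_lit 512) a161 b193 (look b193 0) = true := by decide +kernel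
theorem ha161 : tabA (mu g186 (nat_lit 512)) (nat_lit 512) a161 = true := by decide +kernel
theorem hb194 : tabB (mu g193 (nat_lit 1024)) (nat_lit 1024) a162 b194 (look b194 0) = true := by decide +kernel
theorem ha162 : tabA (mu g193 (nat_lit 1024)) (nat_lit 1024) a162 = true := by decide +kernel
theorem hb197 : tabB (mu g39 (nat_lit 8)) (nat_lit 8) a164 b197 (look b197 0) = true := by decide +kernel
theorem ha164 : tabA (mu g39 (nat_lit 8)) (nat_lit 8) a164 = true := by decide +kernel
theorem hb198 : tabB (mu g197 (nat_lit 16)) (nat_lit 16) a165 b198 (look b198 0) = true := by decide +kernel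
theorem ha165 : tabA (mu g197 (nat_lit 16)) (nat_lit 16) a165 = true := by decide +kernel
theorem ht198 : tabT (mu (.ext a165 b198 (nat_lit 16) g197) (nat_lit 32)) (nat_lit 32) t198 = true := by decide +kernel
theorem hb199 : tabB (mu g198 (nat_lit 32)) (nat_lit 32) a166 b199 (look b199 0) = true := by decide +kernel
theorem ha166 : tabA (mu g198 (nat_lit 32)) (nat_lit 32) a166 = true := by decide +kernel
theorem ht199 : tabT (mu (.ext a166 b199 (nat_lit 32) g198) (nat_lit 64)) (nat_lit 64) t199 = true := by decide +kernel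
theorem hb200 : tabB (mu g199 (nat_lit 64)) (nat_lit 64) a167 b200 (look b200 0) = true := by decide +kernel
theorem ha167 : tabA (mu g199 (nat_lit 64)) (nat_lit 64) a167 = true := by decide +kernel
theorem hb201 : tabB (mu g200 (nat_lit 128)) (nat_lit 128) a168 b201 (look b201 0) = true := by decide +kernel
theorem ha168 : tabA (mu g200 (nat_lit 128)) (nat_lit 128) a168 = true := by decide +kernel
theorem hb202 : tabB (mu g201 (nat_lit 256)) (nat_lit 256) a169 b202 (look b202 0) = true := by decide +kernel
theorem ha169 : tabA (mu g201 (nat_lit 256)) (nat_lit 256) a169 = true := by decide +kernel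
theorem hb203 : tabB (mu g202 (nat_lit 512)) (nat_lit 512) a170 b203 (look b203 0) = true := by decide +kernel
theorem ha170 : tabA (mu g202 (nat_lit 512)) (nat_lit 512) a170 = true := by decide +kernel
theorem hb204 : tabB (mu g203 (nat_lit 1024)) (nat_lit 1024) a171 b204 (look b204 0) = true := by decide +kernel
theorem ha171 : tabA (mu g203 (nat_lit 1024)) (nat_lit 1024) a171 = true := by decide +kernel
theorem hb205 : tabB (mu g179 (nat_lit 256)) (nat_lit 256) a172 b205 (look b205 0) = true := by decide +kernel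
theorem ha172 : tabA (mu g179 (nat_lit 256)) (nat_lit 256) a172 = true := by decide +kernel
theorem hb206 : tabB (mu g205 (nat_lit 512)) (nat_lit 512) a173 b206 (look b206 0) = true := by decide +kernel
theorem ha173 : tabA (mu g205 (nat_lit 512)) (nat_lit 512) a173 = true := by decide +kernel
theorem hb207 : tabB (mu g206 (nat_lit 1024)) (nat_lit 1024) a174 b207 (look b207 0) = true := by decide +kernel
theorem ha174 : tabA (mu g206 (nat_lit 1024)) (nat_lit 1024) a174 = true := by decide +kernel
theorem hb210 : tabB (mu g202 (nat_lit 512)) (nat_lit 512) a176 b210 (look b210 0) = true := by decide +kernel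
theorem ha176 : tabA (mu g202 (nat_lit 512)) (nat_lit 512) a176 = true := by decide +kernel
theorem hb211 : tabB (mu g210 (nat_lit 1024)) (nat_lit 1024) a177 b211 (look b211 0) = true := by decide +kernel
theorem ha177 : tabA (mu g210 (nat_lit 1024)) (nat_lit 1024) a177 = true := by decide +kernel
theorem hb212 : tabB (mu g205 (nat_lit 512)) (nat_lit 512) a178 b212 (look b212 0) = true := by decide +kernel
theorem ha178 : tabA (mu g205 (nat_lit 512)) (nat_lit 512) a178 = true := by decide +kernel
theorem hb213 : tabB (mu g212 (nat_lit 1024)) (nat_lit 1024) a179 b213 (look b213 0) = true := by decide +kernel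
theorem ha179 : tabA (mu g212 (nat_lit 1024)) (nat_lit 1024) a179 = true := by decide +kernel
theorem hb216 : tabB (mu g179 (nat_lit 256)) (nat_lit 256) a181 b216 (look b216 0) = true := by decide +kernel
theorem ha181 : tabA (mu g179 (nat_lit 256)) (nat_lit 256) a181 = true := by decide +kernel
theorem hb217 : tabB (mu g216 (nat_lit 512)) (nat_lit 512) a182 b217 (look b217 0) = true := by decide +kernel
theorem ha182 : tabA (mu g216 (nat_lit 512)) (nat_lit 512) a182 = true := by decide +kernel
theorem hb218 : tabB (mu g217 (nat_lit 1024)) (nat_lit 1024) a183 b218 (look b218 0) = true := by decide +kernel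
theorem ha183 : tabA (mu g217 (nat_lit 1024)) (nat_lit 1024) a183 = true := by decide +kernel
theorem hb219 : tabB (mu g179 (nat_lit 256)) (nat_lit 256) a181 b219 (look b219 0) = true := by decide +kernel
theorem hb220 : tabB (mu g219 (nat_lit 512)) (nat_lit 512) a184 b220 (look b220 0) = true := by decide +kernel
theorem ha184 : tabA (mu g219 (nat_lit 512)) (nat_lit 512) a184 = true := by decide +kernel
theorem hb221 : tabB (mu g220 (nat_lit 1024)) (nat_lit 1024) a185 b221 (look b221 0) = true := by decide +kernel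
theorem ha185 : tabA (mu g220 (nat_lit 1024)) (nat_lit 1024) a185 = true := by decide +kernel
theorem hb224 : tabB (mu g216 (nat_lit 512)) (nat_lit 512) a187 b224 (look b224 0) = true := by decide +kernel
theorem ha187 : tabA (mu g216 (nat_lit 512)) (nat_lit 512) a187 = true := by decide +kernel
theorem hb225 : tabB (mu g224 (nat_lit 1024)) (nat_lit 1024) a188 b225 (look b225 0) = true := by decide +kernel
theorem ha188 : tabA (mu g224 (nat_lit 1024)) (nat_lit 1024) a188 = true := by decide +kernel
theorem hb226 : tabB (mu g219 (nat_lit 512)) (nat_lit 512) a189 b226 (look b226 0) = true := by decide +kernel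
theorem ha189 : tabA (mu g219 (nat_lit 512)) (nat_lit 512) a189 = true := by decide +kernel
theorem hb227 : tabB (mu g226 (nat_lit 1024)) (nat_lit 1024) a190 b227 (look b227 0) = true := by decide +kernel
theorem ha190 : tabA (mu g226 (nat_lit 1024)) (nat_lit 1024) a190 = true := by decide +kernel
theorem hb230 : tabB (mu g113 (nat_lit 32)) (nat_lit 32) a192 b230 (look b230 0) = true := by decide +kernel
theorem ha192 : tabA (mu g113 (nat_lit 32)) (nat_lit 32) a192 = true := by decide +kernel
theorem ht230 : tabT (mu (.ext a192 b230 (nat_lit 32) g113) (nat_lit 64)) (nat_lit 64) t230 = true := by decide +kernel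
theorem hb231 : tabB (mu g230 (nat_lit 64)) (nat_lit 64) a193 b231 (look b231 0) = true := by decide +kernel
theorem ha193 : tabA (mu g230 (nat_lit 64)) (nat_lit 64) a193 = true := by decide +kernel
theorem hb232 : tabB (mu g231 (nat_lit 128)) (nat_lit 128) a194 b232 (look b232 0) = true := by decide +kernel
theorem ha194 : tabA (mu g231 (nat_lit 128)) (nat_lit 128) a194 = true := by decide +kernel
theorem hb233 : tabB (mu g232 (nat_lit 256)) (nat_lit 256) a195 b233 (look b233 0) = true := by decide +kernel
theorem ha195 : tabA (mu g232 (nat_lit 256)) (nat_lit 256) a195 = true := by decide +kernel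
theorem hb234 : tabB (mu g233 (nat_lit 512)) (nat_lit 512) a196 b234 (look b234 0) = true := by decide +kernel
theorem ha196 : tabA (mu g233 (nat_lit 512)) (nat_lit 512) a196 = true := by decide +kernel
theorem hb235 : tabB (mu g234 (nat_lit 1024)) (nat_lit 1024) a197 b235 (look b235 0) = true := by decide +kernel
theorem ha197 : tabA (mu g234 (nat_lit 1024)) (nat_lit 1024) a197 = true := by decide +kernel
theorem hb236 : tabB (mu g113 (nat_lit 32)) (nat_lit 32) a192 b236 (look b236 0) = true := by decide +kernel
theorem ht236 : tabT (mu (.ext a192 b236 (nat_lit 32) g113) (nat_lit 64)) (nat_lit 64) t236 = true := by decide +kernel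
theorem hb237 : tabB (mu g236 (nat_lit 64)) (nat_lit 64) a198 b237 (look b237 0) = true := by decide +kernel
theorem ha198 : tabA (mu g236 (nat_lit 64)) (nat_lit 64) a198 = true := by decide +kernel
theorem hb238 : tabB (mu g237 (nat_lit 128)) (nat_lit 128) a199 b238 (look b238 0) = true := by decide +kernel
theorem ha199 : tabA (mu g237 (nat_lit 128)) (nat_lit 128) a199 = true := by decide +kernel
theorem hb239 : tabB (mu g238 (nat_lit 256)) (nat_lit 256) a200 b239 (look b239 0) = true := by decide +kernel
theorem ha200 : tabA (mu g238 (nat_lit 256)) (nat_lit 256) a200 = true := by decide +kernel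
theorem hb240 : tabB (mu g239 (nat_lit 512)) (nat_lit 512) a201 b240 (look b240 0) = true := by decide +kernel
theorem ha201 : tabA (mu g239 (nat_lit 512)) (nat_lit 512) a201 = true := by decide +kernel
theorem hb241 : tabB (mu g240 (nat_lit 1024)) (nat_lit 1024) a202 b241 (look b241 0) = true := by decide +kernel
theorem ha202 : tabA (mu g240 (nat_lit 1024)) (nat_lit 1024) a202 = true := by decide +kernel
theorem hb244 : tabB (mu g239 (nat_lit 512)) (nat_lit 512) a204 b244 (look b244 0) = true := by decide +kernel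
theorem ha204 : tabA (mu g239 (nat_lit 512)) (nat_lit 512) a204 = true := by decide +kernel
theorem hb245 : tabB (mu g244 (nat_lit 1024)) (nat_lit 1024) a205 b245 (look b245 0) = true := by decide +kernel
theorem ha205 : tabA (mu g244 (nat_lit 1024)) (nat_lit 1024) a205 = true := by decide +kernel
theorem hb246 : tabB (mu g233 (nat_lit 512)) (nat_lit 512) a206 b246 (look b246 0) = true := by decide +kernel
theorem ha206 : tabA (mu g233 (nat_lit 512)) (nat_lit 512) a206 = true := by decide +kernel
theorem hb247 : tabB (mu g246 (nat_lit 1024)) (nat_lit 1024) a207 b247 (look b247 0) = true := by decide +kernel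
theorem ha207 : tabA (mu g246 (nat_lit 1024)) (nat_lit 1024) a207 = true := by decide +kernel
theorem hb250 : tabB (mu g113 (nat_lit 32)) (nat_lit 32) a209 b250 (look b250 0) = true := by decide +kernel
theorem ha209 : tabA (mu g113 (nat_lit 32)) (nat_lit 32) a209 = true := by decide +kernel
theorem ht250 : tabT (mu (.ext a209 b250 (nat_lit 32) g113) (nat_lit 64)) (nat_lit 64) t250 = true := by decide +kernel
theorem hb251 : tabB (mu g250 (nat_lit 64)) (nat_lit 64) a210 b251 (look b251 0) = true := by decide +kernel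
theorem ha210 : tabA (mu g250 (nat_lit 64)) (nat_lit 64) a210 = true := by decide +kernel
theorem hb252 : tabB (mu g251 (nat_lit 128)) (nat_lit 128) a211 b252 (look b252 0) = true := by decide +kernel
theorem ha211 : tabA (mu g251 (nat_lit 128)) (nat_lit 128) a211 = true := by decide +kernel
theorem hb253 : tabB (mu g252 (nat_lit 256)) (nat_lit 256) a212 b253 (look b253 0) = true := by decide +kernel
theorem ha212 : tabA (mu g252 (nat_lit 256)) (nat_lit 256) a212 = true := by decide +kernel
theorem hb254 : tabB (mu g253 (nat_lit 512)) (nat_lit 512) a213 b254 (look b254 0) = true := by decide +kernel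
theorem ha213 : tabA (mu g253 (nat_lit 512)) (nat_lit 512) a213 = true := by decide +kernel
theorem hb255 : tabB (mu g254 (nat_lit 1024)) (nat_lit 1024) a214 b255 (look b255 0) = true := by decide +kernel
theorem ha214 : tabA (mu g254 (nat_lit 1024)) (nat_lit 1024) a214 = true := by decide +kernel
theorem hb256 : tabB (mu g112 (nat_lit 16)) (nat_lit 16) a215 b256 (look b256 0) = true := by decide +kernel
theorem ha215 : tabA (mu g112 (nat_lit 16)) (nat_lit 16) a215 = true := by decide +kernel
theorem ht256 : tabT (mu (.ext a215 b256 (nat_lit 16) g112) (nat_lit 32)) (nat_lit 32) t256 = true := by decide +kernel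
theorem hb257 : tabB (mu g256 (nat_lit 32)) (nat_lit 32) a216 b257 (look b257 0) = true := by decide +kernel
theorem ha216 : tabA (mu g256 (nat_lit 32)) (nat_lit 32) a216 = true := by decide +kernel
theorem ht257 : tabT (mu (.ext a216 b257 (nat_lit 32) g256) (nat_lit 64)) (nat_lit 64) t257 = true := by decide +kernel
theorem hb258 : tabB (mu g257 (nat_lit 64)) (nat_lit 64) a217 b258 (look b258 0) = true := by decide +kernel
theorem ha217 : tabA (mu g257 (nat_lit 64)) (nat_lit 64) a217 = true := by decide +kernel
theorem hb259 : tabB (mu g258 (nat_lit 128)) (nat_lit 128) a218 b259 (look b259 0) = true := by decide +kernel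
theorem ha218 : tabA (mu g258 (nat_lit 128)) (nat_lit 128) a218 = true := by decide +kernel
theorem hb260 : tabB (mu g259 (nat_lit 256)) (nat_lit 256) a219 b260 (look b260 0) = true := by decide +kernel
theorem ha219 : tabA (mu g259 (nat_lit 256)) (nat_lit 256) a219 = true := by decide +kernel
theorem hb261 : tabB (mu g260 (nat_lit 512)) (nat_lit 512) a220 b261 (look b261 0) = true := by decide +kernel
theorem ha220 : tabA (mu g260 (nat_lit 512)) (nat_lit 512) a220 = true := by decide +kernel
theorem hb262 : tabB (mu g261 (nat_lit 1024)) (nat_lit 1024) a221 b262 (look b262 0) = true := by decide +kernel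
theorem ha221 : tabA (mu g261 (nat_lit 1024)) (nat_lit 1024) a221 = true := by decide +kernel
theorem hb265 : tabB (mu g260 (nat_lit 512)) (nat_lit 512) a223 b265 (look b265 0) = true := by decide +kernel
theorem ha223 : tabA (mu g260 (nat_lit 512)) (nat_lit 512) a223 = true := by decide +kernel
theorem hb266 : tabB (mu g265 (nat_lit 1024)) (nat_lit 1024) a224 b266 (look b266 0) = true := by decide +kernel
theorem ha224 : tabA (mu g265 (nat_lit 1024)) (nat_lit 1024) a224 = true := by decide +kernel
theorem hb267 : tabB (mu g253 (nat_lit 512)) (nat_lit 512) a225 b267 (look b267 0) = true := by decide +kernel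
theorem ha225 : tabA (mu g253 (nat_lit 512)) (nat_lit 512) a225 = true := by decide +kernel
theorem hb268 : tabB (mu g267 (nat_lit 1024)) (nat_lit 1024) a226 b268 (look b268 0) = true := by decide +kernel
theorem ha226 : tabA (mu g267 (nat_lit 1024)) (nat_lit 1024) a226 = true := by decide +kernel
theorem hb271 : tabB (mu g128 (nat_lit 32)) (nat_lit 32) a228 b271 (look b271 0) = true := by decide +kernel
theorem ha228 : tabA (mu g128 (nat_lit 32)) (nat_lit 32) a228 = true := by decide +kernel
theorem ht271 : tabT (mu (.ext a228 b271 (nat_lit 32) g128) (nat_lit 64)) (nat_lit 64) t271 = true := by decide +kernel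
theorem hb272 : tabB (mu g271 (nat_lit 64)) (nat_lit 64) a229 b272 (look b272 0) = true := by decide +kernel
theorem ha229 : tabA (mu g271 (nat_lit 64)) (nat_lit 64) a229 = true := by decide +kernel
theorem hb273 : tabB (mu g272 (nat_lit 128)) (nat_lit 128) a230 b273 (look b273 0) = true := by decide +kernel
theorem ha230 : tabA (mu g272 (nat_lit 128)) (nat_lit 128) a230 = true := by decide +kernel
theorem hb274 : tabB (mu g273 (nat_lit 256)) (nat_lit 256) a231 b274 (look b274 0) = true := by decide +kernel
theorem ha231 : tabA (mu g273 (nat_lit 256)) (nat_lit 256) a231 = true := by decide +kernel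
theorem hb275 : tabB (mu g274 (nat_lit 512)) (nat_lit 512) a232 b275 (look b275 0) = true := by decide +kernel
theorem ha232 : tabA (mu g274 (nat_lit 512)) (nat_lit 512) a232 = true := by decide +kernel
theorem hb276 : tabB (mu g275 (nat_lit 1024)) (nat_lit 1024) a233 b276 (look b276 0) = true := by decide +kernel
theorem ha233 : tabA (mu g275 (nat_lit 1024)) (nat_lit 1024) a233 = true := by decide +kernel
theorem hb277 : tabB (mu g112 (nat_lit 16)) (nat_lit 16) a234 b277 (look b277 0) = true := by decide +kernel
theorem ha234 : tabA (mu g112 (nat_lit 16)) (nat_lit 16) a234 = true := by decide +kernel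
theorem ht277 : tabT (mu (.ext a234 b277 (nat_lit 16) g112) (nat_lit 32)) (nat_lit 32) t277 = true := by decide +kernel
theorem hb278 : tabB (mu g277 (nat_lit 32)) (nat_lit 32) a235 b278 (look b278 0) = true := by decide +kernel
theorem ha235 : tabA (mu g277 (nat_lit 32)) (nat_lit 32) a235 = true := by decide +kernel
theorem hb279 : tabB (mu g278 (nat_lit 64)) (nat_lit 64) a236 b279 (look b279 0) = true := by decide +kernel
theorem ha236 : tabA (mu g278 (nat_lit 64)) (nat_lit 64) a236 = true := by decide +kernel
theorem hb280 : tabB (mu g279 (nat_lit 128)) (nat_lit 128) a237 b280 (look b280 0) = true := by decide +kernel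
theorem ha237 : tabA (mu g279 (nat_lit 128)) (nat_lit 128) a237 = true := by decide +kernel
theorem hb281 : tabB (mu g280 (nat_lit 256)) (nat_lit 256) a238 b281 (look b281 0) = true := by decide +kernel
theorem ha238 : tabA (mu g280 (nat_lit 256)) (nat_lit 256) a238 = true := by decide +kernel
theorem hb282 : tabB (mu g281 (nat_lit 512)) (nat_lit 512) a239 b282 (look b282 0) = true := by decide +kernel
theorem ha239 : tabA (mu g281 (nat_lit 512)) (nat_lit 512) a239 = true := by decide +kernel
theorem hb283 : tabB (mu g282 (nat_lit 1024)) (nat_lit 1024) a240 b283 (look b283 0) = true := by decide +kernel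
theorem ha240 : tabA (mu g282 (nat_lit 1024)) (nat_lit 1024) a240 = true := by decide +kernel
theorem hb286 : tabB (mu g39 (nat_lit 8)) (nat_lit 8) a242 b286 (look b286 0) = true := by decide +kernel
theorem ha242 : tabA (mu g39 (nat_lit 8)) (nat_lit 8) a242 = true := by decide +kernel
theorem hb287 : tabB (mu g286 (nat_lit 16)) (nat_lit 16) a243 b287 (look b287 0) = true := by decide +kernel
theorem ha243 : tabA (mu g286 (nat_lit 16)) (nat_lit 16) a243 = true := by decide +kernel
theorem ht287 : tabT (mu (.ext a243 b287 (nat_lit 16) g286) (nat_lit 32)) (nat_lit 32) t287 = true := by decide +kernel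
theorem hb288 : tabB (mu g287 (nat_lit 32)) (nat_lit 32) a244 b288 (look b288 0) = true := by decide +kernel
theorem ha244 : tabA (mu g287 (nat_lit 32)) (nat_lit 32) a244 = true := by decide +kernel
theorem hb289 : tabB (mu g288 (nat_lit 64)) (nat_lit 64) a245 b289 (look b289 0) = true := by decide +kernel
theorem ha245 : tabA (mu g288 (nat_lit 64)) (nat_lit 64) a245 = true := by decide +kernel
theorem hb290 : tabB (mu g289 (nat_lit 128)) (nat_lit 128) a246 b290 (look b290 0) = true := by decide +kernel
theorem ha246 : tabA (mu g289 (nat_lit 128)) (nat_lit 128) a246 = true := by decide +kernel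
theorem hb291 : tabB (mu g290 (nat_lit 256)) (nat_lit 256) a247 b291 (look b291 0) = true := by decide +kernel
theorem ha247 : tabA (mu g290 (nat_lit 256)) (nat_lit 256) a247 = true := by decide +kernel
theorem hb292 : tabB (mu g291 (nat_lit 512)) (nat_lit 512) a248 b292 (look b292 0) = true := by decide +kernel
theorem ha248 : tabA (mu g291 (nat_lit 512)) (nat_lit 512) a248 = true := by decide +kernel
theorem hb293 : tabB (mu g292 (nat_lit 1024)) (nat_lit 1024) a249 b293 (look b293 0) = true := by decide +kernel
theorem ha249 : tabA (mu g292 (nat_lit 1024)) (nat_lit 1024) a249 = true := by decide +kernel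
theorem hb294 : tabB (mu g274 (nat_lit 512)) (nat_lit 512) a250 b294 (look b294 0) = true := by decide +kernel
theorem ha250 : tabA (mu g274 (nat_lit 512)) (nat_lit 512) a250 = true := by decide +kernel
theorem hb295 : tabB (mu g294 (nat_lit 1024)) (nat_lit 1024) a251 b295 (look b295 0) = true := by decide +kernel
theorem ha251 : tabA (mu g294 (nat_lit 1024)) (nat_lit 1024) a251 = true := by decide +kernel
theorem hb298 : tabB (mu g114 (nat_lit 64)) (nat_lit 64) a253 b298 (look b298 0) = true := by decide +kernel
theorem ha253 : tabA (mu g114 (nat_lit 64)) (nat_lit 64) a253 = true := by decide +kernel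
theorem hb299 : tabB (mu g298 (nat_lit 128)) (nat_lit 128) a254 b299 (look b299 0) = true := by decide +kernel
theorem ha254 : tabA (mu g298 (nat_lit 128)) (nat_lit 128) a254 = true := by decide +kernel
theorem hb300 : tabB (mu g299 (nat_lit 256)) (nat_lit 256) a255 b300 (look b300 0) = true := by decide +kernel
theorem ha255 : tabA (mu g299 (nat_lit 256)) (nat_lit 256) a255 = true := by decide +kernel
theorem hb301 : tabB (mu g300 (nat_lit 512)) (nat_lit 512) a256 b301 (look b301 0) = true := by decide +kernel
theorem ha256 : tabA (mu g300 (nat_lit 512)) (nat_lit 512) a256 = true := by decide +kernel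
theorem hb302 : tabB (mu g301 (nat_lit 1024)) (nat_lit 1024) a257 b302 (look b302 0) = true := by decide +kernel
theorem ha257 : tabA (mu g301 (nat_lit 1024)) (nat_lit 1024) a257 = true := by decide +kernel
theorem hb303 : tabB (mu g146 (nat_lit 64)) (nat_lit 64) a258 b303 (look b303 0) = true := by decide +kernel
theorem ha258 : tabA (mu g146 (nat_lit 64)) (nat_lit 64) a258 = true := by decide +kernel
theorem hb304 : tabB (mu g303 (nat_lit 128)) (nat_lit 128) a259 b304 (look b304 0) = true := by decide +kernel
theorem ha259 : tabA (mu g303 (nat_lit 128)) (nat_lit 128) a259 = true := by decide +kernel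
theorem hb305 : tabB (mu g304 (nat_lit 256)) (nat_lit 256) a260 b305 (look b305 0) = true := by decide +kernel
theorem ha260 : tabA (mu g304 (nat_lit 256)) (nat_lit 256) a260 = true := by decide +kernel
theorem hb306 : tabB (mu g305 (nat_lit 512)) (nat_lit 512) a261 b306 (look b306 0) = true := by decide +kernel
theorem ha261 : tabA (mu g305 (nat_lit 512)) (nat_lit 512) a261 = true := by decide +kernel
theorem hb307 : tabB (mu g306 (nat_lit 1024)) (nat_lit 1024) a262 b307 (look b307 0) = true := by decide +kernel
theorem ha262 : tabA (mu g306 (nat_lit 1024)) (nat_lit 1024) a262 = true := by decide +kernel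
theorem hb310 : tabB (mu g305 (nat_lit 512)) (nat_lit 512) a264 b310 (look b310 0) = true := by decide +kernel
theorem ha264 : tabA (mu g305 (nat_lit 512)) (nat_lit 512) a264 = true := by decide +kernel
theorem hb311 : tabB (mu g310 (nat_lit 1024)) (nat_lit 1024) a265 b311 (look b311 0) = true := by decide +kernel
theorem ha265 : tabA (mu g310 (nat_lit 1024)) (nat_lit 1024) a265 = true := by decide +kernel
theorem hb312 : tabB (mu g300 (nat_lit 512)) (nat_lit 512) a266 b312 (look b312 0) = true := by decide +kernel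
theorem ha266 : tabA (mu g300 (nat_lit 512)) (nat_lit 512) a266 = true := by decide +kernel
theorem hb313 : tabB (mu g312 (nat_lit 1024)) (nat_lit 1024) a267 b313 (look b313 0) = true := by decide +kernel
theorem ha267 : tabA (mu g312 (nat_lit 1024)) (nat_lit 1024) a267 = true := by decide +kernel
theorem hb316 : tabB (mu g103 (nat_lit 64)) (nat_lit 64) a269 b316 (look b316 0) = true := by decide +kernel
theorem ha269 : tabA (mu g103 (nat_lit 64)) (nat_lit 64) a269 = true := by decide +kernel
theorem hb317 : tabB (mu g316 (nat_lit 128)) (nat_lit 128) a270 b317 (look b317 0) = true := by decide +kernel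
theorem ha270 : tabA (mu g316 (nat_lit 128)) (nat_lit 128) a270 = true := by decide +kernel
theorem hb318 : tabB (mu g317 (nat_lit 256)) (nat_lit 256) a271 b318 (look b318 0) = true := by decide +kernel
theorem ha271 : tabA (mu g317 (nat_lit 256)) (nat_lit 256) a271 = true := by decide +kernel
theorem hb319 : tabB (mu g318 (nat_lit 512)) (nat_lit 512) a272 b319 (look b319 0) = true := by decide +kernel
theorem ha272 : tabA (mu g318 (nat_lit 512)) (nat_lit 512) a272 = true := by decide +kernel
theorem hb324 : tabB (mu g97 (nat_lit 128)) (nat_lit 128) a275 b324 (look b324 0) = true := by decide +kernel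
theorem ha275 : tabA (mu g97 (nat_lit 128)) (nat_lit 128) a275 = true := by decide +kernel
theorem hb325 : tabB (mu g324 (nat_lit 256)) (nat_lit 256) a276 b325 (look b325 0) = true := by decide +kernel
theorem ha276 : tabA (mu g324 (nat_lit 256)) (nat_lit 256) a276 = true := by decide +kernel
theorem hb326 : tabB (mu g325 (nat_lit 512)) (nat_lit 512) a277 b326 (look b326 0) = true := by decide +kernel
theorem ha277 : tabA (mu g325 (nat_lit 512)) (nat_lit 512) a277 = true := by decide +kernel
theorem hb327 : tabB (mu g326 (nat_lit 1024)) (nat_lit 1024) a278 b327 (look b327 0) = true := by decide +kernel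
theorem ha278 : tabA (mu g326 (nat_lit 1024)) (nat_lit 1024) a278 = true := by decide +kernel
theorem hb328 : tabB (mu g3 (nat_lit 8)) (nat_lit 8) a279 b328 (look b328 0) = true := by decide +kernel
theorem ha279 : tabA (mu g3 (nat_lit 8)) (nat_lit 8) a279 = true := by decide +kernel
theorem hb329 : tabB (mu g328 (nat_lit 16)) (nat_lit 16) a280 b329 (look b329 0) = true := by decide +kernel
theorem ha280 : tabA (mu g328 (nat_lit 16)) (nat_lit 16) a280 = true := by decide +kernel
theorem ht329 : tabT (mu (.ext a280 b329 (nat_lit 16) g328) (nat_lit 32)) (nat_lit 32) t329 = true := by decide +kernel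
theorem hb330 : tabB (mu g329 (nat_lit 32)) (nat_lit 32) a281 b330 (look b330 0) = true := by decide +kernel
theorem ha281 : tabA (mu g329 (nat_lit 32)) (nat_lit 32) a281 = true := by decide +kernel
theorem ht330 : tabT (mu (.ext a281 b330 (nat_lit 32) g329) (nat_lit 64)) (nat_lit 64) t330 = true := by decide +kernel
theorem hb331 : tabB (mu g330 (nat_lit 64)) (nat_lit 64) a282 b331 (look b331 0) = true := by decide +kernel
theorem ha282 : tabA (mu g330 (nat_lit 64)) (nat_lit 64) a282 = true := by decide +kernel
theorem hb332 : tabB (mu g331 (nat_lit 128)) (nat_lit 128) a283 b332 (look b332 0) = true := by decide +kernel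
theorem ha283 : tabA (mu g331 (nat_lit 128)) (nat_lit 128) a283 = true := by decide +kernel
theorem hb333 : tabB (mu g332 (nat_lit 256)) (nat_lit 256) a284 b333 (look b333 0) = true := by decide +kernel
theorem ha284 : tabA (mu g332 (nat_lit 256)) (nat_lit 256) a284 = true := by decide +kernel
theorem hb334 : tabB (mu g333 (nat_lit 512)) (nat_lit 512) a285 b334 (look b334 0) = true := by decide +kernel
theorem ha285 : tabA (mu g333 (nat_lit 512)) (nat_lit 512) a285 = true := by decide +kernel
theorem hb335 : tabB (mu g334 (nat_lit 1024)) (nat_lit 1024) a286 b335 (look b335 0) = true := by decide +kernel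
theorem ha286 : tabA (mu g334 (nat_lit 1024)) (nat_lit 1024) a286 = true := by decide +kernel
theorem hb340 : tabB (mu g328 (nat_lit 16)) (nat_lit 16) a289 b340 (look b340 0) = true := by decide +kernel
theorem ha289 : tabA (mu g328 (nat_lit 16)) (nat_lit 16) a289 = true := by decide +kernel
theorem ht340 : tabT (mu (.ext a289 b340 (nat_lit 16) g328) (nat_lit 32)) (nat_lit 32) t340 = true := by decide +kernel
theorem hb341 : tabB (mu g340 (nat_lit 32)) (nat_lit 32) a290 b341 (look b341 0) = true := by decide +kernel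
theorem ha290 : tabA (mu g340 (nat_lit 32)) (nat_lit 32) a290 = true := by decide +kernel
theorem hb342 : tabB (mu g341 (nat_lit 64)) (nat_lit 64) a291 b342 (look b342 0) = true := by decide +kernel
theorem ha291 : tabA (mu g341 (nat_lit 64)) (nat_lit 64) a291 = true := by decide +kernel
theorem hb343 : tabB (mu g342 (nat_lit 128)) (nat_lit 128) a292 b343 (look b343 0) = true := by decide +kernel
theorem ha292 : tabA (mu g342 (nat_lit 128)) (nat_lit 128) a292 = true := by decide +kernel
theorem hb344 : tabB (mu g343 (nat_lit 256)) (nat_lit 256) a293 b344 (look b344 0) = true := by decide +kernel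
theorem ha293 : tabA (mu g343 (nat_lit 256)) (nat_lit 256) a293 = true := by decide +kernel
theorem hb345 : tabB (mu g344 (nat_lit 512)) (nat_lit 512) a294 b345 (look b345 0) = true := by decide +kernel
theorem ha294 : tabA (mu g344 (nat_lit 512)) (nat_lit 512) a294 = true := by decide +kernel
theorem hb346 : tabB (mu g345 (nat_lit 1024)) (nat_lit 1024) a295 b346 (look b346 0) = true := by decide +kernel
theorem ha295 : tabA (mu g345 (nat_lit 1024)) (nat_lit 1024) a295 = true := by decide +kernel
theorem hb347 : tabB (mu g325 (nat_lit 512)) (nat_lit 512) a296 b347 (look b347 0) = true := by decide +kernel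
theorem ha296 : tabA (mu g325 (nat_lit 512)) (nat_lit 512) a296 = true := by decide +kernel
theorem hb348 : tabB (mu g347 (nat_lit 1024)) (nat_lit 1024) a297 b348 (look b348 0) = true := by decide +kernel
theorem ha297 : tabA (mu g347 (nat_lit 1024)) (nat_lit 1024) a297 = true := by decide +kernel
theorem hb350 : tabB (mu g97 (nat_lit 128)) (nat_lit 128) a298 b350 (look b350 0) = true := by decide +kernel
theorem ha298 : tabA (mu g97 (nat_lit 128)) (nat_lit 128) a298 = true := by decide +kernel
theorem hb351 : tabB (mu g350 (nat_lit 256)) (nat_lit 256) a299 b351 (look b351 0) = true := by decide +kernel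
theorem ha299 : tabA (mu g350 (nat_lit 256)) (nat_lit 256) a299 = true := by decide +kernel
theorem hb352 : tabB (mu g351 (nat_lit 512)) (nat_lit 512) a300 b352 (look b352 0) = true := by decide +kernel
theorem ha300 : tabA (mu g351 (nat_lit 512)) (nat_lit 512) a300 = true := by decide +kernel
theorem hb357 : tabB (mu g329 (nat_lit 32)) (nat_lit 32) a281 b357 (look b357 0) = true := by decide +kernel
theorem ht357 : tabT (mu (.ext a281 b357 (nat_lit 32) g329) (nat_lit 64)) (nat_lit 64) t357 = true := by decide +kernel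
theorem hb358 : tabB (mu g357 (nat_lit 64)) (nat_lit 64) a303 b358 (look b358 0) = true := by decide +kernel
theorem ha303 : tabA (mu g357 (nat_lit 64)) (nat_lit 64) a303 = true := by decide +kernel
theorem hb359 : tabB (mu g358 (nat_lit 128)) (nat_lit 128) a304 b359 (look b359 0) = true := by decide +kernel
theorem ha304 : tabA (mu g358 (nat_lit 128)) (nat_lit 128) a304 = true := by decide +kernel
theorem hb360 : tabB (mu g359 (nat_lit 256)) (nat_lit 256) a305 b360 (look b360 0) = true := by decide +kernel
theorem ha305 : tabA (mu g359 (nat_lit 256)) (nat_lit 256) a305 = true := by decide +kernel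
theorem hb361 : tabB (mu g360 (nat_lit 512)) (nat_lit 512) a306 b361 (look b361 0) = true := by decide +kernel
theorem ha306 : tabA (mu g360 (nat_lit 512)) (nat_lit 512) a306 = true := by decide +kernel
theorem hb362 : tabB (mu g361 (nat_lit 1024)) (nat_lit 1024) a307 b362 (look b362 0) = true := by decide +kernel
theorem ha307 : tabA (mu g361 (nat_lit 1024)) (nat_lit 1024) a307 = true := by decide +kernel
theorem hb363 : tabB (mu g351 (nat_lit 512)) (nat_lit 512) a308 b363 (look b363 0) = true := by decide +kernel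
theorem ha308 : tabA (mu g351 (nat_lit 512)) (nat_lit 512) a308 = true := by decide +kernel
theorem hb364 : tabB (mu g363 (nat_lit 1024)) (nat_lit 1024) a309 b364 (look b364 0) = true := by decide +kernel
theorem ha309 : tabA (mu g363 (nat_lit 1024)) (nat_lit 1024) a309 = true := by decide +kernel
theorem hb369 : tabB (mu g351 (nat_lit 512)) (nat_lit 512) a312 b369 (look b369 0) = true := by decide +kernel
theorem ha312 : tabA (mu g351 (nat_lit 512)) (nat_lit 512) a312 = true := by decide +kernel
theorem hb370 : tabB (mu g369 (nat_lit 1024)) (nat_lit 1024) a313 b370 (look b370 0) = true := by decide +kernel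
theorem ha313 : tabA (mu g369 (nat_lit 1024)) (nat_lit 1024) a313 = true := by decide +kernel
theorem hb371 : tabB (mu g329 (nat_lit 32)) (nat_lit 32) a314 b371 (look b371 0) = true := by decide +kernel
theorem ha314 : tabA (mu g329 (nat_lit 32)) (nat_lit 32) a314 = true := by decide +kernel
theorem hb372 : tabB (mu g371 (nat_lit 64)) (nat_lit 64) a315 b372 (look b372 0) = true := by decide +kernel
theorem ha315 : tabA (mu g371 (nat_lit 64)) (nat_lit 64) a315 = true := by decide +kernel
theorem hb373 : tabB (mu g372 (nat_lit 128)) (nat_lit 128) a316 b373 (look b373 0) = true := by decide +kernel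
theorem ha316 : tabA (mu g372 (nat_lit 128)) (nat_lit 128) a316 = true := by decide +kernel
theorem hb374 : tabB (mu g373 (nat_lit 256)) (nat_lit 256) a317 b374 (look b374 0) = true := by decide +kernel
theorem ha317 : tabA (mu g373 (nat_lit 256)) (nat_lit 256) a317 = true := by decide +kernel
theorem hb375 : tabB (mu g374 (nat_lit 512)) (nat_lit 512) a318 b375 (look b375 0) = true := by decide +kernel
theorem ha318 : tabA (mu g374 (nat_lit 512)) (nat_lit 512) a318 = true := by decide +kernel
theorem hb376 : tabB (mu g375 (nat_lit 1024)) (nat_lit 1024) a319 b376 (look b376 0) = true := by decide +kernel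
theorem ha319 : tabA (mu g375 (nat_lit 1024)) (nat_lit 1024) a319 = true := by decide +kernel
theorem hb378 : tabB (mu g316 (nat_lit 128)) (nat_lit 128) a321 b378 (look b378 0) = true := by decide +kernel
theorem ha321 : tabA (mu g316 (nat_lit 128)) (nat_lit 128) a321 = true := by decide +kernel
theorem hb379 : tabB (mu g378 (nat_lit 256)) (nat_lit 256) a322 b379 (look b379 0) = true := by decide +kernel
theorem ha322 : tabA (mu g378 (nat_lit 256)) (nat_lit 256) a322 = true := by decide +kernel
theorem hb380 : tabB (mu g379 (nat_lit 512)) (nat_lit 512) a323 b380 (look b380 0) = true := by decide +kernel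
theorem ha323 : tabA (mu g379 (nat_lit 512)) (nat_lit 512) a323 = true := by decide +kernel
theorem hb383 : tabB (mu g102 (nat_lit 32)) (nat_lit 32) a325 b383 (look b383 0) = true := by decide +kernel
theorem ha325 : tabA (mu g102 (nat_lit 32)) (nat_lit 32) a325 = true := by decide +kernel
theorem hb384 : tabB (mu g383 (nat_lit 64)) (nat_lit 64) a326 b384 (look b384 0) = true := by decide +kernel
theorem ha326 : tabA (mu g383 (nat_lit 64)) (nat_lit 64) a326 = true := by decide +kernel
theorem hb385 : tabB (mu g384 (nat_lit 128)) (nat_lit 128) a327 b385 (look b385 0) = true := by decide +kernel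
theorem ha327 : tabA (mu g384 (nat_lit 128)) (nat_lit 128) a327 = true := by decide +kernel
theorem hb386 : tabB (mu g385 (nat_lit 256)) (nat_lit 256) a328 b386 (look b386 0) = true := by decide +kernel
theorem ha328 : tabA (mu g385 (nat_lit 256)) (nat_lit 256) a328 = true := by decide +kernel
theorem hb387 : tabB (mu g386 (nat_lit 512)) (nat_lit 512) a329 b387 (look b387 0) = true := by decide +kernel
theorem ha329 : tabA (mu g386 (nat_lit 512)) (nat_lit 512) a329 = true := by decide +kernel
theorem hb388 : tabB (mu g387 (nat_lit 1024)) (nat_lit 1024) a330 b388 (look b388 0) = true := by decide +kernel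
theorem ha330 : tabA (mu g387 (nat_lit 1024)) (nat_lit 1024) a330 = true := by decide +kernel
theorem hb389 : tabB (mu g360 (nat_lit 512)) (nat_lit 512) a331 b389 (look b389 0) = true := by decide +kernel
theorem ha331 : tabA (mu g360 (nat_lit 512)) (nat_lit 512) a331 = true := by decide +kernel
theorem hb390 : tabB (mu g389 (nat_lit 1024)) (nat_lit 1024) a332 b390 (look b390 0) = true := by decide +kernel
theorem ha332 : tabA (mu g389 (nat_lit 1024)) (nat_lit 1024) a332 = true := by decide +kernel
theorem hb395 : tabB (mu g153 (nat_lit 32)) (nat_lit 32) a335 b395 (look b395 0) = true := by decide +kernel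
theorem ha335 : tabA (mu g153 (nat_lit 32)) (nat_lit 32) a335 = true := by decide +kernel
theorem hb396 : tabB (mu g395 (nat_lit 64)) (nat_lit 64) a336 b396 (look b396 0) = true := by decide +kernel
theorem ha336 : tabA (mu g395 (nat_lit 64)) (nat_lit 64) a336 = true := by decide +kernel
theorem hb397 : tabB (mu g396 (nat_lit 128)) (nat_lit 128) a337 b397 (look b397 0) = true := by decide +kernel
theorem ha337 : tabA (mu g396 (nat_lit 128)) (nat_lit 128) a337 = true := by decide +kernel
theorem hb398 : tabB (mu g397 (nat_lit 256)) (nat_lit 256) a338 b398 (look b398 0) = true := by decide +kernel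
theorem ha338 : tabA (mu g397 (nat_lit 256)) (nat_lit 256) a338 = true := by decide +kernel
theorem hb399 : tabB (mu g398 (nat_lit 512)) (nat_lit 512) a339 b399 (look b399 0) = true := by decide +kernel
theorem ha339 : tabA (mu g398 (nat_lit 512)) (nat_lit 512) a339 = true := by decide +kernel
theorem hb400 : tabB (mu g399 (nat_lit 1024)) (nat_lit 1024) a340 b400 (look b400 0) = true := by decide +kernel
theorem ha340 : tabA (mu g399 (nat_lit 1024)) (nat_lit 1024) a340 = true := by decide +kernel
theorem hb401 : tabB (mu g39 (nat_lit 8)) (nat_lit 8) a341 b401 (look b401 0) = true := by decide +kernel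
theorem ha341 : tabA (mu g39 (nat_lit 8)) (nat_lit 8) a341 = true := by decide +kernel
theorem hb402 : tabB (mu g401 (nat_lit 16)) (nat_lit 16) a342 b402 (look b402 0) = true := by decide +kernel
theorem ha342 : tabA (mu g401 (nat_lit 16)) (nat_lit 16) a342 = true := by decide +kernel
theorem ht402 : tabT (mu (.ext a342 b402 (nat_lit 16) g401) (nat_lit 32)) (nat_lit 32) t402 = true := by decide +kernel
theorem hb403 : tabB (mu g402 (nat_lit 32)) (nat_lit 32) a343 b403 (look b403 0) = true := by decide +kernel
theorem ha343 : tabA (mu g402 (nat_lit 32)) (nat_lit 32) a343 = true := by decide +kernel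
theorem hb404 : tabB (mu g403 (nat_lit 64)) (nat_lit 64) a344 b404 (look b404 0) = true := by decide +kernel
theorem ha344 : tabA (mu g403 (nat_lit 64)) (nat_lit 64) a344 = true := by decide +kernel
theorem hb405 : tabB (mu g404 (nat_lit 128)) (nat_lit 128) a345 b405 (look b405 0) = true := by decide +kernel
theorem ha345 : tabA (mu g404 (nat_lit 128)) (nat_lit 128) a345 = true := by decide +kernel
theorem hb406 : tabB (mu g405 (nat_lit 256)) (nat_lit 256) a346 b406 (look b406 0) = true := by decide +kernel
theorem ha346 : tabA (mu g405 (nat_lit 256)) (nat_lit 256) a346 = true := by decide +kernel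
theorem hb407 : tabB (mu g406 (nat_lit 512)) (nat_lit 512) a347 b407 (look b407 0) = true := by decide +kernel
theorem ha347 : tabA (mu g406 (nat_lit 512)) (nat_lit 512) a347 = true := by decide +kernel
theorem hb408 : tabB (mu g407 (nat_lit 1024)) (nat_lit 1024) a348 b408 (look b408 0) = true := by decide +kernel
theorem ha348 : tabA (mu g407 (nat_lit 1024)) (nat_lit 1024) a348 = true := by decide +kernel
theorem hb412 : tabB (mu g97 (nat_lit 128)) (nat_lit 128) a350 b412 (look b412 0) = true := by decide +kernel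
theorem ha350 : tabA (mu g97 (nat_lit 128)) (nat_lit 128) a350 = true := by decide +kernel
theorem hb413 : tabB (mu g412 (nat_lit 256)) (nat_lit 256) a351 b413 (look b413 0) = true := by decide +kernel
theorem ha351 : tabA (mu g412 (nat_lit 256)) (nat_lit 256) a351 = true := by decide +kernel
theorem hb414 : tabB (mu g413 (nat_lit 512)) (nat_lit 512) a352 b414 (look b414 0) = true := by decide +kernel
theorem ha352 : tabA (mu g413 (nat_lit 512)) (nat_lit 512) a352 = true := by decide +kernel
theorem hb417 : tabB (mu g333 (nat_lit 512)) (nat_lit 512) a354 b417 (look b417 0) = true := by decide +kernel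
theorem ha354 : tabA (mu g333 (nat_lit 512)) (nat_lit 512) a354 = true := by decide +kernel
theorem hb418 : tabB (mu g417 (nat_lit 1024)) (nat_lit 1024) a355 b418 (look b418 0) = true := by decide +kernel
theorem ha355 : tabA (mu g417 (nat_lit 1024)) (nat_lit 1024) a355 = true := by decide +kernel
theorem hb419 : tabB (mu g97 (nat_lit 128)) (nat_lit 128) a356 b419 (look b419 0) = true := by decide +kernel
theorem ha356 : tabA (mu g97 (nat_lit 128)) (nat_lit 128) a356 = true := by decide +kernel
theorem hb420 : tabB (mu g419 (nat_lit 256)) (nat_lit 256) a357 b420 (look b420 0) = true := by decide +kernel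
theorem ha357 : tabA (mu g419 (nat_lit 256)) (nat_lit 256) a357 = true := by decide +kernel
theorem hb421 : tabB (mu g420 (nat_lit 512)) (nat_lit 512) a358 b421 (look b421 0) = true := by decide +kernel
theorem ha358 : tabA (mu g420 (nat_lit 512)) (nat_lit 512) a358 = true := by decide +kernel
theorem hb422 : tabB (mu g421 (nat_lit 1024)) (nat_lit 1024) a359 b422 (look b422 0) = true := by decide +kernel
theorem ha359 : tabA (mu g421 (nat_lit 1024)) (nat_lit 1024) a359 = true := by decide +kernel
theorem hb427 : tabB (mu g420 (nat_lit 512)) (nat_lit 512) a362 b427 (look b427 0) = true := by decide +kernel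
theorem ha362 : tabA (mu g420 (nat_lit 512)) (nat_lit 512) a362 = true := by decide +kernel
theorem hb428 : tabB (mu g427 (nat_lit 1024)) (nat_lit 1024) a363 b428 (look b428 0) = true := by decide +kernel
theorem ha363 : tabA (mu g427 (nat_lit 1024)) (nat_lit 1024) a363 = true := by decide +kernel
theorem hb429 : tabB (mu g340 (nat_lit 32)) (nat_lit 32) a364 b429 (look b429 0) = true := by decide +kernel
theorem ha364 : tabA (mu g340 (nat_lit 32)) (nat_lit 32) a364 = true := by decide +kernel
theorem hb430 : tabB (mu g429 (nat_lit 64)) (nat_lit 64) a365 b430 (look b430 0) = true := by decide +kernel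
theorem ha365 : tabA (mu g429 (nat_lit 64)) (nat_lit 64) a365 = true := by decide +kernel
theorem hb431 : tabB (mu g430 (nat_lit 128)) (nat_lit 128) a366 b431 (look b431 0) = true := by decide +kernel
theorem ha366 : tabA (mu g430 (nat_lit 128)) (nat_lit 128) a366 = true := by decide +kernel
theorem hb432 : tabB (mu g431 (nat_lit 256)) (nat_lit 256) a367 b432 (look b432 0) = true := by decide +kernel
theorem ha367 : tabA (mu g431 (nat_lit 256)) (nat_lit 256) a367 = true := by decide +kernel
theorem hb433 : tabB (mu g432 (nat_lit 512)) (nat_lit 512) a368 b433 (look b433 0) = true := by decide +kernel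
theorem ha368 : tabA (mu g432 (nat_lit 512)) (nat_lit 512) a368 = true := by decide +kernel
theorem hb434 : tabB (mu g433 (nat_lit 1024)) (nat_lit 1024) a369 b434 (look b434 0) = true := by decide +kernel
theorem ha369 : tabA (mu g433 (nat_lit 1024)) (nat_lit 1024) a369 = true := by decide +kernel
theorem hb438 : tabB (mu g97 (nat_lit 128)) (nat_lit 128) a275 b438 (look b438 0) = true := by decide +kernel
theorem hb439 : tabB (mu g438 (nat_lit 256)) (nat_lit 256) a372 b439 (look b439 0) = true := by decide +kernel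
theorem ha372 : tabA (mu g438 (nat_lit 256)) (nat_lit 256) a372 = true := by decide +kernel
theorem hb440 : tabB (mu g439 (nat_lit 512)) (nat_lit 512) a373 b440 (look b440 0) = true := by decide +kernel
theorem ha373 : tabA (mu g439 (nat_lit 512)) (nat_lit 512) a373 = true := by decide +kernel
theorem hb443 : tabB (mu g3 (nat_lit 8)) (nat_lit 8) a375 b443 (look b443 0) = true := by decide +kernel
theorem ha375 : tabA (mu g3 (nat_lit 8)) (nat_lit 8) a375 = true := by decide +kernel
theorem hb444 : tabB (mu g443 (nat_lit 16)) (nat_lit 16) a376 b444 (look b444 0) = true := by decide +kernel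
theorem ha376 : tabA (mu g443 (nat_lit 16)) (nat_lit 16) a376 = true := by decide +kernel
theorem ht444 : tabT (mu (.ext a376 b444 (nat_lit 16) g443) (nat_lit 32)) (nat_lit 32) t444 = true := by decide +kernel
theorem hb445 : tabB (mu g444 (nat_lit 32)) (nat_lit 32) a377 b445 (look b445 0) = true := by decide +kernel
theorem ha377 : tabA (mu g444 (nat_lit 32)) (nat_lit 32) a377 = true := by decide +kernel
theorem ht445 : tabT (mu (.ext a377 b445 (nat_lit 32) g444) (nat_lit 64)) (nat_lit 64) t445 = true := by decide +kernel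
theorem hb446 : tabB (mu g445 (nat_lit 64)) (nat_lit 64) a378 b446 (look b446 0) = true := by decide +kernel
theorem ha378 : tabA (mu g445 (nat_lit 64)) (nat_lit 64) a378 = true := by decide +kernel
theorem hb447 : tabB (mu g446 (nat_lit 128)) (nat_lit 128) a379 b447 (look b447 0) = true := by decide +kernel
theorem ha379 : tabA (mu g446 (nat_lit 128)) (nat_lit 128) a379 = true := by decide +kernel
theorem hb448 : tabB (mu g447 (nat_lit 256)) (nat_lit 256) a380 b448 (look b448 0) = true := by decide +kernel
theorem ha380 : tabA (mu g447 (nat_lit 256)) (nat_lit 256) a380 = true := by decide +kernel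
theorem hb449 : tabB (mu g448 (nat_lit 512)) (nat_lit 512) a381 b449 (look b449 0) = true := by decide +kernel
theorem ha381 : tabA (mu g448 (nat_lit 512)) (nat_lit 512) a381 = true := by decide +kernel
theorem hb450 : tabB (mu g449 (nat_lit 1024)) (nat_lit 1024) a382 b450 (look b450 0) = true := by decide +kernel
theorem ha382 : tabA (mu g449 (nat_lit 1024)) (nat_lit 1024) a382 = true := by decide +kernel
theorem hb451 : tabB (mu g439 (nat_lit 512)) (nat_lit 512) a383 b451 (look b451 0) = true := by decide +kernel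
theorem ha383 : tabA (mu g439 (nat_lit 512)) (nat_lit 512) a383 = true := by decide +kernel
theorem hb452 : tabB (mu g451 (nat_lit 1024)) (nat_lit 1024) a384 b452 (look b452 0) = true := by decide +kernel
theorem ha384 : tabA (mu g451 (nat_lit 1024)) (nat_lit 1024) a384 = true := by decide +kernel
theorem hb457 : tabB (mu g439 (nat_lit 512)) (nat_lit 512) a387 b457 (look b457 0) = true := by decide +kernel
theorem ha387 : tabA (mu g439 (nat_lit 512)) (nat_lit 512) a387 = true := by decide +kernel
theorem hb458 : tabB (mu g457 (nat_lit 1024)) (nat_lit 1024) a388 b458 (look b458 0) = true := by decide +kernel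
theorem ha388 : tabA (mu g457 (nat_lit 1024)) (nat_lit 1024) a388 = true := by decide +kernel
theorem hb459 : tabB (mu g444 (nat_lit 32)) (nat_lit 32) a389 b459 (look b459 0) = true := by decide +kernel
theorem ha389 : tabA (mu g444 (nat_lit 32)) (nat_lit 32) a389 = true := by decide +kernel
theorem ht459 : tabT (mu (.ext a389 b459 (nat_lit 32) g444) (nat_lit 64)) (nat_lit 64) t459 = true := by decide +kernel
theorem hb460 : tabB (mu g459 (nat_lit 64)) (nat_lit 64) a390 b460 (look b460 0) = true := by decide +kernel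
theorem ha390 : tabA (mu g459 (nat_lit 64)) (nat_lit 64) a390 = true := by decide +kernel
theorem hb461 : tabB (mu g460 (nat_lit 128)) (nat_lit 128) a391 b461 (look b461 0) = true := by decide +kernel
theorem ha391 : tabA (mu g460 (nat_lit 128)) (nat_lit 128) a391 = true := by decide +kernel
theorem hb462 : tabB (mu g461 (nat_lit 256)) (nat_lit 256) a392 b462 (look b462 0) = true := by decide +kernel
theorem ha392 : tabA (mu g461 (nat_lit 256)) (nat_lit 256) a392 = true := by decide +kernel
theorem hb463 : tabB (mu g462 (nat_lit 512)) (nat_lit 512) a393 b463 (look b463 0) = true := by decide +kernel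
theorem ha393 : tabA (mu g462 (nat_lit 512)) (nat_lit 512) a393 = true := by decide +kernel
theorem hb464 : tabB (mu g463 (nat_lit 1024)) (nat_lit 1024) a394 b464 (look b464 0) = true := by decide +kernel
theorem ha394 : tabA (mu g463 (nat_lit 1024)) (nat_lit 1024) a394 = true := by decide +kernel
theorem hb468 : tabB (mu g324 (nat_lit 256)) (nat_lit 256) a396 b468 (look b468 0) = true := by decide +kernel
theorem ha396 : tabA (mu g324 (nat_lit 256)) (nat_lit 256) a396 = true := by decide +kernel
theorem hb469 : tabB (mu g468 (nat_lit 512)) (nat_lit 512) a397 b469 (look b469 0) = true := by decide +kernel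
theorem ha397 : tabA (mu g468 (nat_lit 512)) (nat_lit 512) a397 = true := by decide +kernel
theorem hb472 : tabB (mu g468 (nat_lit 512)) (nat_lit 512) a399 b472 (look b472 0) = true := by decide +kernel
theorem ha399 : tabA (mu g468 (nat_lit 512)) (nat_lit 512) a399 = true := by decide +kernel
theorem hb473 : tabB (mu g472 (nat_lit 1024)) (nat_lit 1024) a400 b473 (look b473 0) = true := by decide +kernel
theorem ha400 : tabA (mu g472 (nat_lit 1024)) (nat_lit 1024) a400 = true := by decide +kernel
theorem hb474 : tabB (mu g443 (nat_lit 16)) (nat_lit 16) a401 b474 (look b474 0) = true := by decide +kernel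
theorem ha401 : tabA (mu g443 (nat_lit 16)) (nat_lit 16) a401 = true := by decide +kernel
theorem ht474 : tabT (mu (.ext a401 b474 (nat_lit 16) g443) (nat_lit 32)) (nat_lit 32) t474 = true := by decide +kernel
theorem hb475 : tabB (mu g474 (nat_lit 32)) (nat_lit 32) a402 b475 (look b475 0) = true := by decide +kernel
theorem ha402 : tabA (mu g474 (nat_lit 32)) (nat_lit 32) a402 = true := by decide +kernel
theorem ht475 : tabT (mu (.ext a402 b475 (nat_lit 32) g474) (nat_lit 64)) (nat_lit 64) t475 = true := by decide +kernel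
theorem hb476 : tabB (mu g475 (nat_lit 64)) (nat_lit 64) a403 b476 (look b476 0) = true := by decide +kernel
theorem ha403 : tabA (mu g475 (nat_lit 64)) (nat_lit 64) a403 = true := by decide +kernel
theorem hb477 : tabB (mu g476 (nat_lit 128)) (nat_lit 128) a404 b477 (look b477 0) = true := by decide +kernel
theorem ha404 : tabA (mu g476 (nat_lit 128)) (nat_lit 128) a404 = true := by decide +kernel
theorem hb478 : tabB (mu g477 (nat_lit 256)) (nat_lit 256) a405 b478 (look b478 0) = true := by decide +kernel
theorem ha405 : tabA (mu g477 (nat_lit 256)) (nat_lit 256) a405 = true := by decide +kernel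
theorem hb479 : tabB (mu g478 (nat_lit 512)) (nat_lit 512) a406 b479 (look b479 0) = true := by decide +kernel
theorem ha406 : tabA (mu g478 (nat_lit 512)) (nat_lit 512) a406 = true := by decide +kernel
theorem hb480 : tabB (mu g479 (nat_lit 1024)) (nat_lit 1024) a407 b480 (look b480 0) = true := by decide +kernel
theorem ha407 : tabA (mu g479 (nat_lit 1024)) (nat_lit 1024) a407 = true := by decide +kernel
theorem hb485 : tabB (mu g444 (nat_lit 32)) (nat_lit 32) a389 b485 (look b485 0) = true := by decide +kernel
theorem ht485 : tabT (mu (.ext a389 b485 (nat_lit 32) g444) (nat_lit 64)) (nat_lit 64) t485 = true := by decide +kernel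
theorem hb486 : tabB (mu g485 (nat_lit 64)) (nat_lit 64) a410 b486 (look b486 0) = true := by decide +kernel
theorem ha410 : tabA (mu g485 (nat_lit 64)) (nat_lit 64) a410 = true := by decide +kernel
theorem hb487 : tabB (mu g486 (nat_lit 128)) (nat_lit 128) a411 b487 (look b487 0) = true := by decide +kernel
theorem ha411 : tabA (mu g486 (nat_lit 128)) (nat_lit 128) a411 = true := by decide +kernel
theorem hb488 : tabB (mu g487 (nat_lit 256)) (nat_lit 256) a412 b488 (look b488 0) = true := by decide +kernel
theorem ha412 : tabA (mu g487 (nat_lit 256)) (nat_lit 256) a412 = true := by decide +kernel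
theorem hb489 : tabB (mu g488 (nat_lit 512)) (nat_lit 512) a413 b489 (look b489 0) = true := by decide +kernel
theorem ha413 : tabA (mu g488 (nat_lit 512)) (nat_lit 512) a413 = true := by decide +kernel
theorem hb490 : tabB (mu g489 (nat_lit 1024)) (nat_lit 1024) a414 b490 (look b490 0) = true := by decide +kernel
theorem ha414 : tabA (mu g489 (nat_lit 1024)) (nat_lit 1024) a414 = true := by decide +kernel
theorem hb491 : tabB (mu g468 (nat_lit 512)) (nat_lit 512) a415 b491 (look b491 0) = true := by decide +kernel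
theorem ha415 : tabA (mu g468 (nat_lit 512)) (nat_lit 512) a415 = true := by decide +kernel
theorem hb492 : tabB (mu g491 (nat_lit 1024)) (nat_lit 1024) a416 b492 (look b492 0) = true := by decide +kernel
theorem ha416 : tabA (mu g491 (nat_lit 1024)) (nat_lit 1024) a416 = true := by decide +kernel
theorem hb496 : tabB (mu g419 (nat_lit 256)) (nat_lit 256) a419 b496 (look b496 0) = true := by decide +kernel
theorem ha419 : tabA (mu g419 (nat_lit 256)) (nat_lit 256) a419 = true := by decide +kernel
theorem hb497 : tabB (mu g496 (nat_lit 512)) (nat_lit 512) a420 b497 (look b497 0) = true := by decide +kernel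
theorem ha420 : tabA (mu g496 (nat_lit 512)) (nat_lit 512) a420 = true := by decide +kernel
theorem hb502 : tabB (mu g478 (nat_lit 512)) (nat_lit 512) a423 b502 (look b502 0) = true := by decide +kernel
theorem ha423 : tabA (mu g478 (nat_lit 512)) (nat_lit 512) a423 = true := by decide +kernel
theorem hb503 : tabB (mu g502 (nat_lit 1024)) (nat_lit 1024) a424 b503 (look b503 0) = true := by decide +kernel
theorem ha424 : tabA (mu g502 (nat_lit 1024)) (nat_lit 1024) a424 = true := by decide +kernel
theorem hb504 : tabB (mu g496 (nat_lit 512)) (nat_lit 512) a425 b504 (look b504 0) = true := by decide +kernel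
theorem ha425 : tabA (mu g496 (nat_lit 512)) (nat_lit 512) a425 = true := by decide +kernel
theorem hb505 : tabB (mu g504 (nat_lit 1024)) (nat_lit 1024) a426 b505 (look b505 0) = true := by decide +kernel
theorem ha426 : tabA (mu g504 (nat_lit 1024)) (nat_lit 1024) a426 = true := by decide +kernel
theorem hb510 : tabB (mu g102 (nat_lit 32)) (nat_lit 32) a429 b510 (look b510 0) = true := by decide +kernel
theorem ha429 : tabA (mu g102 (nat_lit 32)) (nat_lit 32) a429 = true := by decide +kernel
theorem hb511 : tabB (mu g510 (nat_lit 64)) (nat_lit 64) a430 b511 (look b511 0) = true := by decide +kernel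
theorem ha430 : tabA (mu g510 (nat_lit 64)) (nat_lit 64) a430 = true := by decide +kernel
theorem hb512 : tabB (mu g511 (nat_lit 128)) (nat_lit 128) a431 b512 (look b512 0) = true := by decide +kernel
theorem ha431 : tabA (mu g511 (nat_lit 128)) (nat_lit 128) a431 = true := by decide +kernel
theorem hb513 : tabB (mu g512 (nat_lit 256)) (nat_lit 256) a432 b513 (look b513 0) = true := by decide +kernel
theorem ha432 : tabA (mu g512 (nat_lit 256)) (nat_lit 256) a432 = true := by decide +kernel
theorem hb514 : tabB (mu g513 (nat_lit 512)) (nat_lit 512) a433 b514 (look b514 0) = true := by decide +kernel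
theorem ha433 : tabA (mu g513 (nat_lit 512)) (nat_lit 512) a433 = true := by decide +kernel
theorem hb515 : tabB (mu g514 (nat_lit 1024)) (nat_lit 1024) a434 b515 (look b515 0) = true := by decide +kernel
theorem ha434 : tabA (mu g514 (nat_lit 1024)) (nat_lit 1024) a434 = true := by decide +kernel
theorem hb516 : tabB (mu g488 (nat_lit 512)) (nat_lit 512) a435 b516 (look b516 0) = true := by decide +kernel
theorem ha435 : tabA (mu g488 (nat_lit 512)) (nat_lit 512) a435 = true := by decide +kernel
theorem hb517 : tabB (mu g516 (nat_lit 1024)) (nat_lit 1024) a436 b517 (look b517 0) = true := by decide +kernel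
theorem ha436 : tabA (mu g516 (nat_lit 1024)) (nat_lit 1024) a436 = true := by decide +kernel
theorem hb519 : tabB (mu g97 (nat_lit 128)) (nat_lit 128) a356 b519 (look b519 0) = true := by decide +kernel
theorem hb520 : tabB (mu g519 (nat_lit 256)) (nat_lit 256) a437 b520 (look b520 0) = true := by decide +kernel
theorem ha437 : tabA (mu g519 (nat_lit 256)) (nat_lit 256) a437 = true := by decide +kernel
theorem hb521 : tabB (mu g520 (nat_lit 512)) (nat_lit 512) a438 b521 (look b521 0) = true := by decide +kernel
theorem ha438 : tabA (mu g520 (nat_lit 512)) (nat_lit 512) a438 = true := by decide +kernel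
theorem hb526 : tabB (mu g102 (nat_lit 32)) (nat_lit 32) a441 b526 (look b526 0) = true := by decide +kernel
theorem ha441 : tabA (mu g102 (nat_lit 32)) (nat_lit 32) a441 = true := by decide +kernel
theorem hb527 : tabB (mu g526 (nat_lit 64)) (nat_lit 64) a442 b527 (look b527 0) = true := by decide +kernel
theorem ha442 : tabA (mu g526 (nat_lit 64)) (nat_lit 64) a442 = true := by decide +kernel
theorem hb528 : tabB (mu g527 (nat_lit 128)) (nat_lit 128) a443 b528 (look b528 0) = true := by decide +kernel
theorem ha443 : tabA (mu g527 (nat_lit 128)) (nat_lit 128) a443 = true := by decide +kernel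
theorem hb529 : tabB (mu g528 (nat_lit 256)) (nat_lit 256) a444 b529 (look b529 0) = true := by decide +kernel
theorem ha444 : tabA (mu g528 (nat_lit 256)) (nat_lit 256) a444 = true := by decide +kernel
theorem hb530 : tabB (mu g529 (nat_lit 512)) (nat_lit 512) a445 b530 (look b530 0) = true := by decide +kernel
theorem ha445 : tabA (mu g529 (nat_lit 512)) (nat_lit 512) a445 = true := by decide +kernel
theorem hb531 : tabB (mu g530 (nat_lit 1024)) (nat_lit 1024) a446 b531 (look b531 0) = true := by decide +kernel
theorem ha446 : tabA (mu g530 (nat_lit 1024)) (nat_lit 1024) a446 = true := by decide +kernel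
theorem hb532 : tabB (mu g448 (nat_lit 512)) (nat_lit 512) a447 b532 (look b532 0) = true := by decide +kernel
theorem ha447 : tabA (mu g448 (nat_lit 512)) (nat_lit 512) a447 = true := by decide +kernel
theorem hb533 : tabB (mu g532 (nat_lit 1024)) (nat_lit 1024) a448 b533 (look b533 0) = true := by decide +kernel
theorem ha448 : tabA (mu g532 (nat_lit 1024)) (nat_lit 1024) a448 = true := by decide +kernel
theorem hb538 : tabB (mu g462 (nat_lit 512)) (nat_lit 512) a451 b538 (look b538 0) = true := by decide +kernel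
theorem ha451 : tabA (mu g462 (nat_lit 512)) (nat_lit 512) a451 = true := by decide +kernel
theorem hb539 : tabB (mu g538 (nat_lit 1024)) (nat_lit 1024) a452 b539 (look b539 0) = true := by decide +kernel
theorem ha452 : tabA (mu g538 (nat_lit 1024)) (nat_lit 1024) a452 = true := by decide +kernel
theorem hb540 : tabB (mu g520 (nat_lit 512)) (nat_lit 512) a453 b540 (look b540 0) = true := by decide +kernel
theorem ha453 : tabA (mu g520 (nat_lit 512)) (nat_lit 512) a453 = true := by decide +kernel
theorem hb541 : tabB (mu g540 (nat_lit 1024)) (nat_lit 1024) a454 b541 (look b541 0) = true := by decide +kernel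
theorem ha454 : tabA (mu g540 (nat_lit 1024)) (nat_lit 1024) a454 = true := by decide +kernel
theorem hb544 : tabB (mu g4 (nat_lit 16)) (nat_lit 16) a456 b544 (look b544 0) = true := by decide +kernel
theorem ha456 : tabA (mu g4 (nat_lit 16)) (nat_lit 16) a456 = true := by decide +kernel
theorem ht544 : tabT (mu (.ext a456 b544 (nat_lit 16) g4) (nat_lit 32)) (nat_lit 32) t544 = true := by decide +kernel
theorem hb545 : tabB (mu g544 (nat_lit 32)) (nat_lit 32) a457 b545 (look b545 0) = true := by decide +kernel
theorem ha457 : tabA (mu g544 (nat_lit 32)) (nat_lit 32) a457 = true := by decide +kernel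
theorem hb546 : tabB (mu g545 (nat_lit 64)) (nat_lit 64) a458 b546 (look b546 0) = true := by decide +kernel
theorem ha458 : tabA (mu g545 (nat_lit 64)) (nat_lit 64) a458 = true := by decide +kernel
theorem hb547 : tabB (mu g546 (nat_lit 128)) (nat_lit 128) a459 b547 (look b547 0) = true := by decide +kernel
theorem ha459 : tabA (mu g546 (nat_lit 128)) (nat_lit 128) a459 = true := by decide +kernel
theorem hb548 : tabB (mu g547 (nat_lit 256)) (nat_lit 256) a460 b548 (look b548 0) = true := by decide +kernel
theorem ha460 : tabA (mu g547 (nat_lit 256)) (nat_lit 256) a460 = true := by decide +kernel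
theorem hb549 : tabB (mu g548 (nat_lit 512)) (nat_lit 512) a461 b549 (look b549 0) = true := by decide +kernel
theorem ha461 : tabA (mu g548 (nat_lit 512)) (nat_lit 512) a461 = true := by decide +kernel
theorem hb550 : tabB (mu g544 (nat_lit 32)) (nat_lit 32) a462 b550 (look b550 0) = true := by decide +kernel
theorem ha462 : tabA (mu g544 (nat_lit 32)) (nat_lit 32) a462 = true := by decide +kernel
theorem hb551 : tabB (mu g550 (nat_lit 64)) (nat_lit 64) a463 b551 (look b551 0) = true := by decide +kernel
theorem ha463 : tabA (mu g550 (nat_lit 64)) (nat_lit 64) a463 = true := by decide +kernel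
theorem hb552 : tabB (mu g551 (nat_lit 128)) (nat_lit 128) a464 b552 (look b552 0) = true := by decide +kernel
theorem ha464 : tabA (mu g551 (nat_lit 128)) (nat_lit 128) a464 = true := by decide +kernel
theorem hb553 : tabB (mu g552 (nat_lit 256)) (nat_lit 256) a465 b553 (look b553 0) = true := by decide +kernel
theorem ha465 : tabA (mu g552 (nat_lit 256)) (nat_lit 256) a465 = true := by decide +kernel
theorem hb554 : tabB (mu g553 (nat_lit 512)) (nat_lit 512) a466 b554 (look b554 0) = true := by decide +kernel
theorem ha466 : tabA (mu g553 (nat_lit 512)) (nat_lit 512) a466 = true := by decide +kernel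
theorem hb557 : tabB (mu g544 (nat_lit 32)) (nat_lit 32) a468 b557 (look b557 0) = true := by decide +kernel
theorem ha468 : tabA (mu g544 (nat_lit 32)) (nat_lit 32) a468 = true := by decide +kernel
theorem hb558 : tabB (mu g557 (nat_lit 64)) (nat_lit 64) a469 b558 (look b558 0) = true := by decide +kernel
theorem ha469 : tabA (mu g557 (nat_lit 64)) (nat_lit 64) a469 = true := by decide +kernel
theorem hb559 : tabB (mu g558 (nat_lit 128)) (nat_lit 128) a470 b559 (look b559 0) = true := by decide +kernel
theorem ha470 : tabA (mu g558 (nat_lit 128)) (nat_lit 128) a470 = true := by decide +kernel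
theorem hb560 : tabB (mu g559 (nat_lit 256)) (nat_lit 256) a471 b560 (look b560 0) = true := by decide +kernel
theorem ha471 : tabA (mu g559 (nat_lit 256)) (nat_lit 256) a471 = true := by decide +kernel
theorem hb561 : tabB (mu g560 (nat_lit 512)) (nat_lit 512) a472 b561 (look b561 0) = true := by decide +kernel
theorem ha472 : tabA (mu g560 (nat_lit 512)) (nat_lit 512) a472 = true := by decide +kernel
theorem hb562 : tabB (mu g544 (nat_lit 32)) (nat_lit 32) a468 b562 (look b562 0) = true := by decide +kernel
theorem hb563 : tabB (mu g562 (nat_lit 64)) (nat_lit 64) a473 b563 (look b563 0) = true := by decide +kernel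
theorem ha473 : tabA (mu g562 (nat_lit 64)) (nat_lit 64) a473 = true := by decide +kernel
theorem hb564 : tabB (mu g563 (nat_lit 128)) (nat_lit 128) a474 b564 (look b564 0) = true := by decide +kernel
theorem ha474 : tabA (mu g563 (nat_lit 128)) (nat_lit 128) a474 = true := by decide +kernel
theorem hb565 : tabB (mu g564 (nat_lit 256)) (nat_lit 256) a475 b565 (look b565 0) = true := by decide +kernel
theorem ha475 : tabA (mu g564 (nat_lit 256)) (nat_lit 256) a475 = true := by decide +kernel
theorem hb566 : tabB (mu g565 (nat_lit 512)) (nat_lit 512) a476 b566 (look b566 0) = true := by decide +kernel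
theorem ha476 : tabA (mu g565 (nat_lit 512)) (nat_lit 512) a476 = true := by decide +kernel
theorem hb568 : tabB (mu g545 (nat_lit 64)) (nat_lit 64) a477 b568 (look b568 0) = true := by decide +kernel
theorem ha477 : tabA (mu g545 (nat_lit 64)) (nat_lit 64) a477 = true := by decide +kernel
theorem hb569 : tabB (mu g568 (nat_lit 128)) (nat_lit 128) a478 b569 (look b569 0) = true := by decide +kernel
theorem ha478 : tabA (mu g568 (nat_lit 128)) (nat_lit 128) a478 = true := by decide +kernel
theorem hb570 : tabB (mu g569 (nat_lit 256)) (nat_lit 256) a479 b570 (look b570 0) = true := by decide +kernel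
theorem ha479 : tabA (mu g569 (nat_lit 256)) (nat_lit 256) a479 = true := by decide +kernel
theorem hb571 : tabB (mu g570 (nat_lit 512)) (nat_lit 512) a480 b571 (look b571 0) = true := by decide +kernel
theorem ha480 : tabA (mu g570 (nat_lit 512)) (nat_lit 512) a480 = true := by decide +kernel
theorem hb573 : tabB (mu g544 (nat_lit 32)) (nat_lit 32) a481 b573 (look b573 0) = true := by decide +kernel
theorem ha481 : tabA (mu g544 (nat_lit 32)) (nat_lit 32) a481 = true := by decide +kernel
theorem hb574 : tabB (mu g573 (nat_lit 64)) (nat_lit 64) a482 b574 (look b574 0) = true := by decide +kernel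
theorem ha482 : tabA (mu g573 (nat_lit 64)) (nat_lit 64) a482 = true := by decide +kernel
theorem hb575 : tabB (mu g574 (nat_lit 128)) (nat_lit 128) a483 b575 (look b575 0) = true := by decide +kernel
theorem ha483 : tabA (mu g574 (nat_lit 128)) (nat_lit 128) a483 = true := by decide +kernel
theorem hb576 : tabB (mu g575 (nat_lit 256)) (nat_lit 256) a484 b576 (look b576 0) = true := by decide +kernel
theorem ha484 : tabA (mu g575 (nat_lit 256)) (nat_lit 256) a484 = true := by decide +kernel
theorem hb577 : tabB (mu g576 (nat_lit 512)) (nat_lit 512) a485 b577 (look b577 0) = true := by decide +kernel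
theorem ha485 : tabA (mu g576 (nat_lit 512)) (nat_lit 512) a485 = true := by decide +kernel
theorem hb586 : tabB (mu g6 (nat_lit 64)) (nat_lit 64) a490 b586 (look b586 0) = true := by decide +kernel
theorem ha490 : tabA (mu g6 (nat_lit 64)) (nat_lit 64) a490 = true := by decide +kernel
theorem hb587 : tabB (mu g586 (nat_lit 128)) (nat_lit 128) a491 b587 (look b587 0) = true := by decide +kernel
theorem ha491 : tabA (mu g586 (nat_lit 128)) (nat_lit 128) a491 = true := by decide +kernel
theorem hb588 : tabB (mu g587 (nat_lit 256)) (nat_lit 256) a492 b588 (look b588 0) = true := by decide +kernel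
theorem ha492 : tabA (mu g587 (nat_lit 256)) (nat_lit 256) a492 = true := by decide +kernel
theorem hb589 : tabB (mu g3 (nat_lit 8)) (nat_lit 8) a18 b589 (look b589 0) = true := by decide +kernel
theorem hb590 : tabB (mu g589 (nat_lit 16)) (nat_lit 16) a493 b590 (look b590 0) = true := by decide +kernel
theorem ha493 : tabA (mu g589 (nat_lit 16)) (nat_lit 16) a493 = true := by decide +kernel
theorem ht590 : tabT (mu (.ext a493 b590 (nat_lit 16) g589) (nat_lit 32)) (nat_lit 32) t590 = true := by decide +kernel
theorem hb591 : tabB (mu g590 (nat_lit 32)) (nat_lit 32) a494 b591 (look b591 0) = true := by decide +kernel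
theorem ha494 : tabA (mu g590 (nat_lit 32)) (nat_lit 32) a494 = true := by decide +kernel
theorem hb592 : tabB (mu g591 (nat_lit 64)) (nat_lit 64) a495 b592 (look b592 0) = true := by decide +kernel
theorem ha495 : tabA (mu g591 (nat_lit 64)) (nat_lit 64) a495 = true := by decide +kernel
theorem hb593 : tabB (mu g592 (nat_lit 128)) (nat_lit 128) a496 b593 (look b593 0) = true := by decide +kernel
theorem ha496 : tabA (mu g592 (nat_lit 128)) (nat_lit 128) a496 = true := by decide +kernel
theorem hb594 : tabB (mu g593 (nat_lit 256)) (nat_lit 256) a497 b594 (look b594 0) = true := by decide +kernel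
theorem ha497 : tabA (mu g593 (nat_lit 256)) (nat_lit 256) a497 = true := by decide +kernel
theorem hb595 : tabB (mu g587 (nat_lit 256)) (nat_lit 256) a492 b595 (look b595 0) = true := by decide +kernel
theorem hb600 : tabB (mu g587 (nat_lit 256)) (nat_lit 256) a500 b600 (look b600 0) = true := by decide +kernel
theorem ha500 : tabA (mu g587 (nat_lit 256)) (nat_lit 256) a500 = true := by decide +kernel
theorem hb605 : tabB (mu g56 (nat_lit 8)) (nat_lit 8) a502 b605 (look b605 0) = true := by decide +kernel
theorem ha502 : tabA (mu g56 (nat_lit 8)) (nat_lit 8) a502 = true := by decide +kernel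
theorem ht605 : tabT (mu (.ext a502 b605 (nat_lit 8) g56) (nat_lit 16)) (nat_lit 16) t605 = true := by decide +kernel
theorem hb606 : tabB (mu g605 (nat_lit 16)) (nat_lit 16) a503 b606 (look b606 0) = true := by decide +kernel
theorem ha503 : tabA (mu g605 (nat_lit 16)) (nat_lit 16) a503 = true := by decide +kernel
theorem hb607 : tabB (mu g606 (nat_lit 32)) (nat_lit 32) a504 b607 (look b607 0) = true := by decide +kernel
theorem ha504 : tabA (mu g606 (nat_lit 32)) (nat_lit 32) a504 = true := by decide +kernel
theorem hb608 : tabB (mu g607 (nat_lit 64)) (nat_lit 64) a505 b608 (look b608 0) = true := by decide +kernel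
theorem ha505 : tabA (mu g607 (nat_lit 64)) (nat_lit 64) a505 = true := by decide +kernel
theorem hb609 : tabB (mu g608 (nat_lit 128)) (nat_lit 128) a506 b609 (look b609 0) = true := by decide +kernel
theorem ha506 : tabA (mu g608 (nat_lit 128)) (nat_lit 128) a506 = true := by decide +kernel
theorem hb610 : tabB (mu g443 (nat_lit 16)) (nat_lit 16) a507 b610 (look b610 0) = true := by decide +kernel
theorem ha507 : tabA (mu g443 (nat_lit 16)) (nat_lit 16) a507 = true := by decide +kernel
theorem hb611 : tabB (mu g610 (nat_lit 32)) (nat_lit 32) a508 b611 (look b611 0) = true := by decide +kernel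
theorem ha508 : tabA (mu g610 (nat_lit 32)) (nat_lit 32) a508 = true := by decide +kernel
theorem hb612 : tabB (mu g611 (nat_lit 64)) (nat_lit 64) a509 b612 (look b612 0) = true := by decide +kernel
theorem ha509 : tabA (mu g611 (nat_lit 64)) (nat_lit 64) a509 = true := by decide +kernel
theorem hb613 : tabB (mu g612 (nat_lit 128)) (nat_lit 128) a510 b613 (look b613 0) = true := by decide +kernel
theorem ha510 : tabA (mu g612 (nat_lit 128)) (nat_lit 128) a510 = true := by decide +kernel
theorem hb614 : tabB (mu g6 (nat_lit 64)) (nat_lit 64) a511 b614 (look b614 0) = true := by decide +kernel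
theorem ha511 : tabA (mu g6 (nat_lit 64)) (nat_lit 64) a511 = true := by decide +kernel
theorem hb615 : tabB (mu g6 (nat_lit 64)) (nat_lit 64) a512 b615 (look b615 0) = true := by decide +kernel
theorem ha512 : tabA (mu g6 (nat_lit 64)) (nat_lit 64) a512 = true := by decide +kernel
noncomputable def p0 : Pf := (.r64 (nat_lit 3))
theorem c0 : (chk [] [] p0).n x0 s0 = true := by decide +kernel
noncomputable def p1 : Pf := (.lft (nat_lit 0x4001002000800200f001001001) (nat_lit 0) (nat_lit 0x1060040) (nat_lit 0x4002001000800400203d) (.extn (nat_lit 0x6f01503605c06b03101205807700d02e04407302900a04007f00502604c07b02100204806701d03e05406303901a05004f03501607c04b01103207805702d00e06405300902a06005f02500606c05b00102206804703d01e07404301903a07001f06504602c01b04106202800707d05e03400305907a03000f07505603c00b05107203801706d04e02401304906a02003f04506600c03b06104200802705d07e01402307905a01002f05507601c02b07105201803704d06e00403306904a000) (nat_lit 0x40020010008004002001) (nat_lit 0x1008020010040) (nat_lit 2) (nat_lit 0) (nat_lit 0) (nat_lit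 0) (nat_lit 0x100000001) (.cE (nat_lit 0) (nat_lit 0x6f01503605c06b03101205807700d02e04407302900a04007f00502604c07b02100204806701d03e05406303901a05004f03501607c04b01103207805702d00e06405300902a06005f02500606c05b00102206804703d01e07404301903a07001f06504602c01b04106202800707d05e03400305907a03000f07505603c00b05107203801706d04e02401304906a02003f04506600c03b06104200802705d07e01402307905a01002f05507601c02b07105201803704d06e00403306904a000) (nat_lit 0) (.cas (nat_lit 1) (.cas (nat_lit 4) (.cas (nat_lit 8) (.kc (nat_lit 8) (nat_lit 0x4008004004000002)) (.iso x2 ⟨[], [nat_lit 1, nat_lit 171], [nat_lit 129], [], [], [], false, false, []⟩ (nat_lit 0) (nat_lit 0x100902000600f011081003001) (nat_lit 0x50b00400090810ab003001) [] (.kT (nat_lit 0x10ab005001) (nat_lit 4225) (nat_lit 0x1080040020010008004002001) (nat_lit 0x800400600500480f409e001) (nat_lit 0x10010010020010030010000050040050050050000ab0010ab0020ab0030ab0050ab0060ab0020e50050e50070e50030f100104f) (nat_lit 0x1001081003081004081000049001049005049001031)))) (.cas (nat_lit 8) (.kc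 (nat_lit 8) (nat_lit 0x4008004004000002)) (.iso x2 ⟨[], [nat_lit 1], [nat_lit 171, nat_lit 129], [], [], [], false, false, []⟩ (nat_lit 0) (nat_lit 0x100902000600f011081003001) (nat_lit 0x50b00400090810ab003001) [] (.kT (nat_lit 0x1005001) (nat_lit 0x10ab081) (nat_lit 0x1080040020010008004002001) (nat_lit 0x800400600500480f409e001) (nat_lit 0x10010010020010030010000050040050050050020e50050e50070e50030f1) (nat_lit 0x10010810030810040810000ab0010ab0020ab0030ab0050ab0060ab00004900104900504900103100104f))))) (.cas (nat_lit 4) (.cas (nat_lit 8) (.kc (nat_lit 8) (nat_lit 0x4008004004000002)) (.iso x2 ⟨[], [nat_lit 171], [nat_lit 1, nat_lit 129], [], [], [], false, false, []⟩ (nat_lit 0) (nat_lit 0x100902000600f011081003001) (nat_lit 0x50b00400090810ab003001) [] (.kT (nat_lit 0x10ab005) (nat_lit 0x1081001) (nat_lit 0x1080040020010008004002001) (nat_lit 0x800400600500480f409e001) (nat_lit 0x10000050040050050050000ab0010ab0020ab0030ab0050ab0060ab00104f) (nat_lit 0x10010010020010030010010810030810040810020e50050e50070e50030f1000049001049005049001031))))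 (.cas (nat_lit 8) (.kc (nat_lit 8) (nat_lit 0x4008004004000002)) (.iso x2 ⟨[], [], [nat_lit 1, nat_lit 171, nat_lit 129], [], [], [], false, false, []⟩ (nat_lit 0) (nat_lit 0x100902000600f011081003001) (nat_lit 0x50b00400090810ab003001) [] (.kT (nat_lit 4101) (nat_lit 0x10ab081001) (nat_lit 0x1080040020010008004002001) (nat_lit 0x800400600500480f409e001) (nat_lit 0x1000005004005005005) (nat_lit 0x10010010020010030010010810030810040810000ab0010ab0020ab0030ab0050ab0060ab0020e50050e50070e50030f100004900104900504900103100104f)))))) .nil (.cE (nat_lit 32) (nat_lit 0x4f03501607c04b01103207805702d00e06405300902a06005f02500606c05b00102206804703d01e07404301903a07006f01503605c06b03101205807700d02e04407302900a04007f00502604c07b02100204806701d03e05406303901a05003f04506600c03b06104200802705d07e01402307905a01002f05507601c02b07105201803704d06e00403306904a00001f06504602c01b04106202800707d05e03400305907a03000f07505603c00b05107203801706d04e02401304906a020) (nat_lit 0) (.cas (nat_lit 4) (.cas (nat_lit 136) (.iso x3 ⟨[], [nat_lit 47, nat_lit 53],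 [], [], [], [], false, false, []⟩ (nat_lit 1) (nat_lit 0x1007020040008010081002001) (nat_lit 0x2502004000801002f002001) [] (.kT (nat_lit 0x103502f025) (nat_lit 1) (nat_lit 0x1080040010008004002001) (nat_lit 0x8004001000804405a021) (nat_lit 0x100002500102500602500002f00102f00202f00402f00502f00602f00003500103500303500309b00105500305500004d00604d) (nat_lit 1))) (.kc (nat_lit 128) (nat_lit 0x4004000010005002))) (.cas (nat_lit 136) (.iso x3 ⟨[], [nat_lit 53], [nat_lit 47], [], [], [], false, false, []⟩ (nat_lit 1) (nat_lit 0x1007020040008010081002001) (nat_lit 0x2502004000801002f002001) [] (.kT (nat_lit 0x1035025) (nat_lit 4143) (nat_lit 0x1080040010008004002001) (nat_lit 0x8004001000804405a021) (nat_lit 0x100002500102500602500003500103500303500105500305500004d00604d) (nat_lit 0x100002f00102f00202f00402f00502f00602f00309b))) (.kc (nat_lit 128) (nat_lit 0x4004000010005002)))) .nil .nil))))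
theorem c1 : (chk [] [g609, g613] p1).n x1 s1 = true := by decide +kernel
noncomputable def p2 : Pf := (.ext (nat_lit 0) (nat_lit 0) (nat_lit 0x1040010020008003004) (nat_lit 0x20010008004001013001001) (nat_lit 0x14008010038) (nat_lit 4097) (nat_lit 4170) (nat_lit 0x2801800801101f014) (.dfs (nat_lit 1) (nat_lit 0x1014008010038) (nat_lit 0x1009008018038) (nat_lit 0x1020004002001) (nat_lit 0x102801101f014) (nat_lit 21) (nat_lit 0) (nat_lit 2) (nat_lit 0) (nat_lit 0) (nat_lit 10) (nat_lit 1) (nat_lit 0) (nat_lit 4112) (nat_lit 16) (nat_lit 0x100004a) (nat_lit 0x4000000000000000000) (.cD (nat_lit 74) (.cut (nat_lit 0)) .nil)))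
theorem c2 : (chk [(x1, s1)] [] p2).n x1 s2 = true := by decide +kernel
noncomputable def p3 : Pf := (.mdl (nat_lit 0) (nat_lit 0x108004015c1f01de04109e1950e0) (nat_lit 0x10941000801811b519e1ff150088))
theorem c3 : (chk [] [] p3).n x5 s3 = true := by decide +kernel
noncomputable def p4 : Pf := (.clm (.cut (nat_lit 0)) (.dfs (nat_lit 256) (nat_lit 1) (nat_lit 1) (nat_lit 1) (nat_lit 1) (nat_lit 0) (nat_lit 0) (nat_lit 0) (nat_lit 0) (nat_lit 0) (nat_lit 0) (nat_lit 1) (nat_lit 0) (nat_lit 0x1100040020010008004002001) (nat_lit 0x1000400200100080f404215d) (nat_lit 0x100000800100800200800400800600800001000101000201000301000001e00101e00201e00301e00401e00002500102500202500302500402500502500602500702500204000010000110000210000010e00110e00210e00310e00410e00211c00511c00711c0011b80021b80031b80051b80020140030140000380010380000b80000be0010be0020be0030be0040be0070be0020900030900000200020200000720020de0011490041490061490061fb0071fb0060cb0070cb00116c00416c00716c0031c00001e00011e00021e00031e000218e00318e00011200014e0061a400203e0001ce002160)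 (nat_lit 0x100040010000000000000000000000000000000100000000000000010000002040010100) (.cD (nat_lit 8) (.kn (nat_lit 1) (nat_lit 0x1100080040020010008) false (nat_lit 0x1040010008004002001) (nat_lit 0x400100080f404215d) (nat_lit 0x10000080010080020080040080050080011b80021b80031b8)) (.cD (nat_lit 16) (.kc (nat_lit 256) (nat_lit 0x20004030006002003001001004)) (.cD (nat_lit 30) (.kc (nat_lit 256) (nat_lit 0x60003018005001001003)) (.cD (nat_lit 37) (.kc (nat_lit 256) (nat_lit 0x2000403800515d001000029005001001005)) (.cD (nat_lit 64) (.kc (nat_lit 256) (nat_lit 0x20004001001002)) (.cD (nat_lit 128) (.kc (nat_lit 256) (nat_lit 0x1001001)) (.cD (nat_lit 256) (.kin (nat_lit 1) (nat_lit 0)) (.cD (nat_lit 270) (.kn (nat_lit 1) (nat_lit 0x1100080040020010008) false (nat_lit 0x1010008004002001) (nat_lit 0x100080f404215d) (nat_lit 0x100010e00110e00210e00310e00410e0001e00011e00021e0)) (.cD (nat_lit 284) (.kc (nat_lit 256) (nat_lit 0x6000301800515d00100002b00615d001000066005001001007)) .nil)))))))))))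
theorem c4 : (chk [(x5, s3)] [] p4).n x5 s4 = true := by decide +kernel
noncomputable def p5 : Pf := (.ext (nat_lit 0) (nat_lit 0) (nat_lit 0x110004008002000200c010) (nat_lit 0x4e01002000600200101c003001) (nat_lit 0x1d030010078) (nat_lit 4097) (nat_lit 4097) (nat_lit 0x6a02001001c00403601f) (.dfs (nat_lit 1) (nat_lit 0x101d030010078) (nat_lit 0x1037030010056) (nat_lit 0x1040020008004002001) (nat_lit 0x106a02001c00403601f) (nat_lit 83) (nat_lit 0) (nat_lit 2) (nat_lit 0) (nat_lit 0) (nat_lit 1) (nat_lit 1) (nat_lit 0) (nat_lit 1) (nat_lit 0) (nat_lit 1) (nat_lit 0x2000000000000000200000000000000020000000000000002) (.cD (nat_lit 1) (.kS (nat_lit 0) (nat_lit 0x500600400f0002008008000002) (nat_lit 0x108200e032173) (nat_lit 0xa00400200701c00800400a00503001000800401201906402001005a004036067) (nat_lit 0x80080000100200400800080040020010010080080000500600400f002804c03a0fb001004)) (.cD (nat_lit 65) (.cut (nat_lit 0)) (.cD (nat_lit 129) (.iso x5 s4 (nat_lit 0) (nat_lit 0x1100080040020010008004002081) (nat_lit 0x100080040020010008004002081)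 [(nat_lit 0x80040020010008004002021001001), (nat_lit 0x40040000040020010008004002001003040040000003)] (.cut (nat_lit 0))) (.cD (nat_lit 193) (.kS (nat_lit 0) (nat_lit 0x500600400f0002008008000002) (nat_lit 0x108200e032133) (nat_lit 0xa00400200701c00800400a00503001000800401201906402001005a004036067) (nat_lit 0x80080000100200400800080040020010010080080000500600400f002804c03a0bb001004)) .nil))))))
theorem c5 : (chk [(x5, s4)] [g600] p5).n x5 s5 = true := by decide +kernel
noncomputable def p6 : Pf := (.ext (nat_lit 0) (nat_lit 0x3f03002007d00215d001000002) (nat_lit 0x11ce0800c00de) (nat_lit 0x7d02003f00f00215d00100001000800400200300115d00007d02003003f001005) (nat_lit 0x2003004008) (nat_lit 0x101700b005) (nat_lit 0x102c01700c) (nat_lit 0xf00400600500d00400600100b004006005) (.dfs (nat_lit 5) (nat_lit 0x1002003004008) (nat_lit 0x100600300400b) (nat_lit 4097) (nat_lit 4101) (nat_lit 7) (nat_lit 0) (nat_lit 2) (nat_lit 0) (nat_lit 0x3f03002007d00415d001000002) (nat_lit 12) (nat_lit 1) (nat_lit 0) (nat_lit 0x111018e) (nat_lit 0x11018e)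 (nat_lit 0x100000c00100c0010cc) (nat_lit 4096) (.cD (nat_lit 12) (.dfs (nat_lit 11) (nat_lit 0x1004006008010) (nat_lit 0x100c00e00801a) (nat_lit 0x1002001) (nat_lit 0x100200b) (nat_lit 8) (nat_lit 0) (nat_lit 2) (nat_lit 0) (nat_lit 0x3f03002007d00415d001000002) (nat_lit 23) (nat_lit 1) (nat_lit 0) (nat_lit 4160) (nat_lit 64) (nat_lit 0x1000065) (nat_lit 0x20000000000000000000000000) (.cD (nat_lit 101) (.dfs (nat_lit 23) (nat_lit 0x100800c010020) (nat_lit 0x101800c01003c) (nat_lit 0x1004002001) (nat_lit 0x101400e011) (nat_lit 16) (nat_lit 0) (nat_lit 2) (nat_lit 0) (nat_lit 0x3f03002007d00415d001000002) (nat_lit 44) (nat_lit 1) (nat_lit 0) (nat_lit 1) (nat_lit 0) (nat_lit 1) (nat_lit 0x100000000000000000000000000000001000000000000000000000000000) (.cD (nat_lit 108) (.kS (nat_lit 0) (nat_lit 0x1001802004000203f03002007d00415d001000003) (nat_lit 0x10190ec0b9) (nat_lit 0xa00600200d01000c00401601502801800803c032009) (nat_lit 0x1800802004002e01901300100801002004000400200100101001802004000703300a001003)) (.cD (nat_lit 236) (.cut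 (nat_lit 0)) .nil))) .nil)) .nil)))
theorem c6 : (chk [(x5, s5)] [] p6).n x5 s6 = true := by decide +kernel
noncomputable def p7 : Pf := (.ext (nat_lit 0) (nat_lit 0) (nat_lit 0x110004008002000200c010) (nat_lit 0x4e01002000600200101c001001) (nat_lit 0x1d030010078) (nat_lit 4097) (nat_lit 4097) (nat_lit 0x6a02001001c00403601f) (.dfs (nat_lit 1) (nat_lit 0x101d030010078) (nat_lit 0x1037030010056) (nat_lit 0x1040020008004002001) (nat_lit 0x106a02001c00403601f) (nat_lit 67) (nat_lit 0) (nat_lit 2) (nat_lit 0) (nat_lit 0) (nat_lit 1) (nat_lit 1) (nat_lit 0) (nat_lit 1) (nat_lit 0) (nat_lit 1) (nat_lit 0) .nil))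
theorem c7 : (chk [] [] p7).n x6 s7 = true := by decide +kernel
noncomputable def p8 : Pf := (.ext (nat_lit 0) (nat_lit 0x3f03002007d0021dd001000002) (nat_lit 0x11ce0800c00de) (nat_lit 0x7d02003f00f0021dd0010000100080040020030011dd00007d02003003f001005) (nat_lit 0x2003004008) (nat_lit 0x101700b005) (nat_lit 0x102c01700c) (nat_lit 0xf00400600500d00400600100b004006005) (.dfs (nat_lit 5) (nat_lit 0x1002003004008) (nat_lit 0x100600300400b) (nat_lit 4097) (nat_lit 4101) (nat_lit 3) (nat_lit 0) (nat_lit 2) (nat_lit 0) (nat_lit 0x3f03002007d0041dd001000002) (nat_lit 12) (nat_lit 1) (nat_lit 0) (nat_lit 0x111018e) (nat_lit 0x11018e) (nat_lit 0x10000120010120010d2) (nat_lit 0x40000) (.cD (nat_lit 18) (.dfs (nat_lit 11) (nat_lit 0x1004006008010) (nat_lit 0x100c00e00801a) (nat_lit 0x1002001) (nat_lit 0x100200b) (nat_lit 0) (nat_lit 0) (nat_lit 2) (nat_lit 0) (nat_lit 0x3f03002007d0041dd001000002) (nat_lit 23) (nat_lit 1) (nat_lit 0) (nat_lit 4160) (nat_lit 64) (nat_lit 0x1000065) (nat_lit 0x20000000000000000000000000) (.cD (nat_lit 101)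 (.dfs (nat_lit 23) (nat_lit 0x100800c010020) (nat_lit 0x101800c01003c) (nat_lit 0x1004002001) (nat_lit 0x101400e011) (nat_lit 0) (nat_lit 0) (nat_lit 2) (nat_lit 0) (nat_lit 0x3f03002007d0041dd001000002) (nat_lit 44) (nat_lit 1) (nat_lit 0) (nat_lit 1) (nat_lit 0) (nat_lit 1) (nat_lit 0x4000000000000000000000000000000040000000000000000000000000000) (.cD (nat_lit 114) (.cut (nat_lit 0)) (.cD (nat_lit 242) (.kS (nat_lit 0) (nat_lit 0x1001802004000203f03002007d0041dd001000003) (nat_lit 0x10990320b9) (nat_lit 0xa00600200d01000c00401601502801800803c032009) (nat_lit 0x1800802004001601900b00100801002004000400200100101001802004000701b00a001003)) .nil))) .nil)) .nil)))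
theorem c8 : (chk [(x6, s7)] [] p8).n x6 s8 = true := by decide +kernel
noncomputable def p9 : Pf := (.lft (nat_lit 0x80020040010002017001008001001) (nat_lit 174) (nat_lit 0x10e00c00a0080) (nat_lit 0x8004002001000800407a021) (.extn a500 (nat_lit 0x80040020010008004002001) (nat_lit 0x1010040020080) (nat_lit 2) (nat_lit 0) (nat_lit 0) (nat_lit 14) (nat_lit 0x400000000000000040000000000000000000000000000000000000000000) (.cE (nat_lit 174) b600 (nat_lit 0) (.cut (nat_lit 0)) .nil (.cE (nat_lit 238) b601 (nat_lit 0) (.cut (nat_lit 1)) .nil .nil))))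
theorem c9 : (chk [(x5, s6), (x6, s8)] [] p9).n x4 s9 = true := by decide +kernel
noncomputable def p10 : Pf := (.ext (nat_lit 0) (nat_lit 0) (nat_lit 0x1080020040010001006008) (nat_lit 0x7d02003003f02703a02400106203001002c01503e01f00104e01002000600200101c001003) (nat_lit 0x3c01002007a) (nat_lit 4098) (nat_lit 4251) (nat_lit 0x5003001002101e03b028) (.dfs (nat_lit 2) (nat_lit 0x103c01002007a) (nat_lit 0x102f01003004a) (nat_lit 0x1040008004002001) (nat_lit 0x105002101e03b028) (nat_lit 41) (nat_lit 0) (nat_lit 2) (nat_lit 0) (nat_lit 0) (nat_lit 19) (nat_lit 1) (nat_lit 0) (nat_lit 4128) (nat_lit 32) (nat_lit 0x100009b) (nat_lit 0x800000000000000000000000000000000000000) (.cD (nat_lit 155) (.cut (nat_lit 0)) .nil)))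
theorem c10 : (chk [(x4, s9)] [] p10).n x4 s10 = true := by decide +kernel
noncomputable def p11 : Pf := (.ext (nat_lit 0) (nat_lit 0x28030020078002001) (nat_lit 0x110004008002001e) (nat_lit 0x7802002801803c002010008004002001003002) (nat_lit 0x4006008010) (nat_lit 4098) (nat_lit 4123) (nat_lit 0x1c00800400a00d) (.dfs (nat_lit 2) (nat_lit 0x1002004008010) (nat_lit 0x100a00400801c) (nat_lit 4097) (nat_lit 4109) (nat_lit 8) (nat_lit 0) (nat_lit 2) (nat_lit 0) (nat_lit 0x2004008010001001) (nat_lit 27) (nat_lit 1) (nat_lit 0) (nat_lit 1) (nat_lit 0) (nat_lit 1) (nat_lit 0) .nil))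
theorem c11 : (chk [] [] p11).n x7 s11 = true := by decide +kernel
noncomputable def p12 : Pf := (.ext (nat_lit 0) (nat_lit 0) (nat_lit 0x110004008002000200c010) (nat_lit 0x5e01002001600200102c001001) (nat_lit 0xd030010078) (nat_lit 4097) (nat_lit 4097) (nat_lit 0x7a02001002c02401602f) (.dfs (nat_lit 1) (nat_lit 0x100d030010078) (nat_lit 0x1007030010076) (nat_lit 0x1040020008004002001) (nat_lit 0x107a02002c02401602f) (nat_lit 16) (nat_lit 0) (nat_lit 2) (nat_lit 0) (nat_lit 0) (nat_lit 1) (nat_lit 1) (nat_lit 0) (nat_lit 1) (nat_lit 0) (nat_lit 1) (nat_lit 0) .nil))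
theorem c12 : (chk [] [] p12).n x8 s12 = true := by decide +kernel
noncomputable def p13 : Pf := (.lft (nat_lit 0x80020040010002017001008001001) (nat_lit 0) (nat_lit 0x10e00c00a0080) (nat_lit 0x8004002001000800407a021) (.extn a499 (nat_lit 0x80040020010008004002001) (nat_lit 0x1010040020080) (nat_lit 2) (nat_lit 0) (nat_lit 0) (nat_lit 0) (nat_lit 0x10000000000000001) (.cE (nat_lit 0) b598 (nat_lit 0) (.cut (nat_lit 0)) .nil (.cE (nat_lit 64) (nat_lit 0x9e09f0d30b20f40f50d90f80c10e00fa0fb0dd0bc0a60a708f0ae0cc0cd08b0ea0c80c90b00b10c50a40820830d70f60be0bf0f30920d40d50f90d80e10c00da0db0fd09c0860870af08e0ec0ed0ab0ca0e80e90900910e50840a20a30f70d60de0df0930f20b40b50990b80810a00ba0bb09d0fc0e60e70cf0ee08c08d0cb0aa0880890f00f10850e40c20c30970b60fe0ff0b30d20940950b90980a108009a09b0bd0dc0c60c70ef0ce0ac0ad0eb08a0a80a90d00d10a50c40e20e30b709602802901d07c05a05b04f06e05707601401505303201001105907802202300506403e03f04604700b06a02c02d00102000800903d05c07a07b06f04e07705603403507301203003107905800200302504401e01f06606702b04a00c00d02100006806905d03c01a01b00f02e01703605405501307205005101903806206304502407e07f00600704b02a06c06d04106004804907d01c03a03b02f00e03701607407503305207007103901804204306500405e05f02602706b00a04c04d061040)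 (nat_lit 0) (.iso x8 s12 (nat_lit 0) (nat_lit 0x110008004002001000800408206f) (nat_lit 0x10008004002001000800408202f) [(nat_lit 0x20020000040020010008034022001005002)] (.cut (nat_lit 1))) .nil .nil))))
theorem c13 : (chk [(x7, s11), (x8, s12)] [g595] p13).n x4 s13 = true := by decide +kernel
noncomputable def p14 : Pf := (.ext (nat_lit 0) (nat_lit 0) (nat_lit 0x1080020040010001006008) (nat_lit 0x7d02003003f01701a01400106203001002c01500e01f00104e01002000600200101c001003) (nat_lit 0x2c01002005a) (nat_lit 4098) (nat_lit 4109) (nat_lit 0x5003001002101e03b028) (.dfs (nat_lit 2) (nat_lit 0x102c01002005a) (nat_lit 0x103f01003007a) (nat_lit 0x1040008004002001) (nat_lit 0x105002101e03b028) (nat_lit 41) (nat_lit 0) (nat_lit 2) (nat_lit 0) (nat_lit 0) (nat_lit 5) (nat_lit 1) (nat_lit 0) (nat_lit 4128) (nat_lit 32) (nat_lit 0x100000d) (nat_lit 8192) (.cD (nat_lit 13) (.cut (nat_lit 0)) .nil)))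
theorem c14 : (chk [(x4, s13)] [] p14).n x4 s14 = true := by decide +kernel
noncomputable def p15 : Pf := (.ext (nat_lit 0) (nat_lit 0) (nat_lit 0x10c9040020059031) (nat_lit 0x1e00800c00a00f00602100100001000800400200100500207a00004501002000d02c001005) (nat_lit 0xa00c00801e) (nat_lit 0x1006001) (nat_lit 0x1009007) (nat_lit 0x1000800400600901400800400e005) (.dfs (nat_lit 1) (nat_lit 0x100a00c00801e) (nat_lit 0x100600c008016) (nat_lit 0x1010004002001) (nat_lit 0x101400400e005) (nat_lit 4) (nat_lit 0) (nat_lit 2) (nat_lit 0) (nat_lit 0) (nat_lit 7) (nat_lit 1) (nat_lit 0) (nat_lit 4112) (nat_lit 16) (nat_lit 0x1000017000037) (nat_lit 0x80000000800000) (.cD (nat_lit 23) (.kA false (nat_lit 0xa004006010005003010008027001002)) (.cD (nat_lit 55) (.dfs (nat_lit 6) (nat_lit 0x101401801003c) (nat_lit 0x101c018010034) (nat_lit 0x1020008004002001) (nat_lit 0x102000800c012009) (nat_lit 8) (nat_lit 0) (nat_lit 2) (nat_lit 0) (nat_lit 0) (nat_lit 9) (nat_lit 1) (nat_lit 0) (nat_lit 1) (nat_lit 0) (nat_lit 1) (nat_lit 0x200000002000000020000000200)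 (.cD (nat_lit 9) (.kA false (nat_lit 0xd00400201000501f01002007200202101003005000307a002000004)) (.cD (nat_lit 41) (.cut (nat_lit 1)) (.cD (nat_lit 73) (.cut (nat_lit 0)) (.cD (nat_lit 105) (.kA false (nat_lit 0x900400201000500f01002007200202101003005000307a002000004)) .nil))))) .nil))))
theorem c15 : (chk [(x4, s10), (x4, s14)] [] p15).n x4 s15 = true := by decide +kernel
noncomputable def p16 : Pf := (.ext (nat_lit 0) (nat_lit 0xf004002010002001) (nat_lit 0x1080020040010) (nat_lit 0x1f002006009002010008004002005002) (nat_lit 0x300600400b) (nat_lit 0x1008006001) (nat_lit 0x1011017016) (nat_lit 0x800400200300a00400200700e004002005) (.dfs (nat_lit 1) (nat_lit 0x1001002004008) (nat_lit 0x100500200400e) (nat_lit 1) (nat_lit 1) (nat_lit 4) (nat_lit 0) (nat_lit 2) (nat_lit 0) (nat_lit 0x1002004008001001) (nat_lit 22) (nat_lit 1) (nat_lit 0) (nat_lit 0x1088087) (nat_lit 0x88087) (nat_lit 0x1000016001016001036) (nat_lit 0x400000) (.cD (nat_lit 22) (.dfs (nat_lit 6) (nat_lit 0x1002004008010) (nat_lit 0x100e004008014) (nat_lit 4097)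 (nat_lit 4105) (nat_lit 8) (nat_lit 0) (nat_lit 2) (nat_lit 0) (nat_lit 0x2004008010001001) (nat_lit 23) (nat_lit 1) (nat_lit 0) (nat_lit 1) (nat_lit 0) (nat_lit 1) (nat_lit 0x1000000010000000100000001000000) (.cD (nat_lit 24) (.dfs (nat_lit 8) (nat_lit 0x1004008010020) (nat_lit 0x100c008010020) (nat_lit 0x1002001) (nat_lit 0x100a019) (nat_lit 0) (nat_lit 0) (nat_lit 2) (nat_lit 0) (nat_lit 0x4008010020001001) (nat_lit 17) (nat_lit 1) (nat_lit 0) (nat_lit 1) (nat_lit 0) (nat_lit 1) (nat_lit 0x20000000200000002000000020000) (.cD (nat_lit 17) (.kA false (nat_lit 0x1d020010075001004004000008010020040001003)) (.cD (nat_lit 49) (.kA false (nat_lit 0xd020010045001004004000028010020070001021001000004)) (.cD (nat_lit 81) (.kA false (nat_lit 0x1d02001005500100c03002006600102101003005000107a002000004)) (.cD (nat_lit 113) (.kS (nat_lit 0) (nat_lit 0x1f020030075002021001000002) (nat_lit 0x105707e) (nat_lit 0xa00400200701c00800400a005) (nat_lit 0x703001005600a00900100801002004000400200100102100001f02003007503e00b001004)) .nil))))) (.cD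 (nat_lit 56) (.dfs (nat_lit 8) (nat_lit 0x1004008010020) (nat_lit 0x100c008010020) (nat_lit 0x1002001) (nat_lit 0x100a019) (nat_lit 0) (nat_lit 0) (nat_lit 2) (nat_lit 0) (nat_lit 0x4008010020001001) (nat_lit 17) (nat_lit 1) (nat_lit 0) (nat_lit 1) (nat_lit 0) (nat_lit 1) (nat_lit 0x20000000200000002000000020000) (.cD (nat_lit 17) (.kA false (nat_lit 0x1d020010075001004004000008010020040001003)) (.cD (nat_lit 49) (.kA false (nat_lit 0xd020010045001004004000028010020070001021001000004)) (.cD (nat_lit 81) (.kA false (nat_lit 0x1f020030055001007030010056001008010020040001003)) (.cD (nat_lit 113) (.kA false (nat_lit 0x3101003004000207a00200002f020030075002021001000004)) .nil))))) (.cD (nat_lit 88) (.dfs (nat_lit 8) (nat_lit 0x1004008010020) (nat_lit 0x100c008010020) (nat_lit 0x1002001) (nat_lit 0x100a019) (nat_lit 0) (nat_lit 0) (nat_lit 2) (nat_lit 0) (nat_lit 0x4008010020001001) (nat_lit 17) (nat_lit 1) (nat_lit 0) (nat_lit 1) (nat_lit 0) (nat_lit 1) (nat_lit 0x20000000200000002000000020000) (.cD (nat_lit 17) (.kA false (nat_lit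 0x1d020010075001004004000008010020040001003)) (.cD (nat_lit 49) (.kA false (nat_lit 0xd020010045001004004000028010020070001021001000004)) (.cD (nat_lit 81) (.kA false (nat_lit 0xf020030055001037030010046001021001000008010020040001004)) (.cD (nat_lit 113) (.cut (nat_lit 0)) .nil))))) (.cD (nat_lit 120) (.dfs (nat_lit 8) (nat_lit 0x1004008010020) (nat_lit 0x100c008010020) (nat_lit 0x1002001) (nat_lit 0x100a019) (nat_lit 0) (nat_lit 0) (nat_lit 2) (nat_lit 0) (nat_lit 0x4008010020001001) (nat_lit 17) (nat_lit 1) (nat_lit 0) (nat_lit 1) (nat_lit 0) (nat_lit 1) (nat_lit 0x20000000200000002000000020000) (.cD (nat_lit 17) (.kA false (nat_lit 0x1d020010075001004004000008010020040001003)) (.cD (nat_lit 49) (.kA false (nat_lit 0xd020010045001004004000028010020070001021001000004)) (.cD (nat_lit 81) (.kA false (nat_lit 0x3f020030055001017030010076001028010020070001021001000004)) (.cD (nat_lit 113) (.kA false (nat_lit 0x2101003004000207a00200000f020030075002021001000004)) .nil))))) .nil))))) .nil)))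
theorem c16 : (chk [(x4, s15)] [] p16).n x4 s16 = true := by decide +kernel
noncomputable def p17 : Pf := (.ext (nat_lit 0) (nat_lit 0x28030020078002001) (nat_lit 0x110004008002001e) (nat_lit 0x7802002801803c002010008004002001003002) (nat_lit 0x4006008010) (nat_lit 4098) (nat_lit 4101) (nat_lit 0x1c00800400a00d) (.dfs (nat_lit 2) (nat_lit 0x1002004008010) (nat_lit 0x100a00400801c) (nat_lit 4097) (nat_lit 4109) (nat_lit 8) (nat_lit 0) (nat_lit 2) (nat_lit 0) (nat_lit 0x2004008010001001) (nat_lit 5) (nat_lit 1) (nat_lit 0) (nat_lit 1) (nat_lit 0) (nat_lit 1) (nat_lit 0) .nil))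
theorem c17 : (chk [] [] p17).n x9 s17 = true := by decide +kernel
noncomputable def p18 : Pf := (.ext (nat_lit 0) (nat_lit 0x28030020078002001) (nat_lit 0x110004008002001e) (nat_lit 0x7802002801803c002010008004002001003002) (nat_lit 0x4006008010) (nat_lit 4098) (nat_lit 4101) (nat_lit 0x1c00800400a00d) (.dfs (nat_lit 2) (nat_lit 0x1002004008010) (nat_lit 0x100a00400801c) (nat_lit 4097) (nat_lit 4109) (nat_lit 8) (nat_lit 0) (nat_lit 2) (nat_lit 0) (nat_lit 0x2004008010001001) (nat_lit 5) (nat_lit 1) (nat_lit 0) (nat_lit 1) (nat_lit 0) (nat_lit 1) (nat_lit 0) .nil))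
theorem c18 : (chk [] [] p18).n x10 s18 = true := by decide +kernel
noncomputable def p19 : Pf := (.lft (nat_lit 0x80020040010002017001008001001) (nat_lit 142) (nat_lit 0x10e00c00a0080) (nat_lit 0x8004002001000800407a021) (.extn a498 (nat_lit 0x80040020010008004002001) (nat_lit 0x1010040020080) (nat_lit 2) (nat_lit 0) (nat_lit 0) (nat_lit 14) (nat_lit 0x4000000000000000400000000000000000000000000000000000) (.cE (nat_lit 142) b596 (nat_lit 0) (.cut (nat_lit 0)) .nil (.cE (nat_lit 206) b597 (nat_lit 0) (.cut (nat_lit 1)) .nil .nil))))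
theorem c19 : (chk [(x9, s17), (x10, s18)] [] p19).n x4 s19 = true := by decide +kernel
noncomputable def p20 : Pf := (.ext (nat_lit 0) (nat_lit 0) (nat_lit 0x1080020040010001006008) (nat_lit 0x7d02003003f02701a00400106203001003c01501e00f00105e01002001600200102c001003) (nat_lit 0x3c01002005a) (nat_lit 4098) (nat_lit 4245) (nat_lit 0x5003001002101e03b028) (.dfs (nat_lit 2) (nat_lit 0x103c01002005a) (nat_lit 0x102f01003007a) (nat_lit 0x1040008004002001) (nat_lit 0x105002101e03b028) (nat_lit 41) (nat_lit 0) (nat_lit 2) (nat_lit 0) (nat_lit 0) (nat_lit 21) (nat_lit 1) (nat_lit 0) (nat_lit 4128) (nat_lit 32) (nat_lit 0x10000b5) (nat_lit 0x2000000000000000000000000000000000000000000000) (.cD (nat_lit 181) (.cut (nat_lit 0)) .nil)))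
theorem c20 : (chk [(x4, s19)] [] p20).n x4 s20 = true := by decide +kernel
noncomputable def p21 : Pf := (.anz (nat_lit 128) (.iso x12 ⟨[([nat_lit 256, nat_lit 214, nat_lit 130, nat_lit 4, nat_lit 42, nat_lit 64, nat_lit 8, nat_lit 1], [nat_lit 264, nat_lit 88, nat_lit 114, nat_lit 164, nat_lit 158, nat_lit 8, nat_lit 72, nat_lit 223]), ([nat_lit 352, nat_lit 384, nat_lit 266, nat_lit 16, nat_lit 72, nat_lit 64, nat_lit 103], [nat_lit 400, nat_lit 85, nat_lit 274, nat_lit 88, nat_lit 16, nat_lit 64, nat_lit 103])], [], [], [], [], [], true, false, []⟩ (nat_lit 0) (nat_lit 0x100100808001401e040002004100) (nat_lit 0x104000802a0d6080002004100) [(nat_lit 0x80040020010008004002001001001), (nat_lit 0x40020010008004002001003001)] (.syr (nat_lit 1) false (nat_lit 1) (nat_lit 1) (nat_lit 1) (nat_lit 0x1016008) (nat_lit 0x1100080020010008004002001) (nat_lit 0x10008002001000800c0b6001) (nat_lit 0x10010080000100010100020100060100000200010200020200010220020220060220070220001000011000021000041000051000001280011280031280010180020180060180010600020600020d40040d40010d60020d60060d60070d600106a00706a00709e0000c60010c60011a80051a80021e40041e40061e40071e40061080011a00061a0001140001180003180003198005198007062007096)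 (nat_lit 0x100000000010000000000000000000000000000000000000000000000010000000500010100) (.cD (nat_lit 64) (.kc (nat_lit 1) (nat_lit 0x1001001)) (.cD (nat_lit 8) (.kc (nat_lit 1) (nat_lit 0x20004001001002)) (.cD (nat_lit 16) (.kc (nat_lit 1) (nat_lit 0x60003010006001001003)) (.cD (nat_lit 32) (.czp (nat_lit 32) (nat_lit 0x1002001) (nat_lit 0x1180040020088014009) z2 (.dfs (nat_lit 22) (nat_lit 4097) (nat_lit 4097) (nat_lit 1) (nat_lit 1) (nat_lit 0) (nat_lit 2) (nat_lit 3) (nat_lit 0) (nat_lit 0) (nat_lit 0) (nat_lit 1) (nat_lit 0) (nat_lit 0x1014081) (nat_lit 0x54081) (nat_lit 0x100010100110100011c00111c00012100112100013c00113c0011a90011f40011c9001194) (nat_lit 0x10000002100000020000000000000000000000000000000000000000000000000000000000000000) (.cD (nat_lit 257) (.mulh (nat_lit 1) (nat_lit 1) (.mulh (nat_lit 1) (nat_lit 1) (.dfs (nat_lit 8) (nat_lit 4104) (nat_lit 4104) (nat_lit 0x1004002001) (nat_lit 0x1005002001) (nat_lit 0) (nat_lit 0) (nat_lit 3) (nat_lit 0) (nat_lit 0) (nat_lit 0) (nat_lit 1) (nat_lit 0) (nat_lit 4353)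 (nat_lit 425) (nat_lit 0x100001d00003d) (nat_lit 0x2000000020000000) (.cD (nat_lit 29) (.kF (nat_lit 22) (nat_lit 0xd0100020010010000090120010b6002000004)) (.cD (nat_lit 61) (.kb (nat_lit 93) (nat_lit 0x400c000013002002) (nat_lit 0x1100080040020008004011)) .nil))))) (.cD (nat_lit 284) (.mulh (nat_lit 1) (nat_lit 1) (.mulh (nat_lit 1) (nat_lit 1) (.dfs (nat_lit 8) (nat_lit 4104) (nat_lit 4104) (nat_lit 0x1004002001) (nat_lit 0x1005002001) (nat_lit 0) (nat_lit 0) (nat_lit 3) (nat_lit 0) (nat_lit 0) (nat_lit 0) (nat_lit 1) (nat_lit 0) (nat_lit 4500) (nat_lit 316) (nat_lit 0x100001d00003d) (nat_lit 0x2000000020000000) (.cD (nat_lit 29) (.kF (nat_lit 22) (nat_lit 0xd0100020010010000090120010b6002000004)) (.cD (nat_lit 61) (.kb (nat_lit 93) (nat_lit 0x400c000013002002) (nat_lit 0x1100080040020008004011)) .nil))))) (.cD (nat_lit 289) (.mulh (nat_lit 1) (nat_lit 1) (.mulh (nat_lit 1) (nat_lit 1) (.dfs (nat_lit 8) (nat_lit 4104) (nat_lit 4104) (nat_lit 0x1004002001) (nat_lit 0x1005002001) (nat_lit 0) (nat_lit 0) (nat_lit 3) (nat_lit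 0) (nat_lit 0) (nat_lit 0) (nat_lit 1) (nat_lit 0) (nat_lit 4353) (nat_lit 425) (nat_lit 0x100001d00003d) (nat_lit 0x2000000020000000) (.cD (nat_lit 29) (.kF (nat_lit 22) (nat_lit 0xf0100020010010000090120010b6002000004)) (.cD (nat_lit 61) (.kb (nat_lit 93) (nat_lit 0x400c000013002002) (nat_lit 0x1100080040020008004011)) .nil))))) (.cD (nat_lit 316) (.mulh (nat_lit 1) (nat_lit 1) (.mulh (nat_lit 1) (nat_lit 1) (.dfs (nat_lit 8) (nat_lit 4104) (nat_lit 4104) (nat_lit 0x1004002001) (nat_lit 0x1005002001) (nat_lit 0) (nat_lit 0) (nat_lit 3) (nat_lit 0) (nat_lit 0) (nat_lit 0) (nat_lit 1) (nat_lit 0) (nat_lit 4500) (nat_lit 316) (nat_lit 0x100001d00003d) (nat_lit 0x2000000020000000) (.cD (nat_lit 29) (.kF (nat_lit 22) (nat_lit 0xf0100020010010000090120010b6002000004)) (.cD (nat_lit 61) (.kb (nat_lit 93) (nat_lit 0x400c000013002002) (nat_lit 0x1100080040020008004011)) .nil))))) .nil)))))) (.cD (nat_lit 34) (.kc (nat_lit 1) (nat_lit 0x600030180050020030b6002000001001005)) (.cD (nat_lit 256) (.anc (nat_lit 1) (nat_lit 0x1001001) (nat_lit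 0x1080040008034016001) (.kn (nat_lit 1) (nat_lit 0x1080040008034016001) false (nat_lit 0x1020010004002001) (nat_lit 0x2001000c0b6001) (nat_lit 0x10001000011000021000031000041000011a80041a80021e4))) (.cD (nat_lit 296) (.kb (nat_lit 85) (nat_lit 0x1002056005002) (nat_lit 0x11000400a0030008004011)) .nil))))))))))
theorem c21 : (chk [] [g594] p21).n x11 s21 = true := by decide +kernel
noncomputable def p22 : Pf := (.clm (.cut (nat_lit 0)) (.dfs (nat_lit 256) (nat_lit 1) (nat_lit 1) (nat_lit 1) (nat_lit 1) (nat_lit 0) (nat_lit 0) (nat_lit 0) (nat_lit 0) (nat_lit 0) (nat_lit 0) (nat_lit 1) (nat_lit 0) (nat_lit 0x1100040020010008004002001) (nat_lit 0x1000400200100080f4042001) (nat_lit 0x100100100200100400100500100700100100800200800400800600800100900200900500900600900700900001000101000201000301000001e00101e00301e00401e00204000010000110000210000010800110800210800510800610800010b00110b00210b00410b00510b00610b00010e00110e00210e00310e00410e00211c00511c00711c00111d00211d00411d00511d00711d00204100304100504100704100106f00206f00306f00406f0000140020140000380020d50050d500107e00207e00307e00407e00707e0020900030900000600030600020200010b20030b20020de0011ec0041ec0071ec0031c00021540021d400519700116000216000316000218e00318e00418e00015200014e00215d00315d00515d00715d0011b30021b30031b30041b30020af0030af0030fe0031e00021d0002173003173)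 (nat_lit 0x300049010000000000000000000000000000000100000000000000010000000040010302) (.cD (nat_lit 1) (.kn (nat_lit 1) (nat_lit 0x1100080040020010008) false (nat_lit 0x1100020010008004002) (nat_lit 0x1000200100080f4042) (nat_lit 0x1000001001001003001004001005001001041002041004041)) (.cD (nat_lit 8) (.czp (nat_lit 8) (nat_lit 0x1002001) (nat_lit 0x110008007000801c001) z4 (.dfs (nat_lit 128) (nat_lit 4097) (nat_lit 4097) (nat_lit 1) (nat_lit 1) (nat_lit 0) (nat_lit 0) (nat_lit 3) (nat_lit 0) (nat_lit 0) (nat_lit 0) (nat_lit 0x110001c001) (nat_lit 1) (nat_lit 1) (nat_lit 0) (nat_lit 1) (nat_lit 0x10100000000000000000000000000000100) (.cD (nat_lit 8) (.kc (nat_lit 384) (nat_lit 0x3001001)) (.cD (nat_lit 128) (.dfs (nat_lit 32) (nat_lit 4098) (nat_lit 4098) (nat_lit 4097) (nat_lit 4097) (nat_lit 0) (nat_lit 0) (nat_lit 3) (nat_lit 0) (nat_lit 0) (nat_lit 0) (nat_lit 1) (nat_lit 0) (nat_lit 0x11001f009c001) (nat_lit 0x10017001c001) (nat_lit 0x100100100200100100900200900010000110000010800110800111c00111d00211d0011240011250021250000ed0000550031ec003154000171000179)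 (nat_lit 0x30300001010000000000000000000000000000010100000000000000000000000000000302) (.cD (nat_lit 1) (.kb (nat_lit 476) (nat_lit 0x20420000b0003007002022006004) (nat_lit 0x1080040130038024002001)) (.cD (nat_lit 8) (.kc (nat_lit 288) (nat_lit 0x5001001)) (.cD (nat_lit 9) (.kF (nat_lit 32) (nat_lit 0xf4004000003006002040040000001004001004)) (.cD (nat_lit 128) (.kc (nat_lit 160) (nat_lit 0x3001001)) (.cD (nat_lit 136) (.kc (nat_lit 416) (nat_lit 0x7001001)) (.cD (nat_lit 256) (.kc (nat_lit 256) (nat_lit 0x6000301000600e004001001000001002005)) (.cD (nat_lit 264) (.kF (nat_lit 32) (nat_lit 0xf4004000003006002040040000001004001004)) (.cD (nat_lit 284) (.kF (nat_lit 32) (nat_lit 0xf4004000001006002040040000001004001004)) (.cD (nat_lit 285) (.kc (nat_lit 256) (nat_lit 0x6000301000600100100000b0060070010b0004042002000007)) (.cD (nat_lit 292) (.kb (nat_lit 412) (nat_lit 0x20420000b0003007002003) (nat_lit 0x1080040130008014002001)) (.cD (nat_lit 293) (.kF (nat_lit 32) (nat_lit 0xf4004000003006002040040000001004001004)) .nil))))))))))))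 (.cD (nat_lit 136) (.kc (nat_lit 256) (nat_lit 0x30010f4004000002)) .nil))))) (.cD (nat_lit 9) (.kb (nat_lit 348) (nat_lit 0x1002002006002) (nat_lit 0x1080040130038024002001)) (.cD (nat_lit 16) (.kc (nat_lit 256) (nat_lit 0x60003018005002003001001004)) (.cD (nat_lit 30) (.kc (nat_lit 256) (nat_lit 0x60003010006001001003)) (.cD (nat_lit 64) (.kc (nat_lit 256) (nat_lit 0x20004001001002)) (.cD (nat_lit 128) (.kc (nat_lit 256) (nat_lit 0x1001001)) (.cD (nat_lit 256) (.kin (nat_lit 1) (nat_lit 0)) (.cD (nat_lit 264) (.czp (nat_lit 264) (nat_lit 0x1002001) (nat_lit 0x1100080070008014003) z3 (.dfs (nat_lit 128) (nat_lit 4097) (nat_lit 4097) (nat_lit 1) (nat_lit 1) (nat_lit 0) (nat_lit 0) (nat_lit 3) (nat_lit 0) (nat_lit 0) (nat_lit 0) (nat_lit 0x110005c008003) (nat_lit 1) (nat_lit 1) (nat_lit 0) (nat_lit 1) (nat_lit 0x100000000000000000000000000000001000000000000000000000000000000000100000000000000000000000000000000) (.cD (nat_lit 128) (.dfs (nat_lit 32) (nat_lit 4098) (nat_lit 4098) (nat_lit 4097) (nat_lit 4097) (nat_lit 0) (nat_lit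 0) (nat_lit 3) (nat_lit 0) (nat_lit 0) (nat_lit 0) (nat_lit 1) (nat_lit 0) (nat_lit 0x1008014003) (nat_lit 0x8014003) (nat_lit 0x100100300200300000800100800106400106700206700010000110000110b00210b00115c00115f00215f0020af0020140020fb00212c002197002173) (nat_lit 0x100000000009000000000000000000009010000000000000000000000000000000100000090000000000000000000000108) (.cD (nat_lit 3) (.kc (nat_lit 256) (nat_lit 0x2000403000600100100006f0050070010b0004042002000007)) (.cD (nat_lit 8) (.kF (nat_lit 32) (nat_lit 0xf4004000003006002040040000001004001004)) (.cD (nat_lit 100) (.kb (nat_lit 348) (nat_lit 0x20420000b0003007002003) (nat_lit 0x1080040130038024002001)) (.cD (nat_lit 103) (.kF (nat_lit 32) (nat_lit 0xf4004000003006002040040000001004001004)) (.cD (nat_lit 128) (.kc (nat_lit 160) (nat_lit 0x3001001)) (.cD (nat_lit 256) (.kc (nat_lit 256) (nat_lit 0x6000301000600e004001001000001002005)) (.cD (nat_lit 264) (.kc (nat_lit 288) (nat_lit 0x5001001)) (.cD (nat_lit 267) (.kF (nat_lit 32) (nat_lit 0xf4004000003006002040040000001004001004))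 (.cD (nat_lit 348) (.kF (nat_lit 32) (nat_lit 0xf4004000001006002040040000001004001004)) (.cD (nat_lit 351) (.kb (nat_lit 284) (nat_lit 0x20420000b0003007002066005004) (nat_lit 0x1080040130008014002001)) (.cD (nat_lit 392) (.kc (nat_lit 416) (nat_lit 0x7001001)) .nil)))))))))))) (.cD (nat_lit 264) (.kc (nat_lit 384) (nat_lit 0x3001001)) (.cD (nat_lit 392) (.kc (nat_lit 256) (nat_lit 0x30010f4004000002)) .nil))))) (.cD (nat_lit 267) (.kc (nat_lit 256) (nat_lit 0x6000301000600100100004f005001001005)) (.cD (nat_lit 270) (.kn (nat_lit 1) (nat_lit 0x1100080040020010008) false (nat_lit 0x1010008004002001) (nat_lit 0x100080f4042001) (nat_lit 0x100010e00110e00210e00310e00410e001160002160003160)) (.cD (nat_lit 284) (.kb (nat_lit 284) (nat_lit 0x1002001) (nat_lit 0x1080040130008014002001)) (.cD (nat_lit 285) (.kn (nat_lit 1) (nat_lit 0x1100080040020010008) false (nat_lit 0x1100020010008004002) (nat_lit 0x1000200100080f4042) (nat_lit 0x100011d00111d00311d00411d00511d00115d00215d00415d)) .nil)))))))))))))))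
theorem c22 : (chk [(x11, s21)] [] p22).n x11 s22 = true := by decide +kernel
noncomputable def p23 : Pf := (.ext (nat_lit 0) (nat_lit 0) (nat_lit 0x110004008002000200c010) (nat_lit 0x5e01002001600200102c003001) (nat_lit 0xd030010078) (nat_lit 4097) (nat_lit 4097) (nat_lit 0x7a02001002c02401602f) (.dfs (nat_lit 1) (nat_lit 0x100d030010078) (nat_lit 0x1007030010076) (nat_lit 0x1040020008004002001) (nat_lit 0x107a02002c02401602f) (nat_lit 0) (nat_lit 0) (nat_lit 2) (nat_lit 0) (nat_lit 0) (nat_lit 1) (nat_lit 1) (nat_lit 0) (nat_lit 1) (nat_lit 0) (nat_lit 1) (nat_lit 0x2000000000000000200000000000000020000000000000002) (.cD (nat_lit 1) (.kS (nat_lit 0) (nat_lit 0x7e0200600940010ab005000002) (nat_lit 0x102c0f00ed) (nat_lit 0xa00400200701c00800400a00502a01000803d00a013) (nat_lit 0x800800000e0600200ec0140320010020040f400007e02006009405c00a01d002004)) (.cD (nat_lit 65) (.cut (nat_lit 0)) (.cD (nat_lit 129) (.iso x11 s22 (nat_lit 0) (nat_lit 0x1100080040020010008004002081) (nat_lit 0x100080040020010008004002081) [(nat_lit 0x80040020010008004002021001001),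 (nat_lit 0x4200200006002001800800c056029004042002000003)] (.cut (nat_lit 0))) (.cD (nat_lit 193) (.kS (nat_lit 0) (nat_lit 0x7e0200600940010ab005000002) (nat_lit 0x102c0f002d) (nat_lit 0xa00400200701c00800400a00502a01000803d00a013) (nat_lit 0x800800000e0600200ec0140320410020040f400007e02006009405c00a01d002004)) .nil))))))
theorem c23 : (chk [(x11, s22)] [g588] p23).n x11 s23 = true := by decide +kernel
noncomputable def p24 : Pf := (.ext (nat_lit 0) (nat_lit 0x3f03002007d002001001000002) (nat_lit 0x118e0800c001e) (nat_lit 0x7d02003f00f00200100100001000800400200300100100007d02003003f001005) (nat_lit 0x2003004008) (nat_lit 0x1015009007) (nat_lit 0x100900c01b) (nat_lit 0x900400600100b00400600500d004006001) (.dfs (nat_lit 7) (nat_lit 0x1002003004008) (nat_lit 0x100600700400d) (nat_lit 4097) (nat_lit 4097) (nat_lit 5) (nat_lit 0) (nat_lit 2) (nat_lit 0) (nat_lit 0x3f03002007d004001001000002) (nat_lit 27) (nat_lit 1) (nat_lit 0) (nat_lit 0x104011018e) (nat_lit 0x4011018e) (nat_lit 0x1000029001029002029) (nat_lit 0x20000000000) (.cD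 (nat_lit 41) (.dfs (nat_lit 9) (nat_lit 0x1004006008010) (nat_lit 0x100c006008016) (nat_lit 0x1002001) (nat_lit 0x100a007) (nat_lit 0) (nat_lit 0) (nat_lit 2) (nat_lit 0) (nat_lit 0x3f03002007d004001001000002) (nat_lit 12) (nat_lit 1) (nat_lit 0) (nat_lit 4318) (nat_lit 222) (nat_lit 0x100015c) (nat_lit 0x1000000000000000000000000000000000000000000000000000000000000000000000000000000000000000) (.cD (nat_lit 348) (.dfs (nat_lit 21) (nat_lit 0x100800c010020) (nat_lit 0x101801c010024) (nat_lit 0x1004002001) (nat_lit 0x1004006001) (nat_lit 16) (nat_lit 0) (nat_lit 2) (nat_lit 0) (nat_lit 0x3f03002007d004001001000002) (nat_lit 9) (nat_lit 1) (nat_lit 0) (nat_lit 1) (nat_lit 0) (nat_lit 1) (nat_lit 0x80000000000000000000000000000000800000000000000) (.cD (nat_lit 59) (.cut (nat_lit 0)) (.cD (nat_lit 187) (.kS (nat_lit 0) (nat_lit 0x1001802004000203f03002007d004001001000003) (nat_lit 0x113c0d5102) (nat_lit 0x800600200b01400c00401a019020018008024022001) (nat_lit 0x1800802004000f05600a00100801002004000400200100101001802004006b01106e001003))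 .nil))) .nil)) .nil)))
theorem c24 : (chk [(x11, s23)] [] p24).n x11 s24 = true := by decide +kernel
noncomputable def p25 : Pf := (.ext (nat_lit 0) (nat_lit 0x3f03002007d002081001000002) (nat_lit 0x118e0800c001e) (nat_lit 0x7d02003f00f00208100100001000800400200300108100007d02003003f001005) (nat_lit 0x2003004008) (nat_lit 0x1015009007) (nat_lit 0x100900c01b) (nat_lit 0x900400600100b00400600500d004006001) (.dfs (nat_lit 7) (nat_lit 0x1002003004008) (nat_lit 0x100600700400d) (nat_lit 4097) (nat_lit 4097) (nat_lit 1) (nat_lit 0) (nat_lit 2) (nat_lit 0) (nat_lit 0x3f03002007d004081001000002) (nat_lit 27) (nat_lit 1) (nat_lit 0) (nat_lit 0x104011018e) (nat_lit 0x4011018e) (nat_lit 0x1000029001029002029) (nat_lit 0x20000000000) (.cD (nat_lit 41) (.dfs (nat_lit 9) (nat_lit 0x1004006008010) (nat_lit 0x100c006008016) (nat_lit 0x1002001) (nat_lit 0x100a007) (nat_lit 8) (nat_lit 0) (nat_lit 2) (nat_lit 0) (nat_lit 0x3f03002007d004081001000002) (nat_lit 12) (nat_lit 1) (nat_lit 0) (nat_lit 4318) (nat_lit 222) (nat_lit 0x1000102) (nat_lit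 0x40000000000000000000000000000000000000000000000000000000000000000) (.cD (nat_lit 258) (.dfs (nat_lit 21) (nat_lit 0x100800c010020) (nat_lit 0x101801c010024) (nat_lit 0x1004002001) (nat_lit 0x1004006001) (nat_lit 0) (nat_lit 0) (nat_lit 2) (nat_lit 0) (nat_lit 0x3f03002007d004081001000002) (nat_lit 9) (nat_lit 1) (nat_lit 0) (nat_lit 1) (nat_lit 0) (nat_lit 1) (nat_lit 0x80000000000000000000000000000000800000000000000) (.cD (nat_lit 59) (.kS (nat_lit 0) (nat_lit 0x1001802004000203f03002007d004081001000003) (nat_lit 0x11a205511c) (nat_lit 0x800600200b01400c00401a019020018008024022001) (nat_lit 0x1800802004002f04e02a001008010020040004002001001010018020040063031046001003)) (.cD (nat_lit 187) (.cut (nat_lit 0)) .nil))) .nil)) .nil)))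
theorem c25 : (chk [(x8, s12)] [] p25).n x8 s25 = true := by decide +kernel
noncomputable def p26 : Pf := (.lft (nat_lit 0x80020040010002017001008001001) (nat_lit 0) (nat_lit 0x10e00c00a0080) (nat_lit 0x8004002001000800407a021) (.extn a492 (nat_lit 0x80040020010008004002001) (nat_lit 0x1010040020080) (nat_lit 2) (nat_lit 0) (nat_lit 0) (nat_lit 0) (nat_lit 0x10000000000000001) (.cE (nat_lit 0) b588 (nat_lit 0) (.cut (nat_lit 0)) .nil (.cE (nat_lit 64) b595 (nat_lit 0) (.cut (nat_lit 1)) .nil .nil))))
theorem c26 : (chk [(x11, s24), (x8, s25)] [] p26).n x4 s26 = true := by decide +kernel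
noncomputable def p27 : Pf := (.ext (nat_lit 0) (nat_lit 0) (nat_lit 0x1080020040010001006008) (nat_lit 0x7d02003003f01703a03400106203001003c01502e00f00105e01002001600200102c001003) (nat_lit 0x2c01002007a) (nat_lit 4098) (nat_lit 4099) (nat_lit 0x5003001002101e03b028) (.dfs (nat_lit 2) (nat_lit 0x102c01002007a) (nat_lit 0x103f01003004a) (nat_lit 0x1040008004002001) (nat_lit 0x105002101e03b028) (nat_lit 41) (nat_lit 0) (nat_lit 2) (nat_lit 0) (nat_lit 0) (nat_lit 3) (nat_lit 1) (nat_lit 0) (nat_lit 4128) (nat_lit 32) (nat_lit 0x1000023) (nat_lit 0x800000000) (.cD (nat_lit 35) (.cut (nat_lit 0)) .nil)))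
theorem c27 : (chk [(x4, s26)] [] p27).n x4 s27 = true := by decide +kernel
noncomputable def p28 : Pf := (.ext (nat_lit 0) (nat_lit 0) (nat_lit 0x1089040020019011) (nat_lit 0x1e00800c00a00f00602100100001000800400200100500207a00005501002001d00c001005) (nat_lit 0xa00c00801e) (nat_lit 0x1006001) (nat_lit 0x1009007) (nat_lit 0x1000800400600901400800400e005) (.dfs (nat_lit 1) (nat_lit 0x100a00c00801e) (nat_lit 0x100600c008016) (nat_lit 0x1010004002001) (nat_lit 0x101400400e005) (nat_lit 4) (nat_lit 0) (nat_lit 2) (nat_lit 0) (nat_lit 0) (nat_lit 7) (nat_lit 1) (nat_lit 0) (nat_lit 4112) (nat_lit 16) (nat_lit 0x1000017000037) (nat_lit 0x80000000800000) (.cD (nat_lit 23) (.dfs (nat_lit 6) (nat_lit 0x101401801003c) (nat_lit 0x101c018010034) (nat_lit 0x1020008004002001) (nat_lit 0x102000800c012009) (nat_lit 8) (nat_lit 0) (nat_lit 2) (nat_lit 0) (nat_lit 0) (nat_lit 9) (nat_lit 1) (nat_lit 0) (nat_lit 1) (nat_lit 0) (nat_lit 1) (nat_lit 0x200000002000000020000000200) (.cD (nat_lit 9) (.cut (nat_lit 1)) (.cD (nat_lit 41) (.kA false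 (nat_lit 0x2101003004000403f01002007200103c02003007e00107a002000004)) (.cD (nat_lit 73) (.kA false (nat_lit 0x3101003004000403f01002007200103c02003007e00107a002000004)) (.cD (nat_lit 105) (.cut (nat_lit 0)) .nil))))) (.cD (nat_lit 55) (.kA false (nat_lit 0xe004006010005003010008037001021001000003)) .nil))))
theorem c28 : (chk [(x4, s20), (x4, s27)] [] p28).n x4 s28 = true := by decide +kernel
noncomputable def p29 : Pf := (.ext (nat_lit 0) (nat_lit 0xd004002010002001) (nat_lit 0x1080020040010) (nat_lit 0x1d00200600b002010008004002005002) (nat_lit 0x300600400b) (nat_lit 0x1008006001) (nat_lit 0x1011017016) (nat_lit 0x800400200300a00400200700e004002005) (.dfs (nat_lit 1) (nat_lit 0x1001002004008) (nat_lit 0x100500200400e) (nat_lit 1) (nat_lit 1) (nat_lit 4) (nat_lit 0) (nat_lit 2) (nat_lit 0) (nat_lit 0x1002004008001001) (nat_lit 22) (nat_lit 1) (nat_lit 0) (nat_lit 0x1088087) (nat_lit 0x88087) (nat_lit 0x1000016001016001036) (nat_lit 0x400000) (.cD (nat_lit 22) (.dfs (nat_lit 6) (nat_lit 0x1002004008010) (nat_lit 0x100e004008014)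 (nat_lit 4097) (nat_lit 4105) (nat_lit 8) (nat_lit 0) (nat_lit 2) (nat_lit 0) (nat_lit 0x2004008010001001) (nat_lit 23) (nat_lit 1) (nat_lit 0) (nat_lit 1) (nat_lit 0) (nat_lit 1) (nat_lit 0x1000000010000000100000001000000) (.cD (nat_lit 24) (.dfs (nat_lit 8) (nat_lit 0x1004008010020) (nat_lit 0x100c008010020) (nat_lit 0x1002001) (nat_lit 0x100a019) (nat_lit 0) (nat_lit 0) (nat_lit 2) (nat_lit 0) (nat_lit 0x4008010020001001) (nat_lit 17) (nat_lit 1) (nat_lit 0) (nat_lit 1) (nat_lit 0) (nat_lit 1) (nat_lit 0x20000000200000002000000020000) (.cD (nat_lit 17) (.kA false (nat_lit 0x1d020010055001004004000028010020070001021001000004)) (.cD (nat_lit 49) (.kA false (nat_lit 0xd020010065001004004000008010020040001003)) (.cD (nat_lit 81) (.cut (nat_lit 0)) (.cD (nat_lit 113) (.kA false (nat_lit 0x1f020030045001007030010066001028010020070001021001000004)) .nil))))) (.cD (nat_lit 56) (.dfs (nat_lit 8) (nat_lit 0x1004008010020) (nat_lit 0x100c008010020) (nat_lit 0x1002001) (nat_lit 0x100a019) (nat_lit 0) (nat_lit 0) (nat_lit 2) (nat_lit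 0) (nat_lit 0x4008010020001001) (nat_lit 17) (nat_lit 1) (nat_lit 0) (nat_lit 1) (nat_lit 0) (nat_lit 1) (nat_lit 0x20000000200000002000000020000) (.cD (nat_lit 17) (.kA false (nat_lit 0x1d020010055001004004000028010020070001021001000004)) (.cD (nat_lit 49) (.kA false (nat_lit 0xd020010065001004004000008010020040001003)) (.cD (nat_lit 81) (.kA false (nat_lit 0x2101003004000207a00200003f020030065002021001000004)) (.cD (nat_lit 113) (.kA false (nat_lit 0x2f02003004500100400400002101003005000107a002000004)) .nil))))) (.cD (nat_lit 88) (.dfs (nat_lit 8) (nat_lit 0x1004008010020) (nat_lit 0x100c008010020) (nat_lit 0x1002001) (nat_lit 0x100a019) (nat_lit 0) (nat_lit 0) (nat_lit 2) (nat_lit 0) (nat_lit 0x4008010020001001) (nat_lit 17) (nat_lit 1) (nat_lit 0) (nat_lit 1) (nat_lit 0) (nat_lit 1) (nat_lit 0x20000000200000002000000020000) (.cD (nat_lit 17) (.kA false (nat_lit 0x1d020010055001004004000028010020070001021001000004)) (.cD (nat_lit 49) (.kA false (nat_lit 0xd020010065001004004000008010020040001003)) (.cD (nat_lit 81) (.kS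 (nat_lit 0) (nat_lit 0x17030010046001008010020040001002) (nat_lit 0x103705e) (nat_lit 0xa00400200701c00800400a005) (nat_lit 0x1001000001f02003007503e00b00200801002004000400200201703001004600a019002004)) (.cD (nat_lit 113) (.kA false (nat_lit 0x3f020030045001017030010046001008010020040001003)) .nil))))) (.cD (nat_lit 120) (.dfs (nat_lit 8) (nat_lit 0x1004008010020) (nat_lit 0x100c008010020) (nat_lit 0x1002001) (nat_lit 0x100a019) (nat_lit 0) (nat_lit 0) (nat_lit 2) (nat_lit 0) (nat_lit 0x4008010020001001) (nat_lit 17) (nat_lit 1) (nat_lit 0) (nat_lit 1) (nat_lit 0) (nat_lit 1) (nat_lit 0x20000000200000002000000020000) (.cD (nat_lit 17) (.kA false (nat_lit 0x1d020010055001004004000028010020070001021001000004)) (.cD (nat_lit 49) (.kA false (nat_lit 0xd020010065001004004000008010020040001003)) (.cD (nat_lit 81) (.kA false (nat_lit 0x3101003004000207a00200001f020030065002021001000004)) (.cD (nat_lit 113) (.kA false (nat_lit 0x2f02003004500100400400002101003005000107a002000004)) .nil))))) .nil))))) .nil)))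
theorem c29 : (chk [(x4, s28)] [] p29).n x4 s29 = true := by decide +kernel
noncomputable def p30 : Pf := (.anc (nat_lit 136) (nat_lit 0x10004004004000002) (nat_lit 0x1007040020008) (.czp (nat_lit 128) (nat_lit 0) (nat_lit 0x1080040020010008004) z1 (.dfs (nat_lit 8) (nat_lit 4097) (nat_lit 4097) (nat_lit 1) (nat_lit 1) (nat_lit 0) (nat_lit 0) (nat_lit 3) (nat_lit 0) (nat_lit 0) (nat_lit 0) (nat_lit 1) (nat_lit 0) (nat_lit 0x1020010008004) (nat_lit 0x20010008004) (nat_lit 0x10010040020040030040000080020080000200000280020280010840020840030840000880020880000a00000a80020a80010100010700010900010f0) (nat_lit 0x1000001010000011100000000000000010000010100000110) (.cD (nat_lit 4) (.kF (nat_lit 8) (nat_lit 0x100200107a00200000e01a00607a002000004)) (.cD (nat_lit 8) (.dfs (nat_lit 32) (nat_lit 4098) (nat_lit 4098) (nat_lit 4097) (nat_lit 4097) (nat_lit 0) (nat_lit 0) (nat_lit 3) (nat_lit 0) (nat_lit 0) (nat_lit 0) (nat_lit 1) (nat_lit 0) (nat_lit 1) (nat_lit 0) (nat_lit 1) (nat_lit 0x10100000101000001010000010100000101000001010000010100000100)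 (.cD (nat_lit 8) (.kc (nat_lit 40) (nat_lit 0x3001001)) (.cD (nat_lit 32) (.kF (nat_lit 32) (nat_lit 0x4010006004004000001006001003)) (.cD (nat_lit 40) (.kF (nat_lit 32) (nat_lit 0x2010006004004000001006001003)) (.cD (nat_lit 64) (.dfs (nat_lit 64) (nat_lit 4100) (nat_lit 4100) (nat_lit 0x1002001) (nat_lit 0x1002001) (nat_lit 0) (nat_lit 0) (nat_lit 3) (nat_lit 0) (nat_lit 0) (nat_lit 0) (nat_lit 1) (nat_lit 0) (nat_lit 1) (nat_lit 0) (nat_lit 1) (nat_lit 0x10100000101000001010000010100000101000001010000010100000100) (.cD (nat_lit 8) (.kc (nat_lit 72) (nat_lit 0x5001001)) (.cD (nat_lit 32) (.dfs (nat_lit 7) (nat_lit 0x1004002003008) (nat_lit 0x1006002003008) (nat_lit 4097) (nat_lit 4097) (nat_lit 2) (nat_lit 0) (nat_lit 2) (nat_lit 1) (nat_lit 0) (nat_lit 16) (nat_lit 1) (nat_lit 0) (nat_lit 4104) (nat_lit 8) (nat_lit 0x10000180000380000980000b8) (nat_lit 0x10000000100000000000000000000000100000001000000) (.cD (nat_lit 24) (.cut (nat_lit 1)) (.cD (nat_lit 56) (.cut (nat_lit 0)) (.cD (nat_lit 152) (.kA false (nat_lit 0x1f00400201000101101100001f004002016002021001000004))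 (.cD (nat_lit 184) (.kA false (nat_lit 0x1d00400201000101101100001d004002016002021001000004)) .nil))))) (.cD (nat_lit 40) (.kA false (nat_lit 0x6002003008001004004000002004008010005003)) (.cD (nat_lit 64) (.kc (nat_lit 96) (nat_lit 0x3001001)) (.cD (nat_lit 72) (.kc (nat_lit 104) (nat_lit 0x7001001)) (.cD (nat_lit 96) (.kA false (nat_lit 0x400300200800100400100300c001004004000003)) (.cD (nat_lit 104) (.kA false (nat_lit 0x2100100000600100300d00107a002000003)) (.cD (nat_lit 128) (.kc (nat_lit 200) (nat_lit 0x9001001)) (.cD (nat_lit 136) (.kc (nat_lit 192) (nat_lit 0xd001001)) (.cD (nat_lit 160) (.kc (nat_lit 128) (nat_lit 0x100202b005000002)) (.cD (nat_lit 168) (.kc (nat_lit 128) (nat_lit 0xc00500f001021001000003)) (.cD (nat_lit 192) (.kc (nat_lit 232) (nat_lit 0xb001001)) (.cD (nat_lit 200) (.kc (nat_lit 224) (nat_lit 0xf001001)) (.cD (nat_lit 224) (.kc (nat_lit 128) (nat_lit 0x1002021001000002)) (.cD (nat_lit 232) (.kc (nat_lit 128) (nat_lit 0x200100f001021001000003)) .nil)))))))))))))))) (.cD (nat_lit 72) (.dfs (nat_lit 64)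 (nat_lit 4100) (nat_lit 4100) (nat_lit 0x1002001) (nat_lit 0x1002001) (nat_lit 0) (nat_lit 0) (nat_lit 3) (nat_lit 0) (nat_lit 0) (nat_lit 0) (nat_lit 1) (nat_lit 0) (nat_lit 1) (nat_lit 0) (nat_lit 1) (nat_lit 0x10100000101000001010000010100000101000001010000010100000100) (.cD (nat_lit 8) (.kc (nat_lit 72) (nat_lit 0x5001001)) (.cD (nat_lit 32) (.kA false (nat_lit 0x6002003008001004004000002004008010005003)) (.cD (nat_lit 40) (.dfs (nat_lit 7) (nat_lit 4102) (nat_lit 4100) (nat_lit 1) (nat_lit 1) (nat_lit 2) (nat_lit 0) (nat_lit 1) (nat_lit 4160) (nat_lit 0x8004002001000800407a021) (nat_lit 0) (nat_lit 1) (nat_lit 0) (nat_lit 1) (nat_lit 0) (nat_lit 1) (nat_lit 0) .nil) (.cD (nat_lit 64) (.kc (nat_lit 104) (nat_lit 0x7001001)) (.cD (nat_lit 72) (.kc (nat_lit 96) (nat_lit 0x3001001)) (.cD (nat_lit 96) (.kA false (nat_lit 0x400300600800100400100300c001004004000003)) (.cD (nat_lit 104) (.kA false (nat_lit 0x2100100000600100300d00107a002000003)) (.cD (nat_lit 128) (.kc (nat_lit 200) (nat_lit 0x9001001)) (.cD (nat_lit 136) (.kc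 (nat_lit 192) (nat_lit 0xd001001)) (.cD (nat_lit 160) (.kc (nat_lit 128) (nat_lit 0x100202b005000002)) (.cD (nat_lit 168) (.kc (nat_lit 128) (nat_lit 0xc005003002021001000003)) (.cD (nat_lit 192) (.kc (nat_lit 224) (nat_lit 0xf001001)) (.cD (nat_lit 200) (.kc (nat_lit 232) (nat_lit 0xb001001)) (.cD (nat_lit 224) (.kc (nat_lit 128) (nat_lit 0x1002021001000002)) (.cD (nat_lit 232) (.kc (nat_lit 128) (nat_lit 0x600100f001021001000003)) .nil)))))))))))))))) (.cD (nat_lit 96) (.kF (nat_lit 8) (nat_lit 0x2100100000100500107a00200000c01600407a002000005)) (.cD (nat_lit 104) (.kF (nat_lit 8) (nat_lit 0x21001000003007001027007000003)) (.cD (nat_lit 128) (.kc (nat_lit 168) (nat_lit 0x5001001)) (.cD (nat_lit 136) (.kc (nat_lit 160) (nat_lit 0x7001001)) (.cD (nat_lit 160) (.kc (nat_lit 128) (nat_lit 0x600307a00200000700102b005000004)) (.cD (nat_lit 168) (.kc (nat_lit 128) (nat_lit 0xc00507a00200000700102b005000004)) (.cD (nat_lit 192) (.kc (nat_lit 128) (nat_lit 0x5001021001000006001003)) (.cD (nat_lit 200) (.kc (nat_lit 128) (nat_lit 0x700102b005000002))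 (.cD (nat_lit 224) (.kc (nat_lit 128) (nat_lit 0xc00507a002000001002021001000004)) (.cD (nat_lit 232) (.kc (nat_lit 128) (nat_lit 0xc00500700102b005000003)) .nil)))))))))))))))) (.cD (nat_lit 32) (.kF (nat_lit 8) (nat_lit 0x35003000001003001002)) (.cD (nat_lit 40) (.kF (nat_lit 8) (nat_lit 0xa01000607a002000001003001003)) (.cD (nat_lit 64) (.dfs (nat_lit 32) (nat_lit 4098) (nat_lit 4098) (nat_lit 4097) (nat_lit 4097) (nat_lit 0) (nat_lit 0) (nat_lit 3) (nat_lit 0) (nat_lit 0) (nat_lit 0) (nat_lit 1) (nat_lit 0) (nat_lit 0x1020010008084) (nat_lit 0x20010008084) (nat_lit 0x10010040020040030040000080020080000200000280020280010840020840030840000880020880000a00000a80020a80010100010700010900010f0) (nat_lit 0x1000001010000011100000000000000010000010100000110) (.cD (nat_lit 4) (.kF (nat_lit 32) (nat_lit 0x7a002000001006001002)) (.cD (nat_lit 8) (.dfs (nat_lit 64) (nat_lit 4100) (nat_lit 4100) (nat_lit 0x1002001) (nat_lit 0x1002001) (nat_lit 0) (nat_lit 0) (nat_lit 3) (nat_lit 0) (nat_lit 0) (nat_lit 0) (nat_lit 1) (nat_lit 0) (nat_lit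 1) (nat_lit 0) (nat_lit 1) (nat_lit 0x10100000101000001010000010100000101000001010000010100000100) (.cD (nat_lit 8) (.kc (nat_lit 96) (nat_lit 0x3001001)) (.cD (nat_lit 32) (.kA false (nat_lit 0x300400500c00207a002000002)) (.cD (nat_lit 40) (.kA false (nat_lit 0x100400700c00207a002000002)) (.cD (nat_lit 64) (.kc (nat_lit 72) (nat_lit 0x5001001)) (.cD (nat_lit 72) (.kc (nat_lit 104) (nat_lit 0x7001001)) (.cD (nat_lit 96) (.kA false (nat_lit 0x700400100c00207a002000002)) (.cD (nat_lit 104) (.dfs (nat_lit 7) (nat_lit 4100) (nat_lit 4102) (nat_lit 1) (nat_lit 1) (nat_lit 2) (nat_lit 0) (nat_lit 1) (nat_lit 4160) (nat_lit 0x8004002001000800407a021) (nat_lit 0) (nat_lit 1) (nat_lit 0) (nat_lit 1) (nat_lit 0) (nat_lit 1) (nat_lit 0) .nil) (.cD (nat_lit 128) (.kc (nat_lit 200) (nat_lit 0x9001001)) (.cD (nat_lit 136) (.kc (nat_lit 232) (nat_lit 0xb001001)) (.cD (nat_lit 160) (.kc (nat_lit 128) (nat_lit 0x100202b005000002)) (.cD (nat_lit 168) (.kc (nat_lit 128) (nat_lit 0xc00500f001021001000003)) (.cD (nat_lit 192) (.kc (nat_lit 192)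 (nat_lit 0xd001001)) (.cD (nat_lit 200) (.kc (nat_lit 224) (nat_lit 0xf001001)) (.cD (nat_lit 224) (.kc (nat_lit 128) (nat_lit 0x1002021001000002)) (.cD (nat_lit 232) (.kc (nat_lit 128) (nat_lit 0xc005003002021001000003)) .nil)))))))))))))))) (.cD (nat_lit 32) (.kF (nat_lit 8) (nat_lit 0x21001000003007001027007000003)) (.cD (nat_lit 40) (.kF (nat_lit 32) (nat_lit 0x7a002000001006001002)) (.cD (nat_lit 64) (.kc (nat_lit 40) (nat_lit 0x3001001)) (.cD (nat_lit 128) (.kc (nat_lit 168) (nat_lit 0x5001001)) (.cD (nat_lit 132) (.kF (nat_lit 32) (nat_lit 0x7a002000001006001002)) (.cD (nat_lit 136) (.kc (nat_lit 128) (nat_lit 0x2001005001021001000004002004)) (.cD (nat_lit 160) (.kc (nat_lit 128) (nat_lit 0xc00500700102b005000003)) (.cD (nat_lit 168) (.kc (nat_lit 128) (nat_lit 0x400407a00200000700102b005000004)) (.cD (nat_lit 192) (.kc (nat_lit 160) (nat_lit 0x7001001)) .nil)))))))))))) (.cD (nat_lit 128) (.kc (nat_lit 128) (nat_lit 0x3001001)) (.cD (nat_lit 132) (.kF (nat_lit 8) (nat_lit 0x100200107a00200000e01a00607a002000004)) (.cD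 (nat_lit 136) (.kc (nat_lit 128) (nat_lit 0x4004004004000003001003)) (.cD (nat_lit 160) (.kc (nat_lit 128) (nat_lit 0xc00507a002000003001003)) (.cD (nat_lit 168) (.kc (nat_lit 128) (nat_lit 0x600307a002000003001003)) (.cD (nat_lit 192) (.kc (nat_lit 128) (nat_lit 0x3001001)) .nil))))))))))))))
theorem c30 : (chk [(x4, s16), (x4, s29)] [] p30).n x4 s30 = true := by decide +kernel
noncomputable def p31 : Pf := (.ext (nat_lit 0) (nat_lit 0) (nat_lit 0x1080020040010) (nat_lit 0x1002004008003001) (nat_lit 0x2003004008) (nat_lit 4111) (nat_lit 4111) (nat_lit 0xc004002001) (.dfs (nat_lit 15) (nat_lit 0x1002003004008) (nat_lit 0x100200300400c) (nat_lit 4097) (nat_lit 4097) (nat_lit 0) (nat_lit 0) (nat_lit 2) (nat_lit 0) (nat_lit 0) (nat_lit 15) (nat_lit 1) (nat_lit 0) (nat_lit 4224) (nat_lit 128) (nat_lit 0x100000f00001f00004f00005f) (nat_lit 0x800080000000000080008000) (.cD (nat_lit 15) (.cut (nat_lit 0)) (.cD (nat_lit 31) (.kS (nat_lit 0) (nat_lit 0x2006008010002008008000002) (nat_lit 4207) (nat_lit 0x8004002003) (nat_lit 0x800800000200400801000100100800800000200600801000d001004))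 (.cD (nat_lit 79) (.kS (nat_lit 0) (nat_lit 0x2006008010002008008000002) (nat_lit 4223) (nat_lit 0x8004002003) (nat_lit 0x800800000200400801000100100800800000200600801000f001004)) (.cD (nat_lit 95) (.iso x4 s30 (nat_lit 0) (nat_lit 0x1080040020010008004002041) (nat_lit 0x80040020010008004002041) [(nat_lit 0x10008004002005001001), (nat_lit 0x10008004002001003001)] (.cut (nat_lit 0))) .nil))))))
theorem c31 : (chk [(x4, s30)] [g587] p31).n x4 s31 = true := by decide +kernel
noncomputable def p32 : Pf := (.anc (nat_lit 136) (nat_lit 0x10002004004000002) (nat_lit 0x1007040020008) (.czp (nat_lit 128) (nat_lit 0) (nat_lit 0x1080040020010008004) z1 (.dfs (nat_lit 8) (nat_lit 4097) (nat_lit 4097) (nat_lit 1) (nat_lit 1) (nat_lit 0) (nat_lit 0) (nat_lit 3) (nat_lit 0) (nat_lit 0) (nat_lit 0) (nat_lit 1) (nat_lit 0) (nat_lit 0x1020010008004) (nat_lit 0x20010008004) (nat_lit 0x10010040020040030040000080020080000200000280020280010840020840030840000880020880000a00000a80020a80010100010700010900010f0) (nat_lit 0x1000001010000011100000000000000010000010100000110)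 (.cD (nat_lit 4) (.kF (nat_lit 8) (nat_lit 0x100200107a00200000e01a00407a002000004)) (.cD (nat_lit 8) (.dfs (nat_lit 32) (nat_lit 4098) (nat_lit 4098) (nat_lit 4097) (nat_lit 4097) (nat_lit 0) (nat_lit 0) (nat_lit 3) (nat_lit 0) (nat_lit 0) (nat_lit 0) (nat_lit 1) (nat_lit 0) (nat_lit 1) (nat_lit 0) (nat_lit 1) (nat_lit 0x10100000101000001010000010100000101000001010000010100000100) (.cD (nat_lit 8) (.kc (nat_lit 40) (nat_lit 0x3001001)) (.cD (nat_lit 32) (.kF (nat_lit 32) (nat_lit 0x4010004004004000001006001003)) (.cD (nat_lit 40) (.kF (nat_lit 32) (nat_lit 0x2010004004004000001006001003)) (.cD (nat_lit 64) (.dfs (nat_lit 64) (nat_lit 4100) (nat_lit 4100) (nat_lit 0x1002001) (nat_lit 0x1002001) (nat_lit 0) (nat_lit 0) (nat_lit 3) (nat_lit 0) (nat_lit 0) (nat_lit 0) (nat_lit 1) (nat_lit 0) (nat_lit 1) (nat_lit 0) (nat_lit 1) (nat_lit 0x10100000101000001010000010100000101000001010000010100000100) (.cD (nat_lit 8) (.kc (nat_lit 72) (nat_lit 0x5001001)) (.cD (nat_lit 32) (.dfs (nat_lit 7) (nat_lit 0x1004002003008) (nat_lit 0x1006002003008)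 (nat_lit 4097) (nat_lit 4097) (nat_lit 3) (nat_lit 0) (nat_lit 2) (nat_lit 1) (nat_lit 0) (nat_lit 16) (nat_lit 1) (nat_lit 0) (nat_lit 1) (nat_lit 0) (nat_lit 1) (nat_lit 0) .nil) (.cD (nat_lit 40) (.kA false (nat_lit 0x6002003008001004004000002004008010003003)) (.cD (nat_lit 64) (.kc (nat_lit 96) (nat_lit 0x3001001)) (.cD (nat_lit 72) (.kc (nat_lit 104) (nat_lit 0x7001001)) (.cD (nat_lit 96) (.kA false (nat_lit 0x400300200800100400100300c001004004000003)) (.cD (nat_lit 104) (.kA false (nat_lit 0x6100100000600100300d00107a002000003)) (.cD (nat_lit 128) (.kc (nat_lit 200) (nat_lit 0x9001001)) (.cD (nat_lit 136) (.kc (nat_lit 192) (nat_lit 0xd001001)) (.cD (nat_lit 160) (.kc (nat_lit 128) (nat_lit 0x100206b005000002)) (.cD (nat_lit 168) (.kc (nat_lit 128) (nat_lit 0xc00300f001061001000003)) (.cD (nat_lit 192) (.kc (nat_lit 232) (nat_lit 0xb001001)) (.cD (nat_lit 200) (.kc (nat_lit 224) (nat_lit 0xf001001)) (.cD (nat_lit 224) (.kc (nat_lit 128) (nat_lit 0x1002061001000002)) (.cD (nat_lit 232) (.kc (nat_lit 128) (nat_lit 0x200100f001061001000003))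 .nil)))))))))))))))) (.cD (nat_lit 72) (.dfs (nat_lit 64) (nat_lit 4100) (nat_lit 4100) (nat_lit 0x1002001) (nat_lit 0x1002001) (nat_lit 0) (nat_lit 0) (nat_lit 3) (nat_lit 0) (nat_lit 0) (nat_lit 0) (nat_lit 1) (nat_lit 0) (nat_lit 1) (nat_lit 0) (nat_lit 1) (nat_lit 0x10100000101000001010000010100000101000001010000010100000100) (.cD (nat_lit 8) (.kc (nat_lit 72) (nat_lit 0x5001001)) (.cD (nat_lit 32) (.kA false (nat_lit 0x6002003008001004004000002004008010003003)) (.cD (nat_lit 40) (.dfs (nat_lit 7) (nat_lit 4102) (nat_lit 4100) (nat_lit 1) (nat_lit 1) (nat_lit 3) (nat_lit 0) (nat_lit 1) (nat_lit 4160) (nat_lit 0x8004002001000800407a061) (nat_lit 0) (nat_lit 1) (nat_lit 0) (nat_lit 1) (nat_lit 0) (nat_lit 1) (nat_lit 0) .nil) (.cD (nat_lit 64) (.kc (nat_lit 104) (nat_lit 0x7001001)) (.cD (nat_lit 72) (.kc (nat_lit 96) (nat_lit 0x3001001)) (.cD (nat_lit 96) (.kA false (nat_lit 0x400300600800100400100300c001004004000003)) (.cD (nat_lit 104) (.kA false (nat_lit 0x6100100000600100300d00107a002000003)) (.cD (nat_lit 128) (.kc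 (nat_lit 200) (nat_lit 0x9001001)) (.cD (nat_lit 136) (.kc (nat_lit 192) (nat_lit 0xd001001)) (.cD (nat_lit 160) (.kc (nat_lit 128) (nat_lit 0x100206b005000002)) (.cD (nat_lit 168) (.kc (nat_lit 128) (nat_lit 0xc003003002061001000003)) (.cD (nat_lit 192) (.kc (nat_lit 224) (nat_lit 0xf001001)) (.cD (nat_lit 200) (.kc (nat_lit 232) (nat_lit 0xb001001)) (.cD (nat_lit 224) (.kc (nat_lit 128) (nat_lit 0x1002061001000002)) (.cD (nat_lit 232) (.kc (nat_lit 128) (nat_lit 0x600100f001061001000003)) .nil)))))))))))))))) (.cD (nat_lit 96) (.kF (nat_lit 8) (nat_lit 0x6100100000100500107a00200000600d00607a002000005)) (.cD (nat_lit 104) (.kF (nat_lit 8) (nat_lit 0x61001000003007001067007000003)) (.cD (nat_lit 128) (.kc (nat_lit 168) (nat_lit 0x5001001)) (.cD (nat_lit 136) (.kc (nat_lit 160) (nat_lit 0x7001001)) (.cD (nat_lit 160) (.kc (nat_lit 128) (nat_lit 0xc00507a00200000700106b005000004)) (.cD (nat_lit 168) (.kc (nat_lit 128) (nat_lit 0xc00307a00200000700106b005000004)) (.cD (nat_lit 192) (.kc (nat_lit 128) (nat_lit 0x5001061001000006001003))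 (.cD (nat_lit 200) (.kc (nat_lit 128) (nat_lit 0x700106b005000002)) (.cD (nat_lit 224) (.kc (nat_lit 128) (nat_lit 0xc00307a002000001002061001000004)) (.cD (nat_lit 232) (.kc (nat_lit 128) (nat_lit 0xc00300700106b005000003)) .nil)))))))))))))))) (.cD (nat_lit 32) (.kF (nat_lit 8) (nat_lit 0x75003000001003001002)) (.cD (nat_lit 40) (.kF (nat_lit 8) (nat_lit 0xa01000407a002000001003001003)) (.cD (nat_lit 64) (.dfs (nat_lit 32) (nat_lit 4098) (nat_lit 4098) (nat_lit 4097) (nat_lit 4097) (nat_lit 0) (nat_lit 0) (nat_lit 3) (nat_lit 0) (nat_lit 0) (nat_lit 0) (nat_lit 1) (nat_lit 0) (nat_lit 0x1020010008084) (nat_lit 0x20010008084) (nat_lit 0x10010040020040030040000080020080000200000280020280010840020840030840000880020880000a00000a80020a80010100010700010900010f0) (nat_lit 0x1000001010000011100000000000000010000010100000110) (.cD (nat_lit 4) (.kF (nat_lit 32) (nat_lit 0x7a002000001006001002)) (.cD (nat_lit 8) (.dfs (nat_lit 64) (nat_lit 4100) (nat_lit 4100) (nat_lit 0x1002001) (nat_lit 0x1002001) (nat_lit 0) (nat_lit 0) (nat_lit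 3) (nat_lit 0) (nat_lit 0) (nat_lit 0) (nat_lit 1) (nat_lit 0) (nat_lit 1) (nat_lit 0) (nat_lit 1) (nat_lit 0x10100000101000001010000010100000101000001010000010100000100) (.cD (nat_lit 8) (.kc (nat_lit 96) (nat_lit 0x3001001)) (.cD (nat_lit 32) (.kA false (nat_lit 0x300400500c00207a002000002)) (.cD (nat_lit 40) (.kA false (nat_lit 0x100400700c00207a002000002)) (.cD (nat_lit 64) (.kc (nat_lit 72) (nat_lit 0x5001001)) (.cD (nat_lit 72) (.kc (nat_lit 104) (nat_lit 0x7001001)) (.cD (nat_lit 96) (.kA false (nat_lit 0x700400100c00207a002000002)) (.cD (nat_lit 104) (.dfs (nat_lit 7) (nat_lit 4100) (nat_lit 4102) (nat_lit 1) (nat_lit 1) (nat_lit 3) (nat_lit 0) (nat_lit 1) (nat_lit 4160) (nat_lit 0x8004002001000800407a061) (nat_lit 0) (nat_lit 1) (nat_lit 0) (nat_lit 1) (nat_lit 0) (nat_lit 1) (nat_lit 0) .nil) (.cD (nat_lit 128) (.kc (nat_lit 200) (nat_lit 0x9001001)) (.cD (nat_lit 136) (.kc (nat_lit 232) (nat_lit 0xb001001)) (.cD (nat_lit 160) (.kc (nat_lit 128) (nat_lit 0x100206b005000002)) (.cD (nat_lit 168) (.kc (nat_lit 128) (nat_lit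 0xc00300f001061001000003)) (.cD (nat_lit 192) (.kc (nat_lit 192) (nat_lit 0xd001001)) (.cD (nat_lit 200) (.kc (nat_lit 224) (nat_lit 0xf001001)) (.cD (nat_lit 224) (.kc (nat_lit 128) (nat_lit 0x1002061001000002)) (.cD (nat_lit 232) (.kc (nat_lit 128) (nat_lit 0xc003003002061001000003)) .nil)))))))))))))))) (.cD (nat_lit 32) (.kF (nat_lit 8) (nat_lit 0x61001000003007001067007000003)) (.cD (nat_lit 40) (.kF (nat_lit 32) (nat_lit 0x7a002000001006001002)) (.cD (nat_lit 64) (.kc (nat_lit 40) (nat_lit 0x3001001)) (.cD (nat_lit 128) (.kc (nat_lit 168) (nat_lit 0x5001001)) (.cD (nat_lit 132) (.kF (nat_lit 32) (nat_lit 0x7a002000001006001002)) (.cD (nat_lit 136) (.kc (nat_lit 128) (nat_lit 0x2001005001061001000004002004)) (.cD (nat_lit 160) (.kc (nat_lit 128) (nat_lit 0xc00300700106b005000003)) (.cD (nat_lit 168) (.kc (nat_lit 128) (nat_lit 0x400607a00200000700106b005000004)) (.cD (nat_lit 192) (.kc (nat_lit 160) (nat_lit 0x7001001)) .nil)))))))))))) (.cD (nat_lit 128) (.kc (nat_lit 128) (nat_lit 0x3001001)) (.cD (nat_lit 132) (.kF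 (nat_lit 8) (nat_lit 0x100200107a00200000e01a00407a002000004)) (.cD (nat_lit 136) (.kc (nat_lit 128) (nat_lit 0x4006004004000003001003)) (.cD (nat_lit 160) (.kc (nat_lit 128) (nat_lit 0xc00307a002000003001003)) (.cD (nat_lit 168) (.kc (nat_lit 128) (nat_lit 0xc00507a002000003001003)) (.cD (nat_lit 192) (.kc (nat_lit 128) (nat_lit 0x3001001)) .nil))))))))))))))
theorem c32 : (chk [] [] p32).n x13 s32 = true := by decide +kernel
noncomputable def p33 : Pf := (.lft (nat_lit 0x4001002000800200f001001001) (nat_lit 16) (nat_lit 0x1060040) (nat_lit 0x4002001000800400203d) (.extn a491 (nat_lit 0x40020010008004002001) (nat_lit 0x1008020010040) (nat_lit 2) (nat_lit 0) (nat_lit 0) (nat_lit 0) (nat_lit 0x1000000010000) (.cE (nat_lit 16) b587 (nat_lit 0) (.cut (nat_lit 0)) .nil (.cE (nat_lit 48) b602 (nat_lit 0) (.cut (nat_lit 1)) .nil .nil))))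
theorem c33 : (chk [(x4, s31), (x13, s32)] [] p33).n x1 s33 = true := by decide +kernel
noncomputable def p34 : Pf := (.ext (nat_lit 0) (nat_lit 0) (nat_lit 0x1040010020008003004) (nat_lit 0x20010008004001013001001) (nat_lit 0x14008010038) (nat_lit 4097) (nat_lit 4102) (nat_lit 0x2801800801101f014) (.dfs (nat_lit 1) (nat_lit 0x1014008010038) (nat_lit 0x1009008018038) (nat_lit 0x1020004002001) (nat_lit 0x102801101f014) (nat_lit 21) (nat_lit 0) (nat_lit 2) (nat_lit 0) (nat_lit 0) (nat_lit 2) (nat_lit 1) (nat_lit 0) (nat_lit 4112) (nat_lit 16) (nat_lit 0x1000006) (nat_lit 64) (.cD (nat_lit 6) (.cut (nat_lit 0)) .nil)))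
theorem c34 : (chk [(x1, s33)] [] p34).n x1 s34 = true := by decide +kernel
noncomputable def p35 : Pf := (.ext (nat_lit 0) (nat_lit 0) (nat_lit 0x1040010020008007) (nat_lit 0x1200800c00e003001010008004002001001002) (nat_lit 0xa00400801c) (nat_lit 4099) (nat_lit 4099) (nat_lit 0x1400800400e00d) (.dfs (nat_lit 3) (nat_lit 0x100a00400801c) (nat_lit 0x1006004008018) (nat_lit 0x1010002001) (nat_lit 0x101400e00d) (nat_lit 8) (nat_lit 0) (nat_lit 2) (nat_lit 0) (nat_lit 0) (nat_lit 3) (nat_lit 1) (nat_lit 0) (nat_lit 1) (nat_lit 0) (nat_lit 1) (nat_lit 0x8000800080008) (.cD (nat_lit 3) (.kA false (nat_lit 0x1b00801803800103d001000004008010020001003)) (.cD (nat_lit 19) (.cut (nat_lit 1)) (.cD (nat_lit 35) (.kA false (nat_lit 0x1b00801803800103d001000004008010020001003)) (.cD (nat_lit 51) (.cut (nat_lit 0)) .nil))))))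
theorem c35 : (chk [(x1, s2), (x1, s34)] [] p35).n x1 s35 = true := by decide +kernel
noncomputable def p36 : Pf := (.ext (nat_lit 0) (nat_lit 0) (nat_lit 0x1040010020008) (nat_lit 0x500200e00a001013003000001002004008001003) (nat_lit 0x300600400b) (nat_lit 4103) (nat_lit 4103) (nat_lit 0xa004002005) (.dfs (nat_lit 7) (nat_lit 0x100300600400b) (nat_lit 0x100700600400d) (nat_lit 0x1008002001) (nat_lit 0x100a002005) (nat_lit 2) (nat_lit 0) (nat_lit 2) (nat_lit 0) (nat_lit 0) (nat_lit 7) (nat_lit 1) (nat_lit 0) (nat_lit 0x1040008) (nat_lit 0x40008) (nat_lit 0x100000f00100f00101f) (nat_lit 32768) (.cD (nat_lit 15) (.cut (nat_lit 0)) .nil)))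
theorem c36 : (chk [(x1, s35)] [] p36).n x1 s36 = true := by decide +kernel
noncomputable def p37 : Pf := (.anc (nat_lit 16) (nat_lit 0x1600100c001002002000003) (nat_lit 0x1001004040020008) (.dfs (nat_lit 8) (nat_lit 1) (nat_lit 1) (nat_lit 4097) (nat_lit 4097) (nat_lit 0) (nat_lit 0) (nat_lit 0) (nat_lit 0) (nat_lit 0) (nat_lit 0) (nat_lit 1) (nat_lit 0) (nat_lit 0x1010008004002) (nat_lit 0x10008004002) (nat_lit 0x1001002002002003002000004002004000010000014002014001042002042003042000044002044000050000054002054001008001038001048001078) (nat_lit 0x1001100150000000100110014) (.cD (nat_lit 2) (.kc (nat_lit 64) (nat_lit 0x400600100201500500000300100a00406d001000006)) (.cD (nat_lit 4) (.czs (nat_lit 4) z5 (nat_lit 16) (.dfs (nat_lit 32) (nat_lit 4097) (nat_lit 4097) (nat_lit 4098) (nat_lit 4098) (nat_lit 0) (nat_lit 0) (nat_lit 3) (nat_lit 0) (nat_lit 0) (nat_lit 0) (nat_lit 1) (nat_lit 0) (nat_lit 1) (nat_lit 0) (nat_lit 1) (nat_lit 0x110011001100110011001100110010) (.cD (nat_lit 4) (.kc (nat_lit 40) (nat_lit 0x3001001)) (.cD (nat_lit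 16) (.kc (nat_lit 64) (nat_lit 0x1002004002002)) (.cD (nat_lit 20) (.kc (nat_lit 64) (nat_lit 0xc005003002004002003)) (.cD (nat_lit 32) (.dfs (nat_lit 64) (nat_lit 4098) (nat_lit 4098) (nat_lit 0x1004001) (nat_lit 0x1004001) (nat_lit 0) (nat_lit 0) (nat_lit 3) (nat_lit 0) (nat_lit 0) (nat_lit 0) (nat_lit 1) (nat_lit 0) (nat_lit 1) (nat_lit 0) (nat_lit 1) (nat_lit 0x110011001100110011001100110010) (.cD (nat_lit 4) (.kc (nat_lit 72) (nat_lit 0x5001001)) (.cD (nat_lit 16) (.kA false (nat_lit 0xd00200300800106d001000004002008001001003)) (.cD (nat_lit 20) (.kA false (nat_lit 0x1e01c00a01000406d001000004002008001001003)) (.cD (nat_lit 32) (.kc (nat_lit 96) (nat_lit 0x3001001)) (.cD (nat_lit 36) (.kc (nat_lit 104) (nat_lit 0x7001001)) (.cD (nat_lit 48) (.dfs (nat_lit 4) (nat_lit 0x1004002001008) (nat_lit 0x1006002001008) (nat_lit 1) (nat_lit 1) (nat_lit 0) (nat_lit 0) (nat_lit 2) (nat_lit 1) (nat_lit 0) (nat_lit 8) (nat_lit 1) (nat_lit 0) (nat_lit 4100) (nat_lit 4) (nat_lit 0x1000008000018000048000058) (nat_lit 0x10001000000000001000100)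 (.cD (nat_lit 8) (.kA false (nat_lit 0x1e00400201000101300401000600106d001000003)) (.cD (nat_lit 24) (.kc (nat_lit 64) (nat_lit 0xc005003001002002000010003004)) (.cD (nat_lit 72) (.kc (nat_lit 64) (nat_lit 0xc00501500106d001000010003004)) (.cD (nat_lit 88) (.dfs (nat_lit 1) (nat_lit 0x1017004006010) (nat_lit 0x1008004002010) (nat_lit 0x1008002001) (nat_lit 0x101300601a) (nat_lit 11) (nat_lit 0) (nat_lit 2) (nat_lit 0) (nat_lit 0) (nat_lit 2) (nat_lit 1) (nat_lit 0) (nat_lit 1) (nat_lit 0) (nat_lit 1) (nat_lit 0) .nil) .nil))))) (.cD (nat_lit 52) (.kA false (nat_lit 0x1a00401401600306d001000004002008001001003)) (.cD (nat_lit 64) (.kc (nat_lit 80) (nat_lit 0x9001001)) (.cD (nat_lit 68) (.kc (nat_lit 88) (nat_lit 0xd001001)) (.cD (nat_lit 80) (.kc (nat_lit 64) (nat_lit 0x1c00300300106d001000003)) (.cD (nat_lit 84) (.kc (nat_lit 64) (nat_lit 0xc00506d001000001001003)) (.cD (nat_lit 96) (.kc (nat_lit 112) (nat_lit 0xb001001)) (.cD (nat_lit 100) (.kc (nat_lit 120) (nat_lit 0xf001001)) (.cD (nat_lit 112) (.kc (nat_lit 64) (nat_lit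 0x1c003001001002)) (.cD (nat_lit 116) (.kc (nat_lit 64) (nat_lit 0x400606d001000001001003)) .nil)))))))))))))))) (.cD (nat_lit 36) (.dfs (nat_lit 64) (nat_lit 4098) (nat_lit 4098) (nat_lit 0x1004001) (nat_lit 0x1004001) (nat_lit 0) (nat_lit 0) (nat_lit 3) (nat_lit 0) (nat_lit 0) (nat_lit 0) (nat_lit 1) (nat_lit 0) (nat_lit 1) (nat_lit 0) (nat_lit 1) (nat_lit 0x110011001100110011001100110010) (.cD (nat_lit 4) (.kc (nat_lit 72) (nat_lit 0x5001001)) (.cD (nat_lit 16) (.kA false (nat_lit 0xd00f00300800106d001000004002008001001003)) (.cD (nat_lit 20) (.kA false (nat_lit 0x1e00200a01000406d001000004002008001001003)) (.cD (nat_lit 32) (.kc (nat_lit 104) (nat_lit 0x7001001)) (.cD (nat_lit 36) (.kc (nat_lit 96) (nat_lit 0x3001001)) (.cD (nat_lit 48) (.dfs (nat_lit 4) (nat_lit 4102) (nat_lit 4100) (nat_lit 1) (nat_lit 1) (nat_lit 0) (nat_lit 0) (nat_lit 1) (nat_lit 4128) (nat_lit 0x4002001000800400206d) (nat_lit 0) (nat_lit 1) (nat_lit 0) (nat_lit 1) (nat_lit 0) (nat_lit 1) (nat_lit 0) .nil) (.cD (nat_lit 52) (.kA false (nat_lit 0x1a01e01401600306d001000004002008001001003))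 (.cD (nat_lit 64) (.kc (nat_lit 80) (nat_lit 0x9001001)) (.cD (nat_lit 68) (.kc (nat_lit 88) (nat_lit 0xd001001)) (.cD (nat_lit 80) (.kc (nat_lit 64) (nat_lit 0x1c00306d001000001001003)) (.cD (nat_lit 84) (.kc (nat_lit 64) (nat_lit 0x1c00300300106d001000003)) (.cD (nat_lit 96) (.kc (nat_lit 120) (nat_lit 0xf001001)) (.cD (nat_lit 100) (.kc (nat_lit 112) (nat_lit 0xb001001)) (.cD (nat_lit 112) (.kc (nat_lit 64) (nat_lit 0x1c003001001002)) (.cD (nat_lit 116) (.kc (nat_lit 64) (nat_lit 0x400606d001000001001003)) .nil)))))))))))))))) (.cD (nat_lit 48) (.kc (nat_lit 64) (nat_lit 0x1002002002000004002003)) (.cD (nat_lit 52) (.kc (nat_lit 64) (nat_lit 0x100206d001000010003003)) (.cD (nat_lit 64) (.kc (nat_lit 48) (nat_lit 0x5001001)) (.cD (nat_lit 68) (.kc (nat_lit 56) (nat_lit 0x7001001)) (.cD (nat_lit 80) (.kF (nat_lit 4) (nat_lit 0x3004001004004000002004002003)) (.cD (nat_lit 84) (.kF (nat_lit 4) (nat_lit 0x3004001004004000002004002003)) (.cD (nat_lit 96) (.kc (nat_lit 64) (nat_lit 0x100206d001000002)) (.cD (nat_lit 100) (.kc (nat_lit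 64) (nat_lit 0xc00500300206d001000003)) (.cD (nat_lit 112) (.kF (nat_lit 4) (nat_lit 0x3004001004004000002004002003)) (.cD (nat_lit 116) (.kF (nat_lit 4) (nat_lit 0x3004001004004000002004002003)) .nil))))))))))))))))) (.cD (nat_lit 16) (.kc (nat_lit 64) (nat_lit 0x4006001002002002003)) (.cD (nat_lit 20) (.kc (nat_lit 64) (nat_lit 0x400600100206d001000016004004)) (.cD (nat_lit 32) (.dfs (nat_lit 32) (nat_lit 1) (nat_lit 1) (nat_lit 0x1002001) (nat_lit 0x1002001) (nat_lit 0) (nat_lit 0) (nat_lit 0) (nat_lit 0) (nat_lit 0) (nat_lit 0) (nat_lit 1) (nat_lit 0) (nat_lit 0x1010008004002) (nat_lit 0x10008004002) (nat_lit 0x1001002002002003002000004002004000010000014002014001042002042003042000044002044000050000054002054001008001038001048001078) (nat_lit 0x1001100150000000100110014) (.cD (nat_lit 2) (.kc (nat_lit 64) (nat_lit 0x100203900900000700101400306d001000005)) (.cD (nat_lit 4) (.czs (nat_lit 4) z5 (nat_lit 16) (.dfs (nat_lit 64) (nat_lit 4097) (nat_lit 4097) (nat_lit 0x1004002) (nat_lit 0x1004002) (nat_lit 0) (nat_lit 0) (nat_lit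 3) (nat_lit 0) (nat_lit 0) (nat_lit 0) (nat_lit 1) (nat_lit 0) (nat_lit 1) (nat_lit 0) (nat_lit 1) (nat_lit 0x110011001100110011001100110010) (.cD (nat_lit 4) (.kc (nat_lit 96) (nat_lit 0x3001001)) (.cD (nat_lit 16) (.kA false (nat_lit 0x200d00300800106d001000004002008001001003)) (.cD (nat_lit 20) (.kA false (nat_lit 0x1c01e00a01000406d001000004002008001001003)) (.cD (nat_lit 32) (.kc (nat_lit 72) (nat_lit 0x5001001)) (.cD (nat_lit 36) (.kc (nat_lit 104) (nat_lit 0x7001001)) (.cD (nat_lit 48) (.dfs (nat_lit 4) (nat_lit 4100) (nat_lit 4102) (nat_lit 1) (nat_lit 1) (nat_lit 0) (nat_lit 0) (nat_lit 1) (nat_lit 4128) (nat_lit 0x4002001000800400206d) (nat_lit 0) (nat_lit 1) (nat_lit 0) (nat_lit 1) (nat_lit 0) (nat_lit 1) (nat_lit 0) .nil) (.cD (nat_lit 52) (.kA false (nat_lit 0x401a01401600306d001000004002008001001003)) (.cD (nat_lit 64) (.kc (nat_lit 80) (nat_lit 0x9001001)) (.cD (nat_lit 68) (.kc (nat_lit 112) (nat_lit 0xb001001)) (.cD (nat_lit 80) (.kc (nat_lit 64) (nat_lit 0x1c00306d001000001001003)) (.cD (nat_lit 84) (.kc (nat_lit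 64) (nat_lit 0xc00506d001000001001003)) (.cD (nat_lit 96) (.kc (nat_lit 88) (nat_lit 0xd001001)) (.cD (nat_lit 100) (.kc (nat_lit 120) (nat_lit 0xf001001)) (.cD (nat_lit 112) (.kc (nat_lit 64) (nat_lit 0x1c003001001002)) (.cD (nat_lit 116) (.kc (nat_lit 64) (nat_lit 0x1c00300300106d001000003)) .nil))))))))))))))))) (.cD (nat_lit 16) (.kc (nat_lit 64) (nat_lit 0x1002004002002)) (.cD (nat_lit 20) (.kc (nat_lit 64) (nat_lit 0x100206d001000016004003)) (.cD (nat_lit 32) (.kc (nat_lit 40) (nat_lit 0x3001001)) (.cD (nat_lit 64) (.kc (nat_lit 48) (nat_lit 0x5001001)) (.cD (nat_lit 66) (.kc (nat_lit 64) (nat_lit 0x100201500500000700101400306d001000005)) (.cD (nat_lit 68) (.kc (nat_lit 64) (nat_lit 0x1002002002000010003003)) (.cD (nat_lit 80) (.kF (nat_lit 32) (nat_lit 0x3004001004004000002004002003)) (.cD (nat_lit 84) (.kF (nat_lit 32) (nat_lit 0x3004001004004000002004002003)) (.cD (nat_lit 96) (.kc (nat_lit 56) (nat_lit 0x7001001)) .nil)))))))))))) (.cD (nat_lit 64) (.kc (nat_lit 24) (nat_lit 0x3001001)) (.cD (nat_lit 66) (.kc (nat_lit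 64) (nat_lit 0x400600100203900900000300100a00406d001000006)) (.cD (nat_lit 68) (.kc (nat_lit 64) (nat_lit 0x4006001002002002000010003004)) (.cD (nat_lit 80) (.kF (nat_lit 80) (nat_lit 0x6d00100001e00a003002008003001002002004)) (.cD (nat_lit 84) (.kF (nat_lit 84) (nat_lit 0x6d00100001e00a003002008003001002002004)) (.cD (nat_lit 96) (.kc (nat_lit 64) (nat_lit 0x400600100206d001000003)) .nil)))))))))))))
theorem c37 : (chk [] [] p37).n x14 s37 = true := by decide +kernel
noncomputable def p38 : Pf := (.ext (nat_lit 0) (nat_lit 0) (nat_lit 0x1040010020008) (nat_lit 0x500600f00b001003003000001002004008001003) (nat_lit 0x300e00700b) (nat_lit 4103) (nat_lit 4103) (nat_lit 0xa00600200d) (.dfs (nat_lit 7) (nat_lit 0x100300e00700b) (nat_lit 0x100f00e009005) (nat_lit 0x1008004002001) (nat_lit 0x100a00600200d) (nat_lit 14) (nat_lit 0) (nat_lit 2) (nat_lit 0) (nat_lit 0) (nat_lit 7) (nat_lit 1) (nat_lit 0) (nat_lit 0x1010008) (nat_lit 65544) (nat_lit 0x100000f00100f00105f) (nat_lit 32768) (.cD (nat_lit 15) (.cut (nat_lit 0)) .nil)))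
theorem c38 : (chk [(x14, s37)] [] p38).n x14 s38 = true := by decide +kernel
noncomputable def p39 : Pf := (.ext (nat_lit 0) (nat_lit 0) (nat_lit 0x1040010020008) (nat_lit 0xd00e004008002073003000001002004008001003) (nat_lit 0x100200700b) (nat_lit 0x1004003) (nat_lit 0x1007003) (nat_lit 0x800400200300a006002001) (.dfs (nat_lit 3) (nat_lit 0x100100200700b) (nat_lit 0x1001002005009) (nat_lit 0x1008004) (nat_lit 0x100a006) (nat_lit 14) (nat_lit 0) (nat_lit 2) (nat_lit 0) (nat_lit 0) (nat_lit 3) (nat_lit 1) (nat_lit 0) (nat_lit 4112) (nat_lit 16) (nat_lit 0x100000300000b00005300005b) (nat_lit 0x80800000000000000000808) (.cD (nat_lit 3) (.dfs (nat_lit 4) (nat_lit 0x100200400e016) (nat_lit 0x100600400a012) (nat_lit 0x1010008001) (nat_lit 0x1010008005) (nat_lit 0) (nat_lit 0) (nat_lit 2) (nat_lit 0) (nat_lit 0) (nat_lit 7) (nat_lit 1) (nat_lit 0) (nat_lit 1) (nat_lit 0) (nat_lit 1) (nat_lit 0) .nil) (.cD (nat_lit 11) (.dfs (nat_lit 4) (nat_lit 0x100200400e016) (nat_lit 0x100600400a012) (nat_lit 0x1010008001) (nat_lit 0x1010008005)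 (nat_lit 0) (nat_lit 0) (nat_lit 2) (nat_lit 0) (nat_lit 0) (nat_lit 7) (nat_lit 1) (nat_lit 0) (nat_lit 1) (nat_lit 0) (nat_lit 1) (nat_lit 0) .nil) (.cD (nat_lit 83) (.dfs (nat_lit 4) (nat_lit 0x100200400e016) (nat_lit 0x100600400a012) (nat_lit 0x1010008001) (nat_lit 0x1010008005) (nat_lit 0) (nat_lit 0) (nat_lit 2) (nat_lit 0) (nat_lit 0) (nat_lit 7) (nat_lit 1) (nat_lit 0) (nat_lit 1) (nat_lit 0) (nat_lit 1) (nat_lit 0) .nil) (.cD (nat_lit 91) (.dfs (nat_lit 4) (nat_lit 0x100200400e016) (nat_lit 0x100600400a012) (nat_lit 0x1010008001) (nat_lit 0x1010008005) (nat_lit 0) (nat_lit 0) (nat_lit 2) (nat_lit 0) (nat_lit 0) (nat_lit 7) (nat_lit 1) (nat_lit 0) (nat_lit 1) (nat_lit 0) (nat_lit 1) (nat_lit 0) .nil) .nil))))))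
theorem c39 : (chk [] [] p39).n x15 s39 = true := by decide +kernel
noncomputable def p40 : Pf := (.ext (nat_lit 0) (nat_lit 0) (nat_lit 0x1100040080020) (nat_lit 0x1002004008001001) (nat_lit 0x2003004008) (nat_lit 4097) (nat_lit 4108) (nat_lit 0xb007002001) (.dfs (nat_lit 1) (nat_lit 0x1002003004008) (nat_lit 0x100200300700b) (nat_lit 4097) (nat_lit 4097) (nat_lit 13) (nat_lit 0) (nat_lit 2) (nat_lit 0) (nat_lit 0) (nat_lit 12) (nat_lit 1) (nat_lit 0) (nat_lit 1) (nat_lit 0) (nat_lit 1) (nat_lit 0) .nil))
theorem c40 : (chk [] [] p40).n x18 s40 = true := by decide +kernel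
noncomputable def p41 : Pf := (.ext (nat_lit 0) (nat_lit 0) (nat_lit 0x1100040080020) (nat_lit 0x1002004008001001) (nat_lit 0x2003004008) (nat_lit 4097) (nat_lit 4108) (nat_lit 0xb007002001) (.dfs (nat_lit 1) (nat_lit 0x1002003004008) (nat_lit 0x100200300700b) (nat_lit 4097) (nat_lit 4097) (nat_lit 15) (nat_lit 0) (nat_lit 2) (nat_lit 0) (nat_lit 0) (nat_lit 12) (nat_lit 1) (nat_lit 0) (nat_lit 1) (nat_lit 0) (nat_lit 1) (nat_lit 0) .nil))
theorem c41 : (chk [] [] p41).n x19 s41 = true := by decide +kernel
noncomputable def p42 : Pf := (.lft (nat_lit 0x8002004001000403d001002001001) (nat_lit 176) (nat_lit 0x10ee0c00ae080) (nat_lit 0x8004002001000800405a001) (.extn a72 (nat_lit 0x80040020010008004002001) (nat_lit 0x1010040020080) (nat_lit 2) (nat_lit 0) (nat_lit 0) (nat_lit 0) (nat_lit 0x1000000000000000100000000000000000000000000000000000000000000) (.cE (nat_lit 176) b87 (nat_lit 0) (.cut (nat_lit 0)) .nil (.cE (nat_lit 240) b88 (nat_lit 0) (.cut (nat_lit 1)) .nil .nil))))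
theorem c42 : (chk [(x18, s40), (x19, s41)] [] p42).n x17 s42 = true := by decide +kernel
noncomputable def p43 : Pf := (.ext (nat_lit 0) (nat_lit 0) (nat_lit 0x1100040080020) (nat_lit 0x1002004008001001) (nat_lit 0x2003004008) (nat_lit 4097) (nat_lit 4108) (nat_lit 0xb007002001) (.dfs (nat_lit 1) (nat_lit 0x1002003004008) (nat_lit 0x100200300700b) (nat_lit 4097) (nat_lit 4097) (nat_lit 1) (nat_lit 0) (nat_lit 2) (nat_lit 0) (nat_lit 0) (nat_lit 12) (nat_lit 1) (nat_lit 0) (nat_lit 1) (nat_lit 0) (nat_lit 1) (nat_lit 0) .nil))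
theorem c43 : (chk [] [] p43).n x20 s43 = true := by decide +kernel
noncomputable def p44 : Pf := (.anz (nat_lit 128) (.iso x22 ⟨[([nat_lit 321, nat_lit 2, nat_lit 40, nat_lit 128, nat_lit 457, nat_lit 5], [nat_lit 474, nat_lit 321, nat_lit 168, nat_lit 40, nat_lit 457, nat_lit 5])], [], [], [], [], [], true, false, []⟩ (nat_lit 0) (nat_lit 0x1008080006030052010102001002) (nat_lit 0x50801c9028008100041001002) [(nat_lit 0x20010008004002001001001)] (.syr (nat_lit 5) false (nat_lit 1) (nat_lit 1) (nat_lit 1) (nat_lit 0x1108008) (nat_lit 0x1100040020010008004002001) (nat_lit 0x1000c00a00900081d40aa001) (nat_lit 0x100000800100800200800500800700800100c00200c00400c00001400101400601400701400001c00103000203000303000703000016c0011700061d80071d800010000310000510000015c0011440051440071440000cc0020cc0050cc) (nat_lit 0x110000000000000000000000000000000000000000000000000000000000100000000000000000001000010101100) (.cD (nat_lit 128) (.kc (nat_lit 5) (nat_lit 0x1001001)) (.cD (nat_lit 8) (.kc (nat_lit 5) (nat_lit 0x8004100100000001001003))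 (.cD (nat_lit 12) (.czp (nat_lit 12) (nat_lit 0x1002001) (nat_lit 0x108014002005000c001) z8 (.dfs (nat_lit 264) (nat_lit 4097) (nat_lit 4097) (nat_lit 1) (nat_lit 1) (nat_lit 0) (nat_lit 2) (nat_lit 3) (nat_lit 0) (nat_lit 0) (nat_lit 0) (nat_lit 1) (nat_lit 0) (nat_lit 0x1140110001) (nat_lit 0x1c0190001) (nat_lit 0x100005100105100205100005d00105d00205d00011100211100011d00211d00213100213d) (nat_lit 0x200200000000000000000000000000000000000000000000200200000000000000000000) (.cD (nat_lit 81) (.mulh (nat_lit 1) (nat_lit 1) (.mulh (nat_lit 1) (nat_lit 1) (.dfs (nat_lit 8) (nat_lit 4104) (nat_lit 4104) (nat_lit 0x1004002001) (nat_lit 0x1007003001) (nat_lit 0) (nat_lit 0) (nat_lit 3) (nat_lit 0) (nat_lit 0) (nat_lit 0) (nat_lit 1) (nat_lit 0) (nat_lit 1) (nat_lit 0) (nat_lit 1) (nat_lit 0) .nil))) (.cD (nat_lit 93) (.mulh (nat_lit 1) (nat_lit 1) (.mulh (nat_lit 1) (nat_lit 1) (.dfs (nat_lit 8) (nat_lit 4104) (nat_lit 4104) (nat_lit 0x1004002001) (nat_lit 0x1007003001) (nat_lit 0) (nat_lit 0) (nat_lit 3) (nat_lit 0) (nat_lit 0) (nat_lit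 0) (nat_lit 1) (nat_lit 0) (nat_lit 1) (nat_lit 0) (nat_lit 1) (nat_lit 0) .nil))) (.cD (nat_lit 273) (.mulh (nat_lit 1) (nat_lit 1) (.mulh (nat_lit 1) (nat_lit 1) (.dfs (nat_lit 8) (nat_lit 4104) (nat_lit 4104) (nat_lit 0x1004002001) (nat_lit 0x1007003001) (nat_lit 0) (nat_lit 0) (nat_lit 3) (nat_lit 0) (nat_lit 0) (nat_lit 0) (nat_lit 1) (nat_lit 0) (nat_lit 1) (nat_lit 0) (nat_lit 1) (nat_lit 0) .nil))) (.cD (nat_lit 285) (.mulh (nat_lit 1) (nat_lit 1) (.mulh (nat_lit 1) (nat_lit 1) (.dfs (nat_lit 8) (nat_lit 4104) (nat_lit 4104) (nat_lit 0x1004002001) (nat_lit 0x1007003001) (nat_lit 0) (nat_lit 0) (nat_lit 3) (nat_lit 0) (nat_lit 0) (nat_lit 0) (nat_lit 1) (nat_lit 0) (nat_lit 1) (nat_lit 0) (nat_lit 1) (nat_lit 0) .nil))) .nil)))))) (.cD (nat_lit 20) (.kb (nat_lit 156) (nat_lit 0x10020400c000003c004003) (nat_lit 0x1080040020110008014002)) (.cD (nat_lit 28) (.kb (nat_lit 28) (nat_lit 0x1002001) (nat_lit 0x1080040020110008014002)) (.cD (nat_lit 48) (.czp (nat_lit 48) (nat_lit 0x1002001) (nat_lit 0x108004002001010c001) z7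 (.dfs (nat_lit 264) (nat_lit 4097) (nat_lit 4097) (nat_lit 1) (nat_lit 1) (nat_lit 0) (nat_lit 2) (nat_lit 3) (nat_lit 0) (nat_lit 0) (nat_lit 0) (nat_lit 1) (nat_lit 0) (nat_lit 0x104010c001) (nat_lit 0xc018c001) (nat_lit 0x100004100104100005100105100010d00210d00011d00211d0010e10010710021ad00213d) (nat_lit 0x200020000000000000000000000000000000000000000000000200020000000000000000) (.cD (nat_lit 65) (.mulh (nat_lit 1) (nat_lit 1) (.mulh (nat_lit 1) (nat_lit 1) (.dfs (nat_lit 8) (nat_lit 4104) (nat_lit 4104) (nat_lit 0x1004002001) (nat_lit 0x1007003001) (nat_lit 0) (nat_lit 0) (nat_lit 3) (nat_lit 0) (nat_lit 0) (nat_lit 0) (nat_lit 1) (nat_lit 0) (nat_lit 1) (nat_lit 0) (nat_lit 1) (nat_lit 0) .nil))) (.cD (nat_lit 81) (.mulh (nat_lit 1) (nat_lit 1) (.mulh (nat_lit 1) (nat_lit 1) (.dfs (nat_lit 8) (nat_lit 4104) (nat_lit 4104) (nat_lit 0x1004002001) (nat_lit 0x1007003001) (nat_lit 0) (nat_lit 0) (nat_lit 3) (nat_lit 0) (nat_lit 0) (nat_lit 0) (nat_lit 1) (nat_lit 0) (nat_lit 1) (nat_lit 0) (nat_lit 1) (nat_lit 0) .nil))) (.cD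 (nat_lit 269) (.mulh (nat_lit 1) (nat_lit 1) (.mulh (nat_lit 1) (nat_lit 1) (.dfs (nat_lit 8) (nat_lit 4104) (nat_lit 4104) (nat_lit 0x1004002001) (nat_lit 0x1007003001) (nat_lit 0) (nat_lit 0) (nat_lit 3) (nat_lit 0) (nat_lit 0) (nat_lit 0) (nat_lit 1) (nat_lit 0) (nat_lit 1) (nat_lit 0) (nat_lit 1) (nat_lit 0) .nil))) (.cD (nat_lit 285) (.mulh (nat_lit 1) (nat_lit 1) (.mulh (nat_lit 1) (nat_lit 1) (.dfs (nat_lit 8) (nat_lit 4104) (nat_lit 4104) (nat_lit 0x1004002001) (nat_lit 0x1007003001) (nat_lit 0) (nat_lit 0) (nat_lit 3) (nat_lit 0) (nat_lit 0) (nat_lit 0) (nat_lit 1) (nat_lit 0) (nat_lit 1) (nat_lit 0) (nat_lit 1) (nat_lit 0) .nil))) .nil)))))) (.cD (nat_lit 364) (.kb (nat_lit 364) (nat_lit 0x1002001) (nat_lit 0x1100080040020010008004)) (.cD (nat_lit 368) (.kc (nat_lit 5) (nat_lit 0x80040c00400000110040c004000001d003001001006)) .nil)))))))))))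
theorem c44 : (chk [] [g72] p44).n x21 s44 = true := by decide +kernel
noncomputable def p45 : Pf := (.ext (nat_lit 0) (nat_lit 0) (nat_lit 0x1200080100040) (nat_lit 0x20010008004001001) (nat_lit 0x2003004008) (nat_lit 0x100d002) (nat_lit 0x100d018) (nat_lit 0x400800200100b007002001) (.dfs (nat_lit 2) (nat_lit 0x1002003004008) (nat_lit 0x100200300700b) (nat_lit 4097) (nat_lit 4097) (nat_lit 3) (nat_lit 0) (nat_lit 2) (nat_lit 0) (nat_lit 0) (nat_lit 24) (nat_lit 1) (nat_lit 0) (nat_lit 4224) (nat_lit 128) (nat_lit 0x10000180000580002980002d8) (nat_lit 0x100000000000000010000000000000000000000000000000000000000000000000000000000000000000000000000000000000000000000000000000000000000000000000000000000000000000000010000000000000001000000) (.cD (nat_lit 24) (.dfs (nat_lit 13) (nat_lit 0x1004006008010) (nat_lit 0x1004006010008) (nat_lit 0x1002001) (nat_lit 0x1002019) (nat_lit 4) (nat_lit 0) (nat_lit 2) (nat_lit 0) (nat_lit 0) (nat_lit 13) (nat_lit 1) (nat_lit 0) (nat_lit 1) (nat_lit 0) (nat_lit 1) (nat_lit 0) .nil) (.cD (nat_lit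 88) (.kS (nat_lit 0) (nat_lit 0x2004008010001001) (nat_lit 4184) (nat_lit 0x800400e00d) (nat_lit 0x4008010020002003002004008010001002002)) (.cD (nat_lit 664) (.kS (nat_lit 0) (nat_lit 0x2004008010001001) (nat_lit 4760) (nat_lit 0x800400e00d) (nat_lit 0x4008010020002003002004008010001002002)) (.cD (nat_lit 728) (.kS (nat_lit 0) (nat_lit 0x2004008010001001) (nat_lit 4824) (nat_lit 0x800400e00d) (nat_lit 0x4008010020002003002004008010001002002)) .nil))))))
theorem c45 : (chk [] [] p45).n x23 s45 = true := by decide +kernel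
noncomputable def p46 : Pf := (.anz (nat_lit 256) (.iso x25 ⟨[([nat_lit 295, nat_lit 512, nat_lit 4, nat_lit 16, nat_lit 960, nat_lit 563, nat_lit 731], [nat_lit 679, nat_lit 512, nat_lit 483, nat_lit 976, nat_lit 16, nat_lit 563, nat_lit 731])], [], [], [], [], [], true, false, []⟩ (nat_lit 0) (nat_lit 0x100d0200950d8001040214002010004) (nat_lit 0x2db3c02330101000021e1001004020) [(nat_lit 0x40020010008004002001001001)] (.syr (nat_lit 731) false (nat_lit 1) (nat_lit 1) (nat_lit 1) (nat_lit 0x10e80b8010) (nat_lit 0x1200080040020010008004002001) (nat_lit 0x2000800403e00100483d4002001) (nat_lit 0x10000020020020030020050020060020070020000100010100030100050100070100000280010280020280030280040280010400000a80000b80010b80030b80050b80070b80000e80001280011280021280001c00011c00021c00022d20052d200014a00514a00714a00211200711200236a0022800042800011780021780031780051780071780031900071900030800023a80043a80022680042680083da) (nat_lit 0x1000000000000000000000000000000000000000000000000000000000000000000000000000000000000000000000000000000000000000000000000000000010000000000000000000000000000000000000100000000000000010000000000010001000000000000000000000000010000010000010004)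 (.cD (nat_lit 960) (.kc (nat_lit 731) (nat_lit 0x1001001)) (.cD (nat_lit 2) (.czp (nat_lit 2) (nat_lit 0x1002001) (nat_lit 0x13c01e00f0058002009) z11 (.dfs (nat_lit 16) (nat_lit 4097) (nat_lit 4097) (nat_lit 1) (nat_lit 1) (nat_lit 0) (nat_lit 0) (nat_lit 3) (nat_lit 0) (nat_lit 0) (nat_lit 0) (nat_lit 1) (nat_lit 0) (nat_lit 0x1220290108281) (nat_lit 0x1e01502c8011) (nat_lit 0x100000900200900300900004b00104b00204b0000a80000aa) (nat_lit 0x5000000000000000000000000000000000000000000000000000000000000000000000000000000000000000000000000000000000000000000000000000000000000000000000000000000000000000000000000000000000000000000000000000005000000000000000000000008000000000000000204) (.cD (nat_lit 2) (.kc (nat_lit 267) (nat_lit 0x3001001)) (.cD (nat_lit 9) (.kF (nat_lit 9) (nat_lit 0x39d005000001003002002)) (.cD (nat_lit 75) (.kc (nat_lit 731) (nat_lit 0x10004001002001001000003)) (.cD (nat_lit 168) (.dfs (nat_lit 184) (nat_lit 4098) (nat_lit 4098) (nat_lit 4097) (nat_lit 4097) (nat_lit 0) (nat_lit 0) (nat_lit 3) (nat_lit 0) (nat_lit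 0) (nat_lit 0) (nat_lit 1) (nat_lit 0) (nat_lit 1) (nat_lit 0) (nat_lit 1) (nat_lit 0x5000000000000000000000500000000000000000000000000000000000000000000000000000000000000000000000000000000000000000000000000000000000000000000000000000000000000000000000000000000000000000000000000000005000000000000000000000000000000000000000004) (.cD (nat_lit 2) (.kc (nat_lit 611) (nat_lit 0x5001001)) (.cD (nat_lit 168) (.kc (nat_lit 808) (nat_lit 0x3001001)) (.cD (nat_lit 170) (.kc (nat_lit 563) (nat_lit 0x7001001)) (.cD (nat_lit 872) (.kF (nat_lit 704) (nat_lit 0x100400219108100000200600100539d000004)) (.cD (nat_lit 874) (.kc (nat_lit 731) (nat_lit 0x7001200200000002)) (.cD (nat_lit 960) (.kF (nat_lit 704) (nat_lit 0x300400219108100000200600100539d000004)) (.cD (nat_lit 962) (.kc (nat_lit 731) (nat_lit 0x50013543ec000002)) .nil)))))))) (.cD (nat_lit 170) (.kc (nat_lit 731) (nat_lit 0x10004001002348088000002001004)) (.cD (nat_lit 960) (.dfs (nat_lit 184) (nat_lit 4098) (nat_lit 4098) (nat_lit 4097) (nat_lit 4097) (nat_lit 0) (nat_lit 0) (nat_lit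 3) (nat_lit 0) (nat_lit 0) (nat_lit 0) (nat_lit 1) (nat_lit 0) (nat_lit 0x1220290108281) (nat_lit 0x1e01502c8011) (nat_lit 0x100000900200900300900004b00104b00204b0000a80000aa) (nat_lit 0x5000000000000000000000000000000000000000000000000000000000000000000000000000000000000000000000000000000000000000000000000000000000000000000000000000000000000000000000000000000000000000000000000000005000000000000000000000008000000000000000204) (.cD (nat_lit 2) (.kc (nat_lit 611) (nat_lit 0x5001001)) (.cD (nat_lit 9) (.kF (nat_lit 552) (nat_lit 0x100500116d19d000002)) (.cD (nat_lit 75) (.kb (nat_lit 184) (nat_lit 0x1001000001001002) (nat_lit 0x12001800400100a800400f)) (.cD (nat_lit 168) (.dfs (nat_lit 232) (nat_lit 4100) (nat_lit 4100) (nat_lit 0x1002001) (nat_lit 0x1002001) (nat_lit 0) (nat_lit 0) (nat_lit 3) (nat_lit 0) (nat_lit 0) (nat_lit 0) (nat_lit 1) (nat_lit 0) (nat_lit 1) (nat_lit 0) (nat_lit 1) (nat_lit 0x5000000000000000000000500000000000000000000000000000000000000000000000000000000000000000000000000000000000000000000000000000000000000000000000000000000000000000000000000000000000000000000000000000005000000000000000000000000000000000000000004)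 (.cD (nat_lit 2) (.kc (nat_lit 499) (nat_lit 0x9001001)) (.cD (nat_lit 168) (.kc (nat_lit 976) (nat_lit 0x3001001)) (.cD (nat_lit 170) (.kc (nat_lit 715) (nat_lit 0xb001001)) (.cD (nat_lit 872) (.kc (nat_lit 960) (nat_lit 0x7001001)) (.cD (nat_lit 874) (.kc (nat_lit 283) (nat_lit 0xf001001)) (.cD (nat_lit 960) (.kc (nat_lit 888) (nat_lit 0x5001001)) (.cD (nat_lit 962) (.kc (nat_lit 419) (nat_lit 0xd001001)) .nil)))))))) (.cD (nat_lit 170) (.kb (nat_lit 872) (nat_lit 0x200200000007002002) (nat_lit 0x1200100080040020010008)) (.cD (nat_lit 960) (.kc (nat_lit 808) (nat_lit 0x3001001)) (.cD (nat_lit 962) (.kc (nat_lit 563) (nat_lit 0x7001001)) .nil)))))))) (.cD (nat_lit 962) (.kc (nat_lit 731) (nat_lit 0x30013d52dd000002)) .nil))))))))) (.cD (nat_lit 16) (.kc (nat_lit 731) (nat_lit 0x10004001001002)) (.cD (nat_lit 40) (.kb (nat_lit 744) (nat_lit 0x100200100100007a004003) (nat_lit 0x1200100080040020010008)) (.cD (nat_lit 64) (.kc (nat_lit 731) (nat_lit 0x1000404800800002700404800800003f003001001006)) (.cD (nat_lit 168) (.kb (nat_lit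 168) (nat_lit 0x1002001) (nat_lit 0x1200100080040020010008)) (.cD (nat_lit 184) (.kb (nat_lit 184) (nat_lit 0x1002001) (nat_lit 0x12001800400100a800400f)) (.cD (nat_lit 232) (.kb (nat_lit 232) (nat_lit 0x1002001) (nat_lit 0x1200100080040020010008)) (.cD (nat_lit 296) (.kb (nat_lit 296) (nat_lit 0x1002001) (nat_lit 0x1200100080040020010008)) (.cD (nat_lit 448) (.kb (nat_lit 448) (nat_lit 0x1002001) (nat_lit 0x1200100080040020010008)) .nil)))))))))))))
theorem c46 : (chk [] [g80] p46).n x24 s46 = true := by decide +kernel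
noncomputable def p47 : Pf := (.clm (.cut (nat_lit 0)) (.dfs (nat_lit 512) (nat_lit 1) (nat_lit 1) (nat_lit 1) (nat_lit 1) (nat_lit 0) (nat_lit 0) (nat_lit 0) (nat_lit 0) (nat_lit 0) (nat_lit 0) (nat_lit 1) (nat_lit 0) (nat_lit 0x1200080040020010008004002001) (nat_lit 0x200080040020010168004142101) (nat_lit 0x100000400100400300400600400100d00200d00400d00001000101000201000301000701000001600101600201600301600401600601600701600001700101700201700301700401700501700001a00101a00201a00301a00401a00501a00002000202000302000402000602000002d00102d00202d00302d00402d00602d00702d00003800103800203800403800003b00103b00203b00303b00403b00603b00703b0010d800110d00210d00410d0002180012180022180032180042180012580022800011bc0031bc0061bc0022c80062c80082c800016400116400216400122800222800322800822800039c00239c00539c00739c0011160021160031160041160061160071160013020020360011170021170031170041170051170002d70052d70013bb0073bb00111a00211a00311a00411a00511a00005a00505a00130e00730e0030f80060f80010950020950030950040950060950070950011f50022ad0012000022000032000000a00020a00030a00000800040800010e30020e30030e30040e30060e30070e300139700229b0032c00052c00002700042700051c40081c40033400043400031a0)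 (nat_lit 0x10000000001000000000000000100000000000000000000000000000000000000000000000000000000000000000020010000000001000000000000000000000000000000000000000900200104c12010) (.cD (nat_lit 4) (.czp (nat_lit 4) (nat_lit 0x1002001) (nat_lit 0x11000c0220018004021) z13 (.dfs (nat_lit 256) (nat_lit 4097) (nat_lit 4097) (nat_lit 1) (nat_lit 1) (nat_lit 0) (nat_lit 0) (nat_lit 3) (nat_lit 0) (nat_lit 0) (nat_lit 0) (nat_lit 0x1021018) (nat_lit 1) (nat_lit 1) (nat_lit 0) (nat_lit 1) (nat_lit 0x110000000000000000000000000000000000000000000000000000000000000010) (.cD (nat_lit 4) (.kc (nat_lit 768) (nat_lit 0x3001001)) (.cD (nat_lit 256) (.dfs (nat_lit 64) (nat_lit 4098) (nat_lit 4098) (nat_lit 4097) (nat_lit 4097) (nat_lit 0) (nat_lit 0) (nat_lit 3) (nat_lit 0) (nat_lit 0) (nat_lit 0) (nat_lit 1) (nat_lit 0) (nat_lit 0x10c0118201) (nat_lit 0xc0018139) (nat_lit 0x10000c00010c00000c40010c40000d80000dc002220002224) (nat_lit 0x110000000011000011000000000000000000000000000000000000000000000010) (.cD (nat_lit 4) (.kc (nat_lit 576) (nat_lit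 0x5001001)) (.cD (nat_lit 192) (.kc (nat_lit 512) (nat_lit 0x180030030020df00b000003)) (.cD (nat_lit 196) (.kF (nat_lit 64) (nat_lit 0x2cb27f000001007001142002000003)) (.cD (nat_lit 216) (.dfs (nat_lit 128) (nat_lit 4100) (nat_lit 4100) (nat_lit 0x1002001) (nat_lit 0x1002001) (nat_lit 0) (nat_lit 0) (nat_lit 3) (nat_lit 0) (nat_lit 0) (nat_lit 0) (nat_lit 1) (nat_lit 0) (nat_lit 1) (nat_lit 0) (nat_lit 1) (nat_lit 0x110000000000000000000000000000000000000000000000000000110000000011000000000000000000000000000000000000000000000000000010) (.cD (nat_lit 4) (.kc (nat_lit 640) (nat_lit 0x9001001)) (.cD (nat_lit 216) (.kc (nat_lit 192) (nat_lit 0x3001001)) (.cD (nat_lit 220) (.kc (nat_lit 704) (nat_lit 0xb001001)) (.cD (nat_lit 256) (.kc (nat_lit 384) (nat_lit 0x5001001)) (.cD (nat_lit 260) (.kc (nat_lit 896) (nat_lit 0xd001001)) (.cD (nat_lit 472) (.kc (nat_lit 448) (nat_lit 0x7001001)) (.cD (nat_lit 476) (.kc (nat_lit 960) (nat_lit 0xf001001)) .nil)))))))) (.cD (nat_lit 220) (.kc (nat_lit 512) (nat_lit 0x100040010020b1009000004001004))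 (.cD (nat_lit 256) (.kc (nat_lit 320) (nat_lit 0x3001001)) (.cD (nat_lit 260) (.kc (nat_lit 832) (nat_lit 0x7001001)) .nil)))))))) (.cD (nat_lit 260) (.kc (nat_lit 512) (nat_lit 0x3001168008000002)) .nil))))) (.cD (nat_lit 13) (.kb (nat_lit 13) (nat_lit 0x1002001) (nat_lit 0x110028004002021800c202)) (.cD (nat_lit 16) (.czp (nat_lit 16) (nat_lit 0x1002001) (nat_lit 0x12001000e001002800c) z12 (.dfs (nat_lit 256) (nat_lit 4097) (nat_lit 4097) (nat_lit 1) (nat_lit 1) (nat_lit 0) (nat_lit 0) (nat_lit 3) (nat_lit 0) (nat_lit 0) (nat_lit 0) (nat_lit 0x120002800c) (nat_lit 1) (nat_lit 1) (nat_lit 0) (nat_lit 1) (nat_lit 0x100010000000000000000000000000000000000000000000000000000000000010000) (.cD (nat_lit 16) (.kc (nat_lit 768) (nat_lit 0x3001001)) (.cD (nat_lit 256) (.dfs (nat_lit 64) (nat_lit 4098) (nat_lit 4098) (nat_lit 4097) (nat_lit 4097) (nat_lit 0) (nat_lit 0) (nat_lit 3) (nat_lit 0) (nat_lit 0) (nat_lit 0) (nat_lit 1) (nat_lit 0) (nat_lit 0x10e00282fc) (nat_lit 0x1e01283fc) (nat_lit 0x10002000012000002100012100012280012580022b80023c8)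 (nat_lit 0x1000000000001000001000100000000000000000000000000000000000000000000000000000000000100010000000000000000000000000000000000000000000000000000000000010000) (.cD (nat_lit 16) (.kc (nat_lit 576) (nat_lit 0x5001001)) (.cD (nat_lit 256) (.kc (nat_lit 320) (nat_lit 0x3001001)) (.cD (nat_lit 272) (.kc (nat_lit 832) (nat_lit 0x7001001)) (.cD (nat_lit 512) (.kc (nat_lit 512) (nat_lit 0x10004001002002)) (.cD (nat_lit 528) (.kF (nat_lit 64) (nat_lit 0x30050011ba022000002)) (.cD (nat_lit 552) (.kc (nat_lit 512) (nat_lit 0x10004001002101001000004001004)) (.cD (nat_lit 600) (.dfs (nat_lit 128) (nat_lit 4100) (nat_lit 4100) (nat_lit 0x1002001) (nat_lit 0x1002001) (nat_lit 0) (nat_lit 0) (nat_lit 3) (nat_lit 0) (nat_lit 0) (nat_lit 0) (nat_lit 1) (nat_lit 0) (nat_lit 1) (nat_lit 0) (nat_lit 1) (nat_lit 0x10000000000010000000000000000000000000000000000000000000000000001000000000001000000000000000000000000000000000000000000000000000000000000000000000100010000000000000000000000000000000000000000000000000000000000010000) (.cD (nat_lit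 16) (.kc (nat_lit 640) (nat_lit 0x9001001)) (.cD (nat_lit 256) (.kc (nat_lit 384) (nat_lit 0x5001001)) (.cD (nat_lit 272) (.kc (nat_lit 896) (nat_lit 0xd001001)) (.cD (nat_lit 552) (.kc (nat_lit 704) (nat_lit 0xb001001)) (.cD (nat_lit 600) (.kc (nat_lit 192) (nat_lit 0x3001001)) (.cD (nat_lit 808) (.kc (nat_lit 960) (nat_lit 0xf001001)) (.cD (nat_lit 856) (.kc (nat_lit 448) (nat_lit 0x7001001)) .nil)))))))) .nil)))))))) (.cD (nat_lit 272) (.kc (nat_lit 512) (nat_lit 0x3001168008000002)) .nil))))) (.cD (nat_lit 22) (.kb (nat_lit 792) (nat_lit 0x1002004004000047003003) (nat_lit 0x110028004022021820200d)) (.cD (nat_lit 23) (.kb (nat_lit 181) (nat_lit 0x100202d003002) (nat_lit 0x110028004002021800c202)) (.cD (nat_lit 26) (.kc (nat_lit 512) (nat_lit 0x10004101001000037004101001000001001005)) (.cD (nat_lit 32) (.kc (nat_lit 512) (nat_lit 0x18003168008000001001003)) (.cD (nat_lit 45) (.kb (nat_lit 269) (nat_lit 0x1002004004000012003003) (nat_lit 0x110028004002021800c202)) (.cD (nat_lit 56) (.kin (nat_lit 1) (nat_lit 1)) (.cD (nat_lit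 59) (.kb (nat_lit 565) (nat_lit 0x100200400400004d003003) (nat_lit 0x110028004002021800c202)) (.cD (nat_lit 216) (.kc (nat_lit 512) (nat_lit 0x1000410100100002400310100100003f003001001006)) (.cD (nat_lit 256) (.kc (nat_lit 512) (nat_lit 0x1001001)) (.cD (nat_lit 269) (.kb (nat_lit 269) (nat_lit 0x1002001) (nat_lit 0x110028004002021800c202)) (.cD (nat_lit 536) (.kb (nat_lit 536) (nat_lit 0x1002001) (nat_lit 0x110028004022021820200d)) (.cD (nat_lit 600) (.kb (nat_lit 600) (nat_lit 0x1002001) (nat_lit 0x110028004002001008800c)) (.cD (nat_lit 640) (.kb (nat_lit 640) (nat_lit 0x1002001) (nat_lit 0x120010008004002001800c)) .nil))))))))))))))))))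
theorem c47 : (chk [(x24, s46)] [] p47).n x24 s47 = true := by decide +kernel
noncomputable def p48 : Pf := (.ext (nat_lit 0) (nat_lit 0) (nat_lit 0x1200080100040) (nat_lit 0x20010008004001001) (nat_lit 0x2003004008) (nat_lit 0x101700d002) (nat_lit 0x102f00d018) (nat_lit 0x500900200100400800200100b007002001) (.dfs (nat_lit 2) (nat_lit 0x1002003004008) (nat_lit 0x100200300700b) (nat_lit 4097) (nat_lit 4097) (nat_lit 3) (nat_lit 0) (nat_lit 2) (nat_lit 0) (nat_lit 0) (nat_lit 24) (nat_lit 1) (nat_lit 0) (nat_lit 4224) (nat_lit 128) (nat_lit 0x10000180000580002980002d8) (nat_lit 0x100000000000000010000000000000000000000000000000000000000000000000000000000000000000000000000000000000000000000000000000000000000000000000000000000000000000000010000000000000001000000) (.cD (nat_lit 24) (.dfs (nat_lit 13) (nat_lit 0x1004006008010) (nat_lit 0x1004006010008) (nat_lit 0x1002001) (nat_lit 0x1002019) (nat_lit 0) (nat_lit 0) (nat_lit 2) (nat_lit 0) (nat_lit 0) (nat_lit 13) (nat_lit 1) (nat_lit 0) (nat_lit 1) (nat_lit 0) (nat_lit 1) (nat_lit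 0x2000000000000000200000000000000000000000000000000000000000000000200000000000000020000000000000000000000000000000000000000000000000000000000000000000000000000000200000000000000020000000000000000000000000000000000000000000000020000000000000002000) (.cD (nat_lit 13) (.dfs (nat_lit 23) (nat_lit 0x100800c010020) (nat_lit 0x100800c024014) (nat_lit 0x1004002001) (nat_lit 0x1004036001) (nat_lit 0) (nat_lit 0) (nat_lit 2) (nat_lit 0) (nat_lit 0) (nat_lit 47) (nat_lit 1) (nat_lit 0) (nat_lit 1) (nat_lit 0) (nat_lit 1) (nat_lit 0x8000000000000000800000000000000000000000000000000000000000000000800000000000000080000000000000008000000000000000800000000000000000000000000000000000000000000000800000000000000080000000000000000000000000000000000000000000) (.cD (nat_lit 175) (.kS (nat_lit 0) (nat_lit 0x8018020040002020020000002) (nat_lit 4184) (nat_lit 0x800400e00d) (nat_lit 0x2002000000801002004000400102002000000801802004001f001004)) (.cD (nat_lit 239) (.kS (nat_lit 0) (nat_lit 0x8018020040002020020000002) (nat_lit 4440) (nat_lit 0x800400e00d)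 (nat_lit 0x2002000000801002004000400102002000000801802004000f001004)) (.cD (nat_lit 431) (.cut (nat_lit 0)) (.cD (nat_lit 495) (.kS (nat_lit 0) (nat_lit 0x8018020040002020020000002) (nat_lit 0x101800d) (nat_lit 0x800400e00d010008002004007) (nat_lit 0x20020000008010020040004002001020020000008018020040017002001004)) (.cD (nat_lit 559) (.kS (nat_lit 0) (nat_lit 0x8018020040002020020000002) (nat_lit 4824) (nat_lit 0x800400e00d) (nat_lit 0x2002000000801002004000400102002000000801802004007f001004)) (.cD (nat_lit 623) (.kS (nat_lit 0) (nat_lit 0x8018020040002020020000002) (nat_lit 5080) (nat_lit 0x800400e00d) (nat_lit 0x2002000000801002004000400102002000000801802004006f001004)) (.cD (nat_lit 815) (.kS (nat_lit 0) (nat_lit 0x8018020040002020020000002) (nat_lit 5016) (nat_lit 0x800400e00d) (nat_lit 0x20020000008010020040004001020020000008018020040067001004)) (.cD (nat_lit 879) (.kS (nat_lit 0) (nat_lit 0x8018020040002020020000002) (nat_lit 4760) (nat_lit 0x800400e00d) (nat_lit 0x20020000008010020040004001020020000008018020040077001004))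 .nil))))))))) (.cD (nat_lit 77) (.dfs (nat_lit 23) (nat_lit 0x100800c010020) (nat_lit 0x100800c024014) (nat_lit 0x1004002001) (nat_lit 0x1004036001) (nat_lit 0) (nat_lit 0) (nat_lit 2) (nat_lit 0) (nat_lit 0) (nat_lit 47) (nat_lit 1) (nat_lit 0) (nat_lit 1) (nat_lit 0) (nat_lit 1) (nat_lit 0x8000000000000000800000000000000000000000000000000000000000000000800000000000000080000000000000008000000000000000800000000000000000000000000000000000000000000000800000000000000080000000000000000000000000000000000000000000) (.cD (nat_lit 175) (.kS (nat_lit 0) (nat_lit 0x8018020040002020020000002) (nat_lit 4440) (nat_lit 0x800400e00d) (nat_lit 0x2002000000801002004000400102002000000801802004000f001004)) (.cD (nat_lit 239) (.kS (nat_lit 0) (nat_lit 0x8018020040002020020000002) (nat_lit 4184) (nat_lit 0x800400e00d) (nat_lit 0x2002000000801002004000400102002000000801802004001f001004)) (.cD (nat_lit 431) (.kS (nat_lit 0) (nat_lit 0x8018020040002020020000002) (nat_lit 0x101810d) (nat_lit 0x800400e00d010008002004007) (nat_lit 0x20020000008010020040004002001020020000008018020040017012001004))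 (.cD (nat_lit 495) (.kS (nat_lit 0) (nat_lit 0x8018020040002020020000002) (nat_lit 0x111810d) (nat_lit 0x800400e00d010008002004007) (nat_lit 0x20020000008010020040004002001020020000008018020040007012001004)) (.cD (nat_lit 559) (.kS (nat_lit 0) (nat_lit 0x8018020040002020020000002) (nat_lit 5080) (nat_lit 0x800400e00d) (nat_lit 0x2002000000801002004000400102002000000801802004006f001004)) (.cD (nat_lit 623) (.kS (nat_lit 0) (nat_lit 0x8018020040002020020000002) (nat_lit 4824) (nat_lit 0x800400e00d) (nat_lit 0x2002000000801002004000400102002000000801802004007f001004)) (.cD (nat_lit 815) (.kS (nat_lit 0) (nat_lit 0x8018020040002020020000002) (nat_lit 4760) (nat_lit 0x800400e00d) (nat_lit 0x20020000008010020040004001020020000008018020040077001004)) (.cD (nat_lit 879) (.kS (nat_lit 0) (nat_lit 0x8018020040002020020000002) (nat_lit 5016) (nat_lit 0x800400e00d) (nat_lit 0x20020000008010020040004001020020000008018020040067001004)) .nil))))))))) (.cD (nat_lit 269) (.dfs (nat_lit 23) (nat_lit 0x100800c010020) (nat_lit 0x100800c024014)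 (nat_lit 0x1004002001) (nat_lit 0x1004036001) (nat_lit 0) (nat_lit 0) (nat_lit 2) (nat_lit 0) (nat_lit 0) (nat_lit 47) (nat_lit 1) (nat_lit 0) (nat_lit 1) (nat_lit 0) (nat_lit 1) (nat_lit 0x8000000000000000800000000000000000000000000000000000000000000000800000000000000080000000000000008000000000000000800000000000000000000000000000000000000000000000800000000000000080000000000000000000000000000000000000000000) (.cD (nat_lit 175) (.kS (nat_lit 0) (nat_lit 0x8018020040002020020000002) (nat_lit 0x111814d) (nat_lit 0x800400e00d010008002004007) (nat_lit 0x2002000000801002004000400200102002000000801802004000701a001004)) (.cD (nat_lit 239) (.kS (nat_lit 0) (nat_lit 0x8018020040002020020000002) (nat_lit 0x101814d) (nat_lit 0x800400e00d010008002004007) (nat_lit 0x2002000000801002004000400200102002000000801802004001701a001004)) (.cD (nat_lit 431) (.kS (nat_lit 0) (nat_lit 0x8018020040002020020000002) (nat_lit 4184) (nat_lit 0x800400e00d) (nat_lit 0x2002000000801002004000400102002000000801802004001f001004)) (.cD (nat_lit 495) (.kS (nat_lit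 0) (nat_lit 0x8018020040002020020000002) (nat_lit 4440) (nat_lit 0x800400e00d) (nat_lit 0x2002000000801002004000400102002000000801802004000f001004)) (.cD (nat_lit 559) (.kS (nat_lit 0) (nat_lit 0x8018020040002020020000002) (nat_lit 5016) (nat_lit 0x800400e00d) (nat_lit 0x20020000008010020040004001020020000008018020040067001004)) (.cD (nat_lit 623) (.kS (nat_lit 0) (nat_lit 0x8018020040002020020000002) (nat_lit 4760) (nat_lit 0x800400e00d) (nat_lit 0x20020000008010020040004001020020000008018020040077001004)) (.cD (nat_lit 815) (.kS (nat_lit 0) (nat_lit 0x8018020040002020020000002) (nat_lit 4824) (nat_lit 0x800400e00d) (nat_lit 0x2002000000801002004000400102002000000801802004007f001004)) (.cD (nat_lit 879) (.kS (nat_lit 0) (nat_lit 0x8018020040002020020000002) (nat_lit 5080) (nat_lit 0x800400e00d) (nat_lit 0x2002000000801002004000400102002000000801802004006f001004)) .nil))))))))) (.cD (nat_lit 333) (.dfs (nat_lit 23) (nat_lit 0x100800c010020) (nat_lit 0x100800c024014) (nat_lit 0x1004002001) (nat_lit 0x1004036001) (nat_lit 0)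 (nat_lit 0) (nat_lit 2) (nat_lit 0) (nat_lit 0) (nat_lit 47) (nat_lit 1) (nat_lit 0) (nat_lit 1) (nat_lit 0) (nat_lit 1) (nat_lit 0x8000000000000000800000000000000000000000000000000000000000000000800000000000000080000000000000008000000000000000800000000000000000000000000000000000000000000000800000000000000080000000000000000000000000000000000000000000) (.cD (nat_lit 175) (.kS (nat_lit 0) (nat_lit 0x8018020040002020020000002) (nat_lit 0x101804d) (nat_lit 0x800400e00d010008002004007) (nat_lit 0x2002000000801002004000400200102002000000801802004001700a001004)) (.cD (nat_lit 239) (.iso x24 s47 (nat_lit 0) (nat_lit 0x1200100080040020010008004002101) (nat_lit 0x200100080040020010008004002101) [(nat_lit 0x40020010008004012011001001)] (.cut (nat_lit 0))) (.cD (nat_lit 431) (.kS (nat_lit 0) (nat_lit 0x8018020040002020020000002) (nat_lit 4440) (nat_lit 0x800400e00d) (nat_lit 0x2002000000801002004000400102002000000801802004000f001004)) (.cD (nat_lit 495) (.kS (nat_lit 0) (nat_lit 0x8018020040002020020000002) (nat_lit 4184) (nat_lit 0x800400e00d)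 (nat_lit 0x2002000000801002004000400102002000000801802004001f001004)) (.cD (nat_lit 559) (.kS (nat_lit 0) (nat_lit 0x8018020040002020020000002) (nat_lit 4760) (nat_lit 0x800400e00d) (nat_lit 0x20020000008010020040004001020020000008018020040077001004)) (.cD (nat_lit 623) (.kS (nat_lit 0) (nat_lit 0x8018020040002020020000002) (nat_lit 5016) (nat_lit 0x800400e00d) (nat_lit 0x20020000008010020040004001020020000008018020040067001004)) (.cD (nat_lit 815) (.kS (nat_lit 0) (nat_lit 0x8018020040002020020000002) (nat_lit 5080) (nat_lit 0x800400e00d) (nat_lit 0x2002000000801002004000400102002000000801802004006f001004)) (.cD (nat_lit 879) (.kS (nat_lit 0) (nat_lit 0x8018020040002020020000002) (nat_lit 4824) (nat_lit 0x800400e00d) (nat_lit 0x2002000000801002004000400102002000000801802004007f001004)) .nil))))))))) (.cD (nat_lit 653) (.dfs (nat_lit 23) (nat_lit 0x100800c010020) (nat_lit 0x100800c024014) (nat_lit 0x1004002001) (nat_lit 0x1004036001) (nat_lit 0) (nat_lit 0) (nat_lit 2) (nat_lit 0) (nat_lit 0) (nat_lit 47) (nat_lit 1) (nat_lit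 0) (nat_lit 1) (nat_lit 0) (nat_lit 1) (nat_lit 0x8000000000000000800000000000000000000000000000000000000000000000800000000000000080000000000000008000000000000000800000000000000000000000000000000000000000000000800000000000000080000000000000000000000000000000000000000000) (.cD (nat_lit 175) (.kS (nat_lit 0) (nat_lit 0x8018020040002020020000002) (nat_lit 4824) (nat_lit 0x800400e00d) (nat_lit 0x2002000000801002004000400102002000000801802004007f001004)) (.cD (nat_lit 239) (.kS (nat_lit 0) (nat_lit 0x8018020040002020020000002) (nat_lit 5080) (nat_lit 0x800400e00d) (nat_lit 0x2002000000801002004000400102002000000801802004006f001004)) (.cD (nat_lit 431) (.kS (nat_lit 0) (nat_lit 0x8018020040002020020000002) (nat_lit 5016) (nat_lit 0x800400e00d) (nat_lit 0x20020000008010020040004001020020000008018020040067001004)) (.cD (nat_lit 495) (.kS (nat_lit 0) (nat_lit 0x8018020040002020020000002) (nat_lit 4760) (nat_lit 0x800400e00d) (nat_lit 0x20020000008010020040004001020020000008018020040077001004)) (.cD (nat_lit 559) (.kS (nat_lit 0) (nat_lit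 0x8018020040002020020000002) (nat_lit 4184) (nat_lit 0x800400e00d) (nat_lit 0x2002000000801002004000400102002000000801802004001f001004)) (.cD (nat_lit 623) (.kS (nat_lit 0) (nat_lit 0x8018020040002020020000002) (nat_lit 4440) (nat_lit 0x800400e00d) (nat_lit 0x2002000000801002004000400102002000000801802004000f001004)) (.cD (nat_lit 815) (.kS (nat_lit 0) (nat_lit 0x10018020040002001) (nat_lit 0x119a28d) (nat_lit 0x800400e00d010008002004007) (nat_lit 0x18008020040017062001008010020040004002001010018020040033062001003)) (.cD (nat_lit 879) (.kS (nat_lit 0) (nat_lit 0x8018020040002020020000002) (nat_lit 0x101828d) (nat_lit 0x800400e00d010008002004007) (nat_lit 0x20020000008010020040004002001020020000008018020040017062001004)) .nil))))))))) (.cD (nat_lit 717) (.dfs (nat_lit 23) (nat_lit 0x100800c010020) (nat_lit 0x100800c024014) (nat_lit 0x1004002001) (nat_lit 0x1004036001) (nat_lit 0) (nat_lit 0) (nat_lit 2) (nat_lit 0) (nat_lit 0) (nat_lit 47) (nat_lit 1) (nat_lit 0) (nat_lit 1) (nat_lit 0) (nat_lit 1) (nat_lit 0x8000000000000000800000000000000000000000000000000000000000000000800000000000000080000000000000008000000000000000800000000000000000000000000000000000000000000000800000000000000080000000000000000000000000000000000000000000)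 (.cD (nat_lit 175) (.kS (nat_lit 0) (nat_lit 0x8018020040002020020000002) (nat_lit 5080) (nat_lit 0x800400e00d) (nat_lit 0x2002000000801002004000400102002000000801802004006f001004)) (.cD (nat_lit 239) (.kS (nat_lit 0) (nat_lit 0x8018020040002020020000002) (nat_lit 4824) (nat_lit 0x800400e00d) (nat_lit 0x2002000000801002004000400102002000000801802004007f001004)) (.cD (nat_lit 431) (.kS (nat_lit 0) (nat_lit 0x8018020040002020020000002) (nat_lit 4760) (nat_lit 0x800400e00d) (nat_lit 0x20020000008010020040004001020020000008018020040077001004)) (.cD (nat_lit 495) (.kS (nat_lit 0) (nat_lit 0x8018020040002020020000002) (nat_lit 5016) (nat_lit 0x800400e00d) (nat_lit 0x20020000008010020040004001020020000008018020040067001004)) (.cD (nat_lit 559) (.kS (nat_lit 0) (nat_lit 0x8018020040002020020000002) (nat_lit 4440) (nat_lit 0x800400e00d) (nat_lit 0x2002000000801002004000400102002000000801802004000f001004)) (.cD (nat_lit 623) (.kS (nat_lit 0) (nat_lit 0x8018020040002020020000002) (nat_lit 4184) (nat_lit 0x800400e00d) (nat_lit 0x2002000000801002004000400102002000000801802004001f001004))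 (.cD (nat_lit 815) (.kS (nat_lit 0) (nat_lit 0x8018020040002020020000002) (nat_lit 0x101838d) (nat_lit 0x800400e00d010008002004007) (nat_lit 0x20020000008010020040004002001020020000008018020040017072001004)) (.cD (nat_lit 879) (.kS (nat_lit 0) (nat_lit 0x8018020040002020020000002) (nat_lit 0x111838d) (nat_lit 0x800400e00d010008002004007) (nat_lit 0x20020000008010020040004002001020020000008018020040007072001004)) .nil))))))))) (.cD (nat_lit 909) (.dfs (nat_lit 23) (nat_lit 0x100800c010020) (nat_lit 0x100800c024014) (nat_lit 0x1004002001) (nat_lit 0x1004036001) (nat_lit 0) (nat_lit 0) (nat_lit 2) (nat_lit 0) (nat_lit 0) (nat_lit 47) (nat_lit 1) (nat_lit 0) (nat_lit 1) (nat_lit 0) (nat_lit 1) (nat_lit 0x8000000000000000800000000000000000000000000000000000000000000000800000000000000080000000000000008000000000000000800000000000000000000000000000000000000000000000800000000000000080000000000000000000000000000000000000000000) (.cD (nat_lit 175) (.kS (nat_lit 0) (nat_lit 0x8018020040002020020000002) (nat_lit 5016) (nat_lit 0x800400e00d)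 (nat_lit 0x20020000008010020040004001020020000008018020040067001004)) (.cD (nat_lit 239) (.kS (nat_lit 0) (nat_lit 0x8018020040002020020000002) (nat_lit 4760) (nat_lit 0x800400e00d) (nat_lit 0x20020000008010020040004001020020000008018020040077001004)) (.cD (nat_lit 431) (.kS (nat_lit 0) (nat_lit 0x8018020040002020020000002) (nat_lit 4824) (nat_lit 0x800400e00d) (nat_lit 0x2002000000801002004000400102002000000801802004007f001004)) (.cD (nat_lit 495) (.kS (nat_lit 0) (nat_lit 0x8018020040002020020000002) (nat_lit 5080) (nat_lit 0x800400e00d) (nat_lit 0x2002000000801002004000400102002000000801802004006f001004)) (.cD (nat_lit 559) (.kS (nat_lit 0) (nat_lit 0x8018020040002020020000002) (nat_lit 0x11183cd) (nat_lit 0x800400e00d010008002004007) (nat_lit 0x2002000000801002004000400200102002000000801802004000707a001004)) (.cD (nat_lit 623) (.kS (nat_lit 0) (nat_lit 0x8018020040002020020000002) (nat_lit 0x10183cd) (nat_lit 0x800400e00d010008002004007) (nat_lit 0x2002000000801002004000400200102002000000801802004001707a001004)) (.cD (nat_lit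 815) (.kS (nat_lit 0) (nat_lit 0x8018020040002020020000002) (nat_lit 4184) (nat_lit 0x800400e00d) (nat_lit 0x2002000000801002004000400102002000000801802004001f001004)) (.cD (nat_lit 879) (.kS (nat_lit 0) (nat_lit 0x8018020040002020020000002) (nat_lit 4440) (nat_lit 0x800400e00d) (nat_lit 0x2002000000801002004000400102002000000801802004000f001004)) .nil))))))))) (.cD (nat_lit 973) (.dfs (nat_lit 23) (nat_lit 0x100800c010020) (nat_lit 0x100800c024014) (nat_lit 0x1004002001) (nat_lit 0x1004036001) (nat_lit 0) (nat_lit 0) (nat_lit 2) (nat_lit 0) (nat_lit 0) (nat_lit 47) (nat_lit 1) (nat_lit 0) (nat_lit 1) (nat_lit 0) (nat_lit 1) (nat_lit 0x8000000000000000800000000000000000000000000000000000000000000000800000000000000080000000000000008000000000000000800000000000000000000000000000000000000000000000800000000000000080000000000000000000000000000000000000000000) (.cD (nat_lit 175) (.kS (nat_lit 0) (nat_lit 0x8018020040002020020000002) (nat_lit 4760) (nat_lit 0x800400e00d) (nat_lit 0x20020000008010020040004001020020000008018020040077001004))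 (.cD (nat_lit 239) (.kS (nat_lit 0) (nat_lit 0x8018020040002020020000002) (nat_lit 5016) (nat_lit 0x800400e00d) (nat_lit 0x20020000008010020040004001020020000008018020040067001004)) (.cD (nat_lit 431) (.kS (nat_lit 0) (nat_lit 0x8018020040002020020000002) (nat_lit 5080) (nat_lit 0x800400e00d) (nat_lit 0x2002000000801002004000400102002000000801802004006f001004)) (.cD (nat_lit 495) (.kS (nat_lit 0) (nat_lit 0x8018020040002020020000002) (nat_lit 4824) (nat_lit 0x800400e00d) (nat_lit 0x2002000000801002004000400102002000000801802004007f001004)) (.cD (nat_lit 559) (.kS (nat_lit 0) (nat_lit 0x8018020040002020020000002) (nat_lit 0x10182cd) (nat_lit 0x800400e00d010008002004007) (nat_lit 0x2002000000801002004000400200102002000000801802004001706a001004)) (.cD (nat_lit 623) (.kS (nat_lit 0) (nat_lit 0x10018020040002001) (nat_lit 0x119a2cd) (nat_lit 0x800400e00d010008002004007) (nat_lit 0x1800802004001707a00100801002004000400200101001802004003306a001003)) (.cD (nat_lit 815) (.kS (nat_lit 0) (nat_lit 0x8018020040002020020000002) (nat_lit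 4440) (nat_lit 0x800400e00d) (nat_lit 0x2002000000801002004000400102002000000801802004000f001004)) (.cD (nat_lit 879) (.kS (nat_lit 0) (nat_lit 0x8018020040002020020000002) (nat_lit 4184) (nat_lit 0x800400e00d) (nat_lit 0x2002000000801002004000400102002000000801802004001f001004)) .nil))))))))) .nil))))))))) (.cD (nat_lit 88) (.kS (nat_lit 0) (nat_lit 0x2004008010001001) (nat_lit 4184) (nat_lit 0x800400e00d) (nat_lit 0x4008010020002003002004008010001002002)) (.cD (nat_lit 664) (.kS (nat_lit 0) (nat_lit 0x2004008010001001) (nat_lit 4760) (nat_lit 0x800400e00d) (nat_lit 0x4008010020002003002004008010001002002)) (.cD (nat_lit 728) (.kS (nat_lit 0) (nat_lit 0x2004008010001001) (nat_lit 4824) (nat_lit 0x800400e00d) (nat_lit 0x4008010020002003002004008010001002002)) .nil))))))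
theorem c48 : (chk [(x24, s47)] [g74] p48).n x24 s48 = true := by decide +kernel

end Cfsg.Lib.D8.T1I
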