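import Cfsg.Agent.Lib.D8.CkZ
import Cfsg.Agent.Lib.D8.T.T1IC0
import Cfsg.Agent.Lib.D8.T.T1IC1
import Cfsg.Agent.Lib.D8.T.T1IC2

/-! The chain (generated, helper29). -/

set_option maxRecDepth 100000
set_option Elab.async false

namespace Cfsg.Lib.D8.T1I

universe u

theorem k0 : TabOK.{u} g0 := .triv
theorem k1 : TabOK.{u} g1 := k0.ext ha0 hb1
theorem k2 : TabOK.{u} g2 := k1.ext ha1 hb2
theorem k3 : TabOK.{u} g3 := k2.ext ha2 hb3
theorem k4 : TabOK.{u} g4 := k3.ext ha3 hb4
theorem k5 : TabOK.{u} g5 := (k4.ext ha4 hb5).tb ht5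
theorem k6 : TabOK.{u} g6 := (k5.ext ha5 hb6).tb ht6
theorem k7 : TabOK.{u} g7 := (k6.ext ha6 hb7).tb ht7
theorem k9 : TabOK.{u} g9 := k7.ext ha7 hb9
theorem k12 : TabOK.{u} g12 := (k3.ext ha9 hb12).tb ht12
theorem k13 : TabOK.{u} g13 := (k12.ext ha10 hb13).tb ht13
theorem k14 : TabOK.{u} g14 := k13.ext ha11 hb14
theorem k15 : TabOK.{u} g15 := k14.ext ha12 hb15
theorem k16 : TabOK.{u} g16 := k15.ext ha13 hb16
theorem k17 : TabOK.{u} g17 := k16.ext ha14 hb17
theorem k18 : TabOK.{u} g18 := k15.ext ha15 hb18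
theorem k19 : TabOK.{u} g19 := k18.ext ha16 hb19
theorem k22 : TabOK.{u} g22 := (k3.ext ha18 hb22).tb ht22
theorem k23 : TabOK.{u} g23 := (k22.ext ha19 hb23).tb ht23
theorem k24 : TabOK.{u} g24 := k23.ext ha20 hb24
theorem k25 : TabOK.{u} g25 := k24.ext ha21 hb25
theorem k26 : TabOK.{u} g26 := k25.ext ha22 hb26
theorem k27 : TabOK.{u} g27 := k26.ext ha23 hb27
theorem k28 : TabOK.{u} g28 := k25.ext ha22 hb28
theorem k29 : TabOK.{u} g29 := k28.ext ha24 hb29
theorem k31 : TabOK.{u} g31 := k9.ext ha25 hb31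
theorem k32 : TabOK.{u} g32 := k2.ext ha26 hb32
theorem k33 : TabOK.{u} g33 := k32.ext ha27 hb33
theorem k34 : TabOK.{u} g34 := (k33.ext ha28 hb34).tb ht34
theorem k35 : TabOK.{u} g35 := k34.ext ha29 hb35
theorem k36 : TabOK.{u} g36 := k35.ext ha30 hb36
theorem k37 : TabOK.{u} g37 := k36.ext ha31 hb37
theorem k38 : TabOK.{u} g38 := k37.ext ha32 hb38
theorem k39 : TabOK.{u} g39 := k2.ext ha26 hb39
theorem k40 : TabOK.{u} g40 := (k39.ext ha33 hb40).tb ht40
theorem k41 : TabOK.{u} g41 := k40.ext ha34 hb41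
theorem k42 : TabOK.{u} g42 := k41.ext ha35 hb42
theorem k43 : TabOK.{u} g43 := k42.ext ha36 hb43
theorem k44 : TabOK.{u} g44 := k43.ext ha37 hb44
theorem k45 : TabOK.{u} g45 := k44.ext ha38 hb45
theorem k50 : TabOK.{u} g50 := (k4.ext ha41 hb50).tb ht50
theorem k51 : TabOK.{u} g51 := k50.ext ha42 hb51
theorem k52 : TabOK.{u} g52 := k51.ext ha43 hb52
theorem k53 : TabOK.{u} g53 := k52.ext ha44 hb53
theorem k54 : TabOK.{u} g54 := k53.ext ha45 hb54
theorem k55 : TabOK.{u} g55 := k54.ext ha46 hb55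
theorem k56 : TabOK.{u} g56 := k2.ext ha2 hb56
theorem k57 : TabOK.{u} g57 := (k56.ext ha47 hb57).tb ht57
theorem k58 : TabOK.{u} g58 := (k57.ext ha48 hb58).tb ht58
theorem k59 : TabOK.{u} g59 := k58.ext ha49 hb59
theorem k60 : TabOK.{u} g60 := k59.ext ha50 hb60
theorem k61 : TabOK.{u} g61 := k60.ext ha51 hb61
theorem k62 : TabOK.{u} g62 := k61.ext ha52 hb62
theorem k63 : TabOK.{u} g63 := k62.ext ha53 hb63
theorem k64 : TabOK.{u} g64 := k7.ext ha54 hb64
theorem k66 : TabOK.{u} g66 := k64.ext ha55 hb66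
theorem k67 : TabOK.{u} g67 := k56.ext ha56 hb67
theorem k68 : TabOK.{u} g68 := (k67.ext ha57 hb68).tb ht68
theorem k69 : TabOK.{u} g69 := k68.ext ha58 hb69
theorem k70 : TabOK.{u} g70 := k69.ext ha59 hb70
theorem k71 : TabOK.{u} g71 := k70.ext ha60 hb71
theorem k72 : TabOK.{u} g72 := k71.ext ha61 hb72
theorem k74 : TabOK.{u} g74 := k66.ext ha62 hb74
theorem k75 : TabOK.{u} g75 := (k4.ext ha63 hb75).tb ht75
theorem k76 : TabOK.{u} g76 := k75.ext ha64 hb76
theorem k77 : TabOK.{u} g77 := k76.ext ha65 hb77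
theorem k78 : TabOK.{u} g78 := k77.ext ha66 hb78
theorem k79 : TabOK.{u} g79 := k78.ext ha67 hb79
theorem k80 : TabOK.{u} g80 := k79.ext ha68 hb80
theorem k89 : TabOK.{u} g89 := k7.ext ha54 hb89
theorem k91 : TabOK.{u} g91 := k89.ext ha73 hb91
theorem k92 : TabOK.{u} g92 := k1.ext ha1 hb92
theorem k93 : TabOK.{u} g93 := k92.ext ha74 hb93
theorem k94 : TabOK.{u} g94 := k93.ext ha75 hb94
theorem k95 : TabOK.{u} g95 := (k94.ext ha76 hb95).tb ht95
theorem k96 : TabOK.{u} g96 := (k95.ext ha77 hb96).tb ht96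
theorem k97 : TabOK.{u} g97 := (k96.ext ha78 hb97).tb ht97
theorem k98 : TabOK.{u} g98 := k97.ext ha79 hb98
theorem k99 : TabOK.{u} g99 := k98.ext ha80 hb99
theorem k101 : TabOK.{u} g101 := k39.ext ha82 hb101
theorem k102 : TabOK.{u} g102 := (k101.ext ha83 hb102).tb ht102
theorem k103 : TabOK.{u} g103 := (k102.ext ha84 hb103).tb ht103
theorem k104 : TabOK.{u} g104 := k103.ext ha85 hb104
theorem k105 : TabOK.{u} g105 := k104.ext ha86 hb105
theorem k106 : TabOK.{u} g106 := k105.ext ha87 hb106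
theorem k107 : TabOK.{u} g107 := k106.ext ha88 hb107
theorem k112 : TabOK.{u} g112 := k3.ext ha91 hb112
theorem k113 : TabOK.{u} g113 := (k112.ext ha92 hb113).tb ht113
theorem k114 : TabOK.{u} g114 := (k113.ext ha93 hb114).tb ht114
theorem k115 : TabOK.{u} g115 := k114.ext ha94 hb115
theorem k116 : TabOK.{u} g116 := k115.ext ha95 hb116
theorem k117 : TabOK.{u} g117 := k116.ext ha96 hb117
theorem k118 : TabOK.{u} g118 := k117.ext ha97 hb118
theorem k119 : TabOK.{u} g119 := k118.ext ha98 hb119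
theorem k120 : TabOK.{u} g120 := k97.ext ha99 hb120
theorem k121 : TabOK.{u} g121 := k120.ext ha100 hb121
theorem k122 : TabOK.{u} g122 := k121.ext ha101 hb122
theorem k123 : TabOK.{u} g123 := k122.ext ha102 hb123
theorem k128 : TabOK.{u} g128 := (k112.ext ha105 hb128).tb ht128
theorem k129 : TabOK.{u} g129 := k128.ext ha106 hb129
theorem k130 : TabOK.{u} g130 := k129.ext ha107 hb130
theorem k131 : TabOK.{u} g131 := k130.ext ha108 hb131
theorem k132 : TabOK.{u} g132 := k131.ext ha109 hb132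
theorem k133 : TabOK.{u} g133 := k132.ext ha110 hb133
theorem k134 : TabOK.{u} g134 := k133.ext ha111 hb134
theorem k135 : TabOK.{u} g135 := k97.ext ha99 hb135
theorem k136 : TabOK.{u} g136 := k135.ext ha112 hb136
theorem k137 : TabOK.{u} g137 := k136.ext ha113 hb137
theorem k138 : TabOK.{u} g138 := k137.ext ha114 hb138
theorem k140 : TabOK.{u} g140 := k105.ext ha116 hb140
theorem k141 : TabOK.{u} g141 := k140.ext ha117 hb141
theorem k146 : TabOK.{u} g146 := (k113.ext ha93 hb146).tb ht146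
theorem k147 : TabOK.{u} g147 := k146.ext ha120 hb147
theorem k148 : TabOK.{u} g148 := k147.ext ha121 hb148
theorem k149 : TabOK.{u} g149 := k148.ext ha122 hb149
theorem k150 : TabOK.{u} g150 := k149.ext ha123 hb150
theorem k151 : TabOK.{u} g151 := k150.ext ha124 hb151
theorem k152 : TabOK.{u} g152 := k3.ext ha3 hb152
theorem k153 : TabOK.{u} g153 := (k152.ext ha125 hb153).tb ht153
theorem k154 : TabOK.{u} g154 := k153.ext ha126 hb154
theorem k155 : TabOK.{u} g155 := k154.ext ha127 hb155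
theorem k156 : TabOK.{u} g156 := k155.ext ha128 hb156
theorem k157 : TabOK.{u} g157 := k156.ext ha129 hb157
theorem k158 : TabOK.{u} g158 := k157.ext ha130 hb158
theorem k159 : TabOK.{u} g159 := k158.ext ha131 hb159
theorem k164 : TabOK.{u} g164 := k113.ext ha134 hb164
theorem k165 : TabOK.{u} g165 := k164.ext ha135 hb165
theorem k166 : TabOK.{u} g166 := k165.ext ha136 hb166
theorem k167 : TabOK.{u} g167 := k166.ext ha137 hb167
theorem k168 : TabOK.{u} g168 := k167.ext ha138 hb168
theorem k169 : TabOK.{u} g169 := k168.ext ha139 hb169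
theorem k170 : TabOK.{u} g170 := k102.ext ha140 hb170
theorem k171 : TabOK.{u} g171 := k170.ext ha141 hb171
theorem k172 : TabOK.{u} g172 := k171.ext ha142 hb172
theorem k173 : TabOK.{u} g173 := k172.ext ha143 hb173
theorem k174 : TabOK.{u} g174 := k173.ext ha144 hb174
theorem k175 : TabOK.{u} g175 := k174.ext ha145 hb175
theorem k176 : TabOK.{u} g176 := k91.ext ha146 hb176
theorem k177 : TabOK.{u} g177 := (k113.ext ha147 hb177).tb ht177
theorem k178 : TabOK.{u} g178 := (k177.ext ha148 hb178).tb ht178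
theorem k179 : TabOK.{u} g179 := k178.ext ha149 hb179
theorem k180 : TabOK.{u} g180 := k179.ext ha150 hb180
theorem k181 : TabOK.{u} g181 := k180.ext ha151 hb181
theorem k184 : TabOK.{u} g184 := k180.ext ha153 hb184
theorem k185 : TabOK.{u} g185 := k184.ext ha154 hb185
theorem k186 : TabOK.{u} g186 := k179.ext ha155 hb186
theorem k187 : TabOK.{u} g187 := k186.ext ha156 hb187
theorem k188 : TabOK.{u} g188 := k187.ext ha157 hb188
theorem k191 : TabOK.{u} g191 := k180.ext ha159 hb191
theorem k192 : TabOK.{u} g192 := k191.ext ha160 hb192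
theorem k193 : TabOK.{u} g193 := k186.ext ha161 hb193
theorem k194 : TabOK.{u} g194 := k193.ext ha162 hb194
theorem k197 : TabOK.{u} g197 := k39.ext ha164 hb197
theorem k198 : TabOK.{u} g198 := (k197.ext ha165 hb198).tb ht198
theorem k199 : TabOK.{u} g199 := (k198.ext ha166 hb199).tb ht199
theorem k200 : TabOK.{u} g200 := k199.ext ha167 hb200
theorem k201 : TabOK.{u} g201 := k200.ext ha168 hb201
theorem k202 : TabOK.{u} g202 := k201.ext ha169 hb202
theorem k203 : TabOK.{u} g203 := k202.ext ha170 hb203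
theorem k204 : TabOK.{u} g204 := k203.ext ha171 hb204
theorem k205 : TabOK.{u} g205 := k179.ext ha172 hb205
theorem k206 : TabOK.{u} g206 := k205.ext ha173 hb206
theorem k207 : TabOK.{u} g207 := k206.ext ha174 hb207
theorem k210 : TabOK.{u} g210 := k202.ext ha176 hb210
theorem k211 : TabOK.{u} g211 := k210.ext ha177 hb211
theorem k212 : TabOK.{u} g212 := k205.ext ha178 hb212
theorem k213 : TabOK.{u} g213 := k212.ext ha179 hb213
theorem k216 : TabOK.{u} g216 := k179.ext ha181 hb216
theorem k217 : TabOK.{u} g217 := k216.ext ha182 hb217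
theorem k218 : TabOK.{u} g218 := k217.ext ha183 hb218
theorem k219 : TabOK.{u} g219 := k179.ext ha181 hb219
theorem k220 : TabOK.{u} g220 := k219.ext ha184 hb220
theorem k221 : TabOK.{u} g221 := k220.ext ha185 hb221
theorem k224 : TabOK.{u} g224 := k216.ext ha187 hb224
theorem k225 : TabOK.{u} g225 := k224.ext ha188 hb225
theorem k226 : TabOK.{u} g226 := k219.ext ha189 hb226
theorem k227 : TabOK.{u} g227 := k226.ext ha190 hb227
theorem k230 : TabOK.{u} g230 := (k113.ext ha192 hb230).tb ht230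
theorem k231 : TabOK.{u} g231 := k230.ext ha193 hb231
theorem k232 : TabOK.{u} g232 := k231.ext ha194 hb232
theorem k233 : TabOK.{u} g233 := k232.ext ha195 hb233
theorem k234 : TabOK.{u} g234 := k233.ext ha196 hb234
theorem k235 : TabOK.{u} g235 := k234.ext ha197 hb235
theorem k236 : TabOK.{u} g236 := (k113.ext ha192 hb236).tb ht236
theorem k237 : TabOK.{u} g237 := k236.ext ha198 hb237
theorem k238 : TabOK.{u} g238 := k237.ext ha199 hb238
theorem k239 : TabOK.{u} g239 := k238.ext ha200 hb239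
theorem k240 : TabOK.{u} g240 := k239.ext ha201 hb240
theorem k241 : TabOK.{u} g241 := k240.ext ha202 hb241
theorem k244 : TabOK.{u} g244 := k239.ext ha204 hb244
theorem k245 : TabOK.{u} g245 := k244.ext ha205 hb245
theorem k246 : TabOK.{u} g246 := k233.ext ha206 hb246
theorem k247 : TabOK.{u} g247 := k246.ext ha207 hb247
theorem k250 : TabOK.{u} g250 := (k113.ext ha209 hb250).tb ht250
theorem k251 : TabOK.{u} g251 := k250.ext ha210 hb251
theorem k252 : TabOK.{u} g252 := k251.ext ha211 hb252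
theorem k253 : TabOK.{u} g253 := k252.ext ha212 hb253
theorem k254 : TabOK.{u} g254 := k253.ext ha213 hb254
theorem k255 : TabOK.{u} g255 := k254.ext ha214 hb255
theorem k256 : TabOK.{u} g256 := (k112.ext ha215 hb256).tb ht256
theorem k257 : TabOK.{u} g257 := (k256.ext ha216 hb257).tb ht257
theorem k258 : TabOK.{u} g258 := k257.ext ha217 hb258
theorem k259 : TabOK.{u} g259 := k258.ext ha218 hb259
theorem k260 : TabOK.{u} g260 := k259.ext ha219 hb260
theorem k261 : TabOK.{u} g261 := k260.ext ha220 hb261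
theorem k262 : TabOK.{u} g262 := k261.ext ha221 hb262
theorem k265 : TabOK.{u} g265 := k260.ext ha223 hb265
theorem k266 : TabOK.{u} g266 := k265.ext ha224 hb266
theorem k267 : TabOK.{u} g267 := k253.ext ha225 hb267
theorem k268 : TabOK.{u} g268 := k267.ext ha226 hb268
theorem k271 : TabOK.{u} g271 := (k128.ext ha228 hb271).tb ht271
theorem k272 : TabOK.{u} g272 := k271.ext ha229 hb272
theorem k273 : TabOK.{u} g273 := k272.ext ha230 hb273
theorem k274 : TabOK.{u} g274 := k273.ext ha231 hb274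
theorem k275 : TabOK.{u} g275 := k274.ext ha232 hb275
theorem k276 : TabOK.{u} g276 := k275.ext ha233 hb276
theorem k277 : TabOK.{u} g277 := (k112.ext ha234 hb277).tb ht277
theorem k278 : TabOK.{u} g278 := k277.ext ha235 hb278
theorem k279 : TabOK.{u} g279 := k278.ext ha236 hb279
theorem k280 : TabOK.{u} g280 := k279.ext ha237 hb280
theorem k281 : TabOK.{u} g281 := k280.ext ha238 hb281
theorem k282 : TabOK.{u} g282 := k281.ext ha239 hb282
theorem k283 : TabOK.{u} g283 := k282.ext ha240 hb283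
theorem k286 : TabOK.{u} g286 := k39.ext ha242 hb286
theorem k287 : TabOK.{u} g287 := (k286.ext ha243 hb287).tb ht287
theorem k288 : TabOK.{u} g288 := k287.ext ha244 hb288
theorem k289 : TabOK.{u} g289 := k288.ext ha245 hb289
theorem k290 : TabOK.{u} g290 := k289.ext ha246 hb290
theorem k291 : TabOK.{u} g291 := k290.ext ha247 hb291
theorem k292 : TabOK.{u} g292 := k291.ext ha248 hb292
theorem k293 : TabOK.{u} g293 := k292.ext ha249 hb293
theorem k294 : TabOK.{u} g294 := k274.ext ha250 hb294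
theorem k295 : TabOK.{u} g295 := k294.ext ha251 hb295
theorem k298 : TabOK.{u} g298 := k114.ext ha253 hb298
theorem k299 : TabOK.{u} g299 := k298.ext ha254 hb299
theorem k300 : TabOK.{u} g300 := k299.ext ha255 hb300
theorem k301 : TabOK.{u} g301 := k300.ext ha256 hb301
theorem k302 : TabOK.{u} g302 := k301.ext ha257 hb302
theorem k303 : TabOK.{u} g303 := k146.ext ha258 hb303
theorem k304 : TabOK.{u} g304 := k303.ext ha259 hb304
theorem k305 : TabOK.{u} g305 := k304.ext ha260 hb305
theorem k306 : TabOK.{u} g306 := k305.ext ha261 hb306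
theorem k307 : TabOK.{u} g307 := k306.ext ha262 hb307
theorem k310 : TabOK.{u} g310 := k305.ext ha264 hb310
theorem k311 : TabOK.{u} g311 := k310.ext ha265 hb311
theorem k312 : TabOK.{u} g312 := k300.ext ha266 hb312
theorem k313 : TabOK.{u} g313 := k312.ext ha267 hb313
theorem k316 : TabOK.{u} g316 := k103.ext ha269 hb316
theorem k317 : TabOK.{u} g317 := k316.ext ha270 hb317
theorem k318 : TabOK.{u} g318 := k317.ext ha271 hb318
theorem k319 : TabOK.{u} g319 := k318.ext ha272 hb319
theorem k324 : TabOK.{u} g324 := k97.ext ha275 hb324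
theorem k325 : TabOK.{u} g325 := k324.ext ha276 hb325
theorem k326 : TabOK.{u} g326 := k325.ext ha277 hb326
theorem k327 : TabOK.{u} g327 := k326.ext ha278 hb327
theorem k328 : TabOK.{u} g328 := k3.ext ha279 hb328
theorem k329 : TabOK.{u} g329 := (k328.ext ha280 hb329).tb ht329
theorem k330 : TabOK.{u} g330 := (k329.ext ha281 hb330).tb ht330
theorem k331 : TabOK.{u} g331 := k330.ext ha282 hb331
theorem k332 : TabOK.{u} g332 := k331.ext ha283 hb332
theorem k333 : TabOK.{u} g333 := k332.ext ha284 hb333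
theorem k334 : TabOK.{u} g334 := k333.ext ha285 hb334
theorem k335 : TabOK.{u} g335 := k334.ext ha286 hb335
theorem k340 : TabOK.{u} g340 := (k328.ext ha289 hb340).tb ht340
theorem k341 : TabOK.{u} g341 := k340.ext ha290 hb341
theorem k342 : TabOK.{u} g342 := k341.ext ha291 hb342
theorem k343 : TabOK.{u} g343 := k342.ext ha292 hb343
theorem k344 : TabOK.{u} g344 := k343.ext ha293 hb344
theorem k345 : TabOK.{u} g345 := k344.ext ha294 hb345
theorem k346 : TabOK.{u} g346 := k345.ext ha295 hb346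
theorem k347 : TabOK.{u} g347 := k325.ext ha296 hb347
theorem k348 : TabOK.{u} g348 := k347.ext ha297 hb348
theorem k350 : TabOK.{u} g350 := k97.ext ha298 hb350
theorem k351 : TabOK.{u} g351 := k350.ext ha299 hb351
theorem k352 : TabOK.{u} g352 := k351.ext ha300 hb352
theorem k357 : TabOK.{u} g357 := (k329.ext ha281 hb357).tb ht357
theorem k358 : TabOK.{u} g358 := k357.ext ha303 hb358
theorem k359 : TabOK.{u} g359 := k358.ext ha304 hb359
theorem k360 : TabOK.{u} g360 := k359.ext ha305 hb360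
theorem k361 : TabOK.{u} g361 := k360.ext ha306 hb361
theorem k362 : TabOK.{u} g362 := k361.ext ha307 hb362
theorem k363 : TabOK.{u} g363 := k351.ext ha308 hb363
theorem k364 : TabOK.{u} g364 := k363.ext ha309 hb364
theorem k369 : TabOK.{u} g369 := k351.ext ha312 hb369
theorem k370 : TabOK.{u} g370 := k369.ext ha313 hb370
theorem k371 : TabOK.{u} g371 := k329.ext ha314 hb371
theorem k372 : TabOK.{u} g372 := k371.ext ha315 hb372
theorem k373 : TabOK.{u} g373 := k372.ext ha316 hb373
theorem k374 : TabOK.{u} g374 := k373.ext ha317 hb374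
theorem k375 : TabOK.{u} g375 := k374.ext ha318 hb375
theorem k376 : TabOK.{u} g376 := k375.ext ha319 hb376
theorem k378 : TabOK.{u} g378 := k316.ext ha321 hb378
theorem k379 : TabOK.{u} g379 := k378.ext ha322 hb379
theorem k380 : TabOK.{u} g380 := k379.ext ha323 hb380
theorem k383 : TabOK.{u} g383 := k102.ext ha325 hb383
theorem k384 : TabOK.{u} g384 := k383.ext ha326 hb384
theorem k385 : TabOK.{u} g385 := k384.ext ha327 hb385
theorem k386 : TabOK.{u} g386 := k385.ext ha328 hb386
theorem k387 : TabOK.{u} g387 := k386.ext ha329 hb387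
theorem k388 : TabOK.{u} g388 := k387.ext ha330 hb388
theorem k389 : TabOK.{u} g389 := k360.ext ha331 hb389
theorem k390 : TabOK.{u} g390 := k389.ext ha332 hb390
theorem k395 : TabOK.{u} g395 := k153.ext ha335 hb395
theorem k396 : TabOK.{u} g396 := k395.ext ha336 hb396
theorem k397 : TabOK.{u} g397 := k396.ext ha337 hb397
theorem k398 : TabOK.{u} g398 := k397.ext ha338 hb398
theorem k399 : TabOK.{u} g399 := k398.ext ha339 hb399
theorem k400 : TabOK.{u} g400 := k399.ext ha340 hb400
theorem k401 : TabOK.{u} g401 := k39.ext ha341 hb401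
theorem k402 : TabOK.{u} g402 := (k401.ext ha342 hb402).tb ht402
theorem k403 : TabOK.{u} g403 := k402.ext ha343 hb403
theorem k404 : TabOK.{u} g404 := k403.ext ha344 hb404
theorem k405 : TabOK.{u} g405 := k404.ext ha345 hb405
theorem k406 : TabOK.{u} g406 := k405.ext ha346 hb406
theorem k407 : TabOK.{u} g407 := k406.ext ha347 hb407
theorem k408 : TabOK.{u} g408 := k407.ext ha348 hb408
theorem k412 : TabOK.{u} g412 := k97.ext ha350 hb412
theorem k413 : TabOK.{u} g413 := k412.ext ha351 hb413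
theorem k414 : TabOK.{u} g414 := k413.ext ha352 hb414
theorem k417 : TabOK.{u} g417 := k333.ext ha354 hb417
theorem k418 : TabOK.{u} g418 := k417.ext ha355 hb418
theorem k419 : TabOK.{u} g419 := k97.ext ha356 hb419
theorem k420 : TabOK.{u} g420 := k419.ext ha357 hb420
theorem k421 : TabOK.{u} g421 := k420.ext ha358 hb421
theorem k422 : TabOK.{u} g422 := k421.ext ha359 hb422
theorem k427 : TabOK.{u} g427 := k420.ext ha362 hb427
theorem k428 : TabOK.{u} g428 := k427.ext ha363 hb428
theorem k429 : TabOK.{u} g429 := k340.ext ha364 hb429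
theorem k430 : TabOK.{u} g430 := k429.ext ha365 hb430
theorem k431 : TabOK.{u} g431 := k430.ext ha366 hb431
theorem k432 : TabOK.{u} g432 := k431.ext ha367 hb432
theorem k433 : TabOK.{u} g433 := k432.ext ha368 hb433
theorem k434 : TabOK.{u} g434 := k433.ext ha369 hb434
theorem k438 : TabOK.{u} g438 := k97.ext ha275 hb438
theorem k439 : TabOK.{u} g439 := k438.ext ha372 hb439
theorem k440 : TabOK.{u} g440 := k439.ext ha373 hb440
theorem k443 : TabOK.{u} g443 := k3.ext ha375 hb443
theorem k444 : TabOK.{u} g444 := (k443.ext ha376 hb444).tb ht444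
theorem k445 : TabOK.{u} g445 := (k444.ext ha377 hb445).tb ht445
theorem k446 : TabOK.{u} g446 := k445.ext ha378 hb446
theorem k447 : TabOK.{u} g447 := k446.ext ha379 hb447
theorem k448 : TabOK.{u} g448 := k447.ext ha380 hb448
theorem k449 : TabOK.{u} g449 := k448.ext ha381 hb449
theorem k450 : TabOK.{u} g450 := k449.ext ha382 hb450
theorem k451 : TabOK.{u} g451 := k439.ext ha383 hb451
theorem k452 : TabOK.{u} g452 := k451.ext ha384 hb452
theorem k457 : TabOK.{u} g457 := k439.ext ha387 hb457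
theorem k458 : TabOK.{u} g458 := k457.ext ha388 hb458
theorem k459 : TabOK.{u} g459 := (k444.ext ha389 hb459).tb ht459
theorem k460 : TabOK.{u} g460 := k459.ext ha390 hb460
theorem k461 : TabOK.{u} g461 := k460.ext ha391 hb461
theorem k462 : TabOK.{u} g462 := k461.ext ha392 hb462
theorem k463 : TabOK.{u} g463 := k462.ext ha393 hb463
theorem k464 : TabOK.{u} g464 := k463.ext ha394 hb464
theorem k468 : TabOK.{u} g468 := k324.ext ha396 hb468
theorem k469 : TabOK.{u} g469 := k468.ext ha397 hb469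
theorem k472 : TabOK.{u} g472 := k468.ext ha399 hb472
theorem k473 : TabOK.{u} g473 := k472.ext ha400 hb473
theorem k474 : TabOK.{u} g474 := (k443.ext ha401 hb474).tb ht474
theorem k475 : TabOK.{u} g475 := (k474.ext ha402 hb475).tb ht475
theorem k476 : TabOK.{u} g476 := k475.ext ha403 hb476
theorem k477 : TabOK.{u} g477 := k476.ext ha404 hb477
theorem k478 : TabOK.{u} g478 := k477.ext ha405 hb478
theorem k479 : TabOK.{u} g479 := k478.ext ha406 hb479
theorem k480 : TabOK.{u} g480 := k479.ext ha407 hb480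
theorem k485 : TabOK.{u} g485 := (k444.ext ha389 hb485).tb ht485
theorem k486 : TabOK.{u} g486 := k485.ext ha410 hb486
theorem k487 : TabOK.{u} g487 := k486.ext ha411 hb487
theorem k488 : TabOK.{u} g488 := k487.ext ha412 hb488
theorem k489 : TabOK.{u} g489 := k488.ext ha413 hb489
theorem k490 : TabOK.{u} g490 := k489.ext ha414 hb490
theorem k491 : TabOK.{u} g491 := k468.ext ha415 hb491
theorem k492 : TabOK.{u} g492 := k491.ext ha416 hb492
theorem k496 : TabOK.{u} g496 := k419.ext ha419 hb496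
theorem k497 : TabOK.{u} g497 := k496.ext ha420 hb497
theorem k502 : TabOK.{u} g502 := k478.ext ha423 hb502
theorem k503 : TabOK.{u} g503 := k502.ext ha424 hb503
theorem k504 : TabOK.{u} g504 := k496.ext ha425 hb504
theorem k505 : TabOK.{u} g505 := k504.ext ha426 hb505
theorem k510 : TabOK.{u} g510 := k102.ext ha429 hb510
theorem k511 : TabOK.{u} g511 := k510.ext ha430 hb511
theorem k512 : TabOK.{u} g512 := k511.ext ha431 hb512
theorem k513 : TabOK.{u} g513 := k512.ext ha432 hb513
theorem k514 : TabOK.{u} g514 := k513.ext ha433 hb514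
theorem k515 : TabOK.{u} g515 := k514.ext ha434 hb515
theorem k516 : TabOK.{u} g516 := k488.ext ha435 hb516
theorem k517 : TabOK.{u} g517 := k516.ext ha436 hb517
theorem k519 : TabOK.{u} g519 := k97.ext ha356 hb519
theorem k520 : TabOK.{u} g520 := k519.ext ha437 hb520
theorem k521 : TabOK.{u} g521 := k520.ext ha438 hb521
theorem k526 : TabOK.{u} g526 := k102.ext ha441 hb526
theorem k527 : TabOK.{u} g527 := k526.ext ha442 hb527
theorem k528 : TabOK.{u} g528 := k527.ext ha443 hb528
theorem k529 : TabOK.{u} g529 := k528.ext ha444 hb529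
theorem k530 : TabOK.{u} g530 := k529.ext ha445 hb530
theorem k531 : TabOK.{u} g531 := k530.ext ha446 hb531
theorem k532 : TabOK.{u} g532 := k448.ext ha447 hb532
theorem k533 : TabOK.{u} g533 := k532.ext ha448 hb533
theorem k538 : TabOK.{u} g538 := k462.ext ha451 hb538
theorem k539 : TabOK.{u} g539 := k538.ext ha452 hb539
theorem k540 : TabOK.{u} g540 := k520.ext ha453 hb540
theorem k541 : TabOK.{u} g541 := k540.ext ha454 hb541
theorem k544 : TabOK.{u} g544 := (k4.ext ha456 hb544).tb ht544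
theorem k545 : TabOK.{u} g545 := k544.ext ha457 hb545
theorem k546 : TabOK.{u} g546 := k545.ext ha458 hb546
theorem k547 : TabOK.{u} g547 := k546.ext ha459 hb547
theorem k548 : TabOK.{u} g548 := k547.ext ha460 hb548
theorem k549 : TabOK.{u} g549 := k548.ext ha461 hb549
theorem k550 : TabOK.{u} g550 := k544.ext ha462 hb550
theorem k551 : TabOK.{u} g551 := k550.ext ha463 hb551
theorem k552 : TabOK.{u} g552 := k551.ext ha464 hb552
theorem k553 : TabOK.{u} g553 := k552.ext ha465 hb553
theorem k554 : TabOK.{u} g554 := k553.ext ha466 hb554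
theorem k557 : TabOK.{u} g557 := k544.ext ha468 hb557
theorem k558 : TabOK.{u} g558 := k557.ext ha469 hb558
theorem k559 : TabOK.{u} g559 := k558.ext ha470 hb559
theorem k560 : TabOK.{u} g560 := k559.ext ha471 hb560
theorem k561 : TabOK.{u} g561 := k560.ext ha472 hb561
theorem k562 : TabOK.{u} g562 := k544.ext ha468 hb562
theorem k563 : TabOK.{u} g563 := k562.ext ha473 hb563
theorem k564 : TabOK.{u} g564 := k563.ext ha474 hb564
theorem k565 : TabOK.{u} g565 := k564.ext ha475 hb565
theorem k566 : TabOK.{u} g566 := k565.ext ha476 hb566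
theorem k568 : TabOK.{u} g568 := k545.ext ha477 hb568
theorem k569 : TabOK.{u} g569 := k568.ext ha478 hb569
theorem k570 : TabOK.{u} g570 := k569.ext ha479 hb570
theorem k571 : TabOK.{u} g571 := k570.ext ha480 hb571
theorem k573 : TabOK.{u} g573 := k544.ext ha481 hb573
theorem k574 : TabOK.{u} g574 := k573.ext ha482 hb574
theorem k575 : TabOK.{u} g575 := k574.ext ha483 hb575
theorem k576 : TabOK.{u} g576 := k575.ext ha484 hb576
theorem k577 : TabOK.{u} g577 := k576.ext ha485 hb577
theorem k586 : TabOK.{u} g586 := k6.ext ha490 hb586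
theorem k587 : TabOK.{u} g587 := k586.ext ha491 hb587
theorem k588 : TabOK.{u} g588 := k587.ext ha492 hb588
theorem k589 : TabOK.{u} g589 := k3.ext ha18 hb589
theorem k590 : TabOK.{u} g590 := (k589.ext ha493 hb590).tb ht590
theorem k591 : TabOK.{u} g591 := k590.ext ha494 hb591
theorem k592 : TabOK.{u} g592 := k591.ext ha495 hb592
theorem k593 : TabOK.{u} g593 := k592.ext ha496 hb593
theorem k594 : TabOK.{u} g594 := k593.ext ha497 hb594
theorem k595 : TabOK.{u} g595 := k587.ext ha492 hb595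
theorem k600 : TabOK.{u} g600 := k587.ext ha500 hb600
theorem k605 : TabOK.{u} g605 := (k56.ext ha502 hb605).tb ht605
theorem k606 : TabOK.{u} g606 := k605.ext ha503 hb606
theorem k607 : TabOK.{u} g607 := k606.ext ha504 hb607
theorem k608 : TabOK.{u} g608 := k607.ext ha505 hb608
theorem k609 : TabOK.{u} g609 := k608.ext ha506 hb609
theorem k610 : TabOK.{u} g610 := k443.ext ha507 hb610
theorem k611 : TabOK.{u} g611 := k610.ext ha508 hb611
theorem k612 : TabOK.{u} g612 := k611.ext ha509 hb612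
theorem k613 : TabOK.{u} g613 := k612.ext ha510 hb613
theorem k614 : TabOK.{u} g614 := k6.ext ha511 hb614
theorem k615 : TabOK.{u} g615 := k6.ext ha512 hb615
theorem v0 : Valid.{u} x0 s0 := chk_ok .nil .nil c0
theorem v1 : Valid.{u} x1 s1 := chk_ok .nil (.cons k609 (.cons k613 .nil)) c1
theorem v2 : Valid.{u} x1 s2 := chk_ok (.cons v1 .nil) .nil c2
theorem v3 : Valid.{u} x5 s3 := chk_ok .nil .nil c3
theorem v4 : Valid.{u} x5 s4 := chk_ok (.cons v3 .nil) .nil c4
theorem v5 : Valid.{u} x5 s5 := chk_ok (.cons v4 .nil) (.cons k600 .nil) c5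
theorem v6 : Valid.{u} x5 s6 := chk_ok (.cons v5 .nil) .nil c6
theorem v7 : Valid.{u} x6 s7 := chk_ok .nil .nil c7
theorem v8 : Valid.{u} x6 s8 := chk_ok (.cons v7 .nil) .nil c8
theorem v9 : Valid.{u} x4 s9 := chk_ok (.cons v6 (.cons v8 .nil)) .nil c9
theorem v10 : Valid.{u} x4 s10 := chk_ok (.cons v9 .nil) .nil c10
theorem v11 : Valid.{u} x7 s11 := chk_ok .nil .nil c11
theorem v12 : Valid.{u} x8 s12 := chk_ok .nil .nil c12
theorem v13 : Valid.{u} x4 s13 := chk_ok (.cons v11 (.cons v12 .nil)) (.cons k595 .nil) c13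
theorem v14 : Valid.{u} x4 s14 := chk_ok (.cons v13 .nil) .nil c14
theorem v15 : Valid.{u} x4 s15 := chk_ok (.cons v10 (.cons v14 .nil)) .nil c15
theorem v16 : Valid.{u} x4 s16 := chk_ok (.cons v15 .nil) .nil c16
theorem v17 : Valid.{u} x9 s17 := chk_ok .nil .nil c17
theorem v18 : Valid.{u} x10 s18 := chk_ok .nil .nil c18
theorem v19 : Valid.{u} x4 s19 := chk_ok (.cons v17 (.cons v18 .nil)) .nil c19
theorem v20 : Valid.{u} x4 s20 := chk_ok (.cons v19 .nil) .nil c20
theorem v21 : Valid.{u} x11 s21 := chk_ok .nil (.cons k594 .nil) c21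
theorem v22 : Valid.{u} x11 s22 := chk_ok (.cons v21 .nil) .nil c22
theorem v23 : Valid.{u} x11 s23 := chk_ok (.cons v22 .nil) (.cons k588 .nil) c23
theorem v24 : Valid.{u} x11 s24 := chk_ok (.cons v23 .nil) .nil c24
theorem v25 : Valid.{u} x8 s25 := chk_ok (.cons v12 .nil) .nil c25
theorem v26 : Valid.{u} x4 s26 := chk_ok (.cons v24 (.cons v25 .nil)) .nil c26
theorem v27 : Valid.{u} x4 s27 := chk_ok (.cons v26 .nil) .nil c27
theorem v28 : Valid.{u} x4 s28 := chk_ok (.cons v20 (.cons v27 .nil)) .nil c28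
theorem v29 : Valid.{u} x4 s29 := chk_ok (.cons v28 .nil) .nil c29
theorem v30 : Valid.{u} x4 s30 := chk_ok (.cons v16 (.cons v29 .nil)) .nil c30
theorem v31 : Valid.{u} x4 s31 := chk_ok (.cons v30 .nil) (.cons k587 .nil) c31
theorem v32 : Valid.{u} x13 s32 := chk_ok .nil .nil c32
theorem v33 : Valid.{u} x1 s33 := chk_ok (.cons v31 (.cons v32 .nil)) .nil c33
theorem v34 : Valid.{u} x1 s34 := chk_ok (.cons v33 .nil) .nil c34
theorem v35 : Valid.{u} x1 s35 := chk_ok (.cons v2 (.cons v34 .nil)) .nil c35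
theorem v36 : Valid.{u} x1 s36 := chk_ok (.cons v35 .nil) .nil c36
theorem v37 : Valid.{u} x14 s37 := chk_ok .nil .nil c37
theorem v38 : Valid.{u} x14 s38 := chk_ok (.cons v37 .nil) .nil c38
theorem v39 : Valid.{u} x15 s39 := chk_ok .nil .nil c39
theorem v40 : Valid.{u} x18 s40 := chk_ok .nil .nil c40
theorem v41 : Valid.{u} x19 s41 := chk_ok .nil .nil c41
theorem v42 : Valid.{u} x17 s42 := chk_ok (.cons v40 (.cons v41 .nil)) .nil c42
theorem v43 : Valid.{u} x20 s43 := chk_ok .nil .nil c43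
theorem v44 : Valid.{u} x21 s44 := chk_ok .nil (.cons k72 .nil) c44
theorem v45 : Valid.{u} x23 s45 := chk_ok .nil .nil c45
theorem v46 : Valid.{u} x24 s46 := chk_ok .nil (.cons k80 .nil) c46
theorem v47 : Valid.{u} x24 s47 := chk_ok (.cons v46 .nil) .nil c47
theorem v48 : Valid.{u} x24 s48 := chk_ok (.cons v47 .nil) (.cons k74 .nil) c48
theorem v49 : Valid.{u} x21 s49 := chk_ok (.cons v44 (.cons v45 (.cons v48 .nil))) .nil c49
theorem v50 : Valid.{u} x21 s50 := chk_ok (.cons v49 .nil) (.cons k66 .nil) c50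
theorem v51 : Valid.{u} x17 s51 := chk_ok (.cons v43 (.cons v50 .nil)) .nil c51
theorem v52 : Valid.{u} x17 s52 := chk_ok (.cons v42 (.cons v51 .nil)) .nil c52
theorem v53 : Valid.{u} x27 s53 := chk_ok .nil .nil c53
theorem v54 : Valid.{u} x28 s54 := chk_ok .nil .nil c54
theorem v55 : Valid.{u} x26 s55 := chk_ok (.cons v53 (.cons v54 .nil)) .nil c55
theorem v56 : Valid.{u} x29 s56 := chk_ok .nil .nil c56
theorem v57 : Valid.{u} x30 s57 := chk_ok .nil (.cons k99 .nil) c57
theorem v58 : Valid.{u} x32 s58 := chk_ok .nil (.cons k497 .nil) c58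
theorem v59 : Valid.{u} x32 s59 := chk_ok .nil (.cons k515 (.cons k517 (.cons k503 (.cons k505 .nil)))) c59
theorem v60 : Valid.{u} x32 s60 := chk_ok (.cons v58 (.cons v59 .nil)) .nil c60
theorem v61 : Valid.{u} x38 s61 := chk_ok .nil (.cons k521 .nil) c61
theorem v62 : Valid.{u} x38 s62 := chk_ok .nil (.cons k539 (.cons k541 (.cons k531 (.cons k533 .nil)))) c62
theorem v63 : Valid.{u} x38 s63 := chk_ok (.cons v61 (.cons v62 .nil)) .nil c63
theorem v64 : Valid.{u} x44 s64 := chk_ok .nil (.cons k440 .nil) c64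
theorem v65 : Valid.{u} x44 s65 := chk_ok .nil (.cons k458 (.cons k464 (.cons k450 (.cons k452 .nil)))) c65
theorem v66 : Valid.{u} x44 s66 := chk_ok (.cons v64 (.cons v65 .nil)) .nil c66
theorem v67 : Valid.{u} x50 s67 := chk_ok .nil (.cons k469 .nil) c67
theorem v68 : Valid.{u} x50 s68 := chk_ok .nil (.cons k490 (.cons k492 (.cons k473 (.cons k480 .nil)))) c68
theorem v69 : Valid.{u} x50 s69 := chk_ok (.cons v67 (.cons v68 .nil)) .nil c69
theorem v70 : Valid.{u} x56 s70 := chk_ok .nil (.cons k380 .nil) c70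
theorem v71 : Valid.{u} x56 s71 := chk_ok .nil (.cons k400 (.cons k408 (.cons k388 (.cons k390 .nil)))) c71
theorem v72 : Valid.{u} x56 s72 := chk_ok (.cons v70 (.cons v71 .nil)) .nil c72
theorem v73 : Valid.{u} x62 s73 := chk_ok .nil (.cons k414 .nil) c73
theorem v74 : Valid.{u} x62 s74 := chk_ok .nil (.cons k428 (.cons k434 (.cons k418 (.cons k422 .nil)))) c74
theorem v75 : Valid.{u} x62 s75 := chk_ok (.cons v73 (.cons v74 .nil)) .nil c75
theorem v76 : Valid.{u} x68 s76 := chk_ok .nil (.cons k319 .nil) c76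
theorem v77 : Valid.{u} x68 s77 := chk_ok .nil (.cons k346 (.cons k348 (.cons k327 (.cons k335 .nil)))) c77
theorem v78 : Valid.{u} x68 s78 := chk_ok (.cons v76 (.cons v77 .nil)) .nil c78
theorem v79 : Valid.{u} x74 s79 := chk_ok .nil (.cons k352 .nil) c79
theorem v80 : Valid.{u} x74 s80 := chk_ok .nil (.cons k370 (.cons k376 (.cons k362 (.cons k364 .nil)))) c80
theorem v81 : Valid.{u} x74 s81 := chk_ok (.cons v79 (.cons v80 .nil)) .nil c81
theorem v82 : Valid.{u} x80 s82 := chk_ok .nil (.cons k181 .nil) c82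
theorem v83 : Valid.{u} x80 s83 := chk_ok .nil (.cons k293 (.cons k295 (.cons k276 (.cons k283 .nil)))) c83
theorem v84 : Valid.{u} x80 s84 := chk_ok (.cons v83 .nil) (.cons k311 (.cons k313 (.cons k302 (.cons k307 .nil)))) c84
theorem v85 : Valid.{u} x80 s85 := chk_ok .nil (.cons k245 (.cons k247 (.cons k235 (.cons k241 .nil)))) c85
theorem v86 : Valid.{u} x80 s86 := chk_ok (.cons v84 (.cons v85 .nil)) (.cons k266 (.cons k268 (.cons k255 (.cons k262 .nil)))) c86
theorem v87 : Valid.{u} x80 s87 := chk_ok .nil (.cons k211 (.cons k213 (.cons k204 (.cons k207 .nil)))) c87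
theorem v88 : Valid.{u} x80 s88 := chk_ok .nil (.cons k192 (.cons k194 (.cons k185 (.cons k188 .nil)))) c88
theorem v89 : Valid.{u} x80 s89 := chk_ok (.cons v82 (.cons v86 (.cons v87 (.cons v88 .nil)))) (.cons k225 (.cons k227 (.cons k218 (.cons k221 .nil)))) c89
theorem v90 : Valid.{u} x80 s90 := chk_ok (.cons v89 .nil) (.cons k176 .nil) c90
theorem v91 : Valid.{u} x110 s91 := chk_ok .nil .nil c91
theorem v92 : Valid.{u} x111 s92 := chk_ok .nil (.cons k141 .nil) c92
theorem v93 : Valid.{u} x111 s93 := chk_ok .nil (.cons k169 (.cons k175 (.cons k151 (.cons k159 .nil)))) c93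
theorem v94 : Valid.{u} x111 s94 := chk_ok (.cons v92 (.cons v93 .nil)) .nil c94
theorem v95 : Valid.{u} x118 s95 := chk_ok .nil (.cons k107 .nil) c95
theorem v96 : Valid.{u} x118 s96 := chk_ok .nil (.cons k134 (.cons k138 (.cons k119 (.cons k123 .nil)))) c96
theorem v97 : Valid.{u} x118 s97 := chk_ok (.cons v95 (.cons v96 .nil)) .nil c97
theorem v98 : Valid.{u} x30 s98 := chk_ok (.cons v94 (.cons v97 .nil)) (.cons k577 (.cons k571 (.cons k561 (.cons k566 (.cons k549 (.cons k554 .nil)))))) c98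
theorem v99 : Valid.{u} x30 s99 := chk_ok (.cons v57 (.cons v60 (.cons v63 (.cons v66 (.cons v69 (.cons v72 (.cons v75 (.cons v78 (.cons v81 (.cons v90 (.cons v91 (.cons v98 .nil)))))))))))) .nil c99
theorem v100 : Valid.{u} x30 s100 := chk_ok (.cons v99 .nil) (.cons k91 .nil) c100
theorem v101 : Valid.{u} x26 s101 := chk_ok (.cons v56 (.cons v100 .nil)) .nil c101
theorem v102 : Valid.{u} x26 s102 := chk_ok (.cons v55 (.cons v101 .nil)) .nil c102
theorem v103 : Valid.{u} x16 s103 := chk_ok (.cons v52 (.cons v102 .nil)) .nil c103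
theorem v104 : Valid.{u} x16 s104 := chk_ok (.cons v103 .nil) .nil c104
theorem v105 : Valid.{u} x129 s105 := chk_ok .nil .nil c105
theorem v106 : Valid.{u} x131 s106 := chk_ok .nil .nil c106
theorem v107 : Valid.{u} x132 s107 := chk_ok .nil .nil c107
theorem v108 : Valid.{u} x132 s108 := chk_ok .nil (.cons k38 .nil) c108
theorem v109 : Valid.{u} x132 s109 := chk_ok (.cons v108 .nil) (.cons k55 (.cons k63 (.cons k45 .nil))) c109
theorem v110 : Valid.{u} x132 s110 := chk_ok (.cons v109 .nil) .nil c110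
theorem v111 : Valid.{u} x132 s111 := chk_ok (.cons v107 (.cons v110 .nil)) .nil c111
theorem v112 : Valid.{u} x132 s112 := chk_ok (.cons v111 .nil) .nil c112
theorem v113 : Valid.{u} x132 s113 := chk_ok (.cons v111 (.cons v112 .nil)) (.cons k31 .nil) c113
theorem v114 : Valid.{u} x130 s114 := chk_ok (.cons v106 (.cons v113 .nil)) .nil c114
theorem v115 : Valid.{u} x130 s115 := chk_ok (.cons v114 .nil) .nil c115
theorem v116 : Valid.{u} x130 s116 := chk_ok (.cons v115 .nil) .nil c116
theorem v117 : Valid.{u} x130 s117 := chk_ok .nil (.cons k27 (.cons k29 .nil)) c117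
theorem v118 : Valid.{u} x130 s118 := chk_ok (.cons v117 .nil) .nil c118
theorem v119 : Valid.{u} x130 s119 := chk_ok (.cons v118 .nil) .nil c119
theorem v120 : Valid.{u} x130 s120 := chk_ok (.cons v116 (.cons v119 .nil)) .nil c120
theorem v121 : Valid.{u} x130 s121 := chk_ok (.cons v120 .nil) .nil c121
theorem v122 : Valid.{u} x130 s122 := chk_ok .nil (.cons k17 (.cons k19 .nil)) c122
theorem v123 : Valid.{u} x130 s123 := chk_ok (.cons v122 .nil) .nil c123
theorem v124 : Valid.{u} x130 s124 := chk_ok (.cons v123 .nil) .nil c124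
theorem v125 : Valid.{u} x130 s125 := chk_ok (.cons v124 .nil) .nil c125
theorem v126 : Valid.{u} x130 s126 := chk_ok (.cons v125 .nil) .nil c126
theorem v127 : Valid.{u} x130 s127 := chk_ok (.cons v121 (.cons v126 .nil)) (.cons k9 .nil) c127
theorem v128 : Valid.{u} x130 s128 := chk_ok (.cons v127 .nil) .nil c128
theorem v129 : Valid.{u} x16 s129 := chk_ok (.cons v105 (.cons v128 .nil)) .nil c129
theorem v130 : Valid.{u} x16 s130 := chk_ok (.cons v129 .nil) .nil c130
theorem v131 : Valid.{u} x16 s131 := chk_ok (.cons v104 (.cons v130 .nil)) (.cons k7 .nil) c131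
theorem v132 : Valid.{u} x0 s132 := chk_ok (.cons v0 (.cons v36 (.cons v38 (.cons v39 (.cons v131 .nil))))) (.cons k586 (.cons k614 (.cons k615 (.cons k7 .nil)))) c132
theorem v133 : Valid.{u} x0 s133 := chk_ok (.cons v132 .nil) .nil c133

end Cfsg.Lib.D8.T1I
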