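import Cfsg.Agent.Lib.D8.T.T1OG0

/-! Certificates (generated, helper29). -/

set_option maxRecDepth 100000
set_option Elab.async false

namespace Cfsg.Lib.D8.T1O

universe u

theorem hb1 : tabB (mu g0 (nat_lit 1)) (nat_lit 1) a0 b1 (look b1 0) = true := by decide +kernel
theorem ha0 : tabA (mu g0 (nat_lit 1)) (nat_lit 1) a0 = true := by decide +kernel
theorem hb2 : tabB (mu g1 (nat_lit 2)) (nat_lit 2) a1 b2 (look b2 0) = true := by decide +kernel
theorem ha1 : tabA (mu g1 (nat_lit 2)) (nat_lit 2) a1 = true := by decide +kernel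
theorem hb3 : tabB (mu g2 (nat_lit 4)) (nat_lit 4) a2 b3 (look b3 0) = true := by decide +kernel
theorem ha2 : tabA (mu g2 (nat_lit 4)) (nat_lit 4) a2 = true := by decide +kernel
theorem hb4 : tabB (mu g3 (nat_lit 8)) (nat_lit 8) a3 b4 (look b4 0) = true := by decide +kernel
theorem ha3 : tabA (mu g3 (nat_lit 8)) (nat_lit 8) a3 = true := by decide +kernel
theorem hb5 : tabB (mu g4 (nat_lit 16)) (nat_lit 16) a4 b5 (look b5 0) = true := by decide +kernel
theorem ha4 : tabA (mu g4 (nat_lit 16)) (nat_lit 16) a4 = true := by decide +kernel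
theorem ht5 : tabT (mu (.ext a4 b5 (nat_lit 16) g4) (nat_lit 32)) (nat_lit 32) t5 = true := by decide +kernel
theorem hb6 : tabB (mu g5 (nat_lit 32)) (nat_lit 32) a5 b6 (look b6 0) = true := by decide +kernel
theorem ha5 : tabA (mu g5 (nat_lit 32)) (nat_lit 32) a5 = true := by decide +kernel
theorem ht6 : tabT (mu (.ext a5 b6 (nat_lit 32) g5) (nat_lit 64)) (nat_lit 64) t6 = true := by decide +kernel
theorem hb7 : tabB (mu g6 (nat_lit 64)) (nat_lit 64) a6 b7 (look b7 0) = true := by decide +kernel
theorem ha6 : tabA (mu g6 (nat_lit 64)) (nat_lit 64) a6 = true := by decide +kernel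
theorem ht7 : tabT (mu (.ext a6 b7 (nat_lit 64) g6) (nat_lit 128)) (nat_lit 128) t7 = true := by decide +kernel
theorem hb9 : tabB (mu g7 (nat_lit 128)) (nat_lit 128) a7 b9 (look b9 0) = true := by decide +kernel
theorem ha7 : tabA (mu g7 (nat_lit 128)) (nat_lit 128) a7 = true := by decide +kernel
theorem hb13 : tabB (mu g9 (nat_lit 256)) (nat_lit 256) a9 b13 (look b13 0) = true := by decide +kernel
theorem ha9 : tabA (mu g9 (nat_lit 256)) (nat_lit 256) a9 = true := by decide +kernel
theorem hb14 : tabB (mu g7 (nat_lit 128)) (nat_lit 128) a10 b14 (look b14 0) = true := by decide +kernel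
theorem ha10 : tabA (mu g7 (nat_lit 128)) (nat_lit 128) a10 = true := by decide +kernel
theorem hb15 : tabB (mu g14 (nat_lit 256)) (nat_lit 256) a11 b15 (look b15 0) = true := by decide +kernel
theorem ha11 : tabA (mu g14 (nat_lit 256)) (nat_lit 256) a11 = true := by decide +kernel
theorem hb16 : tabB (mu g14 (nat_lit 256)) (nat_lit 256) a11 b16 (look b16 0) = true := by decide +kernel
theorem hb17 : tabB (mu g7 (nat_lit 128)) (nat_lit 128) a10 b17 (look b17 0) = true := by decide +kernel
theorem hb18 : tabB (mu g17 (nat_lit 256)) (nat_lit 256) a12 b18 (look b18 0) = true := by decide +kernel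
theorem ha12 : tabA (mu g17 (nat_lit 256)) (nat_lit 256) a12 = true := by decide +kernel
theorem hb19 : tabB (mu g17 (nat_lit 256)) (nat_lit 256) a12 b19 (look b19 0) = true := by decide +kernel
theorem hb29 : tabB (mu g7 (nat_lit 128)) (nat_lit 128) a17 b29 (look b29 0) = true := by decide +kernel
theorem ha17 : tabA (mu g7 (nat_lit 128)) (nat_lit 128) a17 = true := by decide +kernel
theorem hb31 : tabB (mu g29 (nat_lit 256)) (nat_lit 256) a18 b31 (look b31 0) = true := by decide +kernel
theorem ha18 : tabA (mu g29 (nat_lit 256)) (nat_lit 256) a18 = true := by decide +kernel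
theorem hb32 : tabB (mu g7 (nat_lit 128)) (nat_lit 128) a19 b32 (look b32 0) = true := by decide +kernel
theorem ha19 : tabA (mu g7 (nat_lit 128)) (nat_lit 128) a19 = true := by decide +kernel
theorem hb33 : tabB (mu g32 (nat_lit 256)) (nat_lit 256) a20 b33 (look b33 0) = true := by decide +kernel
theorem ha20 : tabA (mu g32 (nat_lit 256)) (nat_lit 256) a20 = true := by decide +kernel
theorem hb34 : tabB (mu g32 (nat_lit 256)) (nat_lit 256) a20 b34 (look b34 0) = true := by decide +kernel
theorem hb43 : tabB (mu g7 (nat_lit 128)) (nat_lit 128) a19 b43 (look b43 0) = true := by decide +kernel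
theorem hb44 : tabB (mu g43 (nat_lit 256)) (nat_lit 256) a25 b44 (look b44 0) = true := by decide +kernel
theorem ha25 : tabA (mu g43 (nat_lit 256)) (nat_lit 256) a25 = true := by decide +kernel
theorem hb45 : tabB (mu g43 (nat_lit 256)) (nat_lit 256) a25 b45 (look b45 0) = true := by decide +kernel
theorem hb46 : tabB (mu g6 (nat_lit 64)) (nat_lit 64) a26 b46 (look b46 0) = true := by decide +kernel
theorem ha26 : tabA (mu g6 (nat_lit 64)) (nat_lit 64) a26 = true := by decide +kernel
theorem ht46 : tabT (mu (.ext a26 b46 (nat_lit 64) g6) (nat_lit 128)) (nat_lit 128) t46 = true := by decide +kernel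
theorem hb48 : tabB (mu g46 (nat_lit 128)) (nat_lit 128) a27 b48 (look b48 0) = true := by decide +kernel
theorem ha27 : tabA (mu g46 (nat_lit 128)) (nat_lit 128) a27 = true := by decide +kernel
theorem hb50 : tabB (mu g48 (nat_lit 256)) (nat_lit 256) a28 b50 (look b50 0) = true := by decide +kernel
theorem ha28 : tabA (mu g48 (nat_lit 256)) (nat_lit 256) a28 = true := by decide +kernel
theorem hb51 : tabB (mu g2 (nat_lit 4)) (nat_lit 4) a2 b51 (look b51 0) = true := by decide +kernel
theorem hb52 : tabB (mu g51 (nat_lit 8)) (nat_lit 8) a29 b52 (look b52 0) = true := by decide +kernel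
theorem ha29 : tabA (mu g51 (nat_lit 8)) (nat_lit 8) a29 = true := by decide +kernel
theorem hb53 : tabB (mu g52 (nat_lit 16)) (nat_lit 16) a30 b53 (look b53 0) = true := by decide +kernel
theorem ha30 : tabA (mu g52 (nat_lit 16)) (nat_lit 16) a30 = true := by decide +kernel
theorem ht53 : tabT (mu (.ext a30 b53 (nat_lit 16) g52) (nat_lit 32)) (nat_lit 32) t53 = true := by decide +kernel
theorem hb54 : tabB (mu g53 (nat_lit 32)) (nat_lit 32) a31 b54 (look b54 0) = true := by decide +kernel
theorem ha31 : tabA (mu g53 (nat_lit 32)) (nat_lit 32) a31 = true := by decide +kernel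
theorem hb55 : tabB (mu g54 (nat_lit 64)) (nat_lit 64) a32 b55 (look b55 0) = true := by decide +kernel
theorem ha32 : tabA (mu g54 (nat_lit 64)) (nat_lit 64) a32 = true := by decide +kernel
theorem hb56 : tabB (mu g55 (nat_lit 128)) (nat_lit 128) a33 b56 (look b56 0) = true := by decide +kernel
theorem ha33 : tabA (mu g55 (nat_lit 128)) (nat_lit 128) a33 = true := by decide +kernel
theorem hb57 : tabB (mu g56 (nat_lit 256)) (nat_lit 256) a34 b57 (look b57 0) = true := by decide +kernel
theorem ha34 : tabA (mu g56 (nat_lit 256)) (nat_lit 256) a34 = true := by decide +kernel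
theorem hb59 : tabB (mu g46 (nat_lit 128)) (nat_lit 128) a35 b59 (look b59 0) = true := by decide +kernel
theorem ha35 : tabA (mu g46 (nat_lit 128)) (nat_lit 128) a35 = true := by decide +kernel
theorem hb60 : tabB (mu g59 (nat_lit 256)) (nat_lit 256) a36 b60 (look b60 0) = true := by decide +kernel
theorem ha36 : tabA (mu g59 (nat_lit 256)) (nat_lit 256) a36 = true := by decide +kernel
theorem hb61 : tabB (mu g4 (nat_lit 16)) (nat_lit 16) a37 b61 (look b61 0) = true := by decide +kernel
theorem ha37 : tabA (mu g4 (nat_lit 16)) (nat_lit 16) a37 = true := by decide +kernel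
theorem ht61 : tabT (mu (.ext a37 b61 (nat_lit 16) g4) (nat_lit 32)) (nat_lit 32) t61 = true := by decide +kernel
theorem hb62 : tabB (mu g61 (nat_lit 32)) (nat_lit 32) a38 b62 (look b62 0) = true := by decide +kernel
theorem ha38 : tabA (mu g61 (nat_lit 32)) (nat_lit 32) a38 = true := by decide +kernel
theorem hb63 : tabB (mu g62 (nat_lit 64)) (nat_lit 64) a39 b63 (look b63 0) = true := by decide +kernel
theorem ha39 : tabA (mu g62 (nat_lit 64)) (nat_lit 64) a39 = true := by decide +kernel
theorem hb64 : tabB (mu g63 (nat_lit 128)) (nat_lit 128) a40 b64 (look b64 0) = true := by decide +kernel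
theorem ha40 : tabA (mu g63 (nat_lit 128)) (nat_lit 128) a40 = true := by decide +kernel
theorem hb65 : tabB (mu g64 (nat_lit 256)) (nat_lit 256) a41 b65 (look b65 0) = true := by decide +kernel
theorem ha41 : tabA (mu g64 (nat_lit 256)) (nat_lit 256) a41 = true := by decide +kernel
theorem hb67 : tabB (mu g60 (nat_lit 512)) (nat_lit 512) a42 b67 (look b67 0) = true := by decide +kernel
theorem ha42 : tabA (mu g60 (nat_lit 512)) (nat_lit 512) a42 = true := by decide +kernel
theorem hb68 : tabB (mu g1 (nat_lit 2)) (nat_lit 2) a1 b68 (look b68 0) = true := by decide +kernel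
theorem hb69 : tabB (mu g68 (nat_lit 4)) (nat_lit 4) a43 b69 (look b69 0) = true := by decide +kernel
theorem ha43 : tabA (mu g68 (nat_lit 4)) (nat_lit 4) a43 = true := by decide +kernel
theorem hb70 : tabB (mu g69 (nat_lit 8)) (nat_lit 8) a44 b70 (look b70 0) = true := by decide +kernel
theorem ha44 : tabA (mu g69 (nat_lit 8)) (nat_lit 8) a44 = true := by decide +kernel
theorem hb71 : tabB (mu g70 (nat_lit 16)) (nat_lit 16) a45 b71 (look b71 0) = true := by decide +kernel
theorem ha45 : tabA (mu g70 (nat_lit 16)) (nat_lit 16) a45 = true := by decide +kernel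
theorem ht71 : tabT (mu (.ext a45 b71 (nat_lit 16) g70) (nat_lit 32)) (nat_lit 32) t71 = true := by decide +kernel
theorem hb72 : tabB (mu g71 (nat_lit 32)) (nat_lit 32) a46 b72 (look b72 0) = true := by decide +kernel
theorem ha46 : tabA (mu g71 (nat_lit 32)) (nat_lit 32) a46 = true := by decide +kernel
theorem hb73 : tabB (mu g72 (nat_lit 64)) (nat_lit 64) a47 b73 (look b73 0) = true := by decide +kernel
theorem ha47 : tabA (mu g72 (nat_lit 64)) (nat_lit 64) a47 = true := by decide +kernel
theorem hb74 : tabB (mu g73 (nat_lit 128)) (nat_lit 128) a48 b74 (look b74 0) = true := by decide +kernel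
theorem ha48 : tabA (mu g73 (nat_lit 128)) (nat_lit 128) a48 = true := by decide +kernel
theorem hb75 : tabB (mu g74 (nat_lit 256)) (nat_lit 256) a49 b75 (look b75 0) = true := by decide +kernel
theorem ha49 : tabA (mu g74 (nat_lit 256)) (nat_lit 256) a49 = true := by decide +kernel
theorem hb76 : tabB (mu g75 (nat_lit 512)) (nat_lit 512) a50 b76 (look b76 0) = true := by decide +kernel
theorem ha50 : tabA (mu g75 (nat_lit 512)) (nat_lit 512) a50 = true := by decide +kernel
theorem hb77 : tabB (mu g73 (nat_lit 128)) (nat_lit 128) a51 b77 (look b77 0) = true := by decide +kernel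
theorem ha51 : tabA (mu g73 (nat_lit 128)) (nat_lit 128) a51 = true := by decide +kernel
theorem hb78 : tabB (mu g77 (nat_lit 256)) (nat_lit 256) a52 b78 (look b78 0) = true := by decide +kernel
theorem ha52 : tabA (mu g77 (nat_lit 256)) (nat_lit 256) a52 = true := by decide +kernel
theorem hb79 : tabB (mu g78 (nat_lit 512)) (nat_lit 512) a53 b79 (look b79 0) = true := by decide +kernel
theorem ha53 : tabA (mu g78 (nat_lit 512)) (nat_lit 512) a53 = true := by decide +kernel
theorem hb87 : tabB (mu g59 (nat_lit 256)) (nat_lit 256) a57 b87 (look b87 0) = true := by decide +kernel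
theorem ha57 : tabA (mu g59 (nat_lit 256)) (nat_lit 256) a57 = true := by decide +kernel
theorem hb88 : tabB (mu g2 (nat_lit 4)) (nat_lit 4) a58 b88 (look b88 0) = true := by decide +kernel
theorem ha58 : tabA (mu g2 (nat_lit 4)) (nat_lit 4) a58 = true := by decide +kernel
theorem hb89 : tabB (mu g88 (nat_lit 8)) (nat_lit 8) a59 b89 (look b89 0) = true := by decide +kernel
theorem ha59 : tabA (mu g88 (nat_lit 8)) (nat_lit 8) a59 = true := by decide +kernel
theorem hb90 : tabB (mu g89 (nat_lit 16)) (nat_lit 16) a60 b90 (look b90 0) = true := by decide +kernel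
theorem ha60 : tabA (mu g89 (nat_lit 16)) (nat_lit 16) a60 = true := by decide +kernel
theorem ht90 : tabT (mu (.ext a60 b90 (nat_lit 16) g89) (nat_lit 32)) (nat_lit 32) t90 = true := by decide +kernel
theorem hb91 : tabB (mu g90 (nat_lit 32)) (nat_lit 32) a61 b91 (look b91 0) = true := by decide +kernel
theorem ha61 : tabA (mu g90 (nat_lit 32)) (nat_lit 32) a61 = true := by decide +kernel
theorem hb92 : tabB (mu g91 (nat_lit 64)) (nat_lit 64) a62 b92 (look b92 0) = true := by decide +kernel
theorem ha62 : tabA (mu g91 (nat_lit 64)) (nat_lit 64) a62 = true := by decide +kernel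
theorem hb93 : tabB (mu g92 (nat_lit 128)) (nat_lit 128) a63 b93 (look b93 0) = true := by decide +kernel
theorem ha63 : tabA (mu g92 (nat_lit 128)) (nat_lit 128) a63 = true := by decide +kernel
theorem hb94 : tabB (mu g93 (nat_lit 256)) (nat_lit 256) a64 b94 (look b94 0) = true := by decide +kernel
theorem ha64 : tabA (mu g93 (nat_lit 256)) (nat_lit 256) a64 = true := by decide +kernel
theorem hb96 : tabB (mu g87 (nat_lit 512)) (nat_lit 512) a65 b96 (look b96 0) = true := by decide +kernel
theorem ha65 : tabA (mu g87 (nat_lit 512)) (nat_lit 512) a65 = true := by decide +kernel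
theorem hb104 : tabB (mu g46 (nat_lit 128)) (nat_lit 128) a69 b104 (look b104 0) = true := by decide +kernel
theorem ha69 : tabA (mu g46 (nat_lit 128)) (nat_lit 128) a69 = true := by decide +kernel
theorem hb106 : tabB (mu g104 (nat_lit 256)) (nat_lit 256) a70 b106 (look b106 0) = true := by decide +kernel
theorem ha70 : tabA (mu g104 (nat_lit 256)) (nat_lit 256) a70 = true := by decide +kernel
theorem hb107 : tabB (mu g51 (nat_lit 8)) (nat_lit 8) a71 b107 (look b107 0) = true := by decide +kernel
theorem ha71 : tabA (mu g51 (nat_lit 8)) (nat_lit 8) a71 = true := by decide +kernel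
theorem hb108 : tabB (mu g107 (nat_lit 16)) (nat_lit 16) a72 b108 (look b108 0) = true := by decide +kernel
theorem ha72 : tabA (mu g107 (nat_lit 16)) (nat_lit 16) a72 = true := by decide +kernel
theorem ht108 : tabT (mu (.ext a72 b108 (nat_lit 16) g107) (nat_lit 32)) (nat_lit 32) t108 = true := by decide +kernel
theorem hb109 : tabB (mu g108 (nat_lit 32)) (nat_lit 32) a73 b109 (look b109 0) = true := by decide +kernel
theorem ha73 : tabA (mu g108 (nat_lit 32)) (nat_lit 32) a73 = true := by decide +kernel
theorem ht109 : tabT (mu (.ext a73 b109 (nat_lit 32) g108) (nat_lit 64)) (nat_lit 64) t109 = true := by decide +kernel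
theorem hb110 : tabB (mu g109 (nat_lit 64)) (nat_lit 64) a74 b110 (look b110 0) = true := by decide +kernel
theorem ha74 : tabA (mu g109 (nat_lit 64)) (nat_lit 64) a74 = true := by decide +kernel
theorem ht110 : tabT (mu (.ext a74 b110 (nat_lit 64) g109) (nat_lit 128)) (nat_lit 128) t110 = true := by decide +kernel
theorem hb111 : tabB (mu g110 (nat_lit 128)) (nat_lit 128) a75 b111 (look b111 0) = true := by decide +kernel
theorem ha75 : tabA (mu g110 (nat_lit 128)) (nat_lit 128) a75 = true := by decide +kernel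
theorem hb112 : tabB (mu g111 (nat_lit 256)) (nat_lit 256) a76 b112 (look b112 0) = true := by decide +kernel
theorem ha76 : tabA (mu g111 (nat_lit 256)) (nat_lit 256) a76 = true := by decide +kernel
theorem hb113 : tabB (mu g106 (nat_lit 512)) (nat_lit 512) a77 b113 (look b113 0) = true := by decide +kernel
theorem ha77 : tabA (mu g106 (nat_lit 512)) (nat_lit 512) a77 = true := by decide +kernel
theorem hb114 : tabB (mu g2 (nat_lit 4)) (nat_lit 4) a78 b114 (look b114 0) = true := by decide +kernel
theorem ha78 : tabA (mu g2 (nat_lit 4)) (nat_lit 4) a78 = true := by decide +kernel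
theorem hb115 : tabB (mu g114 (nat_lit 8)) (nat_lit 8) a79 b115 (look b115 0) = true := by decide +kernel
theorem ha79 : tabA (mu g114 (nat_lit 8)) (nat_lit 8) a79 = true := by decide +kernel
theorem hb116 : tabB (mu g115 (nat_lit 16)) (nat_lit 16) a80 b116 (look b116 0) = true := by decide +kernel
theorem ha80 : tabA (mu g115 (nat_lit 16)) (nat_lit 16) a80 = true := by decide +kernel
theorem ht116 : tabT (mu (.ext a80 b116 (nat_lit 16) g115) (nat_lit 32)) (nat_lit 32) t116 = true := by decide +kernel
theorem hb117 : tabB (mu g116 (nat_lit 32)) (nat_lit 32) a81 b117 (look b117 0) = true := by decide +kernel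
theorem ha81 : tabA (mu g116 (nat_lit 32)) (nat_lit 32) a81 = true := by decide +kernel
theorem ht117 : tabT (mu (.ext a81 b117 (nat_lit 32) g116) (nat_lit 64)) (nat_lit 64) t117 = true := by decide +kernel
theorem hb118 : tabB (mu g117 (nat_lit 64)) (nat_lit 64) a82 b118 (look b118 0) = true := by decide +kernel
theorem ha82 : tabA (mu g117 (nat_lit 64)) (nat_lit 64) a82 = true := by decide +kernel
theorem ht118 : tabT (mu (.ext a82 b118 (nat_lit 64) g117) (nat_lit 128)) (nat_lit 128) t118 = true := by decide +kernel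
theorem hb119 : tabB (mu g118 (nat_lit 128)) (nat_lit 128) a83 b119 (look b119 0) = true := by decide +kernel
theorem ha83 : tabA (mu g118 (nat_lit 128)) (nat_lit 128) a83 = true := by decide +kernel
theorem hb120 : tabB (mu g119 (nat_lit 256)) (nat_lit 256) a84 b120 (look b120 0) = true := by decide +kernel
theorem ha84 : tabA (mu g119 (nat_lit 256)) (nat_lit 256) a84 = true := by decide +kernel
theorem hb121 : tabB (mu g120 (nat_lit 512)) (nat_lit 512) a85 b121 (look b121 0) = true := by decide +kernel
theorem ha85 : tabA (mu g120 (nat_lit 512)) (nat_lit 512) a85 = true := by decide +kernel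
theorem hb122 : tabB (mu g113 (nat_lit 1024)) (nat_lit 1024) a86 b122 (look b122 0) = true := by decide +kernel
theorem ha86 : tabA (mu g113 (nat_lit 1024)) (nat_lit 1024) a86 = true := by decide +kernel
theorem hb123 : tabB (mu g4 (nat_lit 16)) (nat_lit 16) a87 b123 (look b123 0) = true := by decide +kernel
theorem ha87 : tabA (mu g4 (nat_lit 16)) (nat_lit 16) a87 = true := by decide +kernel
theorem ht123 : tabT (mu (.ext a87 b123 (nat_lit 16) g4) (nat_lit 32)) (nat_lit 32) t123 = true := by decide +kernel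
theorem hb124 : tabB (mu g123 (nat_lit 32)) (nat_lit 32) a88 b124 (look b124 0) = true := by decide +kernel
theorem ha88 : tabA (mu g123 (nat_lit 32)) (nat_lit 32) a88 = true := by decide +kernel
theorem hb125 : tabB (mu g124 (nat_lit 64)) (nat_lit 64) a89 b125 (look b125 0) = true := by decide +kernel
theorem ha89 : tabA (mu g124 (nat_lit 64)) (nat_lit 64) a89 = true := by decide +kernel
theorem hb126 : tabB (mu g125 (nat_lit 128)) (nat_lit 128) a90 b126 (look b126 0) = true := by decide +kernel
theorem ha90 : tabA (mu g125 (nat_lit 128)) (nat_lit 128) a90 = true := by decide +kernel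
theorem hb127 : tabB (mu g126 (nat_lit 256)) (nat_lit 256) a91 b127 (look b127 0) = true := by decide +kernel
theorem ha91 : tabA (mu g126 (nat_lit 256)) (nat_lit 256) a91 = true := by decide +kernel
theorem hb128 : tabB (mu g127 (nat_lit 512)) (nat_lit 512) a92 b128 (look b128 0) = true := by decide +kernel
theorem ha92 : tabA (mu g127 (nat_lit 512)) (nat_lit 512) a92 = true := by decide +kernel
theorem hb129 : tabB (mu g128 (nat_lit 1024)) (nat_lit 1024) a93 b129 (look b129 0) = true := by decide +kernel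
theorem ha93 : tabA (mu g128 (nat_lit 1024)) (nat_lit 1024) a93 = true := by decide +kernel
theorem hb130 : tabB (mu g2 (nat_lit 4)) (nat_lit 4) a58 b130 (look b130 0) = true := by decide +kernel
theorem hb131 : tabB (mu g130 (nat_lit 8)) (nat_lit 8) a94 b131 (look b131 0) = true := by decide +kernel
theorem ha94 : tabA (mu g130 (nat_lit 8)) (nat_lit 8) a94 = true := by decide +kernel
theorem hb132 : tabB (mu g131 (nat_lit 16)) (nat_lit 16) a95 b132 (look b132 0) = true := by decide +kernel
theorem ha95 : tabA (mu g131 (nat_lit 16)) (nat_lit 16) a95 = true := by decide +kernel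
theorem ht132 : tabT (mu (.ext a95 b132 (nat_lit 16) g131) (nat_lit 32)) (nat_lit 32) t132 = true := by decide +kernel
theorem hb133 : tabB (mu g132 (nat_lit 32)) (nat_lit 32) a96 b133 (look b133 0) = true := by decide +kernel
theorem ha96 : tabA (mu g132 (nat_lit 32)) (nat_lit 32) a96 = true := by decide +kernel
theorem ht133 : tabT (mu (.ext a96 b133 (nat_lit 32) g132) (nat_lit 64)) (nat_lit 64) t133 = true := by decide +kernel
theorem hb134 : tabB (mu g133 (nat_lit 64)) (nat_lit 64) a97 b134 (look b134 0) = true := by decide +kernel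
theorem ha97 : tabA (mu g133 (nat_lit 64)) (nat_lit 64) a97 = true := by decide +kernel
theorem hb135 : tabB (mu g134 (nat_lit 128)) (nat_lit 128) a98 b135 (look b135 0) = true := by decide +kernel
theorem ha98 : tabA (mu g134 (nat_lit 128)) (nat_lit 128) a98 = true := by decide +kernel
theorem hb136 : tabB (mu g135 (nat_lit 256)) (nat_lit 256) a99 b136 (look b136 0) = true := by decide +kernel
theorem ha99 : tabA (mu g135 (nat_lit 256)) (nat_lit 256) a99 = true := by decide +kernel
theorem hb137 : tabB (mu g136 (nat_lit 512)) (nat_lit 512) a100 b137 (look b137 0) = true := by decide +kernel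
theorem ha100 : tabA (mu g136 (nat_lit 512)) (nat_lit 512) a100 = true := by decide +kernel
theorem hb138 : tabB (mu g137 (nat_lit 1024)) (nat_lit 1024) a101 b138 (look b138 0) = true := by decide +kernel
theorem ha101 : tabA (mu g137 (nat_lit 1024)) (nat_lit 1024) a101 = true := by decide +kernel
theorem hb139 : tabB (mu g113 (nat_lit 1024)) (nat_lit 1024) a86 b139 (look b139 0) = true := by decide +kernel
theorem hb140 : tabB (mu g113 (nat_lit 1024)) (nat_lit 1024) a102 b140 (look b140 0) = true := by decide +kernel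
theorem ha102 : tabA (mu g113 (nat_lit 1024)) (nat_lit 1024) a102 = true := by decide +kernel
theorem hb141 : tabB (mu g113 (nat_lit 1024)) (nat_lit 1024) a102 b141 (look b141 0) = true := by decide +kernel
theorem hb146 : tabB (mu g123 (nat_lit 32)) (nat_lit 32) a105 b146 (look b146 0) = true := by decide +kernel
theorem ha105 : tabA (mu g123 (nat_lit 32)) (nat_lit 32) a105 = true := by decide +kernel
theorem ht146 : tabT (mu (.ext a105 b146 (nat_lit 32) g123) (nat_lit 64)) (nat_lit 64) t146 = true := by decide +kernel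
theorem hb147 : tabB (mu g146 (nat_lit 64)) (nat_lit 64) a106 b147 (look b147 0) = true := by decide +kernel
theorem ha106 : tabA (mu g146 (nat_lit 64)) (nat_lit 64) a106 = true := by decide +kernel
theorem ht147 : tabT (mu (.ext a106 b147 (nat_lit 64) g146) (nat_lit 128)) (nat_lit 128) t147 = true := by decide +kernel
theorem hb148 : tabB (mu g147 (nat_lit 128)) (nat_lit 128) a107 b148 (look b148 0) = true := by decide +kernel
theorem ha107 : tabA (mu g147 (nat_lit 128)) (nat_lit 128) a107 = true := by decide +kernel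
theorem hb149 : tabB (mu g148 (nat_lit 256)) (nat_lit 256) a108 b149 (look b149 0) = true := by decide +kernel
theorem ha108 : tabA (mu g148 (nat_lit 256)) (nat_lit 256) a108 = true := by decide +kernel
theorem hb150 : tabB (mu g149 (nat_lit 512)) (nat_lit 512) a109 b150 (look b150 0) = true := by decide +kernel
theorem ha109 : tabA (mu g149 (nat_lit 512)) (nat_lit 512) a109 = true := by decide +kernel
theorem hb151 : tabB (mu g150 (nat_lit 1024)) (nat_lit 1024) a110 b151 (look b151 0) = true := by decide +kernel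
theorem ha110 : tabA (mu g150 (nat_lit 1024)) (nat_lit 1024) a110 = true := by decide +kernel
theorem hb152 : tabB (mu g4 (nat_lit 16)) (nat_lit 16) a111 b152 (look b152 0) = true := by decide +kernel
theorem ha111 : tabA (mu g4 (nat_lit 16)) (nat_lit 16) a111 = true := by decide +kernel
theorem ht152 : tabT (mu (.ext a111 b152 (nat_lit 16) g4) (nat_lit 32)) (nat_lit 32) t152 = true := by decide +kernel
theorem hb153 : tabB (mu g152 (nat_lit 32)) (nat_lit 32) a112 b153 (look b153 0) = true := by decide +kernel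
theorem ha112 : tabA (mu g152 (nat_lit 32)) (nat_lit 32) a112 = true := by decide +kernel
theorem hb154 : tabB (mu g153 (nat_lit 64)) (nat_lit 64) a113 b154 (look b154 0) = true := by decide +kernel
theorem ha113 : tabA (mu g153 (nat_lit 64)) (nat_lit 64) a113 = true := by decide +kernel
theorem hb155 : tabB (mu g154 (nat_lit 128)) (nat_lit 128) a114 b155 (look b155 0) = true := by decide +kernel
theorem ha114 : tabA (mu g154 (nat_lit 128)) (nat_lit 128) a114 = true := by decide +kernel
theorem hb156 : tabB (mu g155 (nat_lit 256)) (nat_lit 256) a115 b156 (look b156 0) = true := by decide +kernel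
theorem ha115 : tabA (mu g155 (nat_lit 256)) (nat_lit 256) a115 = true := by decide +kernel
theorem hb157 : tabB (mu g156 (nat_lit 512)) (nat_lit 512) a116 b157 (look b157 0) = true := by decide +kernel
theorem ha116 : tabA (mu g156 (nat_lit 512)) (nat_lit 512) a116 = true := by decide +kernel
theorem hb158 : tabB (mu g157 (nat_lit 1024)) (nat_lit 1024) a117 b158 (look b158 0) = true := by decide +kernel
theorem ha117 : tabA (mu g157 (nat_lit 1024)) (nat_lit 1024) a117 = true := by decide +kernel
theorem hb159 : tabB (mu g106 (nat_lit 512)) (nat_lit 512) a77 b159 (look b159 0) = true := by decide +kernel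
theorem hb160 : tabB (mu g119 (nat_lit 256)) (nat_lit 256) a84 b160 (look b160 0) = true := by decide +kernel
theorem hb161 : tabB (mu g160 (nat_lit 512)) (nat_lit 512) a118 b161 (look b161 0) = true := by decide +kernel
theorem ha118 : tabA (mu g160 (nat_lit 512)) (nat_lit 512) a118 = true := by decide +kernel
theorem hb162 : tabB (mu g159 (nat_lit 1024)) (nat_lit 1024) a119 b162 (look b162 0) = true := by decide +kernel
theorem ha119 : tabA (mu g159 (nat_lit 1024)) (nat_lit 1024) a119 = true := by decide +kernel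
theorem hb163 : tabB (mu g159 (nat_lit 1024)) (nat_lit 1024) a119 b163 (look b163 0) = true := by decide +kernel
theorem hb164 : tabB (mu g159 (nat_lit 1024)) (nat_lit 1024) a120 b164 (look b164 0) = true := by decide +kernel
theorem ha120 : tabA (mu g159 (nat_lit 1024)) (nat_lit 1024) a120 = true := by decide +kernel
theorem hb165 : tabB (mu g159 (nat_lit 1024)) (nat_lit 1024) a120 b165 (look b165 0) = true := by decide +kernel
theorem hb170 : tabB (mu g106 (nat_lit 512)) (nat_lit 512) a123 b170 (look b170 0) = true := by decide +kernel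
theorem ha123 : tabA (mu g106 (nat_lit 512)) (nat_lit 512) a123 = true := by decide +kernel
theorem hb171 : tabB (mu g119 (nat_lit 256)) (nat_lit 256) a124 b171 (look b171 0) = true := by decide +kernel
theorem ha124 : tabA (mu g119 (nat_lit 256)) (nat_lit 256) a124 = true := by decide +kernel
theorem hb172 : tabB (mu g171 (nat_lit 512)) (nat_lit 512) a125 b172 (look b172 0) = true := by decide +kernel
theorem ha125 : tabA (mu g171 (nat_lit 512)) (nat_lit 512) a125 = true := by decide +kernel
theorem hb173 : tabB (mu g170 (nat_lit 1024)) (nat_lit 1024) a126 b173 (look b173 0) = true := by decide +kernel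
theorem ha126 : tabA (mu g170 (nat_lit 1024)) (nat_lit 1024) a126 = true := by decide +kernel
theorem hb174 : tabB (mu g170 (nat_lit 1024)) (nat_lit 1024) a126 b174 (look b174 0) = true := by decide +kernel
theorem hb175 : tabB (mu g170 (nat_lit 1024)) (nat_lit 1024) a127 b175 (look b175 0) = true := by decide +kernel
theorem ha127 : tabA (mu g170 (nat_lit 1024)) (nat_lit 1024) a127 = true := by decide +kernel
theorem hb176 : tabB (mu g170 (nat_lit 1024)) (nat_lit 1024) a127 b176 (look b176 0) = true := by decide +kernel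
theorem hb181 : tabB (mu g106 (nat_lit 512)) (nat_lit 512) a123 b181 (look b181 0) = true := by decide +kernel
theorem hb182 : tabB (mu g119 (nat_lit 256)) (nat_lit 256) a124 b182 (look b182 0) = true := by decide +kernel
theorem hb183 : tabB (mu g182 (nat_lit 512)) (nat_lit 512) a130 b183 (look b183 0) = true := by decide +kernel
theorem ha130 : tabA (mu g182 (nat_lit 512)) (nat_lit 512) a130 = true := by decide +kernel
theorem hb184 : tabB (mu g181 (nat_lit 1024)) (nat_lit 1024) a131 b184 (look b184 0) = true := by decide +kernel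
theorem ha131 : tabA (mu g181 (nat_lit 1024)) (nat_lit 1024) a131 = true := by decide +kernel
theorem hb185 : tabB (mu g181 (nat_lit 1024)) (nat_lit 1024) a131 b185 (look b185 0) = true := by decide +kernel
theorem hb186 : tabB (mu g181 (nat_lit 1024)) (nat_lit 1024) a132 b186 (look b186 0) = true := by decide +kernel
theorem ha132 : tabA (mu g181 (nat_lit 1024)) (nat_lit 1024) a132 = true := by decide +kernel
theorem hb187 : tabB (mu g181 (nat_lit 1024)) (nat_lit 1024) a132 b187 (look b187 0) = true := by decide +kernel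
theorem hb192 : tabB (mu g106 (nat_lit 512)) (nat_lit 512) a135 b192 (look b192 0) = true := by decide +kernel
theorem ha135 : tabA (mu g106 (nat_lit 512)) (nat_lit 512) a135 = true := by decide +kernel
theorem hb193 : tabB (mu g119 (nat_lit 256)) (nat_lit 256) a136 b193 (look b193 0) = true := by decide +kernel
theorem ha136 : tabA (mu g119 (nat_lit 256)) (nat_lit 256) a136 = true := by decide +kernel
theorem hb194 : tabB (mu g193 (nat_lit 512)) (nat_lit 512) a137 b194 (look b194 0) = true := by decide +kernel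
theorem ha137 : tabA (mu g193 (nat_lit 512)) (nat_lit 512) a137 = true := by decide +kernel
theorem hb195 : tabB (mu g192 (nat_lit 1024)) (nat_lit 1024) a138 b195 (look b195 0) = true := by decide +kernel
theorem ha138 : tabA (mu g192 (nat_lit 1024)) (nat_lit 1024) a138 = true := by decide +kernel
theorem hb196 : tabB (mu g192 (nat_lit 1024)) (nat_lit 1024) a138 b196 (look b196 0) = true := by decide +kernel
theorem hb197 : tabB (mu g192 (nat_lit 1024)) (nat_lit 1024) a139 b197 (look b197 0) = true := by decide +kernel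
theorem ha139 : tabA (mu g192 (nat_lit 1024)) (nat_lit 1024) a139 = true := by decide +kernel
theorem hb198 : tabB (mu g192 (nat_lit 1024)) (nat_lit 1024) a139 b198 (look b198 0) = true := by decide +kernel
theorem hb203 : tabB (mu g106 (nat_lit 512)) (nat_lit 512) a135 b203 (look b203 0) = true := by decide +kernel
theorem hb204 : tabB (mu g4 (nat_lit 16)) (nat_lit 16) a142 b204 (look b204 0) = true := by decide +kernel
theorem ha142 : tabA (mu g4 (nat_lit 16)) (nat_lit 16) a142 = true := by decide +kernel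
theorem ht204 : tabT (mu (.ext a142 b204 (nat_lit 16) g4) (nat_lit 32)) (nat_lit 32) t204 = true := by decide +kernel
theorem hb205 : tabB (mu g204 (nat_lit 32)) (nat_lit 32) a143 b205 (look b205 0) = true := by decide +kernel
theorem ha143 : tabA (mu g204 (nat_lit 32)) (nat_lit 32) a143 = true := by decide +kernel
theorem ht205 : tabT (mu (.ext a143 b205 (nat_lit 32) g204) (nat_lit 64)) (nat_lit 64) t205 = true := by decide +kernel
theorem hb206 : tabB (mu g205 (nat_lit 64)) (nat_lit 64) a144 b206 (look b206 0) = true := by decide +kernel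
theorem ha144 : tabA (mu g205 (nat_lit 64)) (nat_lit 64) a144 = true := by decide +kernel
theorem hb207 : tabB (mu g206 (nat_lit 128)) (nat_lit 128) a145 b207 (look b207 0) = true := by decide +kernel
theorem ha145 : tabA (mu g206 (nat_lit 128)) (nat_lit 128) a145 = true := by decide +kernel
theorem hb208 : tabB (mu g207 (nat_lit 256)) (nat_lit 256) a146 b208 (look b208 0) = true := by decide +kernel
theorem ha146 : tabA (mu g207 (nat_lit 256)) (nat_lit 256) a146 = true := by decide +kernel
theorem hb209 : tabB (mu g208 (nat_lit 512)) (nat_lit 512) a147 b209 (look b209 0) = true := by decide +kernel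
theorem ha147 : tabA (mu g208 (nat_lit 512)) (nat_lit 512) a147 = true := by decide +kernel
theorem hb210 : tabB (mu g203 (nat_lit 1024)) (nat_lit 1024) a148 b210 (look b210 0) = true := by decide +kernel
theorem ha148 : tabA (mu g203 (nat_lit 1024)) (nat_lit 1024) a148 = true := by decide +kernel
theorem hb211 : tabB (mu g203 (nat_lit 1024)) (nat_lit 1024) a148 b211 (look b211 0) = true := by decide +kernel
theorem hb212 : tabB (mu g203 (nat_lit 1024)) (nat_lit 1024) a149 b212 (look b212 0) = true := by decide +kernel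
theorem ha149 : tabA (mu g203 (nat_lit 1024)) (nat_lit 1024) a149 = true := by decide +kernel
theorem hb213 : tabB (mu g203 (nat_lit 1024)) (nat_lit 1024) a149 b213 (look b213 0) = true := by decide +kernel
theorem hb218 : tabB (mu g106 (nat_lit 512)) (nat_lit 512) a152 b218 (look b218 0) = true := by decide +kernel
theorem ha152 : tabA (mu g106 (nat_lit 512)) (nat_lit 512) a152 = true := by decide +kernel
theorem hb219 : tabB (mu g130 (nat_lit 8)) (nat_lit 8) a153 b219 (look b219 0) = true := by decide +kernel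
theorem ha153 : tabA (mu g130 (nat_lit 8)) (nat_lit 8) a153 = true := by decide +kernel
theorem hb220 : tabB (mu g219 (nat_lit 16)) (nat_lit 16) a154 b220 (look b220 0) = true := by decide +kernel
theorem ha154 : tabA (mu g219 (nat_lit 16)) (nat_lit 16) a154 = true := by decide +kernel
theorem ht220 : tabT (mu (.ext a154 b220 (nat_lit 16) g219) (nat_lit 32)) (nat_lit 32) t220 = true := by decide +kernel
theorem hb221 : tabB (mu g220 (nat_lit 32)) (nat_lit 32) a155 b221 (look b221 0) = true := by decide +kernel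
theorem ha155 : tabA (mu g220 (nat_lit 32)) (nat_lit 32) a155 = true := by decide +kernel
theorem ht221 : tabT (mu (.ext a155 b221 (nat_lit 32) g220) (nat_lit 64)) (nat_lit 64) t221 = true := by decide +kernel
theorem hb222 : tabB (mu g221 (nat_lit 64)) (nat_lit 64) a156 b222 (look b222 0) = true := by decide +kernel
theorem ha156 : tabA (mu g221 (nat_lit 64)) (nat_lit 64) a156 = true := by decide +kernel
theorem hb223 : tabB (mu g222 (nat_lit 128)) (nat_lit 128) a157 b223 (look b223 0) = true := by decide +kernel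
theorem ha157 : tabA (mu g222 (nat_lit 128)) (nat_lit 128) a157 = true := by decide +kernel
theorem hb224 : tabB (mu g223 (nat_lit 256)) (nat_lit 256) a158 b224 (look b224 0) = true := by decide +kernel
theorem ha158 : tabA (mu g223 (nat_lit 256)) (nat_lit 256) a158 = true := by decide +kernel
theorem hb225 : tabB (mu g224 (nat_lit 512)) (nat_lit 512) a159 b225 (look b225 0) = true := by decide +kernel
theorem ha159 : tabA (mu g224 (nat_lit 512)) (nat_lit 512) a159 = true := by decide +kernel
theorem hb226 : tabB (mu g218 (nat_lit 1024)) (nat_lit 1024) a160 b226 (look b226 0) = true := by decide +kernel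
theorem ha160 : tabA (mu g218 (nat_lit 1024)) (nat_lit 1024) a160 = true := by decide +kernel
theorem hb227 : tabB (mu g218 (nat_lit 1024)) (nat_lit 1024) a160 b227 (look b227 0) = true := by decide +kernel
theorem hb228 : tabB (mu g218 (nat_lit 1024)) (nat_lit 1024) a161 b228 (look b228 0) = true := by decide +kernel
theorem ha161 : tabA (mu g218 (nat_lit 1024)) (nat_lit 1024) a161 = true := by decide +kernel
theorem hb229 : tabB (mu g218 (nat_lit 1024)) (nat_lit 1024) a161 b229 (look b229 0) = true := by decide +kernel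
theorem hb234 : tabB (mu g106 (nat_lit 512)) (nat_lit 512) a152 b234 (look b234 0) = true := by decide +kernel
theorem hb235 : tabB (mu g119 (nat_lit 256)) (nat_lit 256) a164 b235 (look b235 0) = true := by decide +kernel
theorem ha164 : tabA (mu g119 (nat_lit 256)) (nat_lit 256) a164 = true := by decide +kernel
theorem hb236 : tabB (mu g235 (nat_lit 512)) (nat_lit 512) a165 b236 (look b236 0) = true := by decide +kernel
theorem ha165 : tabA (mu g235 (nat_lit 512)) (nat_lit 512) a165 = true := by decide +kernel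
theorem hb237 : tabB (mu g234 (nat_lit 1024)) (nat_lit 1024) a166 b237 (look b237 0) = true := by decide +kernel
theorem ha166 : tabA (mu g234 (nat_lit 1024)) (nat_lit 1024) a166 = true := by decide +kernel
theorem hb238 : tabB (mu g234 (nat_lit 1024)) (nat_lit 1024) a166 b238 (look b238 0) = true := by decide +kernel
theorem hb239 : tabB (mu g234 (nat_lit 1024)) (nat_lit 1024) a167 b239 (look b239 0) = true := by decide +kernel
theorem ha167 : tabA (mu g234 (nat_lit 1024)) (nat_lit 1024) a167 = true := by decide +kernel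
theorem hb240 : tabB (mu g234 (nat_lit 1024)) (nat_lit 1024) a167 b240 (look b240 0) = true := by decide +kernel
theorem hb246 : tabB (mu g106 (nat_lit 512)) (nat_lit 512) a170 b246 (look b246 0) = true := by decide +kernel
theorem ha170 : tabA (mu g106 (nat_lit 512)) (nat_lit 512) a170 = true := by decide +kernel
theorem hb247 : tabB (mu g4 (nat_lit 16)) (nat_lit 16) a171 b247 (look b247 0) = true := by decide +kernel
theorem ha171 : tabA (mu g4 (nat_lit 16)) (nat_lit 16) a171 = true := by decide +kernel
theorem ht247 : tabT (mu (.ext a171 b247 (nat_lit 16) g4) (nat_lit 32)) (nat_lit 32) t247 = true := by decide +kernel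
theorem hb248 : tabB (mu g247 (nat_lit 32)) (nat_lit 32) a172 b248 (look b248 0) = true := by decide +kernel
theorem ha172 : tabA (mu g247 (nat_lit 32)) (nat_lit 32) a172 = true := by decide +kernel
theorem ht248 : tabT (mu (.ext a172 b248 (nat_lit 32) g247) (nat_lit 64)) (nat_lit 64) t248 = true := by decide +kernel
theorem hb249 : tabB (mu g248 (nat_lit 64)) (nat_lit 64) a173 b249 (look b249 0) = true := by decide +kernel
theorem ha173 : tabA (mu g248 (nat_lit 64)) (nat_lit 64) a173 = true := by decide +kernel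
theorem ht249 : tabT (mu (.ext a173 b249 (nat_lit 64) g248) (nat_lit 128)) (nat_lit 128) t249 = true := by decide +kernel
theorem hb250 : tabB (mu g249 (nat_lit 128)) (nat_lit 128) a174 b250 (look b250 0) = true := by decide +kernel
theorem ha174 : tabA (mu g249 (nat_lit 128)) (nat_lit 128) a174 = true := by decide +kernel
theorem hb251 : tabB (mu g250 (nat_lit 256)) (nat_lit 256) a175 b251 (look b251 0) = true := by decide +kernel
theorem ha175 : tabA (mu g250 (nat_lit 256)) (nat_lit 256) a175 = true := by decide +kernel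
theorem hb252 : tabB (mu g251 (nat_lit 512)) (nat_lit 512) a176 b252 (look b252 0) = true := by decide +kernel
theorem ha176 : tabA (mu g251 (nat_lit 512)) (nat_lit 512) a176 = true := by decide +kernel
theorem hb282 : tabB (mu g3 (nat_lit 8)) (nat_lit 8) a192 b282 (look b282 0) = true := by decide +kernel
theorem ha192 : tabA (mu g3 (nat_lit 8)) (nat_lit 8) a192 = true := by decide +kernel
theorem hb283 : tabB (mu g282 (nat_lit 16)) (nat_lit 16) a193 b283 (look b283 0) = true := by decide +kernel
theorem ha193 : tabA (mu g282 (nat_lit 16)) (nat_lit 16) a193 = true := by decide +kernel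
theorem ht283 : tabT (mu (.ext a193 b283 (nat_lit 16) g282) (nat_lit 32)) (nat_lit 32) t283 = true := by decide +kernel
theorem hb284 : tabB (mu g283 (nat_lit 32)) (nat_lit 32) a194 b284 (look b284 0) = true := by decide +kernel
theorem ha194 : tabA (mu g283 (nat_lit 32)) (nat_lit 32) a194 = true := by decide +kernel
theorem ht284 : tabT (mu (.ext a194 b284 (nat_lit 32) g283) (nat_lit 64)) (nat_lit 64) t284 = true := by decide +kernel
theorem hb285 : tabB (mu g284 (nat_lit 64)) (nat_lit 64) a195 b285 (look b285 0) = true := by decide +kernel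
theorem ha195 : tabA (mu g284 (nat_lit 64)) (nat_lit 64) a195 = true := by decide +kernel
theorem ht285 : tabT (mu (.ext a195 b285 (nat_lit 64) g284) (nat_lit 128)) (nat_lit 128) t285 = true := by decide +kernel
theorem hb286 : tabB (mu g285 (nat_lit 128)) (nat_lit 128) a196 b286 (look b286 0) = true := by decide +kernel
theorem ha196 : tabA (mu g285 (nat_lit 128)) (nat_lit 128) a196 = true := by decide +kernel
theorem hb287 : tabB (mu g286 (nat_lit 256)) (nat_lit 256) a197 b287 (look b287 0) = true := by decide +kernel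
theorem ha197 : tabA (mu g286 (nat_lit 256)) (nat_lit 256) a197 = true := by decide +kernel
theorem hb288 : tabB (mu g287 (nat_lit 512)) (nat_lit 512) a198 b288 (look b288 0) = true := by decide +kernel
theorem ha198 : tabA (mu g287 (nat_lit 512)) (nat_lit 512) a198 = true := by decide +kernel
theorem hb298 : tabB (mu g110 (nat_lit 128)) (nat_lit 128) a203 b298 (look b298 0) = true := by decide +kernel
theorem ha203 : tabA (mu g110 (nat_lit 128)) (nat_lit 128) a203 = true := by decide +kernel
theorem hb299 : tabB (mu g298 (nat_lit 256)) (nat_lit 256) a204 b299 (look b299 0) = true := by decide +kernel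
theorem ha204 : tabA (mu g298 (nat_lit 256)) (nat_lit 256) a204 = true := by decide +kernel
theorem hb300 : tabB (mu g299 (nat_lit 512)) (nat_lit 512) a205 b300 (look b300 0) = true := by decide +kernel
theorem ha205 : tabA (mu g299 (nat_lit 512)) (nat_lit 512) a205 = true := by decide +kernel
theorem hb310 : tabB (mu g110 (nat_lit 128)) (nat_lit 128) a203 b310 (look b310 0) = true := by decide +kernel
theorem hb311 : tabB (mu g310 (nat_lit 256)) (nat_lit 256) a211 b311 (look b311 0) = true := by decide +kernel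
theorem ha211 : tabA (mu g310 (nat_lit 256)) (nat_lit 256) a211 = true := by decide +kernel
theorem hb312 : tabB (mu g311 (nat_lit 512)) (nat_lit 512) a212 b312 (look b312 0) = true := by decide +kernel
theorem ha212 : tabA (mu g311 (nat_lit 512)) (nat_lit 512) a212 = true := by decide +kernel
theorem hb322 : tabB (mu g286 (nat_lit 256)) (nat_lit 256) a217 b322 (look b322 0) = true := by decide +kernel
theorem ha217 : tabA (mu g286 (nat_lit 256)) (nat_lit 256) a217 = true := by decide +kernel
theorem hb323 : tabB (mu g322 (nat_lit 512)) (nat_lit 512) a218 b323 (look b323 0) = true := by decide +kernel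
theorem ha218 : tabA (mu g322 (nat_lit 512)) (nat_lit 512) a218 = true := by decide +kernel
theorem hb333 : tabB (mu g287 (nat_lit 512)) (nat_lit 512) a224 b333 (look b333 0) = true := by decide +kernel
theorem ha224 : tabA (mu g287 (nat_lit 512)) (nat_lit 512) a224 = true := by decide +kernel
theorem hb343 : tabB (mu g299 (nat_lit 512)) (nat_lit 512) a229 b343 (look b343 0) = true := by decide +kernel
theorem ha229 : tabA (mu g299 (nat_lit 512)) (nat_lit 512) a229 = true := by decide +kernel
theorem hb353 : tabB (mu g311 (nat_lit 512)) (nat_lit 512) a235 b353 (look b353 0) = true := by decide +kernel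
theorem ha235 : tabA (mu g311 (nat_lit 512)) (nat_lit 512) a235 = true := by decide +kernel
theorem hb363 : tabB (mu g322 (nat_lit 512)) (nat_lit 512) a240 b363 (look b363 0) = true := by decide +kernel
theorem ha240 : tabA (mu g322 (nat_lit 512)) (nat_lit 512) a240 = true := by decide +kernel
theorem hb380 : tabB (mu g46 (nat_lit 128)) (nat_lit 128) a69 b380 (look b380 0) = true := by decide +kernel
theorem hb382 : tabB (mu g380 (nat_lit 256)) (nat_lit 256) a249 b382 (look b382 0) = true := by decide +kernel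
theorem ha249 : tabA (mu g380 (nat_lit 256)) (nat_lit 256) a249 = true := by decide +kernel
theorem hb383 : tabB (mu g109 (nat_lit 64)) (nat_lit 64) a250 b383 (look b383 0) = true := by decide +kernel
theorem ha250 : tabA (mu g109 (nat_lit 64)) (nat_lit 64) a250 = true := by decide +kernel
theorem hb384 : tabB (mu g383 (nat_lit 128)) (nat_lit 128) a251 b384 (look b384 0) = true := by decide +kernel
theorem ha251 : tabA (mu g383 (nat_lit 128)) (nat_lit 128) a251 = true := by decide +kernel
theorem hb385 : tabB (mu g384 (nat_lit 256)) (nat_lit 256) a252 b385 (look b385 0) = true := by decide +kernel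
theorem ha252 : tabA (mu g384 (nat_lit 256)) (nat_lit 256) a252 = true := by decide +kernel
theorem hb386 : tabB (mu g382 (nat_lit 512)) (nat_lit 512) a253 b386 (look b386 0) = true := by decide +kernel
theorem ha253 : tabA (mu g382 (nat_lit 512)) (nat_lit 512) a253 = true := by decide +kernel
theorem hb387 : tabB (mu g123 (nat_lit 32)) (nat_lit 32) a254 b387 (look b387 0) = true := by decide +kernel
theorem ha254 : tabA (mu g123 (nat_lit 32)) (nat_lit 32) a254 = true := by decide +kernel
theorem ht387 : tabT (mu (.ext a254 b387 (nat_lit 32) g123) (nat_lit 64)) (nat_lit 64) t387 = true := by decide +kernel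
theorem hb388 : tabB (mu g387 (nat_lit 64)) (nat_lit 64) a255 b388 (look b388 0) = true := by decide +kernel
theorem ha255 : tabA (mu g387 (nat_lit 64)) (nat_lit 64) a255 = true := by decide +kernel
theorem hb389 : tabB (mu g388 (nat_lit 128)) (nat_lit 128) a256 b389 (look b389 0) = true := by decide +kernel
theorem ha256 : tabA (mu g388 (nat_lit 128)) (nat_lit 128) a256 = true := by decide +kernel
theorem hb390 : tabB (mu g389 (nat_lit 256)) (nat_lit 256) a257 b390 (look b390 0) = true := by decide +kernel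
theorem ha257 : tabA (mu g389 (nat_lit 256)) (nat_lit 256) a257 = true := by decide +kernel
theorem hb391 : tabB (mu g390 (nat_lit 512)) (nat_lit 512) a258 b391 (look b391 0) = true := by decide +kernel
theorem ha258 : tabA (mu g390 (nat_lit 512)) (nat_lit 512) a258 = true := by decide +kernel
theorem hb401 : tabB (mu g46 (nat_lit 128)) (nat_lit 128) a263 b401 (look b401 0) = true := by decide +kernel
theorem ha263 : tabA (mu g46 (nat_lit 128)) (nat_lit 128) a263 = true := by decide +kernel
theorem hb403 : tabB (mu g401 (nat_lit 256)) (nat_lit 256) a264 b403 (look b403 0) = true := by decide +kernel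
theorem ha264 : tabA (mu g401 (nat_lit 256)) (nat_lit 256) a264 = true := by decide +kernel
theorem hb404 : tabB (mu g131 (nat_lit 16)) (nat_lit 16) a265 b404 (look b404 0) = true := by decide +kernel
theorem ha265 : tabA (mu g131 (nat_lit 16)) (nat_lit 16) a265 = true := by decide +kernel
theorem ht404 : tabT (mu (.ext a265 b404 (nat_lit 16) g131) (nat_lit 32)) (nat_lit 32) t404 = true := by decide +kernel
theorem hb405 : tabB (mu g404 (nat_lit 32)) (nat_lit 32) a266 b405 (look b405 0) = true := by decide +kernel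
theorem ha266 : tabA (mu g404 (nat_lit 32)) (nat_lit 32) a266 = true := by decide +kernel
theorem hb406 : tabB (mu g405 (nat_lit 64)) (nat_lit 64) a267 b406 (look b406 0) = true := by decide +kernel
theorem ha267 : tabA (mu g405 (nat_lit 64)) (nat_lit 64) a267 = true := by decide +kernel
theorem hb407 : tabB (mu g406 (nat_lit 128)) (nat_lit 128) a268 b407 (look b407 0) = true := by decide +kernel
theorem ha268 : tabA (mu g406 (nat_lit 128)) (nat_lit 128) a268 = true := by decide +kernel
theorem hb408 : tabB (mu g407 (nat_lit 256)) (nat_lit 256) a269 b408 (look b408 0) = true := by decide +kernel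
theorem ha269 : tabA (mu g407 (nat_lit 256)) (nat_lit 256) a269 = true := by decide +kernel
theorem hb409 : tabB (mu g403 (nat_lit 512)) (nat_lit 512) a270 b409 (look b409 0) = true := by decide +kernel
theorem ha270 : tabA (mu g403 (nat_lit 512)) (nat_lit 512) a270 = true := by decide +kernel
theorem hb410 : tabB (mu g123 (nat_lit 32)) (nat_lit 32) a271 b410 (look b410 0) = true := by decide +kernel
theorem ha271 : tabA (mu g123 (nat_lit 32)) (nat_lit 32) a271 = true := by decide +kernel
theorem ht410 : tabT (mu (.ext a271 b410 (nat_lit 32) g123) (nat_lit 64)) (nat_lit 64) t410 = true := by decide +kernel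
theorem hb411 : tabB (mu g410 (nat_lit 64)) (nat_lit 64) a272 b411 (look b411 0) = true := by decide +kernel
theorem ha272 : tabA (mu g410 (nat_lit 64)) (nat_lit 64) a272 = true := by decide +kernel
theorem hb412 : tabB (mu g411 (nat_lit 128)) (nat_lit 128) a273 b412 (look b412 0) = true := by decide +kernel
theorem ha273 : tabA (mu g411 (nat_lit 128)) (nat_lit 128) a273 = true := by decide +kernel
theorem hb413 : tabB (mu g412 (nat_lit 256)) (nat_lit 256) a274 b413 (look b413 0) = true := by decide +kernel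
theorem ha274 : tabA (mu g412 (nat_lit 256)) (nat_lit 256) a274 = true := by decide +kernel
theorem hb414 : tabB (mu g413 (nat_lit 512)) (nat_lit 512) a275 b414 (look b414 0) = true := by decide +kernel
theorem ha275 : tabA (mu g413 (nat_lit 512)) (nat_lit 512) a275 = true := by decide +kernel
theorem hb424 : tabB (mu g46 (nat_lit 128)) (nat_lit 128) a263 b424 (look b424 0) = true := by decide +kernel
theorem hb426 : tabB (mu g424 (nat_lit 256)) (nat_lit 256) a280 b426 (look b426 0) = true := by decide +kernel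
theorem ha280 : tabA (mu g424 (nat_lit 256)) (nat_lit 256) a280 = true := by decide +kernel
theorem hb427 : tabB (mu g3 (nat_lit 8)) (nat_lit 8) a192 b427 (look b427 0) = true := by decide +kernel
theorem hb428 : tabB (mu g427 (nat_lit 16)) (nat_lit 16) a281 b428 (look b428 0) = true := by decide +kernel
theorem ha281 : tabA (mu g427 (nat_lit 16)) (nat_lit 16) a281 = true := by decide +kernel
theorem ht428 : tabT (mu (.ext a281 b428 (nat_lit 16) g427) (nat_lit 32)) (nat_lit 32) t428 = true := by decide +kernel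
theorem hb429 : tabB (mu g428 (nat_lit 32)) (nat_lit 32) a282 b429 (look b429 0) = true := by decide +kernel
theorem ha282 : tabA (mu g428 (nat_lit 32)) (nat_lit 32) a282 = true := by decide +kernel
theorem hb430 : tabB (mu g429 (nat_lit 64)) (nat_lit 64) a283 b430 (look b430 0) = true := by decide +kernel
theorem ha283 : tabA (mu g429 (nat_lit 64)) (nat_lit 64) a283 = true := by decide +kernel
theorem hb431 : tabB (mu g430 (nat_lit 128)) (nat_lit 128) a284 b431 (look b431 0) = true := by decide +kernel
theorem ha284 : tabA (mu g430 (nat_lit 128)) (nat_lit 128) a284 = true := by decide +kernel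
theorem hb432 : tabB (mu g431 (nat_lit 256)) (nat_lit 256) a285 b432 (look b432 0) = true := by decide +kernel
theorem ha285 : tabA (mu g431 (nat_lit 256)) (nat_lit 256) a285 = true := by decide +kernel
theorem hb434 : tabB (mu g426 (nat_lit 512)) (nat_lit 512) a286 b434 (look b434 0) = true := by decide +kernel
theorem ha286 : tabA (mu g426 (nat_lit 512)) (nat_lit 512) a286 = true := by decide +kernel
theorem hb435 : tabB (mu g123 (nat_lit 32)) (nat_lit 32) a287 b435 (look b435 0) = true := by decide +kernel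
theorem ha287 : tabA (mu g123 (nat_lit 32)) (nat_lit 32) a287 = true := by decide +kernel
theorem ht435 : tabT (mu (.ext a287 b435 (nat_lit 32) g123) (nat_lit 64)) (nat_lit 64) t435 = true := by decide +kernel
theorem hb436 : tabB (mu g435 (nat_lit 64)) (nat_lit 64) a288 b436 (look b436 0) = true := by decide +kernel
theorem ha288 : tabA (mu g435 (nat_lit 64)) (nat_lit 64) a288 = true := by decide +kernel
theorem ht436 : tabT (mu (.ext a288 b436 (nat_lit 64) g435) (nat_lit 128)) (nat_lit 128) t436 = true := by decide +kernel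
theorem hb437 : tabB (mu g436 (nat_lit 128)) (nat_lit 128) a289 b437 (look b437 0) = true := by decide +kernel
theorem ha289 : tabA (mu g436 (nat_lit 128)) (nat_lit 128) a289 = true := by decide +kernel
theorem hb438 : tabB (mu g437 (nat_lit 256)) (nat_lit 256) a290 b438 (look b438 0) = true := by decide +kernel
theorem ha290 : tabA (mu g437 (nat_lit 256)) (nat_lit 256) a290 = true := by decide +kernel
theorem hb439 : tabB (mu g438 (nat_lit 512)) (nat_lit 512) a291 b439 (look b439 0) = true := by decide +kernel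
theorem ha291 : tabA (mu g438 (nat_lit 512)) (nat_lit 512) a291 = true := by decide +kernel
theorem hb448 : tabB (mu g6 (nat_lit 64)) (nat_lit 64) a296 b448 (look b448 0) = true := by decide +kernel
theorem ha296 : tabA (mu g6 (nat_lit 64)) (nat_lit 64) a296 = true := by decide +kernel
theorem hb449 : tabB (mu g448 (nat_lit 128)) (nat_lit 128) a297 b449 (look b449 0) = true := by decide +kernel
theorem ha297 : tabA (mu g448 (nat_lit 128)) (nat_lit 128) a297 = true := by decide +kernel
theorem hb450 : tabB (mu g449 (nat_lit 256)) (nat_lit 256) a298 b450 (look b450 0) = true := by decide +kernel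
theorem ha298 : tabA (mu g449 (nat_lit 256)) (nat_lit 256) a298 = true := by decide +kernel
theorem hb451 : tabB (mu g449 (nat_lit 256)) (nat_lit 256) a298 b451 (look b451 0) = true := by decide +kernel
noncomputable def p0 : Pf := (.e8 (nat_lit 2) (nat_lit 8) (nat_lit 16))
theorem c0 : (chk [] [] p0).n x0 s0 = true := by decide +kernel
noncomputable def p1 : Pf := (.ext (nat_lit 0) (nat_lit 0) (nat_lit 0x1040010020008003004) (nat_lit 0x20010008004001013001001) (nat_lit 0x14008010038) (nat_lit 4097) (nat_lit 4170) (nat_lit 0x2801800801101f014) (.dfs (nat_lit 1) (nat_lit 0x1014008010038) (nat_lit 0x1009008018038) (nat_lit 0x1020004002001) (nat_lit 0x102801101f014) (nat_lit 21) (nat_lit 0) (nat_lit 2) (nat_lit 0) (nat_lit 0) (nat_lit 10) (nat_lit 1) (nat_lit 0) (nat_lit 1) (nat_lit 0) (nat_lit 1) (nat_lit 0) .nil))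
theorem c1 : (chk [] [] p1).n x1 s1 = true := by decide +kernel
noncomputable def p2 : Pf := (.ext (nat_lit 0) (nat_lit 0) (nat_lit 0x1080020040010001006008) (nat_lit 0x5003001002901501b02800107a00200006802003000802700d00600107a00200005e01002001600200102c001005) (nat_lit 0x1f01003005a) (nat_lit 4098) (nat_lit 4251) (nat_lit 0x5003001002101e03b028) (.dfs (nat_lit 2) (nat_lit 0x101f01003005a) (nat_lit 0x103c01002007a) (nat_lit 0x1040020008004002001) (nat_lit 0x105003002101e03b028) (nat_lit 41) (nat_lit 0) (nat_lit 2) (nat_lit 0) (nat_lit 0) (nat_lit 19) (nat_lit 1) (nat_lit 0) (nat_lit 1) (nat_lit 0) (nat_lit 1) (nat_lit 0) .nil))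
theorem c2 : (chk [] [] p2).n x2 s2 = true := by decide +kernel
noncomputable def p3 : Pf := (.ext (nat_lit 0) (nat_lit 0x602001004e001001) (nat_lit 0x1100040080020) (nat_lit 0x4e010006026001010008004002003002) (nat_lit 0x2003004008) (nat_lit 4098) (nat_lit 4099) (nat_lit 0xe004002005) (.dfs (nat_lit 2) (nat_lit 0x1001002004008) (nat_lit 0x100500200400e) (nat_lit 1) (nat_lit 1) (nat_lit 4) (nat_lit 0) (nat_lit 2) (nat_lit 0) (nat_lit 0x1002004008001001) (nat_lit 3) (nat_lit 1) (nat_lit 0) (nat_lit 1) (nat_lit 0) (nat_lit 1) (nat_lit 0) .nil))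
theorem c3 : (chk [] [] p3).n x3 s3 = true := by decide +kernel
noncomputable def p4 : Pf := (.ext (nat_lit 0) (nat_lit 0xf400400000602001004e001002) (nat_lit 0x110004008002001e) (nat_lit 0xf400400004e01000602600f001010008004002001003003) (nat_lit 0x4006008010) (nat_lit 4098) (nat_lit 4097) (nat_lit 0x1c00800400a00d) (.dfs (nat_lit 2) (nat_lit 0x1002004008010) (nat_lit 0x100a00400801c) (nat_lit 4097) (nat_lit 4109) (nat_lit 8) (nat_lit 0) (nat_lit 2) (nat_lit 0) (nat_lit 0x2004008010001001) (nat_lit 1) (nat_lit 1) (nat_lit 0) (nat_lit 1) (nat_lit 0) (nat_lit 1) (nat_lit 0) .nil))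
theorem c4 : (chk [] [] p4).n x4 s4 = true := by decide +kernel
noncomputable def p5 : Pf := (.ext (nat_lit 0) (nat_lit 0x602001004e001001) (nat_lit 0x1100040080020) (nat_lit 0x4e010006026001010008004002003002) (nat_lit 0x2003004008) (nat_lit 4098) (nat_lit 4099) (nat_lit 0xe004002005) (.dfs (nat_lit 2) (nat_lit 0x1001002004008) (nat_lit 0x100500200400e) (nat_lit 1) (nat_lit 1) (nat_lit 4) (nat_lit 0) (nat_lit 2) (nat_lit 0) (nat_lit 0x1002004008001001) (nat_lit 3) (nat_lit 1) (nat_lit 0) (nat_lit 1) (nat_lit 0) (nat_lit 1) (nat_lit 0) .nil))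
theorem c5 : (chk [] [] p5).n x5 s5 = true := by decide +kernel
noncomputable def p6 : Pf := (.ext (nat_lit 0) (nat_lit 0) (nat_lit 0x110004008002000200c010) (nat_lit 0x5e01002001600200102c001001) (nat_lit 0x17020010071) (nat_lit 4101) (nat_lit 4103) (nat_lit 0x5a02001002c02401600f) (.dfs (nat_lit 5) (nat_lit 0x1017020010071) (nat_lit 0x103d020010055) (nat_lit 0x1040008004002001) (nat_lit 0x105a02c02401600f) (nat_lit 16) (nat_lit 0) (nat_lit 2) (nat_lit 0) (nat_lit 0) (nat_lit 7) (nat_lit 1) (nat_lit 0) (nat_lit 1) (nat_lit 0) (nat_lit 1) (nat_lit 0) .nil))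
theorem c6 : (chk [] [] p6).n x6 s6 = true := by decide +kernel
noncomputable def p7 : Pf := (.lft (nat_lit 0x80020040010002017001008001001) (nat_lit 57) (nat_lit 0x10e00c00a0080) (nat_lit 0x8004002001000800407a021) (.extn a299 (nat_lit 0x80040020010008004002001) (nat_lit 0x1010040020080) (nat_lit 2) (nat_lit 0) (nat_lit 0) (nat_lit 9) (nat_lit 0x2000000000000000200000000000000) (.cE (nat_lit 57) b452 (nat_lit 0) (.cut (nat_lit 0)) (.cut (nat_lit 1)) (.cE (nat_lit 121) b453 (nat_lit 0) (.cut (nat_lit 2)) (.iso x6 s6 (nat_lit 0) (nat_lit 0x110008004002001000800408211d) (nat_lit 0x10008004002001000800408211d) [(nat_lit 0x700200100380040220310051321f2000002)] (.cut (nat_lit 3))) .nil))))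
theorem c7 : (chk [(x3, s3), (x4, s4), (x5, s5), (x6, s6)] [g450] p7).n x2 s7 = true := by decide +kernel
noncomputable def p8 : Pf := (.ext (nat_lit 0) (nat_lit 0) (nat_lit 0x1080020040010001006008) (nat_lit 0x7003001001901501b03800107a00200007802003001800700d01600107a00200004e01002000600200101c001005) (nat_lit 0xf01003005a) (nat_lit 4098) (nat_lit 4099) (nat_lit 0x5003001002101e03b028) (.dfs (nat_lit 2) (nat_lit 0x100f01003005a) (nat_lit 0x102c01002007a) (nat_lit 0x1040020008004002001) (nat_lit 0x105003002101e03b028) (nat_lit 41) (nat_lit 0) (nat_lit 2) (nat_lit 0) (nat_lit 0) (nat_lit 3) (nat_lit 1) (nat_lit 0) (nat_lit 4128) (nat_lit 32) (nat_lit 0x1000003) (nat_lit 8) (.cD (nat_lit 3) (.cut (nat_lit 0)) .nil)))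
theorem c8 : (chk [(x2, s7)] [] p8).n x2 s8 = true := by decide +kernel
noncomputable def p9 : Pf := (.ext (nat_lit 0) (nat_lit 0x1e004008020002001) (nat_lit 0x10c9040020059031) (nat_lit 0x5103002001100c00307a00200001e00800c00a00f00602100100001000800400200100500207a00004501002000d02c003007) (nat_lit 0x6004008010) (nat_lit 0x1006001) (nat_lit 0x100e007) (nat_lit 0x1000800400600901400800400e005) (.dfs (nat_lit 1) (nat_lit 0x1006004008010) (nat_lit 0x100a004008014) (nat_lit 0x1002001) (nat_lit 0x100e005) (nat_lit 4) (nat_lit 0) (nat_lit 2) (nat_lit 0) (nat_lit 0x1e004008020004001) (nat_lit 7) (nat_lit 1) (nat_lit 0) (nat_lit 4113) (nat_lit 17) (nat_lit 0x1000016000036) (nat_lit 0x40000000400000) (.cD (nat_lit 22) (.kA false (nat_lit 0x1600801802900103102003005100601e004008020004003)) (.cD (nat_lit 54) (.dfs (nat_lit 6) (nat_lit 0x100e008018039) (nat_lit 0x1016008018031) (nat_lit 0x1020010004002001) (nat_lit 0x102001000c012009) (nat_lit 8) (nat_lit 0) (nat_lit 2) (nat_lit 1) (nat_lit 0) (nat_lit 6) (nat_lit 1) (nat_lit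 0) (nat_lit 1) (nat_lit 0) (nat_lit 1) (nat_lit 0x4000000040000000400000004000) (.cD (nat_lit 14) (.cut (nat_lit 1)) (.cD (nat_lit 46) (.kA false (nat_lit 0x3f01002007200100602001004e001002)) (.cD (nat_lit 78) (.iso x2 s2 (nat_lit 0) (nat_lit 0x1080040020010008004002041) (nat_lit 0x80040020010008004002041) [(nat_lit 0x7901002002402800700d0020f1091000002)] (.cut (nat_lit 0))) (.cD (nat_lit 110) (.kA false (nat_lit 0x3f01002007200100602001004e001002)) .nil))))) .nil))))
theorem c9 : (chk [(x2, s2), (x2, s8)] [g449] p9).n x2 s9 = true := by decide +kernel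
noncomputable def p10 : Pf := (.anc (nat_lit 150) (nat_lit 0x1600707a001021001000003) (nat_lit 0x100300e04002001f) (.dfs (nat_lit 31) (nat_lit 4097) (nat_lit 4097) (nat_lit 1) (nat_lit 1) (nat_lit 0) (nat_lit 0) (nat_lit 3) (nat_lit 0) (nat_lit 0) (nat_lit 0) (nat_lit 1) (nat_lit 0) (nat_lit 0x1020010008004) (nat_lit 0x20010008004) (nat_lit 0x1001004002004003004000008002008000020000028002028001010001070) (nat_lit 0x10000010100000110) (.cD (nat_lit 4) (.kF (nat_lit 4) (nat_lit 0xe01600901f07a003021001000001002002004)) (.cD (nat_lit 8) (.kF (nat_lit 8) (nat_lit 0xe01600901f07a003021001000001002002004)) (.cD (nat_lit 32) (.dfs (nat_lit 32) (nat_lit 4098) (nat_lit 4098) (nat_lit 4097) (nat_lit 4097) (nat_lit 0) (nat_lit 0) (nat_lit 3) (nat_lit 0) (nat_lit 0) (nat_lit 0) (nat_lit 1) (nat_lit 0) (nat_lit 0x1010008) (nat_lit 65544) (nat_lit 0x1001008000010001028000030) (nat_lit 0x1000000010001010100010100) (.cD (nat_lit 8) (.kF (nat_lit 64) (nat_lit 0xa010005021001000001007001010010000020065004005)) (.cD (nat_lit 16)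 (.kF (nat_lit 16) (nat_lit 0x601000507a00200000200700101001000000f065004005)) (.cD (nat_lit 32) (.kc (nat_lit 63) (nat_lit 0x3001001)) (.cD (nat_lit 40) (.dfs (nat_lit 64) (nat_lit 4100) (nat_lit 4100) (nat_lit 0x1002001) (nat_lit 0x1002001) (nat_lit 0) (nat_lit 0) (nat_lit 3) (nat_lit 0) (nat_lit 0) (nat_lit 0) (nat_lit 1) (nat_lit 0) (nat_lit 1) (nat_lit 0) (nat_lit 1) (nat_lit 0x101000001010000010100000100) (.cD (nat_lit 8) (.kc (nat_lit 127) (nat_lit 0x7001001)) (.cD (nat_lit 32) (.kc (nat_lit 95) (nat_lit 0x5001001)) (.cD (nat_lit 40) (.kc (nat_lit 96) (nat_lit 0x3001001)) (.cD (nat_lit 64) (.kA false (nat_lit 0x2100100000400200300d00100f020030065004003)) (.cD (nat_lit 72) (.dfs (nat_lit 14) (nat_lit 4103) (nat_lit 4102) (nat_lit 1) (nat_lit 1) (nat_lit 1) (nat_lit 0) (nat_lit 1) (nat_lit 4160) (nat_lit 0x8004002001000800407a021) (nat_lit 0) (nat_lit 1) (nat_lit 0) (nat_lit 1) (nat_lit 0) (nat_lit 1) (nat_lit 0) .nil) (.cD (nat_lit 96) (.kA false (nat_lit 0x2001f01006500300200500100d00207a002000003)) (.cD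 (nat_lit 104) (.kA false (nat_lit 0x100600300800101002f03004a00400c00600801e008021001000004)) .nil)))))))) (.cD (nat_lit 48) (.kF (nat_lit 16) (nat_lit 0x801000a00200700101001000000f065004004)) (.cD (nat_lit 64) (.kF (nat_lit 16) (nat_lit 0x2100100000200700101001000000f065004004)) (.cD (nat_lit 96) (.kF (nat_lit 16) (nat_lit 0x7a00200000200700101001000000f065004004)) .nil)))))))) (.cD (nat_lit 40) (.dfs (nat_lit 32) (nat_lit 4098) (nat_lit 4098) (nat_lit 4097) (nat_lit 4097) (nat_lit 0) (nat_lit 0) (nat_lit 3) (nat_lit 0) (nat_lit 0) (nat_lit 0) (nat_lit 1) (nat_lit 0) (nat_lit 1) (nat_lit 0) (nat_lit 1) (nat_lit 0x101000001010000010100000100) (.cD (nat_lit 8) (.kF (nat_lit 64) (nat_lit 0x35003000001007001010010000020065004004)) (.cD (nat_lit 32) (.dfs (nat_lit 64) (nat_lit 4100) (nat_lit 4100) (nat_lit 0x1002001) (nat_lit 0x1002001) (nat_lit 0) (nat_lit 0) (nat_lit 3) (nat_lit 0) (nat_lit 0) (nat_lit 0) (nat_lit 1) (nat_lit 0) (nat_lit 1) (nat_lit 0) (nat_lit 1) (nat_lit 0x101000001010000010100000100) (.cD (nat_lit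 8) (.kc (nat_lit 127) (nat_lit 0x7001001)) (.cD (nat_lit 32) (.kc (nat_lit 96) (nat_lit 0x3001001)) (.cD (nat_lit 40) (.kc (nat_lit 95) (nat_lit 0x5001001)) (.cD (nat_lit 64) (.dfs (nat_lit 14) (nat_lit 0x1006001003008) (nat_lit 0x1007001003008) (nat_lit 0x1004002) (nat_lit 0x1005002) (nat_lit 1) (nat_lit 0) (nat_lit 2) (nat_lit 1) (nat_lit 0) (nat_lit 16) (nat_lit 1) (nat_lit 0) (nat_lit 4104) (nat_lit 8) (nat_lit 0x1000018000038) (nat_lit 0x100000001000000) (.cD (nat_lit 24) (.dfs (nat_lit 3) (nat_lit 0x100f002004010) (nat_lit 0x100c002006010) (nat_lit 0x1008001) (nat_lit 0x100b001) (nat_lit 1) (nat_lit 0) (nat_lit 2) (nat_lit 0) (nat_lit 0) (nat_lit 4) (nat_lit 1) (nat_lit 0) (nat_lit 4128) (nat_lit 32) (nat_lit 0x100002c) (nat_lit 0x100000000000) (.cD (nat_lit 44) (.cut (nat_lit 0)) .nil)) (.cD (nat_lit 56) (.kA false (nat_lit 0xa00200601000107a00200000f002004016002021001000004)) .nil))) (.cD (nat_lit 72) (.kA false (nat_lit 0x2100100000400200300d00100f020030065004003)) (.cD (nat_lit 96) (.kA false (nat_lit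 0x100600300800101002f03004a00400c00600801e008021001000004)) (.cD (nat_lit 104) (.kA false (nat_lit 0xf01f03f06500300400500700d00207a002000003)) .nil)))))))) (.cD (nat_lit 40) (.kc (nat_lit 63) (nat_lit 0x3001001)) (.cD (nat_lit 64) (.kF (nat_lit 64) (nat_lit 0x401600907a002000001007001010010000020065004005)) (.cD (nat_lit 72) (.kF (nat_lit 16) (nat_lit 0x2100100000200700101001000000f065004004)) (.cD (nat_lit 96) (.kF (nat_lit 16) (nat_lit 0xe01600900400400000200700101001000000f065004005)) (.cD (nat_lit 104) (.dfs (nat_lit 64) (nat_lit 4100) (nat_lit 4100) (nat_lit 0x1002001) (nat_lit 0x1002001) (nat_lit 0) (nat_lit 0) (nat_lit 3) (nat_lit 0) (nat_lit 0) (nat_lit 0) (nat_lit 1) (nat_lit 0) (nat_lit 1) (nat_lit 0) (nat_lit 1) (nat_lit 0x101000001010000010100000100) (.cD (nat_lit 8) (.dfs (nat_lit 14) (nat_lit 4102) (nat_lit 4103) (nat_lit 1) (nat_lit 1) (nat_lit 1) (nat_lit 0) (nat_lit 1) (nat_lit 4160) (nat_lit 0x8004002001000800407a021) (nat_lit 0) (nat_lit 1) (nat_lit 0) (nat_lit 1) (nat_lit 0) (nat_lit 1) (nat_lit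 0) .nil) (.cD (nat_lit 32) (.kA false (nat_lit 0xc00e00a01000500400200300d00100f020030065004003)) (.cD (nat_lit 40) (.kc (nat_lit 95) (nat_lit 0x5001001)) (.cD (nat_lit 64) (.kc (nat_lit 127) (nat_lit 0x7001001)) (.cD (nat_lit 72) (.kA false (nat_lit 0x2100100000400200300d00100f020030065004003)) (.cD (nat_lit 96) (.kA false (nat_lit 0x100600300800101002f03004a00400c00600801e008021001000004)) (.cD (nat_lit 104) (.kc (nat_lit 96) (nat_lit 0x3001001)) .nil)))))))) .nil)))))))) (.cD (nat_lit 64) (.kF (nat_lit 64) (nat_lit 0xe01600901f07a003021001000001002002004)) .nil)))))))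
theorem c10 : (chk [(x2, s9)] [] p10).n x2 s10 = true := by decide +kernel
noncomputable def p11 : Pf := (.ext (nat_lit 0) (nat_lit 0xf004002010002001) (nat_lit 0x1080020040010) (nat_lit 0x1f002006009002010008004002005002) (nat_lit 0x300600400b) (nat_lit 0x1008006001) (nat_lit 0x1011017016) (nat_lit 0x800400200300a00400200700e004002005) (.dfs (nat_lit 1) (nat_lit 0x1001002004008) (nat_lit 0x100500200400e) (nat_lit 1) (nat_lit 1) (nat_lit 4) (nat_lit 0) (nat_lit 2) (nat_lit 0) (nat_lit 0x1002004008001001) (nat_lit 22) (nat_lit 1) (nat_lit 0) (nat_lit 0x1088087) (nat_lit 0x88087) (nat_lit 0x1000016001016001036) (nat_lit 0x400000) (.cD (nat_lit 22) (.dfs (nat_lit 6) (nat_lit 0x1002004008010) (nat_lit 0x100e004008014) (nat_lit 4097) (nat_lit 4105) (nat_lit 8) (nat_lit 0) (nat_lit 2) (nat_lit 0) (nat_lit 0x2004008010001001) (nat_lit 23) (nat_lit 1) (nat_lit 0) (nat_lit 1) (nat_lit 0) (nat_lit 1) (nat_lit 0x1000000010000000100000001000000) (.cD (nat_lit 24) (.dfs (nat_lit 8) (nat_lit 0x1004008010020) (nat_lit 0x100c008010020)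 (nat_lit 0x1002001) (nat_lit 0x100a019) (nat_lit 0) (nat_lit 0) (nat_lit 2) (nat_lit 0) (nat_lit 0x4008010020001001) (nat_lit 17) (nat_lit 1) (nat_lit 0) (nat_lit 1) (nat_lit 0) (nat_lit 1) (nat_lit 0x20000000200000002000000020000) (.cD (nat_lit 17) (.kA false (nat_lit 0x1d020010075001004004000008010020040001003)) (.cD (nat_lit 49) (.kA false (nat_lit 0xd020010045001004004000028010020070001021001000004)) (.cD (nat_lit 81) (.kA false (nat_lit 0x1d02001005500100c03002006600102101003005000107a002000004)) (.cD (nat_lit 113) (.kS (nat_lit 0) (nat_lit 0x1f020030075002021001000002) (nat_lit 0x105707e) (nat_lit 0xa00400200701c00800400a005) (nat_lit 0x703001005600a00900100801002004000400200100102100001f02003007503e00b001004)) .nil))))) (.cD (nat_lit 56) (.dfs (nat_lit 8) (nat_lit 0x1004008010020) (nat_lit 0x100c008010020) (nat_lit 0x1002001) (nat_lit 0x100a019) (nat_lit 0) (nat_lit 0) (nat_lit 2) (nat_lit 0) (nat_lit 0x4008010020001001) (nat_lit 17) (nat_lit 1) (nat_lit 0) (nat_lit 1) (nat_lit 0) (nat_lit 1) (nat_lit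 0x20000000200000002000000020000) (.cD (nat_lit 17) (.kA false (nat_lit 0x1d020010075001004004000008010020040001003)) (.cD (nat_lit 49) (.kA false (nat_lit 0xd020010045001004004000028010020070001021001000004)) (.cD (nat_lit 81) (.kA false (nat_lit 0x1f020030055001007030010056001008010020040001003)) (.cD (nat_lit 113) (.kA false (nat_lit 0x3101003004000207a00200002f020030075002021001000004)) .nil))))) (.cD (nat_lit 88) (.dfs (nat_lit 8) (nat_lit 0x1004008010020) (nat_lit 0x100c008010020) (nat_lit 0x1002001) (nat_lit 0x100a019) (nat_lit 0) (nat_lit 0) (nat_lit 2) (nat_lit 0) (nat_lit 0x4008010020001001) (nat_lit 17) (nat_lit 1) (nat_lit 0) (nat_lit 1) (nat_lit 0) (nat_lit 1) (nat_lit 0x20000000200000002000000020000) (.cD (nat_lit 17) (.kA false (nat_lit 0x1d020010075001004004000008010020040001003)) (.cD (nat_lit 49) (.kA false (nat_lit 0xd020010045001004004000028010020070001021001000004)) (.cD (nat_lit 81) (.kA false (nat_lit 0xf020030055001037030010046001021001000008010020040001004)) (.cD (nat_lit 113) (.cut (nat_lit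 0)) .nil))))) (.cD (nat_lit 120) (.dfs (nat_lit 8) (nat_lit 0x1004008010020) (nat_lit 0x100c008010020) (nat_lit 0x1002001) (nat_lit 0x100a019) (nat_lit 0) (nat_lit 0) (nat_lit 2) (nat_lit 0) (nat_lit 0x4008010020001001) (nat_lit 17) (nat_lit 1) (nat_lit 0) (nat_lit 1) (nat_lit 0) (nat_lit 1) (nat_lit 0x20000000200000002000000020000) (.cD (nat_lit 17) (.kA false (nat_lit 0x1d020010075001004004000008010020040001003)) (.cD (nat_lit 49) (.kA false (nat_lit 0xd020010045001004004000028010020070001021001000004)) (.cD (nat_lit 81) (.kA false (nat_lit 0x3f020030055001017030010076001028010020070001021001000004)) (.cD (nat_lit 113) (.kA false (nat_lit 0x2101003004000207a00200000f020030075002021001000004)) .nil))))) .nil))))) .nil)))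
theorem c11 : (chk [(x2, s10)] [] p11).n x2 s11 = true := by decide +kernel
noncomputable def p12 : Pf := (.ext (nat_lit 0) (nat_lit 0x1602001005e001001) (nat_lit 0x11d008004009e) (nat_lit 0x5e01001603600101000800400200305e010020016002003) (nat_lit 0x2003004008) (nat_lit 0x102000c003) (nat_lit 0x102000302f) (nat_lit 0xc00400200100a004002005009004006001) (.dfs (nat_lit 3) (nat_lit 0x1002003004008) (nat_lit 0x1006007004009) (nat_lit 4097) (nat_lit 4097) (nat_lit 5) (nat_lit 0) (nat_lit 2) (nat_lit 0) (nat_lit 0x1602001005e003001) (nat_lit 47) (nat_lit 1) (nat_lit 0) (nat_lit 0x104011018e) (nat_lit 0x4011018e) (nat_lit 0x100002f00102f00202f) (nat_lit 0x800000000000) (.cD (nat_lit 47) (.dfs (nat_lit 12) (nat_lit 0x1004006008010) (nat_lit 0x100400e008014) (nat_lit 0x1002001) (nat_lit 0x100a00f) (nat_lit 4) (nat_lit 0) (nat_lit 2) (nat_lit 0) (nat_lit 0x1602001005e003001) (nat_lit 3) (nat_lit 1) (nat_lit 0) (nat_lit 4318) (nat_lit 222) (nat_lit 0x100001d) (nat_lit 0x20000000) (.cD (nat_lit 29) (.dfs (nat_lit 32) (nat_lit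 0x100800c010020) (nat_lit 0x100800c010030) (nat_lit 0x1004002001) (nat_lit 0x1004006019) (nat_lit 0) (nat_lit 0) (nat_lit 2) (nat_lit 0) (nat_lit 0x1602001005e003001) (nat_lit 32) (nat_lit 1) (nat_lit 0) (nat_lit 1) (nat_lit 0) (nat_lit 1) (nat_lit 0x4000000000000000000000000000000040000000000000000000000000000000) (.cD (nat_lit 126) (.cut (nat_lit 0)) (.cD (nat_lit 254) (.kS (nat_lit 0) (nat_lit 0x1001802004000201602001005e003002) (nat_lit 0x10120f10be) (nat_lit 0x800600200901400800400a01d02001000800c022019) (nat_lit 0x1800802004002703c01900100801002004000400200100101001802004002a02f009001003)) .nil))) .nil)) .nil)))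
theorem c12 : (chk [(x6, s6)] [] p12).n x6 s12 = true := by decide +kernel
noncomputable def p13 : Pf := (.ext (nat_lit 0) (nat_lit 0x1602001005e001001) (nat_lit 0x1100040080020) (nat_lit 0x5e010016036001010008004002003002) (nat_lit 0x2003004008) (nat_lit 4098) (nat_lit 4131) (nat_lit 0xe004002005) (.dfs (nat_lit 2) (nat_lit 0x1001002004008) (nat_lit 0x100500200400e) (nat_lit 1) (nat_lit 1) (nat_lit 4) (nat_lit 0) (nat_lit 2) (nat_lit 0) (nat_lit 0x1002004008001001) (nat_lit 35) (nat_lit 1) (nat_lit 0) (nat_lit 1) (nat_lit 0) (nat_lit 1) (nat_lit 0) .nil))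
theorem c13 : (chk [] [] p13).n x7 s13 = true := by decide +kernel
noncomputable def p14 : Pf := (.e8 (nat_lit 5) (nat_lit 128) (nat_lit 192))
theorem c14 : (chk [] [] p14).n x8 s14 = true := by decide +kernel
noncomputable def p15 : Pf := (.clm (.cut (nat_lit 0)) (.dfs (nat_lit 256) (nat_lit 1) (nat_lit 1) (nat_lit 1) (nat_lit 1) (nat_lit 0) (nat_lit 0) (nat_lit 0) (nat_lit 0) (nat_lit 0) (nat_lit 0) (nat_lit 1) (nat_lit 0) (nat_lit 0x1100040020010008004002001) (nat_lit 0x1000400200100080f40420b3) (nat_lit 0x100010000110000210000010800110800510800610800010d00110d00210d00310d00510d00610d00010e00110e00210e00310e00410e00011c00211c00711c00012900112900212900312900116c00416c00716c0031c00011b80061d400113800617f00115000215000315000515000218e00318e00418e00014e0001ab0011ab0031ab0051ab0071ab0001690021690051690071690001b70011200011e000212b) (nat_lit 0x200100061010000000000000000000000000000000000000000000000000000000000000000) (.cD (nat_lit 256) (.kin (nat_lit 1) (nat_lit 0)) (.cD (nat_lit 264) (.czp (nat_lit 264) (nat_lit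 0x1002001) (nat_lit 0x1100080070008014005) z3 (.dfs (nat_lit 128) (nat_lit 4097) (nat_lit 4097) (nat_lit 1) (nat_lit 1) (nat_lit 0) (nat_lit 0) (nat_lit 3) (nat_lit 0) (nat_lit 0) (nat_lit 0) (nat_lit 0x1100011008005) (nat_lit 1) (nat_lit 1) (nat_lit 0) (nat_lit 1) (nat_lit 0x100000000000000000000000000000000) (.cD (nat_lit 128) (.dfs (nat_lit 32) (nat_lit 4098) (nat_lit 4098) (nat_lit 4097) (nat_lit 4097) (nat_lit 0) (nat_lit 0) (nat_lit 3) (nat_lit 0) (nat_lit 0) (nat_lit 0) (nat_lit 1) (nat_lit 0) (nat_lit 0x1008014005) (nat_lit 0x8014005) (nat_lit 0x100100500200500000800100800101100201100106400205900209400207d) (nat_lit 0x100000010000000000000000000020120) (.cD (nat_lit 5) (.kb (nat_lit 284) (nat_lit 0x800040040f4000007002072005004) (nat_lit 0x1080040130008014002005)) (.cD (nat_lit 8) (.kF (nat_lit 32) (nat_lit 0xf4004000003006002040040000001004001004)) (.cD (nat_lit 17) (.kF (nat_lit 32) (nat_lit 0xf4004000003006002040040000001004001004)) (.cD (nat_lit 100) (.kb (nat_lit 348) (nat_lit 0x800040040f4000007002003)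 (nat_lit 0x1080040130038024002005)) (.cD (nat_lit 128) (.kc (nat_lit 160) (nat_lit 0x3001001)) .nil)))))) .nil))) (.cD (nat_lit 269) (.kb (nat_lit 412) (nat_lit 0x1002052005002) (nat_lit 0x1080040130008014002005)) (.cD (nat_lit 270) (.kn (nat_lit 1) (nat_lit 0x1100080040020010008) false (nat_lit 0x1010008004002001) (nat_lit 0x100080f40420b3) (nat_lit 0x100010e00110e00210e00310e00410e001150002150003150)) (.cD (nat_lit 284) (.kb (nat_lit 284) (nat_lit 0x1002001) (nat_lit 0x1080040130008014002005)) (.cD (nat_lit 297) (.kn (nat_lit 1) (nat_lit 0x1100080040020010008) false (nat_lit 0x1020008004002001) (nat_lit 0x200080f40420b3) (nat_lit 0x10001290011290021290031290001ab0011ab0031ab0041ab)) .nil))))))))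
theorem c15 : (chk [(x8, s14)] [] p15).n x8 s15 = true := by decide +kernel
noncomputable def p16 : Pf := (.ext (nat_lit 0) (nat_lit 0) (nat_lit 0x110004008002000200c010) (nat_lit 0x5e01002001600200102c003001) (nat_lit 0x17020010071) (nat_lit 4101) (nat_lit 4103) (nat_lit 0x5a02001002c02401600f) (.dfs (nat_lit 5) (nat_lit 0x1017020010071) (nat_lit 0x103d020010055) (nat_lit 0x1040008004002001) (nat_lit 0x105a02c02401600f) (nat_lit 0) (nat_lit 0) (nat_lit 2) (nat_lit 0) (nat_lit 0) (nat_lit 7) (nat_lit 1) (nat_lit 0) (nat_lit 1) (nat_lit 0) (nat_lit 1) (nat_lit 0x80000000000000008000000000000000800000000000000080) (.cD (nat_lit 7) (.kS (nat_lit 0) (nat_lit 0x10020040080001001) (nat_lit 0x102c0dc007) (nat_lit 0xa00400200701c00800400a00502a01000803500a013) (nat_lit 0x2e0400200e201400605d002010020040080008004001002002)) (.cD (nat_lit 71) (.cut (nat_lit 0)) (.cD (nat_lit 135) (.iso x8 s15 (nat_lit 0) (nat_lit 0x1100080040020010008004002081) (nat_lit 0x100080040020010008004002081) [(nat_lit 0x80040020010008004002021001001),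 (nat_lit 0x1001000004002001800802c01f029004010010000003)] (.cut (nat_lit 0))) (.cD (nat_lit 199) (.kS (nat_lit 0) (nat_lit 0x10020040080001001) (nat_lit 0x102c0dc0c7) (nat_lit 0xa00400200701c00800400a00502a01000803500a013) (nat_lit 0x2e0400200e201400603d002010020040080008004001002002)) .nil))))))
theorem c16 : (chk [(x8, s15)] [g451] p16).n x8 s16 = true := by decide +kernel
noncomputable def p17 : Pf := (.ext (nat_lit 0) (nat_lit 0x1602001005e001001) (nat_lit 0x11d008004009e) (nat_lit 0x5e01001603600101000800400200305e010020016002003) (nat_lit 0x2003004008) (nat_lit 0x102000c003) (nat_lit 0x102000302f) (nat_lit 0xc00400200100a004002005009004006001) (.dfs (nat_lit 3) (nat_lit 0x1002003004008) (nat_lit 0x1006007004009) (nat_lit 4097) (nat_lit 4097) (nat_lit 1) (nat_lit 0) (nat_lit 2) (nat_lit 0) (nat_lit 0x1602001005e003001) (nat_lit 47) (nat_lit 1) (nat_lit 0) (nat_lit 0x104011018e) (nat_lit 0x4011018e) (nat_lit 0x100002f00102f00202f) (nat_lit 0x800000000000) (.cD (nat_lit 47) (.dfs (nat_lit 12) (nat_lit 0x1004006008010)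 (nat_lit 0x100400e008014) (nat_lit 0x1002001) (nat_lit 0x100a00f) (nat_lit 4) (nat_lit 0) (nat_lit 2) (nat_lit 0) (nat_lit 0x1602001005e003001) (nat_lit 3) (nat_lit 1) (nat_lit 0) (nat_lit 4318) (nat_lit 222) (nat_lit 0x1000003) (nat_lit 8) (.cD (nat_lit 3) (.dfs (nat_lit 32) (nat_lit 0x100800c010020) (nat_lit 0x100800c010030) (nat_lit 0x1004002001) (nat_lit 0x1004006019) (nat_lit 0) (nat_lit 0) (nat_lit 2) (nat_lit 0) (nat_lit 0x1602001005e003001) (nat_lit 32) (nat_lit 1) (nat_lit 0) (nat_lit 1) (nat_lit 0) (nat_lit 1) (nat_lit 0x4000000000000000000000000000000040000000000000000000000000000000) (.cD (nat_lit 126) (.kS (nat_lit 0) (nat_lit 0x1001802004000201602001005e003002) (nat_lit 0x100c0af03e) (nat_lit 0x800600200901400800400a01d02001000800c022019) (nat_lit 0x18008020040027004039001008010020040004002001001010018020040002007029001003)) (.cD (nat_lit 254) (.cut (nat_lit 0)) .nil))) .nil)) .nil)))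
theorem c17 : (chk [(x8, s16)] [] p17).n x8 s17 = true := by decide +kernel
noncomputable def p18 : Pf := (.ext (nat_lit 0) (nat_lit 0x1602001005e001001) (nat_lit 0x1100040080020) (nat_lit 0x5e010016036001010008004002003002) (nat_lit 0x2003004008) (nat_lit 4098) (nat_lit 4131) (nat_lit 0xe004002005) (.dfs (nat_lit 2) (nat_lit 0x1001002004008) (nat_lit 0x100500200400e) (nat_lit 1) (nat_lit 1) (nat_lit 4) (nat_lit 0) (nat_lit 2) (nat_lit 0) (nat_lit 0x1002004008001001) (nat_lit 35) (nat_lit 1) (nat_lit 0) (nat_lit 1) (nat_lit 0) (nat_lit 1) (nat_lit 0) .nil))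
theorem c18 : (chk [] [] p18).n x9 s18 = true := by decide +kernel
noncomputable def p19 : Pf := (.lft (nat_lit 0x80020040010002017001008001001) (nat_lit 25) (nat_lit 0x10e00c00a0080) (nat_lit 0x8004002001000800407a021) (.extn a298 (nat_lit 0x80040020010008004002001) (nat_lit 0x1010040020080) (nat_lit 2) (nat_lit 0) (nat_lit 0) (nat_lit 9) (nat_lit 0x20000000000000002000000) (.cE (nat_lit 25) b450 (nat_lit 0) (.cut (nat_lit 0)) (.cut (nat_lit 1)) (.cE (nat_lit 89) b451 (nat_lit 0) (.cut (nat_lit 2)) (.cut (nat_lit 3)) .nil))))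
theorem c19 : (chk [(x6, s12), (x7, s13), (x8, s17), (x9, s18)] [] p19).n x2 s19 = true := by decide +kernel
noncomputable def p20 : Pf := (.ext (nat_lit 0) (nat_lit 0) (nat_lit 0x1080020040010001006008) (nat_lit 0x5003001002903500b02800107a00200006802003000802702d00600107a00200005e01002001600200102c001005) (nat_lit 0x2f01003004a) (nat_lit 4098) (nat_lit 4099) (nat_lit 0x5003001002101e03b028) (.dfs (nat_lit 2) (nat_lit 0x102f01003004a) (nat_lit 0x101c01002006a) (nat_lit 0x1040020008004002001) (nat_lit 0x105003002101e03b028) (nat_lit 41) (nat_lit 0) (nat_lit 2) (nat_lit 0) (nat_lit 0) (nat_lit 3) (nat_lit 1) (nat_lit 0) (nat_lit 4128) (nat_lit 32) (nat_lit 0x1000023) (nat_lit 0x800000000) (.cD (nat_lit 35) (.cut (nat_lit 0)) .nil)))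
theorem c20 : (chk [(x2, s19)] [] p20).n x2 s20 = true := by decide +kernel
noncomputable def p21 : Pf := (.ext (nat_lit 0) (nat_lit 0x1e004008020002001) (nat_lit 0x1089040020019011) (nat_lit 0x5103002001100c00307a00200001e00800c00a00f00602100100001000800400200100500207a00005501002001d00c003007) (nat_lit 0xe00400801c) (nat_lit 0x1006001) (nat_lit 0x100e007) (nat_lit 0x1000800400600901400800400e005) (.dfs (nat_lit 1) (nat_lit 0x100e00400801c) (nat_lit 0x1002004008018) (nat_lit 0x1010002001) (nat_lit 0x101400e005) (nat_lit 4) (nat_lit 0) (nat_lit 2) (nat_lit 0) (nat_lit 0x1e004008020004001) (nat_lit 7) (nat_lit 1) (nat_lit 0) (nat_lit 4113) (nat_lit 17) (nat_lit 0x1000016000036) (nat_lit 0x40000000400000) (.cD (nat_lit 22) (.dfs (nat_lit 6) (nat_lit 0x1016008018031) (nat_lit 0x100e008018039) (nat_lit 0x1020010004002001) (nat_lit 0x102001000c012009) (nat_lit 8) (nat_lit 0) (nat_lit 2) (nat_lit 1) (nat_lit 0) (nat_lit 6) (nat_lit 1) (nat_lit 0) (nat_lit 1) (nat_lit 0) (nat_lit 1) (nat_lit 0x4000000040000000400000004000)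 (.cD (nat_lit 14) (.kA false (nat_lit 0x1f01002006200101602001005e001002)) (.cD (nat_lit 46) (.cut (nat_lit 1)) (.cD (nat_lit 78) (.kA false (nat_lit 0x1f01002006200101602001005e001002)) (.cD (nat_lit 110) (.cut (nat_lit 0)) .nil))))) (.cD (nat_lit 54) (.kA false (nat_lit 0xa00400801000a01b018008024002008010020040005003)) .nil))))
theorem c21 : (chk [(x2, s20), (x2, s2)] [] p21).n x2 s21 = true := by decide +kernel
noncomputable def p22 : Pf := (.anc (nat_lit 150) (nat_lit 0x10003041002002) (nat_lit 0x100300e04002001f) (.dfs (nat_lit 31) (nat_lit 4097) (nat_lit 4097) (nat_lit 1) (nat_lit 1) (nat_lit 0) (nat_lit 0) (nat_lit 3) (nat_lit 0) (nat_lit 0) (nat_lit 0) (nat_lit 1) (nat_lit 0) (nat_lit 0x1020010008004) (nat_lit 0x20010008004) (nat_lit 0x1001004002004003004000008002008000020000028002028001010001070) (nat_lit 0x10000010100000110) (.cD (nat_lit 4) (.kF (nat_lit 4) (nat_lit 0xb010005017041004001002002003)) (.cD (nat_lit 8) (.kF (nat_lit 8) (nat_lit 0xb010005017041004001002002003)) (.cD (nat_lit 32) (.dfs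 (nat_lit 32) (nat_lit 4098) (nat_lit 4098) (nat_lit 4097) (nat_lit 4097) (nat_lit 0) (nat_lit 0) (nat_lit 3) (nat_lit 0) (nat_lit 0) (nat_lit 0) (nat_lit 1) (nat_lit 0) (nat_lit 0x1010008) (nat_lit 65544) (nat_lit 0x1001008000010001028000030) (nat_lit 0x1000000010001010100010100) (.cD (nat_lit 8) (.kF (nat_lit 64) (nat_lit 0xa010005021001000001007001001021000020075004005)) (.cD (nat_lit 16) (.kF (nat_lit 80) (nat_lit 0x601000507a00200000200700100102100001f075004005)) (.cD (nat_lit 32) (.kc (nat_lit 63) (nat_lit 0x3001001)) (.cD (nat_lit 40) (.dfs (nat_lit 64) (nat_lit 4100) (nat_lit 4100) (nat_lit 0x1002001) (nat_lit 0x1002001) (nat_lit 0) (nat_lit 0) (nat_lit 3) (nat_lit 0) (nat_lit 0) (nat_lit 0) (nat_lit 1) (nat_lit 0) (nat_lit 1) (nat_lit 0) (nat_lit 1) (nat_lit 0x101000001010000010100000100) (.cD (nat_lit 8) (.kc (nat_lit 127) (nat_lit 0x7001001)) (.cD (nat_lit 32) (.kc (nat_lit 95) (nat_lit 0x5001001)) (.cD (nat_lit 40) (.kc (nat_lit 96) (nat_lit 0x3001001)) (.cD (nat_lit 64) (.kA false (nat_lit 0x600100300800102702001004100300d004002010006003))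 (.cD (nat_lit 72) (.dfs (nat_lit 14) (nat_lit 4103) (nat_lit 4102) (nat_lit 1) (nat_lit 1) (nat_lit 1) (nat_lit 0) (nat_lit 1) (nat_lit 4160) (nat_lit 0x8004002001000800407a021) (nat_lit 0) (nat_lit 1) (nat_lit 0) (nat_lit 1) (nat_lit 0) (nat_lit 1) (nat_lit 0) .nil) (.cD (nat_lit 96) (.kA false (nat_lit 0x600100300800102702001004100300d004002010006003)) (.cD (nat_lit 104) (.kA false (nat_lit 0x600100300800102702001004100300d004002010006003)) .nil)))))))) (.cD (nat_lit 48) (.kF (nat_lit 80) (nat_lit 0x801000a00200700100102100001f075004004)) (.cD (nat_lit 64) (.kF (nat_lit 80) (nat_lit 0x2100100000200700100102100001f075004004)) (.cD (nat_lit 96) (.kF (nat_lit 80) (nat_lit 0x7a00200000200700100102100001f075004004)) .nil)))))))) (.cD (nat_lit 40) (.dfs (nat_lit 32) (nat_lit 4098) (nat_lit 4098) (nat_lit 4097) (nat_lit 4097) (nat_lit 0) (nat_lit 0) (nat_lit 3) (nat_lit 0) (nat_lit 0) (nat_lit 0) (nat_lit 1) (nat_lit 0) (nat_lit 1) (nat_lit 0) (nat_lit 1) (nat_lit 0x101000001010000010100000100) (.cD (nat_lit 8) (.kF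 (nat_lit 64) (nat_lit 0x35003000001007001001021000020075004004)) (.cD (nat_lit 32) (.dfs (nat_lit 64) (nat_lit 4100) (nat_lit 4100) (nat_lit 0x1002001) (nat_lit 0x1002001) (nat_lit 0) (nat_lit 0) (nat_lit 3) (nat_lit 0) (nat_lit 0) (nat_lit 0) (nat_lit 1) (nat_lit 0) (nat_lit 1) (nat_lit 0) (nat_lit 1) (nat_lit 0x101000001010000010100000100) (.cD (nat_lit 8) (.kc (nat_lit 127) (nat_lit 0x7001001)) (.cD (nat_lit 32) (.kc (nat_lit 96) (nat_lit 0x3001001)) (.cD (nat_lit 40) (.kc (nat_lit 95) (nat_lit 0x5001001)) (.cD (nat_lit 64) (.dfs (nat_lit 14) (nat_lit 0x1006001003008) (nat_lit 0x1007001003008) (nat_lit 0x1004002) (nat_lit 0x1005002) (nat_lit 1) (nat_lit 0) (nat_lit 2) (nat_lit 1) (nat_lit 0) (nat_lit 16) (nat_lit 1) (nat_lit 0) (nat_lit 4104) (nat_lit 8) (nat_lit 0x1000018000038) (nat_lit 0x100000001000000) (.cD (nat_lit 24) (.dfs (nat_lit 3) (nat_lit 0x100f002004010) (nat_lit 0x100c002006010) (nat_lit 0x1008001) (nat_lit 0x100b001) (nat_lit 1) (nat_lit 0) (nat_lit 2) (nat_lit 0) (nat_lit 0) (nat_lit 4) (nat_lit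 1) (nat_lit 0) (nat_lit 4128) (nat_lit 32) (nat_lit 0x100002c) (nat_lit 0x100000000000) (.cD (nat_lit 44) (.cut (nat_lit 0)) .nil)) (.cD (nat_lit 56) (.kA false (nat_lit 0xe00400601000503102003004100400b002004010002003)) .nil))) (.cD (nat_lit 72) (.kA false (nat_lit 0x600100300800102702001004100300d004002010006003)) (.cD (nat_lit 96) (.kA false (nat_lit 0x600100300800102702001004100300d004002010006003)) (.cD (nat_lit 104) (.kA false (nat_lit 0x600100300800102702001004100300d004002010006003)) .nil)))))))) (.cD (nat_lit 40) (.kc (nat_lit 63) (nat_lit 0x3001001)) (.cD (nat_lit 64) (.kF (nat_lit 64) (nat_lit 0x401600907a002000001007001001021000020075004005)) (.cD (nat_lit 72) (.kF (nat_lit 80) (nat_lit 0x2100100000200700100102100001f075004004)) (.cD (nat_lit 96) (.kF (nat_lit 80) (nat_lit 0xe01600900400400000200700100102100001f075004005)) (.cD (nat_lit 104) (.dfs (nat_lit 64) (nat_lit 4100) (nat_lit 4100) (nat_lit 0x1002001) (nat_lit 0x1002001) (nat_lit 0) (nat_lit 0) (nat_lit 3) (nat_lit 0) (nat_lit 0) (nat_lit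 0) (nat_lit 1) (nat_lit 0) (nat_lit 1) (nat_lit 0) (nat_lit 1) (nat_lit 0x101000001010000010100000100) (.cD (nat_lit 8) (.dfs (nat_lit 14) (nat_lit 4102) (nat_lit 4103) (nat_lit 1) (nat_lit 1) (nat_lit 1) (nat_lit 0) (nat_lit 1) (nat_lit 4160) (nat_lit 0x8004002001000800407a021) (nat_lit 0) (nat_lit 1) (nat_lit 0) (nat_lit 1) (nat_lit 0) (nat_lit 1) (nat_lit 0) .nil) (.cD (nat_lit 32) (.kA false (nat_lit 0x600100300800102702001004100300d004002010006003)) (.cD (nat_lit 40) (.kc (nat_lit 95) (nat_lit 0x5001001)) (.cD (nat_lit 64) (.kc (nat_lit 127) (nat_lit 0x7001001)) (.cD (nat_lit 72) (.kA false (nat_lit 0x600100300800102702001004100300d004002010006003)) (.cD (nat_lit 96) (.kA false (nat_lit 0x600100300800102702001004100300d004002010006003)) (.cD (nat_lit 104) (.kc (nat_lit 96) (nat_lit 0x3001001)) .nil)))))))) .nil)))))))) (.cD (nat_lit 64) (.kF (nat_lit 64) (nat_lit 0xb010005017041004001002002003)) .nil)))))))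
theorem c22 : (chk [(x2, s21)] [] p22).n x2 s22 = true := by decide +kernel
noncomputable def p23 : Pf := (.ext (nat_lit 0) (nat_lit 0xd004002010002001) (nat_lit 0x1080020040010) (nat_lit 0x1d00200600b002010008004002005002) (nat_lit 0x300600400b) (nat_lit 0x1008006001) (nat_lit 0x1011017016) (nat_lit 0x800400200300a00400200700e004002005) (.dfs (nat_lit 1) (nat_lit 0x1001002004008) (nat_lit 0x100500200400e) (nat_lit 1) (nat_lit 1) (nat_lit 4) (nat_lit 0) (nat_lit 2) (nat_lit 0) (nat_lit 0x1002004008001001) (nat_lit 22) (nat_lit 1) (nat_lit 0) (nat_lit 0x1088087) (nat_lit 0x88087) (nat_lit 0x1000016001016001036) (nat_lit 0x400000) (.cD (nat_lit 22) (.dfs (nat_lit 6) (nat_lit 0x1002004008010) (nat_lit 0x100e004008014) (nat_lit 4097) (nat_lit 4105) (nat_lit 8) (nat_lit 0) (nat_lit 2) (nat_lit 0) (nat_lit 0x2004008010001001) (nat_lit 23) (nat_lit 1) (nat_lit 0) (nat_lit 1) (nat_lit 0) (nat_lit 1) (nat_lit 0x1000000010000000100000001000000) (.cD (nat_lit 24) (.dfs (nat_lit 8) (nat_lit 0x1004008010020) (nat_lit 0x100c008010020)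 (nat_lit 0x1002001) (nat_lit 0x100a019) (nat_lit 0) (nat_lit 0) (nat_lit 2) (nat_lit 0) (nat_lit 0x4008010020001001) (nat_lit 17) (nat_lit 1) (nat_lit 0) (nat_lit 1) (nat_lit 0) (nat_lit 1) (nat_lit 0x20000000200000002000000020000) (.cD (nat_lit 17) (.kA false (nat_lit 0x1d020010055001004004000028010020070001021001000004)) (.cD (nat_lit 49) (.kA false (nat_lit 0xd020010065001004004000008010020040001003)) (.cD (nat_lit 81) (.cut (nat_lit 0)) (.cD (nat_lit 113) (.kA false (nat_lit 0x1f020030045001007030010066001028010020070001021001000004)) .nil))))) (.cD (nat_lit 56) (.dfs (nat_lit 8) (nat_lit 0x1004008010020) (nat_lit 0x100c008010020) (nat_lit 0x1002001) (nat_lit 0x100a019) (nat_lit 0) (nat_lit 0) (nat_lit 2) (nat_lit 0) (nat_lit 0x4008010020001001) (nat_lit 17) (nat_lit 1) (nat_lit 0) (nat_lit 1) (nat_lit 0) (nat_lit 1) (nat_lit 0x20000000200000002000000020000) (.cD (nat_lit 17) (.kA false (nat_lit 0x1d020010055001004004000028010020070001021001000004)) (.cD (nat_lit 49) (.kA false (nat_lit 0xd020010065001004004000008010020040001003))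 (.cD (nat_lit 81) (.kA false (nat_lit 0x2101003004000207a00200003f020030065002021001000004)) (.cD (nat_lit 113) (.kA false (nat_lit 0x2f02003004500100400400002101003005000107a002000004)) .nil))))) (.cD (nat_lit 88) (.dfs (nat_lit 8) (nat_lit 0x1004008010020) (nat_lit 0x100c008010020) (nat_lit 0x1002001) (nat_lit 0x100a019) (nat_lit 0) (nat_lit 0) (nat_lit 2) (nat_lit 0) (nat_lit 0x4008010020001001) (nat_lit 17) (nat_lit 1) (nat_lit 0) (nat_lit 1) (nat_lit 0) (nat_lit 1) (nat_lit 0x20000000200000002000000020000) (.cD (nat_lit 17) (.kA false (nat_lit 0x1d020010055001004004000028010020070001021001000004)) (.cD (nat_lit 49) (.kA false (nat_lit 0xd020010065001004004000008010020040001003)) (.cD (nat_lit 81) (.kS (nat_lit 0) (nat_lit 0x17030010046001008010020040001002) (nat_lit 0x103705e) (nat_lit 0xa00400200701c00800400a005) (nat_lit 0x1001000001f02003007503e00b00200801002004000400200201703001004600a019002004)) (.cD (nat_lit 113) (.kA false (nat_lit 0x3f020030045001017030010046001008010020040001003)) .nil))))) (.cD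 (nat_lit 120) (.dfs (nat_lit 8) (nat_lit 0x1004008010020) (nat_lit 0x100c008010020) (nat_lit 0x1002001) (nat_lit 0x100a019) (nat_lit 0) (nat_lit 0) (nat_lit 2) (nat_lit 0) (nat_lit 0x4008010020001001) (nat_lit 17) (nat_lit 1) (nat_lit 0) (nat_lit 1) (nat_lit 0) (nat_lit 1) (nat_lit 0x20000000200000002000000020000) (.cD (nat_lit 17) (.kA false (nat_lit 0x1d020010055001004004000028010020070001021001000004)) (.cD (nat_lit 49) (.kA false (nat_lit 0xd020010065001004004000008010020040001003)) (.cD (nat_lit 81) (.kA false (nat_lit 0x3101003004000207a00200001f020030065002021001000004)) (.cD (nat_lit 113) (.kA false (nat_lit 0x2f02003004500100400400002101003005000107a002000004)) .nil))))) .nil))))) .nil)))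
theorem c23 : (chk [(x2, s22)] [] p23).n x2 s23 = true := by decide +kernel
noncomputable def p24 : Pf := (.anc (nat_lit 136) (nat_lit 0x10004004004000002) (nat_lit 0x1007040020008) (.czp (nat_lit 128) (nat_lit 0) (nat_lit 0x1080040020010008004) z2 (.dfs (nat_lit 8) (nat_lit 4097) (nat_lit 4097) (nat_lit 1) (nat_lit 1) (nat_lit 0) (nat_lit 0) (nat_lit 3) (nat_lit 0) (nat_lit 0) (nat_lit 0) (nat_lit 1) (nat_lit 0) (nat_lit 0x1020010008004) (nat_lit 0x20010008004) (nat_lit 0x1001004002004003004000008002008000020000028002028001010001070) (nat_lit 0x10000010100000110) (.cD (nat_lit 4) (.kF (nat_lit 8) (nat_lit 0x100200107a00200000e01a00607a002000004)) (.cD (nat_lit 8) (.dfs (nat_lit 32) (nat_lit 4098) (nat_lit 4098) (nat_lit 4097) (nat_lit 4097) (nat_lit 0) (nat_lit 0) (nat_lit 3) (nat_lit 0) (nat_lit 0) (nat_lit 0) (nat_lit 1) (nat_lit 0) (nat_lit 1) (nat_lit 0) (nat_lit 1) (nat_lit 0x101000001010000010100000100) (.cD (nat_lit 8) (.kc (nat_lit 40) (nat_lit 0x3001001)) (.cD (nat_lit 32) (.kF (nat_lit 32) (nat_lit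 0x4010006004004000001006001003)) (.cD (nat_lit 40) (.kF (nat_lit 32) (nat_lit 0x2010006004004000001006001003)) (.cD (nat_lit 64) (.dfs (nat_lit 64) (nat_lit 4100) (nat_lit 4100) (nat_lit 0x1002001) (nat_lit 0x1002001) (nat_lit 0) (nat_lit 0) (nat_lit 3) (nat_lit 0) (nat_lit 0) (nat_lit 0) (nat_lit 1) (nat_lit 0) (nat_lit 1) (nat_lit 0) (nat_lit 1) (nat_lit 0x101000001010000010100000100) (.cD (nat_lit 8) (.kc (nat_lit 72) (nat_lit 0x5001001)) (.cD (nat_lit 32) (.dfs (nat_lit 7) (nat_lit 0x1004002003008) (nat_lit 0x1006002003008) (nat_lit 4097) (nat_lit 4097) (nat_lit 2) (nat_lit 0) (nat_lit 2) (nat_lit 1) (nat_lit 0) (nat_lit 16) (nat_lit 1) (nat_lit 0) (nat_lit 4104) (nat_lit 8) (nat_lit 0x1000018000038) (nat_lit 0x100000001000000) (.cD (nat_lit 24) (.cut (nat_lit 1)) (.cD (nat_lit 56) (.cut (nat_lit 0)) .nil))) (.cD (nat_lit 40) (.kA false (nat_lit 0x6002003008001004004000002004008010005003)) (.cD (nat_lit 64) (.kc (nat_lit 96) (nat_lit 0x3001001)) (.cD (nat_lit 72) (.kc (nat_lit 104) (nat_lit 0x7001001)) (.cD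 (nat_lit 96) (.kA false (nat_lit 0x400300200800100400100300c001004004000003)) (.cD (nat_lit 104) (.kA false (nat_lit 0x2100100000600100300d00107a002000003)) .nil)))))))) (.cD (nat_lit 72) (.dfs (nat_lit 64) (nat_lit 4100) (nat_lit 4100) (nat_lit 0x1002001) (nat_lit 0x1002001) (nat_lit 0) (nat_lit 0) (nat_lit 3) (nat_lit 0) (nat_lit 0) (nat_lit 0) (nat_lit 1) (nat_lit 0) (nat_lit 1) (nat_lit 0) (nat_lit 1) (nat_lit 0x101000001010000010100000100) (.cD (nat_lit 8) (.kc (nat_lit 72) (nat_lit 0x5001001)) (.cD (nat_lit 32) (.kA false (nat_lit 0x6002003008001004004000002004008010005003)) (.cD (nat_lit 40) (.dfs (nat_lit 7) (nat_lit 4102) (nat_lit 4100) (nat_lit 1) (nat_lit 1) (nat_lit 2) (nat_lit 0) (nat_lit 1) (nat_lit 4160) (nat_lit 0x8004002001000800407a021) (nat_lit 0) (nat_lit 1) (nat_lit 0) (nat_lit 1) (nat_lit 0) (nat_lit 1) (nat_lit 0) .nil) (.cD (nat_lit 64) (.kc (nat_lit 104) (nat_lit 0x7001001)) (.cD (nat_lit 72) (.kc (nat_lit 96) (nat_lit 0x3001001)) (.cD (nat_lit 96) (.kA false (nat_lit 0x400300600800100400100300c001004004000003))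 (.cD (nat_lit 104) (.kA false (nat_lit 0x2100100000600100300d00107a002000003)) .nil)))))))) (.cD (nat_lit 96) (.kF (nat_lit 8) (nat_lit 0x2100100000100500107a00200000c01600407a002000005)) (.cD (nat_lit 104) (.kF (nat_lit 8) (nat_lit 0x21001000003007001027007000003)) .nil)))))))) (.cD (nat_lit 32) (.kF (nat_lit 8) (nat_lit 0x35003000001003001002)) (.cD (nat_lit 40) (.kF (nat_lit 8) (nat_lit 0xa01000607a002000001003001003)) (.cD (nat_lit 64) (.dfs (nat_lit 32) (nat_lit 4098) (nat_lit 4098) (nat_lit 4097) (nat_lit 4097) (nat_lit 0) (nat_lit 0) (nat_lit 3) (nat_lit 0) (nat_lit 0) (nat_lit 0) (nat_lit 1) (nat_lit 0) (nat_lit 0x1020010008084) (nat_lit 0x20010008084) (nat_lit 0x1001004002004003004000008002008000020000028002028001010001070) (nat_lit 0x10000010100000110) (.cD (nat_lit 4) (.kF (nat_lit 32) (nat_lit 0x7a002000001006001002)) (.cD (nat_lit 8) (.dfs (nat_lit 64) (nat_lit 4100) (nat_lit 4100) (nat_lit 0x1002001) (nat_lit 0x1002001) (nat_lit 0) (nat_lit 0) (nat_lit 3) (nat_lit 0) (nat_lit 0) (nat_lit 0) (nat_lit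 1) (nat_lit 0) (nat_lit 1) (nat_lit 0) (nat_lit 1) (nat_lit 0x101000001010000010100000100) (.cD (nat_lit 8) (.kc (nat_lit 96) (nat_lit 0x3001001)) (.cD (nat_lit 32) (.kA false (nat_lit 0x300400500c00207a002000002)) (.cD (nat_lit 40) (.kA false (nat_lit 0x100400700c00207a002000002)) (.cD (nat_lit 64) (.kc (nat_lit 72) (nat_lit 0x5001001)) (.cD (nat_lit 72) (.kc (nat_lit 104) (nat_lit 0x7001001)) (.cD (nat_lit 96) (.kA false (nat_lit 0x700400100c00207a002000002)) (.cD (nat_lit 104) (.dfs (nat_lit 7) (nat_lit 4100) (nat_lit 4102) (nat_lit 1) (nat_lit 1) (nat_lit 2) (nat_lit 0) (nat_lit 1) (nat_lit 4160) (nat_lit 0x8004002001000800407a021) (nat_lit 0) (nat_lit 1) (nat_lit 0) (nat_lit 1) (nat_lit 0) (nat_lit 1) (nat_lit 0) .nil) .nil)))))))) (.cD (nat_lit 32) (.kF (nat_lit 8) (nat_lit 0x21001000003007001027007000003)) (.cD (nat_lit 40) (.kF (nat_lit 32) (nat_lit 0x7a002000001006001002)) (.cD (nat_lit 64) (.kc (nat_lit 40) (nat_lit 0x3001001)) .nil)))))) .nil))))))))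
theorem c24 : (chk [(x2, s11), (x2, s23)] [] p24).n x2 s24 = true := by decide +kernel
noncomputable def p25 : Pf := (.ext (nat_lit 0) (nat_lit 0) (nat_lit 0x1080020040010) (nat_lit 0x1002004008003001) (nat_lit 0x2003004008) (nat_lit 4111) (nat_lit 4111) (nat_lit 0xc004002001) (.dfs (nat_lit 15) (nat_lit 0x1002003004008) (nat_lit 0x100200300400c) (nat_lit 4097) (nat_lit 4097) (nat_lit 0) (nat_lit 0) (nat_lit 2) (nat_lit 0) (nat_lit 0) (nat_lit 15) (nat_lit 1) (nat_lit 0) (nat_lit 4224) (nat_lit 128) (nat_lit 0x100000f00001f00004f00005f) (nat_lit 0x800080000000000080008000) (.cD (nat_lit 15) (.cut (nat_lit 0)) (.cD (nat_lit 31) (.kS (nat_lit 0) (nat_lit 0x2006008010002008008000002) (nat_lit 4207) (nat_lit 0x8004002003) (nat_lit 0x800800000200400801000100100800800000200600801000d001004)) (.cD (nat_lit 79) (.kS (nat_lit 0) (nat_lit 0x2006008010002008008000002) (nat_lit 4223) (nat_lit 0x8004002003) (nat_lit 0x800800000200400801000100100800800000200600801000f001004)) (.cD (nat_lit 95) (.iso x2 s24 (nat_lit 0) (nat_lit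 0x1080040020010008004002041) (nat_lit 0x80040020010008004002041) [(nat_lit 0x10008004002005001001), (nat_lit 0x10008004002001003001)] (.cut (nat_lit 0))) .nil))))))
theorem c25 : (chk [(x2, s24)] [g449] p25).n x2 s25 = true := by decide +kernel
noncomputable def p26 : Pf := (.anc (nat_lit 136) (nat_lit 0x10002004004000002) (nat_lit 0x1007040020008) (.czp (nat_lit 128) (nat_lit 0) (nat_lit 0x1080040020010008004) z2 (.dfs (nat_lit 8) (nat_lit 4097) (nat_lit 4097) (nat_lit 1) (nat_lit 1) (nat_lit 0) (nat_lit 0) (nat_lit 3) (nat_lit 0) (nat_lit 0) (nat_lit 0) (nat_lit 1) (nat_lit 0) (nat_lit 0x1020010008004) (nat_lit 0x20010008004) (nat_lit 0x1001004002004003004000008002008000020000028002028001010001070) (nat_lit 0x10000010100000110) (.cD (nat_lit 4) (.kF (nat_lit 8) (nat_lit 0x100200107a00200000e01a00407a002000004)) (.cD (nat_lit 8) (.dfs (nat_lit 32) (nat_lit 4098) (nat_lit 4098) (nat_lit 4097) (nat_lit 4097) (nat_lit 0) (nat_lit 0) (nat_lit 3) (nat_lit 0) (nat_lit 0) (nat_lit 0) (nat_lit 1) (nat_lit 0) (nat_lit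 1) (nat_lit 0) (nat_lit 1) (nat_lit 0x101000001010000010100000100) (.cD (nat_lit 8) (.kc (nat_lit 40) (nat_lit 0x3001001)) (.cD (nat_lit 32) (.kF (nat_lit 32) (nat_lit 0x4010004004004000001006001003)) (.cD (nat_lit 40) (.kF (nat_lit 32) (nat_lit 0x2010004004004000001006001003)) (.cD (nat_lit 64) (.dfs (nat_lit 64) (nat_lit 4100) (nat_lit 4100) (nat_lit 0x1002001) (nat_lit 0x1002001) (nat_lit 0) (nat_lit 0) (nat_lit 3) (nat_lit 0) (nat_lit 0) (nat_lit 0) (nat_lit 1) (nat_lit 0) (nat_lit 1) (nat_lit 0) (nat_lit 1) (nat_lit 0x101000001010000010100000100) (.cD (nat_lit 8) (.kc (nat_lit 72) (nat_lit 0x5001001)) (.cD (nat_lit 32) (.dfs (nat_lit 7) (nat_lit 0x1004002003008) (nat_lit 0x1006002003008) (nat_lit 4097) (nat_lit 4097) (nat_lit 2) (nat_lit 0) (nat_lit 2) (nat_lit 1) (nat_lit 0) (nat_lit 16) (nat_lit 1) (nat_lit 0) (nat_lit 4104) (nat_lit 8) (nat_lit 0x10000980000b8) (nat_lit 0x10000000100000000000000000000000000000000000000) (.cD (nat_lit 152) (.kA false (nat_lit 0x1f00400201000101101100001f004002016002021001000004))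 (.cD (nat_lit 184) (.kA false (nat_lit 0x1d00400201000101101100001d004002016002021001000004)) .nil))) (.cD (nat_lit 40) (.kA false (nat_lit 0x6002003008001004004000002004008010003003)) (.cD (nat_lit 64) (.kc (nat_lit 96) (nat_lit 0x3001001)) (.cD (nat_lit 72) (.kc (nat_lit 104) (nat_lit 0x7001001)) (.cD (nat_lit 96) (.kA false (nat_lit 0x400300200800100400100300c001004004000003)) (.cD (nat_lit 104) (.kA false (nat_lit 0x2100100000600100300d00107a002000003)) .nil)))))))) (.cD (nat_lit 72) (.dfs (nat_lit 64) (nat_lit 4100) (nat_lit 4100) (nat_lit 0x1002001) (nat_lit 0x1002001) (nat_lit 0) (nat_lit 0) (nat_lit 3) (nat_lit 0) (nat_lit 0) (nat_lit 0) (nat_lit 1) (nat_lit 0) (nat_lit 1) (nat_lit 0) (nat_lit 1) (nat_lit 0x101000001010000010100000100) (.cD (nat_lit 8) (.kc (nat_lit 72) (nat_lit 0x5001001)) (.cD (nat_lit 32) (.kA false (nat_lit 0x6002003008001004004000002004008010003003)) (.cD (nat_lit 40) (.dfs (nat_lit 7) (nat_lit 4102) (nat_lit 4100) (nat_lit 1) (nat_lit 1) (nat_lit 2) (nat_lit 0) (nat_lit 1) (nat_lit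 4160) (nat_lit 0x8004002001000800407a021) (nat_lit 0) (nat_lit 1) (nat_lit 0) (nat_lit 1) (nat_lit 0) (nat_lit 1) (nat_lit 0) .nil) (.cD (nat_lit 64) (.kc (nat_lit 104) (nat_lit 0x7001001)) (.cD (nat_lit 72) (.kc (nat_lit 96) (nat_lit 0x3001001)) (.cD (nat_lit 96) (.kA false (nat_lit 0x400300600800100400100300c001004004000003)) (.cD (nat_lit 104) (.kA false (nat_lit 0x2100100000600100300d00107a002000003)) .nil)))))))) (.cD (nat_lit 96) (.kF (nat_lit 8) (nat_lit 0x2100100000100500107a00200000600d00607a002000005)) (.cD (nat_lit 104) (.kF (nat_lit 8) (nat_lit 0x21001000003007001027007000003)) .nil)))))))) (.cD (nat_lit 32) (.kF (nat_lit 8) (nat_lit 0x35003000001003001002)) (.cD (nat_lit 40) (.kF (nat_lit 8) (nat_lit 0xa01000407a002000001003001003)) (.cD (nat_lit 64) (.dfs (nat_lit 32) (nat_lit 4098) (nat_lit 4098) (nat_lit 4097) (nat_lit 4097) (nat_lit 0) (nat_lit 0) (nat_lit 3) (nat_lit 0) (nat_lit 0) (nat_lit 0) (nat_lit 1) (nat_lit 0) (nat_lit 0x1020010008084) (nat_lit 0x20010008084) (nat_lit 0x1001004002004003004000008002008000020000028002028001010001070)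 (nat_lit 0x10000010100000110) (.cD (nat_lit 4) (.kF (nat_lit 32) (nat_lit 0x7a002000001006001002)) (.cD (nat_lit 8) (.dfs (nat_lit 64) (nat_lit 4100) (nat_lit 4100) (nat_lit 0x1002001) (nat_lit 0x1002001) (nat_lit 0) (nat_lit 0) (nat_lit 3) (nat_lit 0) (nat_lit 0) (nat_lit 0) (nat_lit 1) (nat_lit 0) (nat_lit 1) (nat_lit 0) (nat_lit 1) (nat_lit 0x101000001010000010100000100) (.cD (nat_lit 8) (.kc (nat_lit 96) (nat_lit 0x3001001)) (.cD (nat_lit 32) (.kA false (nat_lit 0x300400500c00207a002000002)) (.cD (nat_lit 40) (.kA false (nat_lit 0x100400700c00207a002000002)) (.cD (nat_lit 64) (.kc (nat_lit 72) (nat_lit 0x5001001)) (.cD (nat_lit 72) (.kc (nat_lit 104) (nat_lit 0x7001001)) (.cD (nat_lit 96) (.kA false (nat_lit 0x700400100c00207a002000002)) (.cD (nat_lit 104) (.dfs (nat_lit 7) (nat_lit 4100) (nat_lit 4102) (nat_lit 1) (nat_lit 1) (nat_lit 2) (nat_lit 0) (nat_lit 1) (nat_lit 4160) (nat_lit 0x8004002001000800407a021) (nat_lit 0) (nat_lit 1) (nat_lit 0) (nat_lit 1) (nat_lit 0) (nat_lit 1) (nat_lit 0) .nil) .nil))))))))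 (.cD (nat_lit 32) (.kF (nat_lit 8) (nat_lit 0x21001000003007001027007000003)) (.cD (nat_lit 40) (.kF (nat_lit 32) (nat_lit 0x7a002000001006001002)) (.cD (nat_lit 64) (.kc (nat_lit 40) (nat_lit 0x3001001)) .nil)))))) .nil))))))))
theorem c26 : (chk [] [] p26).n x10 s26 = true := by decide +kernel
noncomputable def p27 : Pf := (.anc (nat_lit 136) (nat_lit 0x10002004004000002) (nat_lit 0x1007040020008) (.czp (nat_lit 128) (nat_lit 0) (nat_lit 0x1080040020010008004) z2 (.dfs (nat_lit 8) (nat_lit 4097) (nat_lit 4097) (nat_lit 1) (nat_lit 1) (nat_lit 0) (nat_lit 0) (nat_lit 3) (nat_lit 0) (nat_lit 0) (nat_lit 0) (nat_lit 1) (nat_lit 0) (nat_lit 0x1020010008004) (nat_lit 0x20010008004) (nat_lit 0x1001004002004003004000008002008000020000028002028001010001070) (nat_lit 0x10000010100000110) (.cD (nat_lit 4) (.kF (nat_lit 8) (nat_lit 0x100200107a00200000e01a00407a002000004)) (.cD (nat_lit 8) (.dfs (nat_lit 32) (nat_lit 4098) (nat_lit 4098) (nat_lit 4097) (nat_lit 4097) (nat_lit 0) (nat_lit 0) (nat_lit 3) (nat_lit 0) (nat_lit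 0) (nat_lit 0) (nat_lit 1) (nat_lit 0) (nat_lit 1) (nat_lit 0) (nat_lit 1) (nat_lit 0x101000001010000010100000100) (.cD (nat_lit 8) (.kc (nat_lit 40) (nat_lit 0x3001001)) (.cD (nat_lit 32) (.kF (nat_lit 32) (nat_lit 0x4010004004004000001006001003)) (.cD (nat_lit 40) (.kF (nat_lit 32) (nat_lit 0x2010004004004000001006001003)) (.cD (nat_lit 64) (.dfs (nat_lit 64) (nat_lit 4100) (nat_lit 4100) (nat_lit 0x1002001) (nat_lit 0x1002001) (nat_lit 0) (nat_lit 0) (nat_lit 3) (nat_lit 0) (nat_lit 0) (nat_lit 0) (nat_lit 1) (nat_lit 0) (nat_lit 1) (nat_lit 0) (nat_lit 1) (nat_lit 0x101000001010000010100000100) (.cD (nat_lit 8) (.kc (nat_lit 72) (nat_lit 0x5001001)) (.cD (nat_lit 32) (.dfs (nat_lit 7) (nat_lit 0x1004002003008) (nat_lit 0x1006002003008) (nat_lit 4097) (nat_lit 4097) (nat_lit 3) (nat_lit 0) (nat_lit 2) (nat_lit 1) (nat_lit 0) (nat_lit 16) (nat_lit 1) (nat_lit 0) (nat_lit 1) (nat_lit 0) (nat_lit 1) (nat_lit 0) .nil) (.cD (nat_lit 40) (.kA false (nat_lit 0x6002003008001004004000002004008010003003)) (.cD (nat_lit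 64) (.kc (nat_lit 96) (nat_lit 0x3001001)) (.cD (nat_lit 72) (.kc (nat_lit 104) (nat_lit 0x7001001)) (.cD (nat_lit 96) (.kA false (nat_lit 0x400300200800100400100300c001004004000003)) (.cD (nat_lit 104) (.kA false (nat_lit 0x6100100000600100300d00107a002000003)) .nil)))))))) (.cD (nat_lit 72) (.dfs (nat_lit 64) (nat_lit 4100) (nat_lit 4100) (nat_lit 0x1002001) (nat_lit 0x1002001) (nat_lit 0) (nat_lit 0) (nat_lit 3) (nat_lit 0) (nat_lit 0) (nat_lit 0) (nat_lit 1) (nat_lit 0) (nat_lit 1) (nat_lit 0) (nat_lit 1) (nat_lit 0x101000001010000010100000100) (.cD (nat_lit 8) (.kc (nat_lit 72) (nat_lit 0x5001001)) (.cD (nat_lit 32) (.kA false (nat_lit 0x6002003008001004004000002004008010003003)) (.cD (nat_lit 40) (.dfs (nat_lit 7) (nat_lit 4102) (nat_lit 4100) (nat_lit 1) (nat_lit 1) (nat_lit 3) (nat_lit 0) (nat_lit 1) (nat_lit 4160) (nat_lit 0x8004002001000800407a061) (nat_lit 0) (nat_lit 1) (nat_lit 0) (nat_lit 1) (nat_lit 0) (nat_lit 1) (nat_lit 0) .nil) (.cD (nat_lit 64) (.kc (nat_lit 104) (nat_lit 0x7001001)) (.cD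 (nat_lit 72) (.kc (nat_lit 96) (nat_lit 0x3001001)) (.cD (nat_lit 96) (.kA false (nat_lit 0x400300600800100400100300c001004004000003)) (.cD (nat_lit 104) (.kA false (nat_lit 0x6100100000600100300d00107a002000003)) .nil)))))))) (.cD (nat_lit 96) (.kF (nat_lit 8) (nat_lit 0x6100100000100500107a00200000600d00607a002000005)) (.cD (nat_lit 104) (.kF (nat_lit 8) (nat_lit 0x61001000003007001067007000003)) .nil)))))))) (.cD (nat_lit 32) (.kF (nat_lit 8) (nat_lit 0x75003000001003001002)) (.cD (nat_lit 40) (.kF (nat_lit 8) (nat_lit 0xa01000407a002000001003001003)) (.cD (nat_lit 64) (.dfs (nat_lit 32) (nat_lit 4098) (nat_lit 4098) (nat_lit 4097) (nat_lit 4097) (nat_lit 0) (nat_lit 0) (nat_lit 3) (nat_lit 0) (nat_lit 0) (nat_lit 0) (nat_lit 1) (nat_lit 0) (nat_lit 0x1020010008084) (nat_lit 0x20010008084) (nat_lit 0x1001004002004003004000008002008000020000028002028001010001070) (nat_lit 0x10000010100000110) (.cD (nat_lit 4) (.kF (nat_lit 32) (nat_lit 0x7a002000001006001002)) (.cD (nat_lit 8) (.dfs (nat_lit 64) (nat_lit 4100)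 (nat_lit 4100) (nat_lit 0x1002001) (nat_lit 0x1002001) (nat_lit 0) (nat_lit 0) (nat_lit 3) (nat_lit 0) (nat_lit 0) (nat_lit 0) (nat_lit 1) (nat_lit 0) (nat_lit 1) (nat_lit 0) (nat_lit 1) (nat_lit 0x101000001010000010100000100) (.cD (nat_lit 8) (.kc (nat_lit 96) (nat_lit 0x3001001)) (.cD (nat_lit 32) (.kA false (nat_lit 0x300400500c00207a002000002)) (.cD (nat_lit 40) (.kA false (nat_lit 0x100400700c00207a002000002)) (.cD (nat_lit 64) (.kc (nat_lit 72) (nat_lit 0x5001001)) (.cD (nat_lit 72) (.kc (nat_lit 104) (nat_lit 0x7001001)) (.cD (nat_lit 96) (.kA false (nat_lit 0x700400100c00207a002000002)) (.cD (nat_lit 104) (.dfs (nat_lit 7) (nat_lit 4100) (nat_lit 4102) (nat_lit 1) (nat_lit 1) (nat_lit 3) (nat_lit 0) (nat_lit 1) (nat_lit 4160) (nat_lit 0x8004002001000800407a061) (nat_lit 0) (nat_lit 1) (nat_lit 0) (nat_lit 1) (nat_lit 0) (nat_lit 1) (nat_lit 0) .nil) .nil)))))))) (.cD (nat_lit 32) (.kF (nat_lit 8) (nat_lit 0x61001000003007001067007000003)) (.cD (nat_lit 40) (.kF (nat_lit 32) (nat_lit 0x7a002000001006001002))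 (.cD (nat_lit 64) (.kc (nat_lit 40) (nat_lit 0x3001001)) .nil)))))) .nil))))))))
theorem c27 : (chk [] [] p27).n x11 s27 = true := by decide +kernel
noncomputable def p28 : Pf := (.anc (nat_lit 136) (nat_lit 0x10002004004000002) (nat_lit 0x1007040020008) (.czp (nat_lit 128) (nat_lit 0) (nat_lit 0x1080040020010008004) z2 (.dfs (nat_lit 8) (nat_lit 4097) (nat_lit 4097) (nat_lit 1) (nat_lit 1) (nat_lit 0) (nat_lit 0) (nat_lit 3) (nat_lit 0) (nat_lit 0) (nat_lit 0) (nat_lit 1) (nat_lit 0) (nat_lit 0x1020010008004) (nat_lit 0x20010008004) (nat_lit 0x1001004002004003004000008002008000020000028002028001010001070) (nat_lit 0x10000010100000110) (.cD (nat_lit 4) (.kF (nat_lit 8) (nat_lit 0x100200107a00200000e01a00407a002000004)) (.cD (nat_lit 8) (.dfs (nat_lit 32) (nat_lit 4098) (nat_lit 4098) (nat_lit 4097) (nat_lit 4097) (nat_lit 0) (nat_lit 0) (nat_lit 3) (nat_lit 0) (nat_lit 0) (nat_lit 0) (nat_lit 1) (nat_lit 0) (nat_lit 1) (nat_lit 0) (nat_lit 1) (nat_lit 0x101000001010000010100000100) (.cD (nat_lit 8) (.kc (nat_lit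 40) (nat_lit 0x3001001)) (.cD (nat_lit 32) (.kF (nat_lit 32) (nat_lit 0x4010004004004000001006001003)) (.cD (nat_lit 40) (.kF (nat_lit 32) (nat_lit 0x2010004004004000001006001003)) (.cD (nat_lit 64) (.dfs (nat_lit 64) (nat_lit 4100) (nat_lit 4100) (nat_lit 0x1002001) (nat_lit 0x1002001) (nat_lit 0) (nat_lit 0) (nat_lit 3) (nat_lit 0) (nat_lit 0) (nat_lit 0) (nat_lit 1) (nat_lit 0) (nat_lit 1) (nat_lit 0) (nat_lit 1) (nat_lit 0x101000001010000010100000100) (.cD (nat_lit 8) (.kc (nat_lit 72) (nat_lit 0x5001001)) (.cD (nat_lit 32) (.dfs (nat_lit 7) (nat_lit 0x1004002003008) (nat_lit 0x1006002003008) (nat_lit 4097) (nat_lit 4097) (nat_lit 3) (nat_lit 0) (nat_lit 2) (nat_lit 1) (nat_lit 0) (nat_lit 16) (nat_lit 1) (nat_lit 0) (nat_lit 1) (nat_lit 0) (nat_lit 1) (nat_lit 0) .nil) (.cD (nat_lit 40) (.kA false (nat_lit 0x6002003008001004004000002004008010003003)) (.cD (nat_lit 64) (.kc (nat_lit 96) (nat_lit 0x3001001)) (.cD (nat_lit 72) (.kc (nat_lit 104) (nat_lit 0x7001001)) (.cD (nat_lit 96) (.kA false (nat_lit 0x400300200800100400100300c001004004000003))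 (.cD (nat_lit 104) (.kA false (nat_lit 0x6100100000600100300d00107a002000003)) .nil)))))))) (.cD (nat_lit 72) (.dfs (nat_lit 64) (nat_lit 4100) (nat_lit 4100) (nat_lit 0x1002001) (nat_lit 0x1002001) (nat_lit 0) (nat_lit 0) (nat_lit 3) (nat_lit 0) (nat_lit 0) (nat_lit 0) (nat_lit 1) (nat_lit 0) (nat_lit 1) (nat_lit 0) (nat_lit 1) (nat_lit 0x101000001010000010100000100) (.cD (nat_lit 8) (.kc (nat_lit 72) (nat_lit 0x5001001)) (.cD (nat_lit 32) (.kA false (nat_lit 0x6002003008001004004000002004008010003003)) (.cD (nat_lit 40) (.dfs (nat_lit 7) (nat_lit 4102) (nat_lit 4100) (nat_lit 1) (nat_lit 1) (nat_lit 3) (nat_lit 0) (nat_lit 1) (nat_lit 4160) (nat_lit 0x8004002001000800407a061) (nat_lit 0) (nat_lit 1) (nat_lit 0) (nat_lit 1) (nat_lit 0) (nat_lit 1) (nat_lit 0) .nil) (.cD (nat_lit 64) (.kc (nat_lit 104) (nat_lit 0x7001001)) (.cD (nat_lit 72) (.kc (nat_lit 96) (nat_lit 0x3001001)) (.cD (nat_lit 96) (.kA false (nat_lit 0x400300600800100400100300c001004004000003)) (.cD (nat_lit 104) (.kA false (nat_lit 0x6100100000600100300d00107a002000003))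 .nil)))))))) (.cD (nat_lit 96) (.kF (nat_lit 8) (nat_lit 0x6100100000100500107a00200000600d00607a002000005)) (.cD (nat_lit 104) (.kF (nat_lit 8) (nat_lit 0x61001000003007001067007000003)) .nil)))))))) (.cD (nat_lit 32) (.kF (nat_lit 8) (nat_lit 0x75003000001003001002)) (.cD (nat_lit 40) (.kF (nat_lit 8) (nat_lit 0xa01000407a002000001003001003)) (.cD (nat_lit 64) (.dfs (nat_lit 32) (nat_lit 4098) (nat_lit 4098) (nat_lit 4097) (nat_lit 4097) (nat_lit 0) (nat_lit 0) (nat_lit 3) (nat_lit 0) (nat_lit 0) (nat_lit 0) (nat_lit 1) (nat_lit 0) (nat_lit 0x1020010008084) (nat_lit 0x20010008084) (nat_lit 0x1001004002004003004000008002008000020000028002028001010001070) (nat_lit 0x10000010100000110) (.cD (nat_lit 4) (.kF (nat_lit 32) (nat_lit 0x7a002000001006001002)) (.cD (nat_lit 8) (.dfs (nat_lit 64) (nat_lit 4100) (nat_lit 4100) (nat_lit 0x1002001) (nat_lit 0x1002001) (nat_lit 0) (nat_lit 0) (nat_lit 3) (nat_lit 0) (nat_lit 0) (nat_lit 0) (nat_lit 1) (nat_lit 0) (nat_lit 1) (nat_lit 0) (nat_lit 1) (nat_lit 0x101000001010000010100000100)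 (.cD (nat_lit 8) (.kc (nat_lit 96) (nat_lit 0x3001001)) (.cD (nat_lit 32) (.kA false (nat_lit 0x300400500c00207a002000002)) (.cD (nat_lit 40) (.kA false (nat_lit 0x100400700c00207a002000002)) (.cD (nat_lit 64) (.kc (nat_lit 72) (nat_lit 0x5001001)) (.cD (nat_lit 72) (.kc (nat_lit 104) (nat_lit 0x7001001)) (.cD (nat_lit 96) (.kA false (nat_lit 0x700400100c00207a002000002)) (.cD (nat_lit 104) (.dfs (nat_lit 7) (nat_lit 4100) (nat_lit 4102) (nat_lit 1) (nat_lit 1) (nat_lit 3) (nat_lit 0) (nat_lit 1) (nat_lit 4160) (nat_lit 0x8004002001000800407a061) (nat_lit 0) (nat_lit 1) (nat_lit 0) (nat_lit 1) (nat_lit 0) (nat_lit 1) (nat_lit 0) .nil) .nil)))))))) (.cD (nat_lit 32) (.kF (nat_lit 8) (nat_lit 0x61001000003007001067007000003)) (.cD (nat_lit 40) (.kF (nat_lit 32) (nat_lit 0x7a002000001006001002)) (.cD (nat_lit 64) (.kc (nat_lit 40) (nat_lit 0x3001001)) .nil)))))) .nil))))))))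
theorem c28 : (chk [] [] p28).n x12 s28 = true := by decide +kernel
noncomputable def p29 : Pf := (.lft (nat_lit 0x4001002000800200f001001001) (nat_lit 16) (nat_lit 0x1060040) (nat_lit 0x4002001000800400203d) (.extn a297 (nat_lit 0x40020010008004002001) (nat_lit 0x1008020010040) (nat_lit 2) (nat_lit 0) (nat_lit 0) (nat_lit 0) (nat_lit 0x1000000010000) (.cE (nat_lit 16) b449 (nat_lit 0) (.cut (nat_lit 0)) (.cut (nat_lit 1)) (.cE (nat_lit 48) b454 (nat_lit 0) (.cut (nat_lit 2)) (.cut (nat_lit 3)) .nil))))
theorem c29 : (chk [(x2, s25), (x10, s26), (x11, s27), (x12, s28)] [] p29).n x1 s29 = true := by decide +kernel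
noncomputable def p30 : Pf := (.ext (nat_lit 0) (nat_lit 0) (nat_lit 0x1040010020008003004) (nat_lit 0x20010008004001013001001) (nat_lit 0x14008010038) (nat_lit 4097) (nat_lit 4102) (nat_lit 0x2801800801101f014) (.dfs (nat_lit 1) (nat_lit 0x1014008010038) (nat_lit 0x1009008018038) (nat_lit 0x1020004002001) (nat_lit 0x102801101f014) (nat_lit 21) (nat_lit 0) (nat_lit 2) (nat_lit 0) (nat_lit 0) (nat_lit 2) (nat_lit 1) (nat_lit 0) (nat_lit 4112) (nat_lit 16) (nat_lit 0x1000006) (nat_lit 64) (.cD (nat_lit 6) (.cut (nat_lit 0)) .nil)))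
theorem c30 : (chk [(x1, s29)] [] p30).n x1 s30 = true := by decide +kernel
noncomputable def p31 : Pf := (.ext (nat_lit 0) (nat_lit 0) (nat_lit 0x1040010020008007) (nat_lit 0x1200800c00e003003010008004002001003002) (nat_lit 0xa00400801c) (nat_lit 4099) (nat_lit 4099) (nat_lit 0x1400800400e00d) (.dfs (nat_lit 3) (nat_lit 0x100a00400801c) (nat_lit 0x1006004008018) (nat_lit 0x1010002001) (nat_lit 0x101400e00d) (nat_lit 8) (nat_lit 0) (nat_lit 2) (nat_lit 0) (nat_lit 0) (nat_lit 3) (nat_lit 1) (nat_lit 0) (nat_lit 1) (nat_lit 0) (nat_lit 1) (nat_lit 0x8000800080008) (.cD (nat_lit 3) (.kA false (nat_lit 0x13008018038001010004008028003002)) (.cD (nat_lit 19) (.cut (nat_lit 1)) (.cD (nat_lit 35) (.kA false (nat_lit 0x13008018038001010004008028003002)) (.cD (nat_lit 51) (.cut (nat_lit 0)) .nil))))))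
theorem c31 : (chk [(x1, s1), (x1, s30)] [] p31).n x1 s31 = true := by decide +kernel
noncomputable def p32 : Pf := (.anc (nat_lit 80) (nat_lit 0x1600101c001002002000003) (nat_lit 0x1001004020010008) (.dfs (nat_lit 8) (nat_lit 1) (nat_lit 1) (nat_lit 4097) (nat_lit 4097) (nat_lit 0) (nat_lit 0) (nat_lit 0) (nat_lit 0) (nat_lit 0) (nat_lit 0) (nat_lit 1) (nat_lit 0) (nat_lit 0x1010008004002) (nat_lit 0x10008004002) (nat_lit 0x1001002002002003002000004002004000010000014002014001008001038) (nat_lit 0x100110014) (.cD (nat_lit 2) (.kF (nat_lit 2) (nat_lit 0x3d00100000e01a003002018003001002002004)) (.cD (nat_lit 4) (.czs (nat_lit 4) z1 (nat_lit 16) (.dfs (nat_lit 16) (nat_lit 4097) (nat_lit 4097) (nat_lit 4098) (nat_lit 4098) (nat_lit 0) (nat_lit 0) (nat_lit 3) (nat_lit 0) (nat_lit 0) (nat_lit 0) (nat_lit 1) (nat_lit 0) (nat_lit 1) (nat_lit 0) (nat_lit 1) (nat_lit 0x11001100110010) (.cD (nat_lit 4) (.kc (nat_lit 24) (nat_lit 0x3001001)) (.cD (nat_lit 16) (.kF (nat_lit 8) (nat_lit 0xe01600300201c003002002000002005001004))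 (.cD (nat_lit 20) (.kF (nat_lit 8) (nat_lit 0xe01000403d001000002005001003)) (.cD (nat_lit 32) (.kF (nat_lit 8) (nat_lit 0x3d001000002005001002)) (.cD (nat_lit 36) (.kF (nat_lit 8) (nat_lit 0x2016003002002000002005001003)) (.cD (nat_lit 48) (.dfs (nat_lit 32) (nat_lit 4098) (nat_lit 4098) (nat_lit 0x1004001) (nat_lit 0x1004001) (nat_lit 0) (nat_lit 0) (nat_lit 3) (nat_lit 0) (nat_lit 0) (nat_lit 0) (nat_lit 1) (nat_lit 0) (nat_lit 1) (nat_lit 0) (nat_lit 1) (nat_lit 0x11001100110010) (.cD (nat_lit 4) (.kc (nat_lit 40) (nat_lit 0x5001001)) (.cD (nat_lit 16) (.kA false (nat_lit 0x3d00100000500300200b00203d001000003)) (.cD (nat_lit 20) (.kA false (nat_lit 0x400e00801600300100700200f00203d001000003)) (.cD (nat_lit 32) (.dfs (nat_lit 4) (nat_lit 0x1004001002008) (nat_lit 0x1005001002008) (nat_lit 1) (nat_lit 1) (nat_lit 0) (nat_lit 0) (nat_lit 2) (nat_lit 1) (nat_lit 0) (nat_lit 8) (nat_lit 1) (nat_lit 0) (nat_lit 4100) (nat_lit 4) (nat_lit 0x1000008000018) (nat_lit 0x1000100) (.cD (nat_lit 8) (.kA false (nat_lit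 0xe00200401000100500200601600103d001000003)) (.cD (nat_lit 24) (.dfs (nat_lit 1) (nat_lit 0x1007002006010) (nat_lit 0x1008002004010) (nat_lit 0x1008004001) (nat_lit 0x100500600c) (nat_lit 13) (nat_lit 0) (nat_lit 2) (nat_lit 0) (nat_lit 0) (nat_lit 2) (nat_lit 1) (nat_lit 0) (nat_lit 4112) (nat_lit 16) (nat_lit 0x1000016) (nat_lit 0x400000) (.cD (nat_lit 22) (.cut (nat_lit 0)) .nil)) .nil))) (.cD (nat_lit 36) (.dfs (nat_lit 4) (nat_lit 4101) (nat_lit 4100) (nat_lit 1) (nat_lit 1) (nat_lit 0) (nat_lit 0) (nat_lit 1) (nat_lit 4128) (nat_lit 0x4002001000800400203d) (nat_lit 0) (nat_lit 1) (nat_lit 0) (nat_lit 1) (nat_lit 0) (nat_lit 1) (nat_lit 0) .nil) (.cD (nat_lit 48) (.kc (nat_lit 48) (nat_lit 0x3001001)) (.cD (nat_lit 52) (.kc (nat_lit 56) (nat_lit 0x7001001)) .nil)))))))) (.cD (nat_lit 52) (.dfs (nat_lit 32) (nat_lit 4098) (nat_lit 4098) (nat_lit 0x1004001) (nat_lit 0x1004001) (nat_lit 0) (nat_lit 0) (nat_lit 3) (nat_lit 0) (nat_lit 0) (nat_lit 0) (nat_lit 1) (nat_lit 0) (nat_lit 1) (nat_lit 0) (nat_lit 1)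 (nat_lit 0x11001100110010) (.cD (nat_lit 4) (.kc (nat_lit 40) (nat_lit 0x5001001)) (.cD (nat_lit 16) (.kA false (nat_lit 0x600e00a01600300500700600f00203d001000003)) (.cD (nat_lit 20) (.kA false (nat_lit 0x3d00100000100300600b00203d001000003)) (.cD (nat_lit 32) (.kA false (nat_lit 0xa00400201600303d00100000400100200a001003)) (.cD (nat_lit 36) (.kA false (nat_lit 0xa00e00201600303d00100000400100200a001003)) (.cD (nat_lit 48) (.kc (nat_lit 56) (nat_lit 0x7001001)) (.cD (nat_lit 52) (.kc (nat_lit 48) (nat_lit 0x3001001)) .nil)))))))) .nil))))))))) (.cD (nat_lit 16) (.kF (nat_lit 16) (nat_lit 0x3d00100000e01a003002018003001002002004)) (.cD (nat_lit 20) (.kF (nat_lit 20) (nat_lit 0x3d00100000e01a003002018003001002002004)) (.cD (nat_lit 32) (.dfs (nat_lit 16) (nat_lit 1) (nat_lit 1) (nat_lit 0x1002001) (nat_lit 0x1002001) (nat_lit 0) (nat_lit 0) (nat_lit 0) (nat_lit 0) (nat_lit 0) (nat_lit 0) (nat_lit 1) (nat_lit 0) (nat_lit 0x1010008004002) (nat_lit 0x10008004002) (nat_lit 0x1001002002002003002000004002004000010000014002014001008001038)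 (nat_lit 0x100110014) (.cD (nat_lit 2) (.kF (nat_lit 16) (nat_lit 0x3d00100000100600100801a004013003000004)) (.cD (nat_lit 4) (.kF (nat_lit 8) (nat_lit 0xc010004002002000002005001003)) (.cD (nat_lit 16) (.dfs (nat_lit 32) (nat_lit 1) (nat_lit 1) (nat_lit 0x1004002001) (nat_lit 0x1004002001) (nat_lit 0) (nat_lit 0) (nat_lit 0) (nat_lit 0) (nat_lit 0) (nat_lit 0) (nat_lit 1) (nat_lit 0) (nat_lit 0x1008004) (nat_lit 32772) (nat_lit 0x1001004000008001014000018) (nat_lit 0x1000101110110) (.cD (nat_lit 4) (.kA false (nat_lit 0x100600300800103d00100000400100200a001003)) (.cD (nat_lit 8) (.dfs (nat_lit 4) (nat_lit 4100) (nat_lit 4101) (nat_lit 1) (nat_lit 1) (nat_lit 0) (nat_lit 0) (nat_lit 1) (nat_lit 4128) (nat_lit 0x4002001000800400203d) (nat_lit 0) (nat_lit 1) (nat_lit 0) (nat_lit 1) (nat_lit 0) (nat_lit 1) (nat_lit 0) .nil) (.cD (nat_lit 16) (.kc (nat_lit 48) (nat_lit 0x3001001)) (.cD (nat_lit 20) (.kA false (nat_lit 0x100500300800103d00100000400100200a001003)) (.cD (nat_lit 24) (.kA false (nat_lit 0x100600200800100400100200a001002))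 (.cD (nat_lit 32) (.kc (nat_lit 40) (nat_lit 0x5001001)) (.cD (nat_lit 48) (.kc (nat_lit 56) (nat_lit 0x7001001)) .nil)))))))) (.cD (nat_lit 20) (.kF (nat_lit 8) (nat_lit 0xc01000403d001000002005001003)) (.cD (nat_lit 32) (.kc (nat_lit 24) (nat_lit 0x3001001)) .nil)))))) .nil)))))))
theorem c32 : (chk [(x1, s31)] [] p32).n x1 s32 = true := by decide +kernel
noncomputable def p33 : Pf := (.ext (nat_lit 0) (nat_lit 0) (nat_lit 0x1040010020008) (nat_lit 0x500200e00a001013003000001002004008001003) (nat_lit 0x300600400b) (nat_lit 4103) (nat_lit 4103) (nat_lit 0xa004002005) (.dfs (nat_lit 7) (nat_lit 0x100300600400b) (nat_lit 0x100700600400d) (nat_lit 0x1008002001) (nat_lit 0x100a002005) (nat_lit 2) (nat_lit 0) (nat_lit 2) (nat_lit 0) (nat_lit 0) (nat_lit 7) (nat_lit 1) (nat_lit 0) (nat_lit 0x1040008) (nat_lit 0x40008) (nat_lit 0x100000f00100f00101f) (nat_lit 32768) (.cD (nat_lit 15) (.cut (nat_lit 0)) .nil)))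
theorem c33 : (chk [(x1, s32)] [] p33).n x1 s33 = true := by decide +kernel
noncomputable def p34 : Pf := (.anc (nat_lit 136) (nat_lit 0x10002004004000002) (nat_lit 0x1017040020008) (.czp (nat_lit 128) (nat_lit 0) (nat_lit 0x1080040020010008004) z2 (.dfs (nat_lit 8) (nat_lit 4097) (nat_lit 4097) (nat_lit 1) (nat_lit 1) (nat_lit 0) (nat_lit 0) (nat_lit 3) (nat_lit 0) (nat_lit 0) (nat_lit 0) (nat_lit 1) (nat_lit 0) (nat_lit 0x1020010008004) (nat_lit 0x20010008004) (nat_lit 0x1001004002004003004000008002008000020000028002028001010001070) (nat_lit 0x10000010100000110) (.cD (nat_lit 4) (.kF (nat_lit 8) (nat_lit 0x100200107a00200000e01a00407a002000004)) (.cD (nat_lit 8) (.dfs (nat_lit 32) (nat_lit 4098) (nat_lit 4098) (nat_lit 4097) (nat_lit 4097) (nat_lit 0) (nat_lit 0) (nat_lit 3) (nat_lit 0) (nat_lit 0) (nat_lit 0) (nat_lit 1) (nat_lit 0) (nat_lit 1) (nat_lit 0) (nat_lit 1) (nat_lit 0x101000001010000010100000100) (.cD (nat_lit 8) (.kc (nat_lit 40) (nat_lit 0x3001001)) (.cD (nat_lit 32) (.kF (nat_lit 32) (nat_lit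 0x4010004004004000001006001003)) (.cD (nat_lit 40) (.kF (nat_lit 32) (nat_lit 0x2010004004004000001006001003)) (.cD (nat_lit 64) (.dfs (nat_lit 64) (nat_lit 4100) (nat_lit 4100) (nat_lit 0x1002001) (nat_lit 0x1002001) (nat_lit 0) (nat_lit 0) (nat_lit 3) (nat_lit 0) (nat_lit 0) (nat_lit 0) (nat_lit 1) (nat_lit 0) (nat_lit 1) (nat_lit 0) (nat_lit 1) (nat_lit 0x101000001010000010100000100) (.cD (nat_lit 8) (.kc (nat_lit 72) (nat_lit 0x5001001)) (.cD (nat_lit 32) (.dfs (nat_lit 23) (nat_lit 0x1004002003008) (nat_lit 0x1006002003008) (nat_lit 4097) (nat_lit 4097) (nat_lit 0) (nat_lit 0) (nat_lit 2) (nat_lit 1) (nat_lit 0) (nat_lit 16) (nat_lit 1) (nat_lit 0) (nat_lit 4104) (nat_lit 8) (nat_lit 0x10000900000b0) (nat_lit 0x100000001000000000000000000000000000000000000) (.cD (nat_lit 144) (.kA false (nat_lit 0x17004002010001001001000013004002016002001001000004)) (.cD (nat_lit 176) (.kA false (nat_lit 0x15004002010001001001000011004002016002001001000004)) .nil))) (.cD (nat_lit 40) (.kA false (nat_lit 0x6002003008001004004000002004008010003003))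 (.cD (nat_lit 64) (.kc (nat_lit 96) (nat_lit 0x3001001)) (.cD (nat_lit 72) (.kc (nat_lit 104) (nat_lit 0x7001001)) (.cD (nat_lit 96) (.kA false (nat_lit 0x400300200800100400100300c001004004000003)) (.cD (nat_lit 104) (.kA false (nat_lit 0x100100000600100300d00107a002000003)) .nil)))))))) (.cD (nat_lit 72) (.dfs (nat_lit 64) (nat_lit 4100) (nat_lit 4100) (nat_lit 0x1002001) (nat_lit 0x1002001) (nat_lit 0) (nat_lit 0) (nat_lit 3) (nat_lit 0) (nat_lit 0) (nat_lit 0) (nat_lit 1) (nat_lit 0) (nat_lit 1) (nat_lit 0) (nat_lit 1) (nat_lit 0x101000001010000010100000100) (.cD (nat_lit 8) (.kc (nat_lit 72) (nat_lit 0x5001001)) (.cD (nat_lit 32) (.kA false (nat_lit 0x6002003008001004004000002004008010003003)) (.cD (nat_lit 40) (.dfs (nat_lit 23) (nat_lit 4102) (nat_lit 4100) (nat_lit 1) (nat_lit 1) (nat_lit 0) (nat_lit 0) (nat_lit 1) (nat_lit 4160) (nat_lit 0x8004002001000800407a001) (nat_lit 0) (nat_lit 1) (nat_lit 0) (nat_lit 1) (nat_lit 0) (nat_lit 1) (nat_lit 0) .nil) (.cD (nat_lit 64) (.kc (nat_lit 104) (nat_lit 0x7001001))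 (.cD (nat_lit 72) (.kc (nat_lit 96) (nat_lit 0x3001001)) (.cD (nat_lit 96) (.kA false (nat_lit 0x400300600800100400100300c001004004000003)) (.cD (nat_lit 104) (.kA false (nat_lit 0x100100000600100300d00107a002000003)) .nil)))))))) (.cD (nat_lit 96) (.kF (nat_lit 8) (nat_lit 0x100100000100500107a00200000600d00607a002000005)) (.cD (nat_lit 104) (.kF (nat_lit 8) (nat_lit 0x100100000300700103f01f000003)) .nil)))))))) (.cD (nat_lit 32) (.kF (nat_lit 8) (nat_lit 0x8d003000001003001002)) (.cD (nat_lit 40) (.kF (nat_lit 8) (nat_lit 0xa01000407a002000001003001003)) (.cD (nat_lit 64) (.dfs (nat_lit 32) (nat_lit 4098) (nat_lit 4098) (nat_lit 4097) (nat_lit 4097) (nat_lit 0) (nat_lit 0) (nat_lit 3) (nat_lit 0) (nat_lit 0) (nat_lit 0) (nat_lit 1) (nat_lit 0) (nat_lit 0x1020010008084) (nat_lit 0x20010008084) (nat_lit 0x1001004002004003004000008002008000020000028002028001010001070) (nat_lit 0x10000010100000110) (.cD (nat_lit 4) (.kF (nat_lit 32) (nat_lit 0x7a002000001006001002)) (.cD (nat_lit 8) (.dfs (nat_lit 64) (nat_lit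 4100) (nat_lit 4100) (nat_lit 0x1002001) (nat_lit 0x1002001) (nat_lit 0) (nat_lit 0) (nat_lit 3) (nat_lit 0) (nat_lit 0) (nat_lit 0) (nat_lit 1) (nat_lit 0) (nat_lit 1) (nat_lit 0) (nat_lit 1) (nat_lit 0x101000001010000010100000100) (.cD (nat_lit 8) (.kc (nat_lit 96) (nat_lit 0x3001001)) (.cD (nat_lit 32) (.kA false (nat_lit 0x300400500c00207a002000002)) (.cD (nat_lit 40) (.kA false (nat_lit 0x100400700c00207a002000002)) (.cD (nat_lit 64) (.kc (nat_lit 72) (nat_lit 0x5001001)) (.cD (nat_lit 72) (.kc (nat_lit 104) (nat_lit 0x7001001)) (.cD (nat_lit 96) (.kA false (nat_lit 0x700400100c00207a002000002)) (.cD (nat_lit 104) (.dfs (nat_lit 23) (nat_lit 4100) (nat_lit 4102) (nat_lit 1) (nat_lit 1) (nat_lit 0) (nat_lit 0) (nat_lit 1) (nat_lit 4160) (nat_lit 0x8004002001000800407a001) (nat_lit 0) (nat_lit 1) (nat_lit 0) (nat_lit 1) (nat_lit 0) (nat_lit 1) (nat_lit 0) .nil) .nil)))))))) (.cD (nat_lit 32) (.kF (nat_lit 8) (nat_lit 0x100100000300700103f01f000003)) (.cD (nat_lit 40) (.kF (nat_lit 32) (nat_lit 0x7a002000001006001002))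 (.cD (nat_lit 64) (.kc (nat_lit 40) (nat_lit 0x3001001)) .nil)))))) .nil))))))))
theorem c34 : (chk [] [] p34).n x14 s34 = true := by decide +kernel
noncomputable def p35 : Pf := (.anc (nat_lit 136) (nat_lit 0x10002004004000002) (nat_lit 0x1017040020008) (.czp (nat_lit 128) (nat_lit 0) (nat_lit 0x1080040020010008004) z2 (.dfs (nat_lit 8) (nat_lit 4097) (nat_lit 4097) (nat_lit 1) (nat_lit 1) (nat_lit 0) (nat_lit 0) (nat_lit 3) (nat_lit 0) (nat_lit 0) (nat_lit 0) (nat_lit 1) (nat_lit 0) (nat_lit 0x1020010008004) (nat_lit 0x20010008004) (nat_lit 0x1001004002004003004000008002008000020000028002028001010001070) (nat_lit 0x10000010100000110) (.cD (nat_lit 4) (.kF (nat_lit 8) (nat_lit 0x100200107a00200000e01a00407a002000004)) (.cD (nat_lit 8) (.dfs (nat_lit 32) (nat_lit 4098) (nat_lit 4098) (nat_lit 4097) (nat_lit 4097) (nat_lit 0) (nat_lit 0) (nat_lit 3) (nat_lit 0) (nat_lit 0) (nat_lit 0) (nat_lit 1) (nat_lit 0) (nat_lit 1) (nat_lit 0) (nat_lit 1) (nat_lit 0x101000001010000010100000100) (.cD (nat_lit 8) (.kc (nat_lit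 40) (nat_lit 0x3001001)) (.cD (nat_lit 32) (.kF (nat_lit 32) (nat_lit 0x4010004004004000001006001003)) (.cD (nat_lit 40) (.kF (nat_lit 32) (nat_lit 0x2010004004004000001006001003)) (.cD (nat_lit 64) (.dfs (nat_lit 64) (nat_lit 4100) (nat_lit 4100) (nat_lit 0x1002001) (nat_lit 0x1002001) (nat_lit 0) (nat_lit 0) (nat_lit 3) (nat_lit 0) (nat_lit 0) (nat_lit 0) (nat_lit 1) (nat_lit 0) (nat_lit 1) (nat_lit 0) (nat_lit 1) (nat_lit 0x101000001010000010100000100) (.cD (nat_lit 8) (.kc (nat_lit 72) (nat_lit 0x5001001)) (.cD (nat_lit 32) (.dfs (nat_lit 23) (nat_lit 0x1004002003008) (nat_lit 0x1006002003008) (nat_lit 4097) (nat_lit 4097) (nat_lit 0) (nat_lit 0) (nat_lit 2) (nat_lit 1) (nat_lit 0) (nat_lit 16) (nat_lit 1) (nat_lit 0) (nat_lit 4104) (nat_lit 8) (nat_lit 0x1000010000030) (nat_lit 0x1000000010000) (.cD (nat_lit 16) (.kA false (nat_lit 0x7a002000001004002014001010010000003004002016002001001000005)) (.cD (nat_lit 48) (.kA false (nat_lit 0x7a002000003004002014001010010000001004002016002001001000005)) .nil))) (.cD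 (nat_lit 40) (.kA false (nat_lit 0x6002003008001004004000002004008010003003)) (.cD (nat_lit 64) (.kc (nat_lit 96) (nat_lit 0x3001001)) (.cD (nat_lit 72) (.kc (nat_lit 104) (nat_lit 0x7001001)) (.cD (nat_lit 96) (.kA false (nat_lit 0x400300200800100400100300c001004004000003)) (.cD (nat_lit 104) (.kA false (nat_lit 0x100100000600100300d00107a002000003)) .nil)))))))) (.cD (nat_lit 72) (.dfs (nat_lit 64) (nat_lit 4100) (nat_lit 4100) (nat_lit 0x1002001) (nat_lit 0x1002001) (nat_lit 0) (nat_lit 0) (nat_lit 3) (nat_lit 0) (nat_lit 0) (nat_lit 0) (nat_lit 1) (nat_lit 0) (nat_lit 1) (nat_lit 0) (nat_lit 1) (nat_lit 0x101000001010000010100000100) (.cD (nat_lit 8) (.kc (nat_lit 72) (nat_lit 0x5001001)) (.cD (nat_lit 32) (.kA false (nat_lit 0x6002003008001004004000002004008010003003)) (.cD (nat_lit 40) (.dfs (nat_lit 23) (nat_lit 4102) (nat_lit 4100) (nat_lit 1) (nat_lit 1) (nat_lit 0) (nat_lit 0) (nat_lit 1) (nat_lit 4160) (nat_lit 0x8004002001000800407a001) (nat_lit 0) (nat_lit 1) (nat_lit 0) (nat_lit 1) (nat_lit 0) (nat_lit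 1) (nat_lit 0) .nil) (.cD (nat_lit 64) (.kc (nat_lit 104) (nat_lit 0x7001001)) (.cD (nat_lit 72) (.kc (nat_lit 96) (nat_lit 0x3001001)) (.cD (nat_lit 96) (.kA false (nat_lit 0x400300600800100400100300c001004004000003)) (.cD (nat_lit 104) (.kA false (nat_lit 0x100100000600100300d00107a002000003)) .nil)))))))) (.cD (nat_lit 96) (.kF (nat_lit 8) (nat_lit 0x100100000100500107a00200000600d00607a002000005)) (.cD (nat_lit 104) (.kF (nat_lit 8) (nat_lit 0x100100000300700103f01f000003)) .nil)))))))) (.cD (nat_lit 32) (.kF (nat_lit 8) (nat_lit 0x8d003000001003001002)) (.cD (nat_lit 40) (.kF (nat_lit 8) (nat_lit 0xa01000407a002000001003001003)) (.cD (nat_lit 64) (.dfs (nat_lit 32) (nat_lit 4098) (nat_lit 4098) (nat_lit 4097) (nat_lit 4097) (nat_lit 0) (nat_lit 0) (nat_lit 3) (nat_lit 0) (nat_lit 0) (nat_lit 0) (nat_lit 1) (nat_lit 0) (nat_lit 0x1020010008084) (nat_lit 0x20010008084) (nat_lit 0x1001004002004003004000008002008000020000028002028001010001070) (nat_lit 0x10000010100000110) (.cD (nat_lit 4) (.kF (nat_lit 32)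 (nat_lit 0x7a002000001006001002)) (.cD (nat_lit 8) (.dfs (nat_lit 64) (nat_lit 4100) (nat_lit 4100) (nat_lit 0x1002001) (nat_lit 0x1002001) (nat_lit 0) (nat_lit 0) (nat_lit 3) (nat_lit 0) (nat_lit 0) (nat_lit 0) (nat_lit 1) (nat_lit 0) (nat_lit 1) (nat_lit 0) (nat_lit 1) (nat_lit 0x101000001010000010100000100) (.cD (nat_lit 8) (.kc (nat_lit 96) (nat_lit 0x3001001)) (.cD (nat_lit 32) (.kA false (nat_lit 0x300400500c00207a002000002)) (.cD (nat_lit 40) (.kA false (nat_lit 0x100400700c00207a002000002)) (.cD (nat_lit 64) (.kc (nat_lit 72) (nat_lit 0x5001001)) (.cD (nat_lit 72) (.kc (nat_lit 104) (nat_lit 0x7001001)) (.cD (nat_lit 96) (.kA false (nat_lit 0x700400100c00207a002000002)) (.cD (nat_lit 104) (.dfs (nat_lit 23) (nat_lit 4100) (nat_lit 4102) (nat_lit 1) (nat_lit 1) (nat_lit 0) (nat_lit 0) (nat_lit 1) (nat_lit 4160) (nat_lit 0x8004002001000800407a001) (nat_lit 0) (nat_lit 1) (nat_lit 0) (nat_lit 1) (nat_lit 0) (nat_lit 1) (nat_lit 0) .nil) .nil)))))))) (.cD (nat_lit 32) (.kF (nat_lit 8) (nat_lit 0x100100000300700103f01f000003))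 (.cD (nat_lit 40) (.kF (nat_lit 32) (nat_lit 0x7a002000001006001002)) (.cD (nat_lit 64) (.kc (nat_lit 40) (nat_lit 0x3001001)) .nil)))))) .nil))))))))
theorem c35 : (chk [] [] p35).n x15 s35 = true := by decide +kernel
noncomputable def p36 : Pf := (.anc (nat_lit 136) (nat_lit 0x10002004004000002) (nat_lit 0x1017040020008) (.czp (nat_lit 128) (nat_lit 0) (nat_lit 0x1080040020010008004) z2 (.dfs (nat_lit 8) (nat_lit 4097) (nat_lit 4097) (nat_lit 1) (nat_lit 1) (nat_lit 0) (nat_lit 0) (nat_lit 3) (nat_lit 0) (nat_lit 0) (nat_lit 0) (nat_lit 1) (nat_lit 0) (nat_lit 0x1020010008004) (nat_lit 0x20010008004) (nat_lit 0x1001004002004003004000008002008000020000028002028001010001070) (nat_lit 0x10000010100000110) (.cD (nat_lit 4) (.kF (nat_lit 8) (nat_lit 0x100200107a00200000e01a00407a002000004)) (.cD (nat_lit 8) (.dfs (nat_lit 32) (nat_lit 4098) (nat_lit 4098) (nat_lit 4097) (nat_lit 4097) (nat_lit 0) (nat_lit 0) (nat_lit 3) (nat_lit 0) (nat_lit 0) (nat_lit 0) (nat_lit 1) (nat_lit 0) (nat_lit 1) (nat_lit 0) (nat_lit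 1) (nat_lit 0x101000001010000010100000100) (.cD (nat_lit 8) (.kc (nat_lit 40) (nat_lit 0x3001001)) (.cD (nat_lit 32) (.kF (nat_lit 32) (nat_lit 0x4010004004004000001006001003)) (.cD (nat_lit 40) (.kF (nat_lit 32) (nat_lit 0x2010004004004000001006001003)) (.cD (nat_lit 64) (.dfs (nat_lit 64) (nat_lit 4100) (nat_lit 4100) (nat_lit 0x1002001) (nat_lit 0x1002001) (nat_lit 0) (nat_lit 0) (nat_lit 3) (nat_lit 0) (nat_lit 0) (nat_lit 0) (nat_lit 1) (nat_lit 0) (nat_lit 1) (nat_lit 0) (nat_lit 1) (nat_lit 0x101000001010000010100000100) (.cD (nat_lit 8) (.kc (nat_lit 72) (nat_lit 0x5001001)) (.cD (nat_lit 32) (.dfs (nat_lit 23) (nat_lit 0x1004002003008) (nat_lit 0x1006002003008) (nat_lit 4097) (nat_lit 4097) (nat_lit 1) (nat_lit 0) (nat_lit 2) (nat_lit 1) (nat_lit 0) (nat_lit 16) (nat_lit 1) (nat_lit 0) (nat_lit 1) (nat_lit 0) (nat_lit 1) (nat_lit 0) .nil) (.cD (nat_lit 40) (.kA false (nat_lit 0x6002003008001004004000002004008010003003)) (.cD (nat_lit 64) (.kc (nat_lit 96) (nat_lit 0x3001001)) (.cD (nat_lit 72) (.kc (nat_lit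 104) (nat_lit 0x7001001)) (.cD (nat_lit 96) (.kA false (nat_lit 0x400300200800100400100300c001004004000003)) (.cD (nat_lit 104) (.kA false (nat_lit 0x4100100000600100300d00107a002000003)) .nil)))))))) (.cD (nat_lit 72) (.dfs (nat_lit 64) (nat_lit 4100) (nat_lit 4100) (nat_lit 0x1002001) (nat_lit 0x1002001) (nat_lit 0) (nat_lit 0) (nat_lit 3) (nat_lit 0) (nat_lit 0) (nat_lit 0) (nat_lit 1) (nat_lit 0) (nat_lit 1) (nat_lit 0) (nat_lit 1) (nat_lit 0x101000001010000010100000100) (.cD (nat_lit 8) (.kc (nat_lit 72) (nat_lit 0x5001001)) (.cD (nat_lit 32) (.kA false (nat_lit 0x6002003008001004004000002004008010003003)) (.cD (nat_lit 40) (.dfs (nat_lit 23) (nat_lit 4102) (nat_lit 4100) (nat_lit 1) (nat_lit 1) (nat_lit 1) (nat_lit 0) (nat_lit 1) (nat_lit 4160) (nat_lit 0x8004002001000800407a041) (nat_lit 0) (nat_lit 1) (nat_lit 0) (nat_lit 1) (nat_lit 0) (nat_lit 1) (nat_lit 0) .nil) (.cD (nat_lit 64) (.kc (nat_lit 104) (nat_lit 0x7001001)) (.cD (nat_lit 72) (.kc (nat_lit 96) (nat_lit 0x3001001)) (.cD (nat_lit 96) (.kA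 false (nat_lit 0x400300600800100400100300c001004004000003)) (.cD (nat_lit 104) (.kA false (nat_lit 0x4100100000600100300d00107a002000003)) .nil)))))))) (.cD (nat_lit 96) (.kF (nat_lit 8) (nat_lit 0x4100100000100500107a00200000600d00607a002000005)) (.cD (nat_lit 104) (.kF (nat_lit 8) (nat_lit 0x4100100000300700107f01f000003)) .nil)))))))) (.cD (nat_lit 32) (.kF (nat_lit 8) (nat_lit 0xcd003000001003001002)) (.cD (nat_lit 40) (.kF (nat_lit 8) (nat_lit 0xa01000407a002000001003001003)) (.cD (nat_lit 64) (.dfs (nat_lit 32) (nat_lit 4098) (nat_lit 4098) (nat_lit 4097) (nat_lit 4097) (nat_lit 0) (nat_lit 0) (nat_lit 3) (nat_lit 0) (nat_lit 0) (nat_lit 0) (nat_lit 1) (nat_lit 0) (nat_lit 0x1020010008084) (nat_lit 0x20010008084) (nat_lit 0x1001004002004003004000008002008000020000028002028001010001070) (nat_lit 0x10000010100000110) (.cD (nat_lit 4) (.kF (nat_lit 32) (nat_lit 0x7a002000001006001002)) (.cD (nat_lit 8) (.dfs (nat_lit 64) (nat_lit 4100) (nat_lit 4100) (nat_lit 0x1002001) (nat_lit 0x1002001) (nat_lit 0) (nat_lit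 0) (nat_lit 3) (nat_lit 0) (nat_lit 0) (nat_lit 0) (nat_lit 1) (nat_lit 0) (nat_lit 1) (nat_lit 0) (nat_lit 1) (nat_lit 0x101000001010000010100000100) (.cD (nat_lit 8) (.kc (nat_lit 96) (nat_lit 0x3001001)) (.cD (nat_lit 32) (.kA false (nat_lit 0x300400500c00207a002000002)) (.cD (nat_lit 40) (.kA false (nat_lit 0x100400700c00207a002000002)) (.cD (nat_lit 64) (.kc (nat_lit 72) (nat_lit 0x5001001)) (.cD (nat_lit 72) (.kc (nat_lit 104) (nat_lit 0x7001001)) (.cD (nat_lit 96) (.kA false (nat_lit 0x700400100c00207a002000002)) (.cD (nat_lit 104) (.dfs (nat_lit 23) (nat_lit 4100) (nat_lit 4102) (nat_lit 1) (nat_lit 1) (nat_lit 1) (nat_lit 0) (nat_lit 1) (nat_lit 4160) (nat_lit 0x8004002001000800407a041) (nat_lit 0) (nat_lit 1) (nat_lit 0) (nat_lit 1) (nat_lit 0) (nat_lit 1) (nat_lit 0) .nil) .nil)))))))) (.cD (nat_lit 32) (.kF (nat_lit 8) (nat_lit 0x4100100000300700107f01f000003)) (.cD (nat_lit 40) (.kF (nat_lit 32) (nat_lit 0x7a002000001006001002)) (.cD (nat_lit 64) (.kc (nat_lit 40) (nat_lit 0x3001001)) .nil))))))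 .nil))))))))
theorem c36 : (chk [] [] p36).n x16 s36 = true := by decide +kernel
noncomputable def p37 : Pf := (.anc (nat_lit 136) (nat_lit 0x10002004004000002) (nat_lit 0x1017040020008) (.czp (nat_lit 128) (nat_lit 0) (nat_lit 0x1080040020010008004) z2 (.dfs (nat_lit 8) (nat_lit 4097) (nat_lit 4097) (nat_lit 1) (nat_lit 1) (nat_lit 0) (nat_lit 0) (nat_lit 3) (nat_lit 0) (nat_lit 0) (nat_lit 0) (nat_lit 1) (nat_lit 0) (nat_lit 0x1020010008004) (nat_lit 0x20010008004) (nat_lit 0x1001004002004003004000008002008000020000028002028001010001070) (nat_lit 0x10000010100000110) (.cD (nat_lit 4) (.kF (nat_lit 8) (nat_lit 0x100200107a00200000e01a00407a002000004)) (.cD (nat_lit 8) (.dfs (nat_lit 32) (nat_lit 4098) (nat_lit 4098) (nat_lit 4097) (nat_lit 4097) (nat_lit 0) (nat_lit 0) (nat_lit 3) (nat_lit 0) (nat_lit 0) (nat_lit 0) (nat_lit 1) (nat_lit 0) (nat_lit 1) (nat_lit 0) (nat_lit 1) (nat_lit 0x101000001010000010100000100) (.cD (nat_lit 8) (.kc (nat_lit 40) (nat_lit 0x3001001)) (.cD (nat_lit 32) (.kF (nat_lit 32) (nat_lit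 0x4010004004004000001006001003)) (.cD (nat_lit 40) (.kF (nat_lit 32) (nat_lit 0x2010004004004000001006001003)) (.cD (nat_lit 64) (.dfs (nat_lit 64) (nat_lit 4100) (nat_lit 4100) (nat_lit 0x1002001) (nat_lit 0x1002001) (nat_lit 0) (nat_lit 0) (nat_lit 3) (nat_lit 0) (nat_lit 0) (nat_lit 0) (nat_lit 1) (nat_lit 0) (nat_lit 1) (nat_lit 0) (nat_lit 1) (nat_lit 0x101000001010000010100000100) (.cD (nat_lit 8) (.kc (nat_lit 72) (nat_lit 0x5001001)) (.cD (nat_lit 32) (.dfs (nat_lit 23) (nat_lit 0x1004002003008) (nat_lit 0x1006002003008) (nat_lit 4097) (nat_lit 4097) (nat_lit 1) (nat_lit 0) (nat_lit 2) (nat_lit 1) (nat_lit 0) (nat_lit 16) (nat_lit 1) (nat_lit 0) (nat_lit 1) (nat_lit 0) (nat_lit 1) (nat_lit 0) .nil) (.cD (nat_lit 40) (.kA false (nat_lit 0x6002003008001004004000002004008010003003)) (.cD (nat_lit 64) (.kc (nat_lit 96) (nat_lit 0x3001001)) (.cD (nat_lit 72) (.kc (nat_lit 104) (nat_lit 0x7001001)) (.cD (nat_lit 96) (.kA false (nat_lit 0x400300200800100400100300c001004004000003)) (.cD (nat_lit 104) (.kA false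 (nat_lit 0x4100100000600100300d00107a002000003)) .nil)))))))) (.cD (nat_lit 72) (.dfs (nat_lit 64) (nat_lit 4100) (nat_lit 4100) (nat_lit 0x1002001) (nat_lit 0x1002001) (nat_lit 0) (nat_lit 0) (nat_lit 3) (nat_lit 0) (nat_lit 0) (nat_lit 0) (nat_lit 1) (nat_lit 0) (nat_lit 1) (nat_lit 0) (nat_lit 1) (nat_lit 0x101000001010000010100000100) (.cD (nat_lit 8) (.kc (nat_lit 72) (nat_lit 0x5001001)) (.cD (nat_lit 32) (.kA false (nat_lit 0x6002003008001004004000002004008010003003)) (.cD (nat_lit 40) (.dfs (nat_lit 23) (nat_lit 4102) (nat_lit 4100) (nat_lit 1) (nat_lit 1) (nat_lit 1) (nat_lit 0) (nat_lit 1) (nat_lit 4160) (nat_lit 0x8004002001000800407a041) (nat_lit 0) (nat_lit 1) (nat_lit 0) (nat_lit 1) (nat_lit 0) (nat_lit 1) (nat_lit 0) .nil) (.cD (nat_lit 64) (.kc (nat_lit 104) (nat_lit 0x7001001)) (.cD (nat_lit 72) (.kc (nat_lit 96) (nat_lit 0x3001001)) (.cD (nat_lit 96) (.kA false (nat_lit 0x400300600800100400100300c001004004000003)) (.cD (nat_lit 104) (.kA false (nat_lit 0x4100100000600100300d00107a002000003))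 .nil)))))))) (.cD (nat_lit 96) (.kF (nat_lit 8) (nat_lit 0x4100100000100500107a00200000600d00607a002000005)) (.cD (nat_lit 104) (.kF (nat_lit 8) (nat_lit 0x4100100000300700107f01f000003)) .nil)))))))) (.cD (nat_lit 32) (.kF (nat_lit 8) (nat_lit 0xcd003000001003001002)) (.cD (nat_lit 40) (.kF (nat_lit 8) (nat_lit 0xa01000407a002000001003001003)) (.cD (nat_lit 64) (.dfs (nat_lit 32) (nat_lit 4098) (nat_lit 4098) (nat_lit 4097) (nat_lit 4097) (nat_lit 0) (nat_lit 0) (nat_lit 3) (nat_lit 0) (nat_lit 0) (nat_lit 0) (nat_lit 1) (nat_lit 0) (nat_lit 0x1020010008084) (nat_lit 0x20010008084) (nat_lit 0x1001004002004003004000008002008000020000028002028001010001070) (nat_lit 0x10000010100000110) (.cD (nat_lit 4) (.kF (nat_lit 32) (nat_lit 0x7a002000001006001002)) (.cD (nat_lit 8) (.dfs (nat_lit 64) (nat_lit 4100) (nat_lit 4100) (nat_lit 0x1002001) (nat_lit 0x1002001) (nat_lit 0) (nat_lit 0) (nat_lit 3) (nat_lit 0) (nat_lit 0) (nat_lit 0) (nat_lit 1) (nat_lit 0) (nat_lit 1) (nat_lit 0) (nat_lit 1) (nat_lit 0x101000001010000010100000100)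 (.cD (nat_lit 8) (.kc (nat_lit 96) (nat_lit 0x3001001)) (.cD (nat_lit 32) (.kA false (nat_lit 0x300400500c00207a002000002)) (.cD (nat_lit 40) (.kA false (nat_lit 0x100400700c00207a002000002)) (.cD (nat_lit 64) (.kc (nat_lit 72) (nat_lit 0x5001001)) (.cD (nat_lit 72) (.kc (nat_lit 104) (nat_lit 0x7001001)) (.cD (nat_lit 96) (.kA false (nat_lit 0x700400100c00207a002000002)) (.cD (nat_lit 104) (.dfs (nat_lit 23) (nat_lit 4100) (nat_lit 4102) (nat_lit 1) (nat_lit 1) (nat_lit 1) (nat_lit 0) (nat_lit 1) (nat_lit 4160) (nat_lit 0x8004002001000800407a041) (nat_lit 0) (nat_lit 1) (nat_lit 0) (nat_lit 1) (nat_lit 0) (nat_lit 1) (nat_lit 0) .nil) .nil)))))))) (.cD (nat_lit 32) (.kF (nat_lit 8) (nat_lit 0x4100100000300700107f01f000003)) (.cD (nat_lit 40) (.kF (nat_lit 32) (nat_lit 0x7a002000001006001002)) (.cD (nat_lit 64) (.kc (nat_lit 40) (nat_lit 0x3001001)) .nil)))))) .nil))))))))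
theorem c37 : (chk [] [] p37).n x17 s37 = true := by decide +kernel
noncomputable def p38 : Pf := (.lft (nat_lit 0x4001002000800200f001001001) (nat_lit 0) (nat_lit 0x1060040) (nat_lit 0x4002001000800400203d) (.extn a300 (nat_lit 0x40020010008004002001) (nat_lit 0x1008020010040) (nat_lit 2) (nat_lit 0) (nat_lit 0) (nat_lit 0) (nat_lit 0x100000001) (.cE (nat_lit 0) b455 (nat_lit 0) (.cut (nat_lit 0)) (.cut (nat_lit 1)) (.cE (nat_lit 32) b456 (nat_lit 0) (.cut (nat_lit 2)) (.cut (nat_lit 3)) .nil))))
theorem c38 : (chk [(x14, s34), (x15, s35), (x16, s36), (x17, s37)] [] p38).n x13 s38 = true := by decide +kernel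
noncomputable def p39 : Pf := (.ext (nat_lit 0) (nat_lit 0) (nat_lit 0x1040010020008003004) (nat_lit 0x20010008004001013001001) (nat_lit 0x14008010038) (nat_lit 4097) (nat_lit 4170) (nat_lit 0x2801800801101f014) (.dfs (nat_lit 1) (nat_lit 0x1014008010038) (nat_lit 0x1009008018038) (nat_lit 0x1020004002001) (nat_lit 0x102801101f014) (nat_lit 21) (nat_lit 0) (nat_lit 2) (nat_lit 0) (nat_lit 0) (nat_lit 10) (nat_lit 1) (nat_lit 0) (nat_lit 4112) (nat_lit 16) (nat_lit 0x100004a) (nat_lit 0x4000000000000000000) (.cD (nat_lit 74) (.cut (nat_lit 0)) .nil)))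
theorem c39 : (chk [(x13, s38)] [] p39).n x13 s39 = true := by decide +kernel
noncomputable def p40 : Pf := (.ext (nat_lit 0) (nat_lit 0) (nat_lit 0x1040010020008003004) (nat_lit 0x20010008004001013001001) (nat_lit 0x14008010038) (nat_lit 4097) (nat_lit 4102) (nat_lit 0x2801800801101f014) (.dfs (nat_lit 1) (nat_lit 0x1014008010038) (nat_lit 0x1009008018038) (nat_lit 0x1020004002001) (nat_lit 0x102801101f014) (nat_lit 21) (nat_lit 0) (nat_lit 2) (nat_lit 0) (nat_lit 0) (nat_lit 2) (nat_lit 1) (nat_lit 0) (nat_lit 1) (nat_lit 0) (nat_lit 1) (nat_lit 0) .nil))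
theorem c40 : (chk [] [] p40).n x13 s40 = true := by decide +kernel
noncomputable def p41 : Pf := (.ext (nat_lit 0) (nat_lit 0) (nat_lit 0x1040010020008007) (nat_lit 0x1200800c00e003003010008004002001003002) (nat_lit 0xa00400801c) (nat_lit 4099) (nat_lit 4099) (nat_lit 0x1400800400e00d) (.dfs (nat_lit 3) (nat_lit 0x100a00400801c) (nat_lit 0x1006004008018) (nat_lit 0x1010002001) (nat_lit 0x101400e00d) (nat_lit 8) (nat_lit 0) (nat_lit 2) (nat_lit 0) (nat_lit 0) (nat_lit 3) (nat_lit 1) (nat_lit 0) (nat_lit 1) (nat_lit 0) (nat_lit 1) (nat_lit 0x8000800080008) (.cD (nat_lit 3) (.kA false (nat_lit 0x13008018038001010004008028003002)) (.cD (nat_lit 19) (.cut (nat_lit 1)) (.cD (nat_lit 35) (.kA false (nat_lit 0x13008018038001010004008028003002)) (.cD (nat_lit 51) (.cut (nat_lit 0)) .nil))))))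
theorem c41 : (chk [(x13, s39), (x13, s40)] [] p41).n x13 s41 = true := by decide +kernel
noncomputable def p42 : Pf := (.anc (nat_lit 80) (nat_lit 0x1600101c001002002000003) (nat_lit 0x1001004020010008) (.dfs (nat_lit 8) (nat_lit 1) (nat_lit 1) (nat_lit 4097) (nat_lit 4097) (nat_lit 0) (nat_lit 0) (nat_lit 0) (nat_lit 0) (nat_lit 0) (nat_lit 0) (nat_lit 1) (nat_lit 0) (nat_lit 0x1010008004002) (nat_lit 0x10008004002) (nat_lit 0x1001002002002003002000004002004000010000014002014001008001038) (nat_lit 0x100110014) (.cD (nat_lit 2) (.kF (nat_lit 2) (nat_lit 0x3d00100000e01a003002018003001002002004)) (.cD (nat_lit 4) (.czs (nat_lit 4) z1 (nat_lit 16) (.dfs (nat_lit 16) (nat_lit 4097) (nat_lit 4097) (nat_lit 4098) (nat_lit 4098) (nat_lit 0) (nat_lit 0) (nat_lit 3) (nat_lit 0) (nat_lit 0) (nat_lit 0) (nat_lit 1) (nat_lit 0) (nat_lit 1) (nat_lit 0) (nat_lit 1) (nat_lit 0x11001100110010) (.cD (nat_lit 4) (.kc (nat_lit 24) (nat_lit 0x3001001)) (.cD (nat_lit 16) (.kF (nat_lit 8) (nat_lit 0xe01600300201c003002002000002005001004))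 (.cD (nat_lit 20) (.kF (nat_lit 8) (nat_lit 0xe01000403d001000002005001003)) (.cD (nat_lit 32) (.kF (nat_lit 8) (nat_lit 0x3d001000002005001002)) (.cD (nat_lit 36) (.kF (nat_lit 8) (nat_lit 0x2016003002002000002005001003)) (.cD (nat_lit 48) (.dfs (nat_lit 32) (nat_lit 4098) (nat_lit 4098) (nat_lit 0x1004001) (nat_lit 0x1004001) (nat_lit 0) (nat_lit 0) (nat_lit 3) (nat_lit 0) (nat_lit 0) (nat_lit 0) (nat_lit 1) (nat_lit 0) (nat_lit 1) (nat_lit 0) (nat_lit 1) (nat_lit 0x11001100110010) (.cD (nat_lit 4) (.kc (nat_lit 40) (nat_lit 0x5001001)) (.cD (nat_lit 16) (.kA false (nat_lit 0x3d00100000500300200b00203d001000003)) (.cD (nat_lit 20) (.kA false (nat_lit 0x400e00801600300100700200f00203d001000003)) (.cD (nat_lit 32) (.dfs (nat_lit 4) (nat_lit 0x1004001002008) (nat_lit 0x1005001002008) (nat_lit 1) (nat_lit 1) (nat_lit 0) (nat_lit 0) (nat_lit 2) (nat_lit 1) (nat_lit 0) (nat_lit 8) (nat_lit 1) (nat_lit 0) (nat_lit 4100) (nat_lit 4) (nat_lit 0x1000008000018) (nat_lit 0x1000100) (.cD (nat_lit 8) (.kA false (nat_lit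 0xe00200401000100500200601600103d001000003)) (.cD (nat_lit 24) (.dfs (nat_lit 1) (nat_lit 0x1007002006010) (nat_lit 0x1008002004010) (nat_lit 0x1008004001) (nat_lit 0x100500600c) (nat_lit 13) (nat_lit 0) (nat_lit 2) (nat_lit 0) (nat_lit 0) (nat_lit 2) (nat_lit 1) (nat_lit 0) (nat_lit 4112) (nat_lit 16) (nat_lit 0x1000056) (nat_lit 0x4000000000000000000000) (.cD (nat_lit 86) (.cut (nat_lit 0)) .nil)) .nil))) (.cD (nat_lit 36) (.dfs (nat_lit 4) (nat_lit 4101) (nat_lit 4100) (nat_lit 1) (nat_lit 1) (nat_lit 0) (nat_lit 0) (nat_lit 1) (nat_lit 4128) (nat_lit 0x4002001000800400203d) (nat_lit 0) (nat_lit 1) (nat_lit 0) (nat_lit 1) (nat_lit 0) (nat_lit 1) (nat_lit 0) .nil) (.cD (nat_lit 48) (.kc (nat_lit 48) (nat_lit 0x3001001)) (.cD (nat_lit 52) (.kc (nat_lit 56) (nat_lit 0x7001001)) .nil)))))))) (.cD (nat_lit 52) (.dfs (nat_lit 32) (nat_lit 4098) (nat_lit 4098) (nat_lit 0x1004001) (nat_lit 0x1004001) (nat_lit 0) (nat_lit 0) (nat_lit 3) (nat_lit 0) (nat_lit 0) (nat_lit 0) (nat_lit 1) (nat_lit 0) (nat_lit 1) (nat_lit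 0) (nat_lit 1) (nat_lit 0x11001100110010) (.cD (nat_lit 4) (.kc (nat_lit 40) (nat_lit 0x5001001)) (.cD (nat_lit 16) (.kA false (nat_lit 0x600e00a01600300500700600f00203d001000003)) (.cD (nat_lit 20) (.kA false (nat_lit 0x3d00100000100300600b00203d001000003)) (.cD (nat_lit 32) (.kA false (nat_lit 0xa00400201600303d00100000400100200a001003)) (.cD (nat_lit 36) (.kA false (nat_lit 0xa00e00201600303d00100000400100200a001003)) (.cD (nat_lit 48) (.kc (nat_lit 56) (nat_lit 0x7001001)) (.cD (nat_lit 52) (.kc (nat_lit 48) (nat_lit 0x3001001)) .nil)))))))) .nil))))))))) (.cD (nat_lit 16) (.kF (nat_lit 16) (nat_lit 0x3d00100000e01a003002018003001002002004)) (.cD (nat_lit 20) (.kF (nat_lit 20) (nat_lit 0x3d00100000e01a003002018003001002002004)) (.cD (nat_lit 32) (.dfs (nat_lit 16) (nat_lit 1) (nat_lit 1) (nat_lit 0x1002001) (nat_lit 0x1002001) (nat_lit 0) (nat_lit 0) (nat_lit 0) (nat_lit 0) (nat_lit 0) (nat_lit 0) (nat_lit 1) (nat_lit 0) (nat_lit 0x1010008004002) (nat_lit 0x10008004002) (nat_lit 0x1001002002002003002000004002004000010000014002014001008001038)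 (nat_lit 0x100110014) (.cD (nat_lit 2) (.kF (nat_lit 16) (nat_lit 0x3d00100000100600100801a004013003000004)) (.cD (nat_lit 4) (.kF (nat_lit 8) (nat_lit 0xc010004002002000002005001003)) (.cD (nat_lit 16) (.dfs (nat_lit 32) (nat_lit 1) (nat_lit 1) (nat_lit 0x1004002001) (nat_lit 0x1004002001) (nat_lit 0) (nat_lit 0) (nat_lit 0) (nat_lit 0) (nat_lit 0) (nat_lit 0) (nat_lit 1) (nat_lit 0) (nat_lit 0x1008004) (nat_lit 32772) (nat_lit 0x1001004000008001014000018) (nat_lit 0x1000101110110) (.cD (nat_lit 4) (.kA false (nat_lit 0x100600300800103d00100000400100200a001003)) (.cD (nat_lit 8) (.dfs (nat_lit 4) (nat_lit 4100) (nat_lit 4101) (nat_lit 1) (nat_lit 1) (nat_lit 0) (nat_lit 0) (nat_lit 1) (nat_lit 4128) (nat_lit 0x4002001000800400203d) (nat_lit 0) (nat_lit 1) (nat_lit 0) (nat_lit 1) (nat_lit 0) (nat_lit 1) (nat_lit 0) .nil) (.cD (nat_lit 16) (.kc (nat_lit 48) (nat_lit 0x3001001)) (.cD (nat_lit 20) (.kA false (nat_lit 0x100500300800103d00100000400100200a001003)) (.cD (nat_lit 24) (.kA false (nat_lit 0x100600200800100400100200a001002))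 (.cD (nat_lit 32) (.kc (nat_lit 40) (nat_lit 0x5001001)) (.cD (nat_lit 48) (.kc (nat_lit 56) (nat_lit 0x7001001)) .nil)))))))) (.cD (nat_lit 20) (.kF (nat_lit 8) (nat_lit 0xc01000403d001000002005001003)) (.cD (nat_lit 32) (.kc (nat_lit 24) (nat_lit 0x3001001)) .nil)))))) .nil)))))))
theorem c42 : (chk [(x13, s41)] [] p42).n x13 s42 = true := by decide +kernel
noncomputable def p43 : Pf := (.ext (nat_lit 0) (nat_lit 0) (nat_lit 0x1040010020008) (nat_lit 0x500200e00a001013003000001002004008001003) (nat_lit 0x300600400b) (nat_lit 4103) (nat_lit 4103) (nat_lit 0xa004002005) (.dfs (nat_lit 7) (nat_lit 0x100300600400b) (nat_lit 0x100700600400d) (nat_lit 0x1008002001) (nat_lit 0x100a002005) (nat_lit 2) (nat_lit 0) (nat_lit 2) (nat_lit 0) (nat_lit 0) (nat_lit 7) (nat_lit 1) (nat_lit 0) (nat_lit 0x1040008) (nat_lit 0x40008) (nat_lit 0x100000f00100f00101f) (nat_lit 32768) (.cD (nat_lit 15) (.cut (nat_lit 0)) .nil)))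
theorem c43 : (chk [(x13, s42)] [] p43).n x13 s43 = true := by decide +kernel
noncomputable def p44 : Pf := (.ext (nat_lit 0) (nat_lit 0x100801003600102f001000002) (nat_lit 0x1080020040010) (nat_lit 0x3601000100900102f001000001002004008003003) (nat_lit 0x2003004008) (nat_lit 4102) (nat_lit 4119) (nat_lit 0xa004002001) (.dfs (nat_lit 6) (nat_lit 0x1001002004008) (nat_lit 0x100100200400a) (nat_lit 1) (nat_lit 1) (nat_lit 2) (nat_lit 0) (nat_lit 2) (nat_lit 0) (nat_lit 0x1002004008001001) (nat_lit 23) (nat_lit 1) (nat_lit 0) (nat_lit 1) (nat_lit 0) (nat_lit 1) (nat_lit 0) .nil))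
theorem c44 : (chk [] [] p44).n x19 s44 = true := by decide +kernel
noncomputable def p45 : Pf := (.ext (nat_lit 0) (nat_lit 0x100801003600102f001000002) (nat_lit 0x1080020040010) (nat_lit 0x3601000100900102f001000001002004008003003) (nat_lit 0x2003004008) (nat_lit 4102) (nat_lit 4119) (nat_lit 0xa004002001) (.dfs (nat_lit 6) (nat_lit 0x1001002004008) (nat_lit 0x100100200400a) (nat_lit 1) (nat_lit 1) (nat_lit 2) (nat_lit 0) (nat_lit 2) (nat_lit 0) (nat_lit 0x1002004008001001) (nat_lit 23) (nat_lit 1) (nat_lit 0) (nat_lit 1) (nat_lit 0) (nat_lit 1) (nat_lit 0) .nil))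
theorem c45 : (chk [] [] p45).n x20 s45 = true := by decide +kernel
noncomputable def p46 : Pf := (.ext (nat_lit 0) (nat_lit 0x400801802600200201003005000305a002000003) (nat_lit 0x1080020040010) (nat_lit 0x2a01800400c00200400400002001000400c00106c02001000200306f001000005) (nat_lit 0x2003004009) (nat_lit 0x1008006) (nat_lit 0x1003016) (nat_lit 0x800400200300a004002001) (.dfs (nat_lit 6) (nat_lit 0x1001002004008) (nat_lit 0x100100200400a) (nat_lit 1) (nat_lit 1) (nat_lit 2) (nat_lit 0) (nat_lit 2) (nat_lit 0) (nat_lit 0x1002004008001001) (nat_lit 22) (nat_lit 1) (nat_lit 0) (nat_lit 4231) (nat_lit 135) (nat_lit 0x1000016000018000036000038) (nat_lit 0x140000001400000) (.cD (nat_lit 22) (.dfs (nat_lit 8) (nat_lit 0x1002004008010) (nat_lit 0x1006004008010) (nat_lit 4097) (nat_lit 4101) (nat_lit 0) (nat_lit 0) (nat_lit 2) (nat_lit 0) (nat_lit 0x2004008010001001) (nat_lit 3) (nat_lit 1) (nat_lit 0) (nat_lit 1) (nat_lit 0) (nat_lit 1) (nat_lit 0) .nil) (.cD (nat_lit 24) (.kS (nat_lit 0) (nat_lit 0xc00801002000402601002007400606f001000003)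 (nat_lit 4175) (nat_lit 0x8004002005) (nat_lit 0x5a00200000c00401802a01d00300200400801000100100106f00002601002007403a00500c00801002001a003006)) (.cD (nat_lit 54) (.kS (nat_lit 0) (nat_lit 0xc00801002000402601002007400606f001000003) (nat_lit 4175) (nat_lit 0x8004002005) (nat_lit 0x5a00200000c00401802a01100300200400801000100100106f00002601002007403a00500c00801002001a003006)) (.cD (nat_lit 56) (.kS (nat_lit 0) (nat_lit 0xc00801002000402601002007400606f001000003) (nat_lit 4175) (nat_lit 0x8004002005) (nat_lit 0x5a00200000c00401802a00d00300200400801000100100106f00002601002007403a00500c00801002001a003006)) .nil))))))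
theorem c46 : (chk [] [] p46).n x21 s46 = true := by decide +kernel
noncomputable def p47 : Pf := (.ext (nat_lit 0) (nat_lit 0x4006008010002001) (nat_lit 0x10e602006e040) (nat_lit 0x6c02001000200306f001000010008006004001003) (nat_lit 0x2003004008) (nat_lit 0x1016001) (nat_lit 0x1017016) (nat_lit 0x900400200100a004002001) (.dfs (nat_lit 1) (nat_lit 0x1002003004008) (nat_lit 0x100200300400a) (nat_lit 4097) (nat_lit 4097) (nat_lit 2) (nat_lit 0) (nat_lit 2) (nat_lit 0) (nat_lit 0x4006008010004001) (nat_lit 22) (nat_lit 1) (nat_lit 0) (nat_lit 4230) (nat_lit 134) (nat_lit 0x1000016000018000036000038) (nat_lit 0x140000001400000) (.cD (nat_lit 22) (.kS (nat_lit 0) (nat_lit 0x201002006c006002004008010001004006008010004003) (nat_lit 4118) (nat_lit 0x8004002005) (nat_lit 0x6f00100000400600801000100300200400801000100200201002006c00c005004)) (.cD (nat_lit 24) (.dfs (nat_lit 22) (nat_lit 0x1004006008010) (nat_lit 0x1004006008012) (nat_lit 0x1002001) (nat_lit 0x1002001) (nat_lit 2) (nat_lit 0) (nat_lit 2) (nat_lit 0) (nat_lit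 0x4006008010004001) (nat_lit 23) (nat_lit 1) (nat_lit 0) (nat_lit 1) (nat_lit 0) (nat_lit 1) (nat_lit 0x2800000028000000280000002800000) (.cD (nat_lit 23) (.kS (nat_lit 0) (nat_lit 0x8004010020002010010000004006008010004003) (nat_lit 4214) (nat_lit 0x8004002005) (nat_lit 0x10010000004008010020002001010010000008004010020015001004)) (.cD (nat_lit 25) (.kS (nat_lit 0) (nat_lit 0x8004010020002010010000004006008010004003) (nat_lit 4118) (nat_lit 0x8004002005) (nat_lit 0x10010000004008010020002001010010000008004010020001001004)) (.cD (nat_lit 55) (.kS (nat_lit 0) (nat_lit 0x8004010020002010010000004006008010004003) (nat_lit 4182) (nat_lit 0x8004002005) (nat_lit 0x10010000004008010020002001010010000008004010020005001004)) (.cD (nat_lit 57) (.kS (nat_lit 0) (nat_lit 0x8004010020002010010000004006008010004003) (nat_lit 4150) (nat_lit 0x8004002005) (nat_lit 0x10010000004008010020002001010010000008004010020011001004)) (.cD (nat_lit 87) (.kS (nat_lit 0) (nat_lit 0x800c010020002004006008010004002) (nat_lit 4215) (nat_lit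 0x8004002005) (nat_lit 0xc00401002001d00100400801002000200100800c010020017001003)) (.cD (nat_lit 89) (.kS (nat_lit 0) (nat_lit 0x8004010020002010010000004006008010004003) (nat_lit 4216) (nat_lit 0x8004002005) (nat_lit 0x10010000004008010020002001010010000008004010020009001004)) (.cD (nat_lit 119) (.kS (nat_lit 0) (nat_lit 0x8004010020002010010000004006008010004003) (nat_lit 4152) (nat_lit 0x8004002005) (nat_lit 0x1001000000400801002000200101001000000800401002000d001004)) (.cD (nat_lit 121) (.cut (nat_lit 0)) .nil))))))))) (.cD (nat_lit 54) (.kS (nat_lit 0) (nat_lit 0x201002006c006002004008010001004006008010004003) (nat_lit 4150) (nat_lit 0x8004002005) (nat_lit 0x6f00100000400600801000100300200400801000100200201002006c02c005004)) (.cD (nat_lit 56) (.kS (nat_lit 0) (nat_lit 0x201002006c006002004008010001004006008010004003) (nat_lit 4190) (nat_lit 0x8004002005) (nat_lit 0x6f00100000400600801000100300200400801000100200201002006c00e005004)) .nil))))))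
theorem c47 : (chk [(x21, s46)] [] p47).n x21 s47 = true := by decide +kernel
noncomputable def p48 : Pf := (.ext (nat_lit 0) (nat_lit 0x65001000008010020040002002) (nat_lit 0x110004008002000c) (nat_lit 0x2c01000800400a004065001000040020010008004002003) (nat_lit 0x6002008012) (nat_lit 4106) (nat_lit 4375) (nat_lit 0x1f00c004002001) (.dfs (nat_lit 10) (nat_lit 0x1002004008010) (nat_lit 0x100200400c01f) (nat_lit 4097) (nat_lit 4097) (nat_lit 0) (nat_lit 0) (nat_lit 2) (nat_lit 0) (nat_lit 0x2004008010001001) (nat_lit 25) (nat_lit 1) (nat_lit 0) (nat_lit 1) (nat_lit 0) (nat_lit 1) (nat_lit 0) .nil))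
theorem c48 : (chk [] [] p48).n x22 s48 = true := by decide +kernel
noncomputable def p49 : Pf := (.anz (nat_lit 128) (.iso x24 ⟨[([nat_lit 8, nat_lit 85, nat_lit 457, nat_lit 1, nat_lit 432, nat_lit 128, nat_lit 25, nat_lit 66], [nat_lit 470, nat_lit 211, nat_lit 129, nat_lit 249, nat_lit 432, nat_lit 304, nat_lit 153, nat_lit 402]), ([nat_lit 9, nat_lit 256, nat_lit 249, nat_lit 304, nat_lit 128, nat_lit 297, nat_lit 218], [nat_lit 377, nat_lit 432, nat_lit 489, nat_lit 32, nat_lit 128, nat_lit 25, nat_lit 2])], [], [], [], [], [], true, false, []⟩ (nat_lit 0) (nat_lit 0x100608001002004a008001100002) (nat_lit 0x2080019020040008031001004) [(nat_lit 0x80040020010008004002001001001), (nat_lit 0x40020010008004002001003001)] (.syr (nat_lit 25) false (nat_lit 1) (nat_lit 1) (nat_lit 305) (nat_lit 0x1020002) (nat_lit 0x1100040020010004002001) (nat_lit 0x10004002009013c002131) (nat_lit 0x10000080020080030080040080050080060080000160010160020160030160040160050160060160000200020200050200011300041380011a60021a60031a60061a60041ce0051ce0061ce00514e002040003040003050004180)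 (nat_lit 0x10000000000000000000000000000000000000000000100000000000000000000000100400100) (.cD (nat_lit 128) (.dfs (nat_lit 2) (nat_lit 1) (nat_lit 1) (nat_lit 4097) (nat_lit 4097) (nat_lit 0) (nat_lit 0) (nat_lit 0) (nat_lit 0) (nat_lit 0) (nat_lit 0) (nat_lit 1) (nat_lit 0) (nat_lit 0x1100040020010008004002001) (nat_lit 0x10004002009000813c002131) (nat_lit 0x100000200200200400200001b00101b00201b00401b0000220020220030220040220060220000230010230020230030230040230060230001d20021d200008a00214b00209b0001a30011120021120071120000da0010da0040da0050da0070da0011720021130071130021f30031f300003b00103b00303b00403b0020430020820041ea) (nat_lit 0xc08000004) (.cD (nat_lit 2) (.kF (nat_lit 25) (nat_lit 0x2001001001)) (.cD (nat_lit 27) (.czp (nat_lit 27) (nat_lit 0x1002001) (nat_lit 0x1080040020008112019) z8 (.dfs (nat_lit 32) (nat_lit 4097) (nat_lit 4097) (nat_lit 4098) (nat_lit 4098) (nat_lit 0) (nat_lit 0) (nat_lit 3) (nat_lit 0) (nat_lit 0) (nat_lit 0) (nat_lit 1) (nat_lit 0) (nat_lit 0x1008112101) (nat_lit 0x81121e1) (nat_lit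 0x1000008001008000019000020001020002020000039001039002039000068) (nat_lit 0x100000000000000000200000102000100) (.cD (nat_lit 8) (.kF (nat_lit 32) (nat_lit 0x50020021211a1000001002001003)) (.cD (nat_lit 25) (.kF (nat_lit 32) (nat_lit 0x5002002008008000001002001003)) (.cD (nat_lit 32) (.kF (nat_lit 32) (nat_lit 0x5002002040040000001002001003)) (.cD (nat_lit 57) (.kF (nat_lit 32) (nat_lit 0x5002002040040000001002001003)) (.cD (nat_lit 128) (.kc (nat_lit 57) (nat_lit 0x5001001)) .nil))))))) (.cD (nat_lit 34) (.kF (nat_lit 25) (nat_lit 0x1004000513c004000002001001003)) (.cD (nat_lit 35) (.czs (nat_lit 35) z7 (nat_lit 32) (.dfs (nat_lit 32) (nat_lit 4097) (nat_lit 4097) (nat_lit 4098) (nat_lit 4098) (nat_lit 0) (nat_lit 0) (nat_lit 3) (nat_lit 0) (nat_lit 0) (nat_lit 0) (nat_lit 1) (nat_lit 0) (nat_lit 4115) (nat_lit 147) (nat_lit 0x1000019000029000100000130) (nat_lit 0x20000000000000000000000000000010200000000010000000000000000000000000000000100000000000000000000020002000000) (.cD (nat_lit 25) (.kF (nat_lit 32) (nat_lit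 0x5002002100100000001002001003)) (.cD (nat_lit 41) (.kF (nat_lit 32) (nat_lit 0x5002002130130000001002001003)) (.cD (nat_lit 128) (.kc (nat_lit 57) (nat_lit 0x5001001)) (.cD (nat_lit 256) (.kF (nat_lit 32) (nat_lit 0x5002002130130000001002001003)) (.cD (nat_lit 297) (.kF (nat_lit 32) (nat_lit 0x50020020300780061cc014000001002001004)) (.cD (nat_lit 304) (.kF (nat_lit 32) (nat_lit 0x5002002100100000001002001003)) (.cD (nat_lit 425) (.kF (nat_lit 32) (nat_lit 0x50020020200780061cc014000001002001004)) .nil))))))))) .nil))))) (.cD (nat_lit 8) (.anc (nat_lit 25) (nat_lit 0x1001001) (nat_lit 0x1080040020110018002001) (.kn (nat_lit 1) (nat_lit 0x1080040020110018002001) false (nat_lit 0x1020010004001) (nat_lit 0x2009013c131) (nat_lit 0x1000008001008002008003008))) (.cD (nat_lit 22) (.anc (nat_lit 25) (nat_lit 0x1001001) (nat_lit 0x1080040020110018002) (.kn (nat_lit 1) (nat_lit 0x1080040020110018002) false (nat_lit 0x1100040020010004002001) (nat_lit 0x10004002009013c002131) (nat_lit 0x10000160010160020160030160040160050160060160011a6)))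 (.cD (nat_lit 32) (.anc (nat_lit 25) (nat_lit 0x1001001) (nat_lit 0x1080040020110018002001) (.kn (nat_lit 1) (nat_lit 0x1080040020110018002001) false (nat_lit 0x1040004001) (nat_lit 0x4013c131) (nat_lit 0x1000020001020002020001040))) (.cD (nat_lit 304) (.anc (nat_lit 128) (nat_lit 0x30004001) (nat_lit 0x1100080040020010008004002001) (.kn (nat_lit 1) (nat_lit 0x1100080040020010008004002001) false (nat_lit 4098) (nat_lit 2) (nat_lit 0x1000130))) .nil))))))))
theorem c49 : (chk [] [g94] p49).n x23 s49 = true := by decide +kernel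
noncomputable def p50 : Pf := (.ext (nat_lit 0) (nat_lit 0) (nat_lit 0x1200080100040) (nat_lit 0x780200080180030a406002001000106a0300100020031f1001000004) (nat_lit 0x200300400d) (nat_lit 4119) (nat_lit 4119) (nat_lit 0xc004002001) (.dfs (nat_lit 23) (nat_lit 0x100200300400d) (nat_lit 0x1002003004009) (nat_lit 0x1008001) (nat_lit 0x100c001) (nat_lit 2) (nat_lit 0) (nat_lit 2) (nat_lit 0) (nat_lit 0) (nat_lit 23) (nat_lit 1) (nat_lit 0) (nat_lit 1) (nat_lit 0) (nat_lit 1) (nat_lit 0) .nil))
theorem c50 : (chk [] [] p50).n x25 s50 = true := by decide +kernel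
noncomputable def p51 : Pf := (.ext (nat_lit 0) (nat_lit 0) (nat_lit 0x1200080100040) (nat_lit 0x780200080180030a406002001000106a0300100020031f1001000004) (nat_lit 0x200300400d) (nat_lit 4119) (nat_lit 4119) (nat_lit 0xc004002001) (.dfs (nat_lit 23) (nat_lit 0x100200300400d) (nat_lit 0x1002003004009) (nat_lit 0x1008001) (nat_lit 0x100c001) (nat_lit 2) (nat_lit 0) (nat_lit 2) (nat_lit 0) (nat_lit 0) (nat_lit 23) (nat_lit 1) (nat_lit 0) (nat_lit 1) (nat_lit 0) (nat_lit 1) (nat_lit 0) .nil))
theorem c51 : (chk [] [] p51).n x26 s51 = true := by decide +kernel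
noncomputable def p52 : Pf := (.anz (nat_lit 256) (.syr (nat_lit 128) false (nat_lit 0) (nat_lit 0) (nat_lit 0) (nat_lit 4608) (nat_lit 0x1200080040020010008004002001) (nat_lit 0x2000800400200101681bc0ca0f1) (nat_lit 0x100008000308000000c00100c00200c00400c00500c0010100020100030100060100000140010140020140050140000540010540020540070540000b800020600120600220600320600520600620600720600024e00124e00324e00424e00524e00624e00724e0041380041200061200021100030c80060c80031ac0051ac0080740001a00031a00061a00012ae0032ae0042ae0052ae0062ae0042760062760032be00135e00235e00335e00535e00635e0022e60062e60023da) (nat_lit 0x4000000000000000004000000000000000000000000000000000000000000000000000000000000000010000000000000000010000000000000100000000001000000000000000111000) (.cD (nat_lit 128) (.anc (nat_lit 518) (nat_lit 0xf100100007e0050ca0020000050051b50030f1001000006) (nat_lit 0x11000b8014) (.czs (nat_lit 128) z10 (nat_lit 256) (.dfs (nat_lit 184) (nat_lit 4097) (nat_lit 4097) (nat_lit 1) (nat_lit 1) (nat_lit 0) (nat_lit 0) (nat_lit 3)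 (nat_lit 0) (nat_lit 0) (nat_lit 0) (nat_lit 1) (nat_lit 0) (nat_lit 0x102001800b) (nat_lit 0x2011806b) (nat_lit 0x10000b80000200010200000380000a00010a00021400021c0) (nat_lit 0x1000000000000000000000000000000010000000000000000010000010000000100000000000000000100000100000000) (.cD (nat_lit 184) (.dfs (nat_lit 256) (nat_lit 4098) (nat_lit 4098) (nat_lit 4097) (nat_lit 4097) (nat_lit 0) (nat_lit 0) (nat_lit 3) (nat_lit 0) (nat_lit 0) (nat_lit 0) (nat_lit 1) (nat_lit 0) (nat_lit 1) (nat_lit 0) (nat_lit 1) (nat_lit 0x100000000000001000000000000000001000000000000010000000000000000010000000000000100000000000000000100000000000000) (.cD (nat_lit 256) (.dfs (nat_lit 20) (nat_lit 4100) (nat_lit 4100) (nat_lit 0x1002001) (nat_lit 0x1002001) (nat_lit 0) (nat_lit 0) (nat_lit 3) (nat_lit 0) (nat_lit 0) (nat_lit 0) (nat_lit 1) (nat_lit 0) (nat_lit 1) (nat_lit 0) (nat_lit 1) (nat_lit 0x100000000000001000000000000000001000000000000010000000000000000010000000000000100000000000000000100000000000000) (.cD (nat_lit 56) (.kc (nat_lit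 938) (nat_lit 0xd001001)) (.cD (nat_lit 128) (.kc (nat_lit 626) (nat_lit 0x9001001)) (.cD (nat_lit 184) (.kc (nat_lit 460) (nat_lit 0x5001001)) (.cD (nat_lit 256) (.kc (nat_lit 276) (nat_lit 0x3001001)) (.cD (nat_lit 312) (.kc (nat_lit 682) (nat_lit 0xf001001)) (.cD (nat_lit 384) (.kc (nat_lit 882) (nat_lit 0xb001001)) (.cD (nat_lit 440) (.kc (nat_lit 204) (nat_lit 0x7001001)) .nil)))))))) (.cD (nat_lit 56) (.kc (nat_lit 702) (nat_lit 0x7001001)) (.cD (nat_lit 128) (.kc (nat_lit 774) (nat_lit 0x5001001)) (.cD (nat_lit 184) (.kc (nat_lit 440) (nat_lit 0x3001001)) (.cD (nat_lit 312) (.anc (nat_lit 256) (nat_lit 0x10f1000001001002) (nat_lit 0x1200100080040020010008004002) (.kn (nat_lit 1) (nat_lit 0x1200100080040020010008004002) false (nat_lit 0x1008001) (nat_lit 0x1680f1) (nat_lit 0x1000080001080))) (.cD (nat_lit 384) (.anc (nat_lit 440) (nat_lit 0x10f1000003001002) (nat_lit 0x110008024006001002800400a003) (.kn (nat_lit 1) (nat_lit 0x110008024006001002800400a003) false (nat_lit 0x1008001) (nat_lit 0x1680f1) (nat_lit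 0x1000080001080))) (.cD (nat_lit 440) (.dfs (nat_lit 20) (nat_lit 4100) (nat_lit 4100) (nat_lit 0x1002001) (nat_lit 0x1002001) (nat_lit 0) (nat_lit 0) (nat_lit 3) (nat_lit 0) (nat_lit 0) (nat_lit 0) (nat_lit 1) (nat_lit 0) (nat_lit 1) (nat_lit 0) (nat_lit 1) (nat_lit 0x100000000000001000000000000000001000000000000010000000000000000010000000000000100000000000000000100000000000000) (.cD (nat_lit 56) (.kc (nat_lit 938) (nat_lit 0xd001001)) (.cD (nat_lit 128) (.kc (nat_lit 626) (nat_lit 0x9001001)) (.cD (nat_lit 184) (.kc (nat_lit 460) (nat_lit 0x5001001)) (.cD (nat_lit 256) (.kc (nat_lit 204) (nat_lit 0x7001001)) (.cD (nat_lit 312) (.kc (nat_lit 882) (nat_lit 0xb001001)) (.cD (nat_lit 384) (.kc (nat_lit 682) (nat_lit 0xf001001)) (.cD (nat_lit 440) (.kc (nat_lit 276) (nat_lit 0x3001001)) .nil)))))))) .nil)))))))) (.cD (nat_lit 32) (.dfs (nat_lit 256) (nat_lit 4098) (nat_lit 4098) (nat_lit 4097) (nat_lit 4097) (nat_lit 0) (nat_lit 0) (nat_lit 3) (nat_lit 0) (nat_lit 0) (nat_lit 0) (nat_lit 1) (nat_lit 0) (nat_lit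 1) (nat_lit 0) (nat_lit 1) (nat_lit 0x100000001000000000000000000000001000000010000000000000000000000010000000100000000000000000000000100000000) (.cD (nat_lit 256) (.dfs (nat_lit 20) (nat_lit 4100) (nat_lit 4100) (nat_lit 0x1002001) (nat_lit 0x1002001) (nat_lit 0) (nat_lit 0) (nat_lit 3) (nat_lit 0) (nat_lit 0) (nat_lit 0) (nat_lit 1) (nat_lit 0) (nat_lit 1) (nat_lit 0) (nat_lit 1) (nat_lit 0x100000001000000000000000000000001000000010000000000000000000000010000000100000000000000000000000100000000) (.cD (nat_lit 32) (.kc (nat_lit 460) (nat_lit 0x5001001)) (.cD (nat_lit 160) (.kc (nat_lit 938) (nat_lit 0xd001001)) (.cD (nat_lit 288) (.kc (nat_lit 204) (nat_lit 0x7001001)) (.cD (nat_lit 416) (.kc (nat_lit 682) (nat_lit 0xf001001)) (.cD (nat_lit 128) (.kc (nat_lit 626) (nat_lit 0x9001001)) (.cD (nat_lit 256) (.kc (nat_lit 276) (nat_lit 0x3001001)) (.cD (nat_lit 384) (.kc (nat_lit 882) (nat_lit 0xb001001)) .nil)))))))) (.cD (nat_lit 32) (.kc (nat_lit 440) (nat_lit 0x3001001)) (.cD (nat_lit 128) (.kc (nat_lit 774)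 (nat_lit 0x5001001)) (.cD (nat_lit 160) (.kc (nat_lit 702) (nat_lit 0x7001001)) (.cD (nat_lit 288) (.dfs (nat_lit 20) (nat_lit 4100) (nat_lit 4100) (nat_lit 0x1002001) (nat_lit 0x1002001) (nat_lit 0) (nat_lit 0) (nat_lit 3) (nat_lit 0) (nat_lit 0) (nat_lit 0) (nat_lit 1) (nat_lit 0) (nat_lit 1) (nat_lit 0) (nat_lit 1) (nat_lit 0x100000001000000000000000000000001000000010000000000000000000000010000000100000000000000000000000100000000) (.cD (nat_lit 32) (.kc (nat_lit 460) (nat_lit 0x5001001)) (.cD (nat_lit 160) (.kc (nat_lit 938) (nat_lit 0xd001001)) (.cD (nat_lit 288) (.kc (nat_lit 276) (nat_lit 0x3001001)) (.cD (nat_lit 416) (.kc (nat_lit 882) (nat_lit 0xb001001)) (.cD (nat_lit 128) (.kc (nat_lit 626) (nat_lit 0x9001001)) (.cD (nat_lit 256) (.kc (nat_lit 204) (nat_lit 0x7001001)) (.cD (nat_lit 384) (.kc (nat_lit 682) (nat_lit 0xf001001)) .nil)))))))) (.cD (nat_lit 384) (.anc (nat_lit 256) (nat_lit 0x8168000001001002) (nat_lit 0x1200100080040020010008004002) (.kn (nat_lit 1) (nat_lit 0x1200100080040020010008004002)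 false (nat_lit 0x1008001) (nat_lit 0x1680f1) (nat_lit 0x1000080001080))) (.cD (nat_lit 416) (.anc (nat_lit 440) (nat_lit 0x8168000003001002) (nat_lit 0x110008024006001002800400a003) (.kn (nat_lit 1) (nat_lit 0x110008024006001002800400a003) false (nat_lit 0x1008001) (nat_lit 0x1680f1) (nat_lit 0x1000080001080))) .nil)))))))) (.cD (nat_lit 56) (.anc (nat_lit 184) (nat_lit 0x80006001001002) (nat_lit 0x110008024006001002800400a003) (.kn (nat_lit 1) (nat_lit 0x110008024006001002800400a003) false (nat_lit 0x1008001) (nat_lit 0x1680f1) (nat_lit 0x1000080001080))) (.cD (nat_lit 128) (.kc (nat_lit 958) (nat_lit 0x3001001)) (.cD (nat_lit 160) (.anc (nat_lit 184) (nat_lit 0x10f100001c008001001003) (nat_lit 0x110008024006001002800400a003) (.kn (nat_lit 1) (nat_lit 0x110008024006001002800400a003) false (nat_lit 0x1008001) (nat_lit 0x1680f1) (nat_lit 0x1000080001080))) (.cD (nat_lit 256) (.dfs (nat_lit 256) (nat_lit 4098) (nat_lit 4098) (nat_lit 4097) (nat_lit 4097) (nat_lit 0) (nat_lit 0) (nat_lit 3) (nat_lit 0) (nat_lit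 0) (nat_lit 0) (nat_lit 1) (nat_lit 0) (nat_lit 0x102021800b) (nat_lit 0x2021806b) (nat_lit 0x10000200010200000380000a00010a00000b80021400021c0) (nat_lit 0x1000000000000000000000000000000010000000000000000010000010000000100000000000000000100000100000000) (.cD (nat_lit 256) (.kc (nat_lit 440) (nat_lit 0x3001001)) (.cD (nat_lit 32) (.dfs (nat_lit 20) (nat_lit 4100) (nat_lit 4100) (nat_lit 0x1002001) (nat_lit 0x1002001) (nat_lit 0) (nat_lit 0) (nat_lit 3) (nat_lit 0) (nat_lit 0) (nat_lit 0) (nat_lit 1) (nat_lit 0) (nat_lit 1) (nat_lit 0) (nat_lit 1) (nat_lit 0x100000001000000000000000000000001000000010000000000000000000000010000000100000000000000000000000100000000) (.cD (nat_lit 32) (.kc (nat_lit 276) (nat_lit 0x3001001)) (.cD (nat_lit 160) (.kc (nat_lit 882) (nat_lit 0xb001001)) (.cD (nat_lit 288) (.kc (nat_lit 204) (nat_lit 0x7001001)) (.cD (nat_lit 416) (.kc (nat_lit 682) (nat_lit 0xf001001)) (.cD (nat_lit 128) (.kc (nat_lit 626) (nat_lit 0x9001001)) (.cD (nat_lit 256) (.kc (nat_lit 460) (nat_lit 0x5001001))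 (.cD (nat_lit 384) (.kc (nat_lit 938) (nat_lit 0xd001001)) .nil)))))))) (.cD (nat_lit 56) (.anc (nat_lit 440) (nat_lit 0x10f1000003001002) (nat_lit 0x110008024006001002800400a003) (.kn (nat_lit 1) (nat_lit 0x110008024006001002800400a003) false (nat_lit 0x1008001) (nat_lit 0x1680f1) (nat_lit 0x1000080001080))) (.cD (nat_lit 128) (.kc (nat_lit 774) (nat_lit 0x5001001)) (.cD (nat_lit 160) (.anc (nat_lit 256) (nat_lit 0x10f100001c008001001003) (nat_lit 0x1200100080040020010008004002) (.kn (nat_lit 1) (nat_lit 0x1200100080040020010008004002) false (nat_lit 0x1008001) (nat_lit 0x1680f1) (nat_lit 0x1000080001080))) (.cD (nat_lit 184) (.dfs (nat_lit 20) (nat_lit 4100) (nat_lit 4100) (nat_lit 0x1002001) (nat_lit 0x1002001) (nat_lit 0) (nat_lit 0) (nat_lit 3) (nat_lit 0) (nat_lit 0) (nat_lit 0) (nat_lit 1) (nat_lit 0) (nat_lit 1) (nat_lit 0) (nat_lit 1) (nat_lit 0x100000000000001000000000000000001000000000000010000000000000000010000000000000100000000000000000100000000000000) (.cD (nat_lit 56) (.kc (nat_lit 882) (nat_lit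 0xb001001)) (.cD (nat_lit 128) (.kc (nat_lit 626) (nat_lit 0x9001001)) (.cD (nat_lit 184) (.kc (nat_lit 276) (nat_lit 0x3001001)) (.cD (nat_lit 256) (.kc (nat_lit 460) (nat_lit 0x5001001)) (.cD (nat_lit 312) (.kc (nat_lit 682) (nat_lit 0xf001001)) (.cD (nat_lit 384) (.kc (nat_lit 938) (nat_lit 0xd001001)) (.cD (nat_lit 440) (.kc (nat_lit 204) (nat_lit 0x7001001)) .nil)))))))) (.cD (nat_lit 384) (.kc (nat_lit 702) (nat_lit 0x7001001)) .nil)))))))) (.cD (nat_lit 384) (.anc (nat_lit 184) (nat_lit 0x8168000001001002) (nat_lit 0x110008024006001002800400a003) (.kn (nat_lit 1) (nat_lit 0x110008024006001002800400a003) false (nat_lit 0x1008001) (nat_lit 0x1680f1) (nat_lit 0x1000080001080))) .nil)))))))))) (.cD (nat_lit 256) (.dfs (nat_lit 512) (nat_lit 1) (nat_lit 1) (nat_lit 4097) (nat_lit 4097) (nat_lit 0) (nat_lit 0) (nat_lit 0) (nat_lit 0) (nat_lit 0) (nat_lit 0) (nat_lit 1) (nat_lit 0) (nat_lit 0x1200080040020010008004002001) (nat_lit 0x2000800400200101681bc0ca0f1) (nat_lit 0x100020000120000220000320000021800121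800221800321800421800521800001300201300301300401300601300005700105700205700405700805700021500121500221500321500421500521500621500821500001700101700201700401700501700002f00102f00202f00402f00502f00003b00103b00503b00803b0012280022280032280072280003100023100033100073100042d800121c00221c00321c00421c00521c00621c00029c00229c00429c00529c00629c00829c0013a00033a00063a000027800227800031800131800202b00302b00402b00602b0000cb0030cb0040cb0060cb0001730011730010fb0020fb0060fb0080fb00819b0081ef0080ef0000d700138500338500538500638500323d00423d0033cd0020970050970031af0051af0080db0081db00813b0022580012480022400032400042400013a400127c00137c0081570081fb) (nat_lit 0x120000100000000000000000000000000000000000000000000000000000000000000000000000000000000000000000000000000000000008000000800800000880000) (.cD (nat_lit 512) (.kF (nat_lit 128) (nat_lit 0x2001001001)) (.cD (nat_lit 536) (.kF (nat_lit 128) (nat_lit 0x200b000515b05b000002001001003)) (.cD (nat_lit 19) (.kb (nat_lit 335) (nat_lit 0x10020d8003002) (nat_lit 0x1100080020018014216003))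 (.cD (nat_lit 87) (.kb (nat_lit 407) (nat_lit 0x1002014006002) (nat_lit 0x110008004003800c20e003)) (.cD (nat_lit 533) (.kb (nat_lit 315) (nat_lit 0x10021f1004002) (nat_lit 0x11000c0060010008004023)) (.cD (nat_lit 23) (.kb (nat_lit 23) (nat_lit 0x1002001) (nat_lit 0x110008004003802c21e201)) (.cD (nat_lit 47) (.kb (nat_lit 47) (nat_lit 0x1002001) (nat_lit 0x110008004003802c206201)) (.cD (nat_lit 59) (.kb (nat_lit 59) (nat_lit 0x1002001) (nat_lit 0x11000c0060010008004023)) .nil))))))))) (.cD (nat_lit 12) (.anc (nat_lit 128) (nat_lit 0x1001001) (nat_lit 0x120010008004002001800400b) (.kn (nat_lit 1) (nat_lit 0x120010008004002001800400b) false (nat_lit 0x1010004002001) (nat_lit 0x101bc0ca0f1) (nat_lit 0x100000c00100c00200c00300c))) (.cD (nat_lit 16) (.anc (nat_lit 128) (nat_lit 0x1001001) (nat_lit 0x120010008004002001800400b) (.kn (nat_lit 1) (nat_lit 0x120010008004002001800400b) false (nat_lit 0x1040008004002) (nat_lit 0x401681bc0ca) (nat_lit 0x1000010001010002010003010))) (.cD (nat_lit 20) (.anc (nat_lit 128) (nat_lit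 0x1001001) (nat_lit 0x120010008004002001800400b) (.kn (nat_lit 1) (nat_lit 0x120010008004002001800400b) false (nat_lit 0x1020004002001) (nat_lit 0x201bc0ca0f1) (nat_lit 0x1000014001014002014003014))) (.cD (nat_lit 84) (.anc (nat_lit 128) (nat_lit 0x1001001) (nat_lit 0x120010008004002001800400b) (.kn (nat_lit 1) (nat_lit 0x120010008004002001800400b) false (nat_lit 0x1080004002001) (nat_lit 0x801bc0ca0f1) (nat_lit 0x1000054001054002054003054))) (.cD (nat_lit 184) (.anc (nat_lit 256) (nat_lit 0x40003001) (nat_lit 0x1200100080040020010008004002001) (.kn (nat_lit 1) (nat_lit 0x1200100080040020010008004002001) false (nat_lit 4097) (nat_lit 241) (nat_lit 0x10000b8))) (.cD (nat_lit 518) (.anc (nat_lit 128) (nat_lit 0x1001001) (nat_lit 0x1200100080040020018004) (.kn (nat_lit 1) (nat_lit 0x1200100080040020018004) false (nat_lit 0x1080040020008004002001) (nat_lit 0x800400201681bc0ca0f1) (nat_lit 0x10002060012060022060032060042060052060062060012ae))) (.cD (nat_lit 590) (.anc (nat_lit 128) (nat_lit 0x1001001) (nat_lit 0x1200100080040020018004)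 (.kn (nat_lit 1) (nat_lit 0x1200100080040020018004) false (nat_lit 0x1080040020010008002001) (nat_lit 0x800400200101680ca0f1) (nat_lit 0x100024e00124e00224e00324e00424e00524e00624e00135e))) .nil)))))))))))
theorem c52 : (chk [] [] p52).n x27 s52 = true := by decide +kernel
noncomputable def p53 : Pf := (.clm (.cut (nat_lit 0)) (.dfs (nat_lit 512) (nat_lit 1) (nat_lit 1) (nat_lit 1) (nat_lit 1) (nat_lit 0) (nat_lit 0) (nat_lit 0) (nat_lit 0) (nat_lit 0) (nat_lit 0) (nat_lit 1) (nat_lit 0) (nat_lit 0x1200080040020010008004002001) (nat_lit 0x2000800400200101681bc0ca0f1) (nat_lit 0x100001300201300301300401300601300001700101700201700401700501700002f00102f00202f00402f00502f00003b00103b00503b00803b00005700105700205700405700805700020000120000220000320000021500121500221500321500421500521500621500821500021800121800221800321800421800521800202b00302b00402b00602b0000cb0030cb0040cb0060cb0001730011730020970050970031af0051af0080db0081db00813b0010fb0020fb0060fb0080fb00819b0081ef0080ef0000d70012280022280032280072280003100023100033100073100042d800138500338500538500638500323d00423d0033cd00121c00221c00321c00421c00521c00621c00029c00229c00429c00529c00629c00829c0013a00033a00063a00002780022780003180013180081570081fb0022580012480022400032400042400013a400127c00137c)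 (nat_lit 0x120000100000000000000000000000000000000000000000000000000000000000000000000000000000000000000000000000000000000008000000800800000880000) (.cD (nat_lit 19) (.kb (nat_lit 335) (nat_lit 0x10020d8003002) (nat_lit 0x1100080020018014216003)) (.cD (nat_lit 23) (.kb (nat_lit 23) (nat_lit 0x1002001) (nat_lit 0x110008004003802c21e201)) (.cD (nat_lit 47) (.kb (nat_lit 47) (nat_lit 0x1002001) (nat_lit 0x110008004003802c206201)) (.cD (nat_lit 59) (.kb (nat_lit 59) (nat_lit 0x1002001) (nat_lit 0x11000c0060010008004023)) (.cD (nat_lit 87) (.kb (nat_lit 407) (nat_lit 0x1002014006002) (nat_lit 0x110008004003800c20e003)) (.cD (nat_lit 512) (.kin (nat_lit 1) (nat_lit 0)) (.cD (nat_lit 533) (.kb (nat_lit 315) (nat_lit 0x10021f1004002) (nat_lit 0x11000c0060010008004023)) (.cD (nat_lit 536) (.kn (nat_lit 1) (nat_lit 0x1200100080040020010) false (nat_lit 0x1040020010008004002001) (nat_lit 0x400200101681bc0ca0f1) (nat_lit 0x100021800121800221800321800421800521800121c00221c00321c00421c00521c00621c00029c00229c00429c00529c))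 .nil))))))))))
theorem c53 : (chk [(x27, s52)] [] p53).n x27 s53 = true := by decide +kernel
noncomputable def p54 : Pf := (.ext (nat_lit 0) (nat_lit 0x1e0200400d20031bc004000002) (nat_lit 0x12980801001b800401302b) (nat_lit 0xa406001002002403704c001001) (nat_lit 0x1800803006b) (nat_lit 0x1009003) (nat_lit 0x121f201) (nat_lit 0x5402801000800403a029053030010008004012001) (.dfs (nat_lit 3) (nat_lit 0x101800803006b) (nat_lit 0x1018008020068) (nat_lit 0x1040020010004002001) (nat_lit 0x1053030010004012001) (nat_lit 16) (nat_lit 0) (nat_lit 2) (nat_lit 0) (nat_lit 0x1e0200400d20051bc004000002) (nat_lit 29) (nat_lit 1) (nat_lit 0) (nat_lit 4408) (nat_lit 312) (nat_lit 0x10002010002b9) (nat_lit 0x2000000000000000000000000000000000000000000000200000000000000000000000000000000000000000000000000000000000000000000000000000000000000000000000000000000000000000000000000000000) (.cD (nat_lit 513) (.kS (nat_lit 0) (nat_lit 0x100200400f00040ca00200001e0200400d20051bc004000004) (nat_lit 0x11e00931973f1) (nat_lit 0x800400200901000800401e01102001000802c02201104002003002b004022001)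 (nat_lit 0x200200000100200400800080040020010010020ca0000100200400f007b0570630a6003004)) (.cD (nat_lit 697) (.dfs (nat_lit 9) (nat_lit 0x10300100600d6) (nat_lit 0x10300100700ce) (nat_lit 0x1080040020008004002001) (nat_lit 0x10a8050020008074052027) (nat_lit 40) (nat_lit 0) (nat_lit 2) (nat_lit 0) (nat_lit 0x1e0200400d20051bc004000002) (nat_lit 95) (nat_lit 1) (nat_lit 0) (nat_lit 1) (nat_lit 0) (nat_lit 1) (nat_lit 0x8000000000000000000000000000008000000000000000000000000000000000800000000000000000000000000000800000000000000000000000000000000000000000000000000000000000000000000000000000000000000000000000000000000000000000000000000000000000000000) (.cD (nat_lit 551) (.kS (nat_lit 0) (nat_lit 0x400200a01f00020ca00200001e0200400d20051bc004000004) (nat_lit 0x11e02a7) (nat_lit 0x800400200901000801400b001) (nat_lit 0x200200000200400801000100010010020ca0000400200a01f006c1f2001004)) (.cD (nat_lit 671) (.cut (nat_lit 0)) (.cD (nat_lit 807) (.kS (nat_lit 0) (nat_lit 0x400200a01f00020ca00200001e0200400d20051bc004000004) (nat_lit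 0x11e02a7) (nat_lit 0x800400200901000801400b001) (nat_lit 0x200200000200400801000100010010020ca0000400200a01f006c1f2001004)) (.cD (nat_lit 927) (.kS (nat_lit 0) (nat_lit 0x600200c01ac00201e0200400d20051bc004000003) (nat_lit 0x1064045) (nat_lit 0x800400200901000801400b001) (nat_lit 0x400600e015c06c1520010200400801000100010010600200c01ac0bc0bb001003)) .nil))))) .nil))))
theorem c54 : (chk [(x27, s53)] [] p54).n x27 s54 = true := by decide +kernel
noncomputable def p55 : Pf := (.ext (nat_lit 0) (nat_lit 0x8010020040002001) (nat_lit 0x13241381b81001771bc) (nat_lit 0xf10010000d204002001e05800c0031bc004000040020010008004002001004) (nat_lit 0x800c010020) (nat_lit 0x100a009) (nat_lit 0x120c21f) (nat_lit 0x3901800800401600902d01800800401a001) (.dfs (nat_lit 9) (nat_lit 0x100800c010020) (nat_lit 0x100800c01802d) (nat_lit 0x1004002001) (nat_lit 0x100401a001) (nat_lit 13) (nat_lit 0) (nat_lit 2) (nat_lit 0) (nat_lit 0x8010020040004001) (nat_lit 91) (nat_lit 1) (nat_lit 0) (nat_lit 4408) (nat_lit 312) (nat_lit 0x100022700029f)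 (nat_lit 0x800000000000000000000000000000800000000000000000000000000000000000000000000000000000000000000000000000000000000000000000000000000000000000000000000000000000000000000000) (.cD (nat_lit 551) (.kS (nat_lit 0) (nat_lit 0x95005000008010020040001008010020040004003) (nat_lit 0x11e031b) (nat_lit 0x800400200501000800c013001) (nat_lit 0x1e0200600a002c0bf005168008000008010020040012001003008010020040012001002005095000005)) (.cD (nat_lit 671) (.dfs (nat_lit 10) (nat_lit 0x1010018020040) (nat_lit 0x1010018030072) (nat_lit 0x1008004002001) (nat_lit 0x100802c012039) (nat_lit 34) (nat_lit 0) (nat_lit 2) (nat_lit 0) (nat_lit 0x8010020040004001) (nat_lit 16) (nat_lit 1) (nat_lit 0) (nat_lit 1) (nat_lit 0) (nat_lit 1) (nat_lit 0x100000000000001000000000000000000000000000000000000000000000000010000000000000100000000000000000000000000000000000000000000000000000000000000000000000000000000000000000000000000000000000000000000000000000000000000000000000000000) (.cD (nat_lit 596) (.kS (nat_lit 0) (nat_lit 0x200200000010020040080001008010020040004003)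 (nat_lit 0x11e021f3ec) (nat_lit 0x800400200501000800c01300102001001800e012039) (nat_lit 0xca0020000100200500bb00406d07e001010010000010020040080024002001002200200000005)) (.cD (nat_lit 652) (.kS (nat_lit 0) (nat_lit 0x20020000010020040080001008010020040004003) (nat_lit 0x10e02ff38c) (nat_lit 0x800400200501000800c01300102001001800e012039) (nat_lit 0xca0020000100200500bb00406d07e001010010000010020040080024002001002020020000005)) (.cD (nat_lit 852) (.cut (nat_lit 0)) (.cD (nat_lit 908) (.kS (nat_lit 0) (nat_lit 0x40040000010020040080001008010020040004003) (nat_lit 0x10e03ff28c) (nat_lit 0x800400200501000800c01300102001001800e012039) (nat_lit 0xca0020000100200500bb00406d07e001010010000010020040080024002001002040040000005)) .nil))))) .nil))))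
theorem c55 : (chk [(x27, s54)] [] p55).n x27 s55 = true := by decide +kernel
noncomputable def p56 : Pf := (.ext (nat_lit 0) (nat_lit 0x8010020040002001) (nat_lit 0x13241381b81001771bc) (nat_lit 0x40020010018014012002020020000040020010008004002001003) (nat_lit 0xc008010020) (nat_lit 0x100a009) (nat_lit 0x1036009) (nat_lit 0x3901800800401600902d01800800401a001) (.dfs (nat_lit 9) (nat_lit 0x100c008010020) (nat_lit 0x100c00801802d) (nat_lit 0x1004002001) (nat_lit 0x100401a001) (nat_lit 13) (nat_lit 0) (nat_lit 2) (nat_lit 0) (nat_lit 0x8010020040004001) (nat_lit 9) (nat_lit 1) (nat_lit 0) (nat_lit 4224) (nat_lit 128) (nat_lit 0x10000090000d1) (nat_lit 0x20000000000000000000000000000000000000000000000000200) (.cD (nat_lit 9) (.dfs (nat_lit 10) (nat_lit 0x1018010020040) (nat_lit 0x1018010030072) (nat_lit 0x1008004002001) (nat_lit 0x100802c012039) (nat_lit 34) (nat_lit 0) (nat_lit 2) (nat_lit 0) (nat_lit 0x8010020040004001) (nat_lit 54) (nat_lit 1) (nat_lit 0) (nat_lit 1) (nat_lit 0) (nat_lit 1) (nat_lit 0x4000000000000000000000000000000000000000000000400000000000000000400000000000000000000000000000000000000000000040000000000000)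 (.cD (nat_lit 54) (.kS (nat_lit 0) (nat_lit 0x10010000010020040080001008010020040004003) (nat_lit 0x100406918e) (nat_lit 0x800400200501000800c01300102001001800e012039) (nat_lit 0x100200700df02401d07e00117e042000010020040080024002001002010010000004)) (.cD (nat_lit 238) (.cut (nat_lit 0)) (.cD (nat_lit 310) (.kS (nat_lit 0) (nat_lit 0x10020040080001008010020040004002) (nat_lit 0x11bc009136) (nat_lit 0x800400200501000800c01300102001001800e012039) (nat_lit 0x30020040080004002075002010020040080024002001002002)) (.cD (nat_lit 494) (.kS (nat_lit 0) (nat_lit 0x10020040080001008010020040004002) (nat_lit 0x11bc0091ee) (nat_lit 0x800400200501000800c01300102001001800e012039) (nat_lit 0x30020040080004002055002010020040080024002001002002)) .nil))))) (.cD (nat_lit 209) (.kS (nat_lit 0) (nat_lit 0x18010020040003008010020040001008010020040004003) (nat_lit 0x1018303) (nat_lit 0x800400200501000800c013001) (nat_lit 0x20020000008010020040012001003008010020040012001002018010020040002019004004)) .nil))))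
theorem c56 : (chk [(x27, s55)] [] p56).n x27 s56 = true := by decide +kernel
noncomputable def p57 : Pf := (.ext (nat_lit 0) (nat_lit 0x1e0200400d20031bc004000002) (nat_lit 0x12980801001b800401302b) (nat_lit 0xa406001002002403704c001001) (nat_lit 0x1800803006b) (nat_lit 0x1009003) (nat_lit 0x121f201) (nat_lit 0x5402801000800403a029053030010008004012001) (.dfs (nat_lit 3) (nat_lit 0x101800803006b) (nat_lit 0x1018008020068) (nat_lit 0x1040020010004002001) (nat_lit 0x1053030010004012001) (nat_lit 16) (nat_lit 0) (nat_lit 2) (nat_lit 0) (nat_lit 0x1e0200400d20051bc004000002) (nat_lit 29) (nat_lit 1) (nat_lit 0) (nat_lit 4408) (nat_lit 312) (nat_lit 0x10002010002b9) (nat_lit 0x2000000000000000000000000000000000000000000000200000000000000000000000000000000000000000000000000000000000000000000000000000000000000000000000000000000000000000000000000000000) (.cD (nat_lit 513) (.dfs (nat_lit 9) (nat_lit 0x10300100600d6) (nat_lit 0x10300100700ce) (nat_lit 0x1080040020008004002001) (nat_lit 0x10a8050020008074052027) (nat_lit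 40) (nat_lit 0) (nat_lit 2) (nat_lit 0) (nat_lit 0x1e0200400d20051bc004000002) (nat_lit 95) (nat_lit 1) (nat_lit 0) (nat_lit 1) (nat_lit 0) (nat_lit 1) (nat_lit 0x8000000000000000000000000000008000000000000000000000000000000000800000000000000000000000000000800000000000000000000000000000000000000000000000000000000000000000000000000000000000000000000000000000000000000000000000000000000000000000) (.cD (nat_lit 551) (.kS (nat_lit 0) (nat_lit 0x600200c01ac00201e0200400d20051bc004000003) (nat_lit 0x1064045) (nat_lit 0x800400200901000801400b001) (nat_lit 0x400600e015c06c1720010200400801000100010010600200c01ac0bc0bb001003)) (.cD (nat_lit 671) (.kS (nat_lit 0) (nat_lit 0x400200a01f00020ca00200001e0200400d20051bc004000004) (nat_lit 0x11e021f) (nat_lit 0x800400200901000801400b001) (nat_lit 0x200200000200400801000100010010020ca0000400200a01f006c192001004)) (.cD (nat_lit 807) (.kS (nat_lit 0) (nat_lit 0x100200600c400716800800001e0200400d20051bc004000004) (nat_lit 0x10640c212234e) (nat_lit 0x800400200901000801400701102001002803e02200104002003001b044005006)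 (nat_lit 0x600200e017c0dc07301f1090021780780000100200600c404c05b063075008003)) (.cD (nat_lit 927) (.kS (nat_lit 0) (nat_lit 0x400200a01f00020ca00200001e0200400d20051bc004000004) (nat_lit 0x11e021f) (nat_lit 0x800400200901000801400b001) (nat_lit 0x200200000200400801000100010010020ca0000400200a01f006c192001004)) .nil))))) (.cD (nat_lit 697) (.kS (nat_lit 0) (nat_lit 0x100200400f00040ca00200001e0200400d20051bc004000004) (nat_lit 0x11e00931972f1) (nat_lit 0x800400200901000800401e01102001000802c02201104002003002b004022001) (nat_lit 0x200200000100200400800080040020010010020ca0000100200400f007b0570630b6003004)) .nil))))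
theorem c57 : (chk [] [] p57).n x27 s57 = true := by decide +kernel
noncomputable def p58 : Pf := (.ext (nat_lit 0) (nat_lit 0x8010020040002001) (nat_lit 0x13241381b81001771bc) (nat_lit 0xf10010000d204002001e05800c0031bc004000040020010008004002001004) (nat_lit 0x800c010020) (nat_lit 0x100a009) (nat_lit 0x120c21f) (nat_lit 0x3901800800401600902d01800800401a001) (.dfs (nat_lit 9) (nat_lit 0x100800c010020) (nat_lit 0x100800c01802d) (nat_lit 0x1004002001) (nat_lit 0x100401a001) (nat_lit 13) (nat_lit 0) (nat_lit 2) (nat_lit 0) (nat_lit 0x8010020040004001) (nat_lit 91) (nat_lit 1) (nat_lit 0) (nat_lit 4408) (nat_lit 312) (nat_lit 0x100022700029f) (nat_lit 0x800000000000000000000000000000800000000000000000000000000000000000000000000000000000000000000000000000000000000000000000000000000000000000000000000000000000000000000000) (.cD (nat_lit 551) (.dfs (nat_lit 10) (nat_lit 0x1010018020040) (nat_lit 0x1010018030072) (nat_lit 0x1008004002001) (nat_lit 0x100802c012039) (nat_lit 34) (nat_lit 0) (nat_lit 2) (nat_lit 0) (nat_lit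 0x8010020040004001) (nat_lit 16) (nat_lit 1) (nat_lit 0) (nat_lit 1) (nat_lit 0) (nat_lit 1) (nat_lit 0x100000000000001000000000000000000000000000000000000000000000000010000000000000100000000000000000000000000000000000000000000000000000000000000000000000000000000000000000000000000000000000000000000000000000000000000000000000000000) (.cD (nat_lit 596) (.kS (nat_lit 0) (nat_lit 0x40040000010020040080001008010020040004003) (nat_lit 0x10e0247254) (nat_lit 0x800400200501000800c01300102001001800e012039) (nat_lit 0xca0020000100200500bb00406d07e001010010000010020040080024002001002040040000005)) (.cD (nat_lit 652) (.cut (nat_lit 0)) (.cD (nat_lit 852) (.kS (nat_lit 0) (nat_lit 0x20020000010020040080001008010020040004003) (nat_lit 0x10e0347354) (nat_lit 0x800400200501000800c01300102001001800e012039) (nat_lit 0xca0020000100200500bb00406d07e001010010000010020040080024002001002020020000005)) (.cD (nat_lit 908) (.kS (nat_lit 0) (nat_lit 0x200200000010020040080001008010020040004003) (nat_lit 0x11e03a7234) (nat_lit 0x800400200501000800c01300102001001800e012039)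 (nat_lit 0xca0020000100200500bb00406d07e001010010000010020040080024002001002200200000005)) .nil))))) (.cD (nat_lit 671) (.kS (nat_lit 0) (nat_lit 0x95005000008010020040001008010020040004003) (nat_lit 0x11e02a3) (nat_lit 0x800400200501000800c013001) (nat_lit 0x1e0200600a002c0a1005168008000008010020040012001003008010020040012001002005095000005)) .nil))))
theorem c58 : (chk [(x27, s57)] [] p58).n x27 s58 = true := by decide +kernel
noncomputable def p59 : Pf := (.ext (nat_lit 0) (nat_lit 0x8010020040002001) (nat_lit 0x13241381b81001771bc) (nat_lit 0x40020010018014012002020020000040020010008004002001003) (nat_lit 0xc008010020) (nat_lit 0x100a009) (nat_lit 0x1036009) (nat_lit 0x3901800800401600902d01800800401a001) (.dfs (nat_lit 9) (nat_lit 0x100c008010020) (nat_lit 0x100c00801802d) (nat_lit 0x1004002001) (nat_lit 0x100401a001) (nat_lit 13) (nat_lit 0) (nat_lit 2) (nat_lit 0) (nat_lit 0x8010020040004001) (nat_lit 9) (nat_lit 1) (nat_lit 0) (nat_lit 4224) (nat_lit 128) (nat_lit 0x10000090000d1) (nat_lit 0x20000000000000000000000000000000000000000000000000200)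 (.cD (nat_lit 9) (.dfs (nat_lit 10) (nat_lit 0x1018010020040) (nat_lit 0x1018010030072) (nat_lit 0x1008004002001) (nat_lit 0x100802c012039) (nat_lit 34) (nat_lit 0) (nat_lit 2) (nat_lit 0) (nat_lit 0x8010020040004001) (nat_lit 54) (nat_lit 1) (nat_lit 0) (nat_lit 1) (nat_lit 0) (nat_lit 1) (nat_lit 0x4000000000000000000000000000000000000000000000400000000000000000400000000000000000000000000000000000000000000040000000000000) (.cD (nat_lit 54) (.kS (nat_lit 0) (nat_lit 0x10010000010020040080001008010020040004003) (nat_lit 0x100406918e) (nat_lit 0x800400200501000800c01300102001001800e012039) (nat_lit 0x100200700df02401d07e00117e042000010020040080024002001002010010000004)) (.cD (nat_lit 238) (.cut (nat_lit 0)) (.cD (nat_lit 310) (.kS (nat_lit 0) (nat_lit 0x10020040080001008010020040004002) (nat_lit 0x11bc009136) (nat_lit 0x800400200501000800c01300102001001800e012039) (nat_lit 0x30020040080004002075002010020040080024002001002002)) (.cD (nat_lit 494) (.kS (nat_lit 0) (nat_lit 0x10020040080001008010020040004002) (nat_lit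 0x11bc0091ee) (nat_lit 0x800400200501000800c01300102001001800e012039) (nat_lit 0x30020040080004002055002010020040080024002001002002)) .nil))))) (.cD (nat_lit 209) (.kS (nat_lit 0) (nat_lit 0x18010020040003008010020040001008010020040004003) (nat_lit 0x1018343) (nat_lit 0x800400200501000800c013001) (nat_lit 0x20020000008010020040012001003008010020040012001002018010020040002019004004)) .nil))))
theorem c59 : (chk [(x27, s58)] [] p59).n x27 s59 = true := by decide +kernel
noncomputable def p60 : Pf := (.ext (nat_lit 0) (nat_lit 0) (nat_lit 0x13241381b81001771bc) (nat_lit 0x41bc0000d204002001e05800c0040010f1000040020010008004027002004) (nat_lit 0x4008010020) (nat_lit 4105) (nat_lit 4611) (nat_lit 0x2d01800800401a001) (.dfs (nat_lit 9) (nat_lit 0x1004008010020) (nat_lit 0x100400801802d) (nat_lit 0x1002001) (nat_lit 0x101a001) (nat_lit 13) (nat_lit 0) (nat_lit 2) (nat_lit 0) (nat_lit 0) (nat_lit 27) (nat_lit 1) (nat_lit 0) (nat_lit 4224) (nat_lit 128) (nat_lit 0x1000203000243) (nat_lit 0x8000000000000000800000000000000000000000000000000000000000000000000000000000000000000000000000000000000000000000000000000000000000000000000000000)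 (.cD (nat_lit 515) (.cut (nat_lit 1)) (.cD (nat_lit 579) (.cut (nat_lit 0)) .nil))))
theorem c60 : (chk [(x27, s56), (x27, s59)] [] p60).n x27 s60 = true := by decide +kernel
noncomputable def p61 : Pf := (.ext (nat_lit 0) (nat_lit 0xf100100001e0200400d20031bc004000003) (nat_lit 0x13241381000b8077) (nat_lit 0xf10010000d204003e0200780031bc0040000100080040020010010041bc0000d204002001e0580040010f1000007) (nat_lit 0x6002008010) (nat_lit 0x1013004) (nat_lit 0x101705c) (nat_lit 0x1a008004002003016008004002007) (.dfs (nat_lit 4) (nat_lit 0x1006002008010) (nat_lit 0x1006002008016) (nat_lit 0x1004001) (nat_lit 0x1004007) (nat_lit 6) (nat_lit 0) (nat_lit 2) (nat_lit 0) (nat_lit 0xf100100001e0200400d20051bc004000003) (nat_lit 92) (nat_lit 1) (nat_lit 0) (nat_lit 1) (nat_lit 0) (nat_lit 1) (nat_lit 0x10100000000000000000000000000000101000000000000000000000000000001010000000000000000000000000000010100000000000000000000000) (.cD (nat_lit 92) (.kS (nat_lit 0) (nat_lit 0xc00801c02100101e0200400d20051bc004000003) (nat_lit 0x105c1cb)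 (nat_lit 0x8004002009010008004016011) (nat_lit 0xca00200000c00401002001901b0020f100100000c00801c021001017002004)) (.cD (nat_lit 100) (.dfs (nat_lit 19) (nat_lit 0x100800401c029) (nat_lit 0x100800401c031) (nat_lit 0x1020010002001) (nat_lit 0x103401000600d) (nat_lit 0) (nat_lit 0) (nat_lit 2) (nat_lit 0) (nat_lit 0x1e0200600a0005168008000002) (nat_lit 23) (nat_lit 1) (nat_lit 0) (nat_lit 1) (nat_lit 0) (nat_lit 1) (nat_lit 0x80000000000000800000000000000000800000000000008000000000000000008000000000000080000000000000000080000000000000800000) (.cD (nat_lit 23) (.kS (nat_lit 0) (nat_lit 0x801802805d00101801003804200101e0200400d20051bc004000004) (nat_lit 4568) (nat_lit 0x8004002009) (nat_lit 0x1bc00400001000803005f01f00201801003804200200200801802805d01d002004)) (.cD (nat_lit 79) (.kS (nat_lit 0) (nat_lit 0x801802805d00101801003804200101e0200400d20051bc004000004) (nat_lit 4320) (nat_lit 0x8004002009) (nat_lit 0x1bc00400001000803007f03f00201801003804200200200801802805d01d002004)) (.cD (nat_lit 151) (.kS (nat_lit 0) (nat_lit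 0x1800803006f00204004000001e0200400d20051bc004000004) (nat_lit 0x1004197) (nat_lit 0x800400200901000800401e011) (nat_lit 0xca00200001801003804200200100104004000001800803006f002033001004)) (.cD (nat_lit 207) (.kS (nat_lit 0) (nat_lit 0x1800803004700202002000001e0200400d20051bc004000004) (nat_lit 0x1004017) (nat_lit 0x800400200901000800401e011) (nat_lit 0xf100100001801003804200200100102002000001800803004700201b001004)) (.cD (nat_lit 279) (.kS (nat_lit 0) (nat_lit 0x80100200400010f100100001e0200400d20051bc004000004) (nat_lit 0x11d8093) (nat_lit 0x800400200901000800401e011) (nat_lit 0x20020000001000803005701701e0020010f100000801002004001502e002004)) (.cD (nat_lit 335) (.cut (nat_lit 0)) (.cD (nat_lit 407) (.kS (nat_lit 0) (nat_lit 0x1800803006f00202002000001e0200400d20051bc004000004) (nat_lit 0x1004197) (nat_lit 0x800400200901000800401e011) (nat_lit 0xca00200001801003804200200100102002000001800803006f002033001004)) (.cD (nat_lit 463) (.kS (nat_lit 0) (nat_lit 0x1800803004700204004000001e0200400d20051bc004000004)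 (nat_lit 0x1004017) (nat_lit 0x800400200901000800401e011) (nat_lit 0xf100100001801003804200200100104004000001800803004700201b001004)) .nil))))))))) (.cD (nat_lit 220) (.kS (nat_lit 0) (nat_lit 0xc00801c02d0011bc00400001e0200400d20051bc004000004) (nat_lit 0x10dc093) (nat_lit 0x8004002009010008004016011) (nat_lit 0xf100100000c00401002000100300212d06500000c00801c02d00101b002004)) (.cD (nat_lit 228) (.kS (nat_lit 0) (nat_lit 0xc00801c02d0011bc00400001e0200400d20051bc004000004) (nat_lit 0x10e41cb) (nat_lit 0x8004002009010008004016011) (nat_lit 0xca00200000c00401002001501700212d06500000c00801c02d00101b002004)) (.cD (nat_lit 348) (.kS (nat_lit 0) (nat_lit 0x1bc00400000c00801c02100101e0200400d20051bc004000004) (nat_lit 0x115c013) (nat_lit 0x8004002009010008004016011) (nat_lit 0xf100100000c00401003801101b0020ca00200000c00801c0210010170020041bc000005)) (.cD (nat_lit 356) (.kS (nat_lit 0) (nat_lit 0xf100100000c00801c02100101e0200400d20051bc004000004) (nat_lit 0x1104073) (nat_lit 0x8004002009010008004016011) (nat_lit 0x1001000000c00401002000900b0020f100100000c00801c0210010170020010f1000005))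 (.cD (nat_lit 476) (.kS (nat_lit 0) (nat_lit 0x1bc00400000c00801c02100101e0200400d20051bc004000004) (nat_lit 0x11dc093) (nat_lit 0x8004002009010008004016011) (nat_lit 0xf100100000c0040100200050070020f100100000c00801c0210010170020041bc000005)) (.cD (nat_lit 484) (.dfs (nat_lit 19) (nat_lit 0x100800401c035) (nat_lit 0x100800401c02d) (nat_lit 0x1020010002001) (nat_lit 0x103401000600d) (nat_lit 0) (nat_lit 0) (nat_lit 2) (nat_lit 0) (nat_lit 0x1e0200600a0005168008000002) (nat_lit 23) (nat_lit 1) (nat_lit 0) (nat_lit 1) (nat_lit 0) (nat_lit 1) (nat_lit 0x80000000000000800000000000000000800000000000008000000000000000008000000000000080000000000000000080000000000000800000) (.cD (nat_lit 23) (.kS (nat_lit 0) (nat_lit 0x100080300770021bc00400001e0200400d20051bc004000004) (nat_lit 0x10e01f3) (nat_lit 0x800400200901000800401e011) (nat_lit 0x801802807503501b0010180100380420020010010041bc000010008030077027036001004)) (.cD (nat_lit 79) (.kS (nat_lit 0) (nat_lit 0x100080300570021bc00400001e0200400d20051bc004000004) (nat_lit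 0x11d81f3) (nat_lit 0x800400200901000800401e011) (nat_lit 0x801802807503503b0010180100380420020010010041bc000010008030057007036001004)) (.cD (nat_lit 151) (.kS (nat_lit 0) (nat_lit 0x1800803005f00202002000001e0200400d20051bc004000004) (nat_lit 4228) (nat_lit 0x8004002009) (nat_lit 0xca00200001801003804200200102002000001800803005f03a001004)) (.cD (nat_lit 207) (.kS (nat_lit 0) (nat_lit 0x1800803007700204004000001e0200400d20051bc004000004) (nat_lit 4228) (nat_lit 0x8004002009) (nat_lit 0xf100100001801003804200200104004000001800803007703a001004)) (.cD (nat_lit 279) (.kS (nat_lit 0) (nat_lit 0x1bc00400001801003804200101e0200400d20051bc004000004) (nat_lit 4580) (nat_lit 0x8004002009) (nat_lit 0x801802806d02d00201000803006f02f0020180100380420020020041bc000004)) (.cD (nat_lit 335) (.kS (nat_lit 0) (nat_lit 0x80100200400010f100100001e0200400d20051bc004000004) (nat_lit 4320) (nat_lit 0x8004002009) (nat_lit 0x4004000001000803004f00f0020010f1000008010020040015002004)) (.cD (nat_lit 407) (.kS (nat_lit 0) (nat_lit 0x1800803005f00204004000001e0200400d20051bc004000004)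 (nat_lit 4228) (nat_lit 0x8004002009) (nat_lit 0xca00200001801003804200200104004000001800803005f03a001004)) (.cD (nat_lit 463) (.kS (nat_lit 0) (nat_lit 0x1800803007700202002000001e0200400d20051bc004000004) (nat_lit 4228) (nat_lit 0x8004002009) (nat_lit 0xf100100001801003804200200102002000001800803007703a001004)) .nil))))))))) .nil))))))))))
theorem c61 : (chk [(x27, s60)] [] p61).n x27 s61 = true := by decide +kernel
noncomputable def p62 : Pf := (.ext (nat_lit 0) (nat_lit 0) (nat_lit 0x1200080100040) (nat_lit 0x16800800009006005c0200010900400200300030d204002001e0011bc004000005) (nat_lit 0x3001004008) (nat_lit 4119) (nat_lit 4119) (nat_lit 0xc004002001) (.dfs (nat_lit 23) (nat_lit 0x1003001004008) (nat_lit 0x100300100400c) (nat_lit 4098) (nat_lit 4098) (nat_lit 0) (nat_lit 0) (nat_lit 2) (nat_lit 0) (nat_lit 0) (nat_lit 23) (nat_lit 1) (nat_lit 0) (nat_lit 4608) (nat_lit 512) (nat_lit 0x1000017000057000117000157) (nat_lit 0x80000000000000008000000000000000000000000000000000000000000000008000000000000000800000)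 (.cD (nat_lit 23) (.kS (nat_lit 0) (nat_lit 0x4002008010002020020000002) (nat_lit 4183) (nat_lit 0x8004002003) (nat_lit 0x20020000002004008010001001020020000004002008010003001004)) (.cD (nat_lit 87) (.kS (nat_lit 0) (nat_lit 0x4002008010002020020000002) (nat_lit 4375) (nat_lit 0x8004002003) (nat_lit 0x20020000002004008010001001020020000004002008010005001004)) (.cD (nat_lit 279) (.cut (nat_lit 0)) (.cD (nat_lit 343) (.iso x27 s61 (nat_lit 0) (nat_lit 0x1200100080040020010008004002101) (nat_lit 0x200100080040020010008004002101) [(nat_lit 0x10008004002005001001), (nat_lit 0x80040020010028024002021003001), (nat_lit 0x80040020010008004002001005001)] (.cut (nat_lit 0))) .nil))))))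
theorem c62 : (chk [(x27, s61)] [g96] p62).n x27 s62 = true := by decide +kernel
noncomputable def p63 : Pf := (.ext (nat_lit 0) (nat_lit 0) (nat_lit 0x120008010004000f017018) (nat_lit 0x40020010008004002001001001) (nat_lit 0x8010020058) (nat_lit 4099) (nat_lit 4187) (nat_lit 0x49030010008004012011) (.dfs (nat_lit 3) (nat_lit 0x1008010020058) (nat_lit 0x1008010030051) (nat_lit 0x1040004002001) (nat_lit 0x1049004012011) (nat_lit 16) (nat_lit 0) (nat_lit 2) (nat_lit 0) (nat_lit 0) (nat_lit 27) (nat_lit 1) (nat_lit 0) (nat_lit 4224) (nat_lit 128) (nat_lit 0x100005b) (nat_lit 0x80000000000000000000000) (.cD (nat_lit 91) (.cut (nat_lit 0)) .nil)))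
theorem c63 : (chk [(x27, s62)] [] p63).n x27 s63 = true := by decide +kernel
noncomputable def p64 : Pf := (.ext (nat_lit 0) (nat_lit 0) (nat_lit 0x1200080100040) (nat_lit 0x1680080000760300100360030ca002000003) (nat_lit 0x100200400b) (nat_lit 0x101801700f) (nat_lit 0x1018017037) (nat_lit 0xa00400200100c00400200100e004002003) (.dfs (nat_lit 15) (nat_lit 0x100100200400b) (nat_lit 0x100300200400f) (nat_lit 4104) (nat_lit 4110) (nat_lit 2) (nat_lit 0) (nat_lit 2) (nat_lit 0) (nat_lit 0) (nat_lit 55) (nat_lit 1) (nat_lit 0) (nat_lit 0x1200040) (nat_lit 0x200040) (nat_lit 0x1000037001037001137) (nat_lit 0x80000000000000) (.cD (nat_lit 55) (.dfs (nat_lit 23) (nat_lit 0x1002004008016) (nat_lit 0x100200400801e) (nat_lit 0x1010001) (nat_lit 0x1018001) (nat_lit 0) (nat_lit 0) (nat_lit 2) (nat_lit 0) (nat_lit 0) (nat_lit 23) (nat_lit 1) (nat_lit 0) (nat_lit 1) (nat_lit 0) (nat_lit 1) (nat_lit 0x8000000000000000000000000000000080000000000000000000000000000000800000000000000000000000000000008000000000000000000000) (.cD (nat_lit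 87) (.kA false (nat_lit 0x801701802c0010200300600d4004008010020040006003)) (.cD (nat_lit 215) (.dfs (nat_lit 24) (nat_lit 0x100400801002c) (nat_lit 0x1004008010024) (nat_lit 0x1020002001) (nat_lit 0x1028002009) (nat_lit 8) (nat_lit 0) (nat_lit 2) (nat_lit 0) (nat_lit 0) (nat_lit 24) (nat_lit 1) (nat_lit 0) (nat_lit 1) (nat_lit 0) (nat_lit 1) (nat_lit 0x1000000000000000000000000000000010000000000000000000000000000000100000000000000000000000000000001000000) (.cD (nat_lit 24) (.kS (nat_lit 0) (nat_lit 0x1001000000f0100200690011bc004000003) (nat_lit 0x103702f) (nat_lit 0xc004002007010008004006001) (nat_lit 0x1bc00400000f01003005003d02c0011d40d400000f01002006903d02c002010010000005)) (.cD (nat_lit 152) (.kA false (nat_lit 0xe01003005800100f010030040001010010000003)) (.cD (nat_lit 280) (.kS (nat_lit 0) (nat_lit 0x1bc00400000f0100200690011bc004000003) (nat_lit 0x103712f) (nat_lit 0xc004002007010008004006001) (nat_lit 0xf0100200760340030011bc0040000080100200400040020010041bc00000f01002006903d02c0020041bc000006)) (.cD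 (nat_lit 408) (.kA false (nat_lit 0x1e01003005800100f010030040001010010000003)) .nil))))) (.cD (nat_lit 343) (.kA false (nat_lit 0x801701802c0010200300600d4004008010020040006003)) (.cD (nat_lit 471) (.dfs (nat_lit 24) (nat_lit 0x100400801002c) (nat_lit 0x1004008010024) (nat_lit 0x1020002001) (nat_lit 0x1028002009) (nat_lit 8) (nat_lit 0) (nat_lit 2) (nat_lit 0) (nat_lit 0) (nat_lit 24) (nat_lit 1) (nat_lit 0) (nat_lit 1) (nat_lit 0) (nat_lit 1) (nat_lit 0x1000000000000000000000000000000010000000000000000000000000000000100000000000000000000000000000001000000) (.cD (nat_lit 24) (.kS (nat_lit 0) (nat_lit 0x1001000000f0100200690011bc004000003) (nat_lit 0x103702f) (nat_lit 0xc004002007010008004006001) (nat_lit 0x1bc00400000f01003005003d02c0011d40d400000f01002006903d02c002010010000005)) (.cD (nat_lit 152) (.kA false (nat_lit 0x1e01003005800100f010030040001010010000003)) (.cD (nat_lit 280) (.cut (nat_lit 0)) (.cD (nat_lit 408) (.kA false (nat_lit 0xe01003005800100f010030040001010010000003)) .nil))))) .nil))))) .nil)))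
theorem c64 : (chk [(x27, s63)] [] p64).n x27 s64 = true := by decide +kernel
noncomputable def p65 : Pf := (.anz (nat_lit 256) (.syr (nat_lit 128) false (nat_lit 0) (nat_lit 0) (nat_lit 0) (nat_lit 4608) (nat_lit 0x1200080040020010008004002001) (nat_lit 0x2000800400200101681bc0ca0f1) (nat_lit 0x100008000308000000c00100c00200c00400c00500c00101000201000301000601000001300201300301300401300601300001400101400201400501400001700101700201700401700501700002f00102f00202f00402f00502f00003b00103b00503b00803b0000540010540020540070540000570010570020570040570080570000b800020600120600220600320600520600620600720600021500121500221500321500421500521500621500821500024e00124e00324e00424e00524e00624e00724e0041380041200061200021100030c80060c800202b00302b00402b00602b0000cb0030cb0040cb0060cb0001730011730031ac0051ac0080740020970050970031af0051af0080db0081db00813b0001a00031a00061a00010fb0020fb0060fb0080fb00819b0081ef0080ef0000d70012ae0032ae0042ae0052ae0062ae0042760062760032be00138500338500538500638500323d00423d0033cd00135e00235e00335e00535e00635e0022e60062e60023da0081570081fb)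 (nat_lit 0x4000000000000020004000000000000000000000000000000000000000000000000000000000000000010000000000000000010000000000000100000000009000000800800000991000) (.cD (nat_lit 128) (.anc (nat_lit 518) (nat_lit 0xf100100007e0050ca0020000050051b50030f1001000006) (nat_lit 4116) (.czs (nat_lit 128) z10 (nat_lit 256) (.dfs (nat_lit 20) (nat_lit 4097) (nat_lit 4097) (nat_lit 1) (nat_lit 1) (nat_lit 0) (nat_lit 0) (nat_lit 3) (nat_lit 0) (nat_lit 0) (nat_lit 0) (nat_lit 1) (nat_lit 0) (nat_lit 0x120004002001800400b) (nat_lit 0x2000400201181bc06b) (nat_lit 0x100001700101700201700501700002000202000002f00202f00502f0000a00020a00000130010130020130050130000380000570010570020570050570000b80051cf0050cf0051170031400041f70051f700512f0001af0031c00000730010730050730000cb0050cb00517300102b0050ef0051ef0051570011130051130051ab00104b) (nat_lit 0x1000000000000000000000000000000010000000000000000010000010000000100000000008000000100800100880000) (.cD (nat_lit 23) (.anc (nat_lit 16) (nat_lit 0x20010b60050f10010000010022002000000030011090061bc004000008)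 (nat_lit 4608) (.dfs (nat_lit 512) (nat_lit 4097) (nat_lit 4097) (nat_lit 1) (nat_lit 1) (nat_lit 0) (nat_lit 0) (nat_lit 3) (nat_lit 0) (nat_lit 0) (nat_lit 0) (nat_lit 1) (nat_lit 0) (nat_lit 0x120004001800400b) (nat_lit 0x2000401181bc06b) (nat_lit 0x100020000120000220000021800121800221800021c00121c00221c00321c00421c0002400012400022400013580023580002d80022d80013200033200003a00033a00002fc0012fc0022fc0032fc0042fc0003a40033a400437c0002c40012780032780003f80033f800031c) (nat_lit 0x1000000001100000100000000000000000000000000000000000000000000000000000000000000000000000000000000000000000000000000000000000000000000000000000000) (.cD (nat_lit 512) (.kF (nat_lit 16) (nat_lit 0x2001001001)) (.cD (nat_lit 536) (.kF (nat_lit 16) (nat_lit 0x600b000915b05b000002001001003)) (.cD (nat_lit 540) (.kF (nat_lit 16) (nat_lit 0x3c0b00091a6022000002001001003)) (.cD (nat_lit 576) (.kF (nat_lit 16) (nat_lit 0x400b0009020020000002001001003)) .nil)))))) (.cD (nat_lit 32) (.anc (nat_lit 440) (nat_lit 0x20010020ca00019500600100201e008005)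 (nat_lit 0x110008024006001002800400a003) (.kn (nat_lit 1) (nat_lit 0x110008024006001002800400a003) false (nat_lit 0x1008001) (nat_lit 0x1680f1) (nat_lit 0x1000080001080))) (.cD (nat_lit 47) (.anc (nat_lit 16) (nat_lit 0x20010b60050f100100000100216d0090000030011090061bc004000008) (nat_lit 4608) (.dfs (nat_lit 512) (nat_lit 4097) (nat_lit 4097) (nat_lit 1) (nat_lit 1) (nat_lit 0) (nat_lit 0) (nat_lit 3) (nat_lit 0) (nat_lit 0) (nat_lit 0) (nat_lit 1) (nat_lit 0) (nat_lit 0x120004001800400b) (nat_lit 0x2000401181bc06b) (nat_lit 0x100020000120000220000021800121800221800021c00121c00221c00321c00421c0002400012400022400013580023580002d80022d80013200033200003a00033a00002fc0012fc0022fc0032fc0042fc0003a40033a400437c0002c40012780032780003f80033f800031c) (nat_lit 0x1000000001100000100000000000000000000000000000000000000000000000000000000000000000000000000000000000000000000000000000000000000000000000000000000) (.cD (nat_lit 512) (.kF (nat_lit 16) (nat_lit 0x2001001001)) (.cD (nat_lit 536) (.kF (nat_lit 16) (nat_lit 0x600b000915b05b000002001001003))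 (.cD (nat_lit 540) (.kF (nat_lit 16) (nat_lit 0x3c0b00091a6022000002001001003)) (.cD (nat_lit 576) (.kF (nat_lit 16) (nat_lit 0x400b0009020020000002001001003)) .nil)))))) (.cD (nat_lit 160) (.anc (nat_lit 16) (nat_lit 0x2000501e0070030011090061bc004000005) (nat_lit 4608) (.dfs (nat_lit 512) (nat_lit 1) (nat_lit 1) (nat_lit 4097) (nat_lit 4097) (nat_lit 0) (nat_lit 0) (nat_lit 0) (nat_lit 0) (nat_lit 0) (nat_lit 0) (nat_lit 1) (nat_lit 0) (nat_lit 0x1200080040020010008004002001) (nat_lit 0x2000800400200101681bc0ca0f1) (nat_lit 0x10002000012000022000032000002180012180022180032180042180052180012280022280032280072280003100023100033100073100042d800121c00221c00321c00421c00521c00621c00029c00229c00429c00529c00629c00829c0013a00033a00063a00002780022780003180013180022580012480022400032400042400013a400127c00137c) (nat_lit 0x100000100000000000000000000000000000000000000000000000000000000000000000000000000000000000000000000000000000000000000000000000000000000) (.cD (nat_lit 512) (.kF (nat_lit 16) (nat_lit 0x2001001001)) (.cD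 (nat_lit 536) (.kF (nat_lit 16) (nat_lit 0x200b000915b05b000002001001003)) .nil)))) (.cD (nat_lit 19) (.anc (nat_lit 16) (nat_lit 0x20010b60050f10010000010021250210000030011090061bc004000008) (nat_lit 4608) (.dfs (nat_lit 512) (nat_lit 4097) (nat_lit 4097) (nat_lit 1) (nat_lit 1) (nat_lit 0) (nat_lit 0) (nat_lit 3) (nat_lit 0) (nat_lit 0) (nat_lit 0) (nat_lit 1) (nat_lit 0) (nat_lit 0x120004001800400b) (nat_lit 0x2000401181bc06b) (nat_lit 0x100020000120000220000021800121800221800021c00121c00221c00321c00421c0002400012400022400013580023580002d80022d80013200033200003a00033a00002fc0012fc0022fc0032fc0042fc0003a40033a400437c0002c40012780032780003f80033f800031c) (nat_lit 0x1000000001100000100000000000000000000000000000000000000000000000000000000000000000000000000000000000000000000000000000000000000000000000000000000) (.cD (nat_lit 512) (.kF (nat_lit 16) (nat_lit 0x2001001001)) (.cD (nat_lit 536) (.kF (nat_lit 16) (nat_lit 0x600b000915b05b000002001001003)) (.cD (nat_lit 540) (.kF (nat_lit 16) (nat_lit 0x3c0b00091a6022000002001001003))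 (.cD (nat_lit 576) (.kF (nat_lit 16) (nat_lit 0x400b0009020020000002001001003)) .nil)))))) (.cD (nat_lit 56) (.anc (nat_lit 16) (nat_lit 0x400060030011090061bc004000004) (nat_lit 4608) (.dfs (nat_lit 512) (nat_lit 1) (nat_lit 1) (nat_lit 4097) (nat_lit 4097) (nat_lit 0) (nat_lit 0) (nat_lit 0) (nat_lit 0) (nat_lit 0) (nat_lit 0) (nat_lit 1) (nat_lit 0) (nat_lit 0x1200080040020010008004002001) (nat_lit 0x2000800400200101681bc0ca0f1) (nat_lit 0x10002000012000022000032000002180012180022180032180042180052180012280022280032280072280003100023100033100073100042d800121c00221c00321c00421c00521c00621c00029c00229c00429c00529c00629c00829c0013a00033a00063a00002780022780003180013180022580012480022400032400042400013a400127c00137c) (nat_lit 0x100000100000000000000000000000000000000000000000000000000000000000000000000000000000000000000000000000000000000000000000000000000000000) (.cD (nat_lit 512) (.kF (nat_lit 16) (nat_lit 0x2001001001)) (.cD (nat_lit 536) (.kF (nat_lit 16) (nat_lit 0x200b000915b05b000002001001003)) .nil))))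 (.cD (nat_lit 87) (.anc (nat_lit 16) (nat_lit 0x20010b60050f10010000010022002000000030011090061bc004000008) (nat_lit 4608) (.dfs (nat_lit 512) (nat_lit 4097) (nat_lit 4097) (nat_lit 1) (nat_lit 1) (nat_lit 0) (nat_lit 0) (nat_lit 3) (nat_lit 0) (nat_lit 0) (nat_lit 0) (nat_lit 1) (nat_lit 0) (nat_lit 0x120004001800400b) (nat_lit 0x2000401181bc06b) (nat_lit 0x100020000120000220000021800121800221800021c00121c00221c00321c00421c0002400012400022400013580023580002d80022d80013200033200003a00033a00002fc0012fc0022fc0032fc0042fc0003a40033a400437c0002c40012780032780003f80033f800031c) (nat_lit 0x1000000001100000100000000000000000000000000000000000000000000000000000000000000000000000000000000000000000000000000000000000000000000000000000000) (.cD (nat_lit 512) (.kF (nat_lit 16) (nat_lit 0x2001001001)) (.cD (nat_lit 536) (.kF (nat_lit 16) (nat_lit 0x600b000915b05b000002001001003)) (.cD (nat_lit 540) (.kF (nat_lit 16) (nat_lit 0x3c0b00091a6022000002001001003)) (.cD (nat_lit 576) (.kF (nat_lit 16) (nat_lit 0x400b0009020020000002001001003))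 .nil)))))) (.cD (nat_lit 128) (.kc (nat_lit 626) (nat_lit 0x3001001)) (.cD (nat_lit 184) (.anc (nat_lit 184) (nat_lit 0x20010020ca000195006001002004) (nat_lit 0x110008024006001002800400a003) (.kn (nat_lit 1) (nat_lit 0x110008024006001002800400a003) false (nat_lit 0x1008001) (nat_lit 0x1680f1) (nat_lit 0x1000080001080))) (.cD (nat_lit 256) (.anc (nat_lit 256) (nat_lit 0x20010020ca000195006001002004) (nat_lit 0x1200100080040020010008004002) (.kn (nat_lit 1) (nat_lit 0x1200100080040020010008004002) false (nat_lit 0x1008001) (nat_lit 0x1680f1) (nat_lit 0x1000080001080))) (.cD (nat_lit 384) (.anc (nat_lit 16) (nat_lit 0x30011090061bc004000003) (nat_lit 4608) (.dfs (nat_lit 512) (nat_lit 1) (nat_lit 1) (nat_lit 4097) (nat_lit 4097) (nat_lit 0) (nat_lit 0) (nat_lit 0) (nat_lit 0) (nat_lit 0) (nat_lit 0) (nat_lit 1) (nat_lit 0) (nat_lit 0x1200080040020010008004002001) (nat_lit 0x2000800400200101681bc0ca0f1) (nat_lit 0x10002000012000022000032000002180012180022180032180042180052180012280022280032280072280003100023100033100073100042d800121c00221c00321c00421c00521c00621c00029c00229c00429c00529c00629c00829c0013a00033a00063a00002780022780003180013180022580012480022400032400042400013a400127c00137c)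 (nat_lit 0x100000100000000000000000000000000000000000000000000000000000000000000000000000000000000000000000000000000000000000000000000000000000000) (.cD (nat_lit 512) (.kF (nat_lit 16) (nat_lit 0x2001001001)) (.cD (nat_lit 536) (.kF (nat_lit 16) (nat_lit 0x200b000915b05b000002001001003)) .nil)))) .nil)))))))))))))) (.cD (nat_lit 256) (.dfs (nat_lit 512) (nat_lit 1) (nat_lit 1) (nat_lit 4097) (nat_lit 4097) (nat_lit 0) (nat_lit 0) (nat_lit 0) (nat_lit 0) (nat_lit 0) (nat_lit 0) (nat_lit 1) (nat_lit 0) (nat_lit 0x1200080040020010008004002001) (nat_lit 0x2000800400200101681bc0ca0f1) (nat_lit 0x10002000012000022000032000002180012180022180032180042180052180012280022280032280072280003100023100033100073100042d800121c00221c00321c00421c00521c00621c00029c00229c00429c00529c00629c00829c0013a00033a00063a00002780022780003180013180022580012480022400032400042400013a400127c00137c) (nat_lit 0x100000100000000000000000000000000000000000000000000000000000000000000000000000000000000000000000000000000000000000000000000000000000000)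 (.cD (nat_lit 512) (.kF (nat_lit 128) (nat_lit 0x2001001001)) (.cD (nat_lit 536) (.kF (nat_lit 128) (nat_lit 0x200b000515b05b000002001001003)) .nil))) (.cD (nat_lit 12) (.anc (nat_lit 128) (nat_lit 0x1001001) (nat_lit 0x120010008004002001800400b) (.kn (nat_lit 1) (nat_lit 0x120010008004002001800400b) false (nat_lit 0x1010004002001) (nat_lit 0x101bc0ca0f1) (nat_lit 0x100000c00100c00200c00300c))) (.cD (nat_lit 16) (.anc (nat_lit 128) (nat_lit 0x1001001) (nat_lit 0x120010008004002001800400b) (.kn (nat_lit 1) (nat_lit 0x120010008004002001800400b) false (nat_lit 0x1040008004002) (nat_lit 0x401681bc0ca) (nat_lit 0x1000010001010002010003010))) (.cD (nat_lit 19) (.anc (nat_lit 128) (nat_lit 0x1001001) (nat_lit 0x1200100080040020018004) (.kn (nat_lit 1) (nat_lit 0x1200100080040020018004) false (nat_lit 0x1040010008004001) (nat_lit 0x400101681bc0f1) (nat_lit 0x100001300101300201300301300401300102b00202b00302b))) (.cD (nat_lit 20) (.anc (nat_lit 128) (nat_lit 0x1001001) (nat_lit 0x120010008004002001800400b) (.kn (nat_lit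 1) (nat_lit 0x120010008004002001800400b) false (nat_lit 0x1020004002001) (nat_lit 0x201bc0ca0f1) (nat_lit 0x1000014001014002014003014))) (.cD (nat_lit 23) (.anc (nat_lit 128) (nat_lit 0x1001001) (nat_lit 0x120010008004002001800400b) (.kn (nat_lit 1) (nat_lit 0x120010008004002001800400b) false (nat_lit 0x1010004002001) (nat_lit 0x101bc0ca0f1) (nat_lit 0x1000017001017002017003017))) (.cD (nat_lit 47) (.anc (nat_lit 128) (nat_lit 0x1001001) (nat_lit 0x120010008004002001800400b) (.kn (nat_lit 1) (nat_lit 0x120010008004002001800400b) false (nat_lit 0x1010004002001) (nat_lit 0x101bc0ca0f1) (nat_lit 0x100002f00102f00202f00302f))) (.cD (nat_lit 59) (.anc (nat_lit 128) (nat_lit 0x1001001) (nat_lit 0x120010008004002001800400b) (.kn (nat_lit 1) (nat_lit 0x120010008004002001800400b) false (nat_lit 0x1200020002001) (nat_lit 0x2000200ca0f1) (nat_lit 0x100003b00103b00203b00303b))) (.cD (nat_lit 84) (.anc (nat_lit 128) (nat_lit 0x1001001) (nat_lit 0x120010008004002001800400b) (.kn (nat_lit 1) (nat_lit 0x120010008004002001800400b)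 false (nat_lit 0x1080004002001) (nat_lit 0x801bc0ca0f1) (nat_lit 0x1000054001054002054003054))) (.cD (nat_lit 87) (.anc (nat_lit 128) (nat_lit 0x1001001) (nat_lit 0x1200100080040020018004) (.kn (nat_lit 1) (nat_lit 0x1200100080040020018004) false (nat_lit 0x1200040010004002001) (nat_lit 0x2000400101bc0ca0f1) (nat_lit 0x10000570010570020570030570050570010fb0020fb0040fb))) (.cD (nat_lit 184) (.anc (nat_lit 256) (nat_lit 0x40003001) (nat_lit 0x1200100080040020010008004002001) (.kn (nat_lit 1) (nat_lit 0x1200100080040020010008004002001) false (nat_lit 4097) (nat_lit 241) (nat_lit 0x10000b8))) (.cD (nat_lit 518) (.anc (nat_lit 128) (nat_lit 0x1001001) (nat_lit 0x1200100080040020018004) (.kn (nat_lit 1) (nat_lit 0x1200100080040020018004) false (nat_lit 0x1080040020008004002001) (nat_lit 0x800400201681bc0ca0f1) (nat_lit 0x10002060012060022060032060042060052060062060012ae))) (.cD (nat_lit 533) (.anc (nat_lit 128) (nat_lit 0x1001001) (nat_lit 0x1200100080040020018004) (.kn (nat_lit 1) (nat_lit 0x1200100080040020018004)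 false (nat_lit 0x1200040020010008004002001) (nat_lit 0x2000400200101681bc0ca0f1) (nat_lit 0x1000215001215002215003215004215005215006215007215))) (.cD (nat_lit 590) (.anc (nat_lit 128) (nat_lit 0x1001001) (nat_lit 0x1200100080040020018004) (.kn (nat_lit 1) (nat_lit 0x1200100080040020018004) false (nat_lit 0x1080040020010008002001) (nat_lit 0x800400200101680ca0f1) (nat_lit 0x100024e00124e00224e00324e00424e00524e00624e00135e))) .nil)))))))))))))))))
theorem c65 : (chk [] [] p65).n x28 s65 = true := by decide +kernel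
noncomputable def p66 : Pf := (.clm (.cut (nat_lit 0)) (.dfs (nat_lit 512) (nat_lit 1) (nat_lit 1) (nat_lit 1) (nat_lit 1) (nat_lit 0) (nat_lit 0) (nat_lit 0) (nat_lit 0) (nat_lit 0) (nat_lit 0) (nat_lit 1) (nat_lit 0) (nat_lit 0x1200080040020010008004002001) (nat_lit 0x2000800400200101681bc0ca0f1) (nat_lit 0x10002000012000022000032000002180012180022180032180042180052180012280022280032280072280003100023100033100073100042d800121c00221c00321c00421c00521c00621c00029c00229c00429c00529c00629c00829c0013a00033a00063a00002780022780003180013180022580012480022400032400042400013a400127c00137c) (nat_lit 0x100000100000000000000000000000000000000000000000000000000000000000000000000000000000000000000000000000000000000000000000000000000000000) (.cD (nat_lit 512) (.kin (nat_lit 1) (nat_lit 0)) (.cD (nat_lit 536) (.kn (nat_lit 1) (nat_lit 0x1200100080040020010) false (nat_lit 0x1040020010008004002001) (nat_lit 0x400200101681bc0ca0f1) (nat_lit 0x100021800121800221800321800421800521800121c00221c00321c00421c00521c00621c00029c00229c00429c00529c))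 .nil))))
theorem c66 : (chk [(x28, s65)] [] p66).n x28 s66 = true := by decide +kernel
noncomputable def p67 : Pf := (.ext (nat_lit 0) (nat_lit 0x1e0200400d20031bc004000002) (nat_lit 0x12980801001b800401302b) (nat_lit 0xa406001002002403704c001001) (nat_lit 0x1800803006b) (nat_lit 0x1009003) (nat_lit 0x121f201) (nat_lit 0x5402801000800403a029053030010008004012001) (.dfs (nat_lit 3) (nat_lit 0x101800803006b) (nat_lit 0x1018008020068) (nat_lit 0x1040020010004002001) (nat_lit 0x1053030010004012001) (nat_lit 16) (nat_lit 0) (nat_lit 2) (nat_lit 0) (nat_lit 0x1e0200400d20051bc004000002) (nat_lit 29) (nat_lit 1) (nat_lit 0) (nat_lit 4408) (nat_lit 312) (nat_lit 0x10002010002b9) (nat_lit 0x2000000000000000000000000000000000000000000000200000000000000000000000000000000000000000000000000000000000000000000000000000000000000000000000000000000000000000000000000000000) (.cD (nat_lit 513) (.kS (nat_lit 0) (nat_lit 0x100200400f00040ca00200001e0200400d20051bc004000004) (nat_lit 0x11e00931973f1) (nat_lit 0x800400200901000800401e01102001000802c02201104002003002b004022001)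 (nat_lit 0x200200000100200400800080040020010010020ca0000100200400f007b0570630a6003004)) (.cD (nat_lit 697) (.dfs (nat_lit 9) (nat_lit 0x10300100600d6) (nat_lit 0x10300100700ce) (nat_lit 0x1080040020008004002001) (nat_lit 0x10a8050020008074052027) (nat_lit 40) (nat_lit 0) (nat_lit 2) (nat_lit 0) (nat_lit 0x1e0200400d20051bc004000002) (nat_lit 95) (nat_lit 1) (nat_lit 0) (nat_lit 1) (nat_lit 0) (nat_lit 1) (nat_lit 0x8000000000000000000000000000008000000000000000000000000000000000800000000000000000000000000000800000000000000000000000000000000000000000000000000000000000000000000000000000000000000000000000000000000000000000000000000000000000000000) (.cD (nat_lit 551) (.kS (nat_lit 0) (nat_lit 0x400200a01f00020ca00200001e0200400d20051bc004000004) (nat_lit 0x11e02a7) (nat_lit 0x800400200901000801400b001) (nat_lit 0x200200000200400801000100010010020ca0000400200a01f006c1f2001004)) (.cD (nat_lit 671) (.cut (nat_lit 0)) (.cD (nat_lit 807) (.kS (nat_lit 0) (nat_lit 0x400200a01f00020ca00200001e0200400d20051bc004000004) (nat_lit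 0x11e02a7) (nat_lit 0x800400200901000801400b001) (nat_lit 0x200200000200400801000100010010020ca0000400200a01f006c1f2001004)) (.cD (nat_lit 927) (.kS (nat_lit 0) (nat_lit 0x600200c01ac00201e0200400d20051bc004000003) (nat_lit 0x1064045) (nat_lit 0x800400200901000801400b001) (nat_lit 0x400600e015c06c1520010200400801000100010010600200c01ac0bc0bb001003)) .nil))))) .nil))))
theorem c67 : (chk [(x28, s66)] [] p67).n x28 s67 = true := by decide +kernel
noncomputable def p68 : Pf := (.ext (nat_lit 0) (nat_lit 0x8010020040002001) (nat_lit 0x13241381b81001771bc) (nat_lit 0xf10010000d204002001e05800c0031bc004000040020010008004002001004) (nat_lit 0x800c010020) (nat_lit 0x100a009) (nat_lit 0x120c21f) (nat_lit 0x3901800800401600902d01800800401a001) (.dfs (nat_lit 9) (nat_lit 0x100800c010020) (nat_lit 0x100800c01802d) (nat_lit 0x1004002001) (nat_lit 0x100401a001) (nat_lit 13) (nat_lit 0) (nat_lit 2) (nat_lit 0) (nat_lit 0x8010020040004001) (nat_lit 91) (nat_lit 1) (nat_lit 0) (nat_lit 4408) (nat_lit 312) (nat_lit 0x100022700029f)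 (nat_lit 0x800000000000000000000000000000800000000000000000000000000000000000000000000000000000000000000000000000000000000000000000000000000000000000000000000000000000000000000000) (.cD (nat_lit 551) (.kS (nat_lit 0) (nat_lit 0x95005000008010020040001008010020040004003) (nat_lit 0x11e031b) (nat_lit 0x800400200501000800c013001) (nat_lit 0x1e0200600a002c0bf005168008000008010020040012001003008010020040012001002005095000005)) (.cD (nat_lit 671) (.dfs (nat_lit 10) (nat_lit 0x1010018020040) (nat_lit 0x1010018030072) (nat_lit 0x1008004002001) (nat_lit 0x100802c012039) (nat_lit 34) (nat_lit 0) (nat_lit 2) (nat_lit 0) (nat_lit 0x8010020040004001) (nat_lit 16) (nat_lit 1) (nat_lit 0) (nat_lit 1) (nat_lit 0) (nat_lit 1) (nat_lit 0x100000000000001000000000000000000000000000000000000000000000000010000000000000100000000000000000000000000000000000000000000000000000000000000000000000000000000000000000000000000000000000000000000000000000000000000000000000000000) (.cD (nat_lit 596) (.kS (nat_lit 0) (nat_lit 0x200200000010020040080001008010020040004003)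 (nat_lit 0x11e021f3ec) (nat_lit 0x800400200501000800c01300102001001800e012039) (nat_lit 0xca0020000100200500bb00406d07e001010010000010020040080024002001002200200000005)) (.cD (nat_lit 652) (.kS (nat_lit 0) (nat_lit 0x20020000010020040080001008010020040004003) (nat_lit 0x10e02ff38c) (nat_lit 0x800400200501000800c01300102001001800e012039) (nat_lit 0xca0020000100200500bb00406d07e001010010000010020040080024002001002020020000005)) (.cD (nat_lit 852) (.cut (nat_lit 0)) (.cD (nat_lit 908) (.kS (nat_lit 0) (nat_lit 0x40040000010020040080001008010020040004003) (nat_lit 0x10e03ff28c) (nat_lit 0x800400200501000800c01300102001001800e012039) (nat_lit 0xca0020000100200500bb00406d07e001010010000010020040080024002001002040040000005)) .nil))))) .nil))))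
theorem c68 : (chk [(x28, s67)] [] p68).n x28 s68 = true := by decide +kernel
noncomputable def p69 : Pf := (.ext (nat_lit 0) (nat_lit 0x8010020040002001) (nat_lit 0x13241381b81001771bc) (nat_lit 0x40020010018014012002020020000040020010008004002001003) (nat_lit 0xc008010020) (nat_lit 0x100a009) (nat_lit 0x1036009) (nat_lit 0x3901800800401600902d01800800401a001) (.dfs (nat_lit 9) (nat_lit 0x100c008010020) (nat_lit 0x100c00801802d) (nat_lit 0x1004002001) (nat_lit 0x100401a001) (nat_lit 13) (nat_lit 0) (nat_lit 2) (nat_lit 0) (nat_lit 0x8010020040004001) (nat_lit 9) (nat_lit 1) (nat_lit 0) (nat_lit 4224) (nat_lit 128) (nat_lit 0x10000090000d1) (nat_lit 0x20000000000000000000000000000000000000000000000000200) (.cD (nat_lit 9) (.dfs (nat_lit 10) (nat_lit 0x1018010020040) (nat_lit 0x1018010030072) (nat_lit 0x1008004002001) (nat_lit 0x100802c012039) (nat_lit 34) (nat_lit 0) (nat_lit 2) (nat_lit 0) (nat_lit 0x8010020040004001) (nat_lit 54) (nat_lit 1) (nat_lit 0) (nat_lit 1) (nat_lit 0) (nat_lit 1) (nat_lit 0x4000000000000000000000000000000000000000000000400000000000000000400000000000000000000000000000000000000000000040000000000000)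 (.cD (nat_lit 54) (.kS (nat_lit 0) (nat_lit 0x10010000010020040080001008010020040004003) (nat_lit 0x100406918e) (nat_lit 0x800400200501000800c01300102001001800e012039) (nat_lit 0x100200700df02401d07e00117e042000010020040080024002001002010010000004)) (.cD (nat_lit 238) (.cut (nat_lit 0)) (.cD (nat_lit 310) (.kS (nat_lit 0) (nat_lit 0x10020040080001008010020040004002) (nat_lit 0x11bc009136) (nat_lit 0x800400200501000800c01300102001001800e012039) (nat_lit 0x30020040080004002075002010020040080024002001002002)) (.cD (nat_lit 494) (.kS (nat_lit 0) (nat_lit 0x10020040080001008010020040004002) (nat_lit 0x11bc0091ee) (nat_lit 0x800400200501000800c01300102001001800e012039) (nat_lit 0x30020040080004002055002010020040080024002001002002)) .nil))))) (.cD (nat_lit 209) (.kS (nat_lit 0) (nat_lit 0x18010020040003008010020040001008010020040004003) (nat_lit 0x1018303) (nat_lit 0x800400200501000800c013001) (nat_lit 0x20020000008010020040012001003008010020040012001002018010020040002019004004)) .nil))))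
theorem c69 : (chk [(x28, s68)] [] p69).n x28 s69 = true := by decide +kernel
noncomputable def p70 : Pf := (.ext (nat_lit 0) (nat_lit 0x1e0200400d20031bc004000002) (nat_lit 0x12980801001b800401302b) (nat_lit 0xa406001002002403704c001001) (nat_lit 0x1800803006b) (nat_lit 0x1009003) (nat_lit 0x121f201) (nat_lit 0x5402801000800403a029053030010008004012001) (.dfs (nat_lit 3) (nat_lit 0x101800803006b) (nat_lit 0x1018008020068) (nat_lit 0x1040020010004002001) (nat_lit 0x1053030010004012001) (nat_lit 16) (nat_lit 0) (nat_lit 2) (nat_lit 0) (nat_lit 0x1e0200400d20051bc004000002) (nat_lit 29) (nat_lit 1) (nat_lit 0) (nat_lit 4408) (nat_lit 312) (nat_lit 0x10002010002b9) (nat_lit 0x2000000000000000000000000000000000000000000000200000000000000000000000000000000000000000000000000000000000000000000000000000000000000000000000000000000000000000000000000000000) (.cD (nat_lit 513) (.dfs (nat_lit 9) (nat_lit 0x10300100600d6) (nat_lit 0x10300100700ce) (nat_lit 0x1080040020008004002001) (nat_lit 0x10a8050020008074052027) (nat_lit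 40) (nat_lit 0) (nat_lit 2) (nat_lit 0) (nat_lit 0x1e0200400d20051bc004000002) (nat_lit 95) (nat_lit 1) (nat_lit 0) (nat_lit 1) (nat_lit 0) (nat_lit 1) (nat_lit 0x8000000000000000000000000000008000000000000000000000000000000000800000000000000000000000000000800000000000000000000000000000000000000000000000000000000000000000000000000000000000000000000000000000000000000000000000000000000000000000) (.cD (nat_lit 551) (.kS (nat_lit 0) (nat_lit 0x600200c01ac00201e0200400d20051bc004000003) (nat_lit 0x1064045) (nat_lit 0x800400200901000801400b001) (nat_lit 0x400600e015c06c1720010200400801000100010010600200c01ac0bc0bb001003)) (.cD (nat_lit 671) (.kS (nat_lit 0) (nat_lit 0x400200a01f00020ca00200001e0200400d20051bc004000004) (nat_lit 0x11e021f) (nat_lit 0x800400200901000801400b001) (nat_lit 0x200200000200400801000100010010020ca0000400200a01f006c192001004)) (.cD (nat_lit 807) (.kS (nat_lit 0) (nat_lit 0x100200600c400716800800001e0200400d20051bc004000004) (nat_lit 0x10640c212234e) (nat_lit 0x800400200901000801400701102001002803e02200104002003001b044005006)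 (nat_lit 0x600200e017c0dc07301f1090021780780000100200600c404c05b063075008003)) (.cD (nat_lit 927) (.kS (nat_lit 0) (nat_lit 0x400200a01f00020ca00200001e0200400d20051bc004000004) (nat_lit 0x11e021f) (nat_lit 0x800400200901000801400b001) (nat_lit 0x200200000200400801000100010010020ca0000400200a01f006c192001004)) .nil))))) (.cD (nat_lit 697) (.kS (nat_lit 0) (nat_lit 0x100200400f00040ca00200001e0200400d20051bc004000004) (nat_lit 0x11e00931972f1) (nat_lit 0x800400200901000800401e01102001000802c02201104002003002b004022001) (nat_lit 0x200200000100200400800080040020010010020ca0000100200400f007b0570630b6003004)) .nil))))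
theorem c70 : (chk [] [] p70).n x28 s70 = true := by decide +kernel
noncomputable def p71 : Pf := (.ext (nat_lit 0) (nat_lit 0x8010020040002001) (nat_lit 0x13241381b81001771bc) (nat_lit 0xf10010000d204002001e05800c0031bc004000040020010008004002001004) (nat_lit 0x800c010020) (nat_lit 0x100a009) (nat_lit 0x120c21f) (nat_lit 0x3901800800401600902d01800800401a001) (.dfs (nat_lit 9) (nat_lit 0x100800c010020) (nat_lit 0x100800c01802d) (nat_lit 0x1004002001) (nat_lit 0x100401a001) (nat_lit 13) (nat_lit 0) (nat_lit 2) (nat_lit 0) (nat_lit 0x8010020040004001) (nat_lit 91) (nat_lit 1) (nat_lit 0) (nat_lit 4408) (nat_lit 312) (nat_lit 0x100022700029f) (nat_lit 0x800000000000000000000000000000800000000000000000000000000000000000000000000000000000000000000000000000000000000000000000000000000000000000000000000000000000000000000000) (.cD (nat_lit 551) (.dfs (nat_lit 10) (nat_lit 0x1010018020040) (nat_lit 0x1010018030072) (nat_lit 0x1008004002001) (nat_lit 0x100802c012039) (nat_lit 34) (nat_lit 0) (nat_lit 2) (nat_lit 0) (nat_lit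 0x8010020040004001) (nat_lit 16) (nat_lit 1) (nat_lit 0) (nat_lit 1) (nat_lit 0) (nat_lit 1) (nat_lit 0x100000000000001000000000000000000000000000000000000000000000000010000000000000100000000000000000000000000000000000000000000000000000000000000000000000000000000000000000000000000000000000000000000000000000000000000000000000000000) (.cD (nat_lit 596) (.kS (nat_lit 0) (nat_lit 0x40040000010020040080001008010020040004003) (nat_lit 0x10e0247254) (nat_lit 0x800400200501000800c01300102001001800e012039) (nat_lit 0xca0020000100200500bb00406d07e001010010000010020040080024002001002040040000005)) (.cD (nat_lit 652) (.cut (nat_lit 0)) (.cD (nat_lit 852) (.kS (nat_lit 0) (nat_lit 0x20020000010020040080001008010020040004003) (nat_lit 0x10e0347354) (nat_lit 0x800400200501000800c01300102001001800e012039) (nat_lit 0xca0020000100200500bb00406d07e001010010000010020040080024002001002020020000005)) (.cD (nat_lit 908) (.kS (nat_lit 0) (nat_lit 0x200200000010020040080001008010020040004003) (nat_lit 0x11e03a7234) (nat_lit 0x800400200501000800c01300102001001800e012039)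 (nat_lit 0xca0020000100200500bb00406d07e001010010000010020040080024002001002200200000005)) .nil))))) (.cD (nat_lit 671) (.kS (nat_lit 0) (nat_lit 0x95005000008010020040001008010020040004003) (nat_lit 0x11e02a3) (nat_lit 0x800400200501000800c013001) (nat_lit 0x1e0200600a002c0a1005168008000008010020040012001003008010020040012001002005095000005)) .nil))))
theorem c71 : (chk [(x28, s70)] [] p71).n x28 s71 = true := by decide +kernel
noncomputable def p72 : Pf := (.ext (nat_lit 0) (nat_lit 0x8010020040002001) (nat_lit 0x13241381b81001771bc) (nat_lit 0x40020010018014012002020020000040020010008004002001003) (nat_lit 0xc008010020) (nat_lit 0x100a009) (nat_lit 0x1036009) (nat_lit 0x3901800800401600902d01800800401a001) (.dfs (nat_lit 9) (nat_lit 0x100c008010020) (nat_lit 0x100c00801802d) (nat_lit 0x1004002001) (nat_lit 0x100401a001) (nat_lit 13) (nat_lit 0) (nat_lit 2) (nat_lit 0) (nat_lit 0x8010020040004001) (nat_lit 9) (nat_lit 1) (nat_lit 0) (nat_lit 4224) (nat_lit 128) (nat_lit 0x10000090000d1) (nat_lit 0x20000000000000000000000000000000000000000000000000200)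 (.cD (nat_lit 9) (.dfs (nat_lit 10) (nat_lit 0x1018010020040) (nat_lit 0x1018010030072) (nat_lit 0x1008004002001) (nat_lit 0x100802c012039) (nat_lit 34) (nat_lit 0) (nat_lit 2) (nat_lit 0) (nat_lit 0x8010020040004001) (nat_lit 54) (nat_lit 1) (nat_lit 0) (nat_lit 1) (nat_lit 0) (nat_lit 1) (nat_lit 0x4000000000000000000000000000000000000000000000400000000000000000400000000000000000000000000000000000000000000040000000000000) (.cD (nat_lit 54) (.kS (nat_lit 0) (nat_lit 0x10010000010020040080001008010020040004003) (nat_lit 0x100406918e) (nat_lit 0x800400200501000800c01300102001001800e012039) (nat_lit 0x100200700df02401d07e00117e042000010020040080024002001002010010000004)) (.cD (nat_lit 238) (.cut (nat_lit 0)) (.cD (nat_lit 310) (.kS (nat_lit 0) (nat_lit 0x10020040080001008010020040004002) (nat_lit 0x11bc009136) (nat_lit 0x800400200501000800c01300102001001800e012039) (nat_lit 0x30020040080004002075002010020040080024002001002002)) (.cD (nat_lit 494) (.kS (nat_lit 0) (nat_lit 0x10020040080001008010020040004002) (nat_lit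 0x11bc0091ee) (nat_lit 0x800400200501000800c01300102001001800e012039) (nat_lit 0x30020040080004002055002010020040080024002001002002)) .nil))))) (.cD (nat_lit 209) (.kS (nat_lit 0) (nat_lit 0x18010020040003008010020040001008010020040004003) (nat_lit 0x1018343) (nat_lit 0x800400200501000800c013001) (nat_lit 0x20020000008010020040012001003008010020040012001002018010020040002019004004)) .nil))))
theorem c72 : (chk [(x28, s71)] [] p72).n x28 s72 = true := by decide +kernel
noncomputable def p73 : Pf := (.ext (nat_lit 0) (nat_lit 0) (nat_lit 0x13241381b81001771bc) (nat_lit 0x41bc0000d204002001e05800c0040010f1000040020010008004027002004) (nat_lit 0x4008010020) (nat_lit 4105) (nat_lit 4611) (nat_lit 0x2d01800800401a001) (.dfs (nat_lit 9) (nat_lit 0x1004008010020) (nat_lit 0x100400801802d) (nat_lit 0x1002001) (nat_lit 0x101a001) (nat_lit 13) (nat_lit 0) (nat_lit 2) (nat_lit 0) (nat_lit 0) (nat_lit 27) (nat_lit 1) (nat_lit 0) (nat_lit 4224) (nat_lit 128) (nat_lit 0x1000203000243) (nat_lit 0x8000000000000000800000000000000000000000000000000000000000000000000000000000000000000000000000000000000000000000000000000000000000000000000000000)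 (.cD (nat_lit 515) (.cut (nat_lit 1)) (.cD (nat_lit 579) (.cut (nat_lit 0)) .nil))))
theorem c73 : (chk [(x28, s69), (x28, s72)] [] p73).n x28 s73 = true := by decide +kernel
noncomputable def p74 : Pf := (.ext (nat_lit 0) (nat_lit 0xf100100001e0200400d20031bc004000003) (nat_lit 0x13241381000b8077) (nat_lit 0xf10010000d204003e0200780031bc0040000100080040020010010041bc0000d204002001e0580040010f1000007) (nat_lit 0x6002008010) (nat_lit 0x1013004) (nat_lit 0x101705c) (nat_lit 0x1a008004002003016008004002007) (.dfs (nat_lit 4) (nat_lit 0x1006002008010) (nat_lit 0x1006002008016) (nat_lit 0x1004001) (nat_lit 0x1004007) (nat_lit 6) (nat_lit 0) (nat_lit 2) (nat_lit 0) (nat_lit 0xf100100001e0200400d20051bc004000003) (nat_lit 92) (nat_lit 1) (nat_lit 0) (nat_lit 1) (nat_lit 0) (nat_lit 1) (nat_lit 0x10100000000000000000000000000000101000000000000000000000000000001010000000000000000000000000000010100000000000000000000000) (.cD (nat_lit 92) (.kS (nat_lit 0) (nat_lit 0xc00801c02100101e0200400d20051bc004000003) (nat_lit 0x105c1cb)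 (nat_lit 0x8004002009010008004016011) (nat_lit 0xca00200000c00401002001901b0020f100100000c00801c021001017002004)) (.cD (nat_lit 100) (.dfs (nat_lit 19) (nat_lit 0x100800401c029) (nat_lit 0x100800401c031) (nat_lit 0x1020010002001) (nat_lit 0x103401000600d) (nat_lit 0) (nat_lit 0) (nat_lit 2) (nat_lit 0) (nat_lit 0x1e0200600a0005168008000002) (nat_lit 23) (nat_lit 1) (nat_lit 0) (nat_lit 1) (nat_lit 0) (nat_lit 1) (nat_lit 0x80000000000000800000000000000000800000000000008000000000000000008000000000000080000000000000000080000000000000800000) (.cD (nat_lit 23) (.kS (nat_lit 0) (nat_lit 0x801802805d00101801003804200101e0200400d20051bc004000004) (nat_lit 4568) (nat_lit 0x8004002009) (nat_lit 0x1bc00400001000803005f01f00201801003804200200200801802805d01d002004)) (.cD (nat_lit 79) (.kS (nat_lit 0) (nat_lit 0x801802805d00101801003804200101e0200400d20051bc004000004) (nat_lit 4320) (nat_lit 0x8004002009) (nat_lit 0x1bc00400001000803007f03f00201801003804200200200801802805d01d002004)) (.cD (nat_lit 151) (.kS (nat_lit 0) (nat_lit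 0x1800803006f00204004000001e0200400d20051bc004000004) (nat_lit 0x1004197) (nat_lit 0x800400200901000800401e011) (nat_lit 0xca00200001801003804200200100104004000001800803006f002033001004)) (.cD (nat_lit 207) (.kS (nat_lit 0) (nat_lit 0x1800803004700202002000001e0200400d20051bc004000004) (nat_lit 0x1004017) (nat_lit 0x800400200901000800401e011) (nat_lit 0xf100100001801003804200200100102002000001800803004700201b001004)) (.cD (nat_lit 279) (.kS (nat_lit 0) (nat_lit 0x80100200400010f100100001e0200400d20051bc004000004) (nat_lit 0x11d8093) (nat_lit 0x800400200901000800401e011) (nat_lit 0x20020000001000803005701701e0020010f100000801002004001502e002004)) (.cD (nat_lit 335) (.cut (nat_lit 0)) (.cD (nat_lit 407) (.kS (nat_lit 0) (nat_lit 0x1800803006f00202002000001e0200400d20051bc004000004) (nat_lit 0x1004197) (nat_lit 0x800400200901000800401e011) (nat_lit 0xca00200001801003804200200100102002000001800803006f002033001004)) (.cD (nat_lit 463) (.kS (nat_lit 0) (nat_lit 0x1800803004700204004000001e0200400d20051bc004000004)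 (nat_lit 0x1004017) (nat_lit 0x800400200901000800401e011) (nat_lit 0xf100100001801003804200200100104004000001800803004700201b001004)) .nil))))))))) (.cD (nat_lit 220) (.kS (nat_lit 0) (nat_lit 0xc00801c02d0011bc00400001e0200400d20051bc004000004) (nat_lit 0x10dc093) (nat_lit 0x8004002009010008004016011) (nat_lit 0xf100100000c00401002000100300212d06500000c00801c02d00101b002004)) (.cD (nat_lit 228) (.kS (nat_lit 0) (nat_lit 0xc00801c02d0011bc00400001e0200400d20051bc004000004) (nat_lit 0x10e41cb) (nat_lit 0x8004002009010008004016011) (nat_lit 0xca00200000c00401002001501700212d06500000c00801c02d00101b002004)) (.cD (nat_lit 348) (.kS (nat_lit 0) (nat_lit 0x1bc00400000c00801c02100101e0200400d20051bc004000004) (nat_lit 0x115c013) (nat_lit 0x8004002009010008004016011) (nat_lit 0xf100100000c00401003801101b0020ca00200000c00801c0210010170020041bc000005)) (.cD (nat_lit 356) (.kS (nat_lit 0) (nat_lit 0xf100100000c00801c02100101e0200400d20051bc004000004) (nat_lit 0x1104073) (nat_lit 0x8004002009010008004016011) (nat_lit 0x1001000000c00401002000900b0020f100100000c00801c0210010170020010f1000005))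 (.cD (nat_lit 476) (.kS (nat_lit 0) (nat_lit 0x1bc00400000c00801c02100101e0200400d20051bc004000004) (nat_lit 0x11dc093) (nat_lit 0x8004002009010008004016011) (nat_lit 0xf100100000c0040100200050070020f100100000c00801c0210010170020041bc000005)) (.cD (nat_lit 484) (.dfs (nat_lit 19) (nat_lit 0x100800401c035) (nat_lit 0x100800401c02d) (nat_lit 0x1020010002001) (nat_lit 0x103401000600d) (nat_lit 0) (nat_lit 0) (nat_lit 2) (nat_lit 0) (nat_lit 0x1e0200600a0005168008000002) (nat_lit 23) (nat_lit 1) (nat_lit 0) (nat_lit 1) (nat_lit 0) (nat_lit 1) (nat_lit 0x80000000000000800000000000000000800000000000008000000000000000008000000000000080000000000000000080000000000000800000) (.cD (nat_lit 23) (.kS (nat_lit 0) (nat_lit 0x100080300770021bc00400001e0200400d20051bc004000004) (nat_lit 0x10e01f3) (nat_lit 0x800400200901000800401e011) (nat_lit 0x801802807503501b0010180100380420020010010041bc000010008030077027036001004)) (.cD (nat_lit 79) (.kS (nat_lit 0) (nat_lit 0x100080300570021bc00400001e0200400d20051bc004000004) (nat_lit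 0x11d81f3) (nat_lit 0x800400200901000800401e011) (nat_lit 0x801802807503503b0010180100380420020010010041bc000010008030057007036001004)) (.cD (nat_lit 151) (.kS (nat_lit 0) (nat_lit 0x1800803005f00202002000001e0200400d20051bc004000004) (nat_lit 4228) (nat_lit 0x8004002009) (nat_lit 0xca00200001801003804200200102002000001800803005f03a001004)) (.cD (nat_lit 207) (.kS (nat_lit 0) (nat_lit 0x1800803007700204004000001e0200400d20051bc004000004) (nat_lit 4228) (nat_lit 0x8004002009) (nat_lit 0xf100100001801003804200200104004000001800803007703a001004)) (.cD (nat_lit 279) (.kS (nat_lit 0) (nat_lit 0x1bc00400001801003804200101e0200400d20051bc004000004) (nat_lit 4580) (nat_lit 0x8004002009) (nat_lit 0x801802806d02d00201000803006f02f0020180100380420020020041bc000004)) (.cD (nat_lit 335) (.kS (nat_lit 0) (nat_lit 0x80100200400010f100100001e0200400d20051bc004000004) (nat_lit 4320) (nat_lit 0x8004002009) (nat_lit 0x4004000001000803004f00f0020010f1000008010020040015002004)) (.cD (nat_lit 407) (.kS (nat_lit 0) (nat_lit 0x1800803005f00204004000001e0200400d20051bc004000004)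 (nat_lit 4228) (nat_lit 0x8004002009) (nat_lit 0xca00200001801003804200200104004000001800803005f03a001004)) (.cD (nat_lit 463) (.kS (nat_lit 0) (nat_lit 0x1800803007700202002000001e0200400d20051bc004000004) (nat_lit 4228) (nat_lit 0x8004002009) (nat_lit 0xf100100001801003804200200102002000001800803007703a001004)) .nil))))))))) .nil))))))))))
theorem c74 : (chk [(x28, s73)] [] p74).n x28 s74 = true := by decide +kernel
noncomputable def p75 : Pf := (.ext (nat_lit 0) (nat_lit 0) (nat_lit 0x1200080100040) (nat_lit 0x16800800009006005c0200010900400200300030d204002001e0011bc004000005) (nat_lit 0x3001004008) (nat_lit 4119) (nat_lit 4119) (nat_lit 0xc004002001) (.dfs (nat_lit 23) (nat_lit 0x1003001004008) (nat_lit 0x100300100400c) (nat_lit 4098) (nat_lit 4098) (nat_lit 0) (nat_lit 0) (nat_lit 2) (nat_lit 0) (nat_lit 0) (nat_lit 23) (nat_lit 1) (nat_lit 0) (nat_lit 4608) (nat_lit 512) (nat_lit 0x1000017000057000117000157) (nat_lit 0x80000000000000008000000000000000000000000000000000000000000000008000000000000000800000)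 (.cD (nat_lit 23) (.kS (nat_lit 0) (nat_lit 0x4002008010002020020000002) (nat_lit 4183) (nat_lit 0x8004002003) (nat_lit 0x20020000002004008010001001020020000004002008010003001004)) (.cD (nat_lit 87) (.kS (nat_lit 0) (nat_lit 0x4002008010002020020000002) (nat_lit 4375) (nat_lit 0x8004002003) (nat_lit 0x20020000002004008010001001020020000004002008010005001004)) (.cD (nat_lit 279) (.cut (nat_lit 0)) (.cD (nat_lit 343) (.iso x28 s74 (nat_lit 0) (nat_lit 0x1200100080040020010008004002101) (nat_lit 0x200100080040020010008004002101) [(nat_lit 0x10008004002005001001), (nat_lit 0x80040020010028024002021003001), (nat_lit 0x80040020010008004002001005001)] (.cut (nat_lit 0))) .nil))))))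
theorem c75 : (chk [(x28, s74)] [g96] p75).n x28 s75 = true := by decide +kernel
noncomputable def p76 : Pf := (.ext (nat_lit 0) (nat_lit 0) (nat_lit 0x120008010004000f017018) (nat_lit 0x40020010008004002001001001) (nat_lit 0x8010020058) (nat_lit 4099) (nat_lit 4187) (nat_lit 0x49030010008004012011) (.dfs (nat_lit 3) (nat_lit 0x1008010020058) (nat_lit 0x1008010030051) (nat_lit 0x1040004002001) (nat_lit 0x1049004012011) (nat_lit 16) (nat_lit 0) (nat_lit 2) (nat_lit 0) (nat_lit 0) (nat_lit 27) (nat_lit 1) (nat_lit 0) (nat_lit 4224) (nat_lit 128) (nat_lit 0x100005b) (nat_lit 0x80000000000000000000000) (.cD (nat_lit 91) (.cut (nat_lit 0)) .nil)))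
theorem c76 : (chk [(x28, s75)] [] p76).n x28 s76 = true := by decide +kernel
noncomputable def p77 : Pf := (.ext (nat_lit 0) (nat_lit 0) (nat_lit 0x1200080100040) (nat_lit 0x1680080000760300100360030ca002000003) (nat_lit 0x100200400b) (nat_lit 0x101801700f) (nat_lit 0x1018017037) (nat_lit 0xa00400200100c00400200100e004002003) (.dfs (nat_lit 15) (nat_lit 0x100100200400b) (nat_lit 0x100300200400f) (nat_lit 4104) (nat_lit 4110) (nat_lit 2) (nat_lit 0) (nat_lit 2) (nat_lit 0) (nat_lit 0) (nat_lit 55) (nat_lit 1) (nat_lit 0) (nat_lit 0x1200040) (nat_lit 0x200040) (nat_lit 0x1000037001037001137) (nat_lit 0x80000000000000) (.cD (nat_lit 55) (.dfs (nat_lit 23) (nat_lit 0x1002004008016) (nat_lit 0x100200400801e) (nat_lit 0x1010001) (nat_lit 0x1018001) (nat_lit 0) (nat_lit 0) (nat_lit 2) (nat_lit 0) (nat_lit 0) (nat_lit 23) (nat_lit 1) (nat_lit 0) (nat_lit 1) (nat_lit 0) (nat_lit 1) (nat_lit 0x8000000000000000000000000000000080000000000000000000000000000000800000000000000000000000000000008000000000000000000000) (.cD (nat_lit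 87) (.kA false (nat_lit 0x801701802c0010200300600d4004008010020040006003)) (.cD (nat_lit 215) (.dfs (nat_lit 24) (nat_lit 0x100400801002c) (nat_lit 0x1004008010024) (nat_lit 0x1020002001) (nat_lit 0x1028002009) (nat_lit 8) (nat_lit 0) (nat_lit 2) (nat_lit 0) (nat_lit 0) (nat_lit 24) (nat_lit 1) (nat_lit 0) (nat_lit 1) (nat_lit 0) (nat_lit 1) (nat_lit 0x1000000000000000000000000000000010000000000000000000000000000000100000000000000000000000000000001000000) (.cD (nat_lit 24) (.kS (nat_lit 0) (nat_lit 0x1001000000f0100200690011bc004000003) (nat_lit 0x103702f) (nat_lit 0xc004002007010008004006001) (nat_lit 0x1bc00400000f01003005003d02c0011d40d400000f01002006903d02c002010010000005)) (.cD (nat_lit 152) (.kA false (nat_lit 0xe01003005800100f010030040001010010000003)) (.cD (nat_lit 280) (.kS (nat_lit 0) (nat_lit 0x1bc00400000f0100200690011bc004000003) (nat_lit 0x103712f) (nat_lit 0xc004002007010008004006001) (nat_lit 0xf0100200760340030011bc0040000080100200400040020010041bc00000f01002006903d02c0020041bc000006)) (.cD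 (nat_lit 408) (.kA false (nat_lit 0x1e01003005800100f010030040001010010000003)) .nil))))) (.cD (nat_lit 343) (.kA false (nat_lit 0x801701802c0010200300600d4004008010020040006003)) (.cD (nat_lit 471) (.dfs (nat_lit 24) (nat_lit 0x100400801002c) (nat_lit 0x1004008010024) (nat_lit 0x1020002001) (nat_lit 0x1028002009) (nat_lit 8) (nat_lit 0) (nat_lit 2) (nat_lit 0) (nat_lit 0) (nat_lit 24) (nat_lit 1) (nat_lit 0) (nat_lit 1) (nat_lit 0) (nat_lit 1) (nat_lit 0x1000000000000000000000000000000010000000000000000000000000000000100000000000000000000000000000001000000) (.cD (nat_lit 24) (.kS (nat_lit 0) (nat_lit 0x1001000000f0100200690011bc004000003) (nat_lit 0x103702f) (nat_lit 0xc004002007010008004006001) (nat_lit 0x1bc00400000f01003005003d02c0011d40d400000f01002006903d02c002010010000005)) (.cD (nat_lit 152) (.kA false (nat_lit 0x1e01003005800100f010030040001010010000003)) (.cD (nat_lit 280) (.cut (nat_lit 0)) (.cD (nat_lit 408) (.kA false (nat_lit 0xe01003005800100f010030040001010010000003)) .nil))))) .nil))))) .nil)))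
theorem c77 : (chk [(x28, s76)] [] p77).n x28 s77 = true := by decide +kernel
noncomputable def p78 : Pf := (.clm (.cut (nat_lit 0)) (.dfs (nat_lit 256) (nat_lit 1) (nat_lit 1) (nat_lit 1) (nat_lit 1) (nat_lit 0) (nat_lit 0) (nat_lit 0) (nat_lit 0) (nat_lit 0) (nat_lit 0) (nat_lit 1) (nat_lit 0) (nat_lit 0x1100040020010008004002001) (nat_lit 0x1000400200100080b40de065) (nat_lit 0x100010000110000210000010c00110c00210c00310c00410c00010e00110e00210e00310e00410e00510e00011400111400211400611400118800218800618800316c00114e00314e00414e00514e00714e0001d00021d00051d000113c00018c0011200021200031200041200001d20051d200115200013e0001be00112c00212c000124) (nat_lit 0x1050010000000000000000000000000000000000000000000000000000000000000000) (.cD (nat_lit 256) (.kin (nat_lit 1) (nat_lit 0)) (.cD (nat_lit 268) (.kn (nat_lit 1) (nat_lit 0x1100080040020010008) false (nat_lit 0x1010008004002001) (nat_lit 0x100080b40de065) (nat_lit 0x100010c00110c00210c00310c00410c00114e00314e00414e)) (.cD (nat_lit 270) (.kn (nat_lit 1) (nat_lit 0x1100080040020010008)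 false (nat_lit 0x1020010008004002001) (nat_lit 0x200100080b40de065) (nat_lit 0x100010e00110e00210e00310e00410e00510e001120002120)) (.cD (nat_lit 276) (.czp (nat_lit 276) (nat_lit 0x1002001) (nat_lit 0x108014007000801c006) z9 (.dfs (nat_lit 24) (nat_lit 4097) (nat_lit 4097) (nat_lit 1) (nat_lit 1) (nat_lit 0) (nat_lit 2) (nat_lit 3) (nat_lit 0) (nat_lit 0) (nat_lit 0) (nat_lit 1) (nat_lit 0) (nat_lit 0x1130008006) (nat_lit 0x1b0008006) (nat_lit 0x100000e00200e00001200101200206200107e) (nat_lit 0x44000) (.cD (nat_lit 14) (.mulh (nat_lit 1) (nat_lit 1) (.mulh (nat_lit 1) (nat_lit 1) (.dfs (nat_lit 32) (nat_lit 4104) (nat_lit 4104) (nat_lit 0x1004002001) (nat_lit 0x1007003001) (nat_lit 0) (nat_lit 0) (nat_lit 3) (nat_lit 0) (nat_lit 0) (nat_lit 0) (nat_lit 1) (nat_lit 0) (nat_lit 0x106c062) (nat_lit 0xec00e) (nat_lit 0x100000600100600000800100800105a0010d4) (nat_lit 320) (.cD (nat_lit 6) (.dfs (nat_lit 64) (nat_lit 4112) (nat_lit 4112) (nat_lit 0x1008004002001) (nat_lit 0x100a004002001) (nat_lit 0) (nat_lit 0) (nat_lit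 3) (nat_lit 0) (nat_lit 0) (nat_lit 0) (nat_lit 1) (nat_lit 0) (nat_lit 1) (nat_lit 0) (nat_lit 1) (nat_lit 0x1000000000000000000000000000000010000000) (.cD (nat_lit 28) (.kA false (nat_lit 0x400600302000201001202206a0060200300500a400406500100000201002006a005002004001020001006)) (.cD (nat_lit 156) (.dfs (nat_lit 4) (nat_lit 0x1002004001020) (nat_lit 0x100a004005024) (nat_lit 0x1010008) (nat_lit 0x1010008) (nat_lit 12) (nat_lit 0) (nat_lit 2) (nat_lit 0) (nat_lit 0x2004001020001001) (nat_lit 20) (nat_lit 1) (nat_lit 0) (nat_lit 4500) (nat_lit 404) (nat_lit 0x1000022) (nat_lit 0x400000000) (.cD (nat_lit 34) (.dfs (nat_lit 2) (nat_lit 0x101c008002071) (nat_lit 0x1004008002042) (nat_lit 0x1040020010004001) (nat_lit 0x107300b01001402a) (nat_lit 35) (nat_lit 0) (nat_lit 2) (nat_lit 0) (nat_lit 0x65001000001) (nat_lit 24) (nat_lit 1) (nat_lit 0) (nat_lit 1) (nat_lit 0) (nat_lit 1) (nat_lit 0x400000000000000000000000000000004000000000000000000000000000) (.cD (nat_lit 110) (.dfs (nat_lit 1) (nat_lit 0x10550100420aa) (nat_lit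 0x10380100040f2) (nat_lit 0x1080040020008004002001) (nat_lit 0x10d800d07605505205f031) (nat_lit 14) (nat_lit 0) (nat_lit 2) (nat_lit 0) (nat_lit 0) (nat_lit 45) (nat_lit 1) (nat_lit 0) (nat_lit 1) (nat_lit 0) (nat_lit 1) (nat_lit 0x20000000000000000000000000000000200000000000) (.cD (nat_lit 45) (.extn a65 (nat_lit 0x100020008010050090004002001) (nat_lit 0x1020080040100) (nat_lit 2) (nat_lit 0) (nat_lit 0) (nat_lit 40) (nat_lit 0x100000000000000000000000000000001000000000000000000000000000000) (.cE (nat_lit 120) b95 (nat_lit 0) (.cut (nat_lit 1)) (.cut (nat_lit 2)) (.cE (nat_lit 248) b96 (nat_lit 0) (.cut (nat_lit 3)) (.cut (nat_lit 4)) .nil))) (.cD (nat_lit 173) (.extn (nat_lit 0x16114c1531fe11f1321f115c1d91c41eb1f61271ba1f91e41e717a1391241c51581f716a1b311e1dd1f012110c1131be1bb1a61e51781991841ab1b61df1f213119c1cd16017f15218d12013f1121f315e19d1b01051981371aa17b1661251b81fd1d01cf16210312e1ed1401751e81c715a18b1961d514814b1561151881e91f415b1461af1021c11ec1bd19018f12219710a1491541351a818711a1c31ee12d1801511fc1e31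ce1111bc1a318e1ef1421811ac12913419b1861571ca1891941e11cc1d317e19f1b21711dc15914416b1761a713a1791641671fa1b91a41451d81771ea13319e15d1701a118c19313e13b1261651f811910412b13615f1721b111c14d1e01ff1d210d1a01bf1921731de11d1301851181b712a1fb1e61a513817d15014f1e21831ae16d1c01f51681471da10b1161551c81cb1d61951081691741db1c612f18214116c13d11010f1a211718a1c91d41b512810719a14316e1ad1001d117c16314e19113c12310e16f1c210112c1a91b411b1061d714a1091140450d80770ea03b0260650f80cd06007f0520b301e0dd0f00f305e09d0b006104c0530fe0a703a0790640850180b702a01f0320f105c00d0a00bf09207b0660250b805904406b0760990840ab0b60670fa0b90a402100c0130be05f0720b101c0e90f405b04609700a0490540d107c06304e02f08204106c06f0c200102c07d05004f0e208b0960d504802903409b0860830ae06d0c00110bc0a308e0d704a0090140750e80c705a0b502800709a04b05601508803d01000f0a20c30ee02d0800c50580f706a0bb0a60e507804d0e00ff0d203309e05d0700730de01d0300e10cc0d307e0270ba0f90e40050980370aa09f0b20710dc08d02003f0120fb0e60a50380d90c40eb0f601900402b0360e707a0390240a108c09303e0df0f203109c0690740db0c601708a0c90d40510fc0e30ce0af0020c10ec0ef0420810ac0fd0d00cf06200b0160550c80a90b401b00600302e0ed04009103c02300e0570ca0890940f50680470da0350a808701a0cb0d60950080bd09008f02204306e0ad000)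 (nat_lit 0x100020008010050090004002001) (nat_lit 0x1020080040100) (nat_lit 2) (nat_lit 0) (nat_lit 0) (nat_lit 40) (nat_lit 0x100000000000000000000000000000001000000000000000000000000000000) (.cE (nat_lit 120) (nat_lit 0x1191041c715a1bb1a610911412110c14f1e213319e10112c1f315e1c11ec10d1a01e31ce1271ba19510815914418711a19f1b212d18016114c10f1a217b1661c91d41851181db1c61c515819b1861671fa1d51481cd16012310e15f1721ed1401b51281eb1f619710a1a51381bd1901d317e12f18211d1301ef1421dd1f019113c17f15218b1961b91a41f51681ab1b61831ae13119c1fd1d019313e1571ca1651f81a91b41771ea1e91f41371aa1cb1d61f91e41511fc1bf19214316e1f115c1991841471da13b1261891941a118c1cf1621b311e1811ac1731de14116c18d12016314e1a713a1151881d91c410719a11f1321ad1001e11cc18f1221fb1e614915410519815b1461451d811b1061e717a1551c814d1e01a318e1df1f216d1c01351a816b17611718a1251b813d1101531fe1af10219d1b016f1c215d1701111bc1ff1d210b1161391241751e812b13610312e1b111c17d1501131be1d714a1e51781291341f716a1691741b712a14b1561791641d117c13f1121c31ee1711dc08d02006304e01f0320ad0000850180db0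c60270ba0950080670fa0d50480190040c705a0b301e0810ac04d0e00a308e0bb0a60090140450d801b00605f0720ed0400a108c0cf06206104c00f0a20730de04106c05904408701a0fb0e604905409103c07f0520830ae03109c0290340f706a00b01603902404b0560790640350a806b07602f08201d0300510fc0bf09201708a0250b80e90f40370aa0c30ee0710dc0bd0900d307e07d0500130be0ef0420dd0f00750e802b0360570ca0650f800d0a00e30ce09f0b202d08000509805b0460a703a0150880e707a0550c80990840470da03309e00102c0cd06002300e03b0260890940c505809b0860df0f206d0c002100c04f0e20e10cc08f0220f305e0c10ec0d90c400709a07b0660c90d40110bc0ff0d200302e0b101c0a90b40770ea08b0960b90a40cb0d60f90e40b50280eb0f60af00209d0b00d107c03f01209700a0a50380690740b702a04306e0f105c03d0100530fe0fd0d009303e06f0c205d0700f50680ab0b60d704a0e5078) (nat_lit 0) (.kS (nat_lit 0) (nat_lit 0x400400000100300700b80041f1001000008010020040006004) (nat_lit 0x100408a16a25e) (nat_lit 0x800400200901000801400f01102001002802e02200104002003003b044005006) (nat_lit 0x1f100100001002004008005c04b0730210031f31f30000100300700b805c07f04b0e2003040040000005))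 (.kS (nat_lit 0) (nat_lit 0x400400000100300700b80041f1001000008010020040006004) (nat_lit 0x100408a16a25e) (nat_lit 0x800400200901000801400f01102001002802e02200104002003003b044005006) (nat_lit 0x1f100100001002004008005c04b0730210031f31f30000100300700b805c07f04b0e2003040040000005)) (.cE (nat_lit 248) (nat_lit 0x1991841471da13b1261891941a118c1cf1621b311e1811ac1731de14116c18d12016314e1a713a1151881d91c410719a11f1321ad1001e11cc18f1221fb1e614915410519815b1461451d811b1061e717a1551c814d1e01a318e1df1f216d1c01351a816b17611718a1251b813d1101531fe1af10219d1b016f1c215d1701111bc1ff1d210b1161391241751e812b13610312e1b111c17d1501131be1d714a1e51781291341f716a1691741b712a14b1561791641d117c13f1121c31ee1711dc1191041c715a1bb1a610911412110c14f1e213319e10112c1f315e1c11ec10d1a01e31ce1271ba19510815914418711a19f1b212d18016114c10f1a217b1661c91d41851181db1c61c515819b1861671fa1d51481cd16012310e15f1721ed1401b51281eb1f619710a1a51381bd1901d317e12f18211d1301ef1421dd1f019113c17f15218b1961b91a41f51681ab1b61831ae13119c1fd1d019313e1571ca1651f81a91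b41771ea1e91f41371aa1cb1d61f91e41511fc1bf19214316e1f115c00d0a00e30ce09f0b202d08000509805b0460a703a0150880e707a0550c80990840470da03309e00102c0cd06002300e03b0260890940c505809b0860df0f206d0c002100c04f0e20e10cc08f0220f305e0c10ec0d90c400709a07b0660c90d40110bc0ff0d200302e0b101c0a90b40770ea08b0960b90a40cb0d60f90e40b50280eb0f60af00209d0b00d107c03f01209700a0a50380690740b702a04306e0f105c03d0100530fe0fd0d009303e06f0c205d0700f50680ab0b60d704a0e507808d02006304e01f0320ad0000850180db0c60270ba0950080670fa0d50480190040c705a0b301e0810ac04d0e00a308e0bb0a60090140450d801b00605f0720ed0400a108c0cf06206104c00f0a20730de04106c05904408701a0fb0e604905409103c07f0520830ae03109c0290340f706a00b01603902404b0560790640350a806b07602f08201d0300510fc0bf09201708a0250b80e90f40370aa0c30ee0710dc0bd0900d307e07d0500130be0ef0420dd0f00750e802b0360570ca0650f8) (nat_lit 0) (.kS (nat_lit 0) (nat_lit 0x400400000100300700b80040f1001000008010020040006004) (nat_lit 0x100408a16a25e) (nat_lit 0x800400200901000801400f01102001002802e02200104002003003b044005006) (nat_lit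 0xf100100001002004008005c04b0730210031f30f30000100300700b805c07f04b0e2003040040000005)) (.kS (nat_lit 0) (nat_lit 0x400400000100300700b80040f1001000008010020040006004) (nat_lit 0x100408a16a25e) (nat_lit 0x800400200901000801400f01102001002802e02200104002003003b044005006) (nat_lit 0xf100100001002004008005c04b0730210031f30f30000100300700b805c07f04b0e2003040040000005)) .nil))) .nil))) (.cD (nat_lit 238) (.dfs (nat_lit 1) (nat_lit 0x10450100420aa) (nat_lit 0x10280100040f2) (nat_lit 0x1080040020008004002001) (nat_lit 0x10d800d07605505205f031) (nat_lit 14) (nat_lit 0) (nat_lit 2) (nat_lit 0) (nat_lit 0) (nat_lit 27) (nat_lit 1) (nat_lit 0) (nat_lit 1) (nat_lit 0) (nat_lit 1) (nat_lit 0x20000000000000000000000000000000200000000000000000000000) (.cD (nat_lit 93) (.extn (nat_lit 0x1911cc1a31fe1ef1b210115c1a914419b1f615713a1091e41971fa1c91241b51d818716a1c319e1ad1f01d118c1e31be1cb1261151781e91041db1b612f1721c119c1bd1e010f1521fd1a014f1121831de1ed1b01751181471aa10b1e61d51b810d15013f1621f31ae11d14018516813715a17b1161a51481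bb1d61651881191741ab1461df1821b11ec14d11017f12216718a1391541c512817711a13316e1dd18012117c1931ce16113c1d318e19f1c21f11ac1d91b416b1861a714a1f919411114c12317e16f1321811dc1291c411b1761d71ba18916411717a1491a41351581071ea14311e12d17015110c16313e14b1a61951f816918415b1361af1f214111c13d16018f1d217d1201cf19210315e16d1301f51981c712a18b16615513818d1d01bf1e217312e19d1c01051e81b71da1fb1961251c813b1561e51081991f412b1c615f10213116c1cd1901ff1a21e710a1b91d41451a81f719a1b31ee15d1001a11fc11314e1e11bc15310e11f14217112c1591341eb1061271ca1791140350580070ea04b0a60950f80bd0e000f0520c309e0ad0f00830de0ed0b00910cc0a30fe0d70ba0890640f50980c702a0ef0b200105c07d0200cf09200b0e60d50b80290c401b0760e90040db0b601707a0490a40d108c0e30be0af0f204101c0190740ab04606708a0390540a10fc01304e05f00203106c01f04207102c08d0d00bf0e207b0160a50480d90b406b08607302e09d0c006103c0d308e0270ca07901408506803705a0450a80f709a0bb0d60650880cd0900ff0a203306e0dd0800b50d808706a0cb02601507803d06008f0d204301e02d07000305e06d03001104c02307e05703a0090e40750180470aa06f0320810dc0fd0a004f01208b0660550380a904409b0f606908405b0360970fa0c902405100c06303e02f0720c109c0990f402b0c60e700a0b90d402107c0930ce0df0820b10ec09f0c20f10ac00d05003f0620fb0960250c80590340eb0060f30ae01d0400e10bc05300e0a704a0f90940050e80b70da0c502807701a03b0560e500804d01007f0220b30ee05d000)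 (nat_lit 0x100020008010050090004002001) (nat_lit 0x1020080040100) (nat_lit 2) (nat_lit 0) (nat_lit 0) (nat_lit 8) (nat_lit 0x10000000000000000000000000000000100) (.cE (nat_lit 8) (nat_lit 0x1191f414712a1bb1561891e41211fc1cf1121331ee18115c1f312e14119c10d1d01631be12714a1151f81591b410716a19f1421ad1701611bc18f15217b1961491241851e815b1b61c51a811b1f616710a1551b81cd1101a317e15f18216d1b01b515816b10619717a1251481bd16015318e12f1f219d1401ef13215d18019114c1ff12218b1e61391d41f511812b14618315e1b116c1fd1201131ce1571ba1e51881a91c41f711a1e91841b715a1cb1a617919415118c13f1e214319e1711ac1991741c71aa13b1d61091641a117c14f1921b316e1011dc1731ae1c111c18d1501e313e1a71ca1951781d91341871ea11f1c212d1f01e113c10f1d21fb1161c91a41051681db13614512819b1761e718a1d513814d1901231fe1df1021ed1301351d81eb1861171fa1a51c813d1e01d310e1af17211d1c016f1b21dd1001111cc17f1a210b1661b91541751981ab1c61031de1311ec17d1a019314e1d713a16510812914417719a1691041371da14b1261f91141d110c1bf1621c311e1f112c08d0500e303e01f0c202d0f00850e805b0b602704a0150f806700a0550b80190f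404702a0b306e0010dc04d0900230fe0bb0560890e404502809b07605f08206d0b00a107c04f0920610bc08f0520730ae0c101c0590b400706a0fb0160c90a409104c0ff02208305e0b106c02904407709a00b0660b905404b0260f90140350d80eb08602f0f209d04005108c03f0e20170fa0a50c80e90840b705a0c301e0f102c0bd06005308e07d0a009304e0ef03205d0800750980ab0c60570ba0e508800d0d00630be09f0420ad0700050680db0360a70ca0950780e708a0d50380990740c70aa0330ee08105c0cd0100a307e03b0d60090640c50a801b0f60df0020ed0300210fc0cf0120e103c00f0d20f302e04109c0d90340870ea07b0960490240110cc07f0a20030de0310ec0a90c40f701a08b0e60390d40cb0a60790940b505806b0060af07201d0c00d100c0bf06209707a0250480690040370da04309e0710ac03d0e00d300e0fd0200130ce06f0b20dd0000f501802b0460d703a065008) (nat_lit 0) (.kS (nat_lit 0) (nat_lit 0xca0020000100200400d0003011001000008010020040006004) (nat_lit 0x11040b208a) (nat_lit 0x800400200901000801400f01102001002802e022001) (nat_lit 0x1100100001002004008005c04b0730030131130000100200400d006c01f0370040020ca000005)) (.kS (nat_lit 0) (nat_lit 0xca0020000100200400d0003011001000008010020040006004)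 (nat_lit 0x11040b208a) (nat_lit 0x800400200901000801400f01102001002802e022001) (nat_lit 0x1100100001002004008005c04b0730030131130000100200400d006c01f0370040020ca000005)) (.cE (nat_lit 136) (nat_lit 0x1991741c71aa13b1d61091641a117c14f1921b316e1011dc1731ae1c111c18d1501e313e1a71ca1951781d91341871ea11f1c212d1f01e113c10f1d21fb1161c91a41051681db13614512819b1761e718a1d513814d1901231fe1df1021ed1301351d81eb1861171fa1a51c813d1e01d310e1af17211d1c016f1b21dd1001111cc17f1a210b1661b91541751981ab1c61031de1311ec17d1a019314e1d713a16510812914417719a1691041371da14b1261f91141d110c1bf1621c311e1f112c1191f414712a1bb1561891e41211fc1cf1121331ee18115c1f312e14119c10d1d01631be12714a1151f81591b410716a19f1421ad1701611bc18f15217b1961491241851e815b1b61c51a811b1f616710a1551b81cd1101a317e15f18216d1b01b515816b10619717a1251481bd16015318e12f1f219d1401ef13215d18019114c1ff12218b1e61391d41f511812b14618315e1b116c1fd1201131ce1571ba1e51881a91c41f711a1e91841b715a1cb1a617919415118c13f1e214319e1711ac00d0d00630be09f0420ad0700050680db0360a70ca0950780e708a0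d50380990740c70aa0330ee08105c0cd0100a307e03b0d60090640c50a801b0f60df0020ed0300210fc0cf0120e103c00f0d20f302e04109c0d90340870ea07b0960490240110cc07f0a20030de0310ec0a90c40f701a08b0e60390d40cb0a60790940b505806b0060af07201d0c00d100c0bf06209707a0250480690040370da04309e0710ac03d0e00d300e0fd0200130ce06f0b20dd0000f501802b0460d703a06500808d0500e303e01f0c202d0f00850e805b0b602704a0150f806700a0550b80190f404702a0b306e0010dc04d0900230fe0bb0560890e404502809b07605f08206d0b00a107c04f0920610bc08f0520730ae0c101c0590b400706a0fb0160c90a409104c0ff02208305e0b106c02904407709a00b0660b905404b0260f90140350d80eb08602f0f209d04005108c03f0e20170fa0a50c80e90840b705a0c301e0f102c0bd06005308e07d0a009304e0ef03205d0800750980ab0c60570ba0e5088) (nat_lit 0) (.kS (nat_lit 0) (nat_lit 0xca0020000100200400d0003111001000008010020040006004) (nat_lit 0x11040b208a) (nat_lit 0x800400200901000801400f01102001002802e022001) (nat_lit 0x11100100001002004008005c04b0730030130130000100200400d006c01f0370040020ca000005)) (.kS (nat_lit 0) (nat_lit 0xca0020000100200400d0003111001000008010020040006004)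 (nat_lit 0x11040b208a) (nat_lit 0x800400200901000801400f01102001002802e022001) (nat_lit 0x11100100001002004008005c04b0730030130130000100200400d006c01f0370040020ca000005)) .nil))) (.cD (nat_lit 221) (.extn (nat_lit 0x1111cc1231fe16f1b218115c12914411b1f61d713a1891e41171fa1491241351d810716a14319e12d1f015118c1631be14b12619517816910415b1b61af17214119c13d1e018f15217d1a01cf1121031de16d1b01f51181c71aa18b1e61551b818d1501bf1621731ae19d1401051681b715a1fb11612514813b1d61e518819917412b14615f1821311ec1cd1101ff1221e718a1b91541451281f711a1b316e15d1801a117c1131ce1e113c15318e11f1c21711ac1591b41eb18612714a17919419114c1a317e1ef1321011dc1a91c419b1761571ba10916419717a1c91a41b51581871ea1c311e1ad1701d110c1e313e1cb1a61151f81e91841db13612f1f21c111c1bd16010f1d21fd12014f19218315e1ed13017519814712a10b1661d513810d1d013f1e21f312e11d1c01851e81371da17b1961a51c81bb1561651081191f41ab1c61df1021b116c14d19017f1a216710a1391d41c51a817719a1331ee1dd1001211fc19314e1611bc1d310e19f1421f112c1d913416b1061a71ca1f91140b50580870ea0cb0a60150f803d0e008f052043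09e02d0f00030de06d0b00110cc0230fe0570ba00906407509804702a06f0b208105c0fd02004f09208b0e60550b80a90c409b07606900405b0b609707a0c90a405108c0630be02f0f20c101c09907402b0460e708a0b90540210fc09304e0df0020b106c09f0420f102c00d0d003f0e20fb0160250480590b40eb0860f302e01d0c00e103c05308e0a70ca0f90140050680b705a0c50a807709a03b0d60e508804d09007f0a20b306e05d0800350d800706a04b0260950780bd06000f0d20c301e0ad07008305e0ed03009104c0a307e0d703a0890e40f50180c70aa0ef0320010dc07d0a00cf01200b0660d503802904401b0f60e90840db0360170fa0490240d100c0e303e0af07204109c0190f40ab0c606700a0390d40a107c0130ce05f0820310ec01f0c20710ac08d0500bf06207b0960a50c80d903406b0060730ae09d0400610bc0d300e02704a0790940850e80370da0450280f701a0bb0560650080cd0100ff0220330ee0dd000) (nat_lit 0x100020008010050090004002001) (nat_lit 0x1020080040100) (nat_lit 2) (nat_lit 0) (nat_lit 0) (nat_lit 8) (nat_lit 0x10000000000000000000000000000000100) (.cE (nat_lit 8) (nat_lit 0x1991f41c712a13b1561091e41a11fc14f1121b31ee10115c17312e1c119c18d1d01e31be1a714a1951f81d91b418716a11f1421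2d1701e11bc10f1521fb1961c91241051e81db1b61451a819b1f61e710a1d51b814d11012317e1df1821ed1b01351581eb10611717a1a514813d1601d318e1af1f211d14016f1321dd18011114c17f12210b1e61b91d41751181ab14610315e13116c17d1201931ce1d71ba1651881291c417711a16918413715a14b1a61f91941d118c1bf1e21c319e1f11ac1191741471aa1bb1d618916412117c1cf19213316e1811dc1f31ae14111c10d15016313e1271ca1151781591341071ea19f1c21ad1f016113c18f1d217b1161491a418516815b1361c512811b17616718a1551381cd1901a31fe15f10216d1301b51d816b1861971fa1251c81bd1e015310e12f17219d1c01ef1b215d1001911cc1ff1a218b1661391541f519812b1c61831de1b11ec1fd1a011314e15713a1e51081a91441f719a1e91041b71da1cb12617911415110c13f16214311e17112c00d05006303e09f0c20ad0f00050e80db0b60a704a0950f80e700a0d50b80990f40c702a03306e0810dc0cd0900a30fe03b0560090e40c502801b0760df0820ed0b002107c0cf0920e10bc00f0520f30ae04101c0d90b408706a07b0160490a401104c07f02200305e03106c0a90440f709a08b0660390540cb0260790140b50d806b0860af0f201d0400d108c0bf0e20970fa0250c806908403705a04301e07102c03d0600d308e0fd0a001304e06f0320dd0800f509802b0c60d70ba06508808d0d00e30be01f04202d07008506805b0360270ca01507806708a0550380190740470aa0b30ee00105c04d01002307e0bb0d60890640450a809b0f605f00206d0300a10fc04f01206103c08f0d207302e0c109c0590340070ea0fb0960c90240910cc0ff0a20830de0b10ec0290c407701a00b0e60b90d404b0a60f90940350580eb00602f07209d0c005100c03f06201707a0a50480e90040b70da0c309e0f10ac0bd0e005300e07d0200930ce0ef0b205d0000750180ab04605703a0e5008)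 (nat_lit 0) (.kS (nat_lit 0) (nat_lit 0xca0020000100200400d0003011001000008010020040006004) (nat_lit 0x110416a052) (nat_lit 0x800400200901000801400f01102001002802e022001) (nat_lit 0x1100100001002004008005c04b0730031131130000100200400d006c03f0170040020ca000005)) (.kS (nat_lit 0) (nat_lit 0xca0020000100200400d0003011001000008010020040006004) (nat_lit 0x110416a052) (nat_lit 0x800400200901000801400f01102001002802e022001) (nat_lit 0x1100100001002004008005c04b0730031131130000100200400d006c03f0170040020ca000005)) (.cE (nat_lit 136) (nat_lit 0x1191741471aa1bb1d618916412117c1cf19213316e1811dc1f31ae14111c10d15016313e1271ca1151781591341071ea19f1c21ad1f016113c18f1d217b1161491a418516815b1361c512811b17616718a1551381cd1901a31fe15f10216d1301b51d816b1861971fa1251c81bd1e015310e12f17219d1c01ef1b215d1001911cc1ff1a218b1661391541f519812b1c61831de1b11ec1fd1a011314e15713a1e51081a91441f719a1e91041b71da1cb12617911415110c13f16214311e17112c1991f41c712a13b1561091e41a11fc14f1121b31ee10115c17312e1c119c18d1d01e31be1a714a1951f81d91b418716a1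1f14212d1701e11bc10f1521fb1961c91241051e81db1b61451a819b1f61e710a1d51b814d11012317e1df1821ed1b01351581eb10611717a1a514813d1601d318e1af1f211d14016f1321dd18011114c17f12210b1e61b91d41751181ab14610315e13116c17d1201931ce1d71ba1651881291c417711a16918413715a14b1a61f91941d118c1bf1e21c319e1f11ac08d0d00e30be01f04202d07008506805b0360270ca01507806708a0550380190740470aa0b30ee00105c04d01002307e0bb0d60890640450a809b0f605f00206d0300a10fc04f01206103c08f0d207302e0c109c0590340070ea0fb0960c90240910cc0ff0a20830de0b10ec0290c407701a00b0e60b90d404b0a60f90940350580eb00602f07209d0c005100c03f06201707a0a50480e90040b70da0c309e0f10ac0bd0e005300e07d0200930ce0ef0b205d0000750180ab04605703a0e500800d05006303e09f0c20ad0f00050e80db0b60a704a0950f80e700a0d50b80990f40c702a03306e0810dc0cd0900a30fe03b0560090e40c502801b0760df0820ed0b002107c0cf0920e10bc00f0520f30ae04101c0d90b408706a07b0160490a401104c07f02200305e03106c0a90440f709a08b0660390540cb0260790140b50d806b0860af0f201d0400d108c0bf0e20970fa0250c806908403705a04301e07102c03d0600d308e0fd0a001304e06f0320dd0800f509802b0c60d70ba065088)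 (nat_lit 0) (.kS (nat_lit 0) (nat_lit 0xca0020000100200400d0003111001000008010020040006004) (nat_lit 0x110416a052) (nat_lit 0x800400200901000801400f01102001002802e022001) (nat_lit 0x11100100001002004008005c04b0730031130130000100200400d006c03f0170040020ca000005)) (.kS (nat_lit 0) (nat_lit 0xca0020000100200400d0003111001000008010020040006004) (nat_lit 0x110416a052) (nat_lit 0x800400200901000801400f01102001002802e022001) (nat_lit 0x11100100001002004008005c04b0730031130130000100200400d006c03f0170040020ca000005)) .nil))) .nil))) .nil))) .nil)) .nil))) (.cD (nat_lit 8) (.kF (nat_lit 128) (nat_lit 0xd01000201206a0060200f00030100540050de002000002019001001065000007)) .nil))))) (.cD (nat_lit 18) (.mulh (nat_lit 1) (nat_lit 1) (.mulh (nat_lit 1) (nat_lit 1) (.dfs (nat_lit 32) (nat_lit 4104) (nat_lit 4104) (nat_lit 0x1004002001) (nat_lit 0x1007003001) (nat_lit 0) (nat_lit 0) (nat_lit 3) (nat_lit 0) (nat_lit 0) (nat_lit 0) (nat_lit 1) (nat_lit 0) (nat_lit 0x106c16a) (nat_lit 0xec136) (nat_lit 0x100000800100800002a00102a001054001076)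 (nat_lit 0x40000000100) (.cD (nat_lit 8) (.kF (nat_lit 136) (nat_lit 0x16040005010010000009019001001065000004)) (.cD (nat_lit 42) (.kF (nat_lit 16) (nat_lit 0x16040005010010000005015001026066005001065000005)) .nil))))) .nil)))) .nil))))))
theorem c78 : (chk [(x23, s49), (x25, s50), (x26, s51), (x27, s64), (x28, s77)] [] p78).n x23 s78 = true := by decide +kernel
noncomputable def p79 : Pf := (.ext (nat_lit 0) (nat_lit 0x8010020040004001) (nat_lit 0x111004008005c00202c) (nat_lit 0xf028008018004077001001) (nat_lit 0x800c018035) (nat_lit 0x1008005) (nat_lit 0x1115104) (nat_lit 0x3d01800800400e00103201c00800400e001) (.dfs (nat_lit 5) (nat_lit 0x100800c018035) (nat_lit 0x100800c01402b) (nat_lit 0x1020010004002001) (nat_lit 0x103201c00400e001) (nat_lit 18) (nat_lit 0) (nat_lit 2) (nat_lit 0) (nat_lit 0x8010020040006001) (nat_lit 22) (nat_lit 1) (nat_lit 0) (nat_lit 4160) (nat_lit 64) (nat_lit 0x1000104000168) (nat_lit 0x1000000000000000000000000100000000000000000000000000000000000000000000000000000000000000000) (.cD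 (nat_lit 260) (.kS (nat_lit 0) (nat_lit 0x1801002805e001008010020040006002) (nat_lit 0x1070104) (nat_lit 0x800400200901000801400f011) (nat_lit 0x1000803006400406600301801002805e004001002002)) (.cD (nat_lit 360) (.dfs (nat_lit 8) (nat_lit 0x101001803006a) (nat_lit 0x1010018020050) (nat_lit 0x1040020008004002001) (nat_lit 0x107a03000801c00203b) (nat_lit 0) (nat_lit 0) (nat_lit 2) (nat_lit 0) (nat_lit 0x8010020040006001) (nat_lit 25) (nat_lit 1) (nat_lit 0) (nat_lit 1) (nat_lit 0) (nat_lit 1) (nat_lit 0x2000000200000000000000000000000020000002000000000000000000000000000000000000000000000000000000000000000000000000000000) (.cD (nat_lit 313) (.kS (nat_lit 0) (nat_lit 0x200300500bc002008008000008010020040006003) (nat_lit 0x10701b4) (nat_lit 0x800400200901000801400f011) (nat_lit 0x80080000300200500bc0080020010080080000200300500bc0140f1001004)) (.cD (nat_lit 341) (.kS (nat_lit 0) (nat_lit 0x200300500bc002008008000008010020040006003) (nat_lit 0x1070134) (nat_lit 0x800400200901000801400f011) (nat_lit 0x80080000300200500bc0080020010080080000200300500bc0140d1001004))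 (.cD (nat_lit 441) (.kS (nat_lit 0) (nat_lit 0x65001000010020040080001065001000008010020040006004) (nat_lit 0x10020f7) (nat_lit 0x800400200901000801400f011) (nat_lit 0x200100600f40340ed0010650010000300200500bc00800200100106500001002004008005c04b002001065000006)) (.cD (nat_lit 469) (.cut (nat_lit 0)) .nil))))) .nil))))
theorem c79 : (chk [(x23, s78)] [] p79).n x23 s79 = true := by decide +kernel
noncomputable def p80 : Pf := (.ext (nat_lit 0) (nat_lit 0x8010020040004001) (nat_lit 0x11a00c00dc08000213b) (nat_lit 0x40020010008004035004020010008004002031001008008000003) (nat_lit 0x4008010020) (nat_lit 4103) (nat_lit 4406) (nat_lit 0x3201800800400a01b) (.dfs (nat_lit 7) (nat_lit 0x1004008010020) (nat_lit 0x1004008018032) (nat_lit 0x1002001) (nat_lit 0x100a01b) (nat_lit 26) (nat_lit 0) (nat_lit 2) (nat_lit 0) (nat_lit 0x8010020040006001) (nat_lit 8) (nat_lit 1) (nat_lit 0) (nat_lit 1) (nat_lit 0) (nat_lit 1) (nat_lit 0x40000000040000000000000000000000400000000400000000000000000000000000000000000000000000000000000000000000000000000000000)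 (.cD (nat_lit 310) (.kS (nat_lit 0) (nat_lit 0x65001000008010028007001004008010020004003) (nat_lit 0x10f01aa) (nat_lit 0x800400200501000800c007009) (nat_lit 0xb4004000008010020040014005001008008000008010028007004066002001065000005)) (.cD (nat_lit 346) (.kS (nat_lit 0) (nat_lit 0x800c010024008004008010020004002) (nat_lit 4206) (nat_lit 0x8004002005) (nat_lit 0x100180280170530020b400400000800c010024013007003)) (.cD (nat_lit 438) (.kS (nat_lit 0) (nat_lit 0x650010000080100280170010de002000004008010020004004) (nat_lit 0x10f012a) (nat_lit 0x800400200501000800c007009) (nat_lit 0xb4004000008010020040014005001066066000008010028017004076002001065000005)) (.cD (nat_lit 474) (.cut (nat_lit 0)) .nil))))))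
theorem c80 : (chk [(x23, s79)] [] p80).n x23 s80 = true := by decide +kernel
noncomputable def p81 : Pf := (.ext (nat_lit 0) (nat_lit 0) (nat_lit 0x11900400dc0800de) (nat_lit 0x4002001000800400100106500002c01000800400a003003) (nat_lit 0x2004008010) (nat_lit 4103) (nat_lit 4362) (nat_lit 0x1b00c004002005) (.dfs (nat_lit 7) (nat_lit 0x1002004008010) (nat_lit 0x100200400c01b) (nat_lit 4097) (nat_lit 4101) (nat_lit 11) (nat_lit 0) (nat_lit 2) (nat_lit 0) (nat_lit 0) (nat_lit 22) (nat_lit 1) (nat_lit 0) (nat_lit 4160) (nat_lit 64) (nat_lit 0x100014a00016a) (nat_lit 0x4000000040000000000000000000000000000000000000000000000000000000000000000000000000000000000) (.cD (nat_lit 330) (.cut (nat_lit 0)) (.cD (nat_lit 362) (.iso x23 s80 (nat_lit 0) (nat_lit 0x1100080040020010008004002081) (nat_lit 0x100080040020010008004002081) [(nat_lit 0x20010008004002005001001), (nat_lit 0x40020010008004002001003001), (nat_lit 0x20010008004002001005001)] (.cut (nat_lit 0))) .nil))))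
theorem c81 : (chk [(x23, s80)] [g87] p81).n x23 s81 = true := by decide +kernel
noncomputable def p82 : Pf := (.ext (nat_lit 0) (nat_lit 0xe5001000008010020040002002) (nat_lit 0x110004008002000c) (nat_lit 0x2c01000800400a0040e5001000040020010008004002003) (nat_lit 0x6002008012) (nat_lit 4106) (nat_lit 4375) (nat_lit 0x1f00c004002001) (.dfs (nat_lit 10) (nat_lit 0x1002004008010) (nat_lit 0x100200400c01f) (nat_lit 4097) (nat_lit 4097) (nat_lit 0) (nat_lit 0) (nat_lit 2) (nat_lit 0) (nat_lit 0x2004008010001001) (nat_lit 25) (nat_lit 1) (nat_lit 0) (nat_lit 1) (nat_lit 0) (nat_lit 1) (nat_lit 0) .nil))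
theorem c82 : (chk [] [] p82).n x29 s82 = true := by decide +kernel
noncomputable def p83 : Pf := (.ext (nat_lit 0) (nat_lit 0xe5001000008010020040002002) (nat_lit 0x110004008002000c) (nat_lit 0x2c01000800400a0040e5001000040020010008004002003) (nat_lit 0x6002008012) (nat_lit 4106) (nat_lit 4375) (nat_lit 0x1f00c004002001) (.dfs (nat_lit 10) (nat_lit 0x1002004008010) (nat_lit 0x100200400c01f) (nat_lit 4097) (nat_lit 4097) (nat_lit 0) (nat_lit 0) (nat_lit 2) (nat_lit 0) (nat_lit 0x2004008010001001) (nat_lit 25) (nat_lit 1) (nat_lit 0) (nat_lit 1) (nat_lit 0) (nat_lit 1) (nat_lit 0) .nil))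
theorem c83 : (chk [] [] p83).n x30 s83 = true := by decide +kernel
noncomputable def p84 : Pf := (.lft (nat_lit 0x8002004001000403d001002001001) (nat_lit 50) (nat_lit 0x10f60c00b6080) (nat_lit 0x8004002001000800405a06f) (.extn a57 (nat_lit 0x80040020010008004002001) (nat_lit 0x1010040020080) (nat_lit 2) (nat_lit 0) (nat_lit 0) (nat_lit 18) (nat_lit 0x40000000000000004000000000000) (.cE (nat_lit 50) b87 (nat_lit 0) (.cut (nat_lit 0)) (.cut (nat_lit 1)) (.cE (nat_lit 114) b103 (nat_lit 0) (.cut (nat_lit 2)) (.cut (nat_lit 3)) .nil))))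
theorem c84 : (chk [(x22, s48), (x23, s81), (x29, s82), (x30, s83)] [] p84).n x21 s84 = true := by decide +kernel
noncomputable def p85 : Pf := (.ext (nat_lit 0) (nat_lit 0x13010020079001001) (nat_lit 0x1080020040010006008) (nat_lit 0x79020010013001039001001) (nat_lit 0x4008010020) (nat_lit 0x1002001) (nat_lit 0x1027017) (nat_lit 0x2801800800100700c03601000800100700c) (.dfs (nat_lit 1) (nat_lit 0x1004008010020) (nat_lit 0x1001008010036) (nat_lit 0x1002001) (nat_lit 0x100700c) (nat_lit 19) (nat_lit 0) (nat_lit 2) (nat_lit 0) (nat_lit 0x4008010020001001) (nat_lit 23) (nat_lit 1) (nat_lit 0) (nat_lit 1) (nat_lit 0) (nat_lit 1) (nat_lit 0x28000000000000002800000) (.cD (nat_lit 23) (.kS (nat_lit 0) (nat_lit 0x8010020040001001) (nat_lit 0x1023043017) (nat_lit 0x800400200501800800400200900101000802e023030) (nat_lit 0x13010020079001039004003008010020040004002001002002)) (.cD (nat_lit 25) (.dfs (nat_lit 2) (nat_lit 0x1008010020040) (nat_lit 0x1002010030050) (nat_lit 0x1004002001) (nat_lit 0x100e01802d) (nat_lit 10) (nat_lit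 0) (nat_lit 2) (nat_lit 0) (nat_lit 0x8010020040001001) (nat_lit 10) (nat_lit 1) (nat_lit 0) (nat_lit 4174) (nat_lit 78) (nat_lit 0x1000027) (nat_lit 0x8000000000) (.cD (nat_lit 39) (.cut (nat_lit 0)) .nil)) (.cD (nat_lit 87) (.kS (nat_lit 0) (nat_lit 0x8010020040001001) (nat_lit 0x1023043057) (nat_lit 0x800400200501800800400200900101000802e023030) (nat_lit 0x13010020079001039004003008010020040004002001002002)) (.cD (nat_lit 89) (.kS (nat_lit 0) (nat_lit 0x8010020040001001) (nat_lit 0x1023043059) (nat_lit 0x800400200501800800400200900101000802e023030) (nat_lit 0x13010020079001039004003008010020040004002001002002)) .nil))))))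
theorem c85 : (chk [(x21, s84)] [] p85).n x21 s85 = true := by decide +kernel
noncomputable def p86 : Pf := (.ext (nat_lit 0) (nat_lit 0x4004000008010020040004002) (nat_lit 0x108802004002e) (nat_lit 0x400400004002001000800402001001c002001066020010002004004) (nat_lit 0x1002004008) (nat_lit 0x1006016001) (nat_lit 0x1003016017) (nat_lit 0x800400200300a00400200100b004002001) (.dfs (nat_lit 1) (nat_lit 0x1001002004008) (nat_lit 0x100100200400b) (nat_lit 1) (nat_lit 1) (nat_lit 3) (nat_lit 0) (nat_lit 2) (nat_lit 0) (nat_lit 0x4004000008010020040006002) (nat_lit 23) (nat_lit 1) (nat_lit 0) (nat_lit 4231) (nat_lit 135) (nat_lit 0x1000017000019000057000059) (nat_lit 0x28000000000000002800000) (.cD (nat_lit 23) (.kS (nat_lit 0) (nat_lit 0x800401002c00701001000000201002006600500201c010020004004) (nat_lit 4207) (nat_lit 0x800400200d) (nat_lit 0x400200801000d00200400801803601f00801400c00000800401002c01f008004)) (.cD (nat_lit 25) (.dfs (nat_lit 22) (nat_lit 0x1002004008010) (nat_lit 0x1002004008014) (nat_lit 4097) (nat_lit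 4097) (nat_lit 4) (nat_lit 0) (nat_lit 2) (nat_lit 0) (nat_lit 0x4004000008010020040006002) (nat_lit 22) (nat_lit 1) (nat_lit 0) (nat_lit 1) (nat_lit 0) (nat_lit 1) (nat_lit 0x1400000014000000140000001400000) (.cD (nat_lit 22) (.dfs (nat_lit 6) (nat_lit 0x100400801803d) (nat_lit 0x100c008018035) (nat_lit 0x1020010002001) (nat_lit 0x1020010017001) (nat_lit 8) (nat_lit 0) (nat_lit 2) (nat_lit 0) (nat_lit 0x8010020040006001) (nat_lit 3) (nat_lit 1) (nat_lit 0) (nat_lit 4142) (nat_lit 46) (nat_lit 0x1000023000035) (nat_lit 0x20000800000000) (.cD (nat_lit 35) (.cut (nat_lit 0)) (.cD (nat_lit 53) (.kA false (nat_lit 0x1601003004000501301002007a00100801002004800506f001000008010020040006005)) .nil))) (.cD (nat_lit 24) (.kS (nat_lit 0) (nat_lit 0x400801802100206f001000008010020040006003) (nat_lit 4183) (nat_lit 0x8004002009) (nat_lit 0x400400000c00801402f00200100106f00000400801802100b001004)) (.cD (nat_lit 54) (.kS (nat_lit 0) (nat_lit 0x400400000c00801402f001008010020040006003) (nat_lit 4151) (nat_lit 0x8004002009) (nat_lit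 0x6f00100000400801802900700200c00801402f002002004004000004)) (.cD (nat_lit 56) (.kS (nat_lit 0) (nat_lit 0xc00801402300106f001000008010020040006003) (nat_lit 4121) (nat_lit 0x8004002009) (nat_lit 0x400801002001b00203303300000c008014023002002003)) (.cD (nat_lit 86) (.kS (nat_lit 0) (nat_lit 0xc00801803100205a002000008010020040006003) (nat_lit 4207) (nat_lit 0x8004002009) (nat_lit 0x400801c03201700100a04a00000c00801803100e001003)) (.cD (nat_lit 88) (.kS (nat_lit 0) (nat_lit 0x400801802900206f001000008010020040006003) (nat_lit 4119) (nat_lit 0x8004002009) (nat_lit 0x400400000c00801402f00200100106f000004008018029003001004)) (.cD (nat_lit 118) (.kS (nat_lit 0) (nat_lit 0x400400000c00801402f001008010020040006003) (nat_lit 4151) (nat_lit 0x8004002009) (nat_lit 0x6f00100000400801802100f00200c00801402f002002004004000004)) (.cD (nat_lit 120) (.kS (nat_lit 0) (nat_lit 0xc00401403d007004008018039002008010020040006003) (nat_lit 0x106f037) (nat_lit 0x800400200901000800400a001) (nat_lit 0x400c01803901300a00100c00801403d01300600800400801803901700500100c00401403d01f00d008004))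 .nil))))))))) (.cD (nat_lit 87) (.kS (nat_lit 0) (nat_lit 0x800401002c00701001000000201002006600500201c010020004004) (nat_lit 4207) (nat_lit 0x800400200d) (nat_lit 0x400200801000900200400801803601f00801400c00000800401002c01f008004)) (.cD (nat_lit 89) (.kS (nat_lit 0) (nat_lit 0x400400000c00401002800700201002006600500201c010020004004) (nat_lit 4152) (nat_lit 0x800400200d) (nat_lit 0xc00401803200e00700200400e01f00300205a00200000c004010028002008004004000005)) .nil))))))
theorem c86 : (chk [(x21, s85)] [] p86).n x21 s86 = true := by decide +kernel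
noncomputable def p87 : Pf := (.anc (nat_lit 132) (nat_lit 0x4000103d00304a00106f001000004) (nat_lit 0x100400303b02d00e) (.czp (nat_lit 128) (nat_lit 0) (nat_lit 0x1080040020010008004) z2 (.dfs (nat_lit 14) (nat_lit 4097) (nat_lit 4097) (nat_lit 1) (nat_lit 1) (nat_lit 0) (nat_lit 0) (nat_lit 3) (nat_lit 0) (nat_lit 0) (nat_lit 0) (nat_lit 1) (nat_lit 0) (nat_lit 0x1020010008004) (nat_lit 0x20010008004) (nat_lit 0x1001004002004003004000008002008000020000028002028001010001070) (nat_lit 0x10000010100000110) (.cD (nat_lit 4) (.kF (nat_lit 4) (nat_lit 0x3804000301003d00502004a00306f001000001002002005)) (.cD (nat_lit 8) (.kF (nat_lit 8) (nat_lit 0x3804000301003d00502004a00306f001000001002002005)) (.cD (nat_lit 32) (.dfs (nat_lit 45) (nat_lit 4098) (nat_lit 4098) (nat_lit 4097) (nat_lit 4097) (nat_lit 0) (nat_lit 0) (nat_lit 3) (nat_lit 0) (nat_lit 0) (nat_lit 0) (nat_lit 1) (nat_lit 0) (nat_lit 0x1010008) (nat_lit 65544) (nat_lit 0x1001008000010001028000030) (nat_lit 0x1000000010001010100010100) (.cD (nat_lit 8) (.dfs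 (nat_lit 59) (nat_lit 4100) (nat_lit 4100) (nat_lit 0x1002001) (nat_lit 0x1002001) (nat_lit 0) (nat_lit 0) (nat_lit 3) (nat_lit 0) (nat_lit 0) (nat_lit 0) (nat_lit 1) (nat_lit 0) (nat_lit 1) (nat_lit 0) (nat_lit 1) (nat_lit 0x101000001010000010100000100) (.cD (nat_lit 8) (.kc (nat_lit 78) (nat_lit 0x3001001)) (.cD (nat_lit 32) (.kc (nat_lit 109) (nat_lit 0x5001001)) (.cD (nat_lit 40) (.kc (nat_lit 64) (nat_lit 0x7001001)) (.cD (nat_lit 64) (.kA false (nat_lit 0x5a00200000500600200900102002000000200100500900205a002000005)) (.cD (nat_lit 72) (.kA false (nat_lit 0x601003004000300100700300d00203603001005600300200300700b00205a002000005)) (.cD (nat_lit 96) (.kA false (nat_lit 0x3602600604000300200500100d00205a002000003)) (.cD (nat_lit 104) (.dfs (nat_lit 3) (nat_lit 0x1002007003008) (nat_lit 0x1005007003008) (nat_lit 0x1004001) (nat_lit 0x1004006) (nat_lit 0) (nat_lit 0) (nat_lit 2) (nat_lit 1) (nat_lit 0) (nat_lit 16) (nat_lit 1) (nat_lit 0) (nat_lit 4104) (nat_lit 8) (nat_lit 0x1000010000030) (nat_lit 0x1000000010000)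 (.cD (nat_lit 16) (.dfs (nat_lit 4) (nat_lit 0x100100e008010) (nat_lit 0x100a00e006010) (nat_lit 0x1004002) (nat_lit 0x100f007) (nat_lit 0) (nat_lit 0) (nat_lit 2) (nat_lit 0) (nat_lit 0) (nat_lit 20) (nat_lit 1) (nat_lit 0) (nat_lit 4128) (nat_lit 32) (nat_lit 0x100001c) (nat_lit 0x10000000) (.cD (nat_lit 28) (.cut (nat_lit 0)) .nil)) (.cD (nat_lit 48) (.kA false (nat_lit 0xc00e00601000100400400000900e008010002003)) .nil))) .nil)))))))) (.cD (nat_lit 16) (.dfs (nat_lit 59) (nat_lit 4100) (nat_lit 4100) (nat_lit 0x1002001) (nat_lit 0x1002001) (nat_lit 0) (nat_lit 0) (nat_lit 3) (nat_lit 0) (nat_lit 0) (nat_lit 0) (nat_lit 1) (nat_lit 0) (nat_lit 1) (nat_lit 0) (nat_lit 1) (nat_lit 0x10001000100010001000100010000) (.cD (nat_lit 16) (.kc (nat_lit 78) (nat_lit 0x3001001)) (.cD (nat_lit 32) (.kc (nat_lit 109) (nat_lit 0x5001001)) (.cD (nat_lit 48) (.kc (nat_lit 64) (nat_lit 0x7001001)) (.cD (nat_lit 64) (.kA false (nat_lit 0x5006004008001003003000002001004008002003)) (.cD (nat_lit 80) (.kA false (nat_lit 0x5003004008001003003000002003004008002003))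 (.cD (nat_lit 96) (.kA false (nat_lit 0x1002602004000300700500400d00206e06e000003)) (.cD (nat_lit 112) (.kA false (nat_lit 0x1001803804000300800401003d00501201002004a00306f001000002007004008002005)) .nil)))))))) (.cD (nat_lit 32) (.kc (nat_lit 123) (nat_lit 0x3001001)) (.cD (nat_lit 40) (.kF (nat_lit 40) (nat_lit 0x1004000300803d00501204a00306f001000001004002005)) (.cD (nat_lit 48) (.kF (nat_lit 48) (nat_lit 0x1004000300803d00501204a00306f001000001004002005)) (.cD (nat_lit 64) (.dfs (nat_lit 59) (nat_lit 4100) (nat_lit 4100) (nat_lit 0x1002001) (nat_lit 0x1002001) (nat_lit 0) (nat_lit 0) (nat_lit 3) (nat_lit 0) (nat_lit 0) (nat_lit 0) (nat_lit 1) (nat_lit 0) (nat_lit 0x1010008) (nat_lit 65544) (nat_lit 0x1001008000010001028000030) (nat_lit 0x1000000010001010100010100) (.cD (nat_lit 8) (.kA false (nat_lit 0x5a00200000603601605000300100200600a00205a002000004)) (.cD (nat_lit 16) (.kA false (nat_lit 0x5a00200000500700300a00102601003005000405a002000004)) (.cD (nat_lit 32) (.kc (nat_lit 109) (nat_lit 0x5001001)) (.cD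 (nat_lit 40) (.kA false (nat_lit 0x5a00200002603601605000300500200600a00205a002000004)) (.cD (nat_lit 48) (.kA false (nat_lit 0x5a00200000500700300a00102601003005000405a002000004)) (.cD (nat_lit 64) (.kc (nat_lit 78) (nat_lit 0x3001001)) (.cD (nat_lit 96) (.kc (nat_lit 64) (nat_lit 0x7001001)) .nil)))))))) (.cD (nat_lit 96) (.kF (nat_lit 96) (nat_lit 0x1004000300803d00501204a00306f001000001004002005)) .nil)))))))) (.cD (nat_lit 40) (.dfs (nat_lit 45) (nat_lit 4098) (nat_lit 4098) (nat_lit 4097) (nat_lit 4097) (nat_lit 0) (nat_lit 0) (nat_lit 3) (nat_lit 0) (nat_lit 0) (nat_lit 0) (nat_lit 1) (nat_lit 0) (nat_lit 1) (nat_lit 0) (nat_lit 1) (nat_lit 0x101000001010000010100000100) (.cD (nat_lit 8) (.dfs (nat_lit 59) (nat_lit 4100) (nat_lit 4100) (nat_lit 0x1002001) (nat_lit 0x1002001) (nat_lit 0) (nat_lit 0) (nat_lit 3) (nat_lit 0) (nat_lit 0) (nat_lit 0) (nat_lit 1) (nat_lit 0) (nat_lit 1) (nat_lit 0) (nat_lit 1) (nat_lit 0x101000001010000010100000100) (.cD (nat_lit 8) (.kc (nat_lit 78) (nat_lit 0x3001001)) (.cD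 (nat_lit 32) (.kc (nat_lit 64) (nat_lit 0x7001001)) (.cD (nat_lit 40) (.kc (nat_lit 109) (nat_lit 0x5001001)) (.cD (nat_lit 64) (.kA false (nat_lit 0x5a00200000500600700900102002000000200100700900205a002000005)) (.cD (nat_lit 72) (.kA false (nat_lit 0x300600700800103001601006600400500700300a00102601003005000405a002000005)) (.cD (nat_lit 96) (.kA false (nat_lit 0x500700600800102002000000200700100f00205a002000004)) (.cD (nat_lit 104) (.dfs (nat_lit 3) (nat_lit 4101) (nat_lit 4098) (nat_lit 1) (nat_lit 1) (nat_lit 0) (nat_lit 0) (nat_lit 1) (nat_lit 4160) (nat_lit 0x8004002001000800405a06f) (nat_lit 0) (nat_lit 1) (nat_lit 0) (nat_lit 1) (nat_lit 0) (nat_lit 1) (nat_lit 0) .nil) .nil)))))))) (.cD (nat_lit 32) (.kF (nat_lit 32) (nat_lit 0x1004000300803d00501204a00306f001000001004002005)) (.cD (nat_lit 40) (.kc (nat_lit 123) (nat_lit 0x3001001)) (.cD (nat_lit 64) (.dfs (nat_lit 59) (nat_lit 4100) (nat_lit 4100) (nat_lit 0x1002001) (nat_lit 0x1002001) (nat_lit 0) (nat_lit 0) (nat_lit 3) (nat_lit 0) (nat_lit 0) (nat_lit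 0) (nat_lit 1) (nat_lit 0) (nat_lit 1) (nat_lit 0) (nat_lit 1) (nat_lit 0x101000001010000010100000100) (.cD (nat_lit 8) (.kA false (nat_lit 0x5a00200000603601005000300100200700a00205a002000004)) (.cD (nat_lit 32) (.dfs (nat_lit 3) (nat_lit 4098) (nat_lit 4101) (nat_lit 1) (nat_lit 1) (nat_lit 0) (nat_lit 0) (nat_lit 1) (nat_lit 4160) (nat_lit 0x8004002001000800405a06f) (nat_lit 0) (nat_lit 1) (nat_lit 0) (nat_lit 1) (nat_lit 0) (nat_lit 1) (nat_lit 0) .nil) (.cD (nat_lit 40) (.kc (nat_lit 109) (nat_lit 0x5001001)) (.cD (nat_lit 64) (.kc (nat_lit 78) (nat_lit 0x3001001)) (.cD (nat_lit 72) (.kA false (nat_lit 0x5a00200003003602605000300300200500a00205a002000004)) (.cD (nat_lit 96) (.kA false (nat_lit 0x5a00200001003600605000300700200100a00205a002000004)) (.cD (nat_lit 104) (.kc (nat_lit 64) (nat_lit 0x7001001)) .nil)))))))) (.cD (nat_lit 72) (.dfs (nat_lit 59) (nat_lit 4100) (nat_lit 4100) (nat_lit 0x1002001) (nat_lit 0x1002001) (nat_lit 0) (nat_lit 0) (nat_lit 3) (nat_lit 0) (nat_lit 0) (nat_lit 0) (nat_lit 1)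 (nat_lit 0) (nat_lit 1) (nat_lit 0) (nat_lit 1) (nat_lit 0x101000001010000010100000100) (.cD (nat_lit 8) (.kA false (nat_lit 0x6003001008001003003000001003006008002004004000004)) (.cD (nat_lit 32) (.kA false (nat_lit 0x200700100800102002000000500700600f00205a002000004)) (.cD (nat_lit 40) (.kc (nat_lit 109) (nat_lit 0x5001001)) (.cD (nat_lit 64) (.kA false (nat_lit 0x5a00200000300600100900102002000000300100600900205a002000005)) (.cD (nat_lit 72) (.kc (nat_lit 78) (nat_lit 0x3001001)) (.cD (nat_lit 96) (.kc (nat_lit 64) (nat_lit 0x7001001)) (.cD (nat_lit 104) (.kA false (nat_lit 0x1002601604000300700500600d00205a002000003)) .nil)))))))) (.cD (nat_lit 96) (.kF (nat_lit 96) (nat_lit 0x1004000300803d00501204a00306f001000001004002005)) (.cD (nat_lit 104) (.kF (nat_lit 104) (nat_lit 0x1004000300803d00501204a00306f001000001004002005)) .nil)))))))) (.cD (nat_lit 64) (.kF (nat_lit 64) (nat_lit 0x3804000301003d00502004a00306f001000001002002005)) .nil))))))))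
theorem c87 : (chk [(x21, s86)] [] p87).n x21 s87 = true := by decide +kernel
noncomputable def p88 : Pf := (.kS (nat_lit 0) (nat_lit 0x8018020040002010010000008010020040004003) (nat_lit 4334) (nat_lit 0x8004002005) (nat_lit 0x10010000008010020040004001010010000008018020040035001004))
theorem c88 : (chk [] [] p88).n x31 s88 = true := by decide +kernel
noncomputable def p89 : Pf := (.anz (nat_lit 128) (.iso x32 ⟨[([nat_lit 241, nat_lit 173, nat_lit 256, nat_lit 225, nat_lit 192, nat_lit 224, nat_lit 29, nat_lit 218], [nat_lit 268, nat_lit 113, nat_lit 241, nat_lit 109, nat_lit 224, nat_lit 32, nat_lit 61, nat_lit 106]), ([nat_lit 16, nat_lit 9, nat_lit 109, nat_lit 224, nat_lit 32, nat_lit 61, nat_lit 106], [nat_lit 64, nat_lit 61, nat_lit 169, nat_lit 148, nat_lit 32, nat_lit 253, nat_lit 2])], [], [], [], [], [], true, false, []⟩ (nat_lit 0) (nat_lit 0x100103a05608000a004010100002) (nat_lit 0x20200fd0940040f1008001100) [(nat_lit 0x80040020010008004002001001001), (nat_lit 0x40020010008004002001003001)] (.syr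 (nat_lit 253) false (nat_lit 1) (nat_lit 1) (nat_lit 225) (nat_lit 0x1004002) (nat_lit 0x1100010008004002001) (nat_lit 0x1000100b80040020e1) (nat_lit 0x10000040040040050040000100010100020100050100010c00011000021000031000041000020b40050b40050240010f000006000206000012c00212c00312c00512c0001a00031a00001600021600050940021cc0031cc0051cc) (nat_lit 0x10000000000000001000000000000000000000000000000000000000100010010) (.cD (nat_lit 32) (.dfs (nat_lit 2) (nat_lit 1) (nat_lit 1) (nat_lit 4097) (nat_lit 4097) (nat_lit 0) (nat_lit 0) (nat_lit 0) (nat_lit 0) (nat_lit 0) (nat_lit 0) (nat_lit 1) (nat_lit 0) (nat_lit 0x1100040010008004002001) (nat_lit 0x1000400100b80040020e1) (nat_lit 0x10000020030020040020060020000060030060040060050060060060000070010070020070030070040070060070000130020130060130060720060220060520010e60050e60060e600309600609600607600605600301a0050e70060e70060770040b70060b70060c70060970000a30060a30060830010ff0060b60060260060570030ab) (nat_lit 0x800c4) (.cD (nat_lit 2) (.kF (nat_lit 143) (nat_lit 0x3001001001))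 (.cD (nat_lit 6) (.kF (nat_lit 143) (nat_lit 0x480400050d20f2004003001001003)) (.cD (nat_lit 7) (.czs (nat_lit 7) z12 (nat_lit 32) (.dfs (nat_lit 4) (nat_lit 4097) (nat_lit 4097) (nat_lit 4098) (nat_lit 4098) (nat_lit 0) (nat_lit 0) (nat_lit 3) (nat_lit 0) (nat_lit 0) (nat_lit 0) (nat_lit 1) (nat_lit 0) (nat_lit 0x10c0083) (nat_lit 0xc0083) (nat_lit 0x10010090010840000c00000dd) (nat_lit 0x20000001000000000000001000000000000000002000000120000200) (.cD (nat_lit 9) (.kF (nat_lit 4) (nat_lit 0x50020020e00e0000001002001003)) (.cD (nat_lit 29) (.kF (nat_lit 4) (nat_lit 0x5002002020044006138108000001002001004)) (.cD (nat_lit 32) (.kc (nat_lit 73) (nat_lit 0x5001001)) (.cD (nat_lit 61) (.kF (nat_lit 4) (nat_lit 0x5002002030044006138108000001002001004)) (.cD (nat_lit 132) (.kF (nat_lit 4) (nat_lit 0x50020020e00e0000001002001003)) (.cD (nat_lit 192) (.kF (nat_lit 4) (nat_lit 0x5002002009009000001002001003)) (.cD (nat_lit 221) (.kF (nat_lit 4) (nat_lit 0x5002002009009000001002001003)) .nil))))))))) (.cD (nat_lit 19) (.czp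 (nat_lit 19) (nat_lit 0x1002001) (nat_lit 0x1020050088084002009) z11 (.dfs (nat_lit 4) (nat_lit 4097) (nat_lit 4097) (nat_lit 4098) (nat_lit 4098) (nat_lit 0) (nat_lit 0) (nat_lit 3) (nat_lit 0) (nat_lit 0) (nat_lit 0) (nat_lit 1) (nat_lit 0) (nat_lit 0x1050088084002009) (nat_lit 0x700f8084002009) (nat_lit 0x100100900300900400900001100101100201100101d001084003084004084) (nat_lit 0x1000000000000000000000000120020200) (.cD (nat_lit 9) (.kF (nat_lit 4) (nat_lit 0x5002002079079000001002001003)) (.cD (nat_lit 17) (.kF (nat_lit 4) (nat_lit 0x5002002002002000001002001003)) (.cD (nat_lit 29) (.kF (nat_lit 4) (nat_lit 0x5002002002002000001002001003)) (.cD (nat_lit 32) (.kc (nat_lit 73) (nat_lit 0x5001001)) (.cD (nat_lit 132) (.kF (nat_lit 4) (nat_lit 0x5002002079079000001002001003)) .nil))))))) .nil))))) (.cD (nat_lit 4) (.anc (nat_lit 253) (nat_lit 0x1001001) (nat_lit 0x10c0020050018004002001) (.kn (nat_lit 1) (nat_lit 0x10c0020050018004002001) false (nat_lit 0x1100010004001) (nat_lit 0x1000100040e1) (nat_lit 0x10000040020040030040010b4)))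 (.cD (nat_lit 16) (.anc (nat_lit 253) (nat_lit 0x1001001) (nat_lit 0x10c0020050018004002001) (.kn (nat_lit 1) (nat_lit 0x10c0020050018004002001) false (nat_lit 0x1100004002001) (nat_lit 0x1000040020e1) (nat_lit 0x1000010001010002010003010))) (.cD (nat_lit 192) (.anc (nat_lit 32) (nat_lit 0x30003001) (nat_lit 0x1100080040020010008004002001) (.kn (nat_lit 1) (nat_lit 0x1100080040020010008004002001) false (nat_lit 4098) (nat_lit 2) (nat_lit 0x10000c0))) (.cD (nat_lit 256) (.anc (nat_lit 253) (nat_lit 0x1001001) (nat_lit 0x10c0020050018004002) (.kn (nat_lit 1) (nat_lit 0x10c0020050018004002) false (nat_lit 0x1100010008004002001) (nat_lit 0x1000100b80040020e1) (nat_lit 0x100110000210000310000410000012c00212c00312c00512c))) .nil))))))))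
theorem c89 : (chk [] [g65] p89).n x31 s89 = true := by decide +kernel
noncomputable def p90 : Pf := (.ext (nat_lit 0) (nat_lit 0) (nat_lit 0x1200080100040) (nat_lit 0x60020008010003082070020030002066020010022003011001000004) (nat_lit 0x200100400c) (nat_lit 4139) (nat_lit 4139) (nat_lit 0xc004002001) (.dfs (nat_lit 43) (nat_lit 0x100200100400c) (nat_lit 0x1002001004008) (nat_lit 4104) (nat_lit 4108) (nat_lit 6) (nat_lit 0) (nat_lit 2) (nat_lit 0) (nat_lit 0) (nat_lit 43) (nat_lit 1) (nat_lit 0) (nat_lit 1) (nat_lit 0) (nat_lit 1) (nat_lit 0) .nil))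
theorem c90 : (chk [] [] p90).n x33 s90 = true := by decide +kernel
noncomputable def p91 : Pf := (.ext (nat_lit 0) (nat_lit 0) (nat_lit 0x1200080100040) (nat_lit 0x60020008010003082070020030002066020010022003011001000004) (nat_lit 0x200100400c) (nat_lit 4139) (nat_lit 4139) (nat_lit 0xc004002001) (.dfs (nat_lit 43) (nat_lit 0x100200100400c) (nat_lit 0x1002001004008) (nat_lit 4104) (nat_lit 4108) (nat_lit 6) (nat_lit 0) (nat_lit 2) (nat_lit 0) (nat_lit 0) (nat_lit 43) (nat_lit 1) (nat_lit 0) (nat_lit 1) (nat_lit 0) (nat_lit 1) (nat_lit 0) .nil))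
theorem c91 : (chk [] [] p91).n x34 s91 = true := by decide +kernel
noncomputable def p92 : Pf := (.anz (nat_lit 256) (.syr (nat_lit 128) false (nat_lit 0) (nat_lit 0) (nat_lit 0) (nat_lit 4608) (nat_lit 0x1200080040020010008004002001) (nat_lit 0x2000800400200101681bc002111) (nat_lit 0x100008000108000308000000200300200400200500200600200700200800200000c00200c00400c00500c00101000201000301000601000701000001400101400201400501400801400002000102000202000402000602000004e00104e00204e00304e00504e00604e00704e00804e0000b800204a00304a00504a00604a00704a00804a0021ae0081760021a00031a00061a00031c80061c80021740061740021ec0071ec00106600306600506600606600706600614e0081e2) (nat_lit 0x10000000000000000010000000000000100000000000040000000000100111004) (.cD (nat_lit 128) (.iso x36 ⟨[([nat_lit 10, nat_lit 4, nat_lit 890, nat_lit 14, nat_lit 20, nat_lit 352, nat_lit 64, nat_lit 156, nat_lit 273], [nat_lit 994, nat_lit 884, nat_lit 394, nat_lit 78, nat_lit 268, nat_lit 64, nat_lit 288, nat_lit 956, nat_lit 521]), ([nat_lit 18, nat_lit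 684, nat_lit 882, nat_lit 14, nat_lit 128, nat_lit 64, nat_lit 156, nat_lit 1], [nat_lit 718, nat_lit 684, nat_lit 942, nat_lit 162, nat_lit 192, nat_lit 64, nat_lit 156, nat_lit 193])], [], [], [], [], [nat_lit 156], true, false, []⟩ (nat_lit 0) (nat_lit 0x1014026040100032006008002001200) (nat_lit 0x104009c080270374008014004002) [(nat_lit 0x100080040020010008004002001003001), (nat_lit 0x80040020010008004002001005001)] (.syr (nat_lit 156) true (nat_lit 3) (nat_lit 2) (nat_lit 822) (nat_lit 1) (nat_lit 0x1200100080020010008004002001) (nat_lit 0x2003000802601702b8004336001) (nat_lit 0x10010800020800030800050800000a00010a00030a00040a00050a00000b00030b00060b00070b00001200002800042800062700012680022680032680062680072680082680001480031480022a00051c0002320004320000190) (nat_lit 0x1000000000000000000000000000100010000000100000000000000010000000000000000) (.cD (nat_lit 64) (.anc (nat_lit 64) (nat_lit 0x1002001) (nat_lit 0x1200100080040020010008004002) (.kn (nat_lit 1) (nat_lit 0x1200100080040020010008004002) false (nat_lit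 0x1004002) (nat_lit 17206) (nat_lit 0x100009c00109c))) (.cD (nat_lit 128) (.anc (nat_lit 352) (nat_lit 0x10020082b800007e006003) (nat_lit 0x12001800400a001002800400a003) (.kn (nat_lit 1) (nat_lit 0x12001800400a001002800400a003) false (nat_lit 0x1004002) (nat_lit 17206) (nat_lit 0x100009c00109c))) (.cD (nat_lit 160) (.anc (nat_lit 352) (nat_lit 0x10020cb00306b00601017000007e006005) (nat_lit 0x12001800400a001002800400a003) (.kn (nat_lit 1) (nat_lit 0x12001800400a001002800400a003) false (nat_lit 0x1004002) (nat_lit 17206) (nat_lit 0x100009c00109c))) (.cD (nat_lit 176) (.anc (nat_lit 352) (nat_lit 0x10020082b800003900600233600007e006005) (nat_lit 0x12001800400a001002800400a003) (.kn (nat_lit 1) (nat_lit 0x12001800400a001002800400a003) false (nat_lit 0x1004002) (nat_lit 17206) (nat_lit 0x100009c00109c))) (.cD (nat_lit 288) (.anc (nat_lit 288) (nat_lit 0x1002001) (nat_lit 0x12001800400a001002800400a003) (.kn (nat_lit 1) (nat_lit 0x12001800400a001002800400a003) false (nat_lit 0x1004002) (nat_lit 17206) (nat_lit 0x100009c00109c)))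 .nil))))))) (.cD (nat_lit 256) (.dfs (nat_lit 512) (nat_lit 1) (nat_lit 1) (nat_lit 4097) (nat_lit 4097) (nat_lit 0) (nat_lit 0) (nat_lit 0) (nat_lit 0) (nat_lit 0) (nat_lit 0) (nat_lit 1) (nat_lit 0) (nat_lit 0x1200080040020010008004002001) (nat_lit 0x2000800400200101681bc002111) (nat_lit 0x100020000120000220000320000021800121800221800321800421800521800021700221700321700421700621700821700021f00121f00221f00321f00621f00821f00021300121300221300521300821300022900122900322900622900022b00122b00322b00522b00822b00022d00322d00422d00522d00023f00123f00823f0002870012870082870012100022100032100072100023480033480043480042d800127c00227c00327c00427c00527c00627c00827c00029c00229c00429c00529c00629c00829c0033a00063a00022780003180013180012f70032f70062f70082f70003cf0033cf0063cf0002770082770012eb0022eb0042eb00226b00326b00837f00031f00131f00831f00124b00324b00235900335900635900327300627300223d00323d00523d0022800042800012700023f80063f80012c400121c00131c0013a4005344) (nat_lit 0x80000000000000000080002a008188000100000000000000000000000000000000000000000000000000000000000000000000000000000000000000000000000000000000000000000000000000000000)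 (.cD (nat_lit 512) (.kF (nat_lit 128) (nat_lit 0x2001001001)) (.cD (nat_lit 536) (.kF (nat_lit 128) (nat_lit 0x2009000515f007000002001001003)) (.cD (nat_lit 535) (.kb (nat_lit 755) (nat_lit 0x1002148003002) (nat_lit 0x1100080020018014006205)) (.cD (nat_lit 543) (.kb (nat_lit 991) (nat_lit 0x1002083006002) (nat_lit 0x11000c0060010008004002)) (.cD (nat_lit 531) (.kb (nat_lit 531) (nat_lit 0x1002001) (nat_lit 0x110008004003800c01e205)) (.cD (nat_lit 553) (.kb (nat_lit 553) (nat_lit 0x1002001) (nat_lit 0x11000e001002800403a201)) (.cD (nat_lit 555) (.kb (nat_lit 555) (nat_lit 0x1002001) (nat_lit 0x110008004003800c006205)) (.cD (nat_lit 557) (.kb (nat_lit 557) (nat_lit 0x1002001) (nat_lit 0x11000e0070048004002201)) (.cD (nat_lit 575) (.kb (nat_lit 575) (nat_lit 0x1002001) (nat_lit 0x110004002001008800400a)) (.cD (nat_lit 647) (.kb (nat_lit 647) (nat_lit 0x1002001) (nat_lit 0x11000c0060010008004022)) .nil))))))))))) (.cD (nat_lit 2) (.anc (nat_lit 128) (nat_lit 0x1001001) (nat_lit 0x1200100080040020018004) (.kn (nat_lit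 1) (nat_lit 0x1200100080040020018004) false (nat_lit 0x1200080040020010008004001) (nat_lit 0x2000800400200101681bc111) (nat_lit 0x100000200200200300200400200500200600200700200104a))) (.cD (nat_lit 12) (.anc (nat_lit 128) (nat_lit 0x1001001) (nat_lit 0x120010008004002001800400b) (.kn (nat_lit 1) (nat_lit 0x120010008004002001800400b) false (nat_lit 0x1020010004001) (nat_lit 0x200101bc111) (nat_lit 0x100000c00100c00200c00300c))) (.cD (nat_lit 16) (.anc (nat_lit 128) (nat_lit 0x1001001) (nat_lit 0x120010008004002001800400b) (.kn (nat_lit 1) (nat_lit 0x120010008004002001800400b) false (nat_lit 0x1040008004002) (nat_lit 0x401681bc002) (nat_lit 0x1000010001010002010003010))) (.cD (nat_lit 20) (.anc (nat_lit 128) (nat_lit 0x1001001) (nat_lit 0x120010008004002001800400b) (.kn (nat_lit 1) (nat_lit 0x120010008004002001800400b) false (nat_lit 0x1020004002001) (nat_lit 0x201bc002111) (nat_lit 0x1000014001014002014003014))) (.cD (nat_lit 32) (.anc (nat_lit 128) (nat_lit 0x1001001) (nat_lit 0x120010008004002001800400b) (.kn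 (nat_lit 1) (nat_lit 0x120010008004002001800400b) false (nat_lit 0x1010004002001) (nat_lit 0x101bc002111) (nat_lit 0x1000020001020002020003020))) (.cD (nat_lit 78) (.anc (nat_lit 128) (nat_lit 0x1001001) (nat_lit 0x1200100080040020018004) (.kn (nat_lit 1) (nat_lit 0x1200100080040020018004) false (nat_lit 0x1200080040020008004002001) (nat_lit 0x2000800400201681bc002111) (nat_lit 0x100004e00104e00204e00304e00404e00504e00604e00704e))) (.cD (nat_lit 184) (.anc (nat_lit 256) (nat_lit 0x40003001) (nat_lit 0x1200100080040020010008004002001) (.kn (nat_lit 1) (nat_lit 0x1200100080040020010008004002001) false (nat_lit 4097) (nat_lit 273) (nat_lit 0x10000b8))) .nil)))))))))))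
theorem c92 : (chk [] [g76] p92).n x35 s92 = true := by decide +kernel
noncomputable def p93 : Pf := (.clm (.cut (nat_lit 0)) (.dfs (nat_lit 512) (nat_lit 1) (nat_lit 1) (nat_lit 1) (nat_lit 1) (nat_lit 0) (nat_lit 0) (nat_lit 0) (nat_lit 0) (nat_lit 0) (nat_lit 0) (nat_lit 1) (nat_lit 0) (nat_lit 0x1200080040020010008004002001) (nat_lit 0x2000800400200101681bc002111) (nat_lit 0x100020000120000220000320000021300121300221300521300821300021700221700321700421700621700821700021800121800221800321800421800521800021f00121f00221f00321f00621f00821f00022900122900322900622900022b00122b00322b00522b00822b00022d00322d00422d00522d00023f00123f00823f0002870012870082870012100022100032100072100023480033480043480042d800124b00324b0012f70032f70062f70082f70003cf0033cf0063cf00027700827700127c00227c00327c00427c00527c00627c00827c00029c00229c00429c00529c00629c00829c0033a00063a00022780003180013180012eb0022eb0042eb00226b00326b00837f00031f00131f00831f00235900335900635900327300627300223d00323d00523d0022800042800012700023f80063f80012c400121c00131c0013a4005344)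 (nat_lit 0x80000000000000000080002a008188000100000000000000000000000000000000000000000000000000000000000000000000000000000000000000000000000000000000000000000000000000000000) (.cD (nat_lit 512) (.kin (nat_lit 1) (nat_lit 0)) (.cD (nat_lit 531) (.kb (nat_lit 531) (nat_lit 0x1002001) (nat_lit 0x110008004003800c01e205)) (.cD (nat_lit 535) (.kb (nat_lit 755) (nat_lit 0x1002148003002) (nat_lit 0x1100080020018014006205)) (.cD (nat_lit 536) (.kn (nat_lit 1) (nat_lit 0x1200100080040020010) false (nat_lit 0x1200040020010008004002001) (nat_lit 0x2000400200101681bc002111) (nat_lit 0x100021800121800221800321800421800521800127c00227c00327c00427c00527c00627c00727c00029c00229c00429c)) (.cD (nat_lit 543) (.kb (nat_lit 991) (nat_lit 0x1002083006002) (nat_lit 0x11000c0060010008004002)) (.cD (nat_lit 553) (.kb (nat_lit 553) (nat_lit 0x1002001) (nat_lit 0x11000e001002800403a201)) (.cD (nat_lit 555) (.kb (nat_lit 555) (nat_lit 0x1002001) (nat_lit 0x110008004003800c006205)) (.cD (nat_lit 557) (.kb (nat_lit 557) (nat_lit 0x1002001)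 (nat_lit 0x11000e0070048004002201)) (.cD (nat_lit 575) (.kb (nat_lit 575) (nat_lit 0x1002001) (nat_lit 0x110004002001008800400a)) (.cD (nat_lit 647) (.kb (nat_lit 647) (nat_lit 0x1002001) (nat_lit 0x11000c0060010008004022)) .nil))))))))))))
theorem c93 : (chk [(x35, s92)] [] p93).n x35 s93 = true := by decide +kernel
noncomputable def p94 : Pf := (.ext (nat_lit 0) (nat_lit 0x7e0200400d20031bc004000002) (nat_lit 0x12980801001b800400b00f) (nat_lit 0xe305003002002402802b001001) (nat_lit 0x1800803805b) (nat_lit 0x1009002) (nat_lit 0x1041010) (nat_lit 0x7b03801000800c02103a06c02801000800402e035) (.dfs (nat_lit 2) (nat_lit 0x101800803805b) (nat_lit 0x1018008030067) (nat_lit 0x1040020010004002001) (nat_lit 0x106c02801000402e035) (nat_lit 0) (nat_lit 0) (nat_lit 2) (nat_lit 0) (nat_lit 0x7e0200400d20051bc004000002) (nat_lit 16) (nat_lit 1) (nat_lit 0) (nat_lit 4480) (nat_lit 384) (nat_lit 0x10000100000c8) (nat_lit 0x100000000000000000000000000000000000000000000010000) (.cD (nat_lit 16) (.dfs (nat_lit 9) (nat_lit 0x10300100700b6)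 (nat_lit 0x10300100400c0) (nat_lit 0x1080040020008004002001) (nat_lit 0x10f6070020018042074069) (nat_lit 70) (nat_lit 0) (nat_lit 2) (nat_lit 0) (nat_lit 0x7e0200400d20051bc004000002) (nat_lit 65) (nat_lit 1) (nat_lit 0) (nat_lit 1) (nat_lit 0) (nat_lit 1) (nat_lit 0x2000000000000000000000000000000000000000000000200000000000000000200000000000000000000000000000000000000000000020000000000000000) (.cD (nat_lit 65) (.kS (nat_lit 0) (nat_lit 0x600200e016c00207e0200400d20051bc004000003) (nat_lit 0x10dc04a) (nat_lit 0x8004002009010008014017001) (nat_lit 0x400600a01d005c09b0010200400801000100020010600200e016c0cc0e9001003)) (.cD (nat_lit 249) (.kS (nat_lit 0) (nat_lit 0x400200e016c00204004000007e0200400d20051bc004000004) (nat_lit 0x10e01a8) (nat_lit 0x8004002009010008014017001) (nat_lit 0x400400000200400801000100020010400400000400200e016c01c0c7001004)) (.cD (nat_lit 321) (.kS (nat_lit 0) (nat_lit 0x400200e016c00204004000007e0200400d20051bc004000004) (nat_lit 0x10e00a8) (nat_lit 0x8004002009010008014017001) (nat_lit 0x400400000200400801000100020010400400000400200e016c01c087001004))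 (.cD (nat_lit 505) (.cut (nat_lit 0)) .nil))))) (.cD (nat_lit 200) (.kS (nat_lit 0) (nat_lit 0x1002004008000107e0200400d20051bc004000003) (nat_lit 0x11e00c8) (nat_lit 0x8004002009010008014017001) (nat_lit 0x200300500e3024001003010020040080008001002002)) .nil))))
theorem c94 : (chk [(x35, s93)] [] p94).n x35 s94 = true := by decide +kernel
noncomputable def p95 : Pf := (.ext (nat_lit 0) (nat_lit 0x7e0200400d20051bc004000002) (nat_lit 0x127c0381b80b81d31bc0de) (nat_lit 0xd204002007e02a06c0370051bc00400004002001000800400201f003003) (nat_lit 0x8010020040) (nat_lit 4098) (nat_lit 4112) (nat_lit 0x7203001000802e002009) (.dfs (nat_lit 2) (nat_lit 0x1008010020040) (nat_lit 0x1008010030072) (nat_lit 0x1004002001) (nat_lit 0x102e002009) (nat_lit 0) (nat_lit 0) (nat_lit 2) (nat_lit 0) (nat_lit 0x7e0200400d20071bc004000002) (nat_lit 16) (nat_lit 1) (nat_lit 0) (nat_lit 1) (nat_lit 0) (nat_lit 1) (nat_lit 0x1000000000000000000000000000000000000000000000100000000000000000100000000000000000000000000000000000000000000010000)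 (.cD (nat_lit 16) (.kS (nat_lit 0) (nat_lit 0x20020000100200600e4001002002000008010020040006004) (nat_lit 0x10e01c818f) (nat_lit 0x800400200501000800c00700102001000801c00202b) (nat_lit 0x100200700a700401101f0011ce0160000100200600e402400107c002002002000004)) (.cD (nat_lit 200) (.kS (nat_lit 0) (nat_lit 0x40040000010020040080001008010020040006003) (nat_lit 0x10e00a800b10f) (nat_lit 0x800400200501000800c00700102001000801c00202b040020010078004016001) (nat_lit 0x3002004008000404500804f00101002004008002400102802b00301002004008002400102802b002040040000004)) (.cD (nat_lit 272) (.cut (nat_lit 0)) (.cD (nat_lit 456) (.kS (nat_lit 0) (nat_lit 0x40040000010020040080001008010020040006003) (nat_lit 0x10e01a800b00f) (nat_lit 0x800400200501000800c00700102001000801c00202b040020010078004016001) (nat_lit 0x3002004008000404500804f00101002004008002400102802b00301002004008002400102802b002040040000004)) .nil))))))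
theorem c95 : (chk [(x35, s94)] [] p95).n x35 s95 = true := by decide +kernel
noncomputable def p96 : Pf := (.ext (nat_lit 0) (nat_lit 0x8010020040002001) (nat_lit 0x127c0381b80b81d31bc0de) (nat_lit 0x4002001001801401200f00202002000004002001000800400201f001003) (nat_lit 0x18010020040) (nat_lit 4098) (nat_lit 4158) (nat_lit 0x7203001000802e002009) (.dfs (nat_lit 2) (nat_lit 0x1018010020040) (nat_lit 0x1018010030072) (nat_lit 0x1008004002001) (nat_lit 0x100802e002009) (nat_lit 0) (nat_lit 0) (nat_lit 2) (nat_lit 0) (nat_lit 0x8010020040004001) (nat_lit 6) (nat_lit 1) (nat_lit 0) (nat_lit 1) (nat_lit 0) (nat_lit 1) (nat_lit 0x40000000000000000040000000000000000000000000000000000000000000004000000000000000004000000000000000) (.cD (nat_lit 62) (.kS (nat_lit 0) (nat_lit 0x100100000100200600e4001002002000008010020040004004) (nat_lit 0x100403e157) (nat_lit 0x800400200501000800c00700102001000801c00202b) (nat_lit 0x100200700b700402101f0010f202a0000100200600e402400107c002010010000004)) (.cD (nat_lit 134) (.kS (nat_lit 0)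 (nat_lit 0x10020040080001008010020040004002) (nat_lit 0x11bc0861d3133) (nat_lit 0x800400200501000800c00700102001000801c00202b040020010078004016001) (nat_lit 0x3002004008000405500805f00201002004008002400102802b002002)) (.cD (nat_lit 318) (.kS (nat_lit 0) (nat_lit 0x10020040080001008010020040004002) (nat_lit 0x11bc13e1d31eb) (nat_lit 0x800400200501000800c00700102001000801c00202b040020010078004016001) (nat_lit 0x3002004008000407500807f00201002004008002400102802b002002)) (.cD (nat_lit 390) (.cut (nat_lit 0)) .nil))))))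
theorem c96 : (chk [(x35, s95)] [] p96).n x35 s96 = true := by decide +kernel
noncomputable def p97 : Pf := (.ext (nat_lit 0) (nat_lit 0) (nat_lit 0x127c0381b80b81d31bc) (nat_lit 0x41bc0000d204002007e02a06c00406a02800801802c00a001003) (nat_lit 0x4008010020) (nat_lit 4121) (nat_lit 4159) (nat_lit 0x2d018008004017001) (.dfs (nat_lit 25) (nat_lit 0x1004008010020) (nat_lit 0x100400801802d) (nat_lit 0x1002001) (nat_lit 0x1017001) (nat_lit 13) (nat_lit 0) (nat_lit 2) (nat_lit 0) (nat_lit 0) (nat_lit 63) (nat_lit 1) (nat_lit 0) (nat_lit 4480) (nat_lit 384) (nat_lit 0x10000bf0000ff) (nat_lit 0x8000000000000000800000000000000000000000000000000000000000000000) (.cD (nat_lit 191) (.cut (nat_lit 0)) (.cD (nat_lit 255) (.iso x35 s96 (nat_lit 0) (nat_lit 0x1200100080040020010008004102101) (nat_lit 0x200100080040020010008004102101) [(nat_lit 0x40020010008004002009001080080000002), (nat_lit 0x80040020010008004002001005001)] (.cut (nat_lit 0))) .nil))))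
theorem c97 : (chk [(x35, s96)] [g67] p97).n x35 s97 = true := by decide +kernel
noncomputable def p98 : Pf := (.ext (nat_lit 0) (nat_lit 0x7e0200600a0003168008000002) (nat_lit 0x12401801001b818b) (nat_lit 0xde06005e02006a0031680080000100080040020010010081680000a006002007e04a004005) (nat_lit 0x6002008016) (nat_lit 0x100f004) (nat_lit 0x1037058) (nat_lit 0x1e008004002001012008004002001) (.dfs (nat_lit 4) (nat_lit 0x1006002008016) (nat_lit 0x1006002008014) (nat_lit 0x1010004001) (nat_lit 0x1012004001) (nat_lit 2) (nat_lit 0) (nat_lit 2) (nat_lit 0) (nat_lit 0x7e0200600a0005168008000002) (nat_lit 88) (nat_lit 1) (nat_lit 0) (nat_lit 1) (nat_lit 0) (nat_lit 1) (nat_lit 0x1010000000000000000000000000000010100000000000000000000000000000101000000000000000000000000000001010000000000000000000000) (.cD (nat_lit 88) (.kS (nat_lit 0) (nat_lit 0x1001000000400801002000107e0200600a0005168008000004) (nat_lit 0x10581b3) (nat_lit 0x8004002009010008004006001) (nat_lit 0x1bc00400000400801403100100f001002002000004008010020001012002010010000005))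 (.cD (nat_lit 96) (.kS (nat_lit 0) (nat_lit 0x1001000000400801002000107e0200600a0005168008000004) (nat_lit 0x11601b3) (nat_lit 0x8004002009010008004006001) (nat_lit 0x400801402100100f001125041000004008010020001012002010010000004)) (.cD (nat_lit 216) (.kS (nat_lit 0) (nat_lit 0x1001000000400801002000107e0200600a0005168008000004) (nat_lit 0x11d81b3) (nat_lit 0x8004002009010008004006001) (nat_lit 0x400801402900100f0010fd021000004008010020001012002010010000004)) (.cD (nat_lit 224) (.kS (nat_lit 0) (nat_lit 0x1001000000400801002000107e0200600a0005168008000004) (nat_lit 0x10e01b3) (nat_lit 0x8004002009010008004006001) (nat_lit 0x400801403500100f0011be006000004008010020001012002010010000004)) (.cD (nat_lit 344) (.kS (nat_lit 0) (nat_lit 0x1001000000400801403100100200200007e0200600a0005168008000005) (nat_lit 0x11581d3) (nat_lit 0x8004002009010008004006001) (nat_lit 0x1bc0040000040080100240010120011be00600000400801403100100f002010010000005)) (.cD (nat_lit 352) (.dfs (nat_lit 15) (nat_lit 0x100c004014021) (nat_lit 0x100c00401403d)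 (nat_lit 0x1020010008002001) (nat_lit 0x103c010008002001) (nat_lit 28) (nat_lit 0) (nat_lit 2) (nat_lit 0) (nat_lit 0x7e0200400d20051bc004000002) (nat_lit 55) (nat_lit 1) (nat_lit 0) (nat_lit 1) (nat_lit 0) (nat_lit 1) (nat_lit 0x8000000000000080000000000000000080000000000000800000000000000000800000000000008000000000000000008000000000000080000000000000) (.cD (nat_lit 55) (.kS (nat_lit 0) (nat_lit 0x1801002004800116800800007e0200400d20051bc004000004) (nat_lit 4484) (nat_lit 0x8004002009) (nat_lit 0x111001000018008028042025002008168000018010020048005002004)) (.cD (nat_lit 111) (.kS (nat_lit 0) (nat_lit 0x1000802804200204004000007e0200400d20051bc004000004) (nat_lit 4568) (nat_lit 0x8004002009) (nat_lit 0x2002000000801003004f00200104004000001000802804201f001004)) (.cD (nat_lit 183) (.kS (nat_lit 0) (nat_lit 0x1000802804a00202002000007e0200400d20051bc004000004) (nat_lit 0x116000b) (nat_lit 0x800400200901000800400e001) (nat_lit 0x4004000000801003004f00202400102002000001000802804a007024001004)) (.cD (nat_lit 239) (.kS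 (nat_lit 0) (nat_lit 0x1801002004800116800800007e0200400d20051bc004000004) (nat_lit 4156) (nat_lit 0x8004002009) (nat_lit 0x11100100001800802804203d002008168000018010020048005002004)) (.cD (nat_lit 311) (.kS (nat_lit 0) (nat_lit 0x1800802805a0021bc00400007e0200400d20051bc004000004) (nat_lit 4324) (nat_lit 0x8004002009) (nat_lit 0x1001803806500700100801003004f0020010041bc00001800802805a02d001004)) (.cD (nat_lit 367) (.kS (nat_lit 0) (nat_lit 0x1000803804500211100100007e0200400d20051bc004000004) (nat_lit 0x10600331ef) (nat_lit 0x800400200901000800400e00102001000802c002001) (nat_lit 0x16800800000801003004f00202400100100111100001000803804501702b00e001004)) (.cD (nat_lit 439) (.kS (nat_lit 0) (nat_lit 0x1000803805d00211100100007e0200400d20051bc004000004) (nat_lit 4312) (nat_lit 0x8004002009) (nat_lit 0x16800800000801003004f00200100111100001000803805d00f001004)) (.cD (nat_lit 495) (.kS (nat_lit 0) (nat_lit 0x1801002004800116800800007e0200400d20051bc004000004) (nat_lit 4412) (nat_lit 0x8004002009) (nat_lit 0x111001000018008028042035002008168000018010020048005002004))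 .nil))))))))) (.cD (nat_lit 472) (.kS (nat_lit 0) (nat_lit 0x40080140290010fd02100007e0200600a0005168008000004) (nat_lit 0x11d80eb) (nat_lit 0x8004002009010008004006001) (nat_lit 0x100100000040080100240010120011fd12100000400801402900100f002004)) (.cD (nat_lit 480) (.dfs (nat_lit 15) (nat_lit 0x100c004014035) (nat_lit 0x100c004014029) (nat_lit 0x1020010008002001) (nat_lit 0x103c010008002001) (nat_lit 28) (nat_lit 0) (nat_lit 2) (nat_lit 0) (nat_lit 0x7e0200400d20051bc004000002) (nat_lit 55) (nat_lit 1) (nat_lit 0) (nat_lit 1) (nat_lit 0) (nat_lit 1) (nat_lit 0x8000000000000080000000000000000080000000000000800000000000000000800000000000008000000000000000008000000000000080000000000000) (.cD (nat_lit 55) (.kS (nat_lit 0) (nat_lit 0x1800802004800201001000007e0200400d20051bc004000004) (nat_lit 4580) (nat_lit 0x8004002009) (nat_lit 0x200200001800802806a02500201001000001800802004803d001004)) (.cD (nat_lit 111) (.kS (nat_lit 0) (nat_lit 0x1000802806200202002000007e0200400d20051bc004000004) (nat_lit 0x11e000b) (nat_lit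 0x800400200901000800400e001) (nat_lit 0x4004000000801003004f002024001020020000010008028062037024001004)) (.cD (nat_lit 183) (.kS (nat_lit 0) (nat_lit 0x1000802806a00204004000007e0200400d20051bc004000004) (nat_lit 4440) (nat_lit 0x8004002009) (nat_lit 0x2002000000801003004f00200104004000001000802806a02f001004)) (.cD (nat_lit 239) (.kS (nat_lit 0) (nat_lit 0x180080280720021bc00400007e0200400d20051bc004000004) (nat_lit 4580) (nat_lit 0x8004002009) (nat_lit 0x1001803804d03700100801003004f0020010041bc00001800802807203d001004)) (.cD (nat_lit 311) (.kS (nat_lit 0) (nat_lit 0x1800802004800201001000007e0200400d20051bc004000004) (nat_lit 4188) (nat_lit 0x8004002009) (nat_lit 0x200200001800802806a02d002010010000018008020048035001004)) (.cD (nat_lit 367) (.kS (nat_lit 0) (nat_lit 0x1000802806200202002000007e0200400d20051bc004000004) (nat_lit 4184) (nat_lit 0x8004002009) (nat_lit 0x2002000000801003004f00200102002000001000802806203f001004)) (.cD (nat_lit 439) (.cut (nat_lit 0)) (.cD (nat_lit 495) (.kS (nat_lit 0) (nat_lit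 0x1800802004800201001000007e0200400d20051bc004000004) (nat_lit 4324) (nat_lit 0x8004002009) (nat_lit 0x200200001800802806a03500201001000001800802004802d001004)) .nil))))))))) .nil))))))))))
theorem c98 : (chk [(x35, s97)] [] p98).n x35 s98 = true := by decide +kernel
noncomputable def p99 : Pf := (.ext (nat_lit 0) (nat_lit 0) (nat_lit 0x1200080100040) (nat_lit 0x16800800008c06001c02000109a0500300200030a006002007e001168008000005) (nat_lit 0x300100400b) (nat_lit 4139) (nat_lit 4139) (nat_lit 0xc004002001) (.dfs (nat_lit 43) (nat_lit 0x100300100400b) (nat_lit 0x100300100400f) (nat_lit 0x1008002) (nat_lit 0x100c002) (nat_lit 4) (nat_lit 0) (nat_lit 2) (nat_lit 0) (nat_lit 0) (nat_lit 43) (nat_lit 1) (nat_lit 0) (nat_lit 4608) (nat_lit 512) (nat_lit 0x100002b00006b00012b00016b) (nat_lit 0x8000000000000000800000000000000000000000000000000000000000000000800000000000000080000000000) (.cD (nat_lit 43) (.kS (nat_lit 0) (nat_lit 0x4002008016002020020000002) (nat_lit 4203) (nat_lit 0x8004002003) (nat_lit 0x20020000002004008010001001020020000004002008016003001004))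 (.cD (nat_lit 107) (.kS (nat_lit 0) (nat_lit 0x4002008016002020020000002) (nat_lit 4395) (nat_lit 0x8004002003) (nat_lit 0x20020000002004008010001001020020000004002008016005001004)) (.cD (nat_lit 299) (.cut (nat_lit 0)) (.cD (nat_lit 363) (.iso x35 s98 (nat_lit 0) (nat_lit 0x1200100080040020010008004102001) (nat_lit 0x200100080040020010008004102001) [(nat_lit 0x10008004002005001001), (nat_lit 0x80040020010028024002021003001)] (.cut (nat_lit 0))) .nil))))))
theorem c99 : (chk [(x35, s98)] [g67] p99).n x35 s99 = true := by decide +kernel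
noncomputable def p100 : Pf := (.ext (nat_lit 0) (nat_lit 0) (nat_lit 0x120008010004000b013018) (nat_lit 0x40020010008004002001001001) (nat_lit 0x18010020048) (nat_lit 4103) (nat_lit 4103) (nat_lit 0x4903001001803d03b011) (.dfs (nat_lit 7) (nat_lit 0x1018010020048) (nat_lit 0x1008010030051) (nat_lit 0x1040008004002001) (nat_lit 0x104901803d03b011) (nat_lit 9) (nat_lit 0) (nat_lit 2) (nat_lit 0) (nat_lit 0) (nat_lit 7) (nat_lit 1) (nat_lit 0) (nat_lit 4480) (nat_lit 384) (nat_lit 0x1000087) (nat_lit 0x8000000000000000000000000000000000) (.cD (nat_lit 135) (.cut (nat_lit 0)) .nil)))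
theorem c100 : (chk [(x35, s99)] [] p100).n x35 s100 = true := by decide +kernel
noncomputable def p101 : Pf := (.ext (nat_lit 0) (nat_lit 0) (nat_lit 0x1200080100040) (nat_lit 0x168008000056030010006003002002000003) (nat_lit 0x3002004009) (nat_lit 0x101801300b) (nat_lit 0x1018013033) (nat_lit 0xa00400200100e00400200100c004002003) (.dfs (nat_lit 11) (nat_lit 0x1003002004009) (nat_lit 0x100100200400f) (nat_lit 0x1008001) (nat_lit 0x100c003) (nat_lit 6) (nat_lit 0) (nat_lit 2) (nat_lit 0) (nat_lit 0) (nat_lit 51) (nat_lit 1) (nat_lit 0) (nat_lit 0x1200040) (nat_lit 0x200040) (nat_lit 0x1000073001073001173) (nat_lit 0x80000000000000000000000000000) (.cD (nat_lit 115) (.dfs (nat_lit 19) (nat_lit 0x1006004008012) (nat_lit 0x100600400801e) (nat_lit 0x1010002001) (nat_lit 0x101c002005) (nat_lit 12) (nat_lit 0) (nat_lit 2) (nat_lit 0) (nat_lit 0) (nat_lit 19) (nat_lit 1) (nat_lit 0) (nat_lit 1) (nat_lit 0) (nat_lit 1) (nat_lit 0x80000000000000000000000000000000800000000000000000000000000000008000000000000000000000000000000080000)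 (.cD (nat_lit 19) (.kA false (nat_lit 0x2801002004000500200200001700801802c002168008000004)) (.cD (nat_lit 147) (.dfs (nat_lit 24) (nat_lit 0x100c008010024) (nat_lit 0x100c00801002c) (nat_lit 0x1020004002001) (nat_lit 0x102800400a001) (nat_lit 8) (nat_lit 0) (nat_lit 2) (nat_lit 0) (nat_lit 0) (nat_lit 24) (nat_lit 1) (nat_lit 0) (nat_lit 1) (nat_lit 0) (nat_lit 1) (nat_lit 0x1000000000000000000000000000000010000000000000000000000000000000100000000000000000000000000000001000000) (.cD (nat_lit 24) (.cut (nat_lit 0)) (.cD (nat_lit 152) (.kA false (nat_lit 0x3e01003004800103f010030050001168008000003)) (.cD (nat_lit 280) (.kS (nat_lit 0) (nat_lit 0x1001000003f0100200690011bc004000003) (nat_lit 0x11ab1b3) (nat_lit 0xc00400200301000800400e009) (nat_lit 0x1bc00400003f01003005003d03c0011d40d400003f010020069004015002010010000005)) (.cD (nat_lit 408) (.kA false (nat_lit 0x2e01003004800103f010030050001168008000003)) .nil))))) (.cD (nat_lit 275) (.kA false (nat_lit 0x3801002004000500200200001f00801802c002168008000004)) (.cD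 (nat_lit 403) (.dfs (nat_lit 24) (nat_lit 0x100c008010024) (nat_lit 0x100c00801002c) (nat_lit 0x1020004002001) (nat_lit 0x102800400a001) (nat_lit 8) (nat_lit 0) (nat_lit 2) (nat_lit 0) (nat_lit 0) (nat_lit 24) (nat_lit 1) (nat_lit 0) (nat_lit 1) (nat_lit 0) (nat_lit 1) (nat_lit 0x1000000000000000000000000000000010000000000000000000000000000000100000000000000000000000000000001000000) (.cD (nat_lit 24) (.kS (nat_lit 0) (nat_lit 0x16800800003f010030050001168008000003) (nat_lit 0x111310b) (nat_lit 0xc00400200301000800400e009) (nat_lit 0x2f0100200460020250011bc00400000801002004000400200100816800003f01003005003d03c002008168000006)) (.cD (nat_lit 152) (.kA false (nat_lit 0x2e01003004800103f010030050001168008000003)) (.cD (nat_lit 280) (.kS (nat_lit 0) (nat_lit 0x1001000003f0100200690011bc004000003) (nat_lit 0x11ab1b3) (nat_lit 0xc00400200301000800400e009) (nat_lit 0x1bc00400003f01003005003d03c0011d40d400003f010020069004015002010010000005)) (.cD (nat_lit 408) (.kA false (nat_lit 0x3e01003004800103f010030050001168008000003))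 .nil))))) .nil))))) .nil)))
theorem c101 : (chk [(x35, s100)] [] p101).n x35 s101 = true := by decide +kernel
noncomputable def p102 : Pf := (.anz (nat_lit 256) (.syr (nat_lit 128) false (nat_lit 0) (nat_lit 0) (nat_lit 0) (nat_lit 0x120002b) (nat_lit 0x1200080040020010008004002001) (nat_lit 0x2000800400200101681bc002111) (nat_lit 0x100008000108000308000000200300200400200500200600200700200800200000c00200c00400c00500c00101000201000301000601000701000001400101400201400501400801400002000102000202000402000602000004e00104e00204e00304e00504e00604e00704e00804e0000b800021300121300221300521300821300021700221700321700421700621700821700021f00121f00221f00321f00621f00821f00022900122900322900622900022b00122b00322b00522b00822b00022d00322d00422d00522d00023f00123f00823f00028700128700828700204a00304a00504a00604a00704a00804a0021ae0081760021a00031a00061a00031c80061c80021740061740021ec0071ec00106600306600506600606600706600614e0081e200124b00324b0012f70032f70062f70082f70003cf0033cf0063cf0002770082770012eb0022eb0042eb00226b00326b00837f00031f00131f00831f00235900335900635900327300627300223d00323d00523d)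 (nat_lit 0x80000000000000000080002a008088000000000000000000000000000000000000000000000000000000000000000000010000000000000000010000000000000100000000000040000000000100111004) (.cD (nat_lit 128) (.iso x38 ⟨[([nat_lit 9, nat_lit 2, nat_lit 889, nat_lit 11, nat_lit 18, nat_lit 352, nat_lit 64, nat_lit 154, nat_lit 839], [nat_lit 993, nat_lit 882, nat_lit 393, nat_lit 75, nat_lit 266, nat_lit 64, nat_lit 288, nat_lit 954, nat_lit 831]), ([nat_lit 17, nat_lit 682, nat_lit 881, nat_lit 11, nat_lit 128, nat_lit 64, nat_lit 154, nat_lit 887], [nat_lit 715, nat_lit 682, nat_lit 939, nat_lit 161, nat_lit 192, nat_lit 64, nat_lit 154, nat_lit 439])], [], [], [], [], [nat_lit 154], true, false, []⟩ (nat_lit 0) (nat_lit 0x1014026040100032006008201002001) (nat_lit 0x37704009a080270372008012002001) [(nat_lit 0x100080040020010008004002001003001), (nat_lit 0x80040020010008004002001005001)] (.syr (nat_lit 154) true (nat_lit 2) (nat_lit 2) (nat_lit 2) (nat_lit 1) (nat_lit 0x1200100080020010008004002001) (nat_lit 0x2003000802601702b8044002333)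 (nat_lit 0x100101400201400301400601400701400203c00303c00207c00307c00008000108000208000308000508000109c00309c00409c0000a00020a00030a00040a00050a00010ac0020ac0030ac0040ac0060ac0000b00030b00060b00070b000210c00310c00510c0001200021bc00229c00205400705400331c00335c0042800043500011480031480061480071480081480001800031800041800051800002e000313c00413c001320002320004320) (nat_lit 0x100000000000000000000000000000000000000000000000000000001000000000000000000000000000000000000001000010000000000000000000000110011000000110000000000000011000000000100000) (.cD (nat_lit 64) (.anc (nat_lit 64) (nat_lit 0x1002001) (nat_lit 0x1200100080040020010008004002) (.kn (nat_lit 1) (nat_lit 0x1200100080040020010008004002) false (nat_lit 0x1002001) (nat_lit 9011) (nat_lit 0x100009a00109a))) (.cD (nat_lit 20) (.anc (nat_lit 406) (nat_lit 0x10021240040d6006001333000091006005) (nat_lit 0x1200100040020090008014006) (.kn (nat_lit 1) (nat_lit 0x1200100040020090008014006) true (nat_lit 0x1008002) (nat_lit 0x2b8002) (nat_lit 0x100009a00109a))) (.cD (nat_lit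 60) (.anc (nat_lit 444) (nat_lit 0x100219a004002) (nat_lit 0x120010008004002001000c002) (.kn (nat_lit 1) (nat_lit 0x120010008004002001000c002) true (nat_lit 0x1008002) (nat_lit 0x2b8002) (nat_lit 0x100009a00109a))) (.cD (nat_lit 124) (.anc (nat_lit 732) (nat_lit 0x10021da004002) (nat_lit 0x12001800400a00100083fc002) (.kn (nat_lit 1) (nat_lit 0x12001800400a00100083fc002) true (nat_lit 0x1008002) (nat_lit 0x2b8002) (nat_lit 0x100009a00109a))) (.cD (nat_lit 128) (.anc (nat_lit 352) (nat_lit 0x10020082b800007e006003) (nat_lit 0x12001800400a0010028004002009) (.kn (nat_lit 1) (nat_lit 0x12001800400a0010028004002009) false (nat_lit 0x1002001) (nat_lit 9011) (nat_lit 0x100009a00109a))) (.cD (nat_lit 156) (.anc (nat_lit 668) (nat_lit 0x10020013330000c40060013330000a3006005) (nat_lit 0x12001800400a00100083fc002) (.kn (nat_lit 1) (nat_lit 0x12001800400a00100083fc002) true (nat_lit 0x1008002) (nat_lit 0x2b8002) (nat_lit 0x100009a00109a))) (.cD (nat_lit 160) (.anc (nat_lit 352) (nat_lit 0x10020cb00306b00601017000007e006005)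 (nat_lit 0x12001800400a0010028004002009) (.kn (nat_lit 1) (nat_lit 0x12001800400a0010028004002009) false (nat_lit 0x1002001) (nat_lit 9011) (nat_lit 0x100009a00109a))) (.cD (nat_lit 172) (.anc (nat_lit 470) (nat_lit 0x10020b1006002) (nat_lit 0x1200100040020090008014006) (.kn (nat_lit 1) (nat_lit 0x1200100040020090008014006) true (nat_lit 0x1008002) (nat_lit 0x2b8002) (nat_lit 0x100009a00109a))) (.cD (nat_lit 176) (.anc (nat_lit 352) (nat_lit 0x10020082b800003900600133300007e006005) (nat_lit 0x12001800400a0010028004002009) (.kn (nat_lit 1) (nat_lit 0x12001800400a0010028004002009) false (nat_lit 0x1002001) (nat_lit 9011) (nat_lit 0x100009a00109a))) (.cD (nat_lit 268) (.anc (nat_lit 470) (nat_lit 0x10020f60060013330000b1006004) (nat_lit 0x1200100040020090008014006) (.kn (nat_lit 1) (nat_lit 0x1200100040020090008014006) true (nat_lit 0x1008002) (nat_lit 0x2b8002) (nat_lit 0x100009a00109a))) (.cD (nat_lit 288) (.anc (nat_lit 288) (nat_lit 0x1002001) (nat_lit 0x12001800400a0010028004002009) (.kn (nat_lit 1) (nat_lit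 0x12001800400a0010028004002009) false (nat_lit 0x1002001) (nat_lit 9011) (nat_lit 0x100009a00109a))) (.cD (nat_lit 444) (.anc (nat_lit 444) (nat_lit 0x1002001) (nat_lit 0x120010008004002001000c002) (.kn (nat_lit 1) (nat_lit 0x120010008004002001000c002) true (nat_lit 0x1008002) (nat_lit 0x2b8002) (nat_lit 0x100009a00109a))) (.cD (nat_lit 668) (.anc (nat_lit 668) (nat_lit 0x1002001) (nat_lit 0x12001800400a00100083fc002) (.kn (nat_lit 1) (nat_lit 0x12001800400a00100083fc002) true (nat_lit 0x1008002) (nat_lit 0x2b8002) (nat_lit 0x100009a00109a))) .nil))))))))))))))) (.cD (nat_lit 256) (.dfs (nat_lit 512) (nat_lit 1) (nat_lit 1) (nat_lit 4097) (nat_lit 4097) (nat_lit 0) (nat_lit 0) (nat_lit 0) (nat_lit 0) (nat_lit 0) (nat_lit 0) (nat_lit 1) (nat_lit 0) (nat_lit 0x1200080040020010008004002001) (nat_lit 0x2000800400200101681bc002111) (nat_lit 0x10002000012000022000032000002180012180022180032180042180052180012100022100032100072100023480033480043480042d800127c00227c00327c00427c00527c00627c00827c00029c00229c00429c00529c00629c00829c0033a00063a00022780003180013180022800042800012700023f80063f80012c400121c00131c0013a4005344)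 (nat_lit 0x100000100000000000000000000000000000000000000000000000000000000000000000000000000000000000000000000000000000000000000000000000000000000) (.cD (nat_lit 512) (.kF (nat_lit 128) (nat_lit 0x2001001001)) (.cD (nat_lit 536) (.kF (nat_lit 128) (nat_lit 0x2009000515f007000002001001003)) .nil))) (.cD (nat_lit 2) (.anc (nat_lit 128) (nat_lit 0x1001001) (nat_lit 0x1200100080040020018004) (.kn (nat_lit 1) (nat_lit 0x1200100080040020018004) false (nat_lit 0x1200080040020010008004001) (nat_lit 0x2000800400200101681bc111) (nat_lit 0x100000200200200300200400200500200600200700200104a))) (.cD (nat_lit 12) (.anc (nat_lit 128) (nat_lit 0x1001001) (nat_lit 0x120010008004002001800400b) (.kn (nat_lit 1) (nat_lit 0x120010008004002001800400b) false (nat_lit 0x1020010004001) (nat_lit 0x200101bc111) (nat_lit 0x100000c00100c00200c00300c))) (.cD (nat_lit 16) (.anc (nat_lit 128) (nat_lit 0x1001001) (nat_lit 0x120010008004002001800400b) (.kn (nat_lit 1) (nat_lit 0x120010008004002001800400b) false (nat_lit 0x1040008004002) (nat_lit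 0x401681bc002) (nat_lit 0x1000010001010002010003010))) (.cD (nat_lit 20) (.anc (nat_lit 128) (nat_lit 0x1001001) (nat_lit 0x120010008004002001800400b) (.kn (nat_lit 1) (nat_lit 0x120010008004002001800400b) false (nat_lit 0x1020004002001) (nat_lit 0x201bc002111) (nat_lit 0x1000014001014002014003014))) (.cD (nat_lit 32) (.anc (nat_lit 128) (nat_lit 0x1001001) (nat_lit 0x120010008004002001800400b) (.kn (nat_lit 1) (nat_lit 0x120010008004002001800400b) false (nat_lit 0x1010004002001) (nat_lit 0x101bc002111) (nat_lit 0x1000020001020002020003020))) (.cD (nat_lit 78) (.anc (nat_lit 128) (nat_lit 0x1001001) (nat_lit 0x1200100080040020018004) (.kn (nat_lit 1) (nat_lit 0x1200100080040020018004) false (nat_lit 0x1200080040020008004002001) (nat_lit 0x2000800400201681bc002111) (nat_lit 0x100004e00104e00204e00304e00404e00504e00604e00704e))) (.cD (nat_lit 184) (.anc (nat_lit 256) (nat_lit 0x40003001) (nat_lit 0x1200100080040020010008004002001) (.kn (nat_lit 1) (nat_lit 0x1200100080040020010008004002001) false (nat_lit 4097)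 (nat_lit 273) (nat_lit 0x10000b8))) (.cD (nat_lit 531) (.anc (nat_lit 128) (nat_lit 0x1001001) (nat_lit 0x120010008004002001800400b) (.kn (nat_lit 1) (nat_lit 0x120010008004002001800400b) false (nat_lit 0x1020004002001) (nat_lit 0x201bc002111) (nat_lit 0x1000213001213002213003213))) (.cD (nat_lit 535) (.anc (nat_lit 128) (nat_lit 0x1001001) (nat_lit 0x1200100080040020018004) (.kn (nat_lit 1) (nat_lit 0x1200100080040020018004) false (nat_lit 0x1200040010008004002001) (nat_lit 0x2000400101681bc002111) (nat_lit 0x10002170022170032170042170052170062170012f70032f7))) (.cD (nat_lit 543) (.anc (nat_lit 128) (nat_lit 0x1001001) (nat_lit 0x1200100080040020018004) (.kn (nat_lit 1) (nat_lit 0x1200100080040020018004) false (nat_lit 0x1200040008004002001) (nat_lit 0x2000401681bc002111) (nat_lit 0x100021f00121f00221f00321f00421f00521f0012eb0022eb))) (.cD (nat_lit 553) (.anc (nat_lit 128) (nat_lit 0x1001001) (nat_lit 0x120010008004002001800400b) (.kn (nat_lit 1) (nat_lit 0x120010008004002001800400b) false (nat_lit 0x1040008002001)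 (nat_lit 0x40168002111) (nat_lit 0x1000229001229002229003229))) (.cD (nat_lit 555) (.anc (nat_lit 128) (nat_lit 0x1001001) (nat_lit 0x120010008004002001800400b) (.kn (nat_lit 1) (nat_lit 0x120010008004002001800400b) false (nat_lit 0x1020008002001) (nat_lit 0x20168002111) (nat_lit 0x100022b00122b00222b00322b))) (.cD (nat_lit 557) (.anc (nat_lit 128) (nat_lit 0x1001001) (nat_lit 0x120010008004002001800400b) (.kn (nat_lit 1) (nat_lit 0x120010008004002001800400b) false (nat_lit 0x1020010008001) (nat_lit 0x20010168111) (nat_lit 0x100022d00122d00222d00322d))) (.cD (nat_lit 575) (.czs (nat_lit 575) z15 (nat_lit 256) (.dfs (nat_lit 43) (nat_lit 4097) (nat_lit 4097) (nat_lit 1) (nat_lit 1) (nat_lit 1) (nat_lit 0) (nat_lit 3) (nat_lit 0) (nat_lit 0) (nat_lit 0) (nat_lit 1) (nat_lit 0) (nat_lit 1) (nat_lit 0) (nat_lit 1) (nat_lit 0) .nil)) (.cD (nat_lit 647) (.czs (nat_lit 647) z14 (nat_lit 256) (.dfs (nat_lit 43) (nat_lit 4097) (nat_lit 4097) (nat_lit 1) (nat_lit 1) (nat_lit 1) (nat_lit 0) (nat_lit 3) (nat_lit 0) (nat_lit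 0) (nat_lit 0) (nat_lit 1) (nat_lit 0) (nat_lit 1) (nat_lit 0) (nat_lit 1) (nat_lit 0) .nil)) .nil)))))))))))))))))))
theorem c102 : (chk [] [g79] p102).n x37 s102 = true := by decide +kernel
noncomputable def p103 : Pf := (.clm (.cut (nat_lit 0)) (.dfs (nat_lit 512) (nat_lit 1) (nat_lit 1) (nat_lit 1) (nat_lit 1) (nat_lit 0) (nat_lit 0) (nat_lit 0) (nat_lit 0) (nat_lit 0) (nat_lit 0) (nat_lit 1) (nat_lit 0) (nat_lit 0x1200080040020010008004002001) (nat_lit 0x2000800400200101681bc002111) (nat_lit 0x10002000012000022000032000002180012180022180032180042180052180012100022100032100072100023480033480043480042d800127c00227c00327c00427c00527c00627c00827c00029c00229c00429c00529c00629c00829c0033a00063a00022780003180013180022800042800012700023f80063f80012c400121c00131c0013a4005344) (nat_lit 0x100000100000000000000000000000000000000000000000000000000000000000000000000000000000000000000000000000000000000000000000000000000000000) (.cD (nat_lit 512) (.kin (nat_lit 1) (nat_lit 0)) (.cD (nat_lit 536) (.kn (nat_lit 1) (nat_lit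 0x1200100080040020010) false (nat_lit 0x1200040020010008004002001) (nat_lit 0x2000400200101681bc002111) (nat_lit 0x100021800121800221800321800421800521800127c00227c00327c00427c00527c00627c00727c00029c00229c00429c)) .nil))))
theorem c103 : (chk [(x37, s102)] [] p103).n x37 s103 = true := by decide +kernel
noncomputable def p104 : Pf := (.ext (nat_lit 0) (nat_lit 0x7e0200400d20031bc004000002) (nat_lit 0x12980801001b800400b00f) (nat_lit 0xe305003002002402802b001001) (nat_lit 0x1800803805b) (nat_lit 0x1009002) (nat_lit 0x1041010) (nat_lit 0x7b03801000800c02103a06c02801000800402e035) (.dfs (nat_lit 2) (nat_lit 0x101800803805b) (nat_lit 0x1018008030067) (nat_lit 0x1040020010004002001) (nat_lit 0x106c02801000402e035) (nat_lit 0) (nat_lit 0) (nat_lit 2) (nat_lit 0) (nat_lit 0x7e0200400d20051bc004000002) (nat_lit 16) (nat_lit 1) (nat_lit 0) (nat_lit 4480) (nat_lit 384) (nat_lit 0x10000100000c8) (nat_lit 0x100000000000000000000000000000000000000000000010000) (.cD (nat_lit 16) (.dfs (nat_lit 9) (nat_lit 0x10300100700b6)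 (nat_lit 0x10300100400c0) (nat_lit 0x1080040020008004002001) (nat_lit 0x10f6070020018042074069) (nat_lit 70) (nat_lit 0) (nat_lit 2) (nat_lit 0) (nat_lit 0x7e0200400d20051bc004000002) (nat_lit 65) (nat_lit 1) (nat_lit 0) (nat_lit 1) (nat_lit 0) (nat_lit 1) (nat_lit 0x2000000000000000000000000000000000000000000000200000000000000000200000000000000000000000000000000000000000000020000000000000000) (.cD (nat_lit 65) (.kS (nat_lit 0) (nat_lit 0x600200e016c00207e0200400d20051bc004000003) (nat_lit 0x10dc04a) (nat_lit 0x8004002009010008014017001) (nat_lit 0x400600a01d005c09b0010200400801000100020010600200e016c0cc0e9001003)) (.cD (nat_lit 249) (.kS (nat_lit 0) (nat_lit 0x400200e016c00204004000007e0200400d20051bc004000004) (nat_lit 0x10e01a8) (nat_lit 0x8004002009010008014017001) (nat_lit 0x400400000200400801000100020010400400000400200e016c01c0c7001004)) (.cD (nat_lit 321) (.kS (nat_lit 0) (nat_lit 0x400200e016c00204004000007e0200400d20051bc004000004) (nat_lit 0x10e00a8) (nat_lit 0x8004002009010008014017001) (nat_lit 0x400400000200400801000100020010400400000400200e016c01c087001004))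 (.cD (nat_lit 505) (.cut (nat_lit 0)) .nil))))) (.cD (nat_lit 200) (.kS (nat_lit 0) (nat_lit 0x1002004008000107e0200400d20051bc004000003) (nat_lit 0x11e00c8) (nat_lit 0x8004002009010008014017001) (nat_lit 0x200300500e3024001003010020040080008001002002)) .nil))))
theorem c104 : (chk [(x37, s103)] [] p104).n x37 s104 = true := by decide +kernel
noncomputable def p105 : Pf := (.ext (nat_lit 0) (nat_lit 0x7e0200400d20051bc004000002) (nat_lit 0x127c0381b80b81d31bc0de) (nat_lit 0xd204002007e02a06c0370051bc00400004002001000800400201f003003) (nat_lit 0x8010020040) (nat_lit 4098) (nat_lit 4112) (nat_lit 0x7203001000802e002009) (.dfs (nat_lit 2) (nat_lit 0x1008010020040) (nat_lit 0x1008010030072) (nat_lit 0x1004002001) (nat_lit 0x102e002009) (nat_lit 0) (nat_lit 0) (nat_lit 2) (nat_lit 0) (nat_lit 0x7e0200400d20071bc004000002) (nat_lit 16) (nat_lit 1) (nat_lit 0) (nat_lit 1) (nat_lit 0) (nat_lit 1) (nat_lit 0x1000000000000000000000000000000000000000000000100000000000000000100000000000000000000000000000000000000000000010000)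 (.cD (nat_lit 16) (.kS (nat_lit 0) (nat_lit 0x20020000100200600e4001002002000008010020040006004) (nat_lit 0x10e01c818f) (nat_lit 0x800400200501000800c00700102001000801c00202b) (nat_lit 0x100200700a700401101f0011ce0160000100200600e402400107c002002002000004)) (.cD (nat_lit 200) (.kS (nat_lit 0) (nat_lit 0x40040000010020040080001008010020040006003) (nat_lit 0x10e00a800b10f) (nat_lit 0x800400200501000800c00700102001000801c00202b040020010078004016001) (nat_lit 0x3002004008000404500804f00101002004008002400102802b00301002004008002400102802b002040040000004)) (.cD (nat_lit 272) (.cut (nat_lit 0)) (.cD (nat_lit 456) (.kS (nat_lit 0) (nat_lit 0x40040000010020040080001008010020040006003) (nat_lit 0x10e01a800b00f) (nat_lit 0x800400200501000800c00700102001000801c00202b040020010078004016001) (nat_lit 0x3002004008000404500804f00101002004008002400102802b00301002004008002400102802b002040040000004)) .nil))))))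
theorem c105 : (chk [(x37, s104)] [] p105).n x37 s105 = true := by decide +kernel
noncomputable def p106 : Pf := (.ext (nat_lit 0) (nat_lit 0x8010020040002001) (nat_lit 0x127c0381b80b81d31bc0de) (nat_lit 0x4002001001801401200f00202002000004002001000800400201f001003) (nat_lit 0x18010020040) (nat_lit 4098) (nat_lit 4158) (nat_lit 0x7203001000802e002009) (.dfs (nat_lit 2) (nat_lit 0x1018010020040) (nat_lit 0x1018010030072) (nat_lit 0x1008004002001) (nat_lit 0x100802e002009) (nat_lit 0) (nat_lit 0) (nat_lit 2) (nat_lit 0) (nat_lit 0x8010020040004001) (nat_lit 6) (nat_lit 1) (nat_lit 0) (nat_lit 1) (nat_lit 0) (nat_lit 1) (nat_lit 0x40000000000000000040000000000000000000000000000000000000000000004000000000000000004000000000000000) (.cD (nat_lit 62) (.kS (nat_lit 0) (nat_lit 0x100100000100200600e4001002002000008010020040004004) (nat_lit 0x100403e157) (nat_lit 0x800400200501000800c00700102001000801c00202b) (nat_lit 0x100200700b700402101f0010f202a0000100200600e402400107c002010010000004)) (.cD (nat_lit 134) (.kS (nat_lit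 0) (nat_lit 0x10020040080001008010020040004002) (nat_lit 0x11bc0861d3133) (nat_lit 0x800400200501000800c00700102001000801c00202b040020010078004016001) (nat_lit 0x3002004008000405500805f00201002004008002400102802b002002)) (.cD (nat_lit 318) (.kS (nat_lit 0) (nat_lit 0x10020040080001008010020040004002) (nat_lit 0x11bc13e1d31eb) (nat_lit 0x800400200501000800c00700102001000801c00202b040020010078004016001) (nat_lit 0x3002004008000407500807f00201002004008002400102802b002002)) (.cD (nat_lit 390) (.cut (nat_lit 0)) .nil))))))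
theorem c106 : (chk [(x37, s105)] [] p106).n x37 s106 = true := by decide +kernel
noncomputable def p107 : Pf := (.ext (nat_lit 0) (nat_lit 0) (nat_lit 0x127c0381b80b81d31bc) (nat_lit 0x41bc0000d204002007e02a06c00406a02800801802c00a001003) (nat_lit 0x4008010020) (nat_lit 4121) (nat_lit 4159) (nat_lit 0x2d018008004017001) (.dfs (nat_lit 25) (nat_lit 0x1004008010020) (nat_lit 0x100400801802d) (nat_lit 0x1002001) (nat_lit 0x1017001) (nat_lit 13) (nat_lit 0) (nat_lit 2) (nat_lit 0) (nat_lit 0) (nat_lit 63) (nat_lit 1) (nat_lit 0) (nat_lit 4480) (nat_lit 384) (nat_lit 0x10000bf0000ff) (nat_lit 0x8000000000000000800000000000000000000000000000000000000000000000) (.cD (nat_lit 191) (.cut (nat_lit 0)) (.cD (nat_lit 255) (.iso x37 s106 (nat_lit 0) (nat_lit 0x1200100080040020010008004102101) (nat_lit 0x200100080040020010008004102101) [(nat_lit 0x40020010008004002009001080080000002), (nat_lit 0x80040020010008004002001005001)] (.cut (nat_lit 0))) .nil))))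
theorem c107 : (chk [(x37, s106)] [g67] p107).n x37 s107 = true := by decide +kernel
noncomputable def p108 : Pf := (.ext (nat_lit 0) (nat_lit 0x7e0200600a0003168008000002) (nat_lit 0x12401801001b818b) (nat_lit 0xde06005e02006a0031680080000100080040020010010081680000a006002007e04a004005) (nat_lit 0x6002008016) (nat_lit 0x100f004) (nat_lit 0x1037058) (nat_lit 0x1e008004002001012008004002001) (.dfs (nat_lit 4) (nat_lit 0x1006002008016) (nat_lit 0x1006002008014) (nat_lit 0x1010004001) (nat_lit 0x1012004001) (nat_lit 2) (nat_lit 0) (nat_lit 2) (nat_lit 0) (nat_lit 0x7e0200600a0005168008000002) (nat_lit 88) (nat_lit 1) (nat_lit 0) (nat_lit 1) (nat_lit 0) (nat_lit 1) (nat_lit 0x1010000000000000000000000000000010100000000000000000000000000000101000000000000000000000000000001010000000000000000000000) (.cD (nat_lit 88) (.kS (nat_lit 0) (nat_lit 0x1001000000400801002000107e0200600a0005168008000004) (nat_lit 0x10581b3) (nat_lit 0x8004002009010008004006001) (nat_lit 0x1bc00400000400801403100100f001002002000004008010020001012002010010000005))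 (.cD (nat_lit 96) (.kS (nat_lit 0) (nat_lit 0x1001000000400801002000107e0200600a0005168008000004) (nat_lit 0x11601b3) (nat_lit 0x8004002009010008004006001) (nat_lit 0x400801402100100f001125041000004008010020001012002010010000004)) (.cD (nat_lit 216) (.kS (nat_lit 0) (nat_lit 0x1001000000400801002000107e0200600a0005168008000004) (nat_lit 0x11d81b3) (nat_lit 0x8004002009010008004006001) (nat_lit 0x400801402900100f0010fd021000004008010020001012002010010000004)) (.cD (nat_lit 224) (.kS (nat_lit 0) (nat_lit 0x1001000000400801002000107e0200600a0005168008000004) (nat_lit 0x10e01b3) (nat_lit 0x8004002009010008004006001) (nat_lit 0x400801403500100f0011be006000004008010020001012002010010000004)) (.cD (nat_lit 344) (.kS (nat_lit 0) (nat_lit 0x1001000000400801403100100200200007e0200600a0005168008000005) (nat_lit 0x11581d3) (nat_lit 0x8004002009010008004006001) (nat_lit 0x1bc0040000040080100240010120011be00600000400801403100100f002010010000005)) (.cD (nat_lit 352) (.dfs (nat_lit 15) (nat_lit 0x100c004014021) (nat_lit 0x100c00401403d)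 (nat_lit 0x1020010008002001) (nat_lit 0x103c010008002001) (nat_lit 28) (nat_lit 0) (nat_lit 2) (nat_lit 0) (nat_lit 0x7e0200400d20051bc004000002) (nat_lit 55) (nat_lit 1) (nat_lit 0) (nat_lit 1) (nat_lit 0) (nat_lit 1) (nat_lit 0x8000000000000080000000000000000080000000000000800000000000000000800000000000008000000000000000008000000000000080000000000000) (.cD (nat_lit 55) (.kS (nat_lit 0) (nat_lit 0x1801002004800116800800007e0200400d20051bc004000004) (nat_lit 4484) (nat_lit 0x8004002009) (nat_lit 0x111001000018008028042025002008168000018010020048005002004)) (.cD (nat_lit 111) (.kS (nat_lit 0) (nat_lit 0x1000802804200204004000007e0200400d20051bc004000004) (nat_lit 4568) (nat_lit 0x8004002009) (nat_lit 0x2002000000801003004f00200104004000001000802804201f001004)) (.cD (nat_lit 183) (.kS (nat_lit 0) (nat_lit 0x1000802804a00202002000007e0200400d20051bc004000004) (nat_lit 0x116000b) (nat_lit 0x800400200901000800400e001) (nat_lit 0x4004000000801003004f00202400102002000001000802804a007024001004)) (.cD (nat_lit 239) (.kS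 (nat_lit 0) (nat_lit 0x1801002004800116800800007e0200400d20051bc004000004) (nat_lit 4156) (nat_lit 0x8004002009) (nat_lit 0x11100100001800802804203d002008168000018010020048005002004)) (.cD (nat_lit 311) (.kS (nat_lit 0) (nat_lit 0x1800802805a0021bc00400007e0200400d20051bc004000004) (nat_lit 4324) (nat_lit 0x8004002009) (nat_lit 0x1001803806500700100801003004f0020010041bc00001800802805a02d001004)) (.cD (nat_lit 367) (.kS (nat_lit 0) (nat_lit 0x1000803804500211100100007e0200400d20051bc004000004) (nat_lit 0x10600331ef) (nat_lit 0x800400200901000800400e00102001000802c002001) (nat_lit 0x16800800000801003004f00202400100100111100001000803804501702b00e001004)) (.cD (nat_lit 439) (.kS (nat_lit 0) (nat_lit 0x1000803805d00211100100007e0200400d20051bc004000004) (nat_lit 4312) (nat_lit 0x8004002009) (nat_lit 0x16800800000801003004f00200100111100001000803805d00f001004)) (.cD (nat_lit 495) (.kS (nat_lit 0) (nat_lit 0x1801002004800116800800007e0200400d20051bc004000004) (nat_lit 4412) (nat_lit 0x8004002009) (nat_lit 0x111001000018008028042035002008168000018010020048005002004))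 .nil))))))))) (.cD (nat_lit 472) (.kS (nat_lit 0) (nat_lit 0x40080140290010fd02100007e0200600a0005168008000004) (nat_lit 0x11d80eb) (nat_lit 0x8004002009010008004006001) (nat_lit 0x100100000040080100240010120011fd12100000400801402900100f002004)) (.cD (nat_lit 480) (.dfs (nat_lit 15) (nat_lit 0x100c004014035) (nat_lit 0x100c004014029) (nat_lit 0x1020010008002001) (nat_lit 0x103c010008002001) (nat_lit 28) (nat_lit 0) (nat_lit 2) (nat_lit 0) (nat_lit 0x7e0200400d20051bc004000002) (nat_lit 55) (nat_lit 1) (nat_lit 0) (nat_lit 1) (nat_lit 0) (nat_lit 1) (nat_lit 0x8000000000000080000000000000000080000000000000800000000000000000800000000000008000000000000000008000000000000080000000000000) (.cD (nat_lit 55) (.kS (nat_lit 0) (nat_lit 0x1800802004800201001000007e0200400d20051bc004000004) (nat_lit 4580) (nat_lit 0x8004002009) (nat_lit 0x200200001800802806a02500201001000001800802004803d001004)) (.cD (nat_lit 111) (.kS (nat_lit 0) (nat_lit 0x1000802806200202002000007e0200400d20051bc004000004) (nat_lit 0x11e000b) (nat_lit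 0x800400200901000800400e001) (nat_lit 0x4004000000801003004f002024001020020000010008028062037024001004)) (.cD (nat_lit 183) (.kS (nat_lit 0) (nat_lit 0x1000802806a00204004000007e0200400d20051bc004000004) (nat_lit 4440) (nat_lit 0x8004002009) (nat_lit 0x2002000000801003004f00200104004000001000802806a02f001004)) (.cD (nat_lit 239) (.kS (nat_lit 0) (nat_lit 0x180080280720021bc00400007e0200400d20051bc004000004) (nat_lit 4580) (nat_lit 0x8004002009) (nat_lit 0x1001803804d03700100801003004f0020010041bc00001800802807203d001004)) (.cD (nat_lit 311) (.kS (nat_lit 0) (nat_lit 0x1800802004800201001000007e0200400d20051bc004000004) (nat_lit 4188) (nat_lit 0x8004002009) (nat_lit 0x200200001800802806a02d002010010000018008020048035001004)) (.cD (nat_lit 367) (.kS (nat_lit 0) (nat_lit 0x1000802806200202002000007e0200400d20051bc004000004) (nat_lit 4184) (nat_lit 0x8004002009) (nat_lit 0x2002000000801003004f00200102002000001000802806203f001004)) (.cD (nat_lit 439) (.cut (nat_lit 0)) (.cD (nat_lit 495) (.kS (nat_lit 0) (nat_lit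 0x1800802004800201001000007e0200400d20051bc004000004) (nat_lit 4324) (nat_lit 0x8004002009) (nat_lit 0x200200001800802806a03500201001000001800802004802d001004)) .nil))))))))) .nil))))))))))
theorem c108 : (chk [(x37, s107)] [] p108).n x37 s108 = true := by decide +kernel
noncomputable def p109 : Pf := (.ext (nat_lit 0) (nat_lit 0) (nat_lit 0x1200080100040) (nat_lit 0x16800800008c06001c02000109a0500300200030a006002007e001168008000005) (nat_lit 0x300100400b) (nat_lit 4139) (nat_lit 4139) (nat_lit 0xc004002001) (.dfs (nat_lit 43) (nat_lit 0x100300100400b) (nat_lit 0x100300100400f) (nat_lit 0x1008002) (nat_lit 0x100c002) (nat_lit 4) (nat_lit 0) (nat_lit 2) (nat_lit 0) (nat_lit 0) (nat_lit 43) (nat_lit 1) (nat_lit 0) (nat_lit 4608) (nat_lit 512) (nat_lit 0x100002b00006b00012b00016b) (nat_lit 0x8000000000000000800000000000000000000000000000000000000000000000800000000000000080000000000) (.cD (nat_lit 43) (.kS (nat_lit 0) (nat_lit 0x4002008016002020020000002) (nat_lit 4203) (nat_lit 0x8004002003) (nat_lit 0x20020000002004008010001001020020000004002008016003001004))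 (.cD (nat_lit 107) (.kS (nat_lit 0) (nat_lit 0x4002008016002020020000002) (nat_lit 4395) (nat_lit 0x8004002003) (nat_lit 0x20020000002004008010001001020020000004002008016005001004)) (.cD (nat_lit 299) (.cut (nat_lit 0)) (.cD (nat_lit 363) (.iso x37 s108 (nat_lit 0) (nat_lit 0x1200100080040020010008004102001) (nat_lit 0x200100080040020010008004102001) [(nat_lit 0x10008004002005001001), (nat_lit 0x80040020010028024002021003001)] (.cut (nat_lit 0))) .nil))))))
theorem c109 : (chk [(x37, s108)] [g67] p109).n x37 s109 = true := by decide +kernel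
noncomputable def p110 : Pf := (.ext (nat_lit 0) (nat_lit 0) (nat_lit 0x120008010004000b013018) (nat_lit 0x40020010008004002001001001) (nat_lit 0x18010020048) (nat_lit 4103) (nat_lit 4103) (nat_lit 0x4903001001803d03b011) (.dfs (nat_lit 7) (nat_lit 0x1018010020048) (nat_lit 0x1008010030051) (nat_lit 0x1040008004002001) (nat_lit 0x104901803d03b011) (nat_lit 9) (nat_lit 0) (nat_lit 2) (nat_lit 0) (nat_lit 0) (nat_lit 7) (nat_lit 1) (nat_lit 0) (nat_lit 4480) (nat_lit 384) (nat_lit 0x1000087) (nat_lit 0x8000000000000000000000000000000000) (.cD (nat_lit 135) (.cut (nat_lit 0)) .nil)))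
theorem c110 : (chk [(x37, s109)] [] p110).n x37 s110 = true := by decide +kernel
noncomputable def p111 : Pf := (.ext (nat_lit 0) (nat_lit 0) (nat_lit 0x1200080100040) (nat_lit 0x168008000056030010006003002002000003) (nat_lit 0x3002004009) (nat_lit 0x101801300b) (nat_lit 0x1018013033) (nat_lit 0xa00400200100e00400200100c004002003) (.dfs (nat_lit 11) (nat_lit 0x1003002004009) (nat_lit 0x100100200400f) (nat_lit 0x1008001) (nat_lit 0x100c003) (nat_lit 6) (nat_lit 0) (nat_lit 2) (nat_lit 0) (nat_lit 0) (nat_lit 51) (nat_lit 1) (nat_lit 0) (nat_lit 0x1200040) (nat_lit 0x200040) (nat_lit 0x1000073001073001173) (nat_lit 0x80000000000000000000000000000) (.cD (nat_lit 115) (.dfs (nat_lit 19) (nat_lit 0x1006004008012) (nat_lit 0x100600400801e) (nat_lit 0x1010002001) (nat_lit 0x101c002005) (nat_lit 12) (nat_lit 0) (nat_lit 2) (nat_lit 0) (nat_lit 0) (nat_lit 19) (nat_lit 1) (nat_lit 0) (nat_lit 1) (nat_lit 0) (nat_lit 1) (nat_lit 0x80000000000000000000000000000000800000000000000000000000000000008000000000000000000000000000000080000)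 (.cD (nat_lit 19) (.kA false (nat_lit 0x2801002004000500200200001700801802c002168008000004)) (.cD (nat_lit 147) (.dfs (nat_lit 24) (nat_lit 0x100c008010024) (nat_lit 0x100c00801002c) (nat_lit 0x1020004002001) (nat_lit 0x102800400a001) (nat_lit 8) (nat_lit 0) (nat_lit 2) (nat_lit 0) (nat_lit 0) (nat_lit 24) (nat_lit 1) (nat_lit 0) (nat_lit 1) (nat_lit 0) (nat_lit 1) (nat_lit 0x1000000000000000000000000000000010000000000000000000000000000000100000000000000000000000000000001000000) (.cD (nat_lit 24) (.cut (nat_lit 0)) (.cD (nat_lit 152) (.kA false (nat_lit 0x3e01003004800103f010030050001168008000003)) (.cD (nat_lit 280) (.kS (nat_lit 0) (nat_lit 0x1001000003f0100200690011bc004000003) (nat_lit 0x11ab1b3) (nat_lit 0xc00400200301000800400e009) (nat_lit 0x1bc00400003f01003005003d03c0011d40d400003f010020069004015002010010000005)) (.cD (nat_lit 408) (.kA false (nat_lit 0x2e01003004800103f010030050001168008000003)) .nil))))) (.cD (nat_lit 275) (.kA false (nat_lit 0x3801002004000500200200001f00801802c002168008000004)) (.cD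 (nat_lit 403) (.dfs (nat_lit 24) (nat_lit 0x100c008010024) (nat_lit 0x100c00801002c) (nat_lit 0x1020004002001) (nat_lit 0x102800400a001) (nat_lit 8) (nat_lit 0) (nat_lit 2) (nat_lit 0) (nat_lit 0) (nat_lit 24) (nat_lit 1) (nat_lit 0) (nat_lit 1) (nat_lit 0) (nat_lit 1) (nat_lit 0x1000000000000000000000000000000010000000000000000000000000000000100000000000000000000000000000001000000) (.cD (nat_lit 24) (.kS (nat_lit 0) (nat_lit 0x16800800003f010030050001168008000003) (nat_lit 0x111310b) (nat_lit 0xc00400200301000800400e009) (nat_lit 0x2f0100200460020250011bc00400000801002004000400200100816800003f01003005003d03c002008168000006)) (.cD (nat_lit 152) (.kA false (nat_lit 0x2e01003004800103f010030050001168008000003)) (.cD (nat_lit 280) (.kS (nat_lit 0) (nat_lit 0x1001000003f0100200690011bc004000003) (nat_lit 0x11ab1b3) (nat_lit 0xc00400200301000800400e009) (nat_lit 0x1bc00400003f01003005003d03c0011d40d400003f010020069004015002010010000005)) (.cD (nat_lit 408) (.kA false (nat_lit 0x3e01003004800103f010030050001168008000003))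 .nil))))) .nil))))) .nil)))
theorem c111 : (chk [(x37, s110)] [] p111).n x37 s111 = true := by decide +kernel
noncomputable def p112 : Pf := (.clm (.cut (nat_lit 0)) (.dfs (nat_lit 256) (nat_lit 1) (nat_lit 1) (nat_lit 1) (nat_lit 1) (nat_lit 0) (nat_lit 0) (nat_lit 0) (nat_lit 0) (nat_lit 0) (nat_lit 0) (nat_lit 1) (nat_lit 0) (nat_lit 0x1100040020010008004002001) (nat_lit 0x1000400200100080b40de001) (nat_lit 0x100010000110000210000010800110800210800610800010c00110c00210c00310c00410c00010e00110e00210e00310e00410e00510e0011a40021a40031a400316c00114000314000013800114e00314e00414e00514e00714e0021d00051d000113c00018c0011900021900051900051d200015200115200013e0001be0041a20041a0) (nat_lit 0x51010000000000000000000000000000000000000000000000000000000000000000) (.cD (nat_lit 256) (.kin (nat_lit 1) (nat_lit 0)) (.cD (nat_lit 264) (.czp (nat_lit 264) (nat_lit 0x1002001) (nat_lit 0x110008007000801c006) z13 (.dfs (nat_lit 24) (nat_lit 4097) (nat_lit 4097) (nat_lit 1) (nat_lit 1) (nat_lit 0) (nat_lit 2) (nat_lit 3) (nat_lit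 0) (nat_lit 0) (nat_lit 0) (nat_lit 1) (nat_lit 0) (nat_lit 0x100801c17e) (nat_lit 0x801c17e) (nat_lit 0x100000e00100e00200e0000120010120010fe) (nat_lit 0x44000) (.cD (nat_lit 14) (.mulh (nat_lit 1) (nat_lit 1) (.mulh (nat_lit 1) (nat_lit 1) (.dfs (nat_lit 32) (nat_lit 4104) (nat_lit 4104) (nat_lit 0x1004002001) (nat_lit 0x1007003001) (nat_lit 0) (nat_lit 0) (nat_lit 3) (nat_lit 0) (nat_lit 0) (nat_lit 0) (nat_lit 1) (nat_lit 0) (nat_lit 0x106c062) (nat_lit 0xec00e) (nat_lit 0x100000600100600000800100800105a0010d4) (nat_lit 320) (.cD (nat_lit 6) (.kF (nat_lit 80) (nat_lit 0x1001000016056006020020000005015002026040006005)) (.cD (nat_lit 8) (.kF (nat_lit 32) (nat_lit 0x26040005009019001001010001003)) .nil))))) (.cD (nat_lit 18) (.mulh (nat_lit 1) (nat_lit 1) (.mulh (nat_lit 1) (nat_lit 1) (.dfs (nat_lit 32) (nat_lit 4104) (nat_lit 4104) (nat_lit 0x1004002001) (nat_lit 0x1007003001) (nat_lit 0) (nat_lit 0) (nat_lit 3) (nat_lit 0) (nat_lit 0) (nat_lit 0) (nat_lit 1) (nat_lit 0) (nat_lit 0x106c12a) (nat_lit 0xec1f6)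 (nat_lit 0x100000800100800002a00102a0010d40010f6) (nat_lit 0x40000000100) (.cD (nat_lit 8) (.kF (nat_lit 32) (nat_lit 0x901000201606600600100100000d01f0010b4004000001010001006)) (.cD (nat_lit 42) (.dfs (nat_lit 64) (nat_lit 4112) (nat_lit 4112) (nat_lit 0x1008004002001) (nat_lit 0x100a004002001) (nat_lit 0) (nat_lit 0) (nat_lit 3) (nat_lit 0) (nat_lit 0) (nat_lit 0) (nat_lit 1) (nat_lit 0) (nat_lit 1) (nat_lit 0) (nat_lit 1) (nat_lit 0x1000000000000000000000000000000010000000) (.cD (nat_lit 28) (.dfs (nat_lit 4) (nat_lit 0x100e004005025) (nat_lit 0x1002004001025) (nat_lit 0x1020010008002001) (nat_lit 0x102401000800a005) (nat_lit 12) (nat_lit 0) (nat_lit 2) (nat_lit 0) (nat_lit 0x1001000001) (nat_lit 34) (nat_lit 1) (nat_lit 0) (nat_lit 4360) (nat_lit 264) (nat_lit 0x100003e) (nat_lit 0x4000000000000000) (.cD (nat_lit 62) (.dfs (nat_lit 2) (nat_lit 0x101c00800a04a) (nat_lit 0x100400800a071) (nat_lit 0x1040020010004002001) (nat_lit 0x107300b01001400202a) (nat_lit 35) (nat_lit 0) (nat_lit 2) (nat_lit 0) (nat_lit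 0x1001000001) (nat_lit 46) (nat_lit 1) (nat_lit 0) (nat_lit 1) (nat_lit 0) (nat_lit 1) (nat_lit 0x400000000000000000000000000000004000000000000) (.cD (nat_lit 50) (.dfs (nat_lit 1) (nat_lit 0x10270100520c8) (nat_lit 0x1018010004084) (nat_lit 0x1080040020008004002001) (nat_lit 0x109a01907603705204b001) (nat_lit 0) (nat_lit 0) (nat_lit 2) (nat_lit 0) (nat_lit 0) (nat_lit 9) (nat_lit 1) (nat_lit 0) (nat_lit 1) (nat_lit 0) (nat_lit 1) (nat_lit 0x200000000000000000000000000000002000000000) (.cD (nat_lit 37) (.extn a42 (nat_lit 0x100020008010050090004002001) (nat_lit 0x1020080040100) (nat_lit 2) (nat_lit 0) (nat_lit 0) (nat_lit 8) (nat_lit 0x10000000000000000000000000000000100) (.cE (nat_lit 8) b66 (nat_lit 0) (.cut (nat_lit 1)) (.cut (nat_lit 2)) (.cE (nat_lit 136) b67 (nat_lit 0) (.cut (nat_lit 3)) (.cut (nat_lit 4)) .nil))) (.cD (nat_lit 165) (.extn (nat_lit 0x1851201b714e18b1421d51f018d11813f1c61831ca16d1f81c318a12d1b812110411315a1171ee1c91dc1451e017718e1af1d61c11e414d1d81ff1061cb1021951b019918c1ab16215914c16b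1a21d712e10911c16114415311a1ef1961811a412913c19b1521a71de17916c19113412316a11f1e61f115415f1a61b111413d1a810f1761bb1721e51401e91fc15b19213317a15d1c81511f41e31aa1e719e13912c1b519010717e1751501c71be17b1b212518017d1e814f13617313a11d1881051a01371ce10b1c215517010d1981bf14610314a1ed17814310a1ad1381a11841931da19716e14915c1c51601f710e12f1561411641cd15817f18614b18211513011910c12b1e21d91cc1eb1221571ae18919c1e11c41d319a16f1161011241a91bc11b1d212715e1f91ec1111b41a31ea19f1661711d41df1261311941bd12818f1f613b1f21651c016917c1db1121b31fa1dd1481d117416312a16711e1b91ac1351101871fe1f51d014713e1fb1321a51001fd1681cf1b61f31ba19d10808d01803f0c60830ca06d0f80850200b704e08b0420d50f004b08201503001900c02b0e202f0560410640cd05807f08609706e04905c0c50600f700e04300a0ad0380a10840930da0e10c40d309a06f0160010240d90cc0eb0220570ae08909c0110b40a30ea09f0660710d40a90bc01b0d202705e0f90ec0e709e03902c0b509000707e03307a05d0c80510f40e30aa0bb0720e50400e90fc05b09205f0a60b101403d0a800f07607d0e804f03607303a01d0880750500c70be07b0b202508000d0980bf04600304a0ed0780050a00370ce00b0c20550700cb0020950b009908c0ab0620af0d60c10e404d0d80ff0060170ee0c90dc0450e007708e0c308a02d0b802100401305a06104405301a0ef0960810a405904c06b0a20d702e00901c09103402306a01f0e60f105402903c09b0520a70de07906c06701e0b90ac0350100870fe0b30fa0dd0480d107406302a03b0f20650c006907c0db0120df0260310940bd02808f0f60fd0680cf0b60f30ba09d0080f50d004703e0fb0320a5000)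 (nat_lit 0x100020008010050090004002001) (nat_lit 0x1020080040100) (nat_lit 2) (nat_lit 0) (nat_lit 0) (nat_lit 8) (nat_lit 0x10000000000000000000000000000000100) (.cE (nat_lit 8) (nat_lit 0x16112810f19a1031261b11f81d91101071a210b11e1391f014b15e1791b01c51bc19b18e1af13a19d1641a11e81cf15a11713212515c1191d01c71621431661f11b81cd1b412310610d1741e31c616f1fa15d1a41851fc1db1ce15717216511c17d1841131b619f10a12d1541f510c1ab1be12718219516c1671c21d512c1691a01b71921331961011481bd1441d31761bb1ae1091c01351cc16b17e1df14a16d1141d119813f1aa1111581ff16a1f31561c11881291e01f71d21fb1ee1491801e11a818f11a1831a613117815919018712218b19e1b91701cb1de1f913014513c11b10e12f1ba11d1e412116814f1da1971b21a51dc1991501471e21c31e617113814d1341a318618d1f41631461ef17a1dd12410517c15b14e1d71f21e519c1fd10419313611f18a1ad1d417518c12b13e1a71021151ec1e71421551ac1e91201371121b31161811c813d1c41531f613b12e1891401b514c1eb1fe15f1ca1ed1941511181bf12a1911d817f1ea1731d61411081a916017715217b16e1c91000d90100070a200b01e0390f006102800f09a0030260b10f80c30e607103804d03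40a30860970b20a50dc0990500470e202f0ba01d0e402106804f0da0cb0de0f903004503c01b00e00507c05b04e0d70f20e509c08d0f40630460ef07a0dd02407508c02b03e0a70020150ec0fd00409303601f08a0ad0d40df04a06d0140d109803f0aa0bb0ae0090c00350cc06b07e0330960010480bd0440d30760670c20d502c0690a00b70920290e00f70d20fb0ee0490800110580ff06a0f30560c108805909008702208b09e0b90700e10a808f01a0830a60310780430660f10b80cd0b402300601703202505c0190d00c70620af03a09d0640a10e80cf05a04b05e0790b00c50bc09b08e0850fc0db0ce05707206501c00d0740e30c606f0fa05d0a40f500c0ab0be02708209506c07d0840130b609f00a02d05405f0ca0ed0940510180bf02a03b02e0890400b504c0eb0fe0b30160810c803d0c40530f60e70420550ac0e90200370120a906007705207b06e0c90000910d807f0ea0730d6041008) (nat_lit 0) (.kS (nat_lit 0) (nat_lit 0x100200400900041bc004000008010020040006003) (nat_lit 0x10dc1920bc0ba) (nat_lit 0x8004002009010008014007001020010008014002011040020030079044062001) (nat_lit 0x110010000100300500fa05a0650320010030cd0dd00001002004009004a045038014003004)) (.kS (nat_lit 0) (nat_lit 0x100200400900041bc004000008010020040006003)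 (nat_lit 0x10dc1920bc0ba) (nat_lit 0x8004002009010008014007001020010008014002011040020030079044062001) (nat_lit 0x110010000100300500fa05a0650320010030cd0dd00001002004009004a045038014003004)) (.cE (nat_lit 136) (nat_lit 0x1e11a818f11a1831a613117815919018712218b19e1b91701cb1de1f913014513c11b10e12f1ba11d1e412116814f1da1971b21a51dc1991501471e21c31e617113814d1341a318618d1f41631461ef17a1dd12410517c15b14e1d71f21e519c1fd10419313611f18a1ad1d417518c12b13e1a71021151ec1e71421551ac1e91201371121b31161811c813d1c41531f613b12e1891401b514c1eb1fe15f1ca1ed1941511181bf12a1911d817f1ea1731d61411081a916017715217b16e1c910016112810f19a1031261b11f81d91101071a210b11e1391f014b15e1791b01c51bc19b18e1af13a19d1641a11e81cf15a11713212515c1191d01c71621431661f11b81cd1b412310610d1741e31c616f1fa15d1a41851fc1db1ce15717216511c17d1841131b619f10a12d1541f510c1ab1be12718219516c1671c21d512c1691a01b71921331961011481bd1441d31761bb1ae1091c01351cc16b17e1df14a16d1141d119813f1aa1111581ff16a1f31561c11881291e01f71d21fb1ee14918005909008702208b09e0b90700e10a808f0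1a0830a60310780430660f10b80cd0b402300601703202505c0190d00c70620af03a09d0640a10e80cf05a04b05e0790b00c50bc09b08e0850fc0db0ce05707206501c00d0740e30c606f0fa05d0a40f500c0ab0be02708209506c07d0840130b609f00a02d05405f0ca0ed0940510180bf02a03b02e0890400b504c0eb0fe0b30160810c803d0c40530f60e70420550ac0e90200370120a906007705207b06e0c90000910d807f0ea0730d60410080d90100070a200b01e0390f006102800f09a0030260b10f80c30e607103804d0340a30860970b20a50dc0990500470e202f0ba01d0e402106804f0da0cb0de0f903004503c01b00e00507c05b04e0d70f20e509c08d0f40630460ef07a0dd02407508c02b03e0a70020150ec0fd00409303601f08a0ad0d40df04a06d0140d109803f0aa0bb0ae0090c00350cc06b07e0330960010480bd0440d30760670c20d502c0690a00b70920290e00f70d20fb0ee0490800110580ff06a0f30560c1088) (nat_lit 0) (.kS (nat_lit 0) (nat_lit 0x100200400900041bc004000008010020040006003) (nat_lit 0x10dc1920bc0ba) (nat_lit 0x8004002009010008014007001020010008014002011040020030079044062001) (nat_lit 0x1110010000100300500fa05a0650320010031cd0dd00001002004009004a045038014003004)) (.kS (nat_lit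 0) (nat_lit 0x100200400900041bc004000008010020040006003) (nat_lit 0x10dc1920bc0ba) (nat_lit 0x8004002009010008014007001020010008014002011040020030079044062001) (nat_lit 0x1110010000100300500fa05a0650320010031cd0dd00001002004009004a045038014003004)) .nil))) .nil))) (.cD (nat_lit 178) (.dfs (nat_lit 1) (nat_lit 0x10370100520c8) (nat_lit 0x1008010004084) (nat_lit 0x1080040020008004002001) (nat_lit 0x109a01907603705204b001) (nat_lit 0) (nat_lit 0) (nat_lit 2) (nat_lit 0) (nat_lit 0) (nat_lit 15) (nat_lit 1) (nat_lit 0) (nat_lit 1) (nat_lit 0) (nat_lit 1) (nat_lit 0x200000000000000000000000000000002000000000000000000000) (.cD (nat_lit 85) (.extn (nat_lit 0x1f51a01c714e17b1c21a51f01fd19814f1c617314a19d1f813310a1dd1b81d11841e315a1e716e1b91dc13516010718e1df1561b11e413d15818f10613b1821e51b01e910c1db1621291cc11b1a21271ae17911c1911c41a311a19f1161f11a41d91bc16b1521d715e18916c1e11b415316a1ef1661011541af1261411141cd1281ff1761cb1f211514011917c1ab1921431fa12d1c81211741931aa19711e1c912c1451101f717e1851d01371be10b1321d518018d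1681bf1361031ba16d1881751201471ce1fb14212517017d1181cf1461f31ca11d1781b318a15d1381511041631da1671ee13915c1b51e018710e15f1d61311641bd1d810f1861bb10216513016918c15b1e21a914c19b1221a712e1f919c11114412319a11f19617112415913c1eb1d21571de1091ec1611341d31ea16f1e61811d412f1a61c119414d1a817f1f614b1721951c01991fc12b1121c317a1ad1481a11f411312a11719e1491ac1c51901771fe1051501b713e18b1b215510010d1e813f1b618313a1ed1080fd09804f0c607304a09d0f80f50a00c704e07b0c20a50f00bb00206503006908c05b0e205f0d60310640bd0d800f0860670ee03905c0b50e008700e0b308a05d0380510040630da01104402309a01f0960710240a904c09b0220a702e0f909c0610340d30ea06f0e60810d405903c0eb0d20570de0090ec09701e0c902c0450100f707e0430fa02d0c80210740930aa0cb0f201504001907c0ab0920af0260410140cd0280ff07608d0680bf0360030ba06d0880850d00370be00b0320d508007d0180cf0460f30ca01d0780750200470ce0fb04202507003b0820e50b00e900c0db0620df0560b10e403d05808f0060e706e0b90dc03506000708e03300a0dd0b80d10840e305a0910c40a301a09f0160f10a40290cc01b0a20270ae07901c0e10b405306a0ef0660010540d90bc06b0520d705e08906c01709e0490ac0c50900770fe0c307a0ad0480a10f401302a04b0720950c00990fc02b01202f0a60c109404d0a807f0f600d0e803f0b608303a0ed0080050500b703e08b0b2055000)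 (nat_lit 0x100020008010050090004002001) (nat_lit 0x1020080040100) (nat_lit 2) (nat_lit 0) (nat_lit 0) (nat_lit 40) (nat_lit 0x100000000000000000000000000000001000000000000000000000000000000) (.cE (nat_lit 120) (nat_lit 0x1e11d810f16a1831561b11081591601071d218b1ee1391001cb1ae17914014514c19b17e12f14a19d1941211181cf1aa19714212512c1991a01c71121c31161f114814d1441231f618d1841e31361ef18a15d15410510c1db13e1d710216516c1fd1f41131c611f1fa12d12417517c1ab1ce1a717219519c1e71321d51dc1e91501b71621b316610113813d1341d310613b1de1091b01b51bc16b10e15f1ba16d1641511e813f1da1911281ff11a1731a61c11f81a91101f712217b19e1491f016115818f1ea1031d61311881d91e018715210b16e1b918014b12e1f91c01c51cc11b1fe1af1ca11d1141a119814f12a1171c21a51ac1191201471921431961711c81cd1c41a317610d1041631b616f10a1dd1d418518c15b1be1571821e51ec17d17419314619f17a1ad1a41f51fc12b14e1271f211511c1671b215515c1691d01371e21331e61811b81bd1b41531861bb15e18913013513c1eb18e1df13a1ed1e41d11681bf15a1111a817f19a1f31261411781291901771a21fb11e1c91700590600070d208b0ee0390000e10d800f0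6a0830560b10080430960710c80cd0c40a30760170c20a50ac0190200470920af0ca01d0140a109804f02a04b02e0f90c00c50cc01b0fe08508c05b0be0570820e50ec00d0040630b606f00a0dd0d40f50fc02b04e0270f201501c07d07409304609f07a0ad0a405f0ba06d0640510e803f0da03b0de0090b00b50bc06b00e0b306600103803d0340d30060e70320d50dc0e90500b70620a90100f702207b09e0490f00910280ff01a0730a60c10f80d90e008705200b06e0b908006105808f0ea0030d60310880c30160f104804d0440230f609704202502c0990a00c701202f04a09d0940210180cf0aa0cb0ae07904004504c09b07e00500c0db03e0d700206506c08d0840e30360ef08a05d05407507c0ab0ce0a707209509c0fd0f40130c601f0fa02d0240df03a0ed0e40d10680bf05a0bb05e08903003503c0eb08e0330e60810b80bd0b40530860670b205505c0690d00370e20290900770a20fb01e0c90700110a807f09a0f3026041078) (nat_lit 0) (.kS (nat_lit 0) (nat_lit 0x1f1001000010020040080004008010020040006003) (nat_lit 0x11040e20dc) (nat_lit 0x8004002009010008014007001020010008014002011) (nat_lit 0x100300700b207a04700200313b00300001002004008004a0450380030011f1000004)) (.kS (nat_lit 0) (nat_lit 0x1f1001000010020040080004008010020040006003)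 (nat_lit 0x11040e20dc) (nat_lit 0x8004002009010008014007001020010008014002011) (nat_lit 0x100300700b207a04700200313b00300001002004008004a0450380030011f1000004)) (.cE (nat_lit 248) (nat_lit 0x16115818f1ea1031d61311881d91e018715210b16e1b918014b12e1f91c01c51cc11b1fe1af1ca11d1141a119814f12a1171c21a51ac1191201471921431961711c81cd1c41a317610d1041631b616f10a1dd1d418518c15b1be1571821e51ec17d17419314619f17a1ad1a41f51fc12b14e1271f211511c1671b215515c1691d01371e21331e61811b81bd1b41531861bb15e18913013513c1eb18e1df13a1ed1e41d11681bf15a1111a817f19a1f31261411781291901771a21fb11e1c91701e11d810f16a1831561b11081591601071d218b1ee1391001cb1ae17914014514c19b17e12f14a19d1941211181cf1aa19714212512c1991a01c71121c31161f114814d1441231f618d1841e31361ef18a15d15410510c1db13e1d710216516c1fd1f41131c611f1fa12d12417517c1ab1ce1a717219519c1e71321d51dc1e91501b71621b316610113813d1341d310613b1de1091b01b51bc16b10e15f1ba16d1641511e813f1da1911281ff11a1731a61c11f81a91101f712217b19e1491f00d90e008705200b06e0b908006105808f0ea0030d60310880c30160f104804d0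440230f609704202502c0990a00c701202f04a09d0940210180cf0aa0cb0ae07904004504c09b07e00500c0db03e0d700206506c08d0840e30360ef08a05d05407507c0ab0ce0a707209509c0fd0f40130c601f0fa02d0240df03a0ed0e40d10680bf05a0bb05e08903003503c0eb08e0330e60810b80bd0b40530860670b205505c0690d00370e20290900770a20fb01e0c90700110a807f09a0f30260410780590600070d208b0ee0390000e10d800f06a0830560b10080430960710c80cd0c40a30760170c20a50ac0190200470920af0ca01d0140a109804f02a04b02e0f90c00c50cc01b0fe08508c05b0be0570820e50ec00d0040630b606f00a0dd0d40f50fc02b04e0270f201501c07d07409304609f07a0ad0a405f0ba06d0640510e803f0da03b0de0090b00b50bc06b00e0b306600103803d0340d30060e70320d50dc0e90500b70620a90100f702207b09e0490f00910280ff01a0730a60c10f8) (nat_lit 0) (.kS (nat_lit 0) (nat_lit 0xf1001000010020040080004008010020040006003) (nat_lit 0x11040e20dc) (nat_lit 0x8004002009010008014007001020010008014002011) (nat_lit 0x100300700b207a04700200303b00300001002004008004a0450380030010f1000004)) (.kS (nat_lit 0) (nat_lit 0xf1001000010020040080004008010020040006003) (nat_lit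 0x11040e20dc) (nat_lit 0x8004002009010008014007001020010008014002011) (nat_lit 0x100300700b207a04700200303b00300001002004008004a0450380030010f1000004)) .nil))) (.cD (nat_lit 213) (.extn (nat_lit 0x1751a014714e1fb1c21251f017d1981cf1c61f314a11d1f81b310a15d1b815118416315a16716e1391dc1b516018718e15f1561311e41bd15810f1061bb1821651b016910c15b1621a91cc19b1a21a71ae1f911c1111c412311a11f1161711a41591bc1eb15215715e10916c1611b41d316a16f16618115412f1261c111414d12817f17614b1f219514019917c12b1921c31fa1ad1c81a11741131aa11711e14912c1c511017717e1051d01b71be18b13215518010d16813f1361831ba1ed1881f51201c71ce17b1421a51701fd11814f1461731ca19d17813318a1dd1381d11041e31da1e71ee1b915c1351e010710e1df1d61b116413d1d818f18613b1021e51301e918c1db1e212914c11b12212712e17919c1911441a319a19f1961f11241d913c16b1d21d71de1891ec1e11341531ea1ef1e61011d41af1a61411941cd1a81ff1f61cb1721151c01191fc1ab11214317a12d1481211f419312a19719e1c91ac1451901f71fe18515013713e10b1b21d510018d1e81bf1b610313a16d10807d0980cf0c60f304a01d0f80750a004704e0fb0c20250f003b0020e50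300e908c0db0e20df0d60b106403d0d808f0860e70ee0b905c0350e000700e03308a0dd0380d10040e30da0910440a309a09f0960f102402904c01b02202702e07909c0e10340530ea0ef0e60010d40d903c06b0d20d70de0890ec01701e04902c0c501007707e0c30fa0ad0c80a10740130aa04b0f209504009907c02b09202f0260c101404d02807f07600d06803f0360830ba0ed0880050d00b70be08b0320550800fd01804f0460730ca09d0780f50200c70ce07b0420a50700bb0820650b006900c05b06205f0560310e40bd05800f00606706e0390dc0b506008708e0b300a05d0b805108406305a0110c402301a01f0160710a40a90cc09b0a20a70ae0f901c0610b40d306a06f0660810540590bc0eb05205705e00906c09709e0c90ac0450900f70fe04307a02d0480210f409302a0cb0720150c00190fc0ab0120af0a60410940cd0a80ff0f608d0e80bf0b600303a06d00808505003703e00b0b20d5000) (nat_lit 0x100020008010050090004002001) (nat_lit 0x1020080040100) (nat_lit 2) (nat_lit 0) (nat_lit 0) (nat_lit 40) (nat_lit 0x100000000000000000000000000000001000000000000000000000000000000) (.cE (nat_lit 120) (nat_lit 0x1611d818f16a1031561311081d91601871d210b1ee1b910014b1ae1f91401c514c11b17e1af14a11d1941a11181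4f1aa1171421a512c1191a01471121431161711481cd1441a31f610d18416313616f18a1dd15418510c15b13e1571021e516c17d1f41931c619f1fa1ad1241f517c12b1ce12717211519c1671321551dc1691501371621331661811381bd1341531061bb1de1891b01351bc1eb10e1df1ba1ed1641d11e81bf1da11112817f11a1f31a61411f81291101771221fb19e1c91f01e115810f1ea1831d61b11881591e010715218b16e1391801cb12e1791c01451cc19b1fe12f1ca19d1141211981cf12a1971c21251ac1991201c71921c31961f11c814d1c412317618d1041e31b61ef10a15d1d410518c1db1be1d71821651ec1fd17411314611f17a12d1a41751fc1ab14e1a71f219511c1e71b21d515c1e91d01b71e21b31e61011b813d1b41d318613b15e1091301b513c16b18e15f13a16d1e415116813f15a1911a81ff19a1731261c11781a91901f71a217b11e1491700d90600870d200b0ee0b90000610d808f06a0030560310080c30960f10c804d0c40230760970c20250ac0990200c709202f0ca09d0140210980cf02a0cb02e0790c00450cc09b0fe00508c0db0be0d70820650ec08d0040e30b60ef00a05d0d40750fc0ab04e0a70f209501c0fd07401304601f07a02d0a40df0ba0ed0640d10e80bf0da0bb0de0890b00350bc0eb00e0330660810380bd0340530060670320550dc0690500370620290100770220fb09e0c90f001102807f01a0f30a60410f80590e000705208b06e0390800e105800f0ea0830d60b10880430160710480cd0440a30f60170420a502c0190a00470120af04a01d0940a101804f0aa04b0ae0f90400c504c01b07e08500c05b03e0570020e506c00d08406303606f08a0dd0540f507c02b0ce02707201509c07d0f40930c609f0fa0ad02405f03a06d0e405106803f05a03b05e0090300b503c06b08e0b30e60010b803d0b40d30860e70b20d505c0e90d00b70e20a90900f70a207b01e0490700910a80ff09a0730260c1078)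 (nat_lit 0) (.kS (nat_lit 0) (nat_lit 0x1f1001000010020040080004008010020040006003) (nat_lit 0x11041e20dc) (nat_lit 0x8004002009010008014007001020010008014002011) (nat_lit 0x100300700b207a07700200303b00300001002004008004a0450380030011f1000004)) (.kS (nat_lit 0) (nat_lit 0x1f1001000010020040080004008010020040006003) (nat_lit 0x11041e20dc) (nat_lit 0x8004002009010008014007001020010008014002011) (nat_lit 0x100300700b207a07700200303b00300001002004008004a0450380030011f1000004)) (.cE (nat_lit 248) (nat_lit 0x1e115810f1ea1831d61b11881591e010715218b16e1391801cb12e1791c01451cc19b1fe12f1ca19d1141211981cf12a1971c21251ac1991201c71921c31961f11c814d1c412317618d1041e31b61ef10a15d1d410518c1db1be1d71821651ec1fd17411314611f17a12d1a41751fc1ab14e1a71f219511c1e71b21d515c1e91d01b71e21b31e61011b813d1b41d318613b15e1091301b513c16b18e15f13a16d1e415116813f15a1911a81ff19a1731261c11781a91901f71a217b11e1491701611d818f16a1031561311081d91601871d210b1ee1b910014b1ae1f91401c514c11b17e1af14a11d1941a111814f1aa1171421a512c1191a014711214311617114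81cd1441a31f610d18416313616f18a1dd15418510c15b13e1571021e516c17d1f41931c619f1fa1ad1241f517c12b1ce12717211519c1671321551dc1691501371621331661811381bd1341531061bb1de1891b01351bc1eb10e1df1ba1ed1641d11e81bf1da11112817f11a1f31a61411f81291101771221fb19e1c91f00590e000705208b06e0390800e105800f0ea0830d60b10880430160710480cd0440a30f60170420a502c0190a00470120af04a01d0940a101804f0aa04b0ae0f90400c504c01b07e08500c05b03e0570020e506c00d08406303606f08a0dd0540f507c02b0ce02707201509c07d0f40930c609f0fa0ad02405f03a06d0e405106803f05a03b05e0090300b503c06b08e0b30e60010b803d0b40d30860e70b20d505c0e90d00b70e20a90900f70a207b01e0490700910a80ff09a0730260c10780d90600870d200b0ee0b90000610d808f06a0030560310080c30960f10c804d0c40230760970c20250ac0990200c709202f0ca09d0140210980cf02a0cb02e0790c00450cc09b0fe00508c0db0be0d70820650ec08d0040e30b60ef00a05d0d40750fc0ab04e0a70f209501c0fd07401304601f07a02d0a40df0ba0ed0640d10e80bf0da0bb0de0890b00350bc0eb00e0330660810380bd0340530060670320550dc0690500370620290100770220fb09e0c90f001102807f01a0f30a60410f8) (nat_lit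 0) (.kS (nat_lit 0) (nat_lit 0xf1001000010020040080004008010020040006003) (nat_lit 0x11041e20dc) (nat_lit 0x8004002009010008014007001020010008014002011) (nat_lit 0x100300700b207a07700200313b00300001002004008004a0450380030010f1000004)) (.kS (nat_lit 0) (nat_lit 0xf1001000010020040080004008010020040006003) (nat_lit 0x11041e20dc) (nat_lit 0x8004002009010008014007001020010008014002011) (nat_lit 0x100300700b207a07700200313b00300001002004008004a0450380030010f1000004)) .nil))) .nil))) .nil))) .nil)) (.cD (nat_lit 156) (.kA false (nat_lit 0x400e00f020002001001000010008028060005030020050082004022010030066005002004001020001006)) .nil))) .nil))))) .nil)))) (.cD (nat_lit 268) (.kn (nat_lit 1) (nat_lit 0x1100080040020010008) false (nat_lit 0x1010008004002001) (nat_lit 0x100080b40de001) (nat_lit 0x100010c00110c00210c00310c00410c00114e00314e00414e)) (.cD (nat_lit 270) (.kn (nat_lit 1) (nat_lit 0x1100080040020010008) false (nat_lit 0x1020010008004002001) (nat_lit 0x200100080b40de001) (nat_lit 0x100010e00110e00210e00310e00410e00510e001190002190))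 .nil))))))
theorem c112 : (chk [(x31, s89), (x33, s90), (x34, s91), (x35, s101), (x37, s111)] [] p112).n x31 s112 = true := by decide +kernel
noncomputable def p113 : Pf := (.ext (nat_lit 0) (nat_lit 0x8010020040004001) (nat_lit 0x11d209c0dc05c0de00102c) (nat_lit 0x40020010008004027035002001) (nat_lit 0x8010020040) (nat_lit 4104) (nat_lit 4133) (nat_lit 0x6903801000801400a001) (.dfs (nat_lit 8) (nat_lit 0x1008010020040) (nat_lit 0x1008010038069) (nat_lit 0x1004002001) (nat_lit 0x101400a001) (nat_lit 0) (nat_lit 0) (nat_lit 2) (nat_lit 0) (nat_lit 0x8010020040006001) (nat_lit 9) (nat_lit 1) (nat_lit 0) (nat_lit 1) (nat_lit 0) (nat_lit 1) (nat_lit 0x200000000200000000000000000000002000000002000000000) (.cD (nat_lit 37) (.cut (nat_lit 0)) (.cD (nat_lit 73) (.kS (nat_lit 0) (nat_lit 0x300200600d8002010010000008010020040006003) (nat_lit 0x10700d4) (nat_lit 0x8004002009010008014007001) (nat_lit 0x100100000200300700f20280040010100100000300200600d8012053001004)) (.cD (nat_lit 165) (.kS (nat_lit 0) (nat_lit 0x300200600d8002010010000008010020040006003)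 (nat_lit 0x1070054) (nat_lit 0x8004002009010008014007001) (nat_lit 0x100100000200300700f20280040010100100000300200600d8012063001004)) (.cD (nat_lit 201) (.kS (nat_lit 0) (nat_lit 0x10020040080002008010020040006002) (nat_lit 0x106e049) (nat_lit 0x8004002009010008014007001) (nat_lit 0x300100600d80220010010200300700f202800400101002004008004a075001003)) .nil))))))
theorem c113 : (chk [(x31, s112)] [] p113).n x31 s113 = true := by decide +kernel
noncomputable def p114 : Pf := (.ext (nat_lit 0) (nat_lit 0x4008010020004001) (nat_lit 0x116201c0800dc07003a) (nat_lit 0x2001000800400200100404002001000800403d005002) (nat_lit 0x4008010020) (nat_lit 4098) (nat_lit 4146) (nat_lit 0x24010008004002005) (.dfs (nat_lit 2) (nat_lit 0x1004008010020) (nat_lit 0x1004008010024) (nat_lit 0x1002001) (nat_lit 0x1002005) (nat_lit 4) (nat_lit 0) (nat_lit 2) (nat_lit 0) (nat_lit 0x4008010020006001) (nat_lit 46) (nat_lit 1) (nat_lit 0) (nat_lit 1) (nat_lit 0) (nat_lit 1) (nat_lit 0x400000000000000400000000000000004000000000000004000000000000)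 (.cD (nat_lit 50) (.kS (nat_lit 0) (nat_lit 0x8008000018008038055001001001000004008010020006004) (nat_lit 0x106e05e081) (nat_lit 0x800400200501000800401a00102001003802d012001) (nat_lit 0x1800802004000901c02f0010e700b00001800803805500100c03f002008008000004)) (.cD (nat_lit 110) (.cut (nat_lit 1)) (.cD (nat_lit 178) (.cut (nat_lit 0)) (.cD (nat_lit 238) (.kS (nat_lit 0) (nat_lit 0x1800803006c00301800803006c001004008010020006003) (nat_lit 4268) (nat_lit 0x8004002005) (nat_lit 0x801803006c02500105a05a00001800803006c00100201800803006c03f004004)) .nil))))))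
theorem c114 : (chk [(x31, s88), (x31, s113)] [] p114).n x31 s114 = true := by decide +kernel
noncomputable def p115 : Pf := (.ext (nat_lit 0) (nat_lit 0x4008010020002001) (nat_lit 0x11d209c0dc05c0de02d) (nat_lit 0x2001000800c00a009002010010000020010008004002001001003) (nat_lit 0xc008010020) (nat_lit 4097) (nat_lit 4127) (nat_lit 0x3201800800400200d) (.dfs (nat_lit 1) (nat_lit 0x100c008010020) (nat_lit 0x100c008018032) (nat_lit 0x1004002001) (nat_lit 0x100400200d) (nat_lit 0) (nat_lit 0) (nat_lit 2) (nat_lit 0) (nat_lit 0x4008010020004001) (nat_lit 3) (nat_lit 1) (nat_lit 0) (nat_lit 1) (nat_lit 0) (nat_lit 1) (nat_lit 0x8000000008000000000000000000000080000000080000000) (.cD (nat_lit 31) (.kS (nat_lit 0) (nat_lit 0x8010020040001004008010020004002) (nat_lit 0x10de01f032) (nat_lit 0x800400200501000800c00f001020010008034002031) (nat_lit 0x1801002004000403d03f002008010020040014001003002002)) (.cD (nat_lit 67) (.kS (nat_lit 0) (nat_lit 0x100080200500010b4004000004008010020004003) (nat_lit 4140) (nat_lit 0x8004002005)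 (nat_lit 0xc00801c02b00a0070bc03c000010008020050027002003)) (.cD (nat_lit 159) (.cut (nat_lit 0)) (.cD (nat_lit 195) (.kS (nat_lit 0) (nat_lit 0x8010020040001004008010020004002) (nat_lit 0x10de0c30ee) (nat_lit 0x800400200501000800c00f001020010008034002031) (nat_lit 0x1801002004000402d02f002008010020040014001003002002)) .nil))))))
theorem c115 : (chk [(x31, s114)] [] p115).n x31 s115 = true := by decide +kernel
noncomputable def p116 : Pf := (.ext (nat_lit 0) (nat_lit 0) (nat_lit 0x11d209c0dc05c0de) (nat_lit 0x4002001000800400100100100003e01800800c00a003003) (nat_lit 0x2004008010) (nat_lit 4141) (nat_lit 4106) (nat_lit 0x1f00c004002001) (.dfs (nat_lit 45) (nat_lit 0x1002004008010) (nat_lit 0x100200400c01f) (nat_lit 4097) (nat_lit 4097) (nat_lit 0) (nat_lit 0) (nat_lit 2) (nat_lit 0) (nat_lit 0) (nat_lit 10) (nat_lit 1) (nat_lit 0) (nat_lit 4160) (nat_lit 64) (nat_lit 0x100000a00002a) (nat_lit 0x40000000400) (.cD (nat_lit 10) (.cut (nat_lit 0)) (.cD (nat_lit 42) (.iso x31 s115 (nat_lit 0) (nat_lit 0x1100080040020010008004002081)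 (nat_lit 0x100080040020010008004002081) [(nat_lit 0x20010008004002005001040040000002), (nat_lit 0x40020010008004002001003001), (nat_lit 0x20010008004002001005001)] (.cut (nat_lit 0))) .nil))))
theorem c116 : (chk [(x31, s115)] [g60] p116).n x31 s116 = true := by decide +kernel
noncomputable def p117 : Pf := (.ext (nat_lit 0) (nat_lit 0x8008000008010020040002002) (nat_lit 0x110004008002000c) (nat_lit 0x3e01800800c00a004001001000040020010008004002003) (nat_lit 0x4006008014) (nat_lit 4106) (nat_lit 4141) (nat_lit 0x1f00c004002001) (.dfs (nat_lit 10) (nat_lit 0x1002004008010) (nat_lit 0x100200400c01f) (nat_lit 4097) (nat_lit 4097) (nat_lit 0) (nat_lit 0) (nat_lit 2) (nat_lit 0) (nat_lit 0x2004008010001001) (nat_lit 45) (nat_lit 1) (nat_lit 0) (nat_lit 1) (nat_lit 0) (nat_lit 1) (nat_lit 0) .nil))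
theorem c117 : (chk [] [] p117).n x39 s117 = true := by decide +kernel
noncomputable def p118 : Pf := (.ext (nat_lit 0) (nat_lit 0x8008000008010020040002002) (nat_lit 0x110004008002000c) (nat_lit 0x3e01800800c00a004081001000040020010008004002003) (nat_lit 0x4006008014) (nat_lit 4106) (nat_lit 4141) (nat_lit 0x1f00c004002001) (.dfs (nat_lit 10) (nat_lit 0x1002004008010) (nat_lit 0x100200400c01f) (nat_lit 4097) (nat_lit 4097) (nat_lit 0) (nat_lit 0) (nat_lit 2) (nat_lit 0) (nat_lit 0x2004008010001001) (nat_lit 45) (nat_lit 1) (nat_lit 0) (nat_lit 1) (nat_lit 0) (nat_lit 1) (nat_lit 0) .nil))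
theorem c118 : (chk [] [] p118).n x40 s118 = true := by decide +kernel
noncomputable def p119 : Pf := (.ext (nat_lit 0) (nat_lit 0x8008000008010020040002002) (nat_lit 0x110004008002000c) (nat_lit 0x3e01800800c00a004081001000040020010008004002003) (nat_lit 0x4006008014) (nat_lit 4106) (nat_lit 4141) (nat_lit 0x1f00c004002001) (.dfs (nat_lit 10) (nat_lit 0x1002004008010) (nat_lit 0x100200400c01f) (nat_lit 4097) (nat_lit 4097) (nat_lit 0) (nat_lit 0) (nat_lit 2) (nat_lit 0) (nat_lit 0x2004008010001001) (nat_lit 45) (nat_lit 1) (nat_lit 0) (nat_lit 1) (nat_lit 0) (nat_lit 1) (nat_lit 0) .nil))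
theorem c119 : (chk [] [] p119).n x41 s119 = true := by decide +kernel
noncomputable def p120 : Pf := (.lft (nat_lit 0x8002004001000403d001002001001) (nat_lit 0) (nat_lit 0x10f60c00b6080) (nat_lit 0x8004002001000800405a06f) (.extn a36 (nat_lit 0x80040020010008004002001) (nat_lit 0x1010040020080) (nat_lit 2) (nat_lit 0) (nat_lit 0) (nat_lit 0) (nat_lit 0x10000000000000001) (.cE (nat_lit 0) b60 (nat_lit 0) (.cut (nat_lit 0)) (.cut (nat_lit 1)) (.cE (nat_lit 64) b86 (nat_lit 0) (.cut (nat_lit 2)) (.cut (nat_lit 3)) .nil))))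
theorem c120 : (chk [(x31, s116), (x39, s117), (x40, s118), (x41, s119)] [] p120).n x21 s120 = true := by decide +kernel
noncomputable def p121 : Pf := (.ext (nat_lit 0) (nat_lit 0x13010020079001001) (nat_lit 0x1080020040010006008) (nat_lit 0x79020010013001029001001) (nat_lit 0x4008010020) (nat_lit 0x1002001) (nat_lit 0x1007001) (nat_lit 0x2801800800100700c03601000800100700c) (.dfs (nat_lit 1) (nat_lit 0x1004008010020) (nat_lit 0x1001008010036) (nat_lit 0x1002001) (nat_lit 0x100700c) (nat_lit 19) (nat_lit 0) (nat_lit 2) (nat_lit 0) (nat_lit 0x4008010020001001) (nat_lit 1) (nat_lit 1) (nat_lit 0) (nat_lit 1) (nat_lit 0) (nat_lit 1) (nat_lit 0x80020000000000008002) (.cD (nat_lit 1) (.dfs (nat_lit 2) (nat_lit 0x1008010020040) (nat_lit 0x1002010030050) (nat_lit 0x1004002001) (nat_lit 0x100e01802d) (nat_lit 10) (nat_lit 0) (nat_lit 2) (nat_lit 0) (nat_lit 0x8010020040001001) (nat_lit 7) (nat_lit 1) (nat_lit 0) (nat_lit 4174) (nat_lit 78) (nat_lit 0x1000007) (nat_lit 128) (.cD (nat_lit 7) (.cut (nat_lit 0)) .nil))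 (.cD (nat_lit 15) (.kS (nat_lit 0) (nat_lit 0x8010020040001001) (nat_lit 0x103501500f) (nat_lit 0x800400200501800800400200900101000802e023030) (nat_lit 0x13010020079001029004003008010020040004002001002002)) (.cD (nat_lit 65) (.kS (nat_lit 0) (nat_lit 0x8010020040001001) (nat_lit 0x1035015041) (nat_lit 0x800400200501800800400200900101000802e023030) (nat_lit 0x13010020079001029004003008010020040004002001002002)) (.cD (nat_lit 79) (.kS (nat_lit 0) (nat_lit 0x8010020040001001) (nat_lit 0x103501504f) (nat_lit 0x800400200501800800400200900101000802e023030) (nat_lit 0x13010020079001029004003008010020040004002001002002)) .nil))))))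
theorem c121 : (chk [(x21, s120)] [] p121).n x21 s121 = true := by decide +kernel
noncomputable def p122 : Pf := (.ext (nat_lit 0) (nat_lit 0x4004000008010020040004002) (nat_lit 0x10c802004006e) (nat_lit 0x400400004002001000800402001001c01800100106f000056020010032004005) (nat_lit 0x1002004008) (nat_lit 0x1006016001) (nat_lit 0x1003016001) (nat_lit 0x800400200300a004002001009004002001) (.dfs (nat_lit 1) (nat_lit 0x1001002004008) (nat_lit 0x1001002004009) (nat_lit 1) (nat_lit 1) (nat_lit 1) (nat_lit 0) (nat_lit 2) (nat_lit 0) (nat_lit 0x4004000008010020040006002) (nat_lit 1) (nat_lit 1) (nat_lit 0) (nat_lit 4231) (nat_lit 135) (nat_lit 0x100000100000f00002100002f) (nat_lit 0x800200008002) (.cD (nat_lit 1) (.dfs (nat_lit 22) (nat_lit 0x1002004008010) (nat_lit 0x1002004008014) (nat_lit 4097) (nat_lit 4097) (nat_lit 4) (nat_lit 0) (nat_lit 2) (nat_lit 0) (nat_lit 0x4004000008010020040006002) (nat_lit 22) (nat_lit 1) (nat_lit 0) (nat_lit 1) (nat_lit 0) (nat_lit 1) (nat_lit 0x1400000014000000140000001400000) (.cD (nat_lit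 22) (.kS (nat_lit 0) (nat_lit 0xc008014036001080080000008010020040006003) (nat_lit 4185) (nat_lit 0x8004002009) (nat_lit 0x5a00200000400801c02f00200108008000000c008014036013002004)) (.cD (nat_lit 24) (.kS (nat_lit 0) (nat_lit 0x4008018025002008010020040006002) (nat_lit 0x1001076) (nat_lit 0x800400200901000800400a001) (nat_lit 0x400801c02b00200100106f001000004008018025002019001003)) (.cD (nat_lit 54) (.kS (nat_lit 0) (nat_lit 0x4008018029002008010020040006002) (nat_lit 0x1001058) (nat_lit 0x800400200901000800400a001) (nat_lit 0x400801c02b00200100106f001000004008018029002015001003)) (.cD (nat_lit 56) (.kS (nat_lit 0) (nat_lit 0xc008014032001008008000008010020040006003) (nat_lit 4185) (nat_lit 0x8004002009) (nat_lit 0x5a00200000400801c02f00200100800800000c00801403201f002004)) (.cD (nat_lit 86) (.dfs (nat_lit 6) (nat_lit 0x1004008018035) (nat_lit 0x100c00801803d) (nat_lit 0x1020010002001) (nat_lit 0x102001001f001) (nat_lit 8) (nat_lit 0) (nat_lit 2) (nat_lit 0) (nat_lit 0x8010020040006001) (nat_lit 3) (nat_lit 1)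 (nat_lit 0) (nat_lit 4142) (nat_lit 46) (nat_lit 0x1000023000035) (nat_lit 0x20000800000000) (.cD (nat_lit 35) (.kA false (nat_lit 0x2601003004000501301002006a00106f00100001601002006a00501801c010020004005)) (.cD (nat_lit 53) (.cut (nat_lit 0)) .nil))) (.cD (nat_lit 88) (.kS (nat_lit 0) (nat_lit 0x400801802d002008010020040006002) (nat_lit 0x1001036) (nat_lit 0x800400200901000800400a001) (nat_lit 0x400801c02b00200100106f00100000400801802d002011001003)) (.cD (nat_lit 118) (.kS (nat_lit 0) (nat_lit 0x4008018021002008010020040006002) (nat_lit 0x1001018) (nat_lit 0x800400200901000800400a001) (nat_lit 0x400801c02b00200100106f00100000400801802100201d001003)) (.cD (nat_lit 120) (.kS (nat_lit 0) (nat_lit 0xc00401803100100c00801403d008008010020040006003) (nat_lit 0x1037041) (nat_lit 0x800400200901000800400a001) (nat_lit 0xc00801c02701f00600800500500000c00801403d01300600700c00401803101300a002004)) .nil))))))))) (.cD (nat_lit 15) (.kS (nat_lit 0) (nat_lit 0x800401002c007002004008010002004004000008010020040006004) (nat_lit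 4150) (nat_lit 0x8004002009) (nat_lit 0x400400000800401803600200700200400801000d00100800401002c016008004)) (.cD (nat_lit 33) (.kS (nat_lit 0) (nat_lit 0x800401002c007002004008010002004004000008010020040006004) (nat_lit 4184) (nat_lit 0x8004002009) (nat_lit 0x400400000800401803600200700200400801000b00100800401002c01a008004)) (.cD (nat_lit 47) (.kS (nat_lit 0) (nat_lit 0x800401002c007002004008010002004004000008010020040006004) (nat_lit 4182) (nat_lit 0x8004002009) (nat_lit 0x400400000800401803600200700200400801000700100800401002c00e008004)) .nil))))))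
theorem c122 : (chk [(x21, s121)] [] p122).n x21 s122 = true := by decide +kernel
noncomputable def p123 : Pf := (.anc (nat_lit 138) (nat_lit 0x4000103d00306a001003) (nat_lit 0x100400303b02d00e) (.czp (nat_lit 128) (nat_lit 0) (nat_lit 0x1080040020010008004) z2 (.dfs (nat_lit 14) (nat_lit 4097) (nat_lit 4097) (nat_lit 1) (nat_lit 1) (nat_lit 0) (nat_lit 0) (nat_lit 3) (nat_lit 0) (nat_lit 0) (nat_lit 0) (nat_lit 1) (nat_lit 0) (nat_lit 0x1020010008004) (nat_lit 0x20010008004) (nat_lit 0x1001004002004003004000008002008000020000028002028001010001070) (nat_lit 0x10000010100000110) (.cD (nat_lit 4) (.kF (nat_lit 4) (nat_lit 0x3804000301003d00502006a003001002002004)) (.cD (nat_lit 8) (.kF (nat_lit 8) (nat_lit 0x3804000301003d00502006a003001002002004)) (.cD (nat_lit 32) (.dfs (nat_lit 45) (nat_lit 4098) (nat_lit 4098) (nat_lit 4097) (nat_lit 4097) (nat_lit 0) (nat_lit 0) (nat_lit 3) (nat_lit 0) (nat_lit 0) (nat_lit 0) (nat_lit 1) (nat_lit 0) (nat_lit 0x1010008) (nat_lit 65544) (nat_lit 0x1001008000010001028000030)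 (nat_lit 0x1000000010001010100010100) (.cD (nat_lit 8) (.kF (nat_lit 8) (nat_lit 0x2804000301803d00501206a003004004000001004002005)) (.cD (nat_lit 16) (.kF (nat_lit 16) (nat_lit 0x2804000301803d00501206a003004004000001004002005)) (.cD (nat_lit 32) (.kc (nat_lit 123) (nat_lit 0x3001001)) (.cD (nat_lit 40) (.dfs (nat_lit 59) (nat_lit 4100) (nat_lit 4100) (nat_lit 0x1002001) (nat_lit 0x1002001) (nat_lit 0) (nat_lit 0) (nat_lit 3) (nat_lit 0) (nat_lit 0) (nat_lit 0) (nat_lit 1) (nat_lit 0) (nat_lit 1) (nat_lit 0) (nat_lit 1) (nat_lit 0x101000001010000010100000100) (.cD (nat_lit 8) (.kc (nat_lit 64) (nat_lit 0x7001001)) (.cD (nat_lit 32) (.kc (nat_lit 109) (nat_lit 0x5001001)) (.cD (nat_lit 40) (.kc (nat_lit 78) (nat_lit 0x3001001)) (.cD (nat_lit 64) (.kA false (nat_lit 0x1600603604000301001000000600100500900205a002000004)) (.cD (nat_lit 72) (.kA false (nat_lit 0x600100400800100400400002203203006a00400c00801403d006008010020040004005)) (.cD (nat_lit 96) (.kA false (nat_lit 0x5a00200000100200600d00102002000000600500100d00205a002000005))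 (.cD (nat_lit 104) (.kA false (nat_lit 0x1003007008001003003000006003007008002004004000004)) .nil)))))))) (.cD (nat_lit 48) (.dfs (nat_lit 59) (nat_lit 4100) (nat_lit 4100) (nat_lit 0x1002001) (nat_lit 0x1002001) (nat_lit 0) (nat_lit 0) (nat_lit 3) (nat_lit 0) (nat_lit 0) (nat_lit 0) (nat_lit 1) (nat_lit 0) (nat_lit 1) (nat_lit 0) (nat_lit 1) (nat_lit 0x10001000100010001000100010000) (.cD (nat_lit 16) (.kc (nat_lit 64) (nat_lit 0x7001001)) (.cD (nat_lit 32) (.kc (nat_lit 109) (nat_lit 0x5001001)) (.cD (nat_lit 48) (.kc (nat_lit 78) (nat_lit 0x3001001)) (.cD (nat_lit 64) (.dfs (nat_lit 3) (nat_lit 4097) (nat_lit 4102) (nat_lit 1) (nat_lit 1) (nat_lit 0) (nat_lit 0) (nat_lit 1) (nat_lit 4160) (nat_lit 0x8004002001000800405a06f) (nat_lit 0) (nat_lit 1) (nat_lit 0) (nat_lit 1) (nat_lit 0) (nat_lit 1) (nat_lit 0) .nil) (.cD (nat_lit 80) (.dfs (nat_lit 3) (nat_lit 0x1006007004008) (nat_lit 0x1001007004008) (nat_lit 0x1002001) (nat_lit 0x1005006) (nat_lit 0) (nat_lit 0) (nat_lit 2) (nat_lit 0) (nat_lit 0) (nat_lit 8)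 (nat_lit 1) (nat_lit 0) (nat_lit 4112) (nat_lit 16) (nat_lit 0x1000008000028) (nat_lit 0x10000000100) (.cD (nat_lit 8) (.kA false (nat_lit 0x900e00601000100400400000c00e008010002003)) (.cD (nat_lit 40) (.dfs (nat_lit 4) (nat_lit 0x100c00e008010) (nat_lit 0x100900e006010) (nat_lit 0x1004002001) (nat_lit 0x100f00700a) (nat_lit 0) (nat_lit 0) (nat_lit 2) (nat_lit 0) (nat_lit 0) (nat_lit 4) (nat_lit 1) (nat_lit 0) (nat_lit 4128) (nat_lit 32) (nat_lit 0x1000004) (nat_lit 16) (.cD (nat_lit 4) (.cut (nat_lit 0)) .nil)) .nil))) (.cD (nat_lit 96) (.kA false (nat_lit 0x1002004008001003003000006005004008002003)) (.cD (nat_lit 112) (.kA false (nat_lit 0x1003004008001003003000006003004008002003)) .nil)))))))) (.cD (nat_lit 64) (.kF (nat_lit 64) (nat_lit 0x2804000301803d00501206a003004004000001004002005)) (.cD (nat_lit 96) (.dfs (nat_lit 59) (nat_lit 4100) (nat_lit 4100) (nat_lit 0x1002001) (nat_lit 0x1002001) (nat_lit 0) (nat_lit 0) (nat_lit 3) (nat_lit 0) (nat_lit 0) (nat_lit 0) (nat_lit 1) (nat_lit 0) (nat_lit 0x1010008)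 (nat_lit 65544) (nat_lit 0x1001008000010001028000030) (nat_lit 0x1000000010001010100010100) (.cD (nat_lit 8) (.kA false (nat_lit 0x5a00200000100700400e00100601002006c00406f001000004)) (.cD (nat_lit 16) (.dfs (nat_lit 3) (nat_lit 4102) (nat_lit 4097) (nat_lit 1) (nat_lit 1) (nat_lit 0) (nat_lit 0) (nat_lit 1) (nat_lit 4160) (nat_lit 0x8004002001000800405a06f) (nat_lit 0) (nat_lit 1) (nat_lit 0) (nat_lit 1) (nat_lit 0) (nat_lit 1) (nat_lit 0) .nil) (.cD (nat_lit 32) (.kc (nat_lit 109) (nat_lit 0x5001001)) (.cD (nat_lit 40) (.kA false (nat_lit 0x5a00200000100700400e00100601002006c00406f001000004)) (.cD (nat_lit 48) (.kA false (nat_lit 0x5a00200000100700400e00100601002006c00406f001000004)) (.cD (nat_lit 64) (.kc (nat_lit 64) (nat_lit 0x7001001)) (.cD (nat_lit 96) (.kc (nat_lit 78) (nat_lit 0x3001001)) .nil)))))))) .nil)))))))) (.cD (nat_lit 40) (.dfs (nat_lit 45) (nat_lit 4098) (nat_lit 4098) (nat_lit 4097) (nat_lit 4097) (nat_lit 0) (nat_lit 0) (nat_lit 3) (nat_lit 0) (nat_lit 0) (nat_lit 0) (nat_lit 1) (nat_lit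 0) (nat_lit 1) (nat_lit 0) (nat_lit 1) (nat_lit 0x101000001010000010100000100) (.cD (nat_lit 8) (.kF (nat_lit 8) (nat_lit 0x2804000301803d00501206a003004004000001004002005)) (.cD (nat_lit 32) (.dfs (nat_lit 59) (nat_lit 4100) (nat_lit 4100) (nat_lit 0x1002001) (nat_lit 0x1002001) (nat_lit 0) (nat_lit 0) (nat_lit 3) (nat_lit 0) (nat_lit 0) (nat_lit 0) (nat_lit 1) (nat_lit 0) (nat_lit 1) (nat_lit 0) (nat_lit 1) (nat_lit 0x101000001010000010100000100) (.cD (nat_lit 8) (.kc (nat_lit 64) (nat_lit 0x7001001)) (.cD (nat_lit 32) (.kc (nat_lit 78) (nat_lit 0x3001001)) (.cD (nat_lit 40) (.kc (nat_lit 109) (nat_lit 0x5001001)) (.cD (nat_lit 64) (.kA false (nat_lit 0x1600602004000301001000000600100300900205a002000004)) (.cD (nat_lit 72) (.kA false (nat_lit 0x100700200800102002000000600700500f00205a002000004)) (.cD (nat_lit 96) (.kA false (nat_lit 0x1003006008001003003000006003001008002004004000004)) (.cD (nat_lit 104) (.kA false (nat_lit 0x5a00200000100200700d00102002000000600500700d00205a002000005)) .nil)))))))) (.cD (nat_lit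 40) (.kc (nat_lit 123) (nat_lit 0x3001001)) (.cD (nat_lit 64) (.kF (nat_lit 64) (nat_lit 0x2804000301803d00501206a003004004000001004002005)) (.cD (nat_lit 72) (.kF (nat_lit 72) (nat_lit 0x2804000301803d00501206a003004004000001004002005)) (.cD (nat_lit 96) (.dfs (nat_lit 59) (nat_lit 4100) (nat_lit 4100) (nat_lit 0x1002001) (nat_lit 0x1002001) (nat_lit 0) (nat_lit 0) (nat_lit 3) (nat_lit 0) (nat_lit 0) (nat_lit 0) (nat_lit 1) (nat_lit 0) (nat_lit 1) (nat_lit 0) (nat_lit 1) (nat_lit 0x101000001010000010100000100) (.cD (nat_lit 8) (.kA false (nat_lit 0x600700500800102002000000100700200f00205a002000004)) (.cD (nat_lit 32) (.kA false (nat_lit 0x2003005008001003003000005003002008002004004000004)) (.cD (nat_lit 40) (.kc (nat_lit 109) (nat_lit 0x5001001)) (.cD (nat_lit 64) (.kA false (nat_lit 0x1000602604000301001000000700100200900205a002000004)) (.cD (nat_lit 72) (.kc (nat_lit 64) (nat_lit 0x7001001)) (.cD (nat_lit 96) (.kc (nat_lit 78) (nat_lit 0x3001001)) (.cD (nat_lit 104) (.kA false (nat_lit 0x5a00200000300200500d00102002000000300500200d00205a002000005))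 .nil)))))))) (.cD (nat_lit 104) (.dfs (nat_lit 59) (nat_lit 4100) (nat_lit 4100) (nat_lit 0x1002001) (nat_lit 0x1002001) (nat_lit 0) (nat_lit 0) (nat_lit 3) (nat_lit 0) (nat_lit 0) (nat_lit 0) (nat_lit 1) (nat_lit 0) (nat_lit 1) (nat_lit 0) (nat_lit 1) (nat_lit 0x101000001010000010100000100) (.cD (nat_lit 8) (.kA false (nat_lit 0x5a00200000100700400e00100601002006c00406f001000004)) (.cD (nat_lit 32) (.kA false (nat_lit 0x5a00200000100700400e00100601002006c00406f001000004)) (.cD (nat_lit 40) (.kc (nat_lit 109) (nat_lit 0x5001001)) (.cD (nat_lit 64) (.kc (nat_lit 64) (nat_lit 0x7001001)) (.cD (nat_lit 72) (.kA false (nat_lit 0x5a00200000100700400e00100601002006c00406f001000004)) (.cD (nat_lit 96) (.kA false (nat_lit 0x5a00200000100700400e00100601002006c00406f001000004)) (.cD (nat_lit 104) (.kc (nat_lit 78) (nat_lit 0x3001001)) .nil)))))))) .nil)))))))) (.cD (nat_lit 64) (.kF (nat_lit 64) (nat_lit 0x3804000301003d00502006a003001002002004)) .nil))))))))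
theorem c123 : (chk [(x21, s122)] [] p123).n x21 s123 = true := by decide +kernel
noncomputable def p124 : Pf := (.ext (nat_lit 0) (nat_lit 0) (nat_lit 0x10b100e04006e038) (nat_lit 0x106f00006c02001000200e00402001000400c00d00200205a00003d01400800c002002005) (nat_lit 0x2004008010) (nat_lit 0x1005003) (nat_lit 0x100b00e) (nat_lit 0x1b00c004002001014008004006005) (.dfs (nat_lit 3) (nat_lit 0x1002004008010) (nat_lit 0x1006004008014) (nat_lit 4097) (nat_lit 4101) (nat_lit 0) (nat_lit 0) (nat_lit 2) (nat_lit 0) (nat_lit 0) (nat_lit 14) (nat_lit 1) (nat_lit 0) (nat_lit 4112) (nat_lit 16) (nat_lit 0x100000e00002e) (nat_lit 0x400000004000) (.cD (nat_lit 14) (.dfs (nat_lit 5) (nat_lit 0x1004008010020) (nat_lit 0x1004008018036) (nat_lit 0x1002001) (nat_lit 0x1002009) (nat_lit 0) (nat_lit 0) (nat_lit 2) (nat_lit 0) (nat_lit 0) (nat_lit 11) (nat_lit 1) (nat_lit 0) (nat_lit 4128) (nat_lit 32) (nat_lit 0x100002b) (nat_lit 0x80000000000) (.cD (nat_lit 43) (.cut (nat_lit 1)) .nil)) (.cD (nat_lit 46) (.dfs (nat_lit 5) (nat_lit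 0x1004008010020) (nat_lit 0x1004008018036) (nat_lit 0x1002001) (nat_lit 0x1002009) (nat_lit 0) (nat_lit 0) (nat_lit 2) (nat_lit 0) (nat_lit 0) (nat_lit 11) (nat_lit 1) (nat_lit 0) (nat_lit 4128) (nat_lit 32) (nat_lit 0x100003b) (nat_lit 0x800000000000000) (.cD (nat_lit 59) (.cut (nat_lit 0)) .nil)) .nil))))
theorem c124 : (chk [(x21, s87), (x21, s123)] [] p124).n x21 s124 = true := by decide +kernel
noncomputable def p125 : Pf := (.ext (nat_lit 0) (nat_lit 0x4006008010002001) (nat_lit 0x10e602006e040) (nat_lit 0x6c02001000200306f001000010008006004001003) (nat_lit 0x2003004008) (nat_lit 0x1016001) (nat_lit 0x1017016) (nat_lit 0x900400200100a004002001) (.dfs (nat_lit 1) (nat_lit 0x1002003004008) (nat_lit 0x100200300400a) (nat_lit 4097) (nat_lit 4097) (nat_lit 2) (nat_lit 0) (nat_lit 2) (nat_lit 0) (nat_lit 0x4006008010004001) (nat_lit 22) (nat_lit 1) (nat_lit 0) (nat_lit 4230) (nat_lit 134) (nat_lit 0x1000016000018000036000038) (nat_lit 0x140000001400000) (.cD (nat_lit 22) (.kS (nat_lit 0) (nat_lit 0x201002006c006002004008010001004006008010004003)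 (nat_lit 4118) (nat_lit 0x8004002005) (nat_lit 0x6f00100000400600801000100300200400801000100200201002006c00c005004)) (.cD (nat_lit 24) (.kS (nat_lit 0) (nat_lit 0x201002006c006002004008010001004006008010004003) (nat_lit 4222) (nat_lit 0x8004002005) (nat_lit 0x6f00100000400600801000100300200400801000100200201002006c02e005004)) (.cD (nat_lit 54) (.kS (nat_lit 0) (nat_lit 0x201002006c006002004008010001004006008010004003) (nat_lit 4150) (nat_lit 0x8004002005) (nat_lit 0x6f00100000400600801000100300200400801000100200201002006c02c005004)) (.cD (nat_lit 56) (.dfs (nat_lit 22) (nat_lit 0x1004006008010) (nat_lit 0x1004006008012) (nat_lit 0x1002001) (nat_lit 0x1002001) (nat_lit 2) (nat_lit 0) (nat_lit 2) (nat_lit 0) (nat_lit 0x4006008010004001) (nat_lit 23) (nat_lit 1) (nat_lit 0) (nat_lit 1) (nat_lit 0) (nat_lit 1) (nat_lit 0x2800000028000000280000002800000) (.cD (nat_lit 23) (.kS (nat_lit 0) (nat_lit 0x8004010020002010010000004006008010004003) (nat_lit 4214) (nat_lit 0x8004002005) (nat_lit 0x10010000004008010020002001010010000008004010020015001004))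 (.cD (nat_lit 25) (.kS (nat_lit 0) (nat_lit 0x8004010020002010010000004006008010004003) (nat_lit 4118) (nat_lit 0x8004002005) (nat_lit 0x10010000004008010020002001010010000008004010020001001004)) (.cD (nat_lit 55) (.kS (nat_lit 0) (nat_lit 0x8004010020002010010000004006008010004003) (nat_lit 4182) (nat_lit 0x8004002005) (nat_lit 0x10010000004008010020002001010010000008004010020005001004)) (.cD (nat_lit 57) (.kS (nat_lit 0) (nat_lit 0x8004010020002010010000004006008010004003) (nat_lit 4150) (nat_lit 0x8004002005) (nat_lit 0x10010000004008010020002001010010000008004010020011001004)) (.cD (nat_lit 87) (.kS (nat_lit 0) (nat_lit 0x8004010020002010010000004006008010004003) (nat_lit 4120) (nat_lit 0x8004002005) (nat_lit 0x1001000000400801002000200101001000000800401002001d001004)) (.cD (nat_lit 89) (.cut (nat_lit 0)) (.cD (nat_lit 119) (.kS (nat_lit 0) (nat_lit 0x800c010020002004006008010004002) (nat_lit 4215) (nat_lit 0x8004002005) (nat_lit 0xc00401002000d00100400801002000200100800c010020017001003)) (.cD (nat_lit 121)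 (.kS (nat_lit 0) (nat_lit 0x8004010020002010010000004006008010004003) (nat_lit 4184) (nat_lit 0x8004002005) (nat_lit 0x10010000004008010020002001010010000008004010020019001004)) .nil))))))))) .nil))))))
theorem c125 : (chk [(x21, s124)] [] p125).n x21 s125 = true := by decide +kernel
noncomputable def p126 : Pf := (.ext (nat_lit 0) (nat_lit 0) (nat_lit 0x10e602004002e) (nat_lit 0x100200400800300106f00006c020010002002003) (nat_lit 0x2003004008) (nat_lit 4097) (nat_lit 4102) (nat_lit 0xb004002001) (.dfs (nat_lit 1) (nat_lit 0x1002003004008) (nat_lit 0x100200300400b) (nat_lit 4097) (nat_lit 4097) (nat_lit 3) (nat_lit 0) (nat_lit 2) (nat_lit 0) (nat_lit 0) (nat_lit 6) (nat_lit 1) (nat_lit 0) (nat_lit 4224) (nat_lit 128) (nat_lit 0x1000006000016000026000036) (nat_lit 0x40004000400040) (.cD (nat_lit 6) (.cut (nat_lit 1)) (.cD (nat_lit 22) (.iso x21 s125 (nat_lit 0) (nat_lit 0x1080040020010008004002041) (nat_lit 0x80040020010008004002041) [(nat_lit 0x10008004002005001001), (nat_lit 0x40020010008004002011003001)] (.cut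 (nat_lit 1))) (.cD (nat_lit 38) (.cut (nat_lit 0)) (.cD (nat_lit 54) (.iso x21 s47 (nat_lit 0) (nat_lit 0x1080040020010008004002041) (nat_lit 0x80040020010008004002041) [(nat_lit 0x10008004002005001001), (nat_lit 0x40020010008004002011003001)] (.cut (nat_lit 0))) .nil))))))
theorem c126 : (chk [(x21, s47), (x21, s125)] [g59] p126).n x21 s126 = true := by decide +kernel
noncomputable def p127 : Pf := (.ext (nat_lit 0) (nat_lit 0) (nat_lit 0x1080020040010006008) (nat_lit 0x20010008004002001001001) (nat_lit 0x400801002c) (nat_lit 4099) (nat_lit 4109) (nat_lit 0x3601800800c00a009) (.dfs (nat_lit 3) (nat_lit 0x100400801002c) (nat_lit 0x100c008018032) (nat_lit 0x1020002001) (nat_lit 0x103600a009) (nat_lit 0) (nat_lit 0) (nat_lit 2) (nat_lit 0) (nat_lit 0) (nat_lit 13) (nat_lit 1) (nat_lit 0) (nat_lit 4128) (nat_lit 32) (nat_lit 0x100002d) (nat_lit 0x200000000000) (.cD (nat_lit 45) (.cut (nat_lit 0)) .nil)))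
theorem c127 : (chk [(x21, s126)] [] p127).n x21 s127 = true := by decide +kernel
noncomputable def p128 : Pf := (.ext (nat_lit 0) (nat_lit 0x100801003600106f001000002) (nat_lit 0x1080020040010) (nat_lit 0x3601000100900106f001000001002004008003003) (nat_lit 0x2003004008) (nat_lit 4102) (nat_lit 4119) (nat_lit 0xa004002001) (.dfs (nat_lit 6) (nat_lit 0x1001002004008) (nat_lit 0x100100200400a) (nat_lit 1) (nat_lit 1) (nat_lit 2) (nat_lit 0) (nat_lit 2) (nat_lit 0) (nat_lit 0x1002004008001001) (nat_lit 23) (nat_lit 1) (nat_lit 0) (nat_lit 1) (nat_lit 0) (nat_lit 1) (nat_lit 0) .nil))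
theorem c128 : (chk [] [] p128).n x42 s128 = true := by decide +kernel
noncomputable def p129 : Pf := (.lft (nat_lit 0x4001002000800201f001001001) (nat_lit 23) (nat_lit 0x1060040) (nat_lit 0x4002001000800400202d) (.extn a35 (nat_lit 0x40020010008004002001) (nat_lit 0x1008020010040) (nat_lit 2) (nat_lit 0) (nat_lit 0) (nat_lit 7) (nat_lit 0x80000000800000) (.cE (nat_lit 23) b58 (nat_lit 0) (.cut (nat_lit 0)) (.cut (nat_lit 1)) (.cE (nat_lit 55) b59 (nat_lit 0) (.cut (nat_lit 2)) (.cut (nat_lit 3)) .nil))))
theorem c129 : (chk [(x19, s44), (x20, s45), (x21, s127), (x42, s128)] [] p129).n x18 s129 = true := by decide +kernel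
noncomputable def p130 : Pf := (.ext (nat_lit 0) (nat_lit 0) (nat_lit 0x1040010020008003004) (nat_lit 0x3a01000801301d00c00102d00100002101800800100701300102d001000020010008004002001001005) (nat_lit 0x900801003e) (nat_lit 4097) (nat_lit 4102) (nat_lit 0x2801800800100700c) (.dfs (nat_lit 1) (nat_lit 0x100900801003e) (nat_lit 0x100400801803e) (nat_lit 0x1020004002001) (nat_lit 0x102800100700c) (nat_lit 5) (nat_lit 0) (nat_lit 2) (nat_lit 0) (nat_lit 0) (nat_lit 2) (nat_lit 1) (nat_lit 0) (nat_lit 4112) (nat_lit 16) (nat_lit 0x1000016) (nat_lit 0x400000) (.cD (nat_lit 22) (.cut (nat_lit 0)) .nil)))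
theorem c130 : (chk [(x18, s129)] [] p130).n x18 s130 = true := by decide +kernel
noncomputable def p131 : Pf := (.anc (nat_lit 91) (nat_lit 0x2c00102d00100002900202d001000036001005) (nat_lit 0x1001008020010004) (.dfs (nat_lit 4) (nat_lit 1) (nat_lit 1) (nat_lit 4097) (nat_lit 4097) (nat_lit 0) (nat_lit 0) (nat_lit 0) (nat_lit 0) (nat_lit 0) (nat_lit 0) (nat_lit 1) (nat_lit 0) (nat_lit 0x1010008004002) (nat_lit 0x10008004002) (nat_lit 0x1001002002002003002000004002004000010000014002014001008001038) (nat_lit 0x100110014) (.cD (nat_lit 2) (.kF (nat_lit 2) (nat_lit 0x402c00302d00100000902900402d001000001036003001002002006)) (.cD (nat_lit 4) (.czs (nat_lit 4) z6 (nat_lit 32) (.dfs (nat_lit 16) (nat_lit 4097) (nat_lit 4097) (nat_lit 4098) (nat_lit 4098) (nat_lit 0) (nat_lit 0) (nat_lit 3) (nat_lit 0) (nat_lit 0) (nat_lit 0) (nat_lit 1) (nat_lit 0) (nat_lit 1) (nat_lit 0) (nat_lit 1) (nat_lit 0x11001100110010) (.cD (nat_lit 4) (.kc (nat_lit 20) (nat_lit 0x3001001)) (.cD (nat_lit 16) (.dfs (nat_lit 32) (nat_lit 4098)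 (nat_lit 4098) (nat_lit 0x1004001) (nat_lit 0x1004001) (nat_lit 0) (nat_lit 0) (nat_lit 3) (nat_lit 0) (nat_lit 0) (nat_lit 0) (nat_lit 1) (nat_lit 0) (nat_lit 1) (nat_lit 0) (nat_lit 1) (nat_lit 0x11001100110010) (.cD (nat_lit 4) (.kc (nat_lit 36) (nat_lit 0x5001001)) (.cD (nat_lit 16) (.kc (nat_lit 48) (nat_lit 0x3001001)) (.cD (nat_lit 20) (.kc (nat_lit 52) (nat_lit 0x7001001)) (.cD (nat_lit 32) (.kA false (nat_lit 0x1300801002c00302d00100000100801803700300400100300c00202d001000004008010020003006)) (.cD (nat_lit 36) (.kA false (nat_lit 0x5004006008001008008000004005007008002002002000004)) (.cD (nat_lit 48) (.kA false (nat_lit 0x5003001008001008008000004003001008002002002000004)) (.cD (nat_lit 52) (.kA false (nat_lit 0x5006004008001008008000004007005008002002002000004)) .nil)))))))) (.cD (nat_lit 20) (.dfs (nat_lit 32) (nat_lit 4098) (nat_lit 4098) (nat_lit 0x1004001) (nat_lit 0x1004001) (nat_lit 0) (nat_lit 0) (nat_lit 3) (nat_lit 0) (nat_lit 0) (nat_lit 0) (nat_lit 1) (nat_lit 0) (nat_lit 1) (nat_lit 0) (nat_lit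 1) (nat_lit 0x11001100110010) (.cD (nat_lit 4) (.kc (nat_lit 36) (nat_lit 0x5001001)) (.cD (nat_lit 16) (.kc (nat_lit 52) (nat_lit 0x7001001)) (.cD (nat_lit 20) (.kc (nat_lit 48) (nat_lit 0x3001001)) (.cD (nat_lit 32) (.kA false (nat_lit 0x5001006008001008008000004001007008002002002000004)) (.cD (nat_lit 36) (.kA false (nat_lit 0x1b01301002c00302d00100001301b01802900400400500300d00202d001000005)) (.cD (nat_lit 48) (.kA false (nat_lit 0x5006001008001008008000004007001008002002002000004)) (.cD (nat_lit 52) (.kA false (nat_lit 0x5003004008001008008000004003005008002002002000004)) .nil)))))))) (.cD (nat_lit 32) (.kF (nat_lit 40) (nat_lit 0xb02c00302d00100001103700300300600202d00100000c020003006)) (.cD (nat_lit 36) (.kF (nat_lit 40) (nat_lit 0x1802c00302d00100001003700300100600200502500000c02c004006)) (.cD (nat_lit 48) (.dfs (nat_lit 32) (nat_lit 4098) (nat_lit 4098) (nat_lit 0x1004001) (nat_lit 0x1004001) (nat_lit 0) (nat_lit 0) (nat_lit 3) (nat_lit 0) (nat_lit 0) (nat_lit 0) (nat_lit 1) (nat_lit 0) (nat_lit 1) (nat_lit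 0) (nat_lit 1) (nat_lit 0x11001100110010) (.cD (nat_lit 4) (.kc (nat_lit 36) (nat_lit 0x5001001)) (.cD (nat_lit 16) (.kA false (nat_lit 0x5003002008001008008000004003002008002002002000004)) (.cD (nat_lit 20) (.kA false (nat_lit 0x5006002008001008008000004007002008002002002000004)) (.cD (nat_lit 32) (.dfs (nat_lit 8) (nat_lit 0x1004001002008) (nat_lit 0x1005001002008) (nat_lit 1) (nat_lit 1) (nat_lit 0) (nat_lit 0) (nat_lit 2) (nat_lit 1) (nat_lit 0) (nat_lit 8) (nat_lit 1) (nat_lit 0) (nat_lit 4100) (nat_lit 4) (nat_lit 0x1000008000018) (nat_lit 0x1000100) (.cD (nat_lit 8) (.dfs (nat_lit 1) (nat_lit 0x1001002006010) (nat_lit 0x1008002004010) (nat_lit 0x1008004) (nat_lit 0x1003006) (nat_lit 11) (nat_lit 0) (nat_lit 2) (nat_lit 0) (nat_lit 0) (nat_lit 2) (nat_lit 1) (nat_lit 0) (nat_lit 4112) (nat_lit 16) (nat_lit 0x1000016) (nat_lit 0x400000) (.cD (nat_lit 22) (.cut (nat_lit 0)) .nil)) (.cD (nat_lit 24) (.kA false (nat_lit 0xc00200401000102d001000007002006010002003)) .nil))) (.cD (nat_lit 36) (.dfs (nat_lit 8)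 (nat_lit 4101) (nat_lit 4100) (nat_lit 1) (nat_lit 1) (nat_lit 0) (nat_lit 0) (nat_lit 1) (nat_lit 4128) (nat_lit 0x4002001000800400202d) (nat_lit 0) (nat_lit 1) (nat_lit 0) (nat_lit 1) (nat_lit 0) (nat_lit 1) (nat_lit 0) .nil) (.cD (nat_lit 48) (.kc (nat_lit 48) (nat_lit 0x3001001)) (.cD (nat_lit 52) (.kc (nat_lit 52) (nat_lit 0x7001001)) .nil)))))))) (.cD (nat_lit 52) (.dfs (nat_lit 32) (nat_lit 4098) (nat_lit 4098) (nat_lit 0x1004001) (nat_lit 0x1004001) (nat_lit 0) (nat_lit 0) (nat_lit 3) (nat_lit 0) (nat_lit 0) (nat_lit 0) (nat_lit 1) (nat_lit 0) (nat_lit 1) (nat_lit 0) (nat_lit 1) (nat_lit 0x11001100110010) (.cD (nat_lit 4) (.kc (nat_lit 36) (nat_lit 0x5001001)) (.cD (nat_lit 16) (.kA false (nat_lit 0x5006007008001008008000004007006008002002002000004)) (.cD (nat_lit 20) (.kA false (nat_lit 0x5003007008001008008000004003006008002002002000004)) (.cD (nat_lit 32) (.kA false (nat_lit 0x5001007008001008008000004001006008002002002000004)) (.cD (nat_lit 36) (.kA false (nat_lit 0x5004007008001008008000004005006008002002002000004))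 (.cD (nat_lit 48) (.kc (nat_lit 52) (nat_lit 0x7001001)) (.cD (nat_lit 52) (.kc (nat_lit 48) (nat_lit 0x3001001)) .nil)))))))) .nil))))))))) (.cD (nat_lit 16) (.kF (nat_lit 16) (nat_lit 0x402c00302d00100000902900402d001000001036003001002002006)) (.cD (nat_lit 20) (.kF (nat_lit 20) (nat_lit 0x402c00302d00100000902900402d001000001036003001002002006)) (.cD (nat_lit 32) (.dfs (nat_lit 16) (nat_lit 1) (nat_lit 1) (nat_lit 0x1002001) (nat_lit 0x1002001) (nat_lit 0) (nat_lit 0) (nat_lit 0) (nat_lit 0) (nat_lit 0) (nat_lit 0) (nat_lit 1) (nat_lit 0) (nat_lit 0x1010008004002) (nat_lit 0x10008004002) (nat_lit 0x1001002002002003002000004002004000010000014002014001008001038) (nat_lit 0x100110014) (.cD (nat_lit 2) (.kF (nat_lit 2) (nat_lit 0x1002c00302d00100001802900402d001000010036003001004002006)) (.cD (nat_lit 4) (.kF (nat_lit 8) (nat_lit 0xb02c00302d00100001103700300300600200200200000c02400300400400000402c004008)) (.cD (nat_lit 16) (.dfs (nat_lit 32) (nat_lit 1) (nat_lit 1) (nat_lit 0x1004002001) (nat_lit 0x1004002001)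 (nat_lit 0) (nat_lit 0) (nat_lit 0) (nat_lit 0) (nat_lit 0) (nat_lit 0) (nat_lit 1) (nat_lit 0) (nat_lit 0x1008004) (nat_lit 32772) (nat_lit 0x1001004000008001014000018) (nat_lit 0x1000101110110) (.cD (nat_lit 4) (.kA false (nat_lit 0x1005007008001008008000001004006008002002002000004)) (.cD (nat_lit 8) (.dfs (nat_lit 8) (nat_lit 4100) (nat_lit 4101) (nat_lit 1) (nat_lit 1) (nat_lit 0) (nat_lit 0) (nat_lit 1) (nat_lit 4128) (nat_lit 0x4002001000800400202d) (nat_lit 0) (nat_lit 1) (nat_lit 0) (nat_lit 1) (nat_lit 0) (nat_lit 1) (nat_lit 0) .nil) (.cD (nat_lit 16) (.kc (nat_lit 48) (nat_lit 0x3001001)) (.cD (nat_lit 20) (.kA false (nat_lit 0x3005007008001008008000003004006008002002002000004)) (.cD (nat_lit 24) (.kA false (nat_lit 0x3005002008001008008000003004002008002003)) (.cD (nat_lit 32) (.kc (nat_lit 36) (nat_lit 0x5001001)) (.cD (nat_lit 48) (.kc (nat_lit 52) (nat_lit 0x7001001)) .nil)))))))) (.cD (nat_lit 20) (.czs (nat_lit 84) z5 (nat_lit 32) (.dfs (nat_lit 32) (nat_lit 4101) (nat_lit 4101) (nat_lit 0x1004002001)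 (nat_lit 0x1004002001) (nat_lit 0) (nat_lit 0) (nat_lit 3) (nat_lit 0) (nat_lit 0) (nat_lit 0) (nat_lit 1) (nat_lit 0) (nat_lit 1) (nat_lit 0) (nat_lit 1) (nat_lit 0x11001100110010) (.cD (nat_lit 4) (.kA false (nat_lit 0x1005006008001008008000001004007008002002002000004)) (.cD (nat_lit 16) (.kA false (nat_lit 0x3005004008001008008000003004005008002002002000004)) (.cD (nat_lit 20) (.kc (nat_lit 48) (nat_lit 0x3001001)) (.cD (nat_lit 32) (.kc (nat_lit 36) (nat_lit 0x5001001)) (.cD (nat_lit 36) (.kA false (nat_lit 0x1b01301002c00302d00100000900101803700300500400300c00202d001000005)) (.cD (nat_lit 48) (.kA false (nat_lit 0x6005001008001008008000007004001008002002002000004)) (.cD (nat_lit 52) (.kc (nat_lit 52) (nat_lit 0x7001001)) .nil))))))))) (.cD (nat_lit 32) (.kc (nat_lit 20) (nat_lit 0x3001001)) .nil)))))) .nil)))))))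
theorem c131 : (chk [(x18, s130)] [] p131).n x18 s131 = true := by decide +kernel
noncomputable def p132 : Pf := (.ext (nat_lit 0) (nat_lit 0x900801002e00100f001000002) (nat_lit 0x1080020040010) (nat_lit 0x2e01000900100100f001000001002004008003003) (nat_lit 0x2003004008) (nat_lit 4102) (nat_lit 4097) (nat_lit 0xa004002001) (.dfs (nat_lit 6) (nat_lit 0x1001002004008) (nat_lit 0x100100200400a) (nat_lit 1) (nat_lit 1) (nat_lit 2) (nat_lit 0) (nat_lit 2) (nat_lit 0) (nat_lit 0x1002004008001001) (nat_lit 1) (nat_lit 1) (nat_lit 0) (nat_lit 1) (nat_lit 0) (nat_lit 1) (nat_lit 0) .nil))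
theorem c132 : (chk [] [] p132).n x43 s132 = true := by decide +kernel
noncomputable def p133 : Pf := (.ext (nat_lit 0) (nat_lit 0x900801002e00100f001000002) (nat_lit 0x1080020040010) (nat_lit 0x2e01000900100100f001000001002004008003003) (nat_lit 0x2003004008) (nat_lit 4102) (nat_lit 4097) (nat_lit 0xa004002001) (.dfs (nat_lit 6) (nat_lit 0x1001002004008) (nat_lit 0x100100200400a) (nat_lit 1) (nat_lit 1) (nat_lit 2) (nat_lit 0) (nat_lit 2) (nat_lit 0) (nat_lit 0x1002004008001001) (nat_lit 1) (nat_lit 1) (nat_lit 0) (nat_lit 1) (nat_lit 0) (nat_lit 1) (nat_lit 0) .nil))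
theorem c133 : (chk [] [] p133).n x44 s133 = true := by decide +kernel
noncomputable def p134 : Pf := (.ext (nat_lit 0) (nat_lit 0xc00401402100100201003005000305a002000003) (nat_lit 0x1080020040010) (nat_lit 0x2501400800400105a00200002401000400800105c02001001200304f001000005) (nat_lit 0x3001004009) (nat_lit 0x1008006) (nat_lit 0x100a016) (nat_lit 0x800400200300a004002001) (.dfs (nat_lit 6) (nat_lit 0x1001002004008) (nat_lit 0x100100200400a) (nat_lit 1) (nat_lit 1) (nat_lit 2) (nat_lit 0) (nat_lit 2) (nat_lit 0) (nat_lit 0x1002004008001001) (nat_lit 22) (nat_lit 1) (nat_lit 0) (nat_lit 4231) (nat_lit 135) (nat_lit 0x1000016000018000036000038) (nat_lit 0x140000001400000) (.cD (nat_lit 22) (.dfs (nat_lit 8) (nat_lit 0x1002004008010) (nat_lit 0x1006004008010) (nat_lit 4097) (nat_lit 4101) (nat_lit 0) (nat_lit 0) (nat_lit 2) (nat_lit 0) (nat_lit 0x2004008010001001) (nat_lit 10) (nat_lit 1) (nat_lit 0) (nat_lit 1) (nat_lit 0) (nat_lit 1) (nat_lit 0) .nil) (.cD (nat_lit 24) (.kS (nat_lit 0) (nat_lit 0x5a00200000800401802a003002004008010001003)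 (nat_lit 4129) (nat_lit 0x8004002005) (nat_lit 0x800401002000d00301201002004c00e0050d908100000200400801000100200800401802a00d00400205a000006)) (.cD (nat_lit 54) (.kS (nat_lit 0) (nat_lit 0x5a00200000800401802a003002004008010001003) (nat_lit 4175) (nat_lit 0x8004002005) (nat_lit 0x800401002000d00301201002004c00e0050d908100000200400801000100200800401802a01100400205a000006)) (.cD (nat_lit 56) (.kS (nat_lit 0) (nat_lit 0x5a00200000800401802a003002004008010001003) (nat_lit 4161) (nat_lit 0x8004002005) (nat_lit 0x800401002000d00301201002004c00e0050d908100000200400801000100200800401802a01d00400205a000006)) .nil))))))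
theorem c134 : (chk [] [] p134).n x45 s134 = true := by decide +kernel
noncomputable def p135 : Pf := (.ext (nat_lit 0) (nat_lit 0x4006008010002001) (nat_lit 0x10c602004e04002f) (nat_lit 0x5c02001001201e00304f001000010008006004009001008008000004) (nat_lit 0x4006008010) (nat_lit 4118) (nat_lit 4097) (nat_lit 0x12008004002001) (.dfs (nat_lit 22) (nat_lit 0x1004006008010) (nat_lit 0x1004006008012) (nat_lit 0x1002001) (nat_lit 0x1002001) (nat_lit 2) (nat_lit 0) (nat_lit 2) (nat_lit 0) (nat_lit 0x4006008010004001) (nat_lit 1) (nat_lit 1) (nat_lit 0) (nat_lit 1) (nat_lit 0) (nat_lit 1) (nat_lit 0x8002000080020000800200008002) (.cD (nat_lit 1) (.kS (nat_lit 0) (nat_lit 0x800c01002400204f001000004006008010004003) (nat_lit 4118) (nat_lit 0x800400200d) (nat_lit 0x4f00100000400c01002401e00100104f00000800c010024001001004)) (.cD (nat_lit 15) (.kS (nat_lit 0) (nat_lit 0x800c01002400204f001000004006008010004003) (nat_lit 4120) (nat_lit 0x800400200d) (nat_lit 0x4f00100000400c01002401e00100104f00000800c01002400d001004)) (.cD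 (nat_lit 33) (.kS (nat_lit 0) (nat_lit 0x8008000008004010028002008008000004006008010004004) (nat_lit 4161) (nat_lit 0x800400200d) (nat_lit 0xc00801002c01500100800800000400c01002401e001008008000008004010028013001008008000006)) (.cD (nat_lit 47) (.kS (nat_lit 0) (nat_lit 0x800c01002400204f001000004006008010004003) (nat_lit 4152) (nat_lit 0x800400200d) (nat_lit 0x4f00100000400c01002401e00100104f00000800c01002401d001004)) (.cD (nat_lit 65) (.kS (nat_lit 0) (nat_lit 0x800c01002400204f001000004006008010004003) (nat_lit 4184) (nat_lit 0x800400200d) (nat_lit 0x4f00100000400c01002401e00100104f00000800c010024009001004)) (.cD (nat_lit 79) (.kS (nat_lit 0) (nat_lit 0x800c01002400204f001000004006008010004003) (nat_lit 4182) (nat_lit 0x800400200d) (nat_lit 0x4f00100000400c01002401e00100104f00000800c010024005001004)) (.cD (nat_lit 97) (.kS (nat_lit 0) (nat_lit 0x400c01402d00105a002000004006008010004003) (nat_lit 4214) (nat_lit 0x800400200d) (nat_lit 0x800c01802201900200400c01402d01e002002)) (.cD (nat_lit 111) (.cut (nat_lit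 0)) .nil))))))))))
theorem c135 : (chk [(x45, s134)] [] p135).n x45 s135 = true := by decide +kernel
noncomputable def p136 : Pf := (.ext (nat_lit 0) (nat_lit 0x8010020040001001) (nat_lit 0x110004008002000c) (nat_lit 0x2c01000400800d00304302001001701b0020b5001000003) (nat_lit 0x400200c015) (nat_lit 4102) (nat_lit 4357) (nat_lit 0x1300c004002001) (.dfs (nat_lit 6) (nat_lit 0x1002004008010) (nat_lit 0x100200400c013) (nat_lit 4097) (nat_lit 4097) (nat_lit 7) (nat_lit 0) (nat_lit 2) (nat_lit 0) (nat_lit 0x2004008010001001) (nat_lit 11) (nat_lit 1) (nat_lit 0) (nat_lit 1) (nat_lit 0) (nat_lit 1) (nat_lit 0) .nil))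
theorem c136 : (chk [] [] p136).n x46 s136 = true := by decide +kernel
noncomputable def p137 : Pf := (.ext (nat_lit 0) (nat_lit 0x8010020040001001) (nat_lit 0x110004008002000c) (nat_lit 0x2c01000400800d00304302001001701b0020b5001000003) (nat_lit 0x400200c015) (nat_lit 4102) (nat_lit 4357) (nat_lit 0x1300c004002001) (.dfs (nat_lit 6) (nat_lit 0x1002004008010) (nat_lit 0x100200400c013) (nat_lit 4097) (nat_lit 4097) (nat_lit 7) (nat_lit 0) (nat_lit 2) (nat_lit 0) (nat_lit 0x2004008010001001) (nat_lit 11) (nat_lit 1) (nat_lit 0) (nat_lit 1) (nat_lit 0) (nat_lit 1) (nat_lit 0) .nil))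
theorem c137 : (chk [] [] p137).n x47 s137 = true := by decide +kernel
noncomputable def p138 : Pf := (.ext (nat_lit 0) (nat_lit 0x8010020040001001) (nat_lit 0x110004008002000c) (nat_lit 0x2c01000400800d00304302001001701b002035001000003) (nat_lit 0x400200c015) (nat_lit 4102) (nat_lit 4357) (nat_lit 0x1300c004002001) (.dfs (nat_lit 6) (nat_lit 0x1002004008010) (nat_lit 0x100200400c013) (nat_lit 4097) (nat_lit 4097) (nat_lit 7) (nat_lit 0) (nat_lit 2) (nat_lit 0) (nat_lit 0x2004008010001001) (nat_lit 11) (nat_lit 1) (nat_lit 0) (nat_lit 1) (nat_lit 0) (nat_lit 1) (nat_lit 0) .nil))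
theorem c138 : (chk [] [] p138).n x48 s138 = true := by decide +kernel
noncomputable def p139 : Pf := (.kS (nat_lit 0) (nat_lit 0x8010028041001017010020043004035001000003) (nat_lit 4126) (nat_lit 0x8004002005) (nat_lit 0x10008028041009002008010028041014002002))
theorem c139 : (chk [] [] p139).n x49 s139 = true := by decide +kernel
noncomputable def p140 : Pf := (.anz (nat_lit 128) (.iso x50 ⟨[([nat_lit 260, nat_lit 408, nat_lit 320, nat_lit 8, nat_lit 240, nat_lit 128, nat_lit 1, nat_lit 298], [nat_lit 179, nat_lit 127, nat_lit 8, nat_lit 320, nat_lit 128, nat_lit 240, nat_lit 1, nat_lit 26]), ([nat_lit 264, nat_lit 32, nat_lit 152, nat_lit 344, nat_lit 128, nat_lit 1, nat_lit 2], [nat_lit 224, nat_lit 32, nat_lit 304, nat_lit 240, nat_lit 128, nat_lit 241, nat_lit 98])], [], [], [], [], [], true, false, []⟩ (nat_lit 0) (nat_lit 0x1008080014006012002001100040) (nat_lit 0x20800011581a8100198008004) [(nat_lit 0x80040020010008004002001001001), (nat_lit 0x40020010008004002001003001)] (.syr (nat_lit 1) false (nat_lit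 1) (nat_lit 1) (nat_lit 1) (nat_lit 0x1080002) (nat_lit 0x1010008004002001) (nat_lit 0x1d00f81ec002001) (nat_lit 0x10000300020300030300010700020b00030b0003128004128) (nat_lit 0x100010000000000000001000000000000) (.cD (nat_lit 128) (.dfs (nat_lit 2) (nat_lit 1) (nat_lit 1) (nat_lit 4097) (nat_lit 4097) (nat_lit 0) (nat_lit 0) (nat_lit 0) (nat_lit 0) (nat_lit 0) (nat_lit 0) (nat_lit 1) (nat_lit 0) (nat_lit 0x1100040020010008004002001) (nat_lit 0x1000c01601d00f81ec002001) (nat_lit 0x10020020030020050020060020020030030030070030010120020120030120040120070120010130020130030130040130060130000150010150020150030150040150050150060150070150000320020320030320040320050320001e20011e20031e20000d30010d30040d30011430021d20031d200312a00412a00512a00612a00712a0011220061220020920021d30031d300101b00201b00301b00601b00701b0021230071230021530011a50021a50031a50041a50051a50061a50071a50021750041750051750061750071750010bd0020bd0011250010cd0060cd0011d50020b20030b200118a00218a00318a00418a00618a00718a0031720021f200510500610500109500103d001065)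 (nat_lit 0x40000002c000c) (.cD (nat_lit 2) (.kF (nat_lit 1) (nat_lit 0x2001001001)) (.cD (nat_lit 3) (.czp (nat_lit 3) (nat_lit 0x1002001) (nat_lit 0x1080040130118002001) z17 (.dfs (nat_lit 128) (nat_lit 4097) (nat_lit 4097) (nat_lit 4098) (nat_lit 4098) (nat_lit 0) (nat_lit 0) (nat_lit 3) (nat_lit 0) (nat_lit 0) (nat_lit 0) (nat_lit 1) (nat_lit 0) (nat_lit 0x1040130198001) (nat_lit 0xc01b0168001) (nat_lit 0x10010010000410010410011280021280031280011290021290031290010c1) (nat_lit 0x300000000000000000000000000000000000000000100000000000000020000000000000002) (.cD (nat_lit 1) (.kF (nat_lit 128) (nat_lit 0x10030010c0040000002)) (.cD (nat_lit 65) (.kF (nat_lit 128) (nat_lit 0x5002002001001000001002001003)) (.cD (nat_lit 128) (.kc (nat_lit 129) (nat_lit 0x5001001)) (.cD (nat_lit 296) (.kF (nat_lit 128) (nat_lit 0x5002002158158000001002001003)) (.cD (nat_lit 297) (.kF (nat_lit 128) (nat_lit 0x330400060b40440000010030010c0040000004)) .nil))))))) (.cD (nat_lit 18) (.kF (nat_lit 1) (nat_lit 0x100400060fa1ca000002001001003))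 (.cD (nat_lit 19) (.czs (nat_lit 19) z16 (nat_lit 32) (.dfs (nat_lit 128) (nat_lit 4097) (nat_lit 4097) (nat_lit 4098) (nat_lit 4098) (nat_lit 0) (nat_lit 0) (nat_lit 3) (nat_lit 0) (nat_lit 0) (nat_lit 0) (nat_lit 1) (nat_lit 0) (nat_lit 0x1100001) (nat_lit 0x100001) (nat_lit 0x1001001001070000100000171) (nat_lit 0x200000000000000000000000000010002000000000000000000000000000100030000000000000000000000000002) (.cD (nat_lit 1) (.kF (nat_lit 128) (nat_lit 0x5002002100100000001002001003)) (.cD (nat_lit 112) (.kF (nat_lit 128) (nat_lit 0x5002002100100000001002001003)) (.cD (nat_lit 113) (.kF (nat_lit 128) (nat_lit 0xc004000000400300201005c0050f8008000004)) (.cD (nat_lit 128) (.kc (nat_lit 129) (nat_lit 0x5001001)) (.cD (nat_lit 241) (.kF (nat_lit 128) (nat_lit 0xc004000000400300201004c005160020000004)) (.cD (nat_lit 256) (.kF (nat_lit 128) (nat_lit 0x5002002001001000001002001003)) (.cD (nat_lit 369) (.kF (nat_lit 128) (nat_lit 0x5002002001001000001002001003)) .nil))))))))) (.cD (nat_lit 21) (.kF (nat_lit 1) (nat_lit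 0x170510050100ae0040c0040000002001001004)) (.cD (nat_lit 50) (.kF (nat_lit 1) (nat_lit 0x100510051ee0a6000002001001003)) .nil))))))) (.cD (nat_lit 48) (.anc (nat_lit 1) (nat_lit 0x1001001) (nat_lit 0x1080140060010008002001) (.kn (nat_lit 1) (nat_lit 0x1080140060010008002001) false (nat_lit 0x1008004001) (nat_lit 0xf81ec001) (nat_lit 0x10000300010300020300010b0))) (.cD (nat_lit 112) (.anc (nat_lit 128) (nat_lit 0x2002000010004002) (nat_lit 0x1100080040020010008004002001) (.kn (nat_lit 1) (nat_lit 0x1100080040020010008004002001) false (nat_lit 4098) (nat_lit 2) (nat_lit 0x1000070))) .nil))))))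
theorem c140 : (chk [] [g57] p140).n x49 s140 = true := by decide +kernel
noncomputable def p141 : Pf := (.clm (.cut (nat_lit 0)) (.dfs (nat_lit 256) (nat_lit 1) (nat_lit 1) (nat_lit 1) (nat_lit 1) (nat_lit 0) (nat_lit 0) (nat_lit 0) (nat_lit 0) (nat_lit 0) (nat_lit 0) (nat_lit 1) (nat_lit 0) (nat_lit 0x1100040020010008004002001) (nat_lit 0x1000400200100080b409e035) (nat_lit 0x100004900104900204900304900404900504900704900010000110000210000010800110800210800410800610800010c00110c00210c00310c00410c00014000114000314000014c00114c00214c00314c00414c00107d00207d00407d00507d00707d0040650070650020790070790010e10040e10070e10070d10000510070510010cf0011860021860071860021ac0011a60021a60031a60041a60071a60001a40021a40031a40051a40011920021920031920051920071920001900021900051900011bc0011ea0041ea0001ec0031ec00114e00214e00314e00514e00714e0001d00021d00051d000117c0070610070cd0070550070d500704d0010530070fd0070f900119600210e0021d2) (nat_lit 0x100100000000000011010000000000000000000000000000000000000000000002000000000000000000) (.cD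 (nat_lit 73) (.kn (nat_lit 1) (nat_lit 0x1100080040020010008) false (nat_lit 0x1100020010008004002001) (nat_lit 0x1000200100080b409e035) (nat_lit 0x100004900104900204900304900404900504900604900107d)) (.cD (nat_lit 256) (.kin (nat_lit 1) (nat_lit 0)) (.cD (nat_lit 264) (.kn (nat_lit 1) (nat_lit 0x1100080040020010008) false (nat_lit 0x1040010008004002001) (nat_lit 0x400100080b409e035) (nat_lit 0x10001080011080021080041080051080011a60021a60031a6)) (.cD (nat_lit 268) (.kn (nat_lit 1) (nat_lit 0x1100080040020010008) false (nat_lit 0x1010008004002001) (nat_lit 0x100080b409e035) (nat_lit 0x100010c00110c00210c00310c00410c001192002192003192)) (.cD (nat_lit 320) (.czp (nat_lit 320) (nat_lit 0x1002001) (nat_lit 0x1100080040020010004) z18 (.dfs (nat_lit 24) (nat_lit 4097) (nat_lit 4097) (nat_lit 1) (nat_lit 1) (nat_lit 0) (nat_lit 2) (nat_lit 3) (nat_lit 0) (nat_lit 0) (nat_lit 0) (nat_lit 1) (nat_lit 0) (nat_lit 0x1040010004) (nat_lit 0x400100b4) (nat_lit 0x10010040020040000440010440020340010c4) (nat_lit 0x100000000000000010)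 (.cD (nat_lit 4) (.mulh (nat_lit 1) (nat_lit 1) (.mulh (nat_lit 1) (nat_lit 1) (.dfs (nat_lit 32) (nat_lit 4104) (nat_lit 4104) (nat_lit 0x1004002001) (nat_lit 0x1007003001) (nat_lit 0) (nat_lit 0) (nat_lit 3) (nat_lit 0) (nat_lit 0) (nat_lit 0) (nat_lit 1) (nat_lit 0) (nat_lit 0x1030084) (nat_lit 0xb0034) (nat_lit 0x1000050001050000054001054001060001064) (nat_lit 0x1100000000000000000000) (.cD (nat_lit 80) (.kF (nat_lit 136) (nat_lit 0x3500100002704200600d01d00102700b000003051006005)) (.cD (nat_lit 84) (.kF (nat_lit 136) (nat_lit 0x230400060350010000090190010af01b000003051006005)) .nil))))) (.cD (nat_lit 68) (.mulh (nat_lit 1) (nat_lit 1) (.mulh (nat_lit 1) (nat_lit 1) (.dfs (nat_lit 32) (nat_lit 4104) (nat_lit 4104) (nat_lit 0x1004002001) (nat_lit 0x1007003001) (nat_lit 0) (nat_lit 0) (nat_lit 3) (nat_lit 0) (nat_lit 0) (nat_lit 0) (nat_lit 1) (nat_lit 0) (nat_lit 0x1030184) (nat_lit 0xb01b4) (nat_lit 0x10000100010100000540010540010a00010e4) (nat_lit 0x1000000000000000010000) (.cD (nat_lit 16) (.kF (nat_lit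 136) (nat_lit 0x280510050350010000090190010af01b000003051006005)) (.cD (nat_lit 84) (.kF (nat_lit 136) (nat_lit 0x20100020100600060100e400303500100001806800500d01f0010ab01f000003051006008)) .nil))))) .nil)))) (.cD (nat_lit 332) (.kn (nat_lit 1) (nat_lit 0x1100080040020010008) false (nat_lit 0x1010008004002001) (nat_lit 0x100080b409e035) (nat_lit 0x100014c00114c00214c00314c00414c00114e00214e00314e)) .nil))))))))
theorem c141 : (chk [(x49, s140)] [] p141).n x49 s141 = true := by decide +kernel
noncomputable def p142 : Pf := (.ext (nat_lit 0) (nat_lit 0x8010020040003001) (nat_lit 0x119004008009c00202c) (nat_lit 0x4102801000800100c001001) (nat_lit 0x8004018021) (nat_lit 0x1009004) (nat_lit 0x1114119) (nat_lit 0x2e014008004006009025018008004002001) (.dfs (nat_lit 4) (nat_lit 0x1008004018021) (nat_lit 0x100800401002c) (nat_lit 0x1020010002001) (nat_lit 0x1025018002001) (nat_lit 13) (nat_lit 0) (nat_lit 2) (nat_lit 0) (nat_lit 0x8010020040005001) (nat_lit 9) (nat_lit 1) (nat_lit 0) (nat_lit 4188) (nat_lit 92) (nat_lit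 0x1000159000175) (nat_lit 0x2000000200000000000000000000000000000000000000000000000000000000000000000000000000000000000000) (.cD (nat_lit 345) (.kS (nat_lit 0) (nat_lit 0x801002804c001008010020040005002) (nat_lit 0x102c002159) (nat_lit 0x800400200901000800400a001020010018025002001) (nat_lit 0x801002004000100c00b00300801002804c004002001002002)) (.cD (nat_lit 373) (.dfs (nat_lit 9) (nat_lit 0x1010008030042) (nat_lit 0x101000803804e) (nat_lit 0x1040020004002001) (nat_lit 0x105c02800c01201b) (nat_lit 8) (nat_lit 0) (nat_lit 2) (nat_lit 0) (nat_lit 0x8010020040005001) (nat_lit 26) (nat_lit 1) (nat_lit 0) (nat_lit 1) (nat_lit 0) (nat_lit 1) (nat_lit 0x1000000001000000000000000000000010000000010000000000000000000000000000000000000000000000000000000000000000000000000000000000000) (.cD (nat_lit 340) (.kS (nat_lit 0) (nat_lit 0x300100700bc002010010000008010020040005003) (nat_lit 0x10ae00d0a1147) (nat_lit 0x800400200901000801400b01102001002802602203104002003006f004045026) (nat_lit 0x3002007009c02c02b0230220011101100000300100700bc02c0370130d9001003))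 (.cD (nat_lit 376) (.cut (nat_lit 0)) (.cD (nat_lit 468) (.kS (nat_lit 0) (nat_lit 0x300100700bc002010010000008010020040005003) (nat_lit 0x10ae0110bd16b) (nat_lit 0x800400200901000801400b01102001002802602203104002003006f004045026) (nat_lit 0x3002007009c02c02b0230220011101100000300100700bc02c0270030c9001003)) (.cD (nat_lit 504) (.kS (nat_lit 0) (nat_lit 0x200200000300200600b4001035001000008010020040005004) (nat_lit 0x100200b) (nat_lit 0x800400200901000801400b011) (nat_lit 0x2003007008c0240da0010350010000100200500980080010010010350000300200600b402c033002020020000006)) .nil))))) .nil))))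
theorem c142 : (chk [(x49, s141)] [] p142).n x49 s142 = true := by decide +kernel
noncomputable def p143 : Pf := (.ext (nat_lit 0) (nat_lit 0xb4004000004008010020004002) (nat_lit 0x110e0dc08009c0b0006) (nat_lit 0xb400400002001000800400203f004040020010008004002006003) (nat_lit 0x4008010020) (nat_lit 4098) (nat_lit 4140) (nat_lit 0x24010008004002001) (.dfs (nat_lit 2) (nat_lit 0x1004008010020) (nat_lit 0x1004008010024) (nat_lit 0x1002001) (nat_lit 0x1002001) (nat_lit 4) (nat_lit 0) (nat_lit 2) (nat_lit 0) (nat_lit 0xb4004000004008010020006002) (nat_lit 44) (nat_lit 1) (nat_lit 0) (nat_lit 1) (nat_lit 0) (nat_lit 1) (nat_lit 0x110000000000000000000000000000001100000000000) (.cD (nat_lit 44) (.cut (nat_lit 1)) (.cD (nat_lit 48) (.kS (nat_lit 0) (nat_lit 0x10008020040001025009000004008010020006003) (nat_lit 4272) (nat_lit 0x8004002005) (nat_lit 0x1001802004007b00301001802004001d001008008000010008020040009002004)) (.cD (nat_lit 172) (.kS (nat_lit 0) (nat_lit 0xb4004000010008028051001004008010020006003) (nat_lit 4268)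 (nat_lit 0x8004002005) (nat_lit 0x1001802004006b00301001802004001d0010350010000100080280510010020040b4000005)) (.cD (nat_lit 176) (.cut (nat_lit 0)) .nil))))))
theorem c143 : (chk [(x49, s139), (x49, s142)] [] p143).n x49 s143 = true := by decide +kernel
noncomputable def p144 : Pf := (.ext (nat_lit 0) (nat_lit 0xb4004000004008010020002002) (nat_lit 0x11200c009c080082169) (nat_lit 0xb400400002001000800c00a03f00201001000002001000800400203f0010040b4000005) (nat_lit 0xc008010020) (nat_lit 4107) (nat_lit 4117) (nat_lit 0x2201800800400a00f) (.dfs (nat_lit 11) (nat_lit 0x100c008010020) (nat_lit 0x100c008018022) (nat_lit 0x1004002001) (nat_lit 0x100400a00f) (nat_lit 8) (nat_lit 0) (nat_lit 2) (nat_lit 0) (nat_lit 0xb4004000004008010020004002) (nat_lit 21) (nat_lit 1) (nat_lit 0) (nat_lit 1) (nat_lit 0) (nat_lit 1) (nat_lit 0x20000000020000000000000000000000200000000200000) (.cD (nat_lit 21) (.kS (nat_lit 0) (nat_lit 0x1801003803b002004008010020004002) (nat_lit 0x10020250b9) (nat_lit 0x800400200501000800c01b009020010018006012031)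 (nat_lit 0x801002803700c07a01100109e00200001801003803b00c07a01d001003)) (.cD (nat_lit 57) (.cut (nat_lit 0)) (.cD (nat_lit 149) (.kS (nat_lit 0) (nat_lit 0x8018020040001008008000004008010020004003) (nat_lit 4144) (nat_lit 0x8004002005) (nat_lit 0xc00401402100500800801002802700c001008008000008018020040063002004)) (.cD (nat_lit 185) (.kS (nat_lit 0) (nat_lit 0x1801003802b002004008010020004002) (nat_lit 0x1002025015) (nat_lit 0x800400200501000800c01b009020010018006012031) (nat_lit 0x801002803700c07a01100109e00200001801003802b00c07a00d001003)) .nil))))))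
theorem c144 : (chk [(x49, s143)] [] p144).n x49 s144 = true := by decide +kernel
noncomputable def p145 : Pf := (.ext (nat_lit 0) (nat_lit 0) (nat_lit 0x111004009c080082) (nat_lit 0x103500004302001001701b00102c01000400800d004003) (nat_lit 0x2004008010) (nat_lit 4107) (nat_lit 4378) (nat_lit 0x1300c004002005) (.dfs (nat_lit 11) (nat_lit 0x1002004008010) (nat_lit 0x100200400c013) (nat_lit 4097) (nat_lit 4101) (nat_lit 4) (nat_lit 0) (nat_lit 2) (nat_lit 0) (nat_lit 0) (nat_lit 6) (nat_lit 1) (nat_lit 0) (nat_lit 4160) (nat_lit 64) (nat_lit 0x100015a00017a) (nat_lit 0x40000000400000000000000000000000000000000000000000000000000000000000000000000000000000000000000) (.cD (nat_lit 346) (.cut (nat_lit 0)) (.cD (nat_lit 378) (.iso x49 s144 (nat_lit 0) (nat_lit 0x1100080040020010008004002081) (nat_lit 0x100080040020010008004002081) [(nat_lit 0x20010008004002005001001), (nat_lit 0x40020010008004002001003001), (nat_lit 0x20010008004002001005001)] (.cut (nat_lit 0))) .nil))))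
theorem c145 : (chk [(x49, s144)] [g50] p145).n x49 s145 = true := by decide +kernel
noncomputable def p146 : Pf := (.lft (nat_lit 0x8002004001000403d001002001001) (nat_lit 2) (nat_lit 0x10d60c0096080) (nat_lit 0x8004002001000800405a04f) (.extn a28 (nat_lit 0x80040020010008004002001) (nat_lit 0x1010040020080) (nat_lit 2) (nat_lit 0) (nat_lit 0) (nat_lit 2) (nat_lit 0x40000000000000004) (.cE (nat_lit 2) b49 (nat_lit 0) (.cut (nat_lit 0)) (.cut (nat_lit 1)) (.cE (nat_lit 66) b50 (nat_lit 0) (.cut (nat_lit 2)) (.cut (nat_lit 3)) .nil))))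
theorem c146 : (chk [(x46, s136), (x47, s137), (x48, s138), (x49, s145)] [] p146).n x45 s146 = true := by decide +kernel
noncomputable def p147 : Pf := (.ext (nat_lit 0) (nat_lit 0x13010020059001001) (nat_lit 0x1080020040010006008) (nat_lit 0x59020010013001019001001) (nat_lit 0x4008010020) (nat_lit 0x1002001) (nat_lit 0x1002017) (nat_lit 0x2801800800100700c02e01000800900f004) (.dfs (nat_lit 1) (nat_lit 0x1004008010020) (nat_lit 0x100900801002e) (nat_lit 0x1002001) (nat_lit 0x100f004) (nat_lit 3) (nat_lit 0) (nat_lit 2) (nat_lit 0) (nat_lit 0x4008010020001001) (nat_lit 11) (nat_lit 1) (nat_lit 0) (nat_lit 1) (nat_lit 0) (nat_lit 1) (nat_lit 0x2000000008000000200000000800000) (.cD (nat_lit 23) (.kS (nat_lit 0) (nat_lit 0x8010020040001001) (nat_lit 0x1012044017) (nat_lit 0x8004002005018008004002009011010008036033020) (nat_lit 0x13010020059001019004003008010020040004002001002002)) (.cD (nat_lit 57) (.kS (nat_lit 0) (nat_lit 0x8010020040001001) (nat_lit 0x1012044039) (nat_lit 0x8004002005018008004002009011010008036033020)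 (nat_lit 0x13010020059001019004003008010020040004002001002002)) (.cD (nat_lit 87) (.dfs (nat_lit 2) (nat_lit 0x1008010020040) (nat_lit 0x1002010030050) (nat_lit 0x1004002001) (nat_lit 0x100e018001) (nat_lit 10) (nat_lit 0) (nat_lit 2) (nat_lit 0) (nat_lit 0x8010020040001001) (nat_lit 2) (nat_lit 1) (nat_lit 0) (nat_lit 4142) (nat_lit 46) (nat_lit 0x1000002) (nat_lit 4) (.cD (nat_lit 2) (.cut (nat_lit 0)) .nil)) (.cD (nat_lit 121) (.kS (nat_lit 0) (nat_lit 0x8010020040001001) (nat_lit 0x1012044079) (nat_lit 0x8004002005018008004002009011010008036033020) (nat_lit 0x13010020059001019004003008010020040004002001002002)) .nil))))))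
theorem c147 : (chk [(x45, s146)] [] p147).n x45 s147 = true := by decide +kernel
noncomputable def p148 : Pf := (.ext (nat_lit 0) (nat_lit 0x8010020040003001) (nat_lit 0x108802004000e) (nat_lit 0x4002001000800302001401c00e001053020010007003003) (nat_lit 0x1002004008) (nat_lit 0x1006016001) (nat_lit 0x1004016017) (nat_lit 0x800400200300a00400200100b004002001) (.dfs (nat_lit 1) (nat_lit 0x1001002004008) (nat_lit 0x100100200400b) (nat_lit 1) (nat_lit 1) (nat_lit 3) (nat_lit 0) (nat_lit 2) (nat_lit 0) (nat_lit 0x8010020040005001) (nat_lit 23) (nat_lit 1) (nat_lit 0) (nat_lit 4231) (nat_lit 135) (nat_lit 0x1000017000037000057000077) (nat_lit 0x800000008000000080000000800000) (.cD (nat_lit 23) (.kS (nat_lit 0) (nat_lit 0x5a00200000800401802200704f001000008010020040005004) (nat_lit 4182) (nat_lit 0x8004002009) (nat_lit 0x800401002800200700600400801000300201d05300000800401802200e00800205a000005)) (.cD (nat_lit 55) (.kS (nat_lit 0) (nat_lit 0x5a00200000800401802200704f001000008010020040005004) (nat_lit 4182) (nat_lit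 0x8004002009) (nat_lit 0x800401002801e00700600400801000900201d05300000800401802200e00800205a000005)) (.cD (nat_lit 87) (.dfs (nat_lit 22) (nat_lit 0x1002004008010) (nat_lit 0x1002004008014) (nat_lit 4097) (nat_lit 4097) (nat_lit 4) (nat_lit 0) (nat_lit 2) (nat_lit 0) (nat_lit 0x8010020040005001) (nat_lit 22) (nat_lit 1) (nat_lit 0) (nat_lit 1) (nat_lit 0) (nat_lit 1) (nat_lit 0x1400000014000000140000001400000) (.cD (nat_lit 22) (.kS (nat_lit 0) (nat_lit 0x4008010020002008010020040005002) (nat_lit 4119) (nat_lit 0x8004002009) (nat_lit 0xc00801402b00200105a002000004008010020003001003)) (.cD (nat_lit 24) (.kS (nat_lit 0) (nat_lit 0x800c01802d00100400801402100804f001000008010020040005004) (nat_lit 4184) (nat_lit 0x8004002009) (nat_lit 0x400400000800401c02300e00705b05500000400801402100500700800c01802d009002005)) (.cD (nat_lit 54) (.kS (nat_lit 0) (nat_lit 0xc008010020002004004000008010020040005003) (nat_lit 0x104f038) (nat_lit 0x800400200901000800400a001) (nat_lit 0x400400000c00801c02600200100100400400000c00801002000e015001004))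 (.cD (nat_lit 56) (.kS (nat_lit 0) (nat_lit 0xc008010020002004004000008010020040005003) (nat_lit 0x104f076) (nat_lit 0x800400200901000800400a001) (nat_lit 0x400400000c00801c02600200100100400400000c00801002000e019001004)) (.cD (nat_lit 86) (.dfs (nat_lit 6) (nat_lit 0x1004008010020) (nat_lit 0x100c008010020) (nat_lit 0x1002001) (nat_lit 0x100f001) (nat_lit 8) (nat_lit 0) (nat_lit 2) (nat_lit 0) (nat_lit 0x8010020040005001) (nat_lit 4) (nat_lit 1) (nat_lit 0) (nat_lit 4128) (nat_lit 32) (nat_lit 0x1000012000024) (nat_lit 0x1000040000) (.cD (nat_lit 18) (.cut (nat_lit 0)) (.cD (nat_lit 36) (.kA false (nat_lit 0x2301003004000601901003004000101301003005300601001c008020004004004000005)) .nil))) (.cD (nat_lit 88) (.kS (nat_lit 0) (nat_lit 0x400801802100205a002000008010020040005003) (nat_lit 4121) (nat_lit 0x8004002009) (nat_lit 0x4f00100000c00801c02600200100205a000004008018021007001004)) (.cD (nat_lit 118) (.kS (nat_lit 0) (nat_lit 0xc008010020002004004000008010020040005003) (nat_lit 0x104f078) (nat_lit 0x800400200901000800400a001)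 (nat_lit 0x400400000c00801c02600200100100400400000c00801002000e01d001004)) (.cD (nat_lit 120) (.kS (nat_lit 0) (nat_lit 0xc008010020002004004000008010020040005003) (nat_lit 0x104f036) (nat_lit 0x800400200901000800400a001) (nat_lit 0x400400000c00801c02600200100100400400000c00801002000e011001004)) .nil))))))))) (.cD (nat_lit 119) (.kS (nat_lit 0) (nat_lit 0x5a00200000800401802200704f001000008010020040005004) (nat_lit 4182) (nat_lit 0x8004002009) (nat_lit 0x800401002801a00700600400801000d00201d05300000800401802200e00800205a000005)) .nil))))))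
theorem c148 : (chk [(x45, s147)] [] p148).n x45 s148 = true := by decide +kernel
noncomputable def p149 : Pf := (.anc (nat_lit 131) (nat_lit 0x4000202a00405f002080080000004) (nat_lit 0x100801803202e004) (.czp (nat_lit 128) (nat_lit 0) (nat_lit 0x1080040020010008004) z2 (.dfs (nat_lit 4) (nat_lit 4097) (nat_lit 4097) (nat_lit 1) (nat_lit 1) (nat_lit 0) (nat_lit 0) (nat_lit 3) (nat_lit 0) (nat_lit 0) (nat_lit 0) (nat_lit 1) (nat_lit 0) (nat_lit 0x1020010008004) (nat_lit 0x20010008004) (nat_lit 0x1001004002004003004000008002008000020000028002028001010001070) (nat_lit 0x10000010100000110) (.cD (nat_lit 4) (.kF (nat_lit 4) (nat_lit 0x1004000400402a00601705f00406f021000001002002005)) (.cD (nat_lit 8) (.dfs (nat_lit 46) (nat_lit 4098) (nat_lit 4098) (nat_lit 4097) (nat_lit 4097) (nat_lit 0) (nat_lit 0) (nat_lit 3) (nat_lit 0) (nat_lit 0) (nat_lit 0) (nat_lit 1) (nat_lit 0) (nat_lit 1) (nat_lit 0) (nat_lit 1) (nat_lit 0x101000001010000010100000100) (.cD (nat_lit 8) (.kc (nat_lit 114) (nat_lit 0x3001001)) (.cD (nat_lit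 32) (.dfs (nat_lit 50) (nat_lit 4100) (nat_lit 4100) (nat_lit 0x1002001) (nat_lit 0x1002001) (nat_lit 0) (nat_lit 0) (nat_lit 3) (nat_lit 0) (nat_lit 0) (nat_lit 0) (nat_lit 1) (nat_lit 0) (nat_lit 1) (nat_lit 0) (nat_lit 1) (nat_lit 0x101000001010000010100000100) (.cD (nat_lit 8) (.kc (nat_lit 110) (nat_lit 0x5001001)) (.cD (nat_lit 32) (.kc (nat_lit 68) (nat_lit 0x3001001)) (.cD (nat_lit 40) (.kc (nat_lit 64) (nat_lit 0x7001001)) (.cD (nat_lit 64) (.kA false (nat_lit 0x5a00200000300600400900102002000000400100300900205a002000005)) (.cD (nat_lit 72) (.kA false (nat_lit 0x3005007008001058018000004005007008002004004000004)) (.cD (nat_lit 96) (.kA false (nat_lit 0x5a00200001300303305000400400300100b00205a002000004)) (.cD (nat_lit 104) (.kA false (nat_lit 0x700400200800104f00100001001703005f00300800401802a005008010020040003005)) .nil)))))))) (.cD (nat_lit 40) (.dfs (nat_lit 50) (nat_lit 4100) (nat_lit 4100) (nat_lit 0x1002001) (nat_lit 0x1002001) (nat_lit 0) (nat_lit 0) (nat_lit 3) (nat_lit 0) (nat_lit 0) (nat_lit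 0) (nat_lit 1) (nat_lit 0) (nat_lit 1) (nat_lit 0) (nat_lit 1) (nat_lit 0x101000001010000010100000100) (.cD (nat_lit 8) (.kc (nat_lit 110) (nat_lit 0x5001001)) (.cD (nat_lit 32) (.kc (nat_lit 64) (nat_lit 0x7001001)) (.cD (nat_lit 40) (.kc (nat_lit 68) (nat_lit 0x3001001)) (.cD (nat_lit 64) (.kA false (nat_lit 0x5a00200000300600700900102002000000400100700900205a002000005)) (.cD (nat_lit 72) (.kA false (nat_lit 0x3005004008001058018000004005003008002004004000004)) (.cD (nat_lit 96) (.kA false (nat_lit 0x300700600800102002000000400700100f00205a002000004)) (.cD (nat_lit 104) (.kA false (nat_lit 0x5a00200001300302005000400400300500b00205a002000004)) .nil)))))))) (.cD (nat_lit 64) (.kF (nat_lit 64) (nat_lit 0x2004000401802a00603005f00406f021000001004002005)) (.cD (nat_lit 72) (.kF (nat_lit 72) (nat_lit 0x2004000401802a00603005f00406f021000001004002005)) (.cD (nat_lit 96) (.dfs (nat_lit 50) (nat_lit 4100) (nat_lit 4100) (nat_lit 0x1002001) (nat_lit 0x1002001) (nat_lit 0) (nat_lit 0) (nat_lit 3) (nat_lit 0) (nat_lit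 0) (nat_lit 0) (nat_lit 1) (nat_lit 0) (nat_lit 1) (nat_lit 0) (nat_lit 1) (nat_lit 0x101000001010000010100000100) (.cD (nat_lit 8) (.kc (nat_lit 110) (nat_lit 0x5001001)) (.cD (nat_lit 32) (.dfs (nat_lit 24) (nat_lit 4099) (nat_lit 4100) (nat_lit 1) (nat_lit 1) (nat_lit 7) (nat_lit 0) (nat_lit 1) (nat_lit 4160) (nat_lit 0x8004002001000800405a04f) (nat_lit 0) (nat_lit 1) (nat_lit 0) (nat_lit 1) (nat_lit 0) (nat_lit 1) (nat_lit 0) .nil) (.cD (nat_lit 40) (.dfs (nat_lit 24) (nat_lit 0x1004007002008) (nat_lit 0x1003007002008) (nat_lit 4097) (nat_lit 4102) (nat_lit 7) (nat_lit 0) (nat_lit 2) (nat_lit 1) (nat_lit 0) (nat_lit 16) (nat_lit 1) (nat_lit 0) (nat_lit 4104) (nat_lit 8) (nat_lit 0x1000018000038) (nat_lit 0x100000001000000) (.cD (nat_lit 24) (.dfs (nat_lit 8) (nat_lit 0x100700e00a010) (nat_lit 0x100600e004010) (nat_lit 0x1008004002001) (nat_lit 0x100900a00d00f) (nat_lit 0) (nat_lit 0) (nat_lit 2) (nat_lit 0) (nat_lit 0) (nat_lit 20) (nat_lit 1) (nat_lit 0) (nat_lit 4128) (nat_lit 32) (nat_lit 0x100001c) (nat_lit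 0x10000000) (.cD (nat_lit 28) (.cut (nat_lit 0)) .nil)) (.cD (nat_lit 56) (.kA false (nat_lit 0x200e00401000100800800000d00e00a010002003)) .nil))) (.cD (nat_lit 64) (.kA false (nat_lit 0x5a00200000300600200900102002000000400100200900205a002000005)) (.cD (nat_lit 72) (.kA false (nat_lit 0x3005002008001058018000004005002008002004004000004)) (.cD (nat_lit 96) (.kc (nat_lit 68) (nat_lit 0x3001001)) (.cD (nat_lit 104) (.kc (nat_lit 64) (nat_lit 0x7001001)) .nil)))))))) (.cD (nat_lit 104) (.dfs (nat_lit 50) (nat_lit 4100) (nat_lit 4100) (nat_lit 0x1002001) (nat_lit 0x1002001) (nat_lit 0) (nat_lit 0) (nat_lit 3) (nat_lit 0) (nat_lit 0) (nat_lit 0) (nat_lit 1) (nat_lit 0) (nat_lit 1) (nat_lit 0) (nat_lit 1) (nat_lit 0x101000001010000010100000100) (.cD (nat_lit 8) (.kc (nat_lit 110) (nat_lit 0x5001001)) (.cD (nat_lit 32) (.kA false (nat_lit 0x300700100800102002000000400700600f00205a002000004)) (.cD (nat_lit 40) (.kA false (nat_lit 0x5a00200001300302305000400400300600b00205a002000004)) (.cD (nat_lit 64) (.kA false (nat_lit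 0x5a00200000300600100900102002000000400100600900205a002000005)) (.cD (nat_lit 72) (.kA false (nat_lit 0x3005001008001058018000004005006008002004004000004)) (.cD (nat_lit 96) (.kc (nat_lit 64) (nat_lit 0x7001001)) (.cD (nat_lit 104) (.kc (nat_lit 68) (nat_lit 0x3001001)) .nil)))))))) .nil)))))))) (.cD (nat_lit 32) (.kF (nat_lit 32) (nat_lit 0x1004000400402a00601705f00406f021000001002002005)) (.cD (nat_lit 40) (.kF (nat_lit 40) (nat_lit 0x1004000400402a00601705f00406f021000001002002005)) (.cD (nat_lit 64) (.dfs (nat_lit 46) (nat_lit 4098) (nat_lit 4098) (nat_lit 4097) (nat_lit 4097) (nat_lit 0) (nat_lit 0) (nat_lit 3) (nat_lit 0) (nat_lit 0) (nat_lit 0) (nat_lit 1) (nat_lit 0) (nat_lit 0x1020010008084) (nat_lit 0x20010008084) (nat_lit 0x1001004002004003004000008002008000020000028002028001010001070) (nat_lit 0x10000010100000110) (.cD (nat_lit 4) (.kF (nat_lit 4) (nat_lit 0x2004000401802a00603005f00406f021000001004002005)) (.cD (nat_lit 8) (.kF (nat_lit 8) (nat_lit 0x2004000401802a00603005f00406f021000001004002005))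 (.cD (nat_lit 32) (.dfs (nat_lit 50) (nat_lit 4100) (nat_lit 4100) (nat_lit 0x1002001) (nat_lit 0x1002001) (nat_lit 0) (nat_lit 0) (nat_lit 3) (nat_lit 0) (nat_lit 0) (nat_lit 0) (nat_lit 1) (nat_lit 0) (nat_lit 0x1010008) (nat_lit 65544) (nat_lit 0x1001008000010001028000030) (nat_lit 0x1000000010001010100010100) (.cD (nat_lit 8) (.kA false (nat_lit 0x3301302304000400100400600c00205a002000003)) (.cD (nat_lit 16) (.kA false (nat_lit 0x2001303004000400500400200c00204e04e000003)) (.cD (nat_lit 32) (.kc (nat_lit 68) (nat_lit 0x3001001)) (.cD (nat_lit 40) (.kA false (nat_lit 0x301302304000400300400600c00205a002000003)) (.cD (nat_lit 48) (.dfs (nat_lit 24) (nat_lit 4100) (nat_lit 4099) (nat_lit 1) (nat_lit 1) (nat_lit 7) (nat_lit 0) (nat_lit 1) (nat_lit 4160) (nat_lit 0x8004002001000800405a04f) (nat_lit 0) (nat_lit 1) (nat_lit 0) (nat_lit 1) (nat_lit 0) (nat_lit 1) (nat_lit 0) .nil) (.cD (nat_lit 64) (.kc (nat_lit 110) (nat_lit 0x5001001)) (.cD (nat_lit 96) (.kc (nat_lit 64) (nat_lit 0x7001001)) .nil)))))))) (.cD (nat_lit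 40) (.dfs (nat_lit 50) (nat_lit 4100) (nat_lit 4100) (nat_lit 0x1002001) (nat_lit 0x1002001) (nat_lit 0) (nat_lit 0) (nat_lit 3) (nat_lit 0) (nat_lit 0) (nat_lit 0) (nat_lit 1) (nat_lit 0) (nat_lit 1) (nat_lit 0) (nat_lit 1) (nat_lit 0x101000001010000010100000100) (.cD (nat_lit 8) (.kA false (nat_lit 0x3301301004000400100400700c00205a002000003)) (.cD (nat_lit 32) (.kA false (nat_lit 0x301302004000400300400500c00205a002000003)) (.cD (nat_lit 40) (.kc (nat_lit 68) (nat_lit 0x3001001)) (.cD (nat_lit 64) (.kc (nat_lit 110) (nat_lit 0x5001001)) (.cD (nat_lit 72) (.kA false (nat_lit 0x2001300304000400500400300c00205a002000003)) (.cD (nat_lit 96) (.kA false (nat_lit 0x1001303304000400700400100c00205a002000003)) (.cD (nat_lit 104) (.kc (nat_lit 64) (nat_lit 0x7001001)) .nil)))))))) (.cD (nat_lit 64) (.kc (nat_lit 114) (nat_lit 0x3001001)) .nil)))))) .nil))))))))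
theorem c149 : (chk [(x45, s148)] [] p149).n x45 s149 = true := by decide +kernel
noncomputable def p150 : Pf := (.ext (nat_lit 0) (nat_lit 0xc00401402100100201003005000305a002000003) (nat_lit 0x1080020040010006) (nat_lit 0x2501400800400200105a00200002401000400800900105c02001001201e00304f001000005) (nat_lit 0x6002008012) (nat_lit 0x1005003) (nat_lit 0x1011003) (nat_lit 0x1700c00400600501300c004002001) (.dfs (nat_lit 3) (nat_lit 0x1002004008010) (nat_lit 0x100200400c013) (nat_lit 4097) (nat_lit 4097) (nat_lit 7) (nat_lit 0) (nat_lit 2) (nat_lit 0) (nat_lit 0x2004008010001001) (nat_lit 3) (nat_lit 1) (nat_lit 0) (nat_lit 4142) (nat_lit 46) (nat_lit 0x1000003000015) (nat_lit 0x200008) (.cD (nat_lit 3) (.dfs (nat_lit 5) (nat_lit 0x1004008010020) (nat_lit 0x100c00801802e) (nat_lit 0x1002001) (nat_lit 0x100a001) (nat_lit 6) (nat_lit 0) (nat_lit 2) (nat_lit 0) (nat_lit 0x4008010020001001) (nat_lit 17) (nat_lit 1) (nat_lit 0) (nat_lit 4174) (nat_lit 78) (nat_lit 0x1000011) (nat_lit 0x20000) (.cD (nat_lit 17) (.cut (nat_lit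 0)) .nil)) (.cD (nat_lit 21) (.dfs (nat_lit 5) (nat_lit 0x1004008010020) (nat_lit 0x100c00801802e) (nat_lit 0x1002001) (nat_lit 0x100a001) (nat_lit 6) (nat_lit 0) (nat_lit 2) (nat_lit 0) (nat_lit 0x4008010020001001) (nat_lit 17) (nat_lit 1) (nat_lit 0) (nat_lit 4174) (nat_lit 78) (nat_lit 0x1000031) (nat_lit 0x2000000000000) (.cD (nat_lit 49) (.kF (nat_lit 4) (nat_lit 0x4f001000028075001047011000033079002004)) .nil)) .nil))))
theorem c150 : (chk [(x45, s149)] [] p150).n x45 s150 = true := by decide +kernel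
noncomputable def p151 : Pf := (.ext (nat_lit 0) (nat_lit 0x4006008010002001) (nat_lit 0x10c602004e04000f) (nat_lit 0x5c02001001201e00304f001000010008006004001001008008000004) (nat_lit 0x4006008010) (nat_lit 4118) (nat_lit 4097) (nat_lit 0x12008004002001) (.dfs (nat_lit 22) (nat_lit 0x1004006008010) (nat_lit 0x1004006008012) (nat_lit 0x1002001) (nat_lit 0x1002001) (nat_lit 2) (nat_lit 0) (nat_lit 2) (nat_lit 0) (nat_lit 0x4006008010004001) (nat_lit 1) (nat_lit 1) (nat_lit 0) (nat_lit 1) (nat_lit 0) (nat_lit 1) (nat_lit 0x8002000080020000800200008002) (.cD (nat_lit 1) (.kS (nat_lit 0) (nat_lit 0x8008000008004010028002008008000004006008010004004) (nat_lit 4161) (nat_lit 0x800400200d) (nat_lit 0xc00801002c00500100800800000400c01002400e001008008000008004010028003001008008000006)) (.cD (nat_lit 15) (.kS (nat_lit 0) (nat_lit 0x800c01002400204f001000004006008010004003) (nat_lit 4120) (nat_lit 0x800400200d) (nat_lit 0x4f00100000400c01002400e00100104f00000800c01002400d001004)) (.cD (nat_lit 33) (.kS (nat_lit 0) (nat_lit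 0x800c01002400204f001000004006008010004003) (nat_lit 4150) (nat_lit 0x800400200d) (nat_lit 0x4f00100000400c01002400e00100104f00000800c010024011001004)) (.cD (nat_lit 47) (.kS (nat_lit 0) (nat_lit 0x800c01002400204f001000004006008010004003) (nat_lit 4152) (nat_lit 0x800400200d) (nat_lit 0x4f00100000400c01002400e00100104f00000800c01002401d001004)) (.cD (nat_lit 65) (.kS (nat_lit 0) (nat_lit 0x400c01402d00105a002000004006008010004003) (nat_lit 4182) (nat_lit 0x800400200d) (nat_lit 0x800c01802200900200400c01402d00e002002)) (.cD (nat_lit 79) (.cut (nat_lit 0)) (.cD (nat_lit 97) (.kS (nat_lit 0) (nat_lit 0x800c01002400204f001000004006008010004003) (nat_lit 4216) (nat_lit 0x800400200d) (nat_lit 0x4f00100000400c01002400e00100104f00000800c010024019001004)) (.cD (nat_lit 111) (.kS (nat_lit 0) (nat_lit 0x800c01002400204f001000004006008010004003) (nat_lit 4214) (nat_lit 0x800400200d) (nat_lit 0x4f00100000400c01002400e00100104f00000800c010024015001004)) .nil))))))))))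
theorem c151 : (chk [(x45, s150)] [] p151).n x45 s151 = true := by decide +kernel
noncomputable def p152 : Pf := (.ext (nat_lit 0) (nat_lit 0) (nat_lit 0x108602004004e) (nat_lit 0x100200400800300104f00005c020010012002003) (nat_lit 0x2003004008) (nat_lit 4119) (nat_lit 4102) (nat_lit 0xb004002001) (.dfs (nat_lit 23) (nat_lit 0x1002003004008) (nat_lit 0x100200300400b) (nat_lit 4097) (nat_lit 4097) (nat_lit 3) (nat_lit 0) (nat_lit 2) (nat_lit 0) (nat_lit 0) (nat_lit 6) (nat_lit 1) (nat_lit 0) (nat_lit 4224) (nat_lit 128) (nat_lit 0x1000006000016000026000036) (nat_lit 0x40004000400040) (.cD (nat_lit 6) (.cut (nat_lit 1)) (.cD (nat_lit 22) (.iso x45 s151 (nat_lit 0) (nat_lit 0x1080040020010008004002041) (nat_lit 0x80040020010008004002041) [(nat_lit 0x10008004002005001001), (nat_lit 0x40020010008004002011003001)] (.cut (nat_lit 1))) (.cD (nat_lit 38) (.cut (nat_lit 0)) (.cD (nat_lit 54) (.iso x45 s135 (nat_lit 0) (nat_lit 0x1080040020010008004002041) (nat_lit 0x80040020010008004002041) [(nat_lit 0x10008004002005001001),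 (nat_lit 0x40020010008004002011003001)] (.cut (nat_lit 0))) .nil))))))
theorem c152 : (chk [(x45, s135), (x45, s151)] [g48] p152).n x45 s152 = true := by decide +kernel
noncomputable def p153 : Pf := (.ext (nat_lit 0) (nat_lit 0) (nat_lit 0x1080020040010006008) (nat_lit 0x20010008004002001001001) (nat_lit 0x400801002c) (nat_lit 4099) (nat_lit 4099) (nat_lit 0x26018008004002001) (.dfs (nat_lit 3) (nat_lit 0x100400801002c) (nat_lit 0x100400801802a) (nat_lit 0x1020002001) (nat_lit 0x1026002001) (nat_lit 14) (nat_lit 0) (nat_lit 2) (nat_lit 0) (nat_lit 0) (nat_lit 3) (nat_lit 1) (nat_lit 0) (nat_lit 4128) (nat_lit 32) (nat_lit 0x1000003) (nat_lit 8) (.cD (nat_lit 3) (.cut (nat_lit 0)) .nil)))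
theorem c153 : (chk [(x45, s152)] [] p153).n x45 s153 = true := by decide +kernel
noncomputable def p154 : Pf := (.ext (nat_lit 0) (nat_lit 0x900801002e00104f001000002) (nat_lit 0x1080020040010) (nat_lit 0x2e01000900100104f001000001002004008003003) (nat_lit 0x2003004008) (nat_lit 4102) (nat_lit 4097) (nat_lit 0xa004002001) (.dfs (nat_lit 6) (nat_lit 0x1001002004008) (nat_lit 0x100100200400a) (nat_lit 1) (nat_lit 1) (nat_lit 2) (nat_lit 0) (nat_lit 2) (nat_lit 0) (nat_lit 0x1002004008001001) (nat_lit 1) (nat_lit 1) (nat_lit 0) (nat_lit 1) (nat_lit 0) (nat_lit 1) (nat_lit 0) .nil))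
theorem c154 : (chk [] [] p154).n x51 s154 = true := by decide +kernel
noncomputable def p155 : Pf := (.lft (nat_lit 0x4001002000800201f001001001) (nat_lit 7) (nat_lit 0x1060040) (nat_lit 0x4002001000800400202d) (.extn a27 (nat_lit 0x40020010008004002001) (nat_lit 0x1008020010040) (nat_lit 2) (nat_lit 0) (nat_lit 0) (nat_lit 7) (nat_lit 0x8000000080) (.cE (nat_lit 7) b47 (nat_lit 0) (.cut (nat_lit 0)) (.cut (nat_lit 1)) (.cE (nat_lit 39) b48 (nat_lit 0) (.cut (nat_lit 2)) (.cut (nat_lit 3)) .nil))))
theorem c155 : (chk [(x43, s132), (x44, s133), (x45, s153), (x51, s154)] [] p155).n x18 s155 = true := by decide +kernel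
noncomputable def p156 : Pf := (.ext (nat_lit 0) (nat_lit 0) (nat_lit 0x1040010020008003004) (nat_lit 0x2201000800b00500400102d00100002101800800100700b00102d001000020010008004002001001005) (nat_lit 0x1008010026) (nat_lit 4097) (nat_lit 4097) (nat_lit 0x2801800800100700c) (.dfs (nat_lit 1) (nat_lit 0x1001008010026) (nat_lit 0x100c00801802e) (nat_lit 0x1020004002) (nat_lit 0x1028001007) (nat_lit 5) (nat_lit 0) (nat_lit 2) (nat_lit 0) (nat_lit 0) (nat_lit 1) (nat_lit 1) (nat_lit 0) (nat_lit 4112) (nat_lit 16) (nat_lit 0x1000001) (nat_lit 2) (.cD (nat_lit 1) (.cut (nat_lit 0)) .nil)))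
theorem c156 : (chk [(x18, s155)] [] p156).n x18 s156 = true := by decide +kernel
noncomputable def p157 : Pf := (.anc (nat_lit 75) (nat_lit 0x2c00102d00100002700102d001000026001005) (nat_lit 0x1002008020010004) (.dfs (nat_lit 4) (nat_lit 1) (nat_lit 1) (nat_lit 4097) (nat_lit 4097) (nat_lit 0) (nat_lit 0) (nat_lit 0) (nat_lit 0) (nat_lit 0) (nat_lit 0) (nat_lit 1) (nat_lit 0) (nat_lit 0x1010008004002) (nat_lit 0x10008004002) (nat_lit 0x1001002002002003002000004002004000010000014002014001008001038) (nat_lit 0x100110014) (.cD (nat_lit 2) (.kF (nat_lit 2) (nat_lit 0x402c00302d00100000b02700302d001000001026003001002002006)) (.cD (nat_lit 4) (.czs (nat_lit 4) z6 (nat_lit 32) (.dfs (nat_lit 16) (nat_lit 4097) (nat_lit 4097) (nat_lit 4098) (nat_lit 4098) (nat_lit 0) (nat_lit 0) (nat_lit 3) (nat_lit 0) (nat_lit 0) (nat_lit 0) (nat_lit 1) (nat_lit 0) (nat_lit 1) (nat_lit 0) (nat_lit 1) (nat_lit 0x11001100110010) (.cD (nat_lit 4) (.kc (nat_lit 20) (nat_lit 0x3001001)) (.cD (nat_lit 16) (.dfs (nat_lit 32) (nat_lit 4098)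 (nat_lit 4098) (nat_lit 0x1004001) (nat_lit 0x1004001) (nat_lit 0) (nat_lit 0) (nat_lit 3) (nat_lit 0) (nat_lit 0) (nat_lit 0) (nat_lit 1) (nat_lit 0) (nat_lit 1) (nat_lit 0) (nat_lit 1) (nat_lit 0x11001100110010) (.cD (nat_lit 4) (.kc (nat_lit 36) (nat_lit 0x5001001)) (.cD (nat_lit 16) (.kc (nat_lit 48) (nat_lit 0x3001001)) (.cD (nat_lit 20) (.kc (nat_lit 52) (nat_lit 0x7001001)) (.cD (nat_lit 32) (.kA false (nat_lit 0xb00801002c00302d00100000100801802700300400100300c00202d001000004008010020003006)) (.cD (nat_lit 36) (.kA false (nat_lit 0x5004006008001008008000004005007008002002002000004)) (.cD (nat_lit 48) (.kA false (nat_lit 0x5003001008001008008000004003001008002002002000004)) (.cD (nat_lit 52) (.kA false (nat_lit 0x5006004008001008008000004007005008002002002000004)) .nil)))))))) (.cD (nat_lit 20) (.dfs (nat_lit 32) (nat_lit 4098) (nat_lit 4098) (nat_lit 0x1004001) (nat_lit 0x1004001) (nat_lit 0) (nat_lit 0) (nat_lit 3) (nat_lit 0) (nat_lit 0) (nat_lit 0) (nat_lit 1) (nat_lit 0) (nat_lit 1) (nat_lit 0) (nat_lit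 1) (nat_lit 0x11001100110010) (.cD (nat_lit 4) (.kc (nat_lit 36) (nat_lit 0x5001001)) (.cD (nat_lit 16) (.kc (nat_lit 52) (nat_lit 0x7001001)) (.cD (nat_lit 20) (.kc (nat_lit 48) (nat_lit 0x3001001)) (.cD (nat_lit 32) (.kA false (nat_lit 0x5001006008001008008000004001007008002002002000004)) (.cD (nat_lit 36) (.kA false (nat_lit 0x300b01002c00302d00100000300b01802900400400500300d00202d001000005)) (.cD (nat_lit 48) (.kA false (nat_lit 0x5006001008001008008000004007001008002002002000004)) (.cD (nat_lit 52) (.kA false (nat_lit 0x5003004008001008008000004003005008002002002000004)) .nil)))))))) (.cD (nat_lit 32) (.kF (nat_lit 32) (nat_lit 0x1002c00302d00100001802700302d001000010026003001004002006)) (.cD (nat_lit 36) (.kF (nat_lit 36) (nat_lit 0x1002c00302d00100001802700302d001000010026003001004002006)) (.cD (nat_lit 48) (.dfs (nat_lit 32) (nat_lit 4098) (nat_lit 4098) (nat_lit 0x1004001) (nat_lit 0x1004001) (nat_lit 0) (nat_lit 0) (nat_lit 3) (nat_lit 0) (nat_lit 0) (nat_lit 0) (nat_lit 1) (nat_lit 0) (nat_lit 1) (nat_lit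 0) (nat_lit 1) (nat_lit 0x11001100110010) (.cD (nat_lit 4) (.kc (nat_lit 36) (nat_lit 0x5001001)) (.cD (nat_lit 16) (.kA false (nat_lit 0x5003002008001008008000004003002008002002002000004)) (.cD (nat_lit 20) (.kA false (nat_lit 0x5006002008001008008000004007002008002002002000004)) (.cD (nat_lit 32) (.dfs (nat_lit 8) (nat_lit 0x1004001002008) (nat_lit 0x1005001002008) (nat_lit 1) (nat_lit 1) (nat_lit 0) (nat_lit 0) (nat_lit 2) (nat_lit 1) (nat_lit 0) (nat_lit 8) (nat_lit 1) (nat_lit 0) (nat_lit 4100) (nat_lit 4) (nat_lit 0x1000008000018) (nat_lit 0x1000100) (.cD (nat_lit 8) (.dfs (nat_lit 2) (nat_lit 0x1001002006010) (nat_lit 0x1008002004010) (nat_lit 0x1008004) (nat_lit 0x1001006) (nat_lit 0) (nat_lit 0) (nat_lit 2) (nat_lit 0) (nat_lit 0) (nat_lit 2) (nat_lit 1) (nat_lit 0) (nat_lit 4112) (nat_lit 16) (nat_lit 0x1000002) (nat_lit 4) (.cD (nat_lit 2) (.cut (nat_lit 0)) .nil)) (.cD (nat_lit 24) (.kA false (nat_lit 0xc002004010001002002000007002006010002003)) .nil))) (.cD (nat_lit 36) (.dfs (nat_lit 8) (nat_lit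 4101) (nat_lit 4100) (nat_lit 1) (nat_lit 1) (nat_lit 0) (nat_lit 0) (nat_lit 1) (nat_lit 4128) (nat_lit 0x4002001000800400202d) (nat_lit 0) (nat_lit 1) (nat_lit 0) (nat_lit 1) (nat_lit 0) (nat_lit 1) (nat_lit 0) .nil) (.cD (nat_lit 48) (.kc (nat_lit 48) (nat_lit 0x3001001)) (.cD (nat_lit 52) (.kc (nat_lit 52) (nat_lit 0x7001001)) .nil)))))))) (.cD (nat_lit 52) (.dfs (nat_lit 32) (nat_lit 4098) (nat_lit 4098) (nat_lit 0x1004001) (nat_lit 0x1004001) (nat_lit 0) (nat_lit 0) (nat_lit 3) (nat_lit 0) (nat_lit 0) (nat_lit 0) (nat_lit 1) (nat_lit 0) (nat_lit 1) (nat_lit 0) (nat_lit 1) (nat_lit 0x11001100110010) (.cD (nat_lit 4) (.kc (nat_lit 36) (nat_lit 0x5001001)) (.cD (nat_lit 16) (.kA false (nat_lit 0x5006007008001008008000004007006008002002002000004)) (.cD (nat_lit 20) (.kA false (nat_lit 0x5003007008001008008000004003006008002002002000004)) (.cD (nat_lit 32) (.kA false (nat_lit 0x5001007008001008008000004001006008002002002000004)) (.cD (nat_lit 36) (.kA false (nat_lit 0x5004007008001008008000004005006008002002002000004))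 (.cD (nat_lit 48) (.kc (nat_lit 52) (nat_lit 0x7001001)) (.cD (nat_lit 52) (.kc (nat_lit 48) (nat_lit 0x3001001)) .nil)))))))) .nil))))))))) (.cD (nat_lit 16) (.kF (nat_lit 16) (nat_lit 0x402c00302d00100000b02700302d001000001026003001002002006)) (.cD (nat_lit 20) (.kF (nat_lit 20) (nat_lit 0x402c00302d00100000b02700302d001000001026003001002002006)) (.cD (nat_lit 32) (.dfs (nat_lit 16) (nat_lit 1) (nat_lit 1) (nat_lit 0x1002001) (nat_lit 0x1002001) (nat_lit 0) (nat_lit 0) (nat_lit 0) (nat_lit 0) (nat_lit 0) (nat_lit 0) (nat_lit 1) (nat_lit 0) (nat_lit 0x1010008004002) (nat_lit 0x10008004002) (nat_lit 0x1001002002002003002000004002004000010000014002014001008001038) (nat_lit 0x100110014) (.cD (nat_lit 2) (.kF (nat_lit 2) (nat_lit 0x1002c00302d00100001802700302d001000010026003001004002006)) (.cD (nat_lit 4) (.kF (nat_lit 4) (nat_lit 0x1002c00302d00100001802700302d001000010026003001004002006)) (.cD (nat_lit 16) (.dfs (nat_lit 32) (nat_lit 1) (nat_lit 1) (nat_lit 0x1004002001) (nat_lit 0x1004002001) (nat_lit 0) (nat_lit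 0) (nat_lit 0) (nat_lit 0) (nat_lit 0) (nat_lit 0) (nat_lit 1) (nat_lit 0) (nat_lit 0x1008004) (nat_lit 32772) (nat_lit 0x1001004000008001014000018) (nat_lit 0x1000101110110) (.cD (nat_lit 4) (.kA false (nat_lit 0x1005007008001008008000001004006008002002002000004)) (.cD (nat_lit 8) (.dfs (nat_lit 8) (nat_lit 4100) (nat_lit 4101) (nat_lit 1) (nat_lit 1) (nat_lit 0) (nat_lit 0) (nat_lit 1) (nat_lit 4128) (nat_lit 0x4002001000800400202d) (nat_lit 0) (nat_lit 1) (nat_lit 0) (nat_lit 1) (nat_lit 0) (nat_lit 1) (nat_lit 0) .nil) (.cD (nat_lit 16) (.kc (nat_lit 48) (nat_lit 0x3001001)) (.cD (nat_lit 20) (.kA false (nat_lit 0x3005007008001008008000003004006008002002002000004)) (.cD (nat_lit 24) (.kA false (nat_lit 0x3005002008001008008000003004002008002003)) (.cD (nat_lit 32) (.kc (nat_lit 36) (nat_lit 0x5001001)) (.cD (nat_lit 48) (.kc (nat_lit 52) (nat_lit 0x7001001)) .nil)))))))) (.cD (nat_lit 20) (.czs (nat_lit 20) z6 (nat_lit 32) (.dfs (nat_lit 32) (nat_lit 4097) (nat_lit 4097) (nat_lit 0x1004002) (nat_lit 0x1004002)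 (nat_lit 0) (nat_lit 0) (nat_lit 3) (nat_lit 0) (nat_lit 0) (nat_lit 0) (nat_lit 1) (nat_lit 0) (nat_lit 1) (nat_lit 0) (nat_lit 1) (nat_lit 0x11001100110010) (.cD (nat_lit 4) (.kA false (nat_lit 0x1005006008001008008000001004007008002002002000004)) (.cD (nat_lit 16) (.kA false (nat_lit 0x3005004008001008008000003004005008002002002000004)) (.cD (nat_lit 20) (.kc (nat_lit 48) (nat_lit 0x3001001)) (.cD (nat_lit 32) (.kc (nat_lit 36) (nat_lit 0x5001001)) (.cD (nat_lit 36) (.kA false (nat_lit 0x300b01002c00302d00100000900101802700300500400300c00202d001000005)) (.cD (nat_lit 48) (.kA false (nat_lit 0x6005001008001008008000007004001008002002002000004)) (.cD (nat_lit 52) (.kc (nat_lit 52) (nat_lit 0x7001001)) .nil))))))))) (.cD (nat_lit 32) (.kc (nat_lit 20) (nat_lit 0x3001001)) .nil)))))) .nil)))))))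
theorem c157 : (chk [(x18, s156)] [] p157).n x18 s157 = true := by decide +kernel
noncomputable def p158 : Pf := (.ext (nat_lit 0) (nat_lit 0) (nat_lit 0x1040010020008) (nat_lit 0xd002004008002023003000001002004008001003) (nat_lit 0x100200400b) (nat_lit 0x1004003) (nat_lit 0x1007003) (nat_lit 0x800400200300a004002001) (.dfs (nat_lit 3) (nat_lit 0x100100200400b) (nat_lit 0x1001002004009) (nat_lit 4104) (nat_lit 4106) (nat_lit 2) (nat_lit 0) (nat_lit 2) (nat_lit 0) (nat_lit 0) (nat_lit 3) (nat_lit 1) (nat_lit 0) (nat_lit 4160) (nat_lit 64) (nat_lit 0x100000300000b00001300001b) (nat_lit 0x8080808) (.cD (nat_lit 3) (.dfs (nat_lit 4) (nat_lit 0x1002004008016) (nat_lit 0x1006004008012) (nat_lit 0x1010001) (nat_lit 0x1010005) (nat_lit 0) (nat_lit 0) (nat_lit 2) (nat_lit 0) (nat_lit 0) (nat_lit 7) (nat_lit 1) (nat_lit 0) (nat_lit 4104) (nat_lit 8) (nat_lit 0x1000007000017) (nat_lit 0x800080) (.cD (nat_lit 7) (.cut (nat_lit 1)) (.cD (nat_lit 23) (.cut (nat_lit 0)) .nil))) (.cD (nat_lit 11) (.dfs (nat_lit 4) (nat_lit 0x1002004008016)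 (nat_lit 0x1006004008012) (nat_lit 0x1010001) (nat_lit 0x1010005) (nat_lit 0) (nat_lit 0) (nat_lit 2) (nat_lit 0) (nat_lit 0) (nat_lit 7) (nat_lit 1) (nat_lit 0) (nat_lit 1) (nat_lit 0) (nat_lit 1) (nat_lit 0) .nil) (.cD (nat_lit 19) (.dfs (nat_lit 4) (nat_lit 0x1002004008016) (nat_lit 0x1006004008012) (nat_lit 0x1010001) (nat_lit 0x1010005) (nat_lit 0) (nat_lit 0) (nat_lit 2) (nat_lit 0) (nat_lit 0) (nat_lit 7) (nat_lit 1) (nat_lit 0) (nat_lit 4104) (nat_lit 8) (nat_lit 0x1000007000017) (nat_lit 0x800080) (.cD (nat_lit 7) (.kA false (nat_lit 0xb00801802c001001008018020001002002000003)) (.cD (nat_lit 23) (.kA false (nat_lit 0x1b00801802c001001008018020001002002000003)) .nil))) (.cD (nat_lit 27) (.dfs (nat_lit 4) (nat_lit 0x1002004008016) (nat_lit 0x1006004008012) (nat_lit 0x1010001) (nat_lit 0x1010005) (nat_lit 0) (nat_lit 0) (nat_lit 2) (nat_lit 0) (nat_lit 0) (nat_lit 7) (nat_lit 1) (nat_lit 0) (nat_lit 1) (nat_lit 0) (nat_lit 1) (nat_lit 0) .nil) .nil))))))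
theorem c158 : (chk [(x18, s131), (x18, s157)] [] p158).n x18 s158 = true := by decide +kernel
noncomputable def p159 : Pf := (.ext (nat_lit 0) (nat_lit 0) (nat_lit 0x1080020040010006008) (nat_lit 0x20010008004002001001001) (nat_lit 0x400801002c) (nat_lit 4097) (nat_lit 4114) (nat_lit 0x1301800803f00203a) (.dfs (nat_lit 1) (nat_lit 0x100400801002c) (nat_lit 0x103f008018024) (nat_lit 0x1020002001) (nat_lit 0x101300203a) (nat_lit 0) (nat_lit 0) (nat_lit 2) (nat_lit 0) (nat_lit 0) (nat_lit 18) (nat_lit 1) (nat_lit 0) (nat_lit 1) (nat_lit 0) (nat_lit 1) (nat_lit 0) .nil))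
theorem c159 : (chk [] [] p159).n x53 s159 = true := by decide +kernel
noncomputable def p160 : Pf := (.anc (nat_lit 136) (nat_lit 0x1001000021001002) (nat_lit 0x1001006040020008) (.czp (nat_lit 128) (nat_lit 0) (nat_lit 0x1080040020010008004) z2 (.dfs (nat_lit 8) (nat_lit 4097) (nat_lit 4097) (nat_lit 1) (nat_lit 1) (nat_lit 0) (nat_lit 0) (nat_lit 3) (nat_lit 0) (nat_lit 0) (nat_lit 0) (nat_lit 1) (nat_lit 0) (nat_lit 0x1020010008004) (nat_lit 0x20010008004) (nat_lit 0x1001004002004003004000008002008000020000028002028001010001070) (nat_lit 0x10000010100000110) (.cD (nat_lit 4) (.kF (nat_lit 8) (nat_lit 0x100200103701b00305b01b000003)) (.cD (nat_lit 8) (.dfs (nat_lit 32) (nat_lit 4098) (nat_lit 4098) (nat_lit 4097) (nat_lit 4097) (nat_lit 0) (nat_lit 0) (nat_lit 3) (nat_lit 0) (nat_lit 0) (nat_lit 0) (nat_lit 1) (nat_lit 0) (nat_lit 1) (nat_lit 0) (nat_lit 1) (nat_lit 0x101000001010000010100000100) (.cD (nat_lit 8) (.kc (nat_lit 40) (nat_lit 0x3001001)) (.cD (nat_lit 32) (.dfs (nat_lit 64) (nat_lit 4100) (nat_lit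 4100) (nat_lit 0x1002001) (nat_lit 0x1002001) (nat_lit 0) (nat_lit 0) (nat_lit 3) (nat_lit 0) (nat_lit 0) (nat_lit 0) (nat_lit 1) (nat_lit 0) (nat_lit 1) (nat_lit 0) (nat_lit 1) (nat_lit 0x101000001010000010100000100) (.cD (nat_lit 8) (.kc (nat_lit 72) (nat_lit 0x5001001)) (.cD (nat_lit 32) (.kc (nat_lit 96) (nat_lit 0x3001001)) (.cD (nat_lit 40) (.kc (nat_lit 104) (nat_lit 0x7001001)) (.cD (nat_lit 64) (.dfs (nat_lit 6) (nat_lit 0x1004001003008) (nat_lit 0x1005001003008) (nat_lit 4098) (nat_lit 4098) (nat_lit 1) (nat_lit 0) (nat_lit 2) (nat_lit 1) (nat_lit 0) (nat_lit 16) (nat_lit 1) (nat_lit 0) (nat_lit 4104) (nat_lit 8) (nat_lit 0x10000980000b8) (nat_lit 0x10000000100000000000000000000000000000000000000) (.cD (nat_lit 152) (.kA false (nat_lit 0xe00200601000100100100001b002004010002003)) (.cD (nat_lit 184) (.dfs (nat_lit 1) (nat_lit 0x101f002004010) (nat_lit 0x1008002006010) (nat_lit 0x1008001) (nat_lit 0x101f001) (nat_lit 0) (nat_lit 0) (nat_lit 2) (nat_lit 0) (nat_lit 0) (nat_lit 4) (nat_lit 1) (nat_lit 0)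 (nat_lit 4128) (nat_lit 32) (nat_lit 0x1000004) (nat_lit 16) (.cD (nat_lit 4) (.cut (nat_lit 0)) .nil)) .nil))) (.cD (nat_lit 72) (.kA false (nat_lit 0x4001003008001001008018021004001001000003)) (.cD (nat_lit 96) (.kA false (nat_lit 0x4001003008001001008018021004001001000003)) (.cD (nat_lit 104) (.kA false (nat_lit 0x4001003008001001008018021004001001000003)) .nil)))))))) (.cD (nat_lit 40) (.dfs (nat_lit 64) (nat_lit 4100) (nat_lit 4100) (nat_lit 0x1002001) (nat_lit 0x1002001) (nat_lit 0) (nat_lit 0) (nat_lit 3) (nat_lit 0) (nat_lit 0) (nat_lit 0) (nat_lit 1) (nat_lit 0) (nat_lit 1) (nat_lit 0) (nat_lit 1) (nat_lit 0x101000001010000010100000100) (.cD (nat_lit 8) (.kc (nat_lit 72) (nat_lit 0x5001001)) (.cD (nat_lit 32) (.kc (nat_lit 104) (nat_lit 0x7001001)) (.cD (nat_lit 40) (.kc (nat_lit 96) (nat_lit 0x3001001)) (.cD (nat_lit 64) (.kA false (nat_lit 0x4001003008001001008018021004001001000003)) (.cD (nat_lit 72) (.dfs (nat_lit 6) (nat_lit 4101) (nat_lit 4100) (nat_lit 1) (nat_lit 1) (nat_lit 1) (nat_lit 0) (nat_lit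 1) (nat_lit 4160) (nat_lit 0x8004002001000800405a001) (nat_lit 0) (nat_lit 1) (nat_lit 0) (nat_lit 1) (nat_lit 0) (nat_lit 1) (nat_lit 0) .nil) (.cD (nat_lit 96) (.kA false (nat_lit 0x4001003008001001008018021004001001000003)) (.cD (nat_lit 104) (.kA false (nat_lit 0x4001003008001001008018021004001001000003)) .nil)))))))) (.cD (nat_lit 64) (.kF (nat_lit 32) (nat_lit 0x1001000008021003001006001003)) (.cD (nat_lit 72) (.kF (nat_lit 32) (nat_lit 0x1001000009021003001006001003)) (.cD (nat_lit 96) (.dfs (nat_lit 64) (nat_lit 4100) (nat_lit 4100) (nat_lit 0x1002001) (nat_lit 0x1002001) (nat_lit 0) (nat_lit 0) (nat_lit 3) (nat_lit 0) (nat_lit 0) (nat_lit 0) (nat_lit 1) (nat_lit 0) (nat_lit 1) (nat_lit 0) (nat_lit 1) (nat_lit 0x101000001010000010100000100) (.cD (nat_lit 8) (.kc (nat_lit 72) (nat_lit 0x5001001)) (.cD (nat_lit 32) (.kA false (nat_lit 0x4001003008001001008018021004001001000003)) (.cD (nat_lit 40) (.kA false (nat_lit 0x4001003008001001008018021004001001000003)) (.cD (nat_lit 64) (.kA false (nat_lit 0x4001003008001001008018021004001001000003))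 (.cD (nat_lit 72) (.kA false (nat_lit 0x4001003008001001008018021004001001000003)) (.cD (nat_lit 96) (.kc (nat_lit 96) (nat_lit 0x3001001)) (.cD (nat_lit 104) (.kc (nat_lit 104) (nat_lit 0x7001001)) .nil)))))))) (.cD (nat_lit 104) (.dfs (nat_lit 64) (nat_lit 4100) (nat_lit 4100) (nat_lit 0x1002001) (nat_lit 0x1002001) (nat_lit 0) (nat_lit 0) (nat_lit 3) (nat_lit 0) (nat_lit 0) (nat_lit 0) (nat_lit 1) (nat_lit 0) (nat_lit 1) (nat_lit 0) (nat_lit 1) (nat_lit 0x101000001010000010100000100) (.cD (nat_lit 8) (.kc (nat_lit 72) (nat_lit 0x5001001)) (.cD (nat_lit 32) (.kA false (nat_lit 0x4001003008001001008018021004001001000003)) (.cD (nat_lit 40) (.kA false (nat_lit 0x4001003008001001008018021004001001000003)) (.cD (nat_lit 64) (.kA false (nat_lit 0x4001003008001001008018021004001001000003)) (.cD (nat_lit 72) (.kA false (nat_lit 0x4001003008001001008018021004001001000003)) (.cD (nat_lit 96) (.kc (nat_lit 104) (nat_lit 0x7001001)) (.cD (nat_lit 104) (.kc (nat_lit 96) (nat_lit 0x3001001)) .nil)))))))) .nil)))))))) (.cD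 (nat_lit 32) (.kF (nat_lit 8) (nat_lit 0x100200103701b00305b01b000003)) (.cD (nat_lit 40) (.kF (nat_lit 8) (nat_lit 0x100200103701b00305b01b000003)) (.cD (nat_lit 64) (.dfs (nat_lit 32) (nat_lit 4098) (nat_lit 4098) (nat_lit 4097) (nat_lit 4097) (nat_lit 0) (nat_lit 0) (nat_lit 3) (nat_lit 0) (nat_lit 0) (nat_lit 0) (nat_lit 1) (nat_lit 0) (nat_lit 0x1020010008084) (nat_lit 0x20010008084) (nat_lit 0x1001004002004003004000008002008000020000028002028001010001070) (nat_lit 0x10000010100000110) (.cD (nat_lit 4) (.kF (nat_lit 32) (nat_lit 0x5a002000001006001002)) (.cD (nat_lit 8) (.kF (nat_lit 32) (nat_lit 0x5a002000001006001002)) (.cD (nat_lit 32) (.dfs (nat_lit 64) (nat_lit 4100) (nat_lit 4100) (nat_lit 0x1002001) (nat_lit 0x1002001) (nat_lit 0) (nat_lit 0) (nat_lit 3) (nat_lit 0) (nat_lit 0) (nat_lit 0) (nat_lit 1) (nat_lit 0) (nat_lit 0x1010008) (nat_lit 65544) (nat_lit 0x1001008000010001028000030) (nat_lit 0x1000000010001010100010100) (.cD (nat_lit 8) (.kA false (nat_lit 0x100400600c00205a002000002)) (.cD (nat_lit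 16) (.kA false (nat_lit 0x4001003008001001008018021004001001000003)) (.cD (nat_lit 32) (.kc (nat_lit 96) (nat_lit 0x3001001)) (.cD (nat_lit 40) (.kA false (nat_lit 0x300400600c00205a002000002)) (.cD (nat_lit 48) (.kA false (nat_lit 0x4001003008001001008018021004001001000003)) (.cD (nat_lit 64) (.kc (nat_lit 72) (nat_lit 0x5001001)) (.cD (nat_lit 96) (.kc (nat_lit 104) (nat_lit 0x7001001)) .nil)))))))) (.cD (nat_lit 40) (.dfs (nat_lit 64) (nat_lit 4100) (nat_lit 4100) (nat_lit 0x1002001) (nat_lit 0x1002001) (nat_lit 0) (nat_lit 0) (nat_lit 3) (nat_lit 0) (nat_lit 0) (nat_lit 0) (nat_lit 1) (nat_lit 0) (nat_lit 1) (nat_lit 0) (nat_lit 1) (nat_lit 0x101000001010000010100000100) (.cD (nat_lit 8) (.kA false (nat_lit 0x100400700c00205a002000002)) (.cD (nat_lit 32) (.kA false (nat_lit 0x300400500c00205a002000002)) (.cD (nat_lit 40) (.kc (nat_lit 96) (nat_lit 0x3001001)) (.cD (nat_lit 64) (.kc (nat_lit 72) (nat_lit 0x5001001)) (.cD (nat_lit 72) (.dfs (nat_lit 6) (nat_lit 4100) (nat_lit 4101) (nat_lit 1) (nat_lit 1) (nat_lit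 1) (nat_lit 0) (nat_lit 1) (nat_lit 4160) (nat_lit 0x8004002001000800405a001) (nat_lit 0) (nat_lit 1) (nat_lit 0) (nat_lit 1) (nat_lit 0) (nat_lit 1) (nat_lit 0) .nil) (.cD (nat_lit 96) (.kA false (nat_lit 0x700400100c00205a002000002)) (.cD (nat_lit 104) (.kc (nat_lit 104) (nat_lit 0x7001001)) .nil)))))))) (.cD (nat_lit 64) (.kc (nat_lit 40) (nat_lit 0x3001001)) .nil)))))) .nil))))))))
theorem c160 : (chk [(x53, s159)] [] p160).n x53 s160 = true := by decide +kernel
noncomputable def p161 : Pf := (.ext (nat_lit 0) (nat_lit 0) (nat_lit 0x1100040080020) (nat_lit 0x1002004008001001) (nat_lit 0x2003004008) (nat_lit 4097) (nat_lit 4108) (nat_lit 0xb004002001) (.dfs (nat_lit 1) (nat_lit 0x1002003004008) (nat_lit 0x100200300400b) (nat_lit 4097) (nat_lit 4097) (nat_lit 5) (nat_lit 0) (nat_lit 2) (nat_lit 0) (nat_lit 0) (nat_lit 12) (nat_lit 1) (nat_lit 0) (nat_lit 1) (nat_lit 0) (nat_lit 1) (nat_lit 0) .nil))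
theorem c161 : (chk [] [] p161).n x55 s161 = true := by decide +kernel
noncomputable def p162 : Pf := (.ext (nat_lit 0) (nat_lit 0) (nat_lit 0x1100040080020) (nat_lit 0x1002004008001001) (nat_lit 0x2003004008) (nat_lit 4097) (nat_lit 4108) (nat_lit 0xb004002001) (.dfs (nat_lit 1) (nat_lit 0x1002003004008) (nat_lit 0x100200300400b) (nat_lit 4097) (nat_lit 4097) (nat_lit 5) (nat_lit 0) (nat_lit 2) (nat_lit 0) (nat_lit 0) (nat_lit 12) (nat_lit 1) (nat_lit 0) (nat_lit 1) (nat_lit 0) (nat_lit 1) (nat_lit 0) .nil))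
theorem c162 : (chk [] [] p162).n x56 s162 = true := by decide +kernel
noncomputable def p163 : Pf := (.ext (nat_lit 0) (nat_lit 0) (nat_lit 0x1100040080020) (nat_lit 0x1002004008001001) (nat_lit 0x2003004008) (nat_lit 4097) (nat_lit 4108) (nat_lit 0xb004002001) (.dfs (nat_lit 1) (nat_lit 0x1002003004008) (nat_lit 0x100200300400b) (nat_lit 4097) (nat_lit 4097) (nat_lit 7) (nat_lit 0) (nat_lit 2) (nat_lit 0) (nat_lit 0) (nat_lit 12) (nat_lit 1) (nat_lit 0) (nat_lit 1) (nat_lit 0) (nat_lit 1) (nat_lit 0) .nil))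
theorem c163 : (chk [] [] p163).n x57 s163 = true := by decide +kernel
noncomputable def p164 : Pf := (.ext (nat_lit 0) (nat_lit 0) (nat_lit 0x1100040080020) (nat_lit 0x1002004008001001) (nat_lit 0x2003004008) (nat_lit 4097) (nat_lit 4108) (nat_lit 0xb004002001) (.dfs (nat_lit 1) (nat_lit 0x1002003004008) (nat_lit 0x100200300400b) (nat_lit 4097) (nat_lit 4097) (nat_lit 7) (nat_lit 0) (nat_lit 2) (nat_lit 0) (nat_lit 0) (nat_lit 12) (nat_lit 1) (nat_lit 0) (nat_lit 1) (nat_lit 0) (nat_lit 1) (nat_lit 0) .nil))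
theorem c164 : (chk [] [] p164).n x58 s164 = true := by decide +kernel
noncomputable def p165 : Pf := (.lft (nat_lit 0x8002004001000403d001002001001) (nat_lit 48) (nat_lit 0x10c008006e02e) (nat_lit 0x8004002001000800405a001) (.extn a279 (nat_lit 0x80040020010008004002001) (nat_lit 0x1010040020080) (nat_lit 2) (nat_lit 0) (nat_lit 0) (nat_lit 0) (nat_lit 0x10000000000000001000000000000) (.cE (nat_lit 48) b422 (nat_lit 0) (.cut (nat_lit 0)) (.cut (nat_lit 1)) (.cE (nat_lit 112) b423 (nat_lit 0) (.cut (nat_lit 2)) (.cut (nat_lit 3)) .nil))))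
theorem c165 : (chk [(x55, s161), (x56, s162), (x57, s163), (x58, s164)] [] p165).n x54 s165 = true := by decide +kernel
noncomputable def p166 : Pf := (.ext (nat_lit 0) (nat_lit 0) (nat_lit 0x1100040080020) (nat_lit 0x1002004008001001) (nat_lit 0x2003004008) (nat_lit 4097) (nat_lit 4108) (nat_lit 0xb004002001) (.dfs (nat_lit 1) (nat_lit 0x1002003004008) (nat_lit 0x100200300400b) (nat_lit 4097) (nat_lit 4097) (nat_lit 1) (nat_lit 0) (nat_lit 2) (nat_lit 0) (nat_lit 0) (nat_lit 12) (nat_lit 1) (nat_lit 0) (nat_lit 1) (nat_lit 0) (nat_lit 1) (nat_lit 0) .nil))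
theorem c166 : (chk [] [] p166).n x59 s166 = true := by decide +kernel
noncomputable def p167 : Pf := (.ext (nat_lit 0) (nat_lit 0) (nat_lit 0x1100040080020) (nat_lit 0x1002004008001001) (nat_lit 0x2003004008) (nat_lit 4097) (nat_lit 4108) (nat_lit 0xb004002001) (.dfs (nat_lit 1) (nat_lit 0x1002003004008) (nat_lit 0x100200300400b) (nat_lit 4097) (nat_lit 4097) (nat_lit 1) (nat_lit 0) (nat_lit 2) (nat_lit 0) (nat_lit 0) (nat_lit 12) (nat_lit 1) (nat_lit 0) (nat_lit 1) (nat_lit 0) (nat_lit 1) (nat_lit 0) .nil))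
theorem c167 : (chk [] [] p167).n x60 s167 = true := by decide +kernel
noncomputable def p168 : Pf := (.ext (nat_lit 0) (nat_lit 0) (nat_lit 0x1100040080020) (nat_lit 0x1002004008001001) (nat_lit 0x2003004008) (nat_lit 4097) (nat_lit 4108) (nat_lit 0xb004002001) (.dfs (nat_lit 1) (nat_lit 0x1002003004008) (nat_lit 0x100200300400b) (nat_lit 4097) (nat_lit 4097) (nat_lit 3) (nat_lit 0) (nat_lit 2) (nat_lit 0) (nat_lit 0) (nat_lit 12) (nat_lit 1) (nat_lit 0) (nat_lit 1) (nat_lit 0) (nat_lit 1) (nat_lit 0) .nil))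
theorem c168 : (chk [] [] p168).n x61 s168 = true := by decide +kernel
noncomputable def p169 : Pf := (.anz (nat_lit 128) (.iso x63 ⟨[([nat_lit 167, nat_lit 1, nat_lit 68, nat_lit 128, nat_lit 87, nat_lit 12], [nat_lit 189, nat_lit 167, nat_lit 196, nat_lit 68, nat_lit 87, nat_lit 12])], [], [], [], [], [], true, false, []⟩ (nat_lit 0) (nat_lit 0x1002080030008044110010005001) (nat_lit 0xc080057044004020087100001) [(nat_lit 0x20010008004002001001001)] (.syr (nat_lit 87) false (nat_lit 1) (nat_lit 1) (nat_lit 197) (nat_lit 0x104400c) (nat_lit 0x1100040020010008004002001) (nat_lit 0x1000c00200500080041520c5) (nat_lit 0x100000400100400400400500400600400700400002000102000202000402000602000002200102200202200302200402200702200007800307c0021b000213000702600113200613200713200405a00705a0070de00118e00718e) (nat_lit 0x101000000000000000000000500000010) (.cD (nat_lit 128) (.dfs (nat_lit 12) (nat_lit 1) (nat_lit 1) (nat_lit 4097) (nat_lit 4097) (nat_lit 0) (nat_lit 0) (nat_lit 0) (nat_lit 0) (nat_lit 0) (nat_lit 0) (nat_lit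 1) (nat_lit 0) (nat_lit 0x1100040010008004002001) (nat_lit 0x1000c00500080041520c5) (nat_lit 0x100000800100800400800500800001400101400201400301400501400601400001f00401f00501f0010b40060b40060340021b80041b80051b80001f80011f80021f80010540000d40060d40010630020630060630000df) (nat_lit 0x80100100) (.cD (nat_lit 8) (.kF (nat_lit 87) (nat_lit 0x91101000002001001002)) (.cD (nat_lit 20) (.czs (nat_lit 148) z20 (nat_lit 32) (.dfs (nat_lit 68) (nat_lit 4099) (nat_lit 4099) (nat_lit 0x1002001) (nat_lit 0x1002001) (nat_lit 0) (nat_lit 0) (nat_lit 3) (nat_lit 0) (nat_lit 0) (nat_lit 0) (nat_lit 1) (nat_lit 0) (nat_lit 0x1020058) (nat_lit 0x200d8) (nat_lit 0x100002000104f000078) (nat_lit 0x101000000000080000000000100000000) (.cD (nat_lit 32) (.kF (nat_lit 68) (nat_lit 0x50020020580d8000001002001003)) (.cD (nat_lit 79) (.kF (nat_lit 68) (nat_lit 0x5002002020020000001002001003)) (.cD (nat_lit 120) (.kF (nat_lit 68) (nat_lit 0x5002002020020000001002001003)) (.cD (nat_lit 128) (.kc (nat_lit 83) (nat_lit 0x5001001)) .nil)))))) (.cD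 (nat_lit 31) (.czp (nat_lit 159) (nat_lit 0x10020c0040000002) (nat_lit 0x1080140030008004013) z19 (.dfs (nat_lit 68) (nat_lit 4099) (nat_lit 4099) (nat_lit 0x1002001) (nat_lit 0x1002001) (nat_lit 0) (nat_lit 0) (nat_lit 3) (nat_lit 0) (nat_lit 0) (nat_lit 0) (nat_lit 1) (nat_lit 0) (nat_lit 0x1140030008084013) (nat_lit 0x1400b0008084013) (nat_lit 0x100300400400400301300401300405700015f00115f00215f004084004093) (nat_lit 0x8000000000000000000000000000000000000000000000000000000100000000008000000000000000080010) (.cD (nat_lit 4) (.kF (nat_lit 68) (nat_lit 0x50020020b0030000001002001003)) (.cD (nat_lit 19) (.kF (nat_lit 68) (nat_lit 0x50010000001003001022022000003)) (.cD (nat_lit 87) (.kF (nat_lit 68) (nat_lit 0x5002002140140000001002001003)) (.cD (nat_lit 128) (.kc (nat_lit 83) (nat_lit 0x5001001)) (.cD (nat_lit 351) (.kF (nat_lit 68) (nat_lit 0x5002002008008000001002001003)) .nil))))))) .nil)))) (.cD (nat_lit 4) (.anc (nat_lit 87) (nat_lit 0x1001001) (nat_lit 0x1080040120030008004012) (.kn (nat_lit 1) (nat_lit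 0x1080040120030008004012) false (nat_lit 0x1020010002001) (nat_lit 0x200501520c5) (nat_lit 0x1000004001004002004003004))) (.cD (nat_lit 32) (.anc (nat_lit 87) (nat_lit 0x1001001) (nat_lit 0x1080040120030008004012) (.kn (nat_lit 1) (nat_lit 0x1080040120030008004012) false (nat_lit 0x1010004002001) (nat_lit 0x500041520c5) (nat_lit 0x1000020001020002020003020))) (.cD (nat_lit 34) (.anc (nat_lit 87) (nat_lit 0x1001001) (nat_lit 0x1080040120030008004) (.kn (nat_lit 1) (nat_lit 0x1080040120030008004) false (nat_lit 0x1100010008004002001) (nat_lit 0x1000500080041520c5) (nat_lit 0x1000022001022002022003022004022005022005026001132))) (.cD (nat_lit 120) (.anc (nat_lit 128) (nat_lit 0x3d0041d01500000310031d0150000008003005) (nat_lit 0x1100080040020010008004002001) (.kn (nat_lit 1) (nat_lit 0x1100080040020010008004002001) false (nat_lit 4097) (nat_lit 197) (nat_lit 0x1000078))) .nil))))))))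
theorem c169 : (chk [] [g408] p169).n x62 s169 = true := by decide +kernel
noncomputable def p170 : Pf := (.anz (nat_lit 256) (.iso x65 ⟨[([nat_lit 258, nat_lit 16, nat_lit 930, nat_lit 412, nat_lit 832, nat_lit 32, nat_lit 8], [nat_lit 218, nat_lit 16, nat_lit 204, nat_lit 732, nat_lit 412, nat_lit 32, nat_lit 8])], [], [], [], [], [], true, false, []⟩ (nat_lit 0) (nat_lit 0x101501602004308000d200003001004) (nat_lit 0x834002019c0802e73170013a2002) [(nat_lit 0x40020010008004002001001001)] (.syr (nat_lit 743) false (nat_lit 1) (nat_lit 1) (nat_lit 1) (nat_lit 0x112f008) (nat_lit 0x1100080008004002001) (nat_lit 0x1000800081dc0e6001) (nat_lit 0x100002000004400104400304400504400004a00104a00204a00304a00404a00504a00006400106400306400506400006a00106a00206a00306a00406a00506a0011d80001f80010800020800002dc0013980023980033980020ae0040ae00030a0003ee0001920013e00023e00002fc0010f80020f80030f800208e00408e00032a0003ce0001b20022c00021a0) (nat_lit 0x10000000000000000000000000000000000000000000000000000000000000000000000000000000001000000010000000000000000000000000000000000000000000000000000000000000000000000000000000000000000000410000004100000000100000000)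 (.cD (nat_lit 832) (.dfs (nat_lit 8) (nat_lit 1) (nat_lit 1) (nat_lit 4097) (nat_lit 4097) (nat_lit 0) (nat_lit 0) (nat_lit 0) (nat_lit 0) (nat_lit 0) (nat_lit 0) (nat_lit 1) (nat_lit 0) (nat_lit 0x1200100080040010008004002001) (nat_lit 0x2001000800400300081dc0e6001) (nat_lit 0x100100100200100300100400100500100700100000800100800200800400800500800700800800800001800101800004000104000204000304000005200105200205200305200605200705200005c00105c00205c00305c00605c00705c0001c00011c000234100334100434100534100734100720b00820b0040c50070c500232c00332c00732c00832c00104c00204c00704c0080a80012800010b60020b60030b60060b60070b60020e00030e00031980003a00013a00011180021180031180020960060960003120003d600018a0012000022000032000021a40061a400018400033c0002c40013580062ea0023200020b8) (nat_lit 0x10000000000000000000000000000000000000000000000000000000000000000000000000000000000000000100400010000000001000102) (.cD (nat_lit 1) (.czp (nat_lit 1) (nat_lit 0x1002001) (nat_lit 0x13401500880cc022001) z22 (.dfs (nat_lit 303) (nat_lit 4097) (nat_lit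 4097) (nat_lit 4098) (nat_lit 4098) (nat_lit 0) (nat_lit 0) (nat_lit 3) (nat_lit 0) (nat_lit 0) (nat_lit 0) (nat_lit 1) (nat_lit 0) (nat_lit 0x121038c386) (nat_lit 0x1500cc362) (nat_lit 0x10000880020880001d9001114) (nat_lit 0x20000000000000000000000000000000000000000000000000000000000000000000000000000000000000000020000000000000000000000000000000000000000000000000000000000000000000000000000000000010000000000000000000000000000000002) (.cD (nat_lit 1) (.kc (nat_lit 423) (nat_lit 0x3001001)) (.cD (nat_lit 136) (.kF (nat_lit 303) (nat_lit 0x50020021d81d8000001002001003)) (.cD (nat_lit 473) (.kF (nat_lit 303) (nat_lit 0x50020020c6022000001002001003)) (.cD (nat_lit 833) (.kc (nat_lit 832) (nat_lit 0x7001001)) .nil)))))) (.cD (nat_lit 8) (.kF (nat_lit 623) (nat_lit 0x3001001001)) (.cD (nat_lit 24) (.kb (nat_lit 24) (nat_lit 0x1002001) (nat_lit 0x1200100080040020018004)) (.cD (nat_lit 64) (.kb (nat_lit 480) (nat_lit 0x1002001001000036004003) (nat_lit 0x1200100080040020018004)) (.cD (nat_lit 82) (.kb (nat_lit 448) (nat_lit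 0x10020020e6000016004003) (nat_lit 0x1200100080040020018004)) (.cD (nat_lit 92) (.kb (nat_lit 888) (nat_lit 0x10020020e6000052003003) (nat_lit 0x1200100080040020018004)) (.cD (nat_lit 448) (.kb (nat_lit 448) (nat_lit 0x1002001) (nat_lit 0x1200100080040020018004)) .nil)))))))) (.cD (nat_lit 32) (.dfs (nat_lit 8) (nat_lit 1) (nat_lit 1) (nat_lit 4097) (nat_lit 4097) (nat_lit 0) (nat_lit 0) (nat_lit 0) (nat_lit 0) (nat_lit 0) (nat_lit 0) (nat_lit 1) (nat_lit 0) (nat_lit 0x1200100080040010008004002) (nat_lit 0x2001000800400300081dc0e6) (nat_lit 0x100000800100800300800400800600800700800001800004000104000204000005200105200205200505200605200005c00105c00205c00505c00605c0000600010600020600000720010720020720050720060720000980010980020980001c00001e000035800004c00104c00204c00304c00604c00704c0070a80003e80010e00020e00021980003a00010960050960011a40051a40010c00020c00021b80003800010b60050b60011600021600023d80000b800630c) (nat_lit 0x10000000000000000000000000000000000000000000000000000000000000000000000000000000000000000000001000000010000000000000000000000000000000000000000000000000000000000000000000000000100000000040001100400010000000001000100)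 (.cD (nat_lit 8) (.kF (nat_lit 623) (nat_lit 0x3001001001)) (.cD (nat_lit 24) (.kb (nat_lit 24) (nat_lit 0x1002001) (nat_lit 0x1200100080040020018004)) (.cD (nat_lit 64) (.kb (nat_lit 480) (nat_lit 0x1002001001000036004003) (nat_lit 0x1200100080040020018004)) (.cD (nat_lit 82) (.kb (nat_lit 448) (nat_lit 0x10020020e6000016004003) (nat_lit 0x1200100080040020018004)) (.cD (nat_lit 92) (.kb (nat_lit 888) (nat_lit 0x10020020e6000052003003) (nat_lit 0x1200100080040020018004)) (.cD (nat_lit 96) (.kb (nat_lit 672) (nat_lit 0x10020033a700002d003003) (nat_lit 0x1200100080040020018004)) (.cD (nat_lit 114) (.kb (nat_lit 480) (nat_lit 0x10020020e6000036004003) (nat_lit 0x1200100080040020018004)) (.cD (nat_lit 152) (.kb (nat_lit 856) (nat_lit 0x100200100100007a004003) (nat_lit 0x1200100080040020018004)) (.cD (nat_lit 448) (.kb (nat_lit 448) (nat_lit 0x1002001) (nat_lit 0x1200100080040020018004)) (.cD (nat_lit 480) (.kb (nat_lit 480) (nat_lit 0x1002001) (nat_lit 0x1200100080040020018004)) (.cD (nat_lit 856) (.kb (nat_lit 856)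 (nat_lit 0x1002001) (nat_lit 0x1200100080040020018004)) .nil)))))))))))) (.cD (nat_lit 68) (.anc (nat_lit 832) (nat_lit 0x20e6000010003002) (nat_lit 0x1200100080040020010008004) (.kn (nat_lit 1) (nat_lit 0x1200100080040020010008004) false (nat_lit 0x1100008002001) (nat_lit 0x1000080e6001) (nat_lit 0x1000044001044002044003044))) (.cD (nat_lit 74) (.anc (nat_lit 804) (nat_lit 0x44004001) (nat_lit 0x1280340020210208044006) (.kn (nat_lit 1) (nat_lit 0x1280340020210208044006) false (nat_lit 0x1100080008004002001) (nat_lit 0x1000800081dc0e6001) (nat_lit 0x100004a00104a00204a00304a00404a00504a001398002398))) (.cD (nat_lit 100) (.anc (nat_lit 864) (nat_lit 0x20e6000030003002) (nat_lit 0x1200100080040020010008004) (.kn (nat_lit 1) (nat_lit 0x1200100080040020010008004) false (nat_lit 0x1100008002001) (nat_lit 0x1000080e6001) (nat_lit 0x1000064001064002064003064))) (.cD (nat_lit 106) (.anc (nat_lit 772) (nat_lit 0x64004001) (nat_lit 0x1280340020210208044006) (.kn (nat_lit 1) (nat_lit 0x1280340020210208044006) false (nat_lit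 0x1100080008004002001) (nat_lit 0x1000800081dc0e6001) (nat_lit 0x100006a00106a00206a00306a00406a00506a0010f80020f8))) (.cD (nat_lit 472) (.anc (nat_lit 832) (nat_lit 0x470040020e60000640040020e6000018004005) (nat_lit 0x1200100080040020010008004002001) (.kn (nat_lit 1) (nat_lit 0x1200100080040020010008004002001) false (nat_lit 4098) (nat_lit 230) (nat_lit 0x10001d8))) (.cD (nat_lit 504) (.dfs (nat_lit 8) (nat_lit 1) (nat_lit 1) (nat_lit 4097) (nat_lit 4097) (nat_lit 0) (nat_lit 0) (nat_lit 0) (nat_lit 0) (nat_lit 0) (nat_lit 0) (nat_lit 1) (nat_lit 0) (nat_lit 0x110008000400a003) (nat_lit 0x1000801dc34a3a7) (nat_lit 0x100001800003800004000104000204000005200105200305200405200005c00105c00305c00405c00007c00107c00307c00407c0000960010960030960040960000b60010b60030b60040b60001c00002a00012ea0032ea0042ea00230000132000232000018a0010b80020b80002c40013d80023d80002e40013800023800003d60010e00020e00003f6) (nat_lit 0x1000000000000000000000000000000000000000000000000000000010000000000000000000000000000000000000000000000000000000000000000004000000040000010000000100400010100000001000000)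 (.cD (nat_lit 24) (.kb (nat_lit 24) (nat_lit 0x1002001) (nat_lit 0x1200100080040020018004)) (.cD (nat_lit 56) (.kb (nat_lit 56) (nat_lit 0x1002001) (nat_lit 0x1200100080040020018004)) (.cD (nat_lit 64) (.kb (nat_lit 480) (nat_lit 0x1002001001000036004003) (nat_lit 0x1200100080040020018004)) (.cD (nat_lit 82) (.kb (nat_lit 448) (nat_lit 0x10020020e6000016004003) (nat_lit 0x1200100080040020018004)) (.cD (nat_lit 92) (.kb (nat_lit 888) (nat_lit 0x10020020e6000052003003) (nat_lit 0x1200100080040020018004)) (.cD (nat_lit 124) (.kb (nat_lit 856) (nat_lit 0x10020020e6000072003003) (nat_lit 0x1200100080040020018004)) (.cD (nat_lit 150) (.kb (nat_lit 448) (nat_lit 0x1002016004002) (nat_lit 0x1200100080040020018004)) (.cD (nat_lit 182) (.kb (nat_lit 480) (nat_lit 0x1002036004002) (nat_lit 0x1200100080040020018004)) (.cD (nat_lit 448) (.kb (nat_lit 448) (nat_lit 0x1002001) (nat_lit 0x1200100080040020018004)) (.cD (nat_lit 672) (.kb (nat_lit 672) (nat_lit 0x1002001) (nat_lit 0x1200100080040020018004)) .nil))))))))))) .nil)))))))))))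
theorem c170 : (chk [] [g414] p170).n x64 s170 = true := by decide +kernel
noncomputable def p171 : Pf := (.clm (.cut (nat_lit 0)) (.dfs (nat_lit 512) (nat_lit 1) (nat_lit 1) (nat_lit 1) (nat_lit 1) (nat_lit 0) (nat_lit 0) (nat_lit 0) (nat_lit 0) (nat_lit 0) (nat_lit 0) (nat_lit 1) (nat_lit 0) (nat_lit 0x1200040020010008004002001) (nat_lit 0x200040020010168004142339) (nat_lit 0x100000400100400300400500400600400001500201500301500401500601500701500002f00102f00202f00302f00402f00502f0000350020350040350000380010380020380040380000630020630030630040630060630070630000b50020b50040b50011040031040000c80020c80060c800116400516400616400322d00422d00622d00722d0031750003cd0013cd0043cd0053cd0010ef0020ef0030ef0050ef0001ef0021ef0051ef00623b00633b0013000023000033000022a00032a000428000321b00421b00621b00721b0033170001af0011af0041af0051af0021c80010640022400032400042400030b80033a0) (nat_lit 0x2000000000000000000008000000000120800000200010) (.cD (nat_lit 4) (.czp (nat_lit 4) (nat_lit 0x1002001) (nat_lit 0x11002c00e0018004061) z23 (.dfs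 (nat_lit 256) (nat_lit 4097) (nat_lit 4097) (nat_lit 1) (nat_lit 1) (nat_lit 0) (nat_lit 0) (nat_lit 3) (nat_lit 0) (nat_lit 0) (nat_lit 0) (nat_lit 0x1061018) (nat_lit 1) (nat_lit 1) (nat_lit 0) (nat_lit 1) (nat_lit 0x10000000000000000000000000000000000000000000000000000000000000000) (.cD (nat_lit 256) (.dfs (nat_lit 64) (nat_lit 4098) (nat_lit 4098) (nat_lit 4097) (nat_lit 4097) (nat_lit 0) (nat_lit 0) (nat_lit 3) (nat_lit 0) (nat_lit 0) (nat_lit 0) (nat_lit 1) (nat_lit 0) (nat_lit 0x12c0118081) (nat_lit 0x2c00183b9) (nat_lit 0x10002240022240002d80012c4) (nat_lit 0x100000000000000000000000000000000000000000000100000000000000000000000000000000000000000000000000000000000000000000000010000000000000000000000000000000000000000000000000000000000000000) (.cD (nat_lit 256) (.kc (nat_lit 320) (nat_lit 0x3001001)) (.cD (nat_lit 548) (.kF (nat_lit 64) (nat_lit 0x4a27e000001007001142002000003)) (.cD (nat_lit 728) (.dfs (nat_lit 128) (nat_lit 4100) (nat_lit 4100) (nat_lit 0x1002001) (nat_lit 0x1002001) (nat_lit 0) (nat_lit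 0) (nat_lit 3) (nat_lit 0) (nat_lit 0) (nat_lit 0) (nat_lit 1) (nat_lit 0) (nat_lit 1) (nat_lit 0) (nat_lit 1) (nat_lit 0x1000000000000000000000000000000000000000000000000000000000000000100000000000000000000000000000000000000000000000000000000000000000000000000000000000000000000000000000000000000000000010000000000000000000000000000000000000000000000000000000000000000) (.cD (nat_lit 256) (.kc (nat_lit 384) (nat_lit 0x5001001)) (.cD (nat_lit 728) (.kc (nat_lit 192) (nat_lit 0x3001001)) (.cD (nat_lit 984) (.kc (nat_lit 448) (nat_lit 0x7001001)) .nil)))) .nil)))) .nil))) (.cD (nat_lit 21) (.kb (nat_lit 909) (nat_lit 0x100200816800007a004003) (nat_lit 0x110008004002021800c202)) (.cD (nat_lit 47) (.kb (nat_lit 437) (nat_lit 0x1002001339000036004003) (nat_lit 0x110008004002021800c202)) (.cD (nat_lit 53) (.kb (nat_lit 53) (nat_lit 0x1002001) (nat_lit 0x110008004002021800c202)) (.cD (nat_lit 56) (.kin (nat_lit 1) (nat_lit 1)) (.cD (nat_lit 99) (.kb (nat_lit 181) (nat_lit 0x100200816800002e004003) (nat_lit 0x110008004002021800c202))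 (.cD (nat_lit 181) (.kb (nat_lit 181) (nat_lit 0x1002001) (nat_lit 0x110008004002021800c202)) .nil)))))))))
theorem c171 : (chk [(x64, s170)] [] p171).n x64 s171 = true := by decide +kernel

end Cfsg.Lib.D8.T1O
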