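import Cfsg.Agent.Lib.D8.CkZ
import Cfsg.Agent.Lib.D8.T.T1OC0
import Cfsg.Agent.Lib.D8.T.T1OC1
import Cfsg.Agent.Lib.D8.T.T1OC2
import Cfsg.Agent.Lib.D8.T.T1OC3
import Cfsg.Agent.Lib.D8.T.T1OC4
import Cfsg.Agent.Lib.D8.T.T1OC5
import Cfsg.Agent.Lib.D8.T.T1OC6
import Cfsg.Agent.Lib.D8.T.T1OC7
import Cfsg.Agent.Lib.D8.T.T1OC8
import Cfsg.Agent.Lib.D8.T.T1OC9
import Cfsg.Agent.Lib.D8.T.T1OC10
import Cfsg.Agent.Lib.D8.T.T1OC11

/-! The chain (generated, helper29). -/

set_option maxRecDepth 100000
set_option Elab.async false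

namespace Cfsg.Lib.D8.T1O

universe u

theorem k0 : TabOK.{u} g0 := .triv
theorem k1 : TabOK.{u} g1 := k0.ext ha0 hb1
theorem k2 : TabOK.{u} g2 := k1.ext ha1 hb2
theorem k3 : TabOK.{u} g3 := k2.ext ha2 hb3
theorem k4 : TabOK.{u} g4 := k3.ext ha3 hb4
theorem k5 : TabOK.{u} g5 := (k4.ext ha4 hb5).tb ht5
theorem k6 : TabOK.{u} g6 := (k5.ext ha5 hb6).tb ht6
theorem k7 : TabOK.{u} g7 := (k6.ext ha6 hb7).tb ht7
theorem k9 : TabOK.{u} g9 := k7.ext ha7 hb9
theorem k13 : TabOK.{u} g13 := k9.ext ha9 hb13
theorem k14 : TabOK.{u} g14 := k7.ext ha10 hb14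
theorem k15 : TabOK.{u} g15 := k14.ext ha11 hb15
theorem k16 : TabOK.{u} g16 := k14.ext ha11 hb16
theorem k17 : TabOK.{u} g17 := k7.ext ha10 hb17
theorem k18 : TabOK.{u} g18 := k17.ext ha12 hb18
theorem k19 : TabOK.{u} g19 := k17.ext ha12 hb19
theorem k29 : TabOK.{u} g29 := k7.ext ha17 hb29
theorem k31 : TabOK.{u} g31 := k29.ext ha18 hb31
theorem k32 : TabOK.{u} g32 := k7.ext ha19 hb32
theorem k33 : TabOK.{u} g33 := k32.ext ha20 hb33
theorem k34 : TabOK.{u} g34 := k32.ext ha20 hb34
theorem k43 : TabOK.{u} g43 := k7.ext ha19 hb43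
theorem k44 : TabOK.{u} g44 := k43.ext ha25 hb44
theorem k45 : TabOK.{u} g45 := k43.ext ha25 hb45
theorem k46 : TabOK.{u} g46 := (k6.ext ha26 hb46).tb ht46
theorem k48 : TabOK.{u} g48 := k46.ext ha27 hb48
theorem k50 : TabOK.{u} g50 := k48.ext ha28 hb50
theorem k51 : TabOK.{u} g51 := k2.ext ha2 hb51
theorem k52 : TabOK.{u} g52 := k51.ext ha29 hb52
theorem k53 : TabOK.{u} g53 := (k52.ext ha30 hb53).tb ht53
theorem k54 : TabOK.{u} g54 := k53.ext ha31 hb54
theorem k55 : TabOK.{u} g55 := k54.ext ha32 hb55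
theorem k56 : TabOK.{u} g56 := k55.ext ha33 hb56
theorem k57 : TabOK.{u} g57 := k56.ext ha34 hb57
theorem k59 : TabOK.{u} g59 := k46.ext ha35 hb59
theorem k60 : TabOK.{u} g60 := k59.ext ha36 hb60
theorem k61 : TabOK.{u} g61 := (k4.ext ha37 hb61).tb ht61
theorem k62 : TabOK.{u} g62 := k61.ext ha38 hb62
theorem k63 : TabOK.{u} g63 := k62.ext ha39 hb63
theorem k64 : TabOK.{u} g64 := k63.ext ha40 hb64
theorem k65 : TabOK.{u} g65 := k64.ext ha41 hb65
theorem k67 : TabOK.{u} g67 := k60.ext ha42 hb67
theorem k68 : TabOK.{u} g68 := k1.ext ha1 hb68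
theorem k69 : TabOK.{u} g69 := k68.ext ha43 hb69
theorem k70 : TabOK.{u} g70 := k69.ext ha44 hb70
theorem k71 : TabOK.{u} g71 := (k70.ext ha45 hb71).tb ht71
theorem k72 : TabOK.{u} g72 := k71.ext ha46 hb72
theorem k73 : TabOK.{u} g73 := k72.ext ha47 hb73
theorem k74 : TabOK.{u} g74 := k73.ext ha48 hb74
theorem k75 : TabOK.{u} g75 := k74.ext ha49 hb75
theorem k76 : TabOK.{u} g76 := k75.ext ha50 hb76
theorem k77 : TabOK.{u} g77 := k73.ext ha51 hb77
theorem k78 : TabOK.{u} g78 := k77.ext ha52 hb78
theorem k79 : TabOK.{u} g79 := k78.ext ha53 hb79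
theorem k87 : TabOK.{u} g87 := k59.ext ha57 hb87
theorem k88 : TabOK.{u} g88 := k2.ext ha58 hb88
theorem k89 : TabOK.{u} g89 := k88.ext ha59 hb89
theorem k90 : TabOK.{u} g90 := (k89.ext ha60 hb90).tb ht90
theorem k91 : TabOK.{u} g91 := k90.ext ha61 hb91
theorem k92 : TabOK.{u} g92 := k91.ext ha62 hb92
theorem k93 : TabOK.{u} g93 := k92.ext ha63 hb93
theorem k94 : TabOK.{u} g94 := k93.ext ha64 hb94
theorem k96 : TabOK.{u} g96 := k87.ext ha65 hb96
theorem k104 : TabOK.{u} g104 := k46.ext ha69 hb104
theorem k106 : TabOK.{u} g106 := k104.ext ha70 hb106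
theorem k107 : TabOK.{u} g107 := k51.ext ha71 hb107
theorem k108 : TabOK.{u} g108 := (k107.ext ha72 hb108).tb ht108
theorem k109 : TabOK.{u} g109 := (k108.ext ha73 hb109).tb ht109
theorem k110 : TabOK.{u} g110 := (k109.ext ha74 hb110).tb ht110
theorem k111 : TabOK.{u} g111 := k110.ext ha75 hb111
theorem k112 : TabOK.{u} g112 := k111.ext ha76 hb112
theorem k113 : TabOK.{u} g113 := k106.ext ha77 hb113
theorem k114 : TabOK.{u} g114 := k2.ext ha78 hb114
theorem k115 : TabOK.{u} g115 := k114.ext ha79 hb115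
theorem k116 : TabOK.{u} g116 := (k115.ext ha80 hb116).tb ht116
theorem k117 : TabOK.{u} g117 := (k116.ext ha81 hb117).tb ht117
theorem k118 : TabOK.{u} g118 := (k117.ext ha82 hb118).tb ht118
theorem k119 : TabOK.{u} g119 := k118.ext ha83 hb119
theorem k120 : TabOK.{u} g120 := k119.ext ha84 hb120
theorem k121 : TabOK.{u} g121 := k120.ext ha85 hb121
theorem k122 : TabOK.{u} g122 := k113.ext ha86 hb122
theorem k123 : TabOK.{u} g123 := (k4.ext ha87 hb123).tb ht123
theorem k124 : TabOK.{u} g124 := k123.ext ha88 hb124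
theorem k125 : TabOK.{u} g125 := k124.ext ha89 hb125
theorem k126 : TabOK.{u} g126 := k125.ext ha90 hb126
theorem k127 : TabOK.{u} g127 := k126.ext ha91 hb127
theorem k128 : TabOK.{u} g128 := k127.ext ha92 hb128
theorem k129 : TabOK.{u} g129 := k128.ext ha93 hb129
theorem k130 : TabOK.{u} g130 := k2.ext ha58 hb130
theorem k131 : TabOK.{u} g131 := k130.ext ha94 hb131
theorem k132 : TabOK.{u} g132 := (k131.ext ha95 hb132).tb ht132
theorem k133 : TabOK.{u} g133 := (k132.ext ha96 hb133).tb ht133
theorem k134 : TabOK.{u} g134 := k133.ext ha97 hb134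
theorem k135 : TabOK.{u} g135 := k134.ext ha98 hb135
theorem k136 : TabOK.{u} g136 := k135.ext ha99 hb136
theorem k137 : TabOK.{u} g137 := k136.ext ha100 hb137
theorem k138 : TabOK.{u} g138 := k137.ext ha101 hb138
theorem k139 : TabOK.{u} g139 := k113.ext ha86 hb139
theorem k140 : TabOK.{u} g140 := k113.ext ha102 hb140
theorem k141 : TabOK.{u} g141 := k113.ext ha102 hb141
theorem k146 : TabOK.{u} g146 := (k123.ext ha105 hb146).tb ht146
theorem k147 : TabOK.{u} g147 := (k146.ext ha106 hb147).tb ht147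
theorem k148 : TabOK.{u} g148 := k147.ext ha107 hb148
theorem k149 : TabOK.{u} g149 := k148.ext ha108 hb149
theorem k150 : TabOK.{u} g150 := k149.ext ha109 hb150
theorem k151 : TabOK.{u} g151 := k150.ext ha110 hb151
theorem k152 : TabOK.{u} g152 := (k4.ext ha111 hb152).tb ht152
theorem k153 : TabOK.{u} g153 := k152.ext ha112 hb153
theorem k154 : TabOK.{u} g154 := k153.ext ha113 hb154
theorem k155 : TabOK.{u} g155 := k154.ext ha114 hb155
theorem k156 : TabOK.{u} g156 := k155.ext ha115 hb156
theorem k157 : TabOK.{u} g157 := k156.ext ha116 hb157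
theorem k158 : TabOK.{u} g158 := k157.ext ha117 hb158
theorem k159 : TabOK.{u} g159 := k106.ext ha77 hb159
theorem k160 : TabOK.{u} g160 := k119.ext ha84 hb160
theorem k161 : TabOK.{u} g161 := k160.ext ha118 hb161
theorem k162 : TabOK.{u} g162 := k159.ext ha119 hb162
theorem k163 : TabOK.{u} g163 := k159.ext ha119 hb163
theorem k164 : TabOK.{u} g164 := k159.ext ha120 hb164
theorem k165 : TabOK.{u} g165 := k159.ext ha120 hb165
theorem k170 : TabOK.{u} g170 := k106.ext ha123 hb170
theorem k171 : TabOK.{u} g171 := k119.ext ha124 hb171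
theorem k172 : TabOK.{u} g172 := k171.ext ha125 hb172
theorem k173 : TabOK.{u} g173 := k170.ext ha126 hb173
theorem k174 : TabOK.{u} g174 := k170.ext ha126 hb174
theorem k175 : TabOK.{u} g175 := k170.ext ha127 hb175
theorem k176 : TabOK.{u} g176 := k170.ext ha127 hb176
theorem k181 : TabOK.{u} g181 := k106.ext ha123 hb181
theorem k182 : TabOK.{u} g182 := k119.ext ha124 hb182
theorem k183 : TabOK.{u} g183 := k182.ext ha130 hb183
theorem k184 : TabOK.{u} g184 := k181.ext ha131 hb184
theorem k185 : TabOK.{u} g185 := k181.ext ha131 hb185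
theorem k186 : TabOK.{u} g186 := k181.ext ha132 hb186
theorem k187 : TabOK.{u} g187 := k181.ext ha132 hb187
theorem k192 : TabOK.{u} g192 := k106.ext ha135 hb192
theorem k193 : TabOK.{u} g193 := k119.ext ha136 hb193
theorem k194 : TabOK.{u} g194 := k193.ext ha137 hb194
theorem k195 : TabOK.{u} g195 := k192.ext ha138 hb195
theorem k196 : TabOK.{u} g196 := k192.ext ha138 hb196
theorem k197 : TabOK.{u} g197 := k192.ext ha139 hb197
theorem k198 : TabOK.{u} g198 := k192.ext ha139 hb198
theorem k203 : TabOK.{u} g203 := k106.ext ha135 hb203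
theorem k204 : TabOK.{u} g204 := (k4.ext ha142 hb204).tb ht204
theorem k205 : TabOK.{u} g205 := (k204.ext ha143 hb205).tb ht205
theorem k206 : TabOK.{u} g206 := k205.ext ha144 hb206
theorem k207 : TabOK.{u} g207 := k206.ext ha145 hb207
theorem k208 : TabOK.{u} g208 := k207.ext ha146 hb208
theorem k209 : TabOK.{u} g209 := k208.ext ha147 hb209
theorem k210 : TabOK.{u} g210 := k203.ext ha148 hb210
theorem k211 : TabOK.{u} g211 := k203.ext ha148 hb211
theorem k212 : TabOK.{u} g212 := k203.ext ha149 hb212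
theorem k213 : TabOK.{u} g213 := k203.ext ha149 hb213
theorem k218 : TabOK.{u} g218 := k106.ext ha152 hb218
theorem k219 : TabOK.{u} g219 := k130.ext ha153 hb219
theorem k220 : TabOK.{u} g220 := (k219.ext ha154 hb220).tb ht220
theorem k221 : TabOK.{u} g221 := (k220.ext ha155 hb221).tb ht221
theorem k222 : TabOK.{u} g222 := k221.ext ha156 hb222
theorem k223 : TabOK.{u} g223 := k222.ext ha157 hb223
theorem k224 : TabOK.{u} g224 := k223.ext ha158 hb224
theorem k225 : TabOK.{u} g225 := k224.ext ha159 hb225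
theorem k226 : TabOK.{u} g226 := k218.ext ha160 hb226
theorem k227 : TabOK.{u} g227 := k218.ext ha160 hb227
theorem k228 : TabOK.{u} g228 := k218.ext ha161 hb228
theorem k229 : TabOK.{u} g229 := k218.ext ha161 hb229
theorem k234 : TabOK.{u} g234 := k106.ext ha152 hb234
theorem k235 : TabOK.{u} g235 := k119.ext ha164 hb235
theorem k236 : TabOK.{u} g236 := k235.ext ha165 hb236
theorem k237 : TabOK.{u} g237 := k234.ext ha166 hb237
theorem k238 : TabOK.{u} g238 := k234.ext ha166 hb238
theorem k239 : TabOK.{u} g239 := k234.ext ha167 hb239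
theorem k240 : TabOK.{u} g240 := k234.ext ha167 hb240
theorem k246 : TabOK.{u} g246 := k106.ext ha170 hb246
theorem k247 : TabOK.{u} g247 := (k4.ext ha171 hb247).tb ht247
theorem k248 : TabOK.{u} g248 := (k247.ext ha172 hb248).tb ht248
theorem k249 : TabOK.{u} g249 := (k248.ext ha173 hb249).tb ht249
theorem k250 : TabOK.{u} g250 := k249.ext ha174 hb250
theorem k251 : TabOK.{u} g251 := k250.ext ha175 hb251
theorem k252 : TabOK.{u} g252 := k251.ext ha176 hb252
theorem k282 : TabOK.{u} g282 := k3.ext ha192 hb282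
theorem k283 : TabOK.{u} g283 := (k282.ext ha193 hb283).tb ht283
theorem k284 : TabOK.{u} g284 := (k283.ext ha194 hb284).tb ht284
theorem k285 : TabOK.{u} g285 := (k284.ext ha195 hb285).tb ht285
theorem k286 : TabOK.{u} g286 := k285.ext ha196 hb286
theorem k287 : TabOK.{u} g287 := k286.ext ha197 hb287
theorem k288 : TabOK.{u} g288 := k287.ext ha198 hb288
theorem k298 : TabOK.{u} g298 := k110.ext ha203 hb298
theorem k299 : TabOK.{u} g299 := k298.ext ha204 hb299
theorem k300 : TabOK.{u} g300 := k299.ext ha205 hb300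
theorem k310 : TabOK.{u} g310 := k110.ext ha203 hb310
theorem k311 : TabOK.{u} g311 := k310.ext ha211 hb311
theorem k312 : TabOK.{u} g312 := k311.ext ha212 hb312
theorem k322 : TabOK.{u} g322 := k286.ext ha217 hb322
theorem k323 : TabOK.{u} g323 := k322.ext ha218 hb323
theorem k333 : TabOK.{u} g333 := k287.ext ha224 hb333
theorem k343 : TabOK.{u} g343 := k299.ext ha229 hb343
theorem k353 : TabOK.{u} g353 := k311.ext ha235 hb353
theorem k363 : TabOK.{u} g363 := k322.ext ha240 hb363
theorem k380 : TabOK.{u} g380 := k46.ext ha69 hb380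
theorem k382 : TabOK.{u} g382 := k380.ext ha249 hb382
theorem k383 : TabOK.{u} g383 := k109.ext ha250 hb383
theorem k384 : TabOK.{u} g384 := k383.ext ha251 hb384
theorem k385 : TabOK.{u} g385 := k384.ext ha252 hb385
theorem k386 : TabOK.{u} g386 := k382.ext ha253 hb386
theorem k387 : TabOK.{u} g387 := (k123.ext ha254 hb387).tb ht387
theorem k388 : TabOK.{u} g388 := k387.ext ha255 hb388
theorem k389 : TabOK.{u} g389 := k388.ext ha256 hb389
theorem k390 : TabOK.{u} g390 := k389.ext ha257 hb390
theorem k391 : TabOK.{u} g391 := k390.ext ha258 hb391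
theorem k401 : TabOK.{u} g401 := k46.ext ha263 hb401
theorem k403 : TabOK.{u} g403 := k401.ext ha264 hb403
theorem k404 : TabOK.{u} g404 := (k131.ext ha265 hb404).tb ht404
theorem k405 : TabOK.{u} g405 := k404.ext ha266 hb405
theorem k406 : TabOK.{u} g406 := k405.ext ha267 hb406
theorem k407 : TabOK.{u} g407 := k406.ext ha268 hb407
theorem k408 : TabOK.{u} g408 := k407.ext ha269 hb408
theorem k409 : TabOK.{u} g409 := k403.ext ha270 hb409
theorem k410 : TabOK.{u} g410 := (k123.ext ha271 hb410).tb ht410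
theorem k411 : TabOK.{u} g411 := k410.ext ha272 hb411
theorem k412 : TabOK.{u} g412 := k411.ext ha273 hb412
theorem k413 : TabOK.{u} g413 := k412.ext ha274 hb413
theorem k414 : TabOK.{u} g414 := k413.ext ha275 hb414
theorem k424 : TabOK.{u} g424 := k46.ext ha263 hb424
theorem k426 : TabOK.{u} g426 := k424.ext ha280 hb426
theorem k427 : TabOK.{u} g427 := k3.ext ha192 hb427
theorem k428 : TabOK.{u} g428 := (k427.ext ha281 hb428).tb ht428
theorem k429 : TabOK.{u} g429 := k428.ext ha282 hb429
theorem k430 : TabOK.{u} g430 := k429.ext ha283 hb430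
theorem k431 : TabOK.{u} g431 := k430.ext ha284 hb431
theorem k432 : TabOK.{u} g432 := k431.ext ha285 hb432
theorem k434 : TabOK.{u} g434 := k426.ext ha286 hb434
theorem k435 : TabOK.{u} g435 := (k123.ext ha287 hb435).tb ht435
theorem k436 : TabOK.{u} g436 := (k435.ext ha288 hb436).tb ht436
theorem k437 : TabOK.{u} g437 := k436.ext ha289 hb437
theorem k438 : TabOK.{u} g438 := k437.ext ha290 hb438
theorem k439 : TabOK.{u} g439 := k438.ext ha291 hb439
theorem k448 : TabOK.{u} g448 := k6.ext ha296 hb448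
theorem k449 : TabOK.{u} g449 := k448.ext ha297 hb449
theorem k450 : TabOK.{u} g450 := k449.ext ha298 hb450
theorem k451 : TabOK.{u} g451 := k449.ext ha298 hb451
theorem v0 : Valid.{u} x0 s0 := chk_ok .nil .nil c0
theorem v1 : Valid.{u} x1 s1 := chk_ok .nil .nil c1
theorem v2 : Valid.{u} x2 s2 := chk_ok .nil .nil c2
theorem v3 : Valid.{u} x3 s3 := chk_ok .nil .nil c3
theorem v4 : Valid.{u} x4 s4 := chk_ok .nil .nil c4
theorem v5 : Valid.{u} x5 s5 := chk_ok .nil .nil c5
theorem v6 : Valid.{u} x6 s6 := chk_ok .nil .nil c6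
theorem v7 : Valid.{u} x2 s7 := chk_ok (.cons v3 (.cons v4 (.cons v5 (.cons v6 .nil)))) (.cons k450 .nil) c7
theorem v8 : Valid.{u} x2 s8 := chk_ok (.cons v7 .nil) .nil c8
theorem v9 : Valid.{u} x2 s9 := chk_ok (.cons v2 (.cons v8 .nil)) (.cons k449 .nil) c9
theorem v10 : Valid.{u} x2 s10 := chk_ok (.cons v9 .nil) .nil c10
theorem v11 : Valid.{u} x2 s11 := chk_ok (.cons v10 .nil) .nil c11
theorem v12 : Valid.{u} x6 s12 := chk_ok (.cons v6 .nil) .nil c12
theorem v13 : Valid.{u} x7 s13 := chk_ok .nil .nil c13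
theorem v14 : Valid.{u} x8 s14 := chk_ok .nil .nil c14
theorem v15 : Valid.{u} x8 s15 := chk_ok (.cons v14 .nil) .nil c15
theorem v16 : Valid.{u} x8 s16 := chk_ok (.cons v15 .nil) (.cons k451 .nil) c16
theorem v17 : Valid.{u} x8 s17 := chk_ok (.cons v16 .nil) .nil c17
theorem v18 : Valid.{u} x9 s18 := chk_ok .nil .nil c18
theorem v19 : Valid.{u} x2 s19 := chk_ok (.cons v12 (.cons v13 (.cons v17 (.cons v18 .nil)))) .nil c19
theorem v20 : Valid.{u} x2 s20 := chk_ok (.cons v19 .nil) .nil c20
theorem v21 : Valid.{u} x2 s21 := chk_ok (.cons v20 (.cons v2 .nil)) .nil c21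
theorem v22 : Valid.{u} x2 s22 := chk_ok (.cons v21 .nil) .nil c22
theorem v23 : Valid.{u} x2 s23 := chk_ok (.cons v22 .nil) .nil c23
theorem v24 : Valid.{u} x2 s24 := chk_ok (.cons v11 (.cons v23 .nil)) .nil c24
theorem v25 : Valid.{u} x2 s25 := chk_ok (.cons v24 .nil) (.cons k449 .nil) c25
theorem v26 : Valid.{u} x10 s26 := chk_ok .nil .nil c26
theorem v27 : Valid.{u} x11 s27 := chk_ok .nil .nil c27
theorem v28 : Valid.{u} x12 s28 := chk_ok .nil .nil c28
theorem v29 : Valid.{u} x1 s29 := chk_ok (.cons v25 (.cons v26 (.cons v27 (.cons v28 .nil)))) .nil c29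
theorem v30 : Valid.{u} x1 s30 := chk_ok (.cons v29 .nil) .nil c30
theorem v31 : Valid.{u} x1 s31 := chk_ok (.cons v1 (.cons v30 .nil)) .nil c31
theorem v32 : Valid.{u} x1 s32 := chk_ok (.cons v31 .nil) .nil c32
theorem v33 : Valid.{u} x1 s33 := chk_ok (.cons v32 .nil) .nil c33
theorem v34 : Valid.{u} x14 s34 := chk_ok .nil .nil c34
theorem v35 : Valid.{u} x15 s35 := chk_ok .nil .nil c35
theorem v36 : Valid.{u} x16 s36 := chk_ok .nil .nil c36
theorem v37 : Valid.{u} x17 s37 := chk_ok .nil .nil c37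
theorem v38 : Valid.{u} x13 s38 := chk_ok (.cons v34 (.cons v35 (.cons v36 (.cons v37 .nil)))) .nil c38
theorem v39 : Valid.{u} x13 s39 := chk_ok (.cons v38 .nil) .nil c39
theorem v40 : Valid.{u} x13 s40 := chk_ok .nil .nil c40
theorem v41 : Valid.{u} x13 s41 := chk_ok (.cons v39 (.cons v40 .nil)) .nil c41
theorem v42 : Valid.{u} x13 s42 := chk_ok (.cons v41 .nil) .nil c42
theorem v43 : Valid.{u} x13 s43 := chk_ok (.cons v42 .nil) .nil c43
theorem v44 : Valid.{u} x19 s44 := chk_ok .nil .nil c44
theorem v45 : Valid.{u} x20 s45 := chk_ok .nil .nil c45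
theorem v46 : Valid.{u} x21 s46 := chk_ok .nil .nil c46
theorem v47 : Valid.{u} x21 s47 := chk_ok (.cons v46 .nil) .nil c47
theorem v48 : Valid.{u} x22 s48 := chk_ok .nil .nil c48
theorem v49 : Valid.{u} x23 s49 := chk_ok .nil (.cons k94 .nil) c49
theorem v50 : Valid.{u} x25 s50 := chk_ok .nil .nil c50
theorem v51 : Valid.{u} x26 s51 := chk_ok .nil .nil c51
theorem v52 : Valid.{u} x27 s52 := chk_ok .nil .nil c52
theorem v53 : Valid.{u} x27 s53 := chk_ok (.cons v52 .nil) .nil c53
theorem v54 : Valid.{u} x27 s54 := chk_ok (.cons v53 .nil) .nil c54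
theorem v55 : Valid.{u} x27 s55 := chk_ok (.cons v54 .nil) .nil c55
theorem v56 : Valid.{u} x27 s56 := chk_ok (.cons v55 .nil) .nil c56
theorem v57 : Valid.{u} x27 s57 := chk_ok .nil .nil c57
theorem v58 : Valid.{u} x27 s58 := chk_ok (.cons v57 .nil) .nil c58
theorem v59 : Valid.{u} x27 s59 := chk_ok (.cons v58 .nil) .nil c59
theorem v60 : Valid.{u} x27 s60 := chk_ok (.cons v56 (.cons v59 .nil)) .nil c60
theorem v61 : Valid.{u} x27 s61 := chk_ok (.cons v60 .nil) .nil c61
theorem v62 : Valid.{u} x27 s62 := chk_ok (.cons v61 .nil) (.cons k96 .nil) c62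
theorem v63 : Valid.{u} x27 s63 := chk_ok (.cons v62 .nil) .nil c63
theorem v64 : Valid.{u} x27 s64 := chk_ok (.cons v63 .nil) .nil c64
theorem v65 : Valid.{u} x28 s65 := chk_ok .nil .nil c65
theorem v66 : Valid.{u} x28 s66 := chk_ok (.cons v65 .nil) .nil c66
theorem v67 : Valid.{u} x28 s67 := chk_ok (.cons v66 .nil) .nil c67
theorem v68 : Valid.{u} x28 s68 := chk_ok (.cons v67 .nil) .nil c68
theorem v69 : Valid.{u} x28 s69 := chk_ok (.cons v68 .nil) .nil c69
theorem v70 : Valid.{u} x28 s70 := chk_ok .nil .nil c70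
theorem v71 : Valid.{u} x28 s71 := chk_ok (.cons v70 .nil) .nil c71
theorem v72 : Valid.{u} x28 s72 := chk_ok (.cons v71 .nil) .nil c72
theorem v73 : Valid.{u} x28 s73 := chk_ok (.cons v69 (.cons v72 .nil)) .nil c73
theorem v74 : Valid.{u} x28 s74 := chk_ok (.cons v73 .nil) .nil c74
theorem v75 : Valid.{u} x28 s75 := chk_ok (.cons v74 .nil) (.cons k96 .nil) c75
theorem v76 : Valid.{u} x28 s76 := chk_ok (.cons v75 .nil) .nil c76
theorem v77 : Valid.{u} x28 s77 := chk_ok (.cons v76 .nil) .nil c77
theorem v78 : Valid.{u} x23 s78 := chk_ok (.cons v49 (.cons v50 (.cons v51 (.cons v64 (.cons v77 .nil))))) .nil c78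
theorem v79 : Valid.{u} x23 s79 := chk_ok (.cons v78 .nil) .nil c79
theorem v80 : Valid.{u} x23 s80 := chk_ok (.cons v79 .nil) .nil c80
theorem v81 : Valid.{u} x23 s81 := chk_ok (.cons v80 .nil) (.cons k87 .nil) c81
theorem v82 : Valid.{u} x29 s82 := chk_ok .nil .nil c82
theorem v83 : Valid.{u} x30 s83 := chk_ok .nil .nil c83
theorem v84 : Valid.{u} x21 s84 := chk_ok (.cons v48 (.cons v81 (.cons v82 (.cons v83 .nil)))) .nil c84
theorem v85 : Valid.{u} x21 s85 := chk_ok (.cons v84 .nil) .nil c85
theorem v86 : Valid.{u} x21 s86 := chk_ok (.cons v85 .nil) .nil c86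
theorem v87 : Valid.{u} x21 s87 := chk_ok (.cons v86 .nil) .nil c87
theorem v88 : Valid.{u} x31 s88 := chk_ok .nil .nil c88
theorem v89 : Valid.{u} x31 s89 := chk_ok .nil (.cons k65 .nil) c89
theorem v90 : Valid.{u} x33 s90 := chk_ok .nil .nil c90
theorem v91 : Valid.{u} x34 s91 := chk_ok .nil .nil c91
theorem v92 : Valid.{u} x35 s92 := chk_ok .nil (.cons k76 .nil) c92
theorem v93 : Valid.{u} x35 s93 := chk_ok (.cons v92 .nil) .nil c93
theorem v94 : Valid.{u} x35 s94 := chk_ok (.cons v93 .nil) .nil c94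
theorem v95 : Valid.{u} x35 s95 := chk_ok (.cons v94 .nil) .nil c95
theorem v96 : Valid.{u} x35 s96 := chk_ok (.cons v95 .nil) .nil c96
theorem v97 : Valid.{u} x35 s97 := chk_ok (.cons v96 .nil) (.cons k67 .nil) c97
theorem v98 : Valid.{u} x35 s98 := chk_ok (.cons v97 .nil) .nil c98
theorem v99 : Valid.{u} x35 s99 := chk_ok (.cons v98 .nil) (.cons k67 .nil) c99
theorem v100 : Valid.{u} x35 s100 := chk_ok (.cons v99 .nil) .nil c100
theorem v101 : Valid.{u} x35 s101 := chk_ok (.cons v100 .nil) .nil c101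
theorem v102 : Valid.{u} x37 s102 := chk_ok .nil (.cons k79 .nil) c102
theorem v103 : Valid.{u} x37 s103 := chk_ok (.cons v102 .nil) .nil c103
theorem v104 : Valid.{u} x37 s104 := chk_ok (.cons v103 .nil) .nil c104
theorem v105 : Valid.{u} x37 s105 := chk_ok (.cons v104 .nil) .nil c105
theorem v106 : Valid.{u} x37 s106 := chk_ok (.cons v105 .nil) .nil c106
theorem v107 : Valid.{u} x37 s107 := chk_ok (.cons v106 .nil) (.cons k67 .nil) c107
theorem v108 : Valid.{u} x37 s108 := chk_ok (.cons v107 .nil) .nil c108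
theorem v109 : Valid.{u} x37 s109 := chk_ok (.cons v108 .nil) (.cons k67 .nil) c109
theorem v110 : Valid.{u} x37 s110 := chk_ok (.cons v109 .nil) .nil c110
theorem v111 : Valid.{u} x37 s111 := chk_ok (.cons v110 .nil) .nil c111
theorem v112 : Valid.{u} x31 s112 := chk_ok (.cons v89 (.cons v90 (.cons v91 (.cons v101 (.cons v111 .nil))))) .nil c112
theorem v113 : Valid.{u} x31 s113 := chk_ok (.cons v112 .nil) .nil c113
theorem v114 : Valid.{u} x31 s114 := chk_ok (.cons v88 (.cons v113 .nil)) .nil c114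
theorem v115 : Valid.{u} x31 s115 := chk_ok (.cons v114 .nil) .nil c115
theorem v116 : Valid.{u} x31 s116 := chk_ok (.cons v115 .nil) (.cons k60 .nil) c116
theorem v117 : Valid.{u} x39 s117 := chk_ok .nil .nil c117
theorem v118 : Valid.{u} x40 s118 := chk_ok .nil .nil c118
theorem v119 : Valid.{u} x41 s119 := chk_ok .nil .nil c119
theorem v120 : Valid.{u} x21 s120 := chk_ok (.cons v116 (.cons v117 (.cons v118 (.cons v119 .nil)))) .nil c120
theorem v121 : Valid.{u} x21 s121 := chk_ok (.cons v120 .nil) .nil c121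
theorem v122 : Valid.{u} x21 s122 := chk_ok (.cons v121 .nil) .nil c122
theorem v123 : Valid.{u} x21 s123 := chk_ok (.cons v122 .nil) .nil c123
theorem v124 : Valid.{u} x21 s124 := chk_ok (.cons v87 (.cons v123 .nil)) .nil c124
theorem v125 : Valid.{u} x21 s125 := chk_ok (.cons v124 .nil) .nil c125
theorem v126 : Valid.{u} x21 s126 := chk_ok (.cons v47 (.cons v125 .nil)) (.cons k59 .nil) c126
theorem v127 : Valid.{u} x21 s127 := chk_ok (.cons v126 .nil) .nil c127
theorem v128 : Valid.{u} x42 s128 := chk_ok .nil .nil c128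
theorem v129 : Valid.{u} x18 s129 := chk_ok (.cons v44 (.cons v45 (.cons v127 (.cons v128 .nil)))) .nil c129
theorem v130 : Valid.{u} x18 s130 := chk_ok (.cons v129 .nil) .nil c130
theorem v131 : Valid.{u} x18 s131 := chk_ok (.cons v130 .nil) .nil c131
theorem v132 : Valid.{u} x43 s132 := chk_ok .nil .nil c132
theorem v133 : Valid.{u} x44 s133 := chk_ok .nil .nil c133
theorem v134 : Valid.{u} x45 s134 := chk_ok .nil .nil c134
theorem v135 : Valid.{u} x45 s135 := chk_ok (.cons v134 .nil) .nil c135
theorem v136 : Valid.{u} x46 s136 := chk_ok .nil .nil c136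
theorem v137 : Valid.{u} x47 s137 := chk_ok .nil .nil c137
theorem v138 : Valid.{u} x48 s138 := chk_ok .nil .nil c138
theorem v139 : Valid.{u} x49 s139 := chk_ok .nil .nil c139
theorem v140 : Valid.{u} x49 s140 := chk_ok .nil (.cons k57 .nil) c140
theorem v141 : Valid.{u} x49 s141 := chk_ok (.cons v140 .nil) .nil c141
theorem v142 : Valid.{u} x49 s142 := chk_ok (.cons v141 .nil) .nil c142
theorem v143 : Valid.{u} x49 s143 := chk_ok (.cons v139 (.cons v142 .nil)) .nil c143
theorem v144 : Valid.{u} x49 s144 := chk_ok (.cons v143 .nil) .nil c144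
theorem v145 : Valid.{u} x49 s145 := chk_ok (.cons v144 .nil) (.cons k50 .nil) c145
theorem v146 : Valid.{u} x45 s146 := chk_ok (.cons v136 (.cons v137 (.cons v138 (.cons v145 .nil)))) .nil c146
theorem v147 : Valid.{u} x45 s147 := chk_ok (.cons v146 .nil) .nil c147
theorem v148 : Valid.{u} x45 s148 := chk_ok (.cons v147 .nil) .nil c148
theorem v149 : Valid.{u} x45 s149 := chk_ok (.cons v148 .nil) .nil c149
theorem v150 : Valid.{u} x45 s150 := chk_ok (.cons v149 .nil) .nil c150
theorem v151 : Valid.{u} x45 s151 := chk_ok (.cons v150 .nil) .nil c151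
theorem v152 : Valid.{u} x45 s152 := chk_ok (.cons v135 (.cons v151 .nil)) (.cons k48 .nil) c152
theorem v153 : Valid.{u} x45 s153 := chk_ok (.cons v152 .nil) .nil c153
theorem v154 : Valid.{u} x51 s154 := chk_ok .nil .nil c154
theorem v155 : Valid.{u} x18 s155 := chk_ok (.cons v132 (.cons v133 (.cons v153 (.cons v154 .nil)))) .nil c155
theorem v156 : Valid.{u} x18 s156 := chk_ok (.cons v155 .nil) .nil c156
theorem v157 : Valid.{u} x18 s157 := chk_ok (.cons v156 .nil) .nil c157
theorem v158 : Valid.{u} x18 s158 := chk_ok (.cons v131 (.cons v157 .nil)) .nil c158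
theorem v159 : Valid.{u} x53 s159 := chk_ok .nil .nil c159
theorem v160 : Valid.{u} x53 s160 := chk_ok (.cons v159 .nil) .nil c160
theorem v161 : Valid.{u} x55 s161 := chk_ok .nil .nil c161
theorem v162 : Valid.{u} x56 s162 := chk_ok .nil .nil c162
theorem v163 : Valid.{u} x57 s163 := chk_ok .nil .nil c163
theorem v164 : Valid.{u} x58 s164 := chk_ok .nil .nil c164
theorem v165 : Valid.{u} x54 s165 := chk_ok (.cons v161 (.cons v162 (.cons v163 (.cons v164 .nil)))) .nil c165
theorem v166 : Valid.{u} x59 s166 := chk_ok .nil .nil c166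
theorem v167 : Valid.{u} x60 s167 := chk_ok .nil .nil c167
theorem v168 : Valid.{u} x61 s168 := chk_ok .nil .nil c168
theorem v169 : Valid.{u} x62 s169 := chk_ok .nil (.cons k408 .nil) c169
theorem v170 : Valid.{u} x64 s170 := chk_ok .nil (.cons k414 .nil) c170
theorem v171 : Valid.{u} x64 s171 := chk_ok (.cons v170 .nil) .nil c171
theorem v172 : Valid.{u} x64 s172 := chk_ok (.cons v171 .nil) (.cons k409 .nil) c172
theorem v173 : Valid.{u} x66 s173 := chk_ok .nil (.cons k414 .nil) c173
theorem v174 : Valid.{u} x66 s174 := chk_ok (.cons v173 .nil) .nil c174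
theorem v175 : Valid.{u} x66 s175 := chk_ok (.cons v174 .nil) (.cons k409 .nil) c175
theorem v176 : Valid.{u} x68 s176 := chk_ok .nil .nil c176
theorem v177 : Valid.{u} x69 s177 := chk_ok .nil .nil c177
theorem v178 : Valid.{u} x62 s178 := chk_ok (.cons v169 (.cons v172 (.cons v175 (.cons v176 (.cons v177 .nil))))) .nil c178
theorem v179 : Valid.{u} x62 s179 := chk_ok (.cons v178 .nil) (.cons k403 .nil) c179
theorem v180 : Valid.{u} x54 s180 := chk_ok (.cons v166 (.cons v167 (.cons v168 (.cons v179 .nil)))) .nil c180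
theorem v181 : Valid.{u} x54 s181 := chk_ok (.cons v165 (.cons v180 .nil)) .nil c181
theorem v182 : Valid.{u} x54 s182 := chk_ok (.cons v181 .nil) .nil c182
theorem v183 : Valid.{u} x70 s183 := chk_ok .nil .nil c183
theorem v184 : Valid.{u} x70 s184 := chk_ok (.cons v183 .nil) .nil c184
theorem v185 : Valid.{u} x72 s185 := chk_ok .nil .nil c185
theorem v186 : Valid.{u} x73 s186 := chk_ok .nil .nil c186
theorem v187 : Valid.{u} x74 s187 := chk_ok .nil .nil c187
theorem v188 : Valid.{u} x75 s188 := chk_ok .nil .nil c188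
theorem v189 : Valid.{u} x71 s189 := chk_ok (.cons v185 (.cons v186 (.cons v187 (.cons v188 .nil)))) .nil c189
theorem v190 : Valid.{u} x76 s190 := chk_ok .nil .nil c190
theorem v191 : Valid.{u} x77 s191 := chk_ok .nil .nil c191
theorem v192 : Valid.{u} x78 s192 := chk_ok .nil .nil c192
theorem v193 : Valid.{u} x79 s193 := chk_ok .nil (.cons k432 .nil) c193
theorem v194 : Valid.{u} x81 s194 := chk_ok .nil .nil c194
theorem v195 : Valid.{u} x82 s195 := chk_ok .nil .nil c195
theorem v196 : Valid.{u} x83 s196 := chk_ok .nil (.cons k439 .nil) c196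
theorem v197 : Valid.{u} x83 s197 := chk_ok (.cons v196 .nil) (.cons k439 .nil) c197
theorem v198 : Valid.{u} x83 s198 := chk_ok (.cons v197 .nil) .nil c198
theorem v199 : Valid.{u} x83 s199 := chk_ok (.cons v198 .nil) (.cons k434 .nil) c199
theorem v200 : Valid.{u} x85 s200 := chk_ok .nil (.cons k439 .nil) c200
theorem v201 : Valid.{u} x85 s201 := chk_ok (.cons v200 .nil) .nil c201
theorem v202 : Valid.{u} x85 s202 := chk_ok (.cons v201 .nil) (.cons k434 .nil) c202
theorem v203 : Valid.{u} x79 s203 := chk_ok (.cons v193 (.cons v194 (.cons v195 (.cons v199 (.cons v202 .nil))))) .nil c203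
theorem v204 : Valid.{u} x79 s204 := chk_ok (.cons v203 .nil) (.cons k426 .nil) c204
theorem v205 : Valid.{u} x71 s205 := chk_ok (.cons v190 (.cons v191 (.cons v192 (.cons v204 .nil)))) .nil c205
theorem v206 : Valid.{u} x71 s206 := chk_ok (.cons v189 (.cons v205 .nil)) .nil c206
theorem v207 : Valid.{u} x71 s207 := chk_ok (.cons v206 .nil) .nil c207
theorem v208 : Valid.{u} x52 s208 := chk_ok (.cons v160 (.cons v182 (.cons v184 (.cons v207 .nil)))) .nil c208
theorem v209 : Valid.{u} x52 s209 := chk_ok (.cons v208 .nil) .nil c209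
theorem v210 : Valid.{u} x52 s210 := chk_ok (.cons v209 .nil) .nil c210
theorem v211 : Valid.{u} x87 s211 := chk_ok .nil .nil c211
theorem v212 : Valid.{u} x87 s212 := chk_ok (.cons v211 .nil) .nil c212
theorem v213 : Valid.{u} x89 s213 := chk_ok .nil .nil c213
theorem v214 : Valid.{u} x90 s214 := chk_ok .nil .nil c214
theorem v215 : Valid.{u} x91 s215 := chk_ok .nil .nil c215
theorem v216 : Valid.{u} x92 s216 := chk_ok .nil .nil c216
theorem v217 : Valid.{u} x88 s217 := chk_ok (.cons v213 (.cons v214 (.cons v215 (.cons v216 .nil)))) .nil c217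
theorem v218 : Valid.{u} x93 s218 := chk_ok .nil .nil c218
theorem v219 : Valid.{u} x94 s219 := chk_ok .nil .nil c219
theorem v220 : Valid.{u} x95 s220 := chk_ok .nil .nil c220
theorem v221 : Valid.{u} x96 s221 := chk_ok .nil (.cons k112 .nil) c221
theorem v222 : Valid.{u} x98 s222 := chk_ok .nil (.cons k353 .nil) c222
theorem v223 : Valid.{u} x100 s223 := chk_ok .nil .nil c223
theorem v224 : Valid.{u} x101 s224 := chk_ok .nil .nil c224
theorem v225 : Valid.{u} x102 s225 := chk_ok .nil .nil c225
theorem v226 : Valid.{u} x102 s226 := chk_ok (.cons v225 .nil) .nil c226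
theorem v227 : Valid.{u} x102 s227 := chk_ok (.cons v226 .nil) .nil c227
theorem v228 : Valid.{u} x102 s228 := chk_ok (.cons v227 .nil) (.cons k212 .nil) c228
theorem v229 : Valid.{u} x103 s229 := chk_ok .nil .nil c229
theorem v230 : Valid.{u} x103 s230 := chk_ok (.cons v229 .nil) .nil c230
theorem v231 : Valid.{u} x103 s231 := chk_ok (.cons v230 .nil) (.cons k212 .nil) c231
theorem v232 : Valid.{u} x104 s232 := chk_ok .nil .nil c232
theorem v233 : Valid.{u} x104 s233 := chk_ok .nil .nil c233
theorem v234 : Valid.{u} x104 s234 := chk_ok .nil .nil c234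
theorem v235 : Valid.{u} x104 s235 := chk_ok .nil .nil c235
theorem v236 : Valid.{u} x104 s236 := chk_ok .nil .nil c236
theorem v237 : Valid.{u} x104 s237 := chk_ok (.cons v232 (.cons v233 (.cons v234 (.cons v235 (.cons v236 .nil))))) .nil c237
theorem v238 : Valid.{u} x104 s238 := chk_ok (.cons v237 .nil) .nil c238
theorem v239 : Valid.{u} x104 s239 := chk_ok (.cons v238 .nil) .nil c239
theorem v240 : Valid.{u} x104 s240 := chk_ok (.cons v239 .nil) (.cons k195 .nil) c240
theorem v241 : Valid.{u} x105 s241 := chk_ok .nil .nil c241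
theorem v242 : Valid.{u} x105 s242 := chk_ok .nil .nil c242
theorem v243 : Valid.{u} x105 s243 := chk_ok .nil .nil c243
theorem v244 : Valid.{u} x105 s244 := chk_ok (.cons v243 .nil) .nil c244
theorem v245 : Valid.{u} x105 s245 := chk_ok (.cons v241 (.cons v242 (.cons v244 .nil))) .nil c245
theorem v246 : Valid.{u} x105 s246 := chk_ok (.cons v245 .nil) .nil c246
theorem v247 : Valid.{u} x105 s247 := chk_ok (.cons v246 .nil) .nil c247
theorem v248 : Valid.{u} x105 s248 := chk_ok (.cons v247 .nil) (.cons k195 .nil) c248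
theorem v249 : Valid.{u} x106 s249 := chk_ok .nil .nil c249
theorem v250 : Valid.{u} x107 s250 := chk_ok .nil .nil c250
theorem v251 : Valid.{u} x98 s251 := chk_ok (.cons v223 (.cons v224 (.cons v228 (.cons v231 (.cons v240 (.cons v248 (.cons v249 (.cons v250 .nil)))))))) (.cons k198 (.cons k212 (.cons k195 (.cons k211 .nil)))) c251
theorem v252 : Valid.{u} x98 s252 := chk_ok (.cons v222 (.cons v251 .nil)) .nil c252
theorem v253 : Valid.{u} x108 s253 := chk_ok .nil (.cons k353 .nil) c253
theorem v254 : Valid.{u} x110 s254 := chk_ok .nil .nil c254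
theorem v255 : Valid.{u} x111 s255 := chk_ok .nil .nil c255
theorem v256 : Valid.{u} x112 s256 := chk_ok .nil .nil c256
theorem v257 : Valid.{u} x112 s257 := chk_ok .nil .nil c257
theorem v258 : Valid.{u} x112 s258 := chk_ok (.cons v256 (.cons v257 .nil)) .nil c258
theorem v259 : Valid.{u} x112 s259 := chk_ok (.cons v258 .nil) .nil c259
theorem v260 : Valid.{u} x112 s260 := chk_ok (.cons v259 .nil) .nil c260
theorem v261 : Valid.{u} x112 s261 := chk_ok (.cons v260 .nil) (.cons k212 .nil) c261
theorem v262 : Valid.{u} x113 s262 := chk_ok .nil .nil c262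
theorem v263 : Valid.{u} x113 s263 := chk_ok .nil .nil c263
theorem v264 : Valid.{u} x113 s264 := chk_ok .nil .nil c264
theorem v265 : Valid.{u} x113 s265 := chk_ok .nil .nil c265
theorem v266 : Valid.{u} x113 s266 := chk_ok .nil .nil c266
theorem v267 : Valid.{u} x113 s267 := chk_ok .nil .nil c267
theorem v268 : Valid.{u} x113 s268 := chk_ok .nil .nil c268
theorem v269 : Valid.{u} x113 s269 := chk_ok .nil .nil c269
theorem v270 : Valid.{u} x113 s270 := chk_ok (.cons v262 (.cons v263 (.cons v264 (.cons v265 (.cons v266 (.cons v267 (.cons v268 (.cons v269 .nil)))))))) .nil c270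
theorem v271 : Valid.{u} x113 s271 := chk_ok (.cons v270 .nil) .nil c271
theorem v272 : Valid.{u} x113 s272 := chk_ok (.cons v271 .nil) .nil c272
theorem v273 : Valid.{u} x113 s273 := chk_ok (.cons v272 .nil) (.cons k212 .nil) c273
theorem v274 : Valid.{u} x114 s274 := chk_ok .nil .nil c274
theorem v275 : Valid.{u} x114 s275 := chk_ok .nil .nil c275
theorem v276 : Valid.{u} x114 s276 := chk_ok .nil .nil c276
theorem v277 : Valid.{u} x114 s277 := chk_ok .nil .nil c277
theorem v278 : Valid.{u} x114 s278 := chk_ok .nil .nil c278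
theorem v279 : Valid.{u} x114 s279 := chk_ok (.cons v274 (.cons v275 (.cons v276 (.cons v277 (.cons v278 .nil))))) .nil c279
theorem v280 : Valid.{u} x114 s280 := chk_ok (.cons v279 .nil) .nil c280
theorem v281 : Valid.{u} x114 s281 := chk_ok (.cons v280 .nil) .nil c281
theorem v282 : Valid.{u} x114 s282 := chk_ok (.cons v281 .nil) (.cons k195 .nil) c282
theorem v283 : Valid.{u} x115 s283 := chk_ok .nil .nil c283
theorem v284 : Valid.{u} x115 s284 := chk_ok .nil .nil c284
theorem v285 : Valid.{u} x115 s285 := chk_ok .nil .nil c285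
theorem v286 : Valid.{u} x115 s286 := chk_ok .nil .nil c286
theorem v287 : Valid.{u} x115 s287 := chk_ok (.cons v283 (.cons v284 (.cons v285 (.cons v286 .nil)))) .nil c287
theorem v288 : Valid.{u} x115 s288 := chk_ok (.cons v287 .nil) .nil c288
theorem v289 : Valid.{u} x115 s289 := chk_ok (.cons v288 .nil) .nil c289
theorem v290 : Valid.{u} x115 s290 := chk_ok (.cons v289 .nil) (.cons k195 .nil) c290
theorem v291 : Valid.{u} x116 s291 := chk_ok .nil .nil c291
theorem v292 : Valid.{u} x117 s292 := chk_ok .nil .nil c292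
theorem v293 : Valid.{u} x108 s293 := chk_ok (.cons v254 (.cons v255 (.cons v261 (.cons v273 (.cons v282 (.cons v290 (.cons v291 (.cons v292 .nil)))))))) (.cons k198 (.cons k212 (.cons k195 (.cons k211 .nil)))) c293
theorem v294 : Valid.{u} x108 s294 := chk_ok (.cons v253 (.cons v293 .nil)) .nil c294
theorem v295 : Valid.{u} x118 s295 := chk_ok .nil (.cons k363 .nil) c295
theorem v296 : Valid.{u} x120 s296 := chk_ok .nil .nil c296
theorem v297 : Valid.{u} x120 s297 := chk_ok .nil .nil c297
theorem v298 : Valid.{u} x120 s298 := chk_ok .nil .nil c298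
theorem v299 : Valid.{u} x120 s299 := chk_ok .nil .nil c299
theorem v300 : Valid.{u} x120 s300 := chk_ok .nil .nil c300
theorem v301 : Valid.{u} x120 s301 := chk_ok .nil .nil c301
theorem v302 : Valid.{u} x120 s302 := chk_ok .nil .nil c302
theorem v303 : Valid.{u} x120 s303 := chk_ok .nil .nil c303
theorem v304 : Valid.{u} x120 s304 := chk_ok .nil .nil c304
theorem v305 : Valid.{u} x120 s305 := chk_ok (.cons v296 (.cons v297 (.cons v298 (.cons v299 (.cons v300 (.cons v301 (.cons v302 (.cons v303 (.cons v304 .nil))))))))) .nil c305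
theorem v306 : Valid.{u} x120 s306 := chk_ok (.cons v305 .nil) .nil c306
theorem v307 : Valid.{u} x120 s307 := chk_ok (.cons v306 .nil) .nil c307
theorem v308 : Valid.{u} x120 s308 := chk_ok (.cons v307 .nil) (.cons k197 .nil) c308
theorem v309 : Valid.{u} x121 s309 := chk_ok .nil .nil c309
theorem v310 : Valid.{u} x121 s310 := chk_ok (.cons v309 .nil) .nil c310
theorem v311 : Valid.{u} x121 s311 := chk_ok (.cons v310 .nil) (.cons k197 .nil) c311
theorem v312 : Valid.{u} x122 s312 := chk_ok .nil .nil c312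
theorem v313 : Valid.{u} x123 s313 := chk_ok .nil .nil c313
theorem v314 : Valid.{u} x124 s314 := chk_ok .nil .nil c314
theorem v315 : Valid.{u} x125 s315 := chk_ok .nil .nil c315
theorem v316 : Valid.{u} x126 s316 := chk_ok .nil .nil c316
theorem v317 : Valid.{u} x126 s317 := chk_ok (.cons v316 .nil) .nil c317
theorem v318 : Valid.{u} x126 s318 := chk_ok (.cons v317 .nil) .nil c318
theorem v319 : Valid.{u} x126 s319 := chk_ok (.cons v318 .nil) (.cons k210 .nil) c319
theorem v320 : Valid.{u} x127 s320 := chk_ok .nil .nil c320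
theorem v321 : Valid.{u} x127 s321 := chk_ok (.cons v320 .nil) .nil c321
theorem v322 : Valid.{u} x127 s322 := chk_ok (.cons v321 .nil) (.cons k210 .nil) c322
theorem v323 : Valid.{u} x118 s323 := chk_ok (.cons v308 (.cons v311 (.cons v312 (.cons v313 (.cons v314 (.cons v315 (.cons v319 (.cons v322 .nil)))))))) (.cons k197 (.cons k213 (.cons k196 (.cons k210 .nil)))) c323
theorem v324 : Valid.{u} x118 s324 := chk_ok (.cons v295 (.cons v323 .nil)) .nil c324
theorem v325 : Valid.{u} x128 s325 := chk_ok .nil (.cons k363 .nil) c325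
theorem v326 : Valid.{u} x130 s326 := chk_ok .nil .nil c326
theorem v327 : Valid.{u} x130 s327 := chk_ok (.cons v326 .nil) .nil c327
theorem v328 : Valid.{u} x130 s328 := chk_ok (.cons v327 .nil) .nil c328
theorem v329 : Valid.{u} x130 s329 := chk_ok (.cons v328 .nil) .nil c329
theorem v330 : Valid.{u} x130 s330 := chk_ok (.cons v329 .nil) (.cons k197 .nil) c330
theorem v331 : Valid.{u} x131 s331 := chk_ok .nil .nil c331
theorem v332 : Valid.{u} x131 s332 := chk_ok .nil .nil c332
theorem v333 : Valid.{u} x131 s333 := chk_ok .nil .nil c333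
theorem v334 : Valid.{u} x131 s334 := chk_ok .nil .nil c334
theorem v335 : Valid.{u} x131 s335 := chk_ok .nil .nil c335
theorem v336 : Valid.{u} x131 s336 := chk_ok .nil .nil c336
theorem v337 : Valid.{u} x131 s337 := chk_ok .nil .nil c337
theorem v338 : Valid.{u} x131 s338 := chk_ok .nil .nil c338
theorem v339 : Valid.{u} x131 s339 := chk_ok (.cons v331 (.cons v332 (.cons v333 (.cons v334 (.cons v335 (.cons v336 (.cons v337 (.cons v338 .nil)))))))) .nil c339
theorem v340 : Valid.{u} x131 s340 := chk_ok (.cons v339 .nil) .nil c340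
theorem v341 : Valid.{u} x131 s341 := chk_ok (.cons v340 .nil) (.cons k197 .nil) c341
theorem v342 : Valid.{u} x132 s342 := chk_ok .nil .nil c342
theorem v343 : Valid.{u} x133 s343 := chk_ok .nil .nil c343
theorem v344 : Valid.{u} x134 s344 := chk_ok .nil .nil c344
theorem v345 : Valid.{u} x135 s345 := chk_ok .nil .nil c345
theorem v346 : Valid.{u} x136 s346 := chk_ok .nil .nil c346
theorem v347 : Valid.{u} x136 s347 := chk_ok (.cons v346 .nil) .nil c347
theorem v348 : Valid.{u} x136 s348 := chk_ok (.cons v347 .nil) (.cons k210 .nil) c348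
theorem v349 : Valid.{u} x137 s349 := chk_ok .nil .nil c349
theorem v350 : Valid.{u} x137 s350 := chk_ok (.cons v349 .nil) .nil c350
theorem v351 : Valid.{u} x137 s351 := chk_ok (.cons v350 .nil) .nil c351
theorem v352 : Valid.{u} x137 s352 := chk_ok (.cons v351 .nil) (.cons k210 .nil) c352
theorem v353 : Valid.{u} x128 s353 := chk_ok (.cons v330 (.cons v341 (.cons v342 (.cons v343 (.cons v344 (.cons v345 (.cons v348 (.cons v352 .nil)))))))) (.cons k197 (.cons k213 (.cons k196 (.cons k210 .nil)))) c353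
theorem v354 : Valid.{u} x128 s354 := chk_ok (.cons v325 (.cons v353 .nil)) .nil c354
theorem v355 : Valid.{u} x138 s355 := chk_ok .nil (.cons k333 .nil) c355
theorem v356 : Valid.{u} x140 s356 := chk_ok .nil .nil c356
theorem v357 : Valid.{u} x141 s357 := chk_ok .nil .nil c357
theorem v358 : Valid.{u} x142 s358 := chk_ok .nil .nil c358
theorem v359 : Valid.{u} x142 s359 := chk_ok (.cons v358 .nil) .nil c359
theorem v360 : Valid.{u} x142 s360 := chk_ok (.cons v359 .nil) .nil c360
theorem v361 : Valid.{u} x142 s361 := chk_ok (.cons v360 .nil) (.cons k239 .nil) c361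
theorem v362 : Valid.{u} x143 s362 := chk_ok .nil .nil c362
theorem v363 : Valid.{u} x143 s363 := chk_ok (.cons v362 .nil) .nil c363
theorem v364 : Valid.{u} x143 s364 := chk_ok (.cons v363 .nil) (.cons k239 .nil) c364
theorem v365 : Valid.{u} x144 s365 := chk_ok .nil .nil c365
theorem v366 : Valid.{u} x144 s366 := chk_ok (.cons v365 .nil) .nil c366
theorem v367 : Valid.{u} x144 s367 := chk_ok (.cons v366 .nil) (.cons k226 .nil) c367
theorem v368 : Valid.{u} x145 s368 := chk_ok .nil .nil c368
theorem v369 : Valid.{u} x145 s369 := chk_ok .nil .nil c369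
theorem v370 : Valid.{u} x145 s370 := chk_ok .nil .nil c370
theorem v371 : Valid.{u} x145 s371 := chk_ok (.cons v368 (.cons v369 (.cons v370 .nil))) .nil c371
theorem v372 : Valid.{u} x145 s372 := chk_ok (.cons v371 .nil) .nil c372
theorem v373 : Valid.{u} x145 s373 := chk_ok (.cons v372 .nil) (.cons k226 .nil) c373
theorem v374 : Valid.{u} x146 s374 := chk_ok .nil .nil c374
theorem v375 : Valid.{u} x147 s375 := chk_ok .nil .nil c375
theorem v376 : Valid.{u} x138 s376 := chk_ok (.cons v356 (.cons v357 (.cons v361 (.cons v364 (.cons v367 (.cons v373 (.cons v374 (.cons v375 .nil)))))))) (.cons k229 (.cons k239 (.cons k226 (.cons k238 .nil)))) c376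
theorem v377 : Valid.{u} x138 s377 := chk_ok (.cons v355 (.cons v376 .nil)) .nil c377
theorem v378 : Valid.{u} x148 s378 := chk_ok .nil (.cons k333 .nil) c378
theorem v379 : Valid.{u} x150 s379 := chk_ok .nil .nil c379
theorem v380 : Valid.{u} x151 s380 := chk_ok .nil .nil c380
theorem v381 : Valid.{u} x152 s381 := chk_ok .nil .nil c381
theorem v382 : Valid.{u} x152 s382 := chk_ok .nil .nil c382
theorem v383 : Valid.{u} x152 s383 := chk_ok .nil .nil c383
theorem v384 : Valid.{u} x152 s384 := chk_ok .nil .nil c384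
theorem v385 : Valid.{u} x152 s385 := chk_ok .nil .nil c385
theorem v386 : Valid.{u} x152 s386 := chk_ok (.cons v381 (.cons v382 (.cons v383 (.cons v384 (.cons v385 .nil))))) .nil c386
theorem v387 : Valid.{u} x152 s387 := chk_ok (.cons v386 .nil) .nil c387
theorem v388 : Valid.{u} x152 s388 := chk_ok (.cons v387 .nil) (.cons k239 .nil) c388
theorem v389 : Valid.{u} x153 s389 := chk_ok .nil .nil c389
theorem v390 : Valid.{u} x153 s390 := chk_ok (.cons v389 .nil) .nil c390
theorem v391 : Valid.{u} x153 s391 := chk_ok (.cons v390 .nil) .nil c391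
theorem v392 : Valid.{u} x153 s392 := chk_ok (.cons v391 .nil) (.cons k239 .nil) c392
theorem v393 : Valid.{u} x154 s393 := chk_ok .nil .nil c393
theorem v394 : Valid.{u} x154 s394 := chk_ok (.cons v393 .nil) .nil c394
theorem v395 : Valid.{u} x154 s395 := chk_ok (.cons v394 .nil) (.cons k226 .nil) c395
theorem v396 : Valid.{u} x155 s396 := chk_ok .nil .nil c396
theorem v397 : Valid.{u} x155 s397 := chk_ok (.cons v396 .nil) .nil c397
theorem v398 : Valid.{u} x155 s398 := chk_ok (.cons v397 .nil) (.cons k226 .nil) c398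
theorem v399 : Valid.{u} x156 s399 := chk_ok .nil .nil c399
theorem v400 : Valid.{u} x157 s400 := chk_ok .nil .nil c400
theorem v401 : Valid.{u} x148 s401 := chk_ok (.cons v379 (.cons v380 (.cons v388 (.cons v392 (.cons v395 (.cons v398 (.cons v399 (.cons v400 .nil)))))))) (.cons k229 (.cons k239 (.cons k226 (.cons k238 .nil)))) c401
theorem v402 : Valid.{u} x148 s402 := chk_ok (.cons v378 (.cons v401 .nil)) .nil c402
theorem v403 : Valid.{u} x158 s403 := chk_ok .nil (.cons k343 .nil) c403
theorem v404 : Valid.{u} x160 s404 := chk_ok .nil .nil c404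
theorem v405 : Valid.{u} x160 s405 := chk_ok .nil .nil c405
theorem v406 : Valid.{u} x160 s406 := chk_ok (.cons v404 (.cons v405 .nil)) .nil c406
theorem v407 : Valid.{u} x160 s407 := chk_ok (.cons v406 .nil) .nil c407
theorem v408 : Valid.{u} x160 s408 := chk_ok (.cons v407 .nil) (.cons k228 .nil) c408
theorem v409 : Valid.{u} x161 s409 := chk_ok .nil .nil c409
theorem v410 : Valid.{u} x161 s410 := chk_ok (.cons v409 .nil) .nil c410
theorem v411 : Valid.{u} x161 s411 := chk_ok (.cons v410 .nil) (.cons k228 .nil) c411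
theorem v412 : Valid.{u} x162 s412 := chk_ok .nil .nil c412
theorem v413 : Valid.{u} x163 s413 := chk_ok .nil .nil c413
theorem v414 : Valid.{u} x164 s414 := chk_ok .nil .nil c414
theorem v415 : Valid.{u} x165 s415 := chk_ok .nil .nil c415
theorem v416 : Valid.{u} x166 s416 := chk_ok .nil .nil c416
theorem v417 : Valid.{u} x166 s417 := chk_ok (.cons v416 .nil) .nil c417
theorem v418 : Valid.{u} x166 s418 := chk_ok .nil .nil c418
theorem v419 : Valid.{u} x166 s419 := chk_ok (.cons v417 (.cons v418 .nil)) .nil c419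
theorem v420 : Valid.{u} x166 s420 := chk_ok (.cons v419 .nil) .nil c420
theorem v421 : Valid.{u} x166 s421 := chk_ok (.cons v420 .nil) (.cons k237 .nil) c421
theorem v422 : Valid.{u} x167 s422 := chk_ok .nil .nil c422
theorem v423 : Valid.{u} x167 s423 := chk_ok (.cons v422 .nil) .nil c423
theorem v424 : Valid.{u} x167 s424 := chk_ok (.cons v423 .nil) (.cons k237 .nil) c424
theorem v425 : Valid.{u} x158 s425 := chk_ok (.cons v408 (.cons v411 (.cons v412 (.cons v413 (.cons v414 (.cons v415 (.cons v421 (.cons v424 .nil)))))))) (.cons k228 (.cons k240 (.cons k227 (.cons k237 .nil)))) c425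
theorem v426 : Valid.{u} x158 s426 := chk_ok (.cons v403 (.cons v425 .nil)) .nil c426
theorem v427 : Valid.{u} x168 s427 := chk_ok .nil (.cons k343 .nil) c427
theorem v428 : Valid.{u} x170 s428 := chk_ok .nil .nil c428
theorem v429 : Valid.{u} x170 s429 := chk_ok (.cons v428 .nil) .nil c429
theorem v430 : Valid.{u} x170 s430 := chk_ok (.cons v429 .nil) .nil c430
theorem v431 : Valid.{u} x170 s431 := chk_ok (.cons v430 .nil) (.cons k228 .nil) c431
theorem v432 : Valid.{u} x171 s432 := chk_ok .nil .nil c432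
theorem v433 : Valid.{u} x171 s433 := chk_ok (.cons v432 .nil) .nil c433
theorem v434 : Valid.{u} x171 s434 := chk_ok (.cons v433 .nil) .nil c434
theorem v435 : Valid.{u} x171 s435 := chk_ok (.cons v434 .nil) (.cons k228 .nil) c435
theorem v436 : Valid.{u} x172 s436 := chk_ok .nil .nil c436
theorem v437 : Valid.{u} x173 s437 := chk_ok .nil .nil c437
theorem v438 : Valid.{u} x174 s438 := chk_ok .nil .nil c438
theorem v439 : Valid.{u} x175 s439 := chk_ok .nil .nil c439
theorem v440 : Valid.{u} x176 s440 := chk_ok .nil .nil c440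
theorem v441 : Valid.{u} x176 s441 := chk_ok .nil .nil c441
theorem v442 : Valid.{u} x176 s442 := chk_ok .nil .nil c442
theorem v443 : Valid.{u} x176 s443 := chk_ok .nil .nil c443
theorem v444 : Valid.{u} x176 s444 := chk_ok .nil .nil c444
theorem v445 : Valid.{u} x176 s445 := chk_ok (.cons v440 (.cons v441 (.cons v442 (.cons v443 (.cons v444 .nil))))) .nil c445
theorem v446 : Valid.{u} x176 s446 := chk_ok (.cons v445 .nil) .nil c446
theorem v447 : Valid.{u} x176 s447 := chk_ok (.cons v446 .nil) (.cons k237 .nil) c447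
theorem v448 : Valid.{u} x177 s448 := chk_ok .nil .nil c448
theorem v449 : Valid.{u} x177 s449 := chk_ok (.cons v448 .nil) .nil c449
theorem v450 : Valid.{u} x177 s450 := chk_ok (.cons v449 .nil) .nil c450
theorem v451 : Valid.{u} x177 s451 := chk_ok (.cons v450 .nil) (.cons k237 .nil) c451
theorem v452 : Valid.{u} x168 s452 := chk_ok (.cons v431 (.cons v435 (.cons v436 (.cons v437 (.cons v438 (.cons v439 (.cons v447 (.cons v451 .nil)))))))) (.cons k228 (.cons k240 (.cons k227 (.cons k237 .nil)))) c452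
theorem v453 : Valid.{u} x168 s453 := chk_ok (.cons v427 (.cons v452 .nil)) .nil c453
theorem v454 : Valid.{u} x178 s454 := chk_ok .nil (.cons k312 .nil) c454
theorem v455 : Valid.{u} x180 s455 := chk_ok .nil .nil c455
theorem v456 : Valid.{u} x180 s456 := chk_ok (.cons v455 .nil) .nil c456
theorem v457 : Valid.{u} x180 s457 := chk_ok (.cons v456 .nil) .nil c457
theorem v458 : Valid.{u} x180 s458 := chk_ok (.cons v457 .nil) (.cons k140 .nil) c458
theorem v459 : Valid.{u} x181 s459 := chk_ok .nil .nil c459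
theorem v460 : Valid.{u} x181 s460 := chk_ok (.cons v459 .nil) .nil c460
theorem v461 : Valid.{u} x181 s461 := chk_ok (.cons v460 .nil) (.cons k140 .nil) c461
theorem v462 : Valid.{u} x182 s462 := chk_ok .nil .nil c462
theorem v463 : Valid.{u} x183 s463 := chk_ok .nil .nil c463
theorem v464 : Valid.{u} x184 s464 := chk_ok .nil .nil c464
theorem v465 : Valid.{u} x185 s465 := chk_ok .nil .nil c465
theorem v466 : Valid.{u} x186 s466 := chk_ok .nil .nil c466
theorem v467 : Valid.{u} x186 s467 := chk_ok .nil .nil c467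
theorem v468 : Valid.{u} x186 s468 := chk_ok .nil .nil c468
theorem v469 : Valid.{u} x186 s469 := chk_ok (.cons v466 (.cons v467 (.cons v468 .nil))) .nil c469
theorem v470 : Valid.{u} x186 s470 := chk_ok (.cons v469 .nil) .nil c470
theorem v471 : Valid.{u} x186 s471 := chk_ok (.cons v470 .nil) .nil c471
theorem v472 : Valid.{u} x186 s472 := chk_ok (.cons v471 .nil) (.cons k162 .nil) c472
theorem v473 : Valid.{u} x187 s473 := chk_ok .nil .nil c473
theorem v474 : Valid.{u} x187 s474 := chk_ok (.cons v473 .nil) .nil c474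
theorem v475 : Valid.{u} x187 s475 := chk_ok (.cons v474 .nil) (.cons k162 .nil) c475
theorem v476 : Valid.{u} x178 s476 := chk_ok (.cons v458 (.cons v461 (.cons v462 (.cons v463 (.cons v464 (.cons v465 (.cons v472 (.cons v475 .nil)))))))) (.cons k140 (.cons k165 (.cons k139 (.cons k162 .nil)))) c476
theorem v477 : Valid.{u} x178 s477 := chk_ok (.cons v454 (.cons v476 .nil)) .nil c477
theorem v478 : Valid.{u} x188 s478 := chk_ok .nil (.cons k312 .nil) c478
theorem v479 : Valid.{u} x190 s479 := chk_ok .nil .nil c479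
theorem v480 : Valid.{u} x190 s480 := chk_ok (.cons v479 .nil) .nil c480
theorem v481 : Valid.{u} x190 s481 := chk_ok (.cons v480 .nil) .nil c481
theorem v482 : Valid.{u} x190 s482 := chk_ok (.cons v481 .nil) .nil c482
theorem v483 : Valid.{u} x190 s483 := chk_ok (.cons v482 .nil) (.cons k140 .nil) c483
theorem v484 : Valid.{u} x191 s484 := chk_ok .nil .nil c484
theorem v485 : Valid.{u} x191 s485 := chk_ok .nil .nil c485
theorem v486 : Valid.{u} x191 s486 := chk_ok .nil .nil c486
theorem v487 : Valid.{u} x191 s487 := chk_ok .nil .nil c487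
theorem v488 : Valid.{u} x191 s488 := chk_ok .nil .nil c488
theorem v489 : Valid.{u} x191 s489 := chk_ok .nil .nil c489
theorem v490 : Valid.{u} x191 s490 := chk_ok .nil .nil c490
theorem v491 : Valid.{u} x191 s491 := chk_ok .nil .nil c491
theorem v492 : Valid.{u} x191 s492 := chk_ok (.cons v484 (.cons v485 (.cons v486 (.cons v487 (.cons v488 (.cons v489 (.cons v490 (.cons v491 .nil)))))))) .nil c492
theorem v493 : Valid.{u} x191 s493 := chk_ok (.cons v492 .nil) .nil c493
theorem v494 : Valid.{u} x191 s494 := chk_ok (.cons v493 .nil) (.cons k140 .nil) c494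
theorem v495 : Valid.{u} x192 s495 := chk_ok .nil .nil c495
theorem v496 : Valid.{u} x193 s496 := chk_ok .nil .nil c496
theorem v497 : Valid.{u} x194 s497 := chk_ok .nil .nil c497
theorem v498 : Valid.{u} x195 s498 := chk_ok .nil .nil c498
theorem v499 : Valid.{u} x196 s499 := chk_ok .nil .nil c499
theorem v500 : Valid.{u} x196 s500 := chk_ok .nil .nil c500
theorem v501 : Valid.{u} x196 s501 := chk_ok .nil .nil c501
theorem v502 : Valid.{u} x196 s502 := chk_ok .nil .nil c502
theorem v503 : Valid.{u} x196 s503 := chk_ok .nil .nil c503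
theorem v504 : Valid.{u} x196 s504 := chk_ok (.cons v499 (.cons v500 (.cons v501 (.cons v502 (.cons v503 .nil))))) .nil c504
theorem v505 : Valid.{u} x196 s505 := chk_ok (.cons v504 .nil) .nil c505
theorem v506 : Valid.{u} x196 s506 := chk_ok (.cons v505 .nil) .nil c506
theorem v507 : Valid.{u} x196 s507 := chk_ok (.cons v506 .nil) (.cons k162 .nil) c507
theorem v508 : Valid.{u} x197 s508 := chk_ok .nil .nil c508
theorem v509 : Valid.{u} x197 s509 := chk_ok .nil .nil c509
theorem v510 : Valid.{u} x197 s510 := chk_ok .nil .nil c510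
theorem v511 : Valid.{u} x197 s511 := chk_ok .nil .nil c511
theorem v512 : Valid.{u} x197 s512 := chk_ok .nil .nil c512
theorem v513 : Valid.{u} x197 s513 := chk_ok .nil .nil c513
theorem v514 : Valid.{u} x197 s514 := chk_ok .nil .nil c514
theorem v515 : Valid.{u} x197 s515 := chk_ok .nil .nil c515
theorem v516 : Valid.{u} x197 s516 := chk_ok .nil .nil c516
theorem v517 : Valid.{u} x197 s517 := chk_ok (.cons v508 (.cons v509 (.cons v510 (.cons v511 (.cons v512 (.cons v513 (.cons v514 (.cons v515 (.cons v516 .nil))))))))) .nil c517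
theorem v518 : Valid.{u} x197 s518 := chk_ok (.cons v517 .nil) .nil c518
theorem v519 : Valid.{u} x197 s519 := chk_ok (.cons v518 .nil) (.cons k162 .nil) c519
theorem v520 : Valid.{u} x188 s520 := chk_ok (.cons v483 (.cons v494 (.cons v495 (.cons v496 (.cons v497 (.cons v498 (.cons v507 (.cons v519 .nil)))))))) (.cons k140 (.cons k165 (.cons k139 (.cons k162 .nil)))) c520
theorem v521 : Valid.{u} x188 s521 := chk_ok (.cons v478 (.cons v520 .nil)) .nil c521
theorem v522 : Valid.{u} x198 s522 := chk_ok .nil (.cons k323 .nil) c522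
theorem v523 : Valid.{u} x200 s523 := chk_ok .nil .nil c523
theorem v524 : Valid.{u} x201 s524 := chk_ok .nil .nil c524
theorem v525 : Valid.{u} x202 s525 := chk_ok .nil .nil c525
theorem v526 : Valid.{u} x202 s526 := chk_ok .nil .nil c526
theorem v527 : Valid.{u} x202 s527 := chk_ok (.cons v525 (.cons v526 .nil)) .nil c527
theorem v528 : Valid.{u} x202 s528 := chk_ok (.cons v527 .nil) .nil c528
theorem v529 : Valid.{u} x202 s529 := chk_ok (.cons v528 .nil) (.cons k164 .nil) c529
theorem v530 : Valid.{u} x203 s530 := chk_ok .nil .nil c530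
theorem v531 : Valid.{u} x203 s531 := chk_ok (.cons v530 .nil) .nil c531
theorem v532 : Valid.{u} x203 s532 := chk_ok (.cons v531 .nil) (.cons k164 .nil) c532
theorem v533 : Valid.{u} x204 s533 := chk_ok .nil (.cons k138 .nil) c533
theorem v534 : Valid.{u} x204 s534 := chk_ok (.cons v533 .nil) (.cons k138 .nil) c534
theorem v535 : Valid.{u} x204 s535 := chk_ok .nil .nil c535
theorem v536 : Valid.{u} x204 s536 := chk_ok (.cons v535 .nil) .nil c536
theorem v537 : Valid.{u} x204 s537 := chk_ok (.cons v534 (.cons v536 .nil)) .nil c537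
theorem v538 : Valid.{u} x204 s538 := chk_ok (.cons v537 .nil) .nil c538
theorem v539 : Valid.{u} x204 s539 := chk_ok (.cons v538 .nil) (.cons k122 .nil) c539
theorem v540 : Valid.{u} x206 s540 := chk_ok .nil (.cons k151 .nil) c540
theorem v541 : Valid.{u} x206 s541 := chk_ok .nil (.cons k151 .nil) c541
theorem v542 : Valid.{u} x206 s542 := chk_ok (.cons v541 .nil) .nil c542
theorem v543 : Valid.{u} x206 s543 := chk_ok (.cons v540 (.cons v542 .nil)) .nil c543
theorem v544 : Valid.{u} x206 s544 := chk_ok .nil .nil c544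
theorem v545 : Valid.{u} x206 s545 := chk_ok .nil .nil c545
theorem v546 : Valid.{u} x206 s546 := chk_ok .nil .nil c546
theorem v547 : Valid.{u} x206 s547 := chk_ok .nil .nil c547
theorem v548 : Valid.{u} x206 s548 := chk_ok .nil .nil c548
theorem v549 : Valid.{u} x206 s549 := chk_ok .nil .nil c549
theorem v550 : Valid.{u} x206 s550 := chk_ok .nil .nil c550
theorem v551 : Valid.{u} x206 s551 := chk_ok .nil .nil c551
theorem v552 : Valid.{u} x206 s552 := chk_ok .nil .nil c552
theorem v553 : Valid.{u} x206 s553 := chk_ok .nil .nil c553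
theorem v554 : Valid.{u} x206 s554 := chk_ok .nil .nil c554
theorem v555 : Valid.{u} x206 s555 := chk_ok .nil .nil c555
theorem v556 : Valid.{u} x206 s556 := chk_ok .nil .nil c556
theorem v557 : Valid.{u} x206 s557 := chk_ok .nil .nil c557
theorem v558 : Valid.{u} x206 s558 := chk_ok (.cons v544 (.cons v545 (.cons v546 (.cons v547 (.cons v548 (.cons v549 (.cons v550 (.cons v551 (.cons v552 (.cons v553 (.cons v554 (.cons v555 (.cons v556 (.cons v557 .nil)))))))))))))) .nil c558
theorem v559 : Valid.{u} x206 s559 := chk_ok (.cons v543 (.cons v558 .nil)) .nil c559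
theorem v560 : Valid.{u} x206 s560 := chk_ok (.cons v559 .nil) .nil c560
theorem v561 : Valid.{u} x206 s561 := chk_ok (.cons v560 .nil) (.cons k122 .nil) c561
theorem v562 : Valid.{u} x208 s562 := chk_ok .nil .nil c562
theorem v563 : Valid.{u} x209 s563 := chk_ok .nil .nil c563
theorem v564 : Valid.{u} x198 s564 := chk_ok (.cons v523 (.cons v524 (.cons v529 (.cons v532 (.cons v539 (.cons v561 (.cons v562 (.cons v563 .nil)))))))) (.cons k141 (.cons k164 (.cons k122 (.cons k163 .nil)))) c564
theorem v565 : Valid.{u} x198 s565 := chk_ok (.cons v522 (.cons v564 .nil)) .nil c565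
theorem v566 : Valid.{u} x210 s566 := chk_ok .nil (.cons k323 .nil) c566
theorem v567 : Valid.{u} x212 s567 := chk_ok .nil .nil c567
theorem v568 : Valid.{u} x213 s568 := chk_ok .nil .nil c568
theorem v569 : Valid.{u} x214 s569 := chk_ok .nil .nil c569
theorem v570 : Valid.{u} x214 s570 := chk_ok (.cons v569 .nil) .nil c570
theorem v571 : Valid.{u} x214 s571 := chk_ok (.cons v570 .nil) .nil c571
theorem v572 : Valid.{u} x214 s572 := chk_ok (.cons v571 .nil) .nil c572
theorem v573 : Valid.{u} x214 s573 := chk_ok (.cons v572 .nil) (.cons k164 .nil) c573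
theorem v574 : Valid.{u} x215 s574 := chk_ok .nil .nil c574
theorem v575 : Valid.{u} x215 s575 := chk_ok (.cons v574 .nil) .nil c575
theorem v576 : Valid.{u} x215 s576 := chk_ok (.cons v575 .nil) .nil c576
theorem v577 : Valid.{u} x215 s577 := chk_ok (.cons v576 .nil) (.cons k164 .nil) c577
theorem v578 : Valid.{u} x216 s578 := chk_ok .nil .nil c578
theorem v579 : Valid.{u} x216 s579 := chk_ok (.cons v578 .nil) (.cons k129 .nil) c579
theorem v580 : Valid.{u} x216 s580 := chk_ok .nil .nil c580
theorem v581 : Valid.{u} x216 s581 := chk_ok (.cons v580 .nil) (.cons k129 .nil) c581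
theorem v582 : Valid.{u} x216 s582 := chk_ok .nil .nil c582
theorem v583 : Valid.{u} x216 s583 := chk_ok (.cons v579 (.cons v581 (.cons v582 .nil))) .nil c583
theorem v584 : Valid.{u} x216 s584 := chk_ok (.cons v583 .nil) .nil c584
theorem v585 : Valid.{u} x216 s585 := chk_ok (.cons v584 .nil) (.cons k122 .nil) c585
theorem v586 : Valid.{u} x218 s586 := chk_ok .nil (.cons k158 .nil) c586
theorem v587 : Valid.{u} x218 s587 := chk_ok .nil .nil c587
theorem v588 : Valid.{u} x218 s588 := chk_ok (.cons v586 (.cons v587 .nil)) (.cons k158 .nil) c588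
theorem v589 : Valid.{u} x218 s589 := chk_ok (.cons v588 .nil) .nil c589
theorem v590 : Valid.{u} x218 s590 := chk_ok (.cons v589 .nil) (.cons k122 .nil) c590
theorem v591 : Valid.{u} x220 s591 := chk_ok .nil .nil c591
theorem v592 : Valid.{u} x221 s592 := chk_ok .nil .nil c592
theorem v593 : Valid.{u} x210 s593 := chk_ok (.cons v567 (.cons v568 (.cons v573 (.cons v577 (.cons v585 (.cons v590 (.cons v591 (.cons v592 .nil)))))))) (.cons k141 (.cons k164 (.cons k122 (.cons k163 .nil)))) c593
theorem v594 : Valid.{u} x210 s594 := chk_ok (.cons v566 (.cons v593 .nil)) .nil c594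
theorem v595 : Valid.{u} x222 s595 := chk_ok .nil (.cons k288 .nil) c595
theorem v596 : Valid.{u} x224 s596 := chk_ok .nil .nil c596
theorem v597 : Valid.{u} x224 s597 := chk_ok (.cons v596 .nil) .nil c597
theorem v598 : Valid.{u} x224 s598 := chk_ok (.cons v597 .nil) (.cons k175 .nil) c598
theorem v599 : Valid.{u} x225 s599 := chk_ok .nil .nil c599
theorem v600 : Valid.{u} x225 s600 := chk_ok (.cons v599 .nil) .nil c600
theorem v601 : Valid.{u} x225 s601 := chk_ok (.cons v600 .nil) (.cons k175 .nil) c601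
theorem v602 : Valid.{u} x226 s602 := chk_ok .nil .nil c602
theorem v603 : Valid.{u} x227 s603 := chk_ok .nil .nil c603
theorem v604 : Valid.{u} x228 s604 := chk_ok .nil .nil c604
theorem v605 : Valid.{u} x229 s605 := chk_ok .nil .nil c605
theorem v606 : Valid.{u} x230 s606 := chk_ok .nil .nil c606
theorem v607 : Valid.{u} x230 s607 := chk_ok (.cons v606 .nil) .nil c607
theorem v608 : Valid.{u} x230 s608 := chk_ok (.cons v607 .nil) .nil c608
theorem v609 : Valid.{u} x230 s609 := chk_ok (.cons v608 .nil) (.cons k184 .nil) c609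
theorem v610 : Valid.{u} x231 s610 := chk_ok .nil .nil c610
theorem v611 : Valid.{u} x231 s611 := chk_ok .nil .nil c611
theorem v612 : Valid.{u} x231 s612 := chk_ok .nil .nil c612
theorem v613 : Valid.{u} x231 s613 := chk_ok .nil .nil c613
theorem v614 : Valid.{u} x231 s614 := chk_ok .nil .nil c614
theorem v615 : Valid.{u} x231 s615 := chk_ok .nil .nil c615
theorem v616 : Valid.{u} x231 s616 := chk_ok .nil .nil c616
theorem v617 : Valid.{u} x231 s617 := chk_ok .nil .nil c617
theorem v618 : Valid.{u} x231 s618 := chk_ok .nil .nil c618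
theorem v619 : Valid.{u} x231 s619 := chk_ok .nil .nil c619
theorem v620 : Valid.{u} x231 s620 := chk_ok .nil .nil c620
theorem v621 : Valid.{u} x231 s621 := chk_ok .nil .nil c621
theorem v622 : Valid.{u} x231 s622 := chk_ok .nil .nil c622
theorem v623 : Valid.{u} x231 s623 := chk_ok .nil .nil c623
theorem v624 : Valid.{u} x231 s624 := chk_ok .nil .nil c624
theorem v625 : Valid.{u} x231 s625 := chk_ok .nil .nil c625
theorem v626 : Valid.{u} x231 s626 := chk_ok .nil .nil c626
theorem v627 : Valid.{u} x231 s627 := chk_ok .nil .nil c627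
theorem v628 : Valid.{u} x231 s628 := chk_ok (.cons v610 (.cons v611 (.cons v612 (.cons v613 (.cons v614 (.cons v615 (.cons v616 (.cons v617 (.cons v618 (.cons v619 (.cons v620 (.cons v621 (.cons v622 (.cons v623 (.cons v624 (.cons v625 (.cons v626 (.cons v627 .nil)))))))))))))))))) .nil c628
theorem v629 : Valid.{u} x231 s629 := chk_ok (.cons v628 .nil) .nil c629
theorem v630 : Valid.{u} x231 s630 := chk_ok (.cons v629 .nil) (.cons k184 .nil) c630
theorem v631 : Valid.{u} x222 s631 := chk_ok (.cons v598 (.cons v601 (.cons v602 (.cons v603 (.cons v604 (.cons v605 (.cons v609 (.cons v630 .nil)))))))) (.cons k175 (.cons k187 (.cons k174 (.cons k184 .nil)))) c631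
theorem v632 : Valid.{u} x222 s632 := chk_ok (.cons v595 (.cons v631 .nil)) .nil c632
theorem v633 : Valid.{u} x232 s633 := chk_ok .nil (.cons k288 .nil) c633
theorem v634 : Valid.{u} x234 s634 := chk_ok .nil .nil c634
theorem v635 : Valid.{u} x234 s635 := chk_ok (.cons v634 .nil) .nil c635
theorem v636 : Valid.{u} x234 s636 := chk_ok (.cons v635 .nil) .nil c636
theorem v637 : Valid.{u} x234 s637 := chk_ok (.cons v636 .nil) (.cons k175 .nil) c637
theorem v638 : Valid.{u} x235 s638 := chk_ok .nil .nil c638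
theorem v639 : Valid.{u} x235 s639 := chk_ok .nil .nil c639
theorem v640 : Valid.{u} x235 s640 := chk_ok .nil .nil c640
theorem v641 : Valid.{u} x235 s641 := chk_ok .nil .nil c641
theorem v642 : Valid.{u} x235 s642 := chk_ok .nil .nil c642
theorem v643 : Valid.{u} x235 s643 := chk_ok .nil .nil c643
theorem v644 : Valid.{u} x235 s644 := chk_ok .nil .nil c644
theorem v645 : Valid.{u} x235 s645 := chk_ok .nil .nil c645
theorem v646 : Valid.{u} x235 s646 := chk_ok (.cons v638 (.cons v639 (.cons v640 (.cons v641 (.cons v642 (.cons v643 (.cons v644 (.cons v645 .nil)))))))) .nil c646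
theorem v647 : Valid.{u} x235 s647 := chk_ok (.cons v646 .nil) .nil c647
theorem v648 : Valid.{u} x235 s648 := chk_ok (.cons v647 .nil) (.cons k175 .nil) c648
theorem v649 : Valid.{u} x236 s649 := chk_ok .nil .nil c649
theorem v650 : Valid.{u} x237 s650 := chk_ok .nil .nil c650
theorem v651 : Valid.{u} x238 s651 := chk_ok .nil .nil c651
theorem v652 : Valid.{u} x239 s652 := chk_ok .nil .nil c652
theorem v653 : Valid.{u} x240 s653 := chk_ok .nil .nil c653
theorem v654 : Valid.{u} x240 s654 := chk_ok (.cons v653 .nil) .nil c654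
theorem v655 : Valid.{u} x240 s655 := chk_ok (.cons v654 .nil) .nil c655
theorem v656 : Valid.{u} x240 s656 := chk_ok (.cons v655 .nil) (.cons k184 .nil) c656
theorem v657 : Valid.{u} x241 s657 := chk_ok .nil .nil c657
theorem v658 : Valid.{u} x241 s658 := chk_ok (.cons v657 .nil) .nil c658
theorem v659 : Valid.{u} x241 s659 := chk_ok (.cons v658 .nil) (.cons k184 .nil) c659
theorem v660 : Valid.{u} x232 s660 := chk_ok (.cons v637 (.cons v648 (.cons v649 (.cons v650 (.cons v651 (.cons v652 (.cons v656 (.cons v659 .nil)))))))) (.cons k175 (.cons k187 (.cons k174 (.cons k184 .nil)))) c660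
theorem v661 : Valid.{u} x232 s661 := chk_ok (.cons v633 (.cons v660 .nil)) .nil c661
theorem v662 : Valid.{u} x242 s662 := chk_ok .nil (.cons k300 .nil) c662
theorem v663 : Valid.{u} x244 s663 := chk_ok .nil .nil c663
theorem v664 : Valid.{u} x245 s664 := chk_ok .nil .nil c664
theorem v665 : Valid.{u} x246 s665 := chk_ok .nil .nil c665
theorem v666 : Valid.{u} x246 s666 := chk_ok (.cons v665 .nil) .nil c666
theorem v667 : Valid.{u} x246 s667 := chk_ok (.cons v666 .nil) .nil c667
theorem v668 : Valid.{u} x246 s668 := chk_ok (.cons v667 .nil) (.cons k186 .nil) c668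
theorem v669 : Valid.{u} x247 s669 := chk_ok .nil .nil c669
theorem v670 : Valid.{u} x247 s670 := chk_ok (.cons v669 .nil) .nil c670
theorem v671 : Valid.{u} x247 s671 := chk_ok (.cons v670 .nil) (.cons k186 .nil) c671
theorem v672 : Valid.{u} x248 s672 := chk_ok .nil .nil c672
theorem v673 : Valid.{u} x248 s673 := chk_ok (.cons v672 .nil) .nil c673
theorem v674 : Valid.{u} x248 s674 := chk_ok (.cons v673 .nil) (.cons k173 .nil) c674
theorem v675 : Valid.{u} x249 s675 := chk_ok .nil .nil c675
theorem v676 : Valid.{u} x249 s676 := chk_ok .nil .nil c676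
theorem v677 : Valid.{u} x249 s677 := chk_ok .nil .nil c677
theorem v678 : Valid.{u} x249 s678 := chk_ok .nil .nil c678
theorem v679 : Valid.{u} x249 s679 := chk_ok .nil .nil c679
theorem v680 : Valid.{u} x249 s680 := chk_ok .nil .nil c680
theorem v681 : Valid.{u} x249 s681 := chk_ok .nil .nil c681
theorem v682 : Valid.{u} x249 s682 := chk_ok .nil .nil c682
theorem v683 : Valid.{u} x249 s683 := chk_ok .nil .nil c683
theorem v684 : Valid.{u} x249 s684 := chk_ok .nil .nil c684
theorem v685 : Valid.{u} x249 s685 := chk_ok .nil .nil c685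
theorem v686 : Valid.{u} x249 s686 := chk_ok .nil .nil c686
theorem v687 : Valid.{u} x249 s687 := chk_ok .nil .nil c687
theorem v688 : Valid.{u} x249 s688 := chk_ok .nil .nil c688
theorem v689 : Valid.{u} x249 s689 := chk_ok .nil .nil c689
theorem v690 : Valid.{u} x249 s690 := chk_ok .nil .nil c690
theorem v691 : Valid.{u} x249 s691 := chk_ok .nil .nil c691
theorem v692 : Valid.{u} x249 s692 := chk_ok .nil .nil c692
theorem v693 : Valid.{u} x249 s693 := chk_ok (.cons v675 (.cons v676 (.cons v677 (.cons v678 (.cons v679 (.cons v680 (.cons v681 (.cons v682 (.cons v683 (.cons v684 (.cons v685 (.cons v686 (.cons v687 (.cons v688 (.cons v689 (.cons v690 (.cons v691 (.cons v692 .nil)))))))))))))))))) .nil c693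
theorem v694 : Valid.{u} x249 s694 := chk_ok (.cons v693 .nil) .nil c694
theorem v695 : Valid.{u} x249 s695 := chk_ok (.cons v694 .nil) (.cons k173 .nil) c695
theorem v696 : Valid.{u} x250 s696 := chk_ok .nil .nil c696
theorem v697 : Valid.{u} x251 s697 := chk_ok .nil .nil c697
theorem v698 : Valid.{u} x242 s698 := chk_ok (.cons v663 (.cons v664 (.cons v668 (.cons v671 (.cons v674 (.cons v695 (.cons v696 (.cons v697 .nil)))))))) (.cons k176 (.cons k186 (.cons k173 (.cons k185 .nil)))) c698
theorem v699 : Valid.{u} x242 s699 := chk_ok (.cons v662 (.cons v698 .nil)) .nil c699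
theorem v700 : Valid.{u} x252 s700 := chk_ok .nil (.cons k300 .nil) c700
theorem v701 : Valid.{u} x254 s701 := chk_ok .nil .nil c701
theorem v702 : Valid.{u} x255 s702 := chk_ok .nil .nil c702
theorem v703 : Valid.{u} x256 s703 := chk_ok .nil .nil c703
theorem v704 : Valid.{u} x256 s704 := chk_ok .nil .nil c704
theorem v705 : Valid.{u} x256 s705 := chk_ok .nil .nil c705
theorem v706 : Valid.{u} x256 s706 := chk_ok .nil .nil c706
theorem v707 : Valid.{u} x256 s707 := chk_ok .nil .nil c707
theorem v708 : Valid.{u} x256 s708 := chk_ok (.cons v703 (.cons v704 (.cons v705 (.cons v706 (.cons v707 .nil))))) .nil c708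
theorem v709 : Valid.{u} x256 s709 := chk_ok (.cons v708 .nil) .nil c709
theorem v710 : Valid.{u} x256 s710 := chk_ok (.cons v709 .nil) (.cons k186 .nil) c710
theorem v711 : Valid.{u} x257 s711 := chk_ok .nil .nil c711
theorem v712 : Valid.{u} x257 s712 := chk_ok .nil .nil c712
theorem v713 : Valid.{u} x257 s713 := chk_ok (.cons v711 (.cons v712 .nil)) .nil c713
theorem v714 : Valid.{u} x257 s714 := chk_ok (.cons v713 .nil) .nil c714
theorem v715 : Valid.{u} x257 s715 := chk_ok (.cons v714 .nil) (.cons k186 .nil) c715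
theorem v716 : Valid.{u} x258 s716 := chk_ok .nil .nil c716
theorem v717 : Valid.{u} x258 s717 := chk_ok (.cons v716 .nil) .nil c717
theorem v718 : Valid.{u} x258 s718 := chk_ok (.cons v717 .nil) (.cons k173 .nil) c718
theorem v719 : Valid.{u} x259 s719 := chk_ok .nil .nil c719
theorem v720 : Valid.{u} x259 s720 := chk_ok (.cons v719 .nil) .nil c720
theorem v721 : Valid.{u} x259 s721 := chk_ok (.cons v720 .nil) (.cons k173 .nil) c721
theorem v722 : Valid.{u} x260 s722 := chk_ok .nil .nil c722
theorem v723 : Valid.{u} x261 s723 := chk_ok .nil .nil c723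
theorem v724 : Valid.{u} x252 s724 := chk_ok (.cons v701 (.cons v702 (.cons v710 (.cons v715 (.cons v718 (.cons v721 (.cons v722 (.cons v723 .nil)))))))) (.cons k176 (.cons k186 (.cons k173 (.cons k185 .nil)))) c724
theorem v725 : Valid.{u} x252 s725 := chk_ok (.cons v700 (.cons v724 .nil)) .nil c725
theorem v726 : Valid.{u} x262 s726 := chk_ok .nil .nil c726
theorem v727 : Valid.{u} x263 s727 := chk_ok .nil .nil c727
theorem v728 : Valid.{u} x264 s728 := chk_ok .nil (.cons k252 .nil) c728
theorem v729 : Valid.{u} x264 s729 := chk_ok (.cons v728 .nil) (.cons k252 .nil) c729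
theorem v730 : Valid.{u} x264 s730 := chk_ok (.cons v366 (.cons v397 (.cons v420 (.cons v450 (.cons v239 (.cons v289 (.cons v318 (.cons v351 .nil)))))))) (.cons k226 (.cons k237 (.cons k195 (.cons k210 .nil)))) c730
theorem v731 : Valid.{u} x264 s731 := chk_ok (.cons v407 (.cons v434 (.cons v360 (.cons v391 (.cons v307 (.cons v340 (.cons v227 (.cons v272 (.cons v730 .nil))))))))) (.cons k228 (.cons k239 (.cons k197 (.cons k212 .nil)))) c731
theorem v732 : Valid.{u} x264 s732 := chk_ok (.cons v673 (.cons v720 (.cons v608 (.cons v658 (.cons v538 (.cons v589 (.cons v471 (.cons v518 .nil)))))))) (.cons k173 (.cons k184 (.cons k122 (.cons k162 .nil)))) c732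
theorem v733 : Valid.{u} x264 s733 := chk_ok (.cons v729 (.cons v731 (.cons v597 (.cons v647 (.cons v667 (.cons v714 (.cons v457 (.cons v493 (.cons v528 (.cons v576 (.cons v732 .nil))))))))))) (.cons k175 (.cons k186 (.cons k140 (.cons k164 .nil)))) c733
theorem v734 : Valid.{u} x264 s734 := chk_ok (.cons v733 .nil) (.cons k246 .nil) c734
theorem v735 : Valid.{u} x266 s735 := chk_ok .nil (.cons k252 .nil) c735
theorem v736 : Valid.{u} x266 s736 := chk_ok (.cons v394 (.cons v372 (.cons v446 (.cons v423 (.cons v281 (.cons v247 (.cons v347 (.cons v321 .nil)))))))) (.cons k226 (.cons k237 (.cons k195 (.cons k210 .nil)))) c736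
theorem v737 : Valid.{u} x266 s737 := chk_ok (.cons v430 (.cons v410 (.cons v387 (.cons v363 (.cons v329 (.cons v310 (.cons v260 (.cons v230 (.cons v736 .nil))))))))) (.cons k228 (.cons k239 (.cons k197 (.cons k212 .nil)))) c737
theorem v738 : Valid.{u} x266 s738 := chk_ok (.cons v717 (.cons v694 (.cons v655 (.cons v629 (.cons v584 (.cons v560 (.cons v506 (.cons v474 .nil)))))))) (.cons k173 (.cons k184 (.cons k122 (.cons k162 .nil)))) c738
theorem v739 : Valid.{u} x266 s739 := chk_ok (.cons v737 (.cons v636 (.cons v600 (.cons v709 (.cons v670 (.cons v482 (.cons v460 (.cons v572 (.cons v531 (.cons v738 .nil)))))))))) (.cons k175 (.cons k186 (.cons k140 (.cons k164 .nil)))) c739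
theorem v740 : Valid.{u} x268 s740 := chk_ok .nil .nil c740
theorem v741 : Valid.{u} x268 s741 := chk_ok (.cons v740 .nil) .nil c741
theorem v742 : Valid.{u} x269 s742 := chk_ok .nil .nil c742
theorem v743 : Valid.{u} x269 s743 := chk_ok (.cons v742 .nil) .nil c743
theorem v744 : Valid.{u} x269 s744 := chk_ok (.cons v743 .nil) .nil c744
theorem v745 : Valid.{u} x270 s745 := chk_ok .nil .nil c745
theorem v746 : Valid.{u} x270 s746 := chk_ok (.cons v745 .nil) .nil c746
theorem v747 : Valid.{u} x271 s747 := chk_ok .nil .nil c747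
theorem v748 : Valid.{u} x271 s748 := chk_ok (.cons v747 .nil) .nil c748
theorem v749 : Valid.{u} x271 s749 := chk_ok (.cons v748 .nil) .nil c749
theorem v750 : Valid.{u} x272 s750 := chk_ok .nil .nil c750
theorem v751 : Valid.{u} x272 s751 := chk_ok (.cons v750 .nil) .nil c751
theorem v752 : Valid.{u} x273 s752 := chk_ok .nil .nil c752
theorem v753 : Valid.{u} x273 s753 := chk_ok (.cons v752 .nil) .nil c753
theorem v754 : Valid.{u} x273 s754 := chk_ok (.cons v753 .nil) .nil c754
theorem v755 : Valid.{u} x274 s755 := chk_ok .nil .nil c755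
theorem v756 : Valid.{u} x274 s756 := chk_ok (.cons v755 .nil) .nil c756
theorem v757 : Valid.{u} x275 s757 := chk_ok .nil .nil c757
theorem v758 : Valid.{u} x275 s758 := chk_ok (.cons v757 .nil) .nil c758
theorem v759 : Valid.{u} x275 s759 := chk_ok (.cons v758 .nil) .nil c759
theorem v760 : Valid.{u} x276 s760 := chk_ok .nil .nil c760
theorem v761 : Valid.{u} x276 s761 := chk_ok (.cons v760 .nil) .nil c761
theorem v762 : Valid.{u} x276 s762 := chk_ok (.cons v761 .nil) .nil c762
theorem v763 : Valid.{u} x277 s763 := chk_ok .nil .nil c763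
theorem v764 : Valid.{u} x277 s764 := chk_ok (.cons v763 .nil) .nil c764
theorem v765 : Valid.{u} x277 s765 := chk_ok (.cons v764 .nil) .nil c765
theorem v766 : Valid.{u} x278 s766 := chk_ok .nil .nil c766
theorem v767 : Valid.{u} x278 s767 := chk_ok (.cons v766 .nil) .nil c767
theorem v768 : Valid.{u} x278 s768 := chk_ok (.cons v767 .nil) .nil c768
theorem v769 : Valid.{u} x279 s769 := chk_ok .nil .nil c769
theorem v770 : Valid.{u} x279 s770 := chk_ok (.cons v769 .nil) .nil c770
theorem v771 : Valid.{u} x279 s771 := chk_ok (.cons v770 .nil) .nil c771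
theorem v772 : Valid.{u} x280 s772 := chk_ok .nil .nil c772
theorem v773 : Valid.{u} x280 s773 := chk_ok .nil .nil c773
theorem v774 : Valid.{u} x280 s774 := chk_ok (.cons v772 (.cons v773 .nil)) .nil c774
theorem v775 : Valid.{u} x280 s775 := chk_ok (.cons v774 .nil) .nil c775
theorem v776 : Valid.{u} x281 s776 := chk_ok .nil .nil c776
theorem v777 : Valid.{u} x281 s777 := chk_ok .nil .nil c777
theorem v778 : Valid.{u} x281 s778 := chk_ok (.cons v776 (.cons v777 .nil)) .nil c778
theorem v779 : Valid.{u} x281 s779 := chk_ok (.cons v778 .nil) .nil c779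
theorem v780 : Valid.{u} x282 s780 := chk_ok .nil .nil c780
theorem v781 : Valid.{u} x282 s781 := chk_ok .nil .nil c781
theorem v782 : Valid.{u} x282 s782 := chk_ok (.cons v780 (.cons v781 .nil)) .nil c782
theorem v783 : Valid.{u} x282 s783 := chk_ok (.cons v782 .nil) .nil c783
theorem v784 : Valid.{u} x283 s784 := chk_ok .nil .nil c784
theorem v785 : Valid.{u} x283 s785 := chk_ok .nil .nil c785
theorem v786 : Valid.{u} x283 s786 := chk_ok (.cons v784 (.cons v785 .nil)) .nil c786
theorem v787 : Valid.{u} x283 s787 := chk_ok (.cons v786 .nil) .nil c787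
theorem v788 : Valid.{u} x266 s788 := chk_ok (.cons v741 (.cons v744 (.cons v746 (.cons v749 (.cons v751 (.cons v754 (.cons v756 (.cons v759 (.cons v762 (.cons v765 (.cons v768 (.cons v771 (.cons v775 (.cons v779 (.cons v783 (.cons v787 .nil)))))))))))))))) .nil c788
theorem v789 : Valid.{u} x284 s789 := chk_ok .nil .nil c789
theorem v790 : Valid.{u} x284 s790 := chk_ok (.cons v789 .nil) .nil c790
theorem v791 : Valid.{u} x284 s791 := chk_ok (.cons v790 .nil) .nil c791
theorem v792 : Valid.{u} x285 s792 := chk_ok .nil .nil c792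
theorem v793 : Valid.{u} x285 s793 := chk_ok .nil .nil c793
theorem v794 : Valid.{u} x285 s794 := chk_ok (.cons v792 (.cons v793 .nil)) .nil c794
theorem v795 : Valid.{u} x285 s795 := chk_ok (.cons v794 .nil) .nil c795
theorem v796 : Valid.{u} x286 s796 := chk_ok .nil .nil c796
theorem v797 : Valid.{u} x286 s797 := chk_ok (.cons v796 .nil) .nil c797
theorem v798 : Valid.{u} x287 s798 := chk_ok .nil .nil c798
theorem v799 : Valid.{u} x287 s799 := chk_ok .nil .nil c799
theorem v800 : Valid.{u} x287 s800 := chk_ok (.cons v798 (.cons v799 .nil)) .nil c800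
theorem v801 : Valid.{u} x287 s801 := chk_ok (.cons v800 .nil) .nil c801
theorem v802 : Valid.{u} x287 s802 := chk_ok (.cons v801 .nil) .nil c802
theorem v803 : Valid.{u} x288 s803 := chk_ok .nil .nil c803
theorem v804 : Valid.{u} x288 s804 := chk_ok (.cons v803 .nil) .nil c804
theorem v805 : Valid.{u} x288 s805 := chk_ok (.cons v804 .nil) .nil c805
theorem v806 : Valid.{u} x289 s806 := chk_ok .nil .nil c806
theorem v807 : Valid.{u} x289 s807 := chk_ok .nil .nil c807
theorem v808 : Valid.{u} x289 s808 := chk_ok .nil .nil c808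
theorem v809 : Valid.{u} x289 s809 := chk_ok .nil .nil c809
theorem v810 : Valid.{u} x289 s810 := chk_ok (.cons v806 (.cons v807 (.cons v808 (.cons v809 .nil)))) .nil c810
theorem v811 : Valid.{u} x289 s811 := chk_ok (.cons v810 .nil) .nil c811
theorem v812 : Valid.{u} x290 s812 := chk_ok .nil .nil c812
theorem v813 : Valid.{u} x290 s813 := chk_ok (.cons v812 .nil) .nil c813
theorem v814 : Valid.{u} x290 s814 := chk_ok (.cons v813 .nil) .nil c814
theorem v815 : Valid.{u} x291 s815 := chk_ok .nil .nil c815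
theorem v816 : Valid.{u} x291 s816 := chk_ok .nil .nil c816
theorem v817 : Valid.{u} x291 s817 := chk_ok (.cons v815 (.cons v816 .nil)) .nil c817
theorem v818 : Valid.{u} x291 s818 := chk_ok (.cons v817 .nil) .nil c818
theorem v819 : Valid.{u} x266 s819 := chk_ok (.cons v735 (.cons v739 (.cons v788 (.cons v791 (.cons v795 (.cons v797 (.cons v802 (.cons v805 (.cons v811 (.cons v814 (.cons v818 .nil))))))))))) .nil c819
theorem v820 : Valid.{u} x266 s820 := chk_ok (.cons v819 .nil) (.cons k246 .nil) c820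
theorem v821 : Valid.{u} x292 s821 := chk_ok .nil (.cons k225 .nil) c821
theorem v822 : Valid.{u} x292 s822 := chk_ok (.cons v821 (.cons v431 (.cons v408 (.cons v379 (.cons v356 (.cons v395 (.cons v367 (.cons v438 (.cons v414 .nil))))))))) .nil c822
theorem v823 : Valid.{u} x294 s823 := chk_ok .nil (.cons k225 .nil) c823
theorem v824 : Valid.{u} x294 s824 := chk_ok (.cons v823 (.cons v411 (.cons v435 (.cons v357 (.cons v380 (.cons v373 (.cons v398 (.cons v415 (.cons v439 .nil))))))))) .nil c824
theorem v825 : Valid.{u} x296 s825 := chk_ok .nil (.cons k236 .nil) c825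
theorem v826 : Valid.{u} x296 s826 := chk_ok (.cons v825 (.cons v388 (.cons v361 (.cons v436 (.cons v412 (.cons v447 (.cons v421 (.cons v399 (.cons v374 .nil))))))))) .nil c826
theorem v827 : Valid.{u} x298 s827 := chk_ok .nil (.cons k236 .nil) c827
theorem v828 : Valid.{u} x298 s828 := chk_ok (.cons v827 (.cons v364 (.cons v392 (.cons v413 (.cons v437 (.cons v424 (.cons v451 (.cons v375 (.cons v400 .nil))))))))) .nil c828
theorem v829 : Valid.{u} x300 s829 := chk_ok .nil (.cons k194 .nil) c829
theorem v830 : Valid.{u} x300 s830 := chk_ok (.cons v829 (.cons v330 (.cons v308 (.cons v254 (.cons v223 (.cons v282 (.cons v240 (.cons v344 (.cons v314 .nil))))))))) .nil c830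
theorem v831 : Valid.{u} x302 s831 := chk_ok .nil (.cons k194 .nil) c831
theorem v832 : Valid.{u} x302 s832 := chk_ok (.cons v831 (.cons v311 (.cons v341 (.cons v224 (.cons v255 (.cons v248 (.cons v290 (.cons v315 (.cons v345 .nil))))))))) .nil c832
theorem v833 : Valid.{u} x304 s833 := chk_ok .nil (.cons k209 .nil) c833
theorem v834 : Valid.{u} x304 s834 := chk_ok (.cons v261 (.cons v228 (.cons v342 (.cons v312 (.cons v348 (.cons v319 (.cons v291 (.cons v249 .nil)))))))) .nil c834
theorem v835 : Valid.{u} x304 s835 := chk_ok (.cons v833 (.cons v834 .nil)) .nil c835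
theorem v836 : Valid.{u} x306 s836 := chk_ok .nil (.cons k209 .nil) c836
theorem v837 : Valid.{u} x306 s837 := chk_ok (.cons v836 (.cons v231 (.cons v273 (.cons v313 (.cons v343 (.cons v322 (.cons v352 (.cons v250 (.cons v292 .nil))))))))) .nil c837
theorem v838 : Valid.{u} x308 s838 := chk_ok .nil (.cons k172 .nil) c838
theorem v839 : Valid.{u} x308 s839 := chk_ok (.cons v838 (.cons v637 (.cons v598 (.cons v701 (.cons v663 (.cons v718 (.cons v674 (.cons v651 (.cons v604 .nil))))))))) .nil c839
theorem v840 : Valid.{u} x310 s840 := chk_ok .nil (.cons k172 .nil) c840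
theorem v841 : Valid.{u} x310 s841 := chk_ok (.cons v840 (.cons v601 (.cons v648 (.cons v664 (.cons v702 (.cons v695 (.cons v721 (.cons v605 (.cons v652 .nil))))))))) .nil c841
theorem v842 : Valid.{u} x312 s842 := chk_ok .nil (.cons k183 .nil) c842
theorem v843 : Valid.{u} x312 s843 := chk_ok (.cons v842 (.cons v710 (.cons v668 (.cons v649 (.cons v602 (.cons v656 (.cons v609 (.cons v722 (.cons v696 .nil))))))))) .nil c843
theorem v844 : Valid.{u} x314 s844 := chk_ok .nil (.cons k183 .nil) c844
theorem v845 : Valid.{u} x314 s845 := chk_ok (.cons v844 (.cons v671 (.cons v715 (.cons v603 (.cons v650 (.cons v630 (.cons v659 (.cons v697 (.cons v723 .nil))))))))) .nil c845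
theorem v846 : Valid.{u} x316 s846 := chk_ok .nil (.cons k121 .nil) c846
theorem v847 : Valid.{u} x316 s847 := chk_ok (.cons v846 (.cons v483 (.cons v458 (.cons v567 (.cons v523 (.cons v585 (.cons v539 (.cons v497 (.cons v464 .nil))))))))) .nil c847
theorem v848 : Valid.{u} x318 s848 := chk_ok .nil (.cons k121 .nil) c848
theorem v849 : Valid.{u} x318 s849 := chk_ok (.cons v848 (.cons v461 (.cons v494 (.cons v524 (.cons v568 (.cons v561 (.cons v590 (.cons v465 (.cons v498 .nil))))))))) .nil c849
theorem v850 : Valid.{u} x320 s850 := chk_ok .nil (.cons k161 .nil) c850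
theorem v851 : Valid.{u} x320 s851 := chk_ok (.cons v850 (.cons v573 (.cons v529 (.cons v495 (.cons v462 (.cons v507 (.cons v472 (.cons v591 (.cons v562 .nil))))))))) .nil c851
theorem v852 : Valid.{u} x322 s852 := chk_ok .nil (.cons k161 .nil) c852
theorem v853 : Valid.{u} x322 s853 := chk_ok (.cons v852 (.cons v532 (.cons v577 (.cons v463 (.cons v496 (.cons v475 (.cons v519 (.cons v563 (.cons v592 .nil))))))))) .nil c853
theorem v854 : Valid.{u} x96 s854 := chk_ok (.cons v822 (.cons v824 (.cons v826 (.cons v828 (.cons v830 (.cons v832 (.cons v835 (.cons v837 (.cons v839 (.cons v841 (.cons v843 (.cons v845 (.cons v847 (.cons v849 (.cons v851 (.cons v853 .nil)))))))))))))))) .nil c854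
theorem v855 : Valid.{u} x96 s855 := chk_ok (.cons v221 (.cons v252 (.cons v294 (.cons v324 (.cons v354 (.cons v377 (.cons v402 (.cons v426 (.cons v453 (.cons v477 (.cons v521 (.cons v565 (.cons v594 (.cons v632 (.cons v661 (.cons v699 (.cons v725 (.cons v726 (.cons v727 (.cons v734 (.cons v820 (.cons v854 .nil)))))))))))))))))))))) .nil c855
theorem v856 : Valid.{u} x96 s856 := chk_ok (.cons v855 .nil) (.cons k106 .nil) c856
theorem v857 : Valid.{u} x88 s857 := chk_ok (.cons v218 (.cons v219 (.cons v220 (.cons v856 .nil)))) .nil c857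
theorem v858 : Valid.{u} x88 s858 := chk_ok (.cons v217 (.cons v857 .nil)) .nil c858
theorem v859 : Valid.{u} x88 s859 := chk_ok (.cons v858 .nil) .nil c859
theorem v860 : Valid.{u} x324 s860 := chk_ok .nil .nil c860
theorem v861 : Valid.{u} x324 s861 := chk_ok (.cons v860 .nil) .nil c861
theorem v862 : Valid.{u} x326 s862 := chk_ok .nil .nil c862
theorem v863 : Valid.{u} x327 s863 := chk_ok .nil .nil c863
theorem v864 : Valid.{u} x328 s864 := chk_ok .nil .nil c864
theorem v865 : Valid.{u} x329 s865 := chk_ok .nil .nil c865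
theorem v866 : Valid.{u} x325 s866 := chk_ok (.cons v862 (.cons v863 (.cons v864 (.cons v865 .nil)))) .nil c866
theorem v867 : Valid.{u} x330 s867 := chk_ok .nil .nil c867
theorem v868 : Valid.{u} x331 s868 := chk_ok .nil .nil c868
theorem v869 : Valid.{u} x332 s869 := chk_ok .nil .nil c869
theorem v870 : Valid.{u} x333 s870 := chk_ok .nil (.cons k385 .nil) c870
theorem v871 : Valid.{u} x335 s871 := chk_ok .nil (.cons k391 .nil) c871
theorem v872 : Valid.{u} x335 s872 := chk_ok (.cons v871 .nil) .nil c872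
theorem v873 : Valid.{u} x335 s873 := chk_ok (.cons v872 .nil) (.cons k386 .nil) c873
theorem v874 : Valid.{u} x337 s874 := chk_ok .nil (.cons k391 .nil) c874
theorem v875 : Valid.{u} x337 s875 := chk_ok (.cons v874 .nil) .nil c875
theorem v876 : Valid.{u} x337 s876 := chk_ok (.cons v875 .nil) (.cons k386 .nil) c876
theorem v877 : Valid.{u} x339 s877 := chk_ok .nil .nil c877
theorem v878 : Valid.{u} x340 s878 := chk_ok .nil .nil c878
theorem v879 : Valid.{u} x333 s879 := chk_ok (.cons v870 (.cons v873 (.cons v876 (.cons v877 (.cons v878 .nil))))) .nil c879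
theorem v880 : Valid.{u} x333 s880 := chk_ok (.cons v879 .nil) (.cons k382 .nil) c880
theorem v881 : Valid.{u} x325 s881 := chk_ok (.cons v867 (.cons v868 (.cons v869 (.cons v880 .nil)))) .nil c881
theorem v882 : Valid.{u} x325 s882 := chk_ok (.cons v866 (.cons v881 .nil)) .nil c882
theorem v883 : Valid.{u} x325 s883 := chk_ok (.cons v882 .nil) .nil c883
theorem v884 : Valid.{u} x52 s884 := chk_ok (.cons v212 (.cons v859 (.cons v861 (.cons v883 .nil)))) .nil c884
theorem v885 : Valid.{u} x52 s885 := chk_ok (.cons v884 .nil) .nil c885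
theorem v886 : Valid.{u} x52 s886 := chk_ok (.cons v885 .nil) .nil c886
theorem v887 : Valid.{u} x52 s887 := chk_ok (.cons v210 (.cons v886 .nil)) .nil c887
theorem v888 : Valid.{u} x342 s888 := chk_ok .nil .nil c888
theorem v889 : Valid.{u} x342 s889 := chk_ok (.cons v888 .nil) .nil c889
theorem v890 : Valid.{u} x343 s890 := chk_ok .nil .nil c890
theorem v891 : Valid.{u} x344 s891 := chk_ok .nil .nil c891
theorem v892 : Valid.{u} x345 s892 := chk_ok .nil .nil c892
theorem v893 : Valid.{u} x345 s893 := chk_ok (.cons v892 .nil) .nil c893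
theorem v894 : Valid.{u} x345 s894 := chk_ok (.cons v893 .nil) (.cons k16 .nil) c894
theorem v895 : Valid.{u} x343 s895 := chk_ok (.cons v891 (.cons v894 .nil)) (.cons k15 (.cons k16 .nil)) c895
theorem v896 : Valid.{u} x343 s896 := chk_ok (.cons v890 (.cons v895 .nil)) .nil c896
theorem v897 : Valid.{u} x343 s897 := chk_ok (.cons v896 .nil) .nil c897
theorem v898 : Valid.{u} x346 s898 := chk_ok .nil .nil c898
theorem v899 : Valid.{u} x347 s899 := chk_ok .nil .nil c899
theorem v900 : Valid.{u} x348 s900 := chk_ok .nil .nil c900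
theorem v901 : Valid.{u} x349 s901 := chk_ok .nil .nil c901
theorem v902 : Valid.{u} x349 s902 := chk_ok (.cons v901 .nil) .nil c902
theorem v903 : Valid.{u} x350 s903 := chk_ok .nil .nil c903
theorem v904 : Valid.{u} x350 s904 := chk_ok (.cons v903 .nil) .nil c904
theorem v905 : Valid.{u} x351 s905 := chk_ok .nil .nil c905
theorem v906 : Valid.{u} x351 s906 := chk_ok (.cons v905 .nil) .nil c906
theorem v907 : Valid.{u} x352 s907 := chk_ok .nil .nil c907
theorem v908 : Valid.{u} x352 s908 := chk_ok (.cons v907 .nil) .nil c908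
theorem v909 : Valid.{u} x353 s909 := chk_ok .nil .nil c909
theorem v910 : Valid.{u} x353 s910 := chk_ok (.cons v909 .nil) .nil c910
theorem v911 : Valid.{u} x354 s911 := chk_ok .nil .nil c911
theorem v912 : Valid.{u} x354 s912 := chk_ok (.cons v911 .nil) .nil c912
theorem v913 : Valid.{u} x355 s913 := chk_ok .nil .nil c913
theorem v914 : Valid.{u} x355 s914 := chk_ok (.cons v913 .nil) .nil c914
theorem v915 : Valid.{u} x356 s915 := chk_ok .nil .nil c915
theorem v916 : Valid.{u} x356 s916 := chk_ok (.cons v915 .nil) .nil c916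
theorem v917 : Valid.{u} x357 s917 := chk_ok .nil .nil c917
theorem v918 : Valid.{u} x357 s918 := chk_ok (.cons v917 .nil) .nil c918
theorem v919 : Valid.{u} x358 s919 := chk_ok .nil .nil c919
theorem v920 : Valid.{u} x358 s920 := chk_ok (.cons v919 .nil) .nil c920
theorem v921 : Valid.{u} x359 s921 := chk_ok .nil .nil c921
theorem v922 : Valid.{u} x359 s922 := chk_ok (.cons v921 .nil) .nil c922
theorem v923 : Valid.{u} x360 s923 := chk_ok .nil .nil c923
theorem v924 : Valid.{u} x360 s924 := chk_ok (.cons v923 .nil) .nil c924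
theorem v925 : Valid.{u} x361 s925 := chk_ok .nil .nil c925
theorem v926 : Valid.{u} x361 s926 := chk_ok (.cons v925 .nil) .nil c926
theorem v927 : Valid.{u} x362 s927 := chk_ok .nil .nil c927
theorem v928 : Valid.{u} x362 s928 := chk_ok (.cons v927 .nil) .nil c928
theorem v929 : Valid.{u} x363 s929 := chk_ok .nil .nil c929
theorem v930 : Valid.{u} x363 s930 := chk_ok (.cons v929 .nil) .nil c930
theorem v931 : Valid.{u} x364 s931 := chk_ok .nil .nil c931
theorem v932 : Valid.{u} x364 s932 := chk_ok (.cons v931 .nil) .nil c932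
theorem v933 : Valid.{u} x348 s933 := chk_ok (.cons v900 (.cons v902 (.cons v904 (.cons v906 (.cons v908 (.cons v910 (.cons v912 (.cons v914 (.cons v916 (.cons v918 (.cons v920 (.cons v922 (.cons v924 (.cons v926 (.cons v928 (.cons v930 (.cons v932 .nil))))))))))))))))) .nil c933
theorem v934 : Valid.{u} x348 s934 := chk_ok (.cons v933 .nil) (.cons k19 .nil) c934
theorem v935 : Valid.{u} x346 s935 := chk_ok (.cons v899 (.cons v934 .nil)) (.cons k18 (.cons k19 .nil)) c935
theorem v936 : Valid.{u} x346 s936 := chk_ok (.cons v898 (.cons v935 .nil)) .nil c936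
theorem v937 : Valid.{u} x346 s937 := chk_ok (.cons v936 .nil) .nil c937
theorem v938 : Valid.{u} x365 s938 := chk_ok .nil .nil c938
theorem v939 : Valid.{u} x365 s939 := chk_ok (.cons v938 .nil) .nil c939
theorem v940 : Valid.{u} x341 s940 := chk_ok (.cons v889 (.cons v897 (.cons v937 (.cons v939 .nil)))) .nil c940
theorem v941 : Valid.{u} x341 s941 := chk_ok (.cons v940 .nil) .nil c941
theorem v942 : Valid.{u} x341 s942 := chk_ok (.cons v941 .nil) .nil c942
theorem v943 : Valid.{u} x366 s943 := chk_ok .nil .nil c943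
theorem v944 : Valid.{u} x367 s944 := chk_ok .nil .nil c944
theorem v945 : Valid.{u} x369 s945 := chk_ok .nil .nil c945
theorem v946 : Valid.{u} x370 s946 := chk_ok .nil .nil c946
theorem v947 : Valid.{u} x371 s947 := chk_ok .nil .nil c947
theorem v948 : Valid.{u} x371 s948 := chk_ok (.cons v947 .nil) .nil c948
theorem v949 : Valid.{u} x371 s949 := chk_ok (.cons v948 .nil) .nil c949
theorem v950 : Valid.{u} x371 s950 := chk_ok .nil .nil c950
theorem v951 : Valid.{u} x371 s951 := chk_ok (.cons v949 (.cons v950 .nil)) .nil c951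
theorem v952 : Valid.{u} x371 s952 := chk_ok (.cons v951 .nil) .nil c952
theorem v953 : Valid.{u} x371 s953 := chk_ok (.cons v948 (.cons v952 .nil)) .nil c953
theorem v954 : Valid.{u} x372 s954 := chk_ok .nil .nil c954
theorem v955 : Valid.{u} x368 s955 := chk_ok (.cons v945 (.cons v946 (.cons v953 (.cons v954 .nil)))) .nil c955
theorem v956 : Valid.{u} x368 s956 := chk_ok (.cons v955 .nil) .nil c956
theorem v957 : Valid.{u} x368 s957 := chk_ok (.cons v956 .nil) .nil c957
theorem v958 : Valid.{u} x368 s958 := chk_ok (.cons v957 .nil) .nil c958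
theorem v959 : Valid.{u} x368 s959 := chk_ok (.cons v958 .nil) .nil c959
theorem v960 : Valid.{u} x368 s960 := chk_ok (.cons v959 .nil) .nil c960
theorem v961 : Valid.{u} x368 s961 := chk_ok (.cons v960 .nil) .nil c961
theorem v962 : Valid.{u} x368 s962 := chk_ok (.cons v961 .nil) (.cons k9 .nil) c962
theorem v963 : Valid.{u} x368 s963 := chk_ok (.cons v962 .nil) .nil c963
theorem v964 : Valid.{u} x374 s964 := chk_ok .nil .nil c964
theorem v965 : Valid.{u} x375 s965 := chk_ok .nil .nil c965
theorem v966 : Valid.{u} x376 s966 := chk_ok .nil .nil c966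
theorem v967 : Valid.{u} x377 s967 := chk_ok .nil .nil c967
theorem v968 : Valid.{u} x377 s968 := chk_ok (.cons v967 .nil) .nil c968
theorem v969 : Valid.{u} x377 s969 := chk_ok (.cons v968 .nil) .nil c969
theorem v970 : Valid.{u} x377 s970 := chk_ok (.cons v969 .nil) .nil c970
theorem v971 : Valid.{u} x377 s971 := chk_ok (.cons v970 .nil) (.cons k13 .nil) c971
theorem v972 : Valid.{u} x373 s972 := chk_ok (.cons v964 (.cons v965 (.cons v966 (.cons v971 .nil)))) .nil c972
theorem v973 : Valid.{u} x373 s973 := chk_ok (.cons v972 .nil) .nil c973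
theorem v974 : Valid.{u} x373 s974 := chk_ok (.cons v973 .nil) .nil c974
theorem v975 : Valid.{u} x373 s975 := chk_ok (.cons v974 .nil) .nil c975
theorem v976 : Valid.{u} x373 s976 := chk_ok (.cons v975 .nil) .nil c976
theorem v977 : Valid.{u} x373 s977 := chk_ok (.cons v976 .nil) .nil c977
theorem v978 : Valid.{u} x373 s978 := chk_ok (.cons v977 .nil) .nil c978
theorem v979 : Valid.{u} x373 s979 := chk_ok (.cons v978 .nil) (.cons k9 .nil) c979
theorem v980 : Valid.{u} x373 s980 := chk_ok (.cons v979 .nil) .nil c980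
theorem v981 : Valid.{u} x341 s981 := chk_ok (.cons v943 (.cons v944 (.cons v963 (.cons v980 .nil)))) .nil c981
theorem v982 : Valid.{u} x341 s982 := chk_ok (.cons v981 .nil) .nil c982
theorem v983 : Valid.{u} x341 s983 := chk_ok (.cons v982 .nil) .nil c983
theorem v984 : Valid.{u} x341 s984 := chk_ok (.cons v942 (.cons v983 .nil)) .nil c984
theorem v985 : Valid.{u} x379 s985 := chk_ok .nil .nil c985
theorem v986 : Valid.{u} x380 s986 := chk_ok .nil .nil c986
theorem v987 : Valid.{u} x381 s987 := chk_ok .nil .nil c987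
theorem v988 : Valid.{u} x382 s988 := chk_ok .nil .nil c988
theorem v989 : Valid.{u} x382 s989 := chk_ok (.cons v988 .nil) .nil c989
theorem v990 : Valid.{u} x383 s990 := chk_ok .nil .nil c990
theorem v991 : Valid.{u} x383 s991 := chk_ok (.cons v990 .nil) .nil c991
theorem v992 : Valid.{u} x384 s992 := chk_ok .nil .nil c992
theorem v993 : Valid.{u} x384 s993 := chk_ok (.cons v992 .nil) .nil c993
theorem v994 : Valid.{u} x385 s994 := chk_ok .nil .nil c994
theorem v995 : Valid.{u} x385 s995 := chk_ok (.cons v994 .nil) .nil c995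
theorem v996 : Valid.{u} x386 s996 := chk_ok .nil .nil c996
theorem v997 : Valid.{u} x386 s997 := chk_ok (.cons v996 .nil) .nil c997
theorem v998 : Valid.{u} x387 s998 := chk_ok .nil .nil c998
theorem v999 : Valid.{u} x387 s999 := chk_ok (.cons v998 .nil) .nil c999
theorem v1000 : Valid.{u} x388 s1000 := chk_ok .nil .nil c1000
theorem v1001 : Valid.{u} x388 s1001 := chk_ok (.cons v1000 .nil) .nil c1001
theorem v1002 : Valid.{u} x389 s1002 := chk_ok .nil .nil c1002
theorem v1003 : Valid.{u} x389 s1003 := chk_ok (.cons v1002 .nil) .nil c1003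
theorem v1004 : Valid.{u} x390 s1004 := chk_ok .nil .nil c1004
theorem v1005 : Valid.{u} x390 s1005 := chk_ok (.cons v1004 .nil) .nil c1005
theorem v1006 : Valid.{u} x391 s1006 := chk_ok .nil .nil c1006
theorem v1007 : Valid.{u} x391 s1007 := chk_ok (.cons v1006 .nil) .nil c1007
theorem v1008 : Valid.{u} x392 s1008 := chk_ok .nil .nil c1008
theorem v1009 : Valid.{u} x392 s1009 := chk_ok (.cons v1008 .nil) .nil c1009
theorem v1010 : Valid.{u} x393 s1010 := chk_ok .nil .nil c1010
theorem v1011 : Valid.{u} x393 s1011 := chk_ok (.cons v1010 .nil) .nil c1011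
theorem v1012 : Valid.{u} x394 s1012 := chk_ok .nil .nil c1012
theorem v1013 : Valid.{u} x394 s1013 := chk_ok (.cons v1012 .nil) .nil c1013
theorem v1014 : Valid.{u} x395 s1014 := chk_ok .nil .nil c1014
theorem v1015 : Valid.{u} x395 s1015 := chk_ok (.cons v1014 .nil) .nil c1015
theorem v1016 : Valid.{u} x396 s1016 := chk_ok .nil .nil c1016
theorem v1017 : Valid.{u} x396 s1017 := chk_ok (.cons v1016 .nil) .nil c1017
theorem v1018 : Valid.{u} x397 s1018 := chk_ok .nil .nil c1018
theorem v1019 : Valid.{u} x397 s1019 := chk_ok (.cons v1018 .nil) .nil c1019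
theorem v1020 : Valid.{u} x381 s1020 := chk_ok (.cons v987 (.cons v989 (.cons v991 (.cons v993 (.cons v995 (.cons v997 (.cons v999 (.cons v1001 (.cons v1003 (.cons v1005 (.cons v1007 (.cons v1009 (.cons v1011 (.cons v1013 (.cons v1015 (.cons v1017 (.cons v1019 .nil))))))))))))))))) .nil c1020
theorem v1021 : Valid.{u} x381 s1021 := chk_ok (.cons v1020 .nil) (.cons k34 .nil) c1021
theorem v1022 : Valid.{u} x379 s1022 := chk_ok (.cons v986 (.cons v1021 .nil)) (.cons k33 (.cons k34 .nil)) c1022
theorem v1023 : Valid.{u} x379 s1023 := chk_ok (.cons v985 (.cons v1022 .nil)) .nil c1023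
theorem v1024 : Valid.{u} x379 s1024 := chk_ok (.cons v1023 .nil) .nil c1024
theorem v1025 : Valid.{u} x398 s1025 := chk_ok .nil .nil c1025
theorem v1026 : Valid.{u} x398 s1026 := chk_ok (.cons v1025 .nil) .nil c1026
theorem v1027 : Valid.{u} x399 s1027 := chk_ok .nil .nil c1027
theorem v1028 : Valid.{u} x399 s1028 := chk_ok (.cons v1027 .nil) .nil c1028
theorem v1029 : Valid.{u} x400 s1029 := chk_ok .nil .nil c1029
theorem v1030 : Valid.{u} x401 s1030 := chk_ok .nil .nil c1030
theorem v1031 : Valid.{u} x402 s1031 := chk_ok .nil .nil c1031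
theorem v1032 : Valid.{u} x402 s1032 := chk_ok (.cons v1031 .nil) .nil c1032
theorem v1033 : Valid.{u} x402 s1033 := chk_ok (.cons v1032 .nil) (.cons k45 .nil) c1033
theorem v1034 : Valid.{u} x400 s1034 := chk_ok (.cons v1030 (.cons v1033 .nil)) (.cons k44 (.cons k45 .nil)) c1034
theorem v1035 : Valid.{u} x400 s1035 := chk_ok (.cons v1029 (.cons v1034 .nil)) .nil c1035
theorem v1036 : Valid.{u} x400 s1036 := chk_ok (.cons v1035 .nil) .nil c1036
theorem v1037 : Valid.{u} x378 s1037 := chk_ok (.cons v1024 (.cons v1026 (.cons v1028 (.cons v1036 .nil)))) .nil c1037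
theorem v1038 : Valid.{u} x378 s1038 := chk_ok (.cons v1037 .nil) .nil c1038
theorem v1039 : Valid.{u} x378 s1039 := chk_ok (.cons v1038 .nil) .nil c1039
theorem v1040 : Valid.{u} x403 s1040 := chk_ok .nil .nil c1040
theorem v1041 : Valid.{u} x404 s1041 := chk_ok .nil .nil c1041
theorem v1042 : Valid.{u} x405 s1042 := chk_ok .nil .nil c1042
theorem v1043 : Valid.{u} x405 s1043 := chk_ok (.cons v1042 .nil) .nil c1043
theorem v1044 : Valid.{u} x405 s1044 := chk_ok (.cons v1043 .nil) .nil c1044
theorem v1045 : Valid.{u} x405 s1045 := chk_ok (.cons v1044 .nil) (.cons k29 .nil) c1045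
theorem v1046 : Valid.{u} x405 s1046 := chk_ok (.cons v1045 .nil) .nil c1046
theorem v1047 : Valid.{u} x407 s1047 := chk_ok .nil .nil c1047
theorem v1048 : Valid.{u} x408 s1048 := chk_ok .nil .nil c1048
theorem v1049 : Valid.{u} x409 s1049 := chk_ok .nil .nil c1049
theorem v1050 : Valid.{u} x410 s1050 := chk_ok .nil .nil c1050
theorem v1051 : Valid.{u} x410 s1051 := chk_ok (.cons v1050 .nil) .nil c1051
theorem v1052 : Valid.{u} x410 s1052 := chk_ok (.cons v1051 .nil) .nil c1052
theorem v1053 : Valid.{u} x410 s1053 := chk_ok (.cons v1052 .nil) .nil c1053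
theorem v1054 : Valid.{u} x410 s1054 := chk_ok (.cons v1053 .nil) (.cons k31 .nil) c1054
theorem v1055 : Valid.{u} x406 s1055 := chk_ok (.cons v1047 (.cons v1048 (.cons v1049 (.cons v1054 .nil)))) .nil c1055
theorem v1056 : Valid.{u} x406 s1056 := chk_ok (.cons v1055 .nil) .nil c1056
theorem v1057 : Valid.{u} x406 s1057 := chk_ok (.cons v1056 .nil) .nil c1057
theorem v1058 : Valid.{u} x406 s1058 := chk_ok (.cons v1057 .nil) .nil c1058
theorem v1059 : Valid.{u} x406 s1059 := chk_ok (.cons v1058 .nil) .nil c1059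
theorem v1060 : Valid.{u} x406 s1060 := chk_ok (.cons v1059 .nil) .nil c1060
theorem v1061 : Valid.{u} x406 s1061 := chk_ok (.cons v1060 .nil) .nil c1061
theorem v1062 : Valid.{u} x406 s1062 := chk_ok (.cons v1061 .nil) (.cons k29 .nil) c1062
theorem v1063 : Valid.{u} x406 s1063 := chk_ok (.cons v1062 .nil) .nil c1063
theorem v1064 : Valid.{u} x378 s1064 := chk_ok (.cons v1040 (.cons v1041 (.cons v1046 (.cons v1063 .nil)))) .nil c1064
theorem v1065 : Valid.{u} x378 s1065 := chk_ok (.cons v1064 .nil) .nil c1065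
theorem v1066 : Valid.{u} x378 s1066 := chk_ok (.cons v1065 .nil) .nil c1066
theorem v1067 : Valid.{u} x378 s1067 := chk_ok (.cons v1039 (.cons v1066 .nil)) .nil c1067
theorem v1068 : Valid.{u} x0 s1068 := chk_ok (.cons v0 (.cons v33 (.cons v43 (.cons v158 (.cons v887 (.cons v984 (.cons v1067 .nil))))))) (.cons k448 (.cons k46 (.cons k7 .nil))) c1068
theorem v1069 : Valid.{u} x0 s1069 := chk_ok (.cons v1068 .nil) .nil c1069

end Cfsg.Lib.D8.T1O
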