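import Cfsg.Agent.Lib.D8.T.T2IG0

/-! Certificates (generated, helper29). -/

set_option maxRecDepth 100000
set_option Elab.async false

namespace Cfsg.Lib.D8.T2I

universe u

theorem hb1 : tabB (mu g0 (nat_lit 1)) (nat_lit 1) a0 b1 (look b1 0) = true := by decide +kernel
theorem ha0 : tabA (mu g0 (nat_lit 1)) (nat_lit 1) a0 = true := by decide +kernel
theorem hb2 : tabB (mu g1 (nat_lit 2)) (nat_lit 2) a1 b2 (look b2 0) = true := by decide +kernel
theorem ha1 : tabA (mu g1 (nat_lit 2)) (nat_lit 2) a1 = true := by decide +kernel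
theorem hb3 : tabB (mu g2 (nat_lit 4)) (nat_lit 4) a2 b3 (look b3 0) = true := by decide +kernel
theorem ha2 : tabA (mu g2 (nat_lit 4)) (nat_lit 4) a2 = true := by decide +kernel
theorem hb4 : tabB (mu g3 (nat_lit 8)) (nat_lit 8) a3 b4 (look b4 0) = true := by decide +kernel
theorem ha3 : tabA (mu g3 (nat_lit 8)) (nat_lit 8) a3 = true := by decide +kernel
theorem hb5 : tabB (mu g4 (nat_lit 16)) (nat_lit 16) a4 b5 (look b5 0) = true := by decide +kernel
theorem ha4 : tabA (mu g4 (nat_lit 16)) (nat_lit 16) a4 = true := by decide +kernel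
theorem ht5 : tabT (mu (.ext a4 b5 (nat_lit 16) g4) (nat_lit 32)) (nat_lit 32) t5 = true := by decide +kernel
theorem hb6 : tabB (mu g5 (nat_lit 32)) (nat_lit 32) a5 b6 (look b6 0) = true := by decide +kernel
theorem ha5 : tabA (mu g5 (nat_lit 32)) (nat_lit 32) a5 = true := by decide +kernel
theorem ht6 : tabT (mu (.ext a5 b6 (nat_lit 32) g5) (nat_lit 64)) (nat_lit 64) t6 = true := by decide +kernel
theorem hb7 : tabB (mu g6 (nat_lit 64)) (nat_lit 64) a6 b7 (look b7 0) = true := by decide +kernel
theorem ha6 : tabA (mu g6 (nat_lit 64)) (nat_lit 64) a6 = true := by decide +kernel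
theorem hb10 : tabB (mu g7 (nat_lit 128)) (nat_lit 128) a8 b10 (look b10 0) = true := by decide +kernel
theorem ha8 : tabA (mu g7 (nat_lit 128)) (nat_lit 128) a8 = true := by decide +kernel
theorem hb11 : tabB (mu g10 (nat_lit 256)) (nat_lit 256) a9 b11 (look b11 0) = true := by decide +kernel
theorem ha9 : tabA (mu g10 (nat_lit 256)) (nat_lit 256) a9 = true := by decide +kernel
theorem hb12 : tabB (mu g10 (nat_lit 256)) (nat_lit 256) a9 b12 (look b12 0) = true := by decide +kernel
theorem hb13 : tabB (mu g3 (nat_lit 8)) (nat_lit 8) a10 b13 (look b13 0) = true := by decide +kernel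
theorem ha10 : tabA (mu g3 (nat_lit 8)) (nat_lit 8) a10 = true := by decide +kernel
theorem ht13 : tabT (mu (.ext a10 b13 (nat_lit 8) g3) (nat_lit 16)) (nat_lit 16) t13 = true := by decide +kernel
theorem hb14 : tabB (mu g13 (nat_lit 16)) (nat_lit 16) a11 b14 (look b14 0) = true := by decide +kernel
theorem ha11 : tabA (mu g13 (nat_lit 16)) (nat_lit 16) a11 = true := by decide +kernel
theorem hb15 : tabB (mu g14 (nat_lit 32)) (nat_lit 32) a12 b15 (look b15 0) = true := by decide +kernel
theorem ha12 : tabA (mu g14 (nat_lit 32)) (nat_lit 32) a12 = true := by decide +kernel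
theorem hb16 : tabB (mu g15 (nat_lit 64)) (nat_lit 64) a13 b16 (look b16 0) = true := by decide +kernel
theorem ha13 : tabA (mu g15 (nat_lit 64)) (nat_lit 64) a13 = true := by decide +kernel
theorem hb17 : tabB (mu g16 (nat_lit 128)) (nat_lit 128) a14 b17 (look b17 0) = true := by decide +kernel
theorem ha14 : tabA (mu g16 (nat_lit 128)) (nat_lit 128) a14 = true := by decide +kernel
theorem hb18 : tabB (mu g17 (nat_lit 256)) (nat_lit 256) a15 b18 (look b18 0) = true := by decide +kernel
theorem ha15 : tabA (mu g17 (nat_lit 256)) (nat_lit 256) a15 = true := by decide +kernel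
theorem hb21 : tabB (mu g10 (nat_lit 256)) (nat_lit 256) a17 b21 (look b21 0) = true := by decide +kernel
theorem ha17 : tabA (mu g10 (nat_lit 256)) (nat_lit 256) a17 = true := by decide +kernel
theorem hb26 : tabB (mu g6 (nat_lit 64)) (nat_lit 64) a19 b26 (look b26 0) = true := by decide +kernel
theorem ha19 : tabA (mu g6 (nat_lit 64)) (nat_lit 64) a19 = true := by decide +kernel
theorem hb27 : tabB (mu g6 (nat_lit 64)) (nat_lit 64) a20 b27 (look b27 0) = true := by decide +kernel
theorem ha20 : tabA (mu g6 (nat_lit 64)) (nat_lit 64) a20 = true := by decide +kernel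
theorem ht27 : tabT (mu (.ext a20 b27 (nat_lit 64) g6) (nat_lit 128)) (nat_lit 128) t27 = true := by decide +kernel
theorem hb29 : tabB (mu g27 (nat_lit 128)) (nat_lit 128) a21 b29 (look b29 0) = true := by decide +kernel
theorem ha21 : tabA (mu g27 (nat_lit 128)) (nat_lit 128) a21 = true := by decide +kernel
theorem hb30 : tabB (mu g29 (nat_lit 256)) (nat_lit 256) a22 b30 (look b30 0) = true := by decide +kernel
theorem ha22 : tabA (mu g29 (nat_lit 256)) (nat_lit 256) a22 = true := by decide +kernel
theorem hb31 : tabB (mu g30 (nat_lit 512)) (nat_lit 512) a23 b31 (look b31 0) = true := by decide +kernel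
theorem ha23 : tabA (mu g30 (nat_lit 512)) (nat_lit 512) a23 = true := by decide +kernel
theorem hb32 : tabB (mu g4 (nat_lit 16)) (nat_lit 16) a24 b32 (look b32 0) = true := by decide +kernel
theorem ha24 : tabA (mu g4 (nat_lit 16)) (nat_lit 16) a24 = true := by decide +kernel
theorem ht32 : tabT (mu (.ext a24 b32 (nat_lit 16) g4) (nat_lit 32)) (nat_lit 32) t32 = true := by decide +kernel
theorem hb33 : tabB (mu g32 (nat_lit 32)) (nat_lit 32) a25 b33 (look b33 0) = true := by decide +kernel
theorem ha25 : tabA (mu g32 (nat_lit 32)) (nat_lit 32) a25 = true := by decide +kernel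
theorem hb34 : tabB (mu g33 (nat_lit 64)) (nat_lit 64) a26 b34 (look b34 0) = true := by decide +kernel
theorem ha26 : tabA (mu g33 (nat_lit 64)) (nat_lit 64) a26 = true := by decide +kernel
theorem hb35 : tabB (mu g34 (nat_lit 128)) (nat_lit 128) a27 b35 (look b35 0) = true := by decide +kernel
theorem ha27 : tabA (mu g34 (nat_lit 128)) (nat_lit 128) a27 = true := by decide +kernel
theorem hb36 : tabB (mu g35 (nat_lit 256)) (nat_lit 256) a28 b36 (look b36 0) = true := by decide +kernel
theorem ha28 : tabA (mu g35 (nat_lit 256)) (nat_lit 256) a28 = true := by decide +kernel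
theorem hb37 : tabB (mu g36 (nat_lit 512)) (nat_lit 512) a29 b37 (look b37 0) = true := by decide +kernel
theorem ha29 : tabA (mu g36 (nat_lit 512)) (nat_lit 512) a29 = true := by decide +kernel
theorem hb41 : tabB (mu g29 (nat_lit 256)) (nat_lit 256) a22 b41 (look b41 0) = true := by decide +kernel
theorem hb42 : tabB (mu g41 (nat_lit 512)) (nat_lit 512) a31 b42 (look b42 0) = true := by decide +kernel
theorem ha31 : tabA (mu g41 (nat_lit 512)) (nat_lit 512) a31 = true := by decide +kernel
theorem hb43 : tabB (mu g32 (nat_lit 32)) (nat_lit 32) a32 b43 (look b43 0) = true := by decide +kernel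
theorem ha32 : tabA (mu g32 (nat_lit 32)) (nat_lit 32) a32 = true := by decide +kernel
theorem hb44 : tabB (mu g43 (nat_lit 64)) (nat_lit 64) a33 b44 (look b44 0) = true := by decide +kernel
theorem ha33 : tabA (mu g43 (nat_lit 64)) (nat_lit 64) a33 = true := by decide +kernel
theorem hb45 : tabB (mu g44 (nat_lit 128)) (nat_lit 128) a34 b45 (look b45 0) = true := by decide +kernel
theorem ha34 : tabA (mu g44 (nat_lit 128)) (nat_lit 128) a34 = true := by decide +kernel
theorem hb46 : tabB (mu g45 (nat_lit 256)) (nat_lit 256) a35 b46 (look b46 0) = true := by decide +kernel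
theorem ha35 : tabA (mu g45 (nat_lit 256)) (nat_lit 256) a35 = true := by decide +kernel
theorem hb47 : tabB (mu g46 (nat_lit 512)) (nat_lit 512) a36 b47 (look b47 0) = true := by decide +kernel
theorem ha36 : tabA (mu g46 (nat_lit 512)) (nat_lit 512) a36 = true := by decide +kernel
theorem hb51 : tabB (mu g27 (nat_lit 128)) (nat_lit 128) a38 b51 (look b51 0) = true := by decide +kernel
theorem ha38 : tabA (mu g27 (nat_lit 128)) (nat_lit 128) a38 = true := by decide +kernel
theorem hb55 : tabB (mu g6 (nat_lit 64)) (nat_lit 64) a40 b55 (look b55 0) = true := by decide +kernel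
theorem ha40 : tabA (mu g6 (nat_lit 64)) (nat_lit 64) a40 = true := by decide +kernel
noncomputable def p0 : Pf := (.r64 (nat_lit 3))
theorem c0 : (chk [] [] p0).n x0 s0 = true := by decide +kernel
noncomputable def p1 : Pf := (.ext (nat_lit 0) (nat_lit 0) (nat_lit 0x1040010020008) (nat_lit 0xd00e004008002053003000001002004008001003) (nat_lit 0x100200700b) (nat_lit 0x1004003) (nat_lit 0x1007003) (nat_lit 0x800400200300a006002001) (.dfs (nat_lit 3) (nat_lit 0x100100200700b) (nat_lit 0x1001002005009) (nat_lit 0x1008004) (nat_lit 0x100a006) (nat_lit 12) (nat_lit 0) (nat_lit 2) (nat_lit 0) (nat_lit 0) (nat_lit 3) (nat_lit 1) (nat_lit 0) (nat_lit 4112) (nat_lit 16) (nat_lit 0x100000300000b00005300005b) (nat_lit 0x80800000000000000000808) (.cD (nat_lit 3) (.dfs (nat_lit 4) (nat_lit 0x100200400e016) (nat_lit 0x100600400a012) (nat_lit 0x1010008001) (nat_lit 0x1010008005) (nat_lit 0) (nat_lit 0) (nat_lit 2) (nat_lit 0) (nat_lit 0) (nat_lit 7) (nat_lit 1) (nat_lit 0) (nat_lit 1) (nat_lit 0) (nat_lit 1) (nat_lit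 0) .nil) (.cD (nat_lit 11) (.dfs (nat_lit 4) (nat_lit 0x100200400e016) (nat_lit 0x100600400a012) (nat_lit 0x1010008001) (nat_lit 0x1010008005) (nat_lit 0) (nat_lit 0) (nat_lit 2) (nat_lit 0) (nat_lit 0) (nat_lit 7) (nat_lit 1) (nat_lit 0) (nat_lit 1) (nat_lit 0) (nat_lit 1) (nat_lit 0) .nil) (.cD (nat_lit 83) (.dfs (nat_lit 4) (nat_lit 0x100200400e016) (nat_lit 0x100600400a012) (nat_lit 0x1010008001) (nat_lit 0x1010008005) (nat_lit 0) (nat_lit 0) (nat_lit 2) (nat_lit 0) (nat_lit 0) (nat_lit 7) (nat_lit 1) (nat_lit 0) (nat_lit 1) (nat_lit 0) (nat_lit 1) (nat_lit 0) .nil) (.cD (nat_lit 91) (.dfs (nat_lit 4) (nat_lit 0x100200400e016) (nat_lit 0x100600400a012) (nat_lit 0x1010008001) (nat_lit 0x1010008005) (nat_lit 0) (nat_lit 0) (nat_lit 2) (nat_lit 0) (nat_lit 0) (nat_lit 7) (nat_lit 1) (nat_lit 0) (nat_lit 1) (nat_lit 0) (nat_lit 1) (nat_lit 0) .nil) .nil))))))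
theorem c1 : (chk [] [] p1).n x1 s1 = true := by decide +kernel
noncomputable def p2 : Pf := (.ext (nat_lit 0) (nat_lit 0) (nat_lit 0x104c04008015c) (nat_lit 0x100080040020030011ed000045020010026002003) (nat_lit 0x2003004008) (nat_lit 0x101100a) (nat_lit 0x100a016) (nat_lit 0xf00400200100c004002001) (.dfs (nat_lit 10) (nat_lit 0x1002003004008) (nat_lit 0x100200300400c) (nat_lit 4097) (nat_lit 4097) (nat_lit 0) (nat_lit 0) (nat_lit 2) (nat_lit 0) (nat_lit 0) (nat_lit 22) (nat_lit 1) (nat_lit 0) (nat_lit 4480) (nat_lit 384) (nat_lit 0x10000160000360000960000b6) (nat_lit 0x4000000040000000000000000000000040000000400000) (.cD (nat_lit 22) (.kS (nat_lit 0) (nat_lit 0x400200801e00600400200801e0011ed001000004006008010002004) (nat_lit 4214) (nat_lit 0x8004002003) (nat_lit 0x1f400400001003b03005302a0031e91af00000400200801e00f00200400200801e00b005005)) (.cD (nat_lit 54) (.kS (nat_lit 0) (nat_lit 0x400200801e00600400200801e0011ed001000004006008010002004) (nat_lit 4342) (nat_lit 0x8004002003) (nat_lit 0x1f400400001003b03005302a0031e91af00000400200801e00f00200400200801e00f005005))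 (.cD (nat_lit 150) (.kS (nat_lit 0) (nat_lit 0x400200801e00600400200801e0011ed001000004006008010002004) (nat_lit 4310) (nat_lit 0x8004002003) (nat_lit 0x1f400400001003b03005302a0031e91af00000400200801e00f00200400200801e00d005005)) (.cD (nat_lit 182) (.dfs (nat_lit 17) (nat_lit 0x1004006008010) (nat_lit 0x100400600801e) (nat_lit 0x1002001) (nat_lit 0x100200f) (nat_lit 14) (nat_lit 0) (nat_lit 2) (nat_lit 0) (nat_lit 0) (nat_lit 10) (nat_lit 1) (nat_lit 0) (nat_lit 1) (nat_lit 0) (nat_lit 1) (nat_lit 0x400000004000000040000000400000004000000040000000400000004000000000000000000000000000000000000000000000000000000000000000000) (.cD (nat_lit 266) (.kA false (nat_lit 0x1ed00100000801001c01b0010de00200000801800c02900201803801002100300401400c03100110800800001400c01c017002175003000009)) (.cD (nat_lit 298) (.kA false (nat_lit 0x1ed00100000801001c0130010de00200000801800c02100201803801002100300401400c03900110800800001400c01c01f002175003000009)) (.cD (nat_lit 330) (.kA false (nat_lit 0x1ed00100000801001c00b0010de00200000801800c03100200802801000100400401400c02900110800800001400c01c007002175003000009))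 (.cD (nat_lit 362) (.kA false (nat_lit 0x1ed00100000801001c0030010de00200000801800c03900200802801000100400401400c02100110800800001400c01c00f002175003000009)) (.cD (nat_lit 394) (.kA false (nat_lit 0x1ed00100000801001c0170010de00200000801800c03d00200802801002100400401400c02500110800800001400c01c01b002175003000009)) (.cD (nat_lit 426) (.kA false (nat_lit 0x1ed00100000801001c01f0010de00200000801800c03500200802801002100400401400c02d00110800800001400c01c013002175003000009)) (.cD (nat_lit 458) (.kA false (nat_lit 0x1ed00100000801001c0070010de00200000801800c02500201803801000100300401400c03d00110800800001400c01c00b002175003000009)) (.cD (nat_lit 490) (.kA false (nat_lit 0x1ed00100000801001c00f0010de00200000801800c02d00201803801000100300401400c03500110800800001400c01c003002175003000009)) .nil))))))))) .nil))))))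
theorem c2 : (chk [] [] p2).n x4 s2 = true := by decide +kernel
noncomputable def p3 : Pf := (.ext (nat_lit 0) (nat_lit 0x2601002004500116d001000002) (nat_lit 0x1100040080020) (nat_lit 0x4502002603600116d001000010008004002003003) (nat_lit 0x2003004008) (nat_lit 4106) (nat_lit 4129) (nat_lit 0xe004002001) (.dfs (nat_lit 10) (nat_lit 0x1001002004008) (nat_lit 0x100100200400e) (nat_lit 1) (nat_lit 1) (nat_lit 0) (nat_lit 0) (nat_lit 2) (nat_lit 0) (nat_lit 0x1002004008001001) (nat_lit 33) (nat_lit 1) (nat_lit 0) (nat_lit 1) (nat_lit 0) (nat_lit 1) (nat_lit 0) .nil))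
theorem c3 : (chk [] [] p3).n x5 s3 = true := by decide +kernel
noncomputable def p4 : Pf := (.lft (nat_lit 0x800200400100de0d90f5001001001) (nat_lit 182) (nat_lit 0x10e00c00a0080) (nat_lit 0x800400200100080840fa06f) (.extn a39 (nat_lit 0x80040020010008004002001) (nat_lit 0x1010040020080) (nat_lit 2) (nat_lit 0) (nat_lit 0) (nat_lit 6) (nat_lit 0x40000000000000004000000000000000000000000000000000000000000000) (.cE (nat_lit 182) b52 (nat_lit 0) (.cut (nat_lit 0)) .nil (.cE (nat_lit 246) b53 (nat_lit 0) (.cut (nat_lit 1)) .nil .nil))))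
theorem c4 : (chk [(x4, s2), (x5, s3)] [] p4).n x3 s4 = true := by decide +kernel
noncomputable def p5 : Pf := (.ext (nat_lit 0) (nat_lit 0) (nat_lit 0x1080020040010003005006) (nat_lit 0x4d02001001b01203f06300106f00100007603001000603200c06500106f00100004002001000800200107d001005) (nat_lit 0x5f010020029) (nat_lit 4097) (nat_lit 4108) (nat_lit 0x6003001006f04d02c066) (.dfs (nat_lit 1) (nat_lit 0x105f010020029) (nat_lit 0x1038010030029) (nat_lit 0x1040008004002001) (nat_lit 0x106006f04d02c066) (nat_lit 78) (nat_lit 0) (nat_lit 2) (nat_lit 0) (nat_lit 0) (nat_lit 4) (nat_lit 1) (nat_lit 0) (nat_lit 4128) (nat_lit 32) (nat_lit 0x100002c) (nat_lit 0x100000000000) (.cD (nat_lit 44) (.cut (nat_lit 0)) .nil)))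
theorem c5 : (chk [(x3, s4)] [] p5).n x3 s5 = true := by decide +kernel
noncomputable def p6 : Pf := (.ext (nat_lit 0) (nat_lit 0) (nat_lit 0x108002004001000b) (nat_lit 0x1400800600200f00106e02e000010008004002001001003) (nat_lit 0x6004008016) (nat_lit 0x1005003) (nat_lit 0x100500d) (nat_lit 0x1c008004002005018008004006005) (.dfs (nat_lit 3) (nat_lit 0x1006004008016) (nat_lit 0x100200400801a) (nat_lit 0x1010002001) (nat_lit 0x1018006005) (nat_lit 4) (nat_lit 0) (nat_lit 2) (nat_lit 0) (nat_lit 0) (nat_lit 13) (nat_lit 1) (nat_lit 0) (nat_lit 4112) (nat_lit 16) (nat_lit 0x100000d00002d) (nat_lit 0x200000002000) (.cD (nat_lit 13) (.dfs (nat_lit 5) (nat_lit 0x100c00801002c) (nat_lit 0x100c008010034) (nat_lit 0x1020004002001) (nat_lit 0x103800400a001) (nat_lit 0) (nat_lit 0) (nat_lit 2) (nat_lit 0) (nat_lit 0) (nat_lit 5) (nat_lit 1) (nat_lit 0) (nat_lit 1) (nat_lit 0) (nat_lit 1) (nat_lit 0x200000002000000020000000200000) (.cD (nat_lit 21) (.kA false (nat_lit 0x3b0100300580010160100300500010fa002000003))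 (.cD (nat_lit 53) (.cut (nat_lit 0)) (.cD (nat_lit 85) (.kA false (nat_lit 0x3b0100300580010160100300500010fa002000003)) (.cD (nat_lit 117) (.kS (nat_lit 0) (nat_lit 0xb01002004d00106f01003006000506f001000003) (nat_lit 0x102d013) (nat_lit 0xc00400200301000800400e001) (nat_lit 0x3e01003005802404500501601003005002701a0010950f500006f01003006004d02c00600b01002004d02201f002005)) .nil))))) (.cD (nat_lit 45) (.kA false (nat_lit 0x3300801802c00700b0080180280010fa002000003)) .nil))))
theorem c6 : (chk [(x3, s5)] [] p6).n x3 s6 = true := by decide +kernel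
noncomputable def p7 : Pf := (.ext (nat_lit 0) (nat_lit 0) (nat_lit 0x1080020040010) (nat_lit 0x1002004008005001) (nat_lit 0x2003004008) (nat_lit 4107) (nat_lit 4107) (nat_lit 0xc004002001) (.dfs (nat_lit 11) (nat_lit 0x1002003004008) (nat_lit 0x100200300400c) (nat_lit 4097) (nat_lit 4097) (nat_lit 0) (nat_lit 0) (nat_lit 2) (nat_lit 0) (nat_lit 0) (nat_lit 11) (nat_lit 1) (nat_lit 0) (nat_lit 4224) (nat_lit 128) (nat_lit 0x100000b00001b00004b00005b) (nat_lit 0x80008000000000008000800) (.cD (nat_lit 11) (.kS (nat_lit 0) (nat_lit 0x2006008010002008008000002) (nat_lit 4187) (nat_lit 0x8004002003) (nat_lit 0x8008000002004008010001001008008000002006008010007001004)) (.cD (nat_lit 27) (.cut (nat_lit 0)) (.cD (nat_lit 75) (.iso x3 s6 (nat_lit 0) (nat_lit 0x1080040020010008004002041) (nat_lit 0x80040020010008004002041) [(nat_lit 0x10008004002005001001), (nat_lit 0x40020010008014012001003001), (nat_lit 0x20010008004002001005001)] (.cut (nat_lit 0))) (.cD (nat_lit 91) (.kS (nat_lit 0) (nat_lit 0x2006008010002008008000002)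 (nat_lit 4171) (nat_lit 0x8004002003) (nat_lit 0x8008000002004008010001001008008000002006008010005001004)) .nil))))))
theorem c7 : (chk [(x3, s6)] [g51] p7).n x3 s7 = true := by decide +kernel
noncomputable def p8 : Pf := (.ext (nat_lit 0) (nat_lit 0x6f00100003300801002100106f00100000100801803000106f001000005) (nat_lit 0x1080020040010) (nat_lit 0x6f00100002101000803300106f00100003001800800100106f001000005) (nat_lit 0x1002004008) (nat_lit 0x1006005003) (nat_lit 0x108000500d) (nat_lit 0xa00400200100e00400200100c004002003) (.dfs (nat_lit 3) (nat_lit 0x1001002004008) (nat_lit 0x100300200400c) (nat_lit 1) (nat_lit 1) (nat_lit 2) (nat_lit 0) (nat_lit 2) (nat_lit 0) (nat_lit 0x1002004008001001) (nat_lit 13) (nat_lit 1) (nat_lit 0) (nat_lit 0x1010006) (nat_lit 65542) (nat_lit 0x100000d00100d00106d) (nat_lit 8192) (.cD (nat_lit 13) (.dfs (nat_lit 5) (nat_lit 0x1002004008010) (nat_lit 0x100200400801c) (nat_lit 4097) (nat_lit 4097) (nat_lit 0) (nat_lit 0) (nat_lit 2) (nat_lit 0) (nat_lit 0x2004008010001001) (nat_lit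 5) (nat_lit 1) (nat_lit 0) (nat_lit 1) (nat_lit 0) (nat_lit 1) (nat_lit 0x200000002000000020000000200000) (.cD (nat_lit 21) (.kA false (nat_lit 0x3b00801802c00300700801802c0020fa00200001c008018002003004008010020001005)) (.cD (nat_lit 53) (.dfs (nat_lit 6) (nat_lit 0x1004008010020) (nat_lit 0x1004008010028) (nat_lit 0x1002001) (nat_lit 0x1012011) (nat_lit 0) (nat_lit 0) (nat_lit 2) (nat_lit 0) (nat_lit 0x4008010020001001) (nat_lit 128) (nat_lit 1) (nat_lit 0) (nat_lit 1) (nat_lit 0) (nat_lit 1) (nat_lit 0x100000001000000010000000100000000000000000000000000000000) (.cD (nat_lit 128) (.kS (nat_lit 0) (nat_lit 0xfa00200000e01002003100206f001000003) (nat_lit 0x106d06b) (nat_lit 0xc00400200301000800400e001) (nat_lit 0x4f01002006603405300106f00100000801002004000400200100106f00000e0100200310040650010020fa000006)) (.cD (nat_lit 160) (.kA false (nat_lit 0x3e01002003100106f01003006000106f001000003)) (.cD (nat_lit 192) (.kS (nat_lit 0) (nat_lit 0xe0100200010020fa002000002) (nat_lit 0x102305d) (nat_lit 0xc00400200301000800400e001)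 (nat_lit 0x6f01003004007d00c0010be0fe00000e010020001024055001003)) (.cD (nat_lit 224) (.kA false (nat_lit 0x3e01002002100100800800006f01003006000106f001000004)) .nil))))) (.cD (nat_lit 85) (.kA false (nat_lit 0x3300801802c00300f00801802c0020fa00200001c008018002003004008010020001005)) (.cD (nat_lit 117) (.dfs (nat_lit 6) (nat_lit 0x1004008010020) (nat_lit 0x1004008010028) (nat_lit 0x1002001) (nat_lit 0x1012011) (nat_lit 0) (nat_lit 0) (nat_lit 2) (nat_lit 0) (nat_lit 0x4008010020001001) (nat_lit 128) (nat_lit 1) (nat_lit 0) (nat_lit 1) (nat_lit 0) (nat_lit 1) (nat_lit 0x100000001000000010000000100000000000000000000000000000000) (.cD (nat_lit 128) (.cut (nat_lit 0)) (.cD (nat_lit 160) (.kA false (nat_lit 0x2e01002003100106f01003006000106f001000003)) (.cD (nat_lit 192) (.kS (nat_lit 0) (nat_lit 0x1e0100200010020fa002000002) (nat_lit 0x102305d) (nat_lit 0xc00400200301000800400e001) (nat_lit 0x6f01003004007d00c0010be0fe00001e010020001024055001003)) (.cD (nat_lit 224) (.kA false (nat_lit 0x2e01002002100100800800006f01003006000106f001000004))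 .nil))))) .nil))))) .nil)))
theorem c8 : (chk [(x3, s7)] [] p8).n x3 s8 = true := by decide +kernel
noncomputable def p9 : Pf := (.ext (nat_lit 0) (nat_lit 0) (nat_lit 0x1080020040010) (nat_lit 0x1002004008001001) (nat_lit 0x2003004008) (nat_lit 4107) (nat_lit 4107) (nat_lit 0xc004002001) (.dfs (nat_lit 11) (nat_lit 0x1002003004008) (nat_lit 0x100200300400c) (nat_lit 4097) (nat_lit 4097) (nat_lit 2) (nat_lit 0) (nat_lit 2) (nat_lit 0) (nat_lit 0) (nat_lit 11) (nat_lit 1) (nat_lit 0) (nat_lit 1) (nat_lit 0) (nat_lit 1) (nat_lit 0) .nil))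
theorem c9 : (chk [] [] p9).n x6 s9 = true := by decide +kernel
noncomputable def p10 : Pf := (.lft (nat_lit 0x4001002000800206f001001001) (nat_lit 23) (nat_lit 0x1060040) (nat_lit 0x4002001000800404207d) (.extn a38 (nat_lit 0x40020010008004002001) (nat_lit 0x1008020010040) (nat_lit 2) (nat_lit 0) (nat_lit 0) (nat_lit 7) (nat_lit 0x80000000800000) (.cE (nat_lit 23) b51 (nat_lit 0) (.cut (nat_lit 0)) .nil (.cE (nat_lit 55) b54 (nat_lit 0) (.cut (nat_lit 1)) .nil .nil))))
theorem c10 : (chk [(x3, s8), (x6, s9)] [] p10).n x2 s10 = true := by decide +kernel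
noncomputable def p11 : Pf := (.ext (nat_lit 0) (nat_lit 0) (nat_lit 0x1040010020008003004) (nat_lit 0x3c01800802b02900c00107d00100001701000801102802b00107d00100000601800801c02c01100107d00100001a01000803300f01c00107d00100002101800800101603300107d00100002001000800400200100100b) (nat_lit 0x9008018038) (nat_lit 4097) (nat_lit 4102) (nat_lit 0x2801800800101700c) (.dfs (nat_lit 1) (nat_lit 0x1009008018038) (nat_lit 0x1004008010038) (nat_lit 0x1020010004002001) (nat_lit 0x102801800101700c) (nat_lit 53) (nat_lit 0) (nat_lit 2) (nat_lit 0) (nat_lit 0) (nat_lit 2) (nat_lit 1) (nat_lit 0) (nat_lit 4112) (nat_lit 16) (nat_lit 0x1000006) (nat_lit 64) (.cD (nat_lit 6) (.cut (nat_lit 0)) .nil)))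
theorem c11 : (chk [(x2, s10)] [] p11).n x2 s11 = true := by decide +kernel
noncomputable def p12 : Pf := (.ext (nat_lit 0) (nat_lit 0) (nat_lit 0x1080020040010) (nat_lit 0x1002004008001001) (nat_lit 0x2003004008) (nat_lit 4101) (nat_lit 4101) (nat_lit 0xc004002001) (.dfs (nat_lit 5) (nat_lit 0x1002003004008) (nat_lit 0x100200300400c) (nat_lit 4097) (nat_lit 4097) (nat_lit 6) (nat_lit 0) (nat_lit 2) (nat_lit 0) (nat_lit 0) (nat_lit 5) (nat_lit 1) (nat_lit 0) (nat_lit 1) (nat_lit 0) (nat_lit 1) (nat_lit 0) .nil))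
theorem c12 : (chk [] [] p12).n x7 s12 = true := by decide +kernel
noncomputable def p13 : Pf := (.lft (nat_lit 0x8002004001009e039035001001001) (nat_lit 166) (nat_lit 0x10e00c00a0080) (nat_lit 0x800400200100080840fa0cf) (.extn (nat_lit 0xac09e0a50f90830670840f60720f807b09f01d00105a0d004a0c00430a70250790620e80d40a60dd0c10fb01f0fc0ce0cc0fe0c50990e30070e409601209801b0ff07d06103a0b002a0a00230c70450190020880b40c60bd0a109b07f09c0ae0ec0de0e50b90c30270c40b60320b803b0df05d04101a09000a0800030e70650390220a80940e609d0810bb05f0bc08e08c0be0850d90a30470a40d60520d805b0bf03d02107a0f006a0e00630870050590420c80f40860fd0e10db03f0dc0ee0ba0300b30570d508909201802405602d03100b0ef00c03e05c06e05500907309707400608200808b06f0ed0f10aa0200da0500d30370b50e90f207804403604d05106b08f06c05e03c00e0350690130f70140660e20680eb00f08d0910ca0400fa0700f30170950c90d205806401606d07104b0af04c07e01c02e0150490330d70340460c20480cb02f0ad0b10ea06009a0100930770f50a90b203800407600d01102b0cf02c01e07c04e0750290530b70540260a20280ab04f0cd0d108a000) (nat_lit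 0x80040020010008004002001) (nat_lit 0x1010040020080) (nat_lit 2) (nat_lit 0) (nat_lit 0) (nat_lit 6) (nat_lit 0) .nil))
theorem c13 : (chk [] [] p13).n x8 s13 = true := by decide +kernel
noncomputable def p14 : Pf := (.ext (nat_lit 0) (nat_lit 0) (nat_lit 0x1080020040010003005006) (nat_lit 0x1f03001006f0320150560010cf001000040020010008002004001001003) (nat_lit 0x4601003002e) (nat_lit 4097) (nat_lit 4234) (nat_lit 0x7003001004f01d06c066) (.dfs (nat_lit 1) (nat_lit 0x104601003002e) (nat_lit 0x103101002003e) (nat_lit 0x1040020008004002001) (nat_lit 0x107003004f01d06c066) (nat_lit 30) (nat_lit 0) (nat_lit 2) (nat_lit 0) (nat_lit 0) (nat_lit 2) (nat_lit 1) (nat_lit 0) (nat_lit 4128) (nat_lit 32) (nat_lit 0x100008a) (nat_lit 0x40000000000000000000000000000000000) (.cD (nat_lit 138) (.cut (nat_lit 0)) .nil)))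
theorem c14 : (chk [(x8, s13)] [] p14).n x8 s14 = true := by decide +kernel
noncomputable def p15 : Pf := (.ext (nat_lit 0) (nat_lit 0) (nat_lit 0x1080020040010005) (nat_lit 0x14008006004011003010010000010008006004015004003) (nat_lit 0x2004008012) (nat_lit 0x1006003) (nat_lit 0x100608d) (nat_lit 0x1400800400200501c008004006009) (.dfs (nat_lit 3) (nat_lit 0x1002004008012) (nat_lit 0x100600400801a) (nat_lit 0x1010001) (nat_lit 0x101c009) (nat_lit 4) (nat_lit 0) (nat_lit 2) (nat_lit 0) (nat_lit 0) (nat_lit 13) (nat_lit 1) (nat_lit 0) (nat_lit 4112) (nat_lit 16) (nat_lit 0x100008d0000ad) (nat_lit 0x20000000200000000000000000000000000000000000) (.cD (nat_lit 141) (.kA false (nat_lit 0x1700801802c00702b00801802c0020fa002000003)) (.cD (nat_lit 173) (.dfs (nat_lit 6) (nat_lit 0x1004008010024) (nat_lit 0x100400801002c) (nat_lit 0x1020002001) (nat_lit 0x102800a009) (nat_lit 0) (nat_lit 0) (nat_lit 2) (nat_lit 0) (nat_lit 0) (nat_lit 6) (nat_lit 1) (nat_lit 0) (nat_lit 1) (nat_lit 0) (nat_lit 1) (nat_lit 0x40000000400000004000000040)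 (.cD (nat_lit 6) (.kS (nat_lit 0) (nat_lit 0x2101002003f004008010020040001002) (nat_lit 0x10ed0a3) (nat_lit 0xc004002007010008004006005) (nat_lit 0xcf00100006f01003007001b06a0010cf00100000801002004000200400202101002003f00b062003005)) (.cD (nat_lit 38) (.kA false (nat_lit 0x1700801802c00706f0100300500010fa002000003)) (.cD (nat_lit 70) (.cut (nat_lit 0)) (.cD (nat_lit 102) (.kA false (nat_lit 0x1f00801802c00706f0100300500010fa002000003)) .nil))))) .nil))))
theorem c15 : (chk [(x8, s14)] [] p15).n x8 s15 = true := by decide +kernel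
noncomputable def p16 : Pf := (.ext (nat_lit 0) (nat_lit 0x4006008010002001) (nat_lit 0x1080020040010005) (nat_lit 0x1a00800400201300200800800001c008002004015001025005000010008006004015002005) (nat_lit 0x400600801a) (nat_lit 0x1006003) (nat_lit 0x1010003) (nat_lit 0x1400800400200501c008004006009) (.dfs (nat_lit 3) (nat_lit 0x1002004008010) (nat_lit 0x100600400801c) (nat_lit 4097) (nat_lit 4105) (nat_lit 4) (nat_lit 0) (nat_lit 2) (nat_lit 0) (nat_lit 0x2004008010001001) (nat_lit 3) (nat_lit 1) (nat_lit 0) (nat_lit 4134) (nat_lit 38) (nat_lit 0x1000003000023) (nat_lit 0x800000008) (.cD (nat_lit 3) (.dfs (nat_lit 6) (nat_lit 0x103b00801800f) (nat_lit 0x103300801800f) (nat_lit 0x1020010004002001) (nat_lit 0x102801000400a009) (nat_lit 0) (nat_lit 0) (nat_lit 2) (nat_lit 1) (nat_lit 0) (nat_lit 16) (nat_lit 1) (nat_lit 0) (nat_lit 1) (nat_lit 0) (nat_lit 1) (nat_lit 0x10000000100000001000000010000) (.cD (nat_lit 16) (.kA false (nat_lit 0x4f0100300400020cf001000008010020040001003)) (.cD (nat_lit 48) (.cut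 (nat_lit 0)) (.cD (nat_lit 80) (.kA false (nat_lit 0x5f0100300400020cf001000008010020040001003)) (.cD (nat_lit 112) (.kS (nat_lit 0) (nat_lit 0x6f0100300700010cf001000002) (nat_lit 0x10ad08b) (nat_lit 0xc004002007010008004006005) (nat_lit 0xfa0020000080100200400020040010010cf00006f01003007001b06a002004)) .nil))))) (.cD (nat_lit 35) (.kA false (nat_lit 0x3300801801f0010cf001000004008010020001003)) .nil))))
theorem c16 : (chk [(x8, s15)] [] p16).n x8 s16 = true := by decide +kernel
noncomputable def p17 : Pf := (.ext (nat_lit 0) (nat_lit 0) (nat_lit 0x1200080100040) (nat_lit 0x120080040060013ea006000002) (nat_lit 0x200100400b) (nat_lit 4097) (nat_lit 4120) (nat_lit 0x9004002001) (.dfs (nat_lit 1) (nat_lit 0x100200100400b) (nat_lit 0x100200100400a) (nat_lit 4104) (nat_lit 4105) (nat_lit 4) (nat_lit 0) (nat_lit 2) (nat_lit 0) (nat_lit 0) (nat_lit 24) (nat_lit 1) (nat_lit 0) (nat_lit 1) (nat_lit 0) (nat_lit 1) (nat_lit 0) .nil))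
theorem c17 : (chk [] [] p17).n x10 s17 = true := by decide +kernel
noncomputable def p18 : Pf := (.ext (nat_lit 0) (nat_lit 0) (nat_lit 0x1200080100040) (nat_lit 0x120080040060013ea006000002) (nat_lit 0x200100400b) (nat_lit 4097) (nat_lit 4120) (nat_lit 0x9004002001) (.dfs (nat_lit 1) (nat_lit 0x100200100400b) (nat_lit 0x100200100400a) (nat_lit 4104) (nat_lit 4105) (nat_lit 6) (nat_lit 0) (nat_lit 2) (nat_lit 0) (nat_lit 0) (nat_lit 24) (nat_lit 1) (nat_lit 0) (nat_lit 1) (nat_lit 0) (nat_lit 1) (nat_lit 0) .nil))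
theorem c18 : (chk [] [] p18).n x11 s18 = true := by decide +kernel
noncomputable def p19 : Pf := (.lft (nat_lit 0x10004008002013c071069001002001001) (nat_lit 64) (nat_lit 0x11dc1c019c18015c14011c100) (nat_lit 0x1000800400200101081f419e111) (.extn a30 (nat_lit 0x100080040020010008004002001) (nat_lit 0x1020080040100) (nat_lit 2) (nat_lit 0) (nat_lit 0) (nat_lit 0) (nat_lit 0x1000000000000000000000000000000010000000000000000) (.cE (nat_lit 64) b39 (nat_lit 0) (.cut (nat_lit 0)) .nil (.cE (nat_lit 192) b40 (nat_lit 0) (.cut (nat_lit 1)) .nil .nil))))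
theorem c19 : (chk [(x10, s17), (x11, s18)] [] p19).n x9 s19 = true := by decide +kernel
noncomputable def p20 : Pf := (.anz (nat_lit 256) (.iso x13 ⟨[([nat_lit 256, nat_lit 270, nat_lit 512, nat_lit 64, nat_lit 16, nat_lit 32, nat_lit 206], [nat_lit 512, nat_lit 350, nat_lit 256, nat_lit 16, nat_lit 64, nat_lit 32, nat_lit 158])], [], [], [], [], [], true, false, []⟩ (nat_lit 0) (nat_lit 0x100101802c04008010000a00c006002) (nat_lit 0xce01002004009419d1f31f9001200) [(nat_lit 0x40020010008004002001001001)] (.syr (nat_lit 206) false (nat_lit 2) (nat_lit 1) (nat_lit 107) (nat_lit 1) (nat_lit 0x1200008004002001) (nat_lit 0x2000e801415606b) (nat_lit 0x10000200000400010400020400030400000440010440020440030440040440000600010600020600030600000c00010c00000d00010d000014000114000020000120000220000320000020c00120c00220c00320c00420c00021000121000221000321000021c00121c00221c00321c00421c0011d40021d40041d40000b00010b00020b00030b00021340031340001140011e40021e40041e40011800011900011700003f80013f80023f80033f80043f80003f00023f00033400013900002200012200022200032200022580032580003bc0003e80013e80023e80033e80043e80003e00023e00033500013800002300012300022300032300022480032480003ac0000740021e00011c00003100032ec0003c80023d00013b00003000032fc0003d80023c00013a0)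 (nat_lit 0x1001100100000000000000000000000000000000000000000000000100000000000000000000000000010001000000000000000000000001000000110000000100010000) (.cD (nat_lit 16) (.kc (nat_lit 206) (nat_lit 0x1001001)) (.cD (nat_lit 32) (.kc (nat_lit 206) (nat_lit 0x800315600200002c0030e800800007f0031560020000110030e800800003000306b00100000100100b)) (.cD (nat_lit 64) (.kc (nat_lit 206) (nat_lit 0x8003001001002)) (.cD (nat_lit 68) (.kc (nat_lit 206) (nat_lit 0x800315600200002c00315600200005b00306b001000001001007)) (.cD (nat_lit 96) (.kc (nat_lit 206) (nat_lit 0x800315600200002c0030e800800007f0031560020000110030e8008000001001009)) (.cD (nat_lit 192) (.kc (nat_lit 206) (nat_lit 0x800315600200002c00315600200005b00315600200004a0030e9003000001001009)) (.cD (nat_lit 208) (.kc (nat_lit 206) (nat_lit 0x800315600200002c00315600200005b00315600200004a00306b0010000460030e800800002900306b00100001c003156002000073003001001010)) (.cD (nat_lit 320) (.kc (nat_lit 206) (nat_lit 0x800315600200002c00315600200005b00315600200004a00306b0010000460030e80080000290030e900300000100100d))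 (.cD (nat_lit 512) (.kc (nat_lit 206) (nat_lit 0x800315600200002c0030e800800007f0030dc00c000001001007)) (.cD (nat_lit 524) (.kc (nat_lit 206) (nat_lit 0x800314200600002400306b001000001001005)) (.cD (nat_lit 528) (.kc (nat_lit 206) (nat_lit 0x800315600200002c00315600200005b00315600200004a00306b0010000460030e80080000290030e900300001400300100100e)) (.cD (nat_lit 540) (.kc (nat_lit 206) (nat_lit 0x800315600200002c00315600200005b00315600200004a00306b00100004600319300900000100100b)) .nil)))))))))))))))
theorem c20 : (chk [] [g37] p20).n x12 s20 = true := by decide +kernel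
noncomputable def p21 : Pf := (.clm (.cut (nat_lit 0)) (.dfs (nat_lit 512) (nat_lit 1) (nat_lit 1) (nat_lit 1) (nat_lit 1) (nat_lit 0) (nat_lit 0) (nat_lit 0) (nat_lit 0) (nat_lit 0) (nat_lit 0) (nat_lit 1) (nat_lit 0) (nat_lit 0x1200040020010008004002001) (nat_lit 0x2000400202103e833c222001) (nat_lit 0x100100100200100300100500100700100101800201800301800501800101900201900301900501900701900002000102000202000402000602000102c00202c00302c00502c00702c00102d00202d00302d00502d00702d00004b00104b00204b00304b00404b00604b00704b00105800305800705800106c00306c00706c0010800010ec0030ec0070ec0002000012000022000032000010cb0020cb0030cb0040cb0060cb0070cb0062c70003e70013e70063e70021a00041a00061a000106b00206b00306b00406b00606b00706b00623f00031f00131f00631f00317800617800114c00214c00314c00414c00614c00714c0063f40003740013740063740012bf0022bf0032bf0042bf0062bf0072bf0060eb00014b00114b00614b0032470042470062470072470020990022950052550011eb0012400022400032400042400052400022b80032b80042b80043800043c00053c0) (nat_lit 0x100000000000000000000000000000000000000000000000000000000000000010000100000000000000000000000000100001000010008000000300103000002)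 (.cD (nat_lit 1) (.kc (nat_lit 512) (nat_lit 0x80033ea00600002c0031c60120000470031c6012000001001007)) (.cD (nat_lit 24) (.kc (nat_lit 512) (nat_lit 0x80033ea00600002c0031c60120000470031c6012000001003001001008)) (.cD (nat_lit 25) (.kc (nat_lit 512) (nat_lit 0x80031c60120000240031c601200006b0031c601200006a00322200200006e0033ea00600002900322200200001c00302002000000100100f)) (.cD (nat_lit 32) (.kc (nat_lit 512) (nat_lit 0x8003210010000001001003)) (.cD (nat_lit 44) (.kc (nat_lit 512) (nat_lit 0x80031c60120000240031c601200006b003001001006)) (.cD (nat_lit 45) (.kc (nat_lit 512) (nat_lit 0x80031c60120000240033ea006000001001005)) (.cD (nat_lit 75) (.kc (nat_lit 512) (nat_lit 0x80031c60120000240031c601200006b0031c601200006a00322200200006e00333c00400000100100b)) (.cD (nat_lit 88) (.kc (nat_lit 512) (nat_lit 0x80033ea00600002c0033ea00600005b0033ea00600004a0032220020000460031c601200003900322200200000100100d)) (.cD (nat_lit 108) (.kc (nat_lit 512) (nat_lit 0x80031c60120000240031c601200006b0031c601200006a003222002000001001009))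 (.cD (nat_lit 128) (.kc (nat_lit 512) (nat_lit 0x80033ea00600002c0031c60120000470031c60120000010033ea00600003000322200200000100100b)) (.cD (nat_lit 236) (.kc (nat_lit 512) (nat_lit 0x80033ea00600002c0033ea00600005b0033ea00600004a0032220020000460031c60120000390032220020000140031c6012000043003001001010)) (.cD (nat_lit 256) (.kc (nat_lit 512) (nat_lit 0x1001001)) (.cD (nat_lit 512) (.kin (nat_lit 1) (nat_lit 0)) .nil)))))))))))))))
theorem c21 : (chk [(x12, s20)] [] p21).n x12 s21 = true := by decide +kernel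
noncomputable def p22 : Pf := (.dfs (nat_lit 20) (nat_lit 0x1004002008016) (nat_lit 0x100400200801e) (nat_lit 0x1010001) (nat_lit 0x1018003) (nat_lit 8) (nat_lit 0) (nat_lit 2) (nat_lit 0) (nat_lit 0) (nat_lit 20) (nat_lit 1) (nat_lit 0) (nat_lit 1) (nat_lit 0) (nat_lit 1) (nat_lit 0x1000000000000000100000000000000010000000000000001000000000000000100000000000000010000000000000001000000000000000100000) (.cD (nat_lit 20) (.dfs (nat_lit 24) (nat_lit 0x100800401002c) (nat_lit 0x1008004010024) (nat_lit 0x1020002001) (nat_lit 0x1028002009) (nat_lit 0) (nat_lit 0) (nat_lit 2) (nat_lit 0) (nat_lit 0) (nat_lit 1) (nat_lit 1) (nat_lit 0) (nat_lit 1) (nat_lit 0) (nat_lit 1) (nat_lit 0x20000000000000002000000000000000200000000000000020000000000000002000000000000000200000000000000020000000000000002) (.cD (nat_lit 1) (.kS (nat_lit 0) (nat_lit 0x8010020040001001) (nat_lit 4248) (nat_lit 0x8004002009) (nat_lit 0x10008020058001002008010020040004002002)) (.cD (nat_lit 65) (.kS (nat_lit 0) (nat_lit 0x8010020040001001)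 (nat_lit 4248) (nat_lit 0x8004002009) (nat_lit 0x10008020058011002008010020040004002002)) (.cD (nat_lit 129) (.kS (nat_lit 0) (nat_lit 0x8010020040001001) (nat_lit 4948) (nat_lit 0x8004002003) (nat_lit 0x2a602a000004006008010001004008010020040042002003)) (.cD (nat_lit 193) (.kS (nat_lit 0) (nat_lit 0x8010020040001001) (nat_lit 0x1098014) (nat_lit 0x8004002009010008004006011) (nat_lit 0x10008020058031002002008010020040004002002002)) (.cD (nat_lit 257) (.kS (nat_lit 0) (nat_lit 0x8010020040001001) (nat_lit 4248) (nat_lit 0x8004002009) (nat_lit 0x10008020058009002008010020040004002002)) (.cD (nat_lit 321) (.kS (nat_lit 0) (nat_lit 0x8010020040001001) (nat_lit 4248) (nat_lit 0x8004002009) (nat_lit 0x10008020058019002008010020040004002002)) (.cD (nat_lit 385) (.kS (nat_lit 0) (nat_lit 0x8010020040001001) (nat_lit 4248) (nat_lit 0x8004002009) (nat_lit 0x10008020058029002008010020040004002002)) (.cD (nat_lit 449) (.kS (nat_lit 0) (nat_lit 0x8010020040001001) (nat_lit 4248) (nat_lit 0x8004002009) (nat_lit 0x10008020058039002008010020040004002002))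 .nil))))))))) (.cD (nat_lit 84) (.dfs (nat_lit 24) (nat_lit 0x100800401002c) (nat_lit 0x1008004010024) (nat_lit 0x1020002001) (nat_lit 0x1028002009) (nat_lit 0) (nat_lit 0) (nat_lit 2) (nat_lit 0) (nat_lit 0) (nat_lit 1) (nat_lit 1) (nat_lit 0) (nat_lit 1) (nat_lit 0) (nat_lit 1) (nat_lit 0x20000000000000002000000000000000200000000000000020000000000000002000000000000000200000000000000020000000000000002) (.cD (nat_lit 1) (.kS (nat_lit 0) (nat_lit 0x8010020040001001) (nat_lit 4248) (nat_lit 0x8004002009) (nat_lit 0x10008020058001002008010020040004002002)) (.cD (nat_lit 65) (.kS (nat_lit 0) (nat_lit 0x8010020040001001) (nat_lit 4248) (nat_lit 0x8004002009) (nat_lit 0x10008020058011002008010020040004002002)) (.cD (nat_lit 129) (.kS (nat_lit 0) (nat_lit 0x8010020040001001) (nat_lit 0x1098054) (nat_lit 0x8004002009010008004006011) (nat_lit 0x10008020058021012002008010020040004002002002)) (.cD (nat_lit 193) (.kS (nat_lit 0) (nat_lit 0x8010020040001001) (nat_lit 0x1098054) (nat_lit 0x8004002009010008004006011)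 (nat_lit 0x10008020058031012002008010020040004002002002)) (.cD (nat_lit 257) (.kS (nat_lit 0) (nat_lit 0x8010020040001001) (nat_lit 4248) (nat_lit 0x8004002009) (nat_lit 0x10008020058009002008010020040004002002)) (.cD (nat_lit 321) (.kS (nat_lit 0) (nat_lit 0x8010020040001001) (nat_lit 4248) (nat_lit 0x8004002009) (nat_lit 0x10008020058019002008010020040004002002)) (.cD (nat_lit 385) (.kS (nat_lit 0) (nat_lit 0x8010020040001001) (nat_lit 4248) (nat_lit 0x8004002009) (nat_lit 0x10008020058029002008010020040004002002)) (.cD (nat_lit 449) (.kS (nat_lit 0) (nat_lit 0x8010020040001001) (nat_lit 4248) (nat_lit 0x8004002009) (nat_lit 0x10008020058039002008010020040004002002)) .nil))))))))) (.cD (nat_lit 148) (.dfs (nat_lit 24) (nat_lit 0x100800401002c) (nat_lit 0x1008004010024) (nat_lit 0x1020002001) (nat_lit 0x1028002009) (nat_lit 0) (nat_lit 0) (nat_lit 2) (nat_lit 0) (nat_lit 0) (nat_lit 1) (nat_lit 1) (nat_lit 0) (nat_lit 1) (nat_lit 0) (nat_lit 1) (nat_lit 0x20000000000000002000000000000000200000000000000020000000000000002000000000000000200000000000000020000000000000002)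 (.cD (nat_lit 1) (.kS (nat_lit 0) (nat_lit 0x8010020040001001) (nat_lit 4248) (nat_lit 0x8004002009) (nat_lit 0x10008020058001002008010020040004002002)) (.cD (nat_lit 65) (.kS (nat_lit 0) (nat_lit 0x8010020040001001) (nat_lit 4248) (nat_lit 0x8004002009) (nat_lit 0x10008020058011002008010020040004002002)) (.cD (nat_lit 129) (.kS (nat_lit 0) (nat_lit 0x20020000018010020040001020020000003) (nat_lit 0x10410d4) (nat_lit 0x8004002009010008004006011) (nat_lit 0x1001802004803103200102002000000801002004000400200102002000001801002004000d012002020020000006)) (.cD (nat_lit 193) (.kS (nat_lit 0) (nat_lit 0x8010020040001001) (nat_lit 0x1098094) (nat_lit 0x8004002009010008004006011) (nat_lit 0x10008020058031022002008010020040004002002002)) (.cD (nat_lit 257) (.kS (nat_lit 0) (nat_lit 0x8010020040001001) (nat_lit 4248) (nat_lit 0x8004002009) (nat_lit 0x10008020058009002008010020040004002002)) (.cD (nat_lit 321) (.kS (nat_lit 0) (nat_lit 0x8010020040001001) (nat_lit 4248) (nat_lit 0x8004002009) (nat_lit 0x10008020058019002008010020040004002002))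 (.cD (nat_lit 385) (.kS (nat_lit 0) (nat_lit 0x8010020040001001) (nat_lit 4248) (nat_lit 0x8004002009) (nat_lit 0x10008020058029002008010020040004002002)) (.cD (nat_lit 449) (.kS (nat_lit 0) (nat_lit 0x8010020040001001) (nat_lit 4248) (nat_lit 0x8004002009) (nat_lit 0x10008020058039002008010020040004002002)) .nil))))))))) (.cD (nat_lit 212) (.dfs (nat_lit 24) (nat_lit 0x100800401002c) (nat_lit 0x1008004010024) (nat_lit 0x1020002001) (nat_lit 0x1028002009) (nat_lit 0) (nat_lit 0) (nat_lit 2) (nat_lit 0) (nat_lit 0) (nat_lit 1) (nat_lit 1) (nat_lit 0) (nat_lit 1) (nat_lit 0) (nat_lit 1) (nat_lit 0x20000000000000002000000000000000200000000000000020000000000000002000000000000000200000000000000020000000000000002) (.cD (nat_lit 1) (.kS (nat_lit 0) (nat_lit 0x8010020040001001) (nat_lit 4248) (nat_lit 0x8004002009) (nat_lit 0x10008020058001002008010020040004002002)) (.cD (nat_lit 65) (.kS (nat_lit 0) (nat_lit 0x8010020040001001) (nat_lit 4248) (nat_lit 0x8004002009) (nat_lit 0x10008020058011002008010020040004002002))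 (.cD (nat_lit 129) (.kS (nat_lit 0) (nat_lit 0x8010020040001001) (nat_lit 0x10980d4) (nat_lit 0x8004002009010008004006011) (nat_lit 0x10008020058021032002008010020040004002002002)) (.cD (nat_lit 193) (.kS (nat_lit 0) (nat_lit 0x8010020040001001) (nat_lit 0x10980d4) (nat_lit 0x8004002009010008004006011) (nat_lit 0x10008020058031032002008010020040004002002002)) (.cD (nat_lit 257) (.kS (nat_lit 0) (nat_lit 0x8010020040001001) (nat_lit 4248) (nat_lit 0x8004002009) (nat_lit 0x10008020058009002008010020040004002002)) (.cD (nat_lit 321) (.kS (nat_lit 0) (nat_lit 0x8010020040001001) (nat_lit 4248) (nat_lit 0x8004002009) (nat_lit 0x10008020058019002008010020040004002002)) (.cD (nat_lit 385) (.kS (nat_lit 0) (nat_lit 0x8010020040001001) (nat_lit 4248) (nat_lit 0x8004002009) (nat_lit 0x10008020058029002008010020040004002002)) (.cD (nat_lit 449) (.kS (nat_lit 0) (nat_lit 0x8010020040001001) (nat_lit 4248) (nat_lit 0x8004002009) (nat_lit 0x10008020058039002008010020040004002002)) .nil))))))))) (.cD (nat_lit 276)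 (.dfs (nat_lit 24) (nat_lit 0x100800401002c) (nat_lit 0x1008004010024) (nat_lit 0x1020002001) (nat_lit 0x1028002009) (nat_lit 0) (nat_lit 0) (nat_lit 2) (nat_lit 0) (nat_lit 0) (nat_lit 1) (nat_lit 1) (nat_lit 0) (nat_lit 1) (nat_lit 0) (nat_lit 1) (nat_lit 0x20000000000000002000000000000000200000000000000020000000000000002000000000000000200000000000000020000000000000002) (.cD (nat_lit 1) (.kS (nat_lit 0) (nat_lit 0x8010020040001001) (nat_lit 4248) (nat_lit 0x8004002009) (nat_lit 0x10008020058001002008010020040004002002)) (.cD (nat_lit 65) (.kS (nat_lit 0) (nat_lit 0x8010020040001001) (nat_lit 4248) (nat_lit 0x8004002009) (nat_lit 0x10008020058011002008010020040004002002)) (.cD (nat_lit 129) (.kS (nat_lit 0) (nat_lit 0x8010020040001001) (nat_lit 0x1098114) (nat_lit 0x8004002009010008004006011) (nat_lit 0x1000802005802100a002008010020040004002002002)) (.cD (nat_lit 193) (.kS (nat_lit 0) (nat_lit 0x8010020040001001) (nat_lit 0x1098114) (nat_lit 0x8004002009010008004006011) (nat_lit 0x1000802005803100a002008010020040004002002002))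 (.cD (nat_lit 257) (.kS (nat_lit 0) (nat_lit 0x8010020040001001) (nat_lit 4248) (nat_lit 0x8004002009) (nat_lit 0x10008020058009002008010020040004002002)) (.cD (nat_lit 321) (.kS (nat_lit 0) (nat_lit 0x8010020040001001) (nat_lit 4248) (nat_lit 0x8004002009) (nat_lit 0x10008020058019002008010020040004002002)) (.cD (nat_lit 385) (.kS (nat_lit 0) (nat_lit 0x8010020040001001) (nat_lit 4248) (nat_lit 0x8004002009) (nat_lit 0x10008020058029002008010020040004002002)) (.cD (nat_lit 449) (.kS (nat_lit 0) (nat_lit 0x8010020040001001) (nat_lit 4248) (nat_lit 0x8004002009) (nat_lit 0x10008020058039002008010020040004002002)) .nil))))))))) (.cD (nat_lit 340) (.dfs (nat_lit 24) (nat_lit 0x100800401002c) (nat_lit 0x1008004010024) (nat_lit 0x1020002001) (nat_lit 0x1028002009) (nat_lit 0) (nat_lit 0) (nat_lit 2) (nat_lit 0) (nat_lit 0) (nat_lit 1) (nat_lit 1) (nat_lit 0) (nat_lit 1) (nat_lit 0) (nat_lit 1) (nat_lit 0x20000000000000002000000000000000200000000000000020000000000000002000000000000000200000000000000020000000000000002)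 (.cD (nat_lit 1) (.kS (nat_lit 0) (nat_lit 0x8010020040001001) (nat_lit 4248) (nat_lit 0x8004002009) (nat_lit 0x10008020058001002008010020040004002002)) (.cD (nat_lit 65) (.kS (nat_lit 0) (nat_lit 0x8010020040001001) (nat_lit 4248) (nat_lit 0x8004002009) (nat_lit 0x10008020058011002008010020040004002002)) (.cD (nat_lit 129) (.iso x12 s21 (nat_lit 0) (nat_lit 0x1200100080040020010008004102081) (nat_lit 0x200100080040020010008004102081) [(nat_lit 0x40020010008024002001001001)] (.cut (nat_lit 0))) (.cD (nat_lit 193) (.kS (nat_lit 0) (nat_lit 0x8010020040001001) (nat_lit 0x1098154) (nat_lit 0x8004002009010008004006011) (nat_lit 0x1000802005803101a002008010020040004002002002)) (.cD (nat_lit 257) (.kS (nat_lit 0) (nat_lit 0x8010020040001001) (nat_lit 4248) (nat_lit 0x8004002009) (nat_lit 0x10008020058009002008010020040004002002)) (.cD (nat_lit 321) (.kS (nat_lit 0) (nat_lit 0x8010020040001001) (nat_lit 4248) (nat_lit 0x8004002009) (nat_lit 0x10008020058019002008010020040004002002)) (.cD (nat_lit 385) (.kS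 (nat_lit 0) (nat_lit 0x8010020040001001) (nat_lit 4248) (nat_lit 0x8004002009) (nat_lit 0x10008020058029002008010020040004002002)) (.cD (nat_lit 449) (.kS (nat_lit 0) (nat_lit 0x8010020040001001) (nat_lit 4248) (nat_lit 0x8004002009) (nat_lit 0x10008020058039002008010020040004002002)) .nil))))))))) (.cD (nat_lit 404) (.dfs (nat_lit 24) (nat_lit 0x100800401002c) (nat_lit 0x1008004010024) (nat_lit 0x1020002001) (nat_lit 0x1028002009) (nat_lit 0) (nat_lit 0) (nat_lit 2) (nat_lit 0) (nat_lit 0) (nat_lit 1) (nat_lit 1) (nat_lit 0) (nat_lit 1) (nat_lit 0) (nat_lit 1) (nat_lit 0x20000000000000002000000000000000200000000000000020000000000000002000000000000000200000000000000020000000000000002) (.cD (nat_lit 1) (.kS (nat_lit 0) (nat_lit 0x8010020040001001) (nat_lit 4248) (nat_lit 0x8004002009) (nat_lit 0x10008020058001002008010020040004002002)) (.cD (nat_lit 65) (.kS (nat_lit 0) (nat_lit 0x8010020040001001) (nat_lit 4248) (nat_lit 0x8004002009) (nat_lit 0x10008020058011002008010020040004002002)) (.cD (nat_lit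 129) (.kS (nat_lit 0) (nat_lit 0x8010020040001001) (nat_lit 0x1098194) (nat_lit 0x8004002009010008004006011) (nat_lit 0x1000802005802102a002008010020040004002002002)) (.cD (nat_lit 193) (.kS (nat_lit 0) (nat_lit 0x8010020040001001) (nat_lit 0x1098194) (nat_lit 0x8004002009010008004006011) (nat_lit 0x1000802005803102a002008010020040004002002002)) (.cD (nat_lit 257) (.kS (nat_lit 0) (nat_lit 0x8010020040001001) (nat_lit 4248) (nat_lit 0x8004002009) (nat_lit 0x10008020058009002008010020040004002002)) (.cD (nat_lit 321) (.kS (nat_lit 0) (nat_lit 0x8010020040001001) (nat_lit 4248) (nat_lit 0x8004002009) (nat_lit 0x10008020058019002008010020040004002002)) (.cD (nat_lit 385) (.kS (nat_lit 0) (nat_lit 0x8010020040001001) (nat_lit 4248) (nat_lit 0x8004002009) (nat_lit 0x10008020058029002008010020040004002002)) (.cD (nat_lit 449) (.kS (nat_lit 0) (nat_lit 0x8010020040001001) (nat_lit 4248) (nat_lit 0x8004002009) (nat_lit 0x10008020058039002008010020040004002002)) .nil))))))))) (.cD (nat_lit 468) (.dfs (nat_lit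 24) (nat_lit 0x100800401002c) (nat_lit 0x1008004010024) (nat_lit 0x1020002001) (nat_lit 0x1028002009) (nat_lit 0) (nat_lit 0) (nat_lit 2) (nat_lit 0) (nat_lit 0) (nat_lit 1) (nat_lit 1) (nat_lit 0) (nat_lit 1) (nat_lit 0) (nat_lit 1) (nat_lit 0x20000000000000002000000000000000200000000000000020000000000000002000000000000000200000000000000020000000000000002) (.cD (nat_lit 1) (.kS (nat_lit 0) (nat_lit 0x8010020040001001) (nat_lit 4248) (nat_lit 0x8004002009) (nat_lit 0x10008020058001002008010020040004002002)) (.cD (nat_lit 65) (.kS (nat_lit 0) (nat_lit 0x8010020040001001) (nat_lit 4248) (nat_lit 0x8004002009) (nat_lit 0x10008020058011002008010020040004002002)) (.cD (nat_lit 129) (.kS (nat_lit 0) (nat_lit 0x20020000018010020040001020020000003) (nat_lit 0x1041094) (nat_lit 0x8004002009010008004006011) (nat_lit 0x1001802004803103a00102002000000801002004000400200102002000001801002004000d012002020020000006)) (.cD (nat_lit 193) (.kS (nat_lit 0) (nat_lit 0x8010020040001001) (nat_lit 0x10981d4) (nat_lit 0x8004002009010008004006011)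 (nat_lit 0x1000802005803103a002008010020040004002002002)) (.cD (nat_lit 257) (.kS (nat_lit 0) (nat_lit 0x8010020040001001) (nat_lit 4248) (nat_lit 0x8004002009) (nat_lit 0x10008020058009002008010020040004002002)) (.cD (nat_lit 321) (.kS (nat_lit 0) (nat_lit 0x8010020040001001) (nat_lit 4248) (nat_lit 0x8004002009) (nat_lit 0x10008020058019002008010020040004002002)) (.cD (nat_lit 385) (.kS (nat_lit 0) (nat_lit 0x8010020040001001) (nat_lit 4248) (nat_lit 0x8004002009) (nat_lit 0x10008020058029002008010020040004002002)) (.cD (nat_lit 449) (.kS (nat_lit 0) (nat_lit 0x8010020040001001) (nat_lit 4248) (nat_lit 0x8004002009) (nat_lit 0x10008020058039002008010020040004002002)) .nil))))))))) .nil)))))))))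
theorem c22 : (chk [(x12, s21)] [g31] p22).n x12 s22 = true := by decide +kernel
noncomputable def p23 : Pf := (.dfs (nat_lit 20) (nat_lit 0x1004002008016) (nat_lit 0x100400200801e) (nat_lit 0x1010001) (nat_lit 0x1018003) (nat_lit 8) (nat_lit 0) (nat_lit 2) (nat_lit 0) (nat_lit 0) (nat_lit 20) (nat_lit 1) (nat_lit 0) (nat_lit 1) (nat_lit 0) (nat_lit 1) (nat_lit 0x1000000000000000100000000000000010000000000000001000000000000000100000000000000010000000000000001000000000000000100000) (.cD (nat_lit 20) (.dfs (nat_lit 24) (nat_lit 0x100800401002c) (nat_lit 0x1008004010024) (nat_lit 0x1020002001) (nat_lit 0x1028002009) (nat_lit 0) (nat_lit 0) (nat_lit 2) (nat_lit 0) (nat_lit 0) (nat_lit 1) (nat_lit 1) (nat_lit 0) (nat_lit 1) (nat_lit 0) (nat_lit 1) (nat_lit 0x20000000000000002000000000000000200000000000000020000000000000002000000000000000200000000000000020000000000000002) (.cD (nat_lit 1) (.kS (nat_lit 0) (nat_lit 0x8010020040001001) (nat_lit 4184) (nat_lit 0x8004002009) (nat_lit 0x10008020058001002008010020040004002002))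 (.cD (nat_lit 65) (.kS (nat_lit 0) (nat_lit 0x8010020040001001) (nat_lit 4184) (nat_lit 0x8004002009) (nat_lit 0x10008020058011002008010020040004002002)) (.cD (nat_lit 129) (.kS (nat_lit 0) (nat_lit 0x8010020040001001) (nat_lit 4184) (nat_lit 0x8004002009) (nat_lit 0x10008020058021002008010020040004002002)) (.cD (nat_lit 193) (.kS (nat_lit 0) (nat_lit 0x8010020040001001) (nat_lit 4184) (nat_lit 0x8004002009) (nat_lit 0x10008020058031002008010020040004002002)) (.cD (nat_lit 257) (.kS (nat_lit 0) (nat_lit 0x8010020040001001) (nat_lit 4948) (nat_lit 0x8004002003) (nat_lit 0x2a602a000004006008010001004008010020040042002003)) (.cD (nat_lit 321) (.kS (nat_lit 0) (nat_lit 0x8010020040001001) (nat_lit 0x1058014) (nat_lit 0x8004002009010008004006011) (nat_lit 0x10008020058019002002008010020040004002002002)) (.cD (nat_lit 385) (.kS (nat_lit 0) (nat_lit 0x8010020040001001) (nat_lit 4184) (nat_lit 0x8004002009) (nat_lit 0x10008020058029002008010020040004002002)) (.cD (nat_lit 449) (.kS (nat_lit 0) (nat_lit 0x8010020040001001)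 (nat_lit 4184) (nat_lit 0x8004002009) (nat_lit 0x10008020058039002008010020040004002002)) .nil))))))))) (.cD (nat_lit 84) (.dfs (nat_lit 24) (nat_lit 0x100800401002c) (nat_lit 0x1008004010024) (nat_lit 0x1020002001) (nat_lit 0x1028002009) (nat_lit 0) (nat_lit 0) (nat_lit 2) (nat_lit 0) (nat_lit 0) (nat_lit 1) (nat_lit 1) (nat_lit 0) (nat_lit 1) (nat_lit 0) (nat_lit 1) (nat_lit 0x20000000000000002000000000000000200000000000000020000000000000002000000000000000200000000000000020000000000000002) (.cD (nat_lit 1) (.kS (nat_lit 0) (nat_lit 0x8010020040001001) (nat_lit 4184) (nat_lit 0x8004002009) (nat_lit 0x10008020058001002008010020040004002002)) (.cD (nat_lit 65) (.kS (nat_lit 0) (nat_lit 0x8010020040001001) (nat_lit 4184) (nat_lit 0x8004002009) (nat_lit 0x10008020058011002008010020040004002002)) (.cD (nat_lit 129) (.kS (nat_lit 0) (nat_lit 0x8010020040001001) (nat_lit 4184) (nat_lit 0x8004002009) (nat_lit 0x10008020058021002008010020040004002002)) (.cD (nat_lit 193) (.kS (nat_lit 0) (nat_lit 0x8010020040001001)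 (nat_lit 4184) (nat_lit 0x8004002009) (nat_lit 0x10008020058031002008010020040004002002)) (.cD (nat_lit 257) (.kS (nat_lit 0) (nat_lit 0x8010020040001001) (nat_lit 0x1058054) (nat_lit 0x8004002009010008004006011) (nat_lit 0x10008020058009012002008010020040004002002002)) (.cD (nat_lit 321) (.kS (nat_lit 0) (nat_lit 0x8010020040001001) (nat_lit 0x1058054) (nat_lit 0x8004002009010008004006011) (nat_lit 0x10008020058019012002008010020040004002002002)) (.cD (nat_lit 385) (.kS (nat_lit 0) (nat_lit 0x8010020040001001) (nat_lit 4184) (nat_lit 0x8004002009) (nat_lit 0x10008020058029002008010020040004002002)) (.cD (nat_lit 449) (.kS (nat_lit 0) (nat_lit 0x8010020040001001) (nat_lit 4184) (nat_lit 0x8004002009) (nat_lit 0x10008020058039002008010020040004002002)) .nil))))))))) (.cD (nat_lit 148) (.dfs (nat_lit 24) (nat_lit 0x100800401002c) (nat_lit 0x1008004010024) (nat_lit 0x1020002001) (nat_lit 0x1028002009) (nat_lit 0) (nat_lit 0) (nat_lit 2) (nat_lit 0) (nat_lit 0) (nat_lit 1) (nat_lit 1) (nat_lit 0) (nat_lit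 1) (nat_lit 0) (nat_lit 1) (nat_lit 0x20000000000000002000000000000000200000000000000020000000000000002000000000000000200000000000000020000000000000002) (.cD (nat_lit 1) (.kS (nat_lit 0) (nat_lit 0x8010020040001001) (nat_lit 4184) (nat_lit 0x8004002009) (nat_lit 0x10008020058001002008010020040004002002)) (.cD (nat_lit 65) (.kS (nat_lit 0) (nat_lit 0x8010020040001001) (nat_lit 4184) (nat_lit 0x8004002009) (nat_lit 0x10008020058011002008010020040004002002)) (.cD (nat_lit 129) (.kS (nat_lit 0) (nat_lit 0x8010020040001001) (nat_lit 4184) (nat_lit 0x8004002009) (nat_lit 0x10008020058021002008010020040004002002)) (.cD (nat_lit 193) (.kS (nat_lit 0) (nat_lit 0x8010020040001001) (nat_lit 4184) (nat_lit 0x8004002009) (nat_lit 0x10008020058031002008010020040004002002)) (.cD (nat_lit 257) (.kS (nat_lit 0) (nat_lit 0x20020000018010020040001020020000003) (nat_lit 0x10010d4) (nat_lit 0x8004002009010008004006011) (nat_lit 0x1001802004800903200102002000000801002004000400200102002000001801002004000d012002020020000006))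 (.cD (nat_lit 321) (.kS (nat_lit 0) (nat_lit 0x8010020040001001) (nat_lit 0x1058094) (nat_lit 0x8004002009010008004006011) (nat_lit 0x10008020058019022002008010020040004002002002)) (.cD (nat_lit 385) (.kS (nat_lit 0) (nat_lit 0x8010020040001001) (nat_lit 4184) (nat_lit 0x8004002009) (nat_lit 0x10008020058029002008010020040004002002)) (.cD (nat_lit 449) (.kS (nat_lit 0) (nat_lit 0x8010020040001001) (nat_lit 4184) (nat_lit 0x8004002009) (nat_lit 0x10008020058039002008010020040004002002)) .nil))))))))) (.cD (nat_lit 212) (.dfs (nat_lit 24) (nat_lit 0x100800401002c) (nat_lit 0x1008004010024) (nat_lit 0x1020002001) (nat_lit 0x1028002009) (nat_lit 0) (nat_lit 0) (nat_lit 2) (nat_lit 0) (nat_lit 0) (nat_lit 1) (nat_lit 1) (nat_lit 0) (nat_lit 1) (nat_lit 0) (nat_lit 1) (nat_lit 0x20000000000000002000000000000000200000000000000020000000000000002000000000000000200000000000000020000000000000002) (.cD (nat_lit 1) (.kS (nat_lit 0) (nat_lit 0x8010020040001001) (nat_lit 4184) (nat_lit 0x8004002009) (nat_lit 0x10008020058001002008010020040004002002))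 (.cD (nat_lit 65) (.kS (nat_lit 0) (nat_lit 0x8010020040001001) (nat_lit 4184) (nat_lit 0x8004002009) (nat_lit 0x10008020058011002008010020040004002002)) (.cD (nat_lit 129) (.kS (nat_lit 0) (nat_lit 0x8010020040001001) (nat_lit 4184) (nat_lit 0x8004002009) (nat_lit 0x10008020058021002008010020040004002002)) (.cD (nat_lit 193) (.kS (nat_lit 0) (nat_lit 0x8010020040001001) (nat_lit 4184) (nat_lit 0x8004002009) (nat_lit 0x10008020058031002008010020040004002002)) (.cD (nat_lit 257) (.kS (nat_lit 0) (nat_lit 0x8010020040001001) (nat_lit 0x10580d4) (nat_lit 0x8004002009010008004006011) (nat_lit 0x10008020058009032002008010020040004002002002)) (.cD (nat_lit 321) (.kS (nat_lit 0) (nat_lit 0x8010020040001001) (nat_lit 0x10580d4) (nat_lit 0x8004002009010008004006011) (nat_lit 0x10008020058019032002008010020040004002002002)) (.cD (nat_lit 385) (.kS (nat_lit 0) (nat_lit 0x8010020040001001) (nat_lit 4184) (nat_lit 0x8004002009) (nat_lit 0x10008020058029002008010020040004002002)) (.cD (nat_lit 449) (.kS (nat_lit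 0) (nat_lit 0x8010020040001001) (nat_lit 4184) (nat_lit 0x8004002009) (nat_lit 0x10008020058039002008010020040004002002)) .nil))))))))) (.cD (nat_lit 276) (.dfs (nat_lit 24) (nat_lit 0x100800401002c) (nat_lit 0x1008004010024) (nat_lit 0x1020002001) (nat_lit 0x1028002009) (nat_lit 0) (nat_lit 0) (nat_lit 2) (nat_lit 0) (nat_lit 0) (nat_lit 1) (nat_lit 1) (nat_lit 0) (nat_lit 1) (nat_lit 0) (nat_lit 1) (nat_lit 0x20000000000000002000000000000000200000000000000020000000000000002000000000000000200000000000000020000000000000002) (.cD (nat_lit 1) (.kS (nat_lit 0) (nat_lit 0x8010020040001001) (nat_lit 4184) (nat_lit 0x8004002009) (nat_lit 0x10008020058001002008010020040004002002)) (.cD (nat_lit 65) (.kS (nat_lit 0) (nat_lit 0x8010020040001001) (nat_lit 4184) (nat_lit 0x8004002009) (nat_lit 0x10008020058011002008010020040004002002)) (.cD (nat_lit 129) (.kS (nat_lit 0) (nat_lit 0x8010020040001001) (nat_lit 4184) (nat_lit 0x8004002009) (nat_lit 0x10008020058021002008010020040004002002)) (.cD (nat_lit 193) (.kS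 (nat_lit 0) (nat_lit 0x8010020040001001) (nat_lit 4184) (nat_lit 0x8004002009) (nat_lit 0x10008020058031002008010020040004002002)) (.cD (nat_lit 257) (.kS (nat_lit 0) (nat_lit 0x8010020040001001) (nat_lit 0x1058114) (nat_lit 0x8004002009010008004006011) (nat_lit 0x1000802005800900a002008010020040004002002002)) (.cD (nat_lit 321) (.kS (nat_lit 0) (nat_lit 0x8010020040001001) (nat_lit 0x1058114) (nat_lit 0x8004002009010008004006011) (nat_lit 0x1000802005801900a002008010020040004002002002)) (.cD (nat_lit 385) (.kS (nat_lit 0) (nat_lit 0x8010020040001001) (nat_lit 4184) (nat_lit 0x8004002009) (nat_lit 0x10008020058029002008010020040004002002)) (.cD (nat_lit 449) (.kS (nat_lit 0) (nat_lit 0x8010020040001001) (nat_lit 4184) (nat_lit 0x8004002009) (nat_lit 0x10008020058039002008010020040004002002)) .nil))))))))) (.cD (nat_lit 340) (.dfs (nat_lit 24) (nat_lit 0x100800401002c) (nat_lit 0x1008004010024) (nat_lit 0x1020002001) (nat_lit 0x1028002009) (nat_lit 0) (nat_lit 0) (nat_lit 2) (nat_lit 0) (nat_lit 0) (nat_lit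 1) (nat_lit 1) (nat_lit 0) (nat_lit 1) (nat_lit 0) (nat_lit 1) (nat_lit 0x20000000000000002000000000000000200000000000000020000000000000002000000000000000200000000000000020000000000000002) (.cD (nat_lit 1) (.kS (nat_lit 0) (nat_lit 0x8010020040001001) (nat_lit 4184) (nat_lit 0x8004002009) (nat_lit 0x10008020058001002008010020040004002002)) (.cD (nat_lit 65) (.kS (nat_lit 0) (nat_lit 0x8010020040001001) (nat_lit 4184) (nat_lit 0x8004002009) (nat_lit 0x10008020058011002008010020040004002002)) (.cD (nat_lit 129) (.kS (nat_lit 0) (nat_lit 0x8010020040001001) (nat_lit 4184) (nat_lit 0x8004002009) (nat_lit 0x10008020058021002008010020040004002002)) (.cD (nat_lit 193) (.kS (nat_lit 0) (nat_lit 0x8010020040001001) (nat_lit 4184) (nat_lit 0x8004002009) (nat_lit 0x10008020058031002008010020040004002002)) (.cD (nat_lit 257) (.iso x12 s21 (nat_lit 0) (nat_lit 0x1200100080040020010008004002101) (nat_lit 0x200100080040020010008004002101) [(nat_lit 0x40020010008014002001001001)] (.cut (nat_lit 0))) (.cD (nat_lit 321)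 (.kS (nat_lit 0) (nat_lit 0x8010020040001001) (nat_lit 0x1058154) (nat_lit 0x8004002009010008004006011) (nat_lit 0x1000802005801901a002008010020040004002002002)) (.cD (nat_lit 385) (.kS (nat_lit 0) (nat_lit 0x8010020040001001) (nat_lit 4184) (nat_lit 0x8004002009) (nat_lit 0x10008020058029002008010020040004002002)) (.cD (nat_lit 449) (.kS (nat_lit 0) (nat_lit 0x8010020040001001) (nat_lit 4184) (nat_lit 0x8004002009) (nat_lit 0x10008020058039002008010020040004002002)) .nil))))))))) (.cD (nat_lit 404) (.dfs (nat_lit 24) (nat_lit 0x100800401002c) (nat_lit 0x1008004010024) (nat_lit 0x1020002001) (nat_lit 0x1028002009) (nat_lit 0) (nat_lit 0) (nat_lit 2) (nat_lit 0) (nat_lit 0) (nat_lit 1) (nat_lit 1) (nat_lit 0) (nat_lit 1) (nat_lit 0) (nat_lit 1) (nat_lit 0x20000000000000002000000000000000200000000000000020000000000000002000000000000000200000000000000020000000000000002) (.cD (nat_lit 1) (.kS (nat_lit 0) (nat_lit 0x8010020040001001) (nat_lit 4184) (nat_lit 0x8004002009) (nat_lit 0x10008020058001002008010020040004002002))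 (.cD (nat_lit 65) (.kS (nat_lit 0) (nat_lit 0x8010020040001001) (nat_lit 4184) (nat_lit 0x8004002009) (nat_lit 0x10008020058011002008010020040004002002)) (.cD (nat_lit 129) (.kS (nat_lit 0) (nat_lit 0x8010020040001001) (nat_lit 4184) (nat_lit 0x8004002009) (nat_lit 0x10008020058021002008010020040004002002)) (.cD (nat_lit 193) (.kS (nat_lit 0) (nat_lit 0x8010020040001001) (nat_lit 4184) (nat_lit 0x8004002009) (nat_lit 0x10008020058031002008010020040004002002)) (.cD (nat_lit 257) (.kS (nat_lit 0) (nat_lit 0x8010020040001001) (nat_lit 0x1058194) (nat_lit 0x8004002009010008004006011) (nat_lit 0x1000802005800902a002008010020040004002002002)) (.cD (nat_lit 321) (.kS (nat_lit 0) (nat_lit 0x8010020040001001) (nat_lit 0x1058194) (nat_lit 0x8004002009010008004006011) (nat_lit 0x1000802005801902a002008010020040004002002002)) (.cD (nat_lit 385) (.kS (nat_lit 0) (nat_lit 0x8010020040001001) (nat_lit 4184) (nat_lit 0x8004002009) (nat_lit 0x10008020058029002008010020040004002002)) (.cD (nat_lit 449) (.kS (nat_lit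 0) (nat_lit 0x8010020040001001) (nat_lit 4184) (nat_lit 0x8004002009) (nat_lit 0x10008020058039002008010020040004002002)) .nil))))))))) (.cD (nat_lit 468) (.dfs (nat_lit 24) (nat_lit 0x100800401002c) (nat_lit 0x1008004010024) (nat_lit 0x1020002001) (nat_lit 0x1028002009) (nat_lit 0) (nat_lit 0) (nat_lit 2) (nat_lit 0) (nat_lit 0) (nat_lit 1) (nat_lit 1) (nat_lit 0) (nat_lit 1) (nat_lit 0) (nat_lit 1) (nat_lit 0x20000000000000002000000000000000200000000000000020000000000000002000000000000000200000000000000020000000000000002) (.cD (nat_lit 1) (.kS (nat_lit 0) (nat_lit 0x8010020040001001) (nat_lit 4184) (nat_lit 0x8004002009) (nat_lit 0x10008020058001002008010020040004002002)) (.cD (nat_lit 65) (.kS (nat_lit 0) (nat_lit 0x8010020040001001) (nat_lit 4184) (nat_lit 0x8004002009) (nat_lit 0x10008020058011002008010020040004002002)) (.cD (nat_lit 129) (.kS (nat_lit 0) (nat_lit 0x8010020040001001) (nat_lit 4184) (nat_lit 0x8004002009) (nat_lit 0x10008020058021002008010020040004002002)) (.cD (nat_lit 193) (.kS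 (nat_lit 0) (nat_lit 0x8010020040001001) (nat_lit 4184) (nat_lit 0x8004002009) (nat_lit 0x10008020058031002008010020040004002002)) (.cD (nat_lit 257) (.kS (nat_lit 0) (nat_lit 0x20020000018010020040001020020000003) (nat_lit 0x1001094) (nat_lit 0x8004002009010008004006011) (nat_lit 0x1001802004800903a00102002000000801002004000400200102002000001801002004000d012002020020000006)) (.cD (nat_lit 321) (.kS (nat_lit 0) (nat_lit 0x8010020040001001) (nat_lit 0x10581d4) (nat_lit 0x8004002009010008004006011) (nat_lit 0x1000802005801903a002008010020040004002002002)) (.cD (nat_lit 385) (.kS (nat_lit 0) (nat_lit 0x8010020040001001) (nat_lit 4184) (nat_lit 0x8004002009) (nat_lit 0x10008020058029002008010020040004002002)) (.cD (nat_lit 449) (.kS (nat_lit 0) (nat_lit 0x8010020040001001) (nat_lit 4184) (nat_lit 0x8004002009) (nat_lit 0x10008020058039002008010020040004002002)) .nil))))))))) .nil)))))))))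
theorem c23 : (chk [(x12, s21)] [g31] p23).n x12 s23 = true := by decide +kernel
noncomputable def p24 : Pf := (.ext (nat_lit 0) (nat_lit 0) (nat_lit 0x1200080100040) (nat_lit 0x120080040060013ea006000002) (nat_lit 0x200100400b) (nat_lit 0x1018014001) (nat_lit 0x1001014018) (nat_lit 0xa00400200100c004002001009004002001) (.dfs (nat_lit 1) (nat_lit 0x100200100400b) (nat_lit 0x100200100400a) (nat_lit 4104) (nat_lit 4105) (nat_lit 0) (nat_lit 0) (nat_lit 2) (nat_lit 0) (nat_lit 0) (nat_lit 24) (nat_lit 1) (nat_lit 0) (nat_lit 4608) (nat_lit 512) (nat_lit 0x10000180000580000980000d8) (nat_lit 0x1000000000000000100000000000000010000000000000001000000) (.cD (nat_lit 24) (.dfs (nat_lit 20) (nat_lit 0x1004002008016) (nat_lit 0x100400200801e) (nat_lit 0x1010001) (nat_lit 0x1018003) (nat_lit 8) (nat_lit 0) (nat_lit 2) (nat_lit 0) (nat_lit 0) (nat_lit 20) (nat_lit 1) (nat_lit 0) (nat_lit 1) (nat_lit 0) (nat_lit 1) (nat_lit 0x1000000000000000100000000000000010000000000000001000000000000000100000000000000010000000000000001000000000000000100000)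 (.cD (nat_lit 20) (.dfs (nat_lit 24) (nat_lit 0x100800401002c) (nat_lit 0x1008004010024) (nat_lit 0x1020002001) (nat_lit 0x1028002009) (nat_lit 0) (nat_lit 0) (nat_lit 2) (nat_lit 0) (nat_lit 0) (nat_lit 1) (nat_lit 1) (nat_lit 0) (nat_lit 1) (nat_lit 0) (nat_lit 1) (nat_lit 0x20000000000000002000000000000000200000000000000020000000000000002000000000000000200000000000000020000000000000002) (.cD (nat_lit 1) (.kS (nat_lit 0) (nat_lit 0x8010020040001001) (nat_lit 4948) (nat_lit 0x8004002003) (nat_lit 0x2a602a000004006008010001004008010020040042002003)) (.cD (nat_lit 65) (.kS (nat_lit 0) (nat_lit 0x8010020040001001) (nat_lit 0x1018014) (nat_lit 0x8004002009010008004006011) (nat_lit 0x10008020058011002002008010020040004002002002)) (.cD (nat_lit 129) (.kS (nat_lit 0) (nat_lit 0x8010020040001001) (nat_lit 4120) (nat_lit 0x8004002009) (nat_lit 0x10008020058021002008010020040004002002)) (.cD (nat_lit 193) (.kS (nat_lit 0) (nat_lit 0x8010020040001001) (nat_lit 4120) (nat_lit 0x8004002009) (nat_lit 0x10008020058031002008010020040004002002))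 (.cD (nat_lit 257) (.kS (nat_lit 0) (nat_lit 0x8010020040001001) (nat_lit 4120) (nat_lit 0x8004002009) (nat_lit 0x10008020058009002008010020040004002002)) (.cD (nat_lit 321) (.kS (nat_lit 0) (nat_lit 0x8010020040001001) (nat_lit 4120) (nat_lit 0x8004002009) (nat_lit 0x10008020058019002008010020040004002002)) (.cD (nat_lit 385) (.kS (nat_lit 0) (nat_lit 0x8010020040001001) (nat_lit 4120) (nat_lit 0x8004002009) (nat_lit 0x10008020058029002008010020040004002002)) (.cD (nat_lit 449) (.kS (nat_lit 0) (nat_lit 0x8010020040001001) (nat_lit 4120) (nat_lit 0x8004002009) (nat_lit 0x10008020058039002008010020040004002002)) .nil))))))))) (.cD (nat_lit 84) (.dfs (nat_lit 24) (nat_lit 0x100800401002c) (nat_lit 0x1008004010024) (nat_lit 0x1020002001) (nat_lit 0x1028002009) (nat_lit 0) (nat_lit 0) (nat_lit 2) (nat_lit 0) (nat_lit 0) (nat_lit 1) (nat_lit 1) (nat_lit 0) (nat_lit 1) (nat_lit 0) (nat_lit 1) (nat_lit 0x20000000000000002000000000000000200000000000000020000000000000002000000000000000200000000000000020000000000000002)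 (.cD (nat_lit 1) (.kS (nat_lit 0) (nat_lit 0x8010020040001001) (nat_lit 0x1018054) (nat_lit 0x8004002009010008004006011) (nat_lit 0x10008020058001012002008010020040004002002002)) (.cD (nat_lit 65) (.kS (nat_lit 0) (nat_lit 0x8010020040001001) (nat_lit 0x1018054) (nat_lit 0x8004002009010008004006011) (nat_lit 0x10008020058011012002008010020040004002002002)) (.cD (nat_lit 129) (.kS (nat_lit 0) (nat_lit 0x8010020040001001) (nat_lit 4120) (nat_lit 0x8004002009) (nat_lit 0x10008020058021002008010020040004002002)) (.cD (nat_lit 193) (.kS (nat_lit 0) (nat_lit 0x8010020040001001) (nat_lit 4120) (nat_lit 0x8004002009) (nat_lit 0x10008020058031002008010020040004002002)) (.cD (nat_lit 257) (.kS (nat_lit 0) (nat_lit 0x8010020040001001) (nat_lit 4120) (nat_lit 0x8004002009) (nat_lit 0x10008020058009002008010020040004002002)) (.cD (nat_lit 321) (.kS (nat_lit 0) (nat_lit 0x8010020040001001) (nat_lit 4120) (nat_lit 0x8004002009) (nat_lit 0x10008020058019002008010020040004002002)) (.cD (nat_lit 385) (.kS (nat_lit 0)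 (nat_lit 0x8010020040001001) (nat_lit 4120) (nat_lit 0x8004002009) (nat_lit 0x10008020058029002008010020040004002002)) (.cD (nat_lit 449) (.kS (nat_lit 0) (nat_lit 0x8010020040001001) (nat_lit 4120) (nat_lit 0x8004002009) (nat_lit 0x10008020058039002008010020040004002002)) .nil))))))))) (.cD (nat_lit 148) (.dfs (nat_lit 24) (nat_lit 0x100800401002c) (nat_lit 0x1008004010024) (nat_lit 0x1020002001) (nat_lit 0x1028002009) (nat_lit 0) (nat_lit 0) (nat_lit 2) (nat_lit 0) (nat_lit 0) (nat_lit 1) (nat_lit 1) (nat_lit 0) (nat_lit 1) (nat_lit 0) (nat_lit 1) (nat_lit 0x20000000000000002000000000000000200000000000000020000000000000002000000000000000200000000000000020000000000000002) (.cD (nat_lit 1) (.kS (nat_lit 0) (nat_lit 0x20020000018010020040001020020000003) (nat_lit 0x10410d4) (nat_lit 0x8004002009010008004006011) (nat_lit 0x1001802004801103200102002000000801002004000400200102002000001801002004000d012002020020000006)) (.cD (nat_lit 65) (.kS (nat_lit 0) (nat_lit 0x8010020040001001) (nat_lit 0x1018094) (nat_lit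 0x8004002009010008004006011) (nat_lit 0x10008020058011022002008010020040004002002002)) (.cD (nat_lit 129) (.kS (nat_lit 0) (nat_lit 0x8010020040001001) (nat_lit 4120) (nat_lit 0x8004002009) (nat_lit 0x10008020058021002008010020040004002002)) (.cD (nat_lit 193) (.kS (nat_lit 0) (nat_lit 0x8010020040001001) (nat_lit 4120) (nat_lit 0x8004002009) (nat_lit 0x10008020058031002008010020040004002002)) (.cD (nat_lit 257) (.kS (nat_lit 0) (nat_lit 0x8010020040001001) (nat_lit 4120) (nat_lit 0x8004002009) (nat_lit 0x10008020058009002008010020040004002002)) (.cD (nat_lit 321) (.kS (nat_lit 0) (nat_lit 0x8010020040001001) (nat_lit 4120) (nat_lit 0x8004002009) (nat_lit 0x10008020058019002008010020040004002002)) (.cD (nat_lit 385) (.kS (nat_lit 0) (nat_lit 0x8010020040001001) (nat_lit 4120) (nat_lit 0x8004002009) (nat_lit 0x10008020058029002008010020040004002002)) (.cD (nat_lit 449) (.kS (nat_lit 0) (nat_lit 0x8010020040001001) (nat_lit 4120) (nat_lit 0x8004002009) (nat_lit 0x10008020058039002008010020040004002002))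 .nil))))))))) (.cD (nat_lit 212) (.dfs (nat_lit 24) (nat_lit 0x100800401002c) (nat_lit 0x1008004010024) (nat_lit 0x1020002001) (nat_lit 0x1028002009) (nat_lit 0) (nat_lit 0) (nat_lit 2) (nat_lit 0) (nat_lit 0) (nat_lit 1) (nat_lit 1) (nat_lit 0) (nat_lit 1) (nat_lit 0) (nat_lit 1) (nat_lit 0x20000000000000002000000000000000200000000000000020000000000000002000000000000000200000000000000020000000000000002) (.cD (nat_lit 1) (.kS (nat_lit 0) (nat_lit 0x8010020040001001) (nat_lit 0x10180d4) (nat_lit 0x8004002009010008004006011) (nat_lit 0x10008020058001032002008010020040004002002002)) (.cD (nat_lit 65) (.kS (nat_lit 0) (nat_lit 0x8010020040001001) (nat_lit 0x10180d4) (nat_lit 0x8004002009010008004006011) (nat_lit 0x10008020058011032002008010020040004002002002)) (.cD (nat_lit 129) (.kS (nat_lit 0) (nat_lit 0x8010020040001001) (nat_lit 4120) (nat_lit 0x8004002009) (nat_lit 0x10008020058021002008010020040004002002)) (.cD (nat_lit 193) (.kS (nat_lit 0) (nat_lit 0x8010020040001001) (nat_lit 4120) (nat_lit 0x8004002009)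 (nat_lit 0x10008020058031002008010020040004002002)) (.cD (nat_lit 257) (.kS (nat_lit 0) (nat_lit 0x8010020040001001) (nat_lit 4120) (nat_lit 0x8004002009) (nat_lit 0x10008020058009002008010020040004002002)) (.cD (nat_lit 321) (.kS (nat_lit 0) (nat_lit 0x8010020040001001) (nat_lit 4120) (nat_lit 0x8004002009) (nat_lit 0x10008020058019002008010020040004002002)) (.cD (nat_lit 385) (.kS (nat_lit 0) (nat_lit 0x8010020040001001) (nat_lit 4120) (nat_lit 0x8004002009) (nat_lit 0x10008020058029002008010020040004002002)) (.cD (nat_lit 449) (.kS (nat_lit 0) (nat_lit 0x8010020040001001) (nat_lit 4120) (nat_lit 0x8004002009) (nat_lit 0x10008020058039002008010020040004002002)) .nil))))))))) (.cD (nat_lit 276) (.dfs (nat_lit 24) (nat_lit 0x100800401002c) (nat_lit 0x1008004010024) (nat_lit 0x1020002001) (nat_lit 0x1028002009) (nat_lit 0) (nat_lit 0) (nat_lit 2) (nat_lit 0) (nat_lit 0) (nat_lit 1) (nat_lit 1) (nat_lit 0) (nat_lit 1) (nat_lit 0) (nat_lit 1) (nat_lit 0x20000000000000002000000000000000200000000000000020000000000000002000000000000000200000000000000020000000000000002)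 (.cD (nat_lit 1) (.kS (nat_lit 0) (nat_lit 0x8010020040001001) (nat_lit 0x1018114) (nat_lit 0x8004002009010008004006011) (nat_lit 0x1000802005800100a002008010020040004002002002)) (.cD (nat_lit 65) (.kS (nat_lit 0) (nat_lit 0x8010020040001001) (nat_lit 0x1018114) (nat_lit 0x8004002009010008004006011) (nat_lit 0x1000802005801100a002008010020040004002002002)) (.cD (nat_lit 129) (.kS (nat_lit 0) (nat_lit 0x8010020040001001) (nat_lit 4120) (nat_lit 0x8004002009) (nat_lit 0x10008020058021002008010020040004002002)) (.cD (nat_lit 193) (.kS (nat_lit 0) (nat_lit 0x8010020040001001) (nat_lit 4120) (nat_lit 0x8004002009) (nat_lit 0x10008020058031002008010020040004002002)) (.cD (nat_lit 257) (.kS (nat_lit 0) (nat_lit 0x8010020040001001) (nat_lit 4120) (nat_lit 0x8004002009) (nat_lit 0x10008020058009002008010020040004002002)) (.cD (nat_lit 321) (.kS (nat_lit 0) (nat_lit 0x8010020040001001) (nat_lit 4120) (nat_lit 0x8004002009) (nat_lit 0x10008020058019002008010020040004002002)) (.cD (nat_lit 385) (.kS (nat_lit 0)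 (nat_lit 0x8010020040001001) (nat_lit 4120) (nat_lit 0x8004002009) (nat_lit 0x10008020058029002008010020040004002002)) (.cD (nat_lit 449) (.kS (nat_lit 0) (nat_lit 0x8010020040001001) (nat_lit 4120) (nat_lit 0x8004002009) (nat_lit 0x10008020058039002008010020040004002002)) .nil))))))))) (.cD (nat_lit 340) (.dfs (nat_lit 24) (nat_lit 0x100800401002c) (nat_lit 0x1008004010024) (nat_lit 0x1020002001) (nat_lit 0x1028002009) (nat_lit 0) (nat_lit 0) (nat_lit 2) (nat_lit 0) (nat_lit 0) (nat_lit 1) (nat_lit 1) (nat_lit 0) (nat_lit 1) (nat_lit 0) (nat_lit 1) (nat_lit 0x20000000000000002000000000000000200000000000000020000000000000002000000000000000200000000000000020000000000000002) (.cD (nat_lit 1) (.cut (nat_lit 0)) (.cD (nat_lit 65) (.kS (nat_lit 0) (nat_lit 0x8010020040001001) (nat_lit 0x1018154) (nat_lit 0x8004002009010008004006011) (nat_lit 0x1000802005801101a002008010020040004002002002)) (.cD (nat_lit 129) (.kS (nat_lit 0) (nat_lit 0x8010020040001001) (nat_lit 4120) (nat_lit 0x8004002009) (nat_lit 0x10008020058021002008010020040004002002))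 (.cD (nat_lit 193) (.kS (nat_lit 0) (nat_lit 0x8010020040001001) (nat_lit 4120) (nat_lit 0x8004002009) (nat_lit 0x10008020058031002008010020040004002002)) (.cD (nat_lit 257) (.kS (nat_lit 0) (nat_lit 0x8010020040001001) (nat_lit 4120) (nat_lit 0x8004002009) (nat_lit 0x10008020058009002008010020040004002002)) (.cD (nat_lit 321) (.kS (nat_lit 0) (nat_lit 0x8010020040001001) (nat_lit 4120) (nat_lit 0x8004002009) (nat_lit 0x10008020058019002008010020040004002002)) (.cD (nat_lit 385) (.kS (nat_lit 0) (nat_lit 0x8010020040001001) (nat_lit 4120) (nat_lit 0x8004002009) (nat_lit 0x10008020058029002008010020040004002002)) (.cD (nat_lit 449) (.kS (nat_lit 0) (nat_lit 0x8010020040001001) (nat_lit 4120) (nat_lit 0x8004002009) (nat_lit 0x10008020058039002008010020040004002002)) .nil))))))))) (.cD (nat_lit 404) (.dfs (nat_lit 24) (nat_lit 0x100800401002c) (nat_lit 0x1008004010024) (nat_lit 0x1020002001) (nat_lit 0x1028002009) (nat_lit 0) (nat_lit 0) (nat_lit 2) (nat_lit 0) (nat_lit 0) (nat_lit 1) (nat_lit 1) (nat_lit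 0) (nat_lit 1) (nat_lit 0) (nat_lit 1) (nat_lit 0x20000000000000002000000000000000200000000000000020000000000000002000000000000000200000000000000020000000000000002) (.cD (nat_lit 1) (.kS (nat_lit 0) (nat_lit 0x8010020040001001) (nat_lit 0x1018194) (nat_lit 0x8004002009010008004006011) (nat_lit 0x1000802005800102a002008010020040004002002002)) (.cD (nat_lit 65) (.kS (nat_lit 0) (nat_lit 0x8010020040001001) (nat_lit 0x1018194) (nat_lit 0x8004002009010008004006011) (nat_lit 0x1000802005801102a002008010020040004002002002)) (.cD (nat_lit 129) (.kS (nat_lit 0) (nat_lit 0x8010020040001001) (nat_lit 4120) (nat_lit 0x8004002009) (nat_lit 0x10008020058021002008010020040004002002)) (.cD (nat_lit 193) (.kS (nat_lit 0) (nat_lit 0x8010020040001001) (nat_lit 4120) (nat_lit 0x8004002009) (nat_lit 0x10008020058031002008010020040004002002)) (.cD (nat_lit 257) (.kS (nat_lit 0) (nat_lit 0x8010020040001001) (nat_lit 4120) (nat_lit 0x8004002009) (nat_lit 0x10008020058009002008010020040004002002)) (.cD (nat_lit 321) (.kS (nat_lit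 0) (nat_lit 0x8010020040001001) (nat_lit 4120) (nat_lit 0x8004002009) (nat_lit 0x10008020058019002008010020040004002002)) (.cD (nat_lit 385) (.kS (nat_lit 0) (nat_lit 0x8010020040001001) (nat_lit 4120) (nat_lit 0x8004002009) (nat_lit 0x10008020058029002008010020040004002002)) (.cD (nat_lit 449) (.kS (nat_lit 0) (nat_lit 0x8010020040001001) (nat_lit 4120) (nat_lit 0x8004002009) (nat_lit 0x10008020058039002008010020040004002002)) .nil))))))))) (.cD (nat_lit 468) (.dfs (nat_lit 24) (nat_lit 0x100800401002c) (nat_lit 0x1008004010024) (nat_lit 0x1020002001) (nat_lit 0x1028002009) (nat_lit 0) (nat_lit 0) (nat_lit 2) (nat_lit 0) (nat_lit 0) (nat_lit 1) (nat_lit 1) (nat_lit 0) (nat_lit 1) (nat_lit 0) (nat_lit 1) (nat_lit 0x20000000000000002000000000000000200000000000000020000000000000002000000000000000200000000000000020000000000000002) (.cD (nat_lit 1) (.kS (nat_lit 0) (nat_lit 0x20020000018010020040001020020000003) (nat_lit 0x1041094) (nat_lit 0x8004002009010008004006011) (nat_lit 0x1001802004801103a00102002000000801002004000400200102002000001801002004000d012002020020000006))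 (.cD (nat_lit 65) (.kS (nat_lit 0) (nat_lit 0x8010020040001001) (nat_lit 0x10181d4) (nat_lit 0x8004002009010008004006011) (nat_lit 0x1000802005801103a002008010020040004002002002)) (.cD (nat_lit 129) (.kS (nat_lit 0) (nat_lit 0x8010020040001001) (nat_lit 4120) (nat_lit 0x8004002009) (nat_lit 0x10008020058021002008010020040004002002)) (.cD (nat_lit 193) (.kS (nat_lit 0) (nat_lit 0x8010020040001001) (nat_lit 4120) (nat_lit 0x8004002009) (nat_lit 0x10008020058031002008010020040004002002)) (.cD (nat_lit 257) (.kS (nat_lit 0) (nat_lit 0x8010020040001001) (nat_lit 4120) (nat_lit 0x8004002009) (nat_lit 0x10008020058009002008010020040004002002)) (.cD (nat_lit 321) (.kS (nat_lit 0) (nat_lit 0x8010020040001001) (nat_lit 4120) (nat_lit 0x8004002009) (nat_lit 0x10008020058019002008010020040004002002)) (.cD (nat_lit 385) (.kS (nat_lit 0) (nat_lit 0x8010020040001001) (nat_lit 4120) (nat_lit 0x8004002009) (nat_lit 0x10008020058029002008010020040004002002)) (.cD (nat_lit 449) (.kS (nat_lit 0) (nat_lit 0x8010020040001001)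 (nat_lit 4120) (nat_lit 0x8004002009) (nat_lit 0x10008020058039002008010020040004002002)) .nil))))))))) .nil))))))))) (.cD (nat_lit 88) (.cut (nat_lit 2)) (.cD (nat_lit 152) (.cut (nat_lit 1)) (.cD (nat_lit 216) (.dfs (nat_lit 20) (nat_lit 0x1004002008016) (nat_lit 0x100400200801e) (nat_lit 0x1010001) (nat_lit 0x1018003) (nat_lit 8) (nat_lit 0) (nat_lit 2) (nat_lit 0) (nat_lit 0) (nat_lit 20) (nat_lit 1) (nat_lit 0) (nat_lit 1) (nat_lit 0) (nat_lit 1) (nat_lit 0x1000000000000000100000000000000010000000000000001000000000000000100000000000000010000000000000001000000000000000100000) (.cD (nat_lit 20) (.dfs (nat_lit 24) (nat_lit 0x100800401002c) (nat_lit 0x1008004010024) (nat_lit 0x1020002001) (nat_lit 0x1028002009) (nat_lit 0) (nat_lit 0) (nat_lit 2) (nat_lit 0) (nat_lit 0) (nat_lit 1) (nat_lit 1) (nat_lit 0) (nat_lit 1) (nat_lit 0) (nat_lit 1) (nat_lit 0x20000000000000002000000000000000200000000000000020000000000000002000000000000000200000000000000020000000000000002) (.cD (nat_lit 1) (.kS (nat_lit 0)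 (nat_lit 0x8010020040001001) (nat_lit 4312) (nat_lit 0x8004002009) (nat_lit 0x10008020058001002008010020040004002002)) (.cD (nat_lit 65) (.kS (nat_lit 0) (nat_lit 0x8010020040001001) (nat_lit 4312) (nat_lit 0x8004002009) (nat_lit 0x10008020058011002008010020040004002002)) (.cD (nat_lit 129) (.kS (nat_lit 0) (nat_lit 0x8010020040001001) (nat_lit 4312) (nat_lit 0x8004002009) (nat_lit 0x10008020058021002008010020040004002002)) (.cD (nat_lit 193) (.kS (nat_lit 0) (nat_lit 0x8010020040001001) (nat_lit 4312) (nat_lit 0x8004002009) (nat_lit 0x10008020058031002008010020040004002002)) (.cD (nat_lit 257) (.kS (nat_lit 0) (nat_lit 0x8010020040001001) (nat_lit 4312) (nat_lit 0x8004002009) (nat_lit 0x10008020058009002008010020040004002002)) (.cD (nat_lit 321) (.kS (nat_lit 0) (nat_lit 0x8010020040001001) (nat_lit 4312) (nat_lit 0x8004002009) (nat_lit 0x10008020058019002008010020040004002002)) (.cD (nat_lit 385) (.kS (nat_lit 0) (nat_lit 0x8010020040001001) (nat_lit 4948) (nat_lit 0x8004002003) (nat_lit 0x2a602a000004006008010001004008010020040042002003))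 (.cD (nat_lit 449) (.kS (nat_lit 0) (nat_lit 0x8010020040001001) (nat_lit 0x10d8014) (nat_lit 0x8004002009010008004006011) (nat_lit 0x10008020058039002002008010020040004002002002)) .nil))))))))) (.cD (nat_lit 84) (.dfs (nat_lit 24) (nat_lit 0x100800401002c) (nat_lit 0x1008004010024) (nat_lit 0x1020002001) (nat_lit 0x1028002009) (nat_lit 0) (nat_lit 0) (nat_lit 2) (nat_lit 0) (nat_lit 0) (nat_lit 1) (nat_lit 1) (nat_lit 0) (nat_lit 1) (nat_lit 0) (nat_lit 1) (nat_lit 0x20000000000000002000000000000000200000000000000020000000000000002000000000000000200000000000000020000000000000002) (.cD (nat_lit 1) (.kS (nat_lit 0) (nat_lit 0x8010020040001001) (nat_lit 4312) (nat_lit 0x8004002009) (nat_lit 0x10008020058001002008010020040004002002)) (.cD (nat_lit 65) (.kS (nat_lit 0) (nat_lit 0x8010020040001001) (nat_lit 4312) (nat_lit 0x8004002009) (nat_lit 0x10008020058011002008010020040004002002)) (.cD (nat_lit 129) (.kS (nat_lit 0) (nat_lit 0x8010020040001001) (nat_lit 4312) (nat_lit 0x8004002009) (nat_lit 0x10008020058021002008010020040004002002))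 (.cD (nat_lit 193) (.kS (nat_lit 0) (nat_lit 0x8010020040001001) (nat_lit 4312) (nat_lit 0x8004002009) (nat_lit 0x10008020058031002008010020040004002002)) (.cD (nat_lit 257) (.kS (nat_lit 0) (nat_lit 0x8010020040001001) (nat_lit 4312) (nat_lit 0x8004002009) (nat_lit 0x10008020058009002008010020040004002002)) (.cD (nat_lit 321) (.kS (nat_lit 0) (nat_lit 0x8010020040001001) (nat_lit 4312) (nat_lit 0x8004002009) (nat_lit 0x10008020058019002008010020040004002002)) (.cD (nat_lit 385) (.kS (nat_lit 0) (nat_lit 0x8010020040001001) (nat_lit 0x10d8054) (nat_lit 0x8004002009010008004006011) (nat_lit 0x10008020058029012002008010020040004002002002)) (.cD (nat_lit 449) (.kS (nat_lit 0) (nat_lit 0x8010020040001001) (nat_lit 0x10d8054) (nat_lit 0x8004002009010008004006011) (nat_lit 0x10008020058039012002008010020040004002002002)) .nil))))))))) (.cD (nat_lit 148) (.dfs (nat_lit 24) (nat_lit 0x100800401002c) (nat_lit 0x1008004010024) (nat_lit 0x1020002001) (nat_lit 0x1028002009) (nat_lit 0) (nat_lit 0) (nat_lit 2) (nat_lit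 0) (nat_lit 0) (nat_lit 1) (nat_lit 1) (nat_lit 0) (nat_lit 1) (nat_lit 0) (nat_lit 1) (nat_lit 0x20000000000000002000000000000000200000000000000020000000000000002000000000000000200000000000000020000000000000002) (.cD (nat_lit 1) (.kS (nat_lit 0) (nat_lit 0x8010020040001001) (nat_lit 4312) (nat_lit 0x8004002009) (nat_lit 0x10008020058001002008010020040004002002)) (.cD (nat_lit 65) (.kS (nat_lit 0) (nat_lit 0x8010020040001001) (nat_lit 4312) (nat_lit 0x8004002009) (nat_lit 0x10008020058011002008010020040004002002)) (.cD (nat_lit 129) (.kS (nat_lit 0) (nat_lit 0x8010020040001001) (nat_lit 4312) (nat_lit 0x8004002009) (nat_lit 0x10008020058021002008010020040004002002)) (.cD (nat_lit 193) (.kS (nat_lit 0) (nat_lit 0x8010020040001001) (nat_lit 4312) (nat_lit 0x8004002009) (nat_lit 0x10008020058031002008010020040004002002)) (.cD (nat_lit 257) (.kS (nat_lit 0) (nat_lit 0x8010020040001001) (nat_lit 4312) (nat_lit 0x8004002009) (nat_lit 0x10008020058009002008010020040004002002)) (.cD (nat_lit 321) (.kS (nat_lit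 0) (nat_lit 0x8010020040001001) (nat_lit 4312) (nat_lit 0x8004002009) (nat_lit 0x10008020058019002008010020040004002002)) (.cD (nat_lit 385) (.kS (nat_lit 0) (nat_lit 0x20020000018010020040001020020000003) (nat_lit 0x10010d4) (nat_lit 0x8004002009010008004006011) (nat_lit 0x1001802004802903200102002000000801002004000400200102002000001801002004000d012002020020000006)) (.cD (nat_lit 449) (.kS (nat_lit 0) (nat_lit 0x8010020040001001) (nat_lit 0x10d8094) (nat_lit 0x8004002009010008004006011) (nat_lit 0x10008020058039022002008010020040004002002002)) .nil))))))))) (.cD (nat_lit 212) (.dfs (nat_lit 24) (nat_lit 0x100800401002c) (nat_lit 0x1008004010024) (nat_lit 0x1020002001) (nat_lit 0x1028002009) (nat_lit 0) (nat_lit 0) (nat_lit 2) (nat_lit 0) (nat_lit 0) (nat_lit 1) (nat_lit 1) (nat_lit 0) (nat_lit 1) (nat_lit 0) (nat_lit 1) (nat_lit 0x20000000000000002000000000000000200000000000000020000000000000002000000000000000200000000000000020000000000000002) (.cD (nat_lit 1) (.kS (nat_lit 0) (nat_lit 0x8010020040001001)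 (nat_lit 4312) (nat_lit 0x8004002009) (nat_lit 0x10008020058001002008010020040004002002)) (.cD (nat_lit 65) (.kS (nat_lit 0) (nat_lit 0x8010020040001001) (nat_lit 4312) (nat_lit 0x8004002009) (nat_lit 0x10008020058011002008010020040004002002)) (.cD (nat_lit 129) (.kS (nat_lit 0) (nat_lit 0x8010020040001001) (nat_lit 4312) (nat_lit 0x8004002009) (nat_lit 0x10008020058021002008010020040004002002)) (.cD (nat_lit 193) (.kS (nat_lit 0) (nat_lit 0x8010020040001001) (nat_lit 4312) (nat_lit 0x8004002009) (nat_lit 0x10008020058031002008010020040004002002)) (.cD (nat_lit 257) (.kS (nat_lit 0) (nat_lit 0x8010020040001001) (nat_lit 4312) (nat_lit 0x8004002009) (nat_lit 0x10008020058009002008010020040004002002)) (.cD (nat_lit 321) (.kS (nat_lit 0) (nat_lit 0x8010020040001001) (nat_lit 4312) (nat_lit 0x8004002009) (nat_lit 0x10008020058019002008010020040004002002)) (.cD (nat_lit 385) (.kS (nat_lit 0) (nat_lit 0x8010020040001001) (nat_lit 0x10d80d4) (nat_lit 0x8004002009010008004006011) (nat_lit 0x10008020058029032002008010020040004002002002))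 (.cD (nat_lit 449) (.kS (nat_lit 0) (nat_lit 0x8010020040001001) (nat_lit 0x10d80d4) (nat_lit 0x8004002009010008004006011) (nat_lit 0x10008020058039032002008010020040004002002002)) .nil))))))))) (.cD (nat_lit 276) (.dfs (nat_lit 24) (nat_lit 0x100800401002c) (nat_lit 0x1008004010024) (nat_lit 0x1020002001) (nat_lit 0x1028002009) (nat_lit 0) (nat_lit 0) (nat_lit 2) (nat_lit 0) (nat_lit 0) (nat_lit 1) (nat_lit 1) (nat_lit 0) (nat_lit 1) (nat_lit 0) (nat_lit 1) (nat_lit 0x20000000000000002000000000000000200000000000000020000000000000002000000000000000200000000000000020000000000000002) (.cD (nat_lit 1) (.kS (nat_lit 0) (nat_lit 0x8010020040001001) (nat_lit 4312) (nat_lit 0x8004002009) (nat_lit 0x10008020058001002008010020040004002002)) (.cD (nat_lit 65) (.kS (nat_lit 0) (nat_lit 0x8010020040001001) (nat_lit 4312) (nat_lit 0x8004002009) (nat_lit 0x10008020058011002008010020040004002002)) (.cD (nat_lit 129) (.kS (nat_lit 0) (nat_lit 0x8010020040001001) (nat_lit 4312) (nat_lit 0x8004002009) (nat_lit 0x10008020058021002008010020040004002002))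 (.cD (nat_lit 193) (.kS (nat_lit 0) (nat_lit 0x8010020040001001) (nat_lit 4312) (nat_lit 0x8004002009) (nat_lit 0x10008020058031002008010020040004002002)) (.cD (nat_lit 257) (.kS (nat_lit 0) (nat_lit 0x8010020040001001) (nat_lit 4312) (nat_lit 0x8004002009) (nat_lit 0x10008020058009002008010020040004002002)) (.cD (nat_lit 321) (.kS (nat_lit 0) (nat_lit 0x8010020040001001) (nat_lit 4312) (nat_lit 0x8004002009) (nat_lit 0x10008020058019002008010020040004002002)) (.cD (nat_lit 385) (.kS (nat_lit 0) (nat_lit 0x8010020040001001) (nat_lit 0x10d8114) (nat_lit 0x8004002009010008004006011) (nat_lit 0x1000802005802900a002008010020040004002002002)) (.cD (nat_lit 449) (.kS (nat_lit 0) (nat_lit 0x8010020040001001) (nat_lit 0x10d8114) (nat_lit 0x8004002009010008004006011) (nat_lit 0x1000802005803900a002008010020040004002002002)) .nil))))))))) (.cD (nat_lit 340) (.dfs (nat_lit 24) (nat_lit 0x100800401002c) (nat_lit 0x1008004010024) (nat_lit 0x1020002001) (nat_lit 0x1028002009) (nat_lit 0) (nat_lit 0) (nat_lit 2) (nat_lit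 0) (nat_lit 0) (nat_lit 1) (nat_lit 1) (nat_lit 0) (nat_lit 1) (nat_lit 0) (nat_lit 1) (nat_lit 0x20000000000000002000000000000000200000000000000020000000000000002000000000000000200000000000000020000000000000002) (.cD (nat_lit 1) (.kS (nat_lit 0) (nat_lit 0x8010020040001001) (nat_lit 4312) (nat_lit 0x8004002009) (nat_lit 0x10008020058001002008010020040004002002)) (.cD (nat_lit 65) (.kS (nat_lit 0) (nat_lit 0x8010020040001001) (nat_lit 4312) (nat_lit 0x8004002009) (nat_lit 0x10008020058011002008010020040004002002)) (.cD (nat_lit 129) (.kS (nat_lit 0) (nat_lit 0x8010020040001001) (nat_lit 4312) (nat_lit 0x8004002009) (nat_lit 0x10008020058021002008010020040004002002)) (.cD (nat_lit 193) (.kS (nat_lit 0) (nat_lit 0x8010020040001001) (nat_lit 4312) (nat_lit 0x8004002009) (nat_lit 0x10008020058031002008010020040004002002)) (.cD (nat_lit 257) (.kS (nat_lit 0) (nat_lit 0x8010020040001001) (nat_lit 4312) (nat_lit 0x8004002009) (nat_lit 0x10008020058009002008010020040004002002)) (.cD (nat_lit 321) (.kS (nat_lit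 0) (nat_lit 0x8010020040001001) (nat_lit 4312) (nat_lit 0x8004002009) (nat_lit 0x10008020058019002008010020040004002002)) (.cD (nat_lit 385) (.iso x12 s21 (nat_lit 0) (nat_lit 0x1200100080040020010008004102181) (nat_lit 0x200100080040020010008004102181) [(nat_lit 0x40020010008034002001001001)] (.cut (nat_lit 0))) (.cD (nat_lit 449) (.kS (nat_lit 0) (nat_lit 0x8010020040001001) (nat_lit 0x10d8154) (nat_lit 0x8004002009010008004006011) (nat_lit 0x1000802005803901a002008010020040004002002002)) .nil))))))))) (.cD (nat_lit 404) (.dfs (nat_lit 24) (nat_lit 0x100800401002c) (nat_lit 0x1008004010024) (nat_lit 0x1020002001) (nat_lit 0x1028002009) (nat_lit 0) (nat_lit 0) (nat_lit 2) (nat_lit 0) (nat_lit 0) (nat_lit 1) (nat_lit 1) (nat_lit 0) (nat_lit 1) (nat_lit 0) (nat_lit 1) (nat_lit 0x20000000000000002000000000000000200000000000000020000000000000002000000000000000200000000000000020000000000000002) (.cD (nat_lit 1) (.kS (nat_lit 0) (nat_lit 0x8010020040001001) (nat_lit 4312) (nat_lit 0x8004002009) (nat_lit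 0x10008020058001002008010020040004002002)) (.cD (nat_lit 65) (.kS (nat_lit 0) (nat_lit 0x8010020040001001) (nat_lit 4312) (nat_lit 0x8004002009) (nat_lit 0x10008020058011002008010020040004002002)) (.cD (nat_lit 129) (.kS (nat_lit 0) (nat_lit 0x8010020040001001) (nat_lit 4312) (nat_lit 0x8004002009) (nat_lit 0x10008020058021002008010020040004002002)) (.cD (nat_lit 193) (.kS (nat_lit 0) (nat_lit 0x8010020040001001) (nat_lit 4312) (nat_lit 0x8004002009) (nat_lit 0x10008020058031002008010020040004002002)) (.cD (nat_lit 257) (.kS (nat_lit 0) (nat_lit 0x8010020040001001) (nat_lit 4312) (nat_lit 0x8004002009) (nat_lit 0x10008020058009002008010020040004002002)) (.cD (nat_lit 321) (.kS (nat_lit 0) (nat_lit 0x8010020040001001) (nat_lit 4312) (nat_lit 0x8004002009) (nat_lit 0x10008020058019002008010020040004002002)) (.cD (nat_lit 385) (.kS (nat_lit 0) (nat_lit 0x8010020040001001) (nat_lit 0x10d8194) (nat_lit 0x8004002009010008004006011) (nat_lit 0x1000802005802902a002008010020040004002002002)) (.cD (nat_lit 449)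 (.kS (nat_lit 0) (nat_lit 0x8010020040001001) (nat_lit 0x10d8194) (nat_lit 0x8004002009010008004006011) (nat_lit 0x1000802005803902a002008010020040004002002002)) .nil))))))))) (.cD (nat_lit 468) (.dfs (nat_lit 24) (nat_lit 0x100800401002c) (nat_lit 0x1008004010024) (nat_lit 0x1020002001) (nat_lit 0x1028002009) (nat_lit 0) (nat_lit 0) (nat_lit 2) (nat_lit 0) (nat_lit 0) (nat_lit 1) (nat_lit 1) (nat_lit 0) (nat_lit 1) (nat_lit 0) (nat_lit 1) (nat_lit 0x20000000000000002000000000000000200000000000000020000000000000002000000000000000200000000000000020000000000000002) (.cD (nat_lit 1) (.kS (nat_lit 0) (nat_lit 0x8010020040001001) (nat_lit 4312) (nat_lit 0x8004002009) (nat_lit 0x10008020058001002008010020040004002002)) (.cD (nat_lit 65) (.kS (nat_lit 0) (nat_lit 0x8010020040001001) (nat_lit 4312) (nat_lit 0x8004002009) (nat_lit 0x10008020058011002008010020040004002002)) (.cD (nat_lit 129) (.kS (nat_lit 0) (nat_lit 0x8010020040001001) (nat_lit 4312) (nat_lit 0x8004002009) (nat_lit 0x10008020058021002008010020040004002002))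 (.cD (nat_lit 193) (.kS (nat_lit 0) (nat_lit 0x8010020040001001) (nat_lit 4312) (nat_lit 0x8004002009) (nat_lit 0x10008020058031002008010020040004002002)) (.cD (nat_lit 257) (.kS (nat_lit 0) (nat_lit 0x8010020040001001) (nat_lit 4312) (nat_lit 0x8004002009) (nat_lit 0x10008020058009002008010020040004002002)) (.cD (nat_lit 321) (.kS (nat_lit 0) (nat_lit 0x8010020040001001) (nat_lit 4312) (nat_lit 0x8004002009) (nat_lit 0x10008020058019002008010020040004002002)) (.cD (nat_lit 385) (.kS (nat_lit 0) (nat_lit 0x20020000018010020040001020020000003) (nat_lit 0x1001094) (nat_lit 0x8004002009010008004006011) (nat_lit 0x1001802004802903a00102002000000801002004000400200102002000001801002004000d012002020020000006)) (.cD (nat_lit 449) (.kS (nat_lit 0) (nat_lit 0x8010020040001001) (nat_lit 0x10d81d4) (nat_lit 0x8004002009010008004006011) (nat_lit 0x1000802005803903a002008010020040004002002002)) .nil))))))))) .nil))))))))) .nil))))))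
theorem c24 : (chk [(x12, s21), (x12, s22), (x12, s23)] [g31] p24).n x12 s24 = true := by decide +kernel
noncomputable def p25 : Pf := (.ext (nat_lit 0) (nat_lit 0) (nat_lit 0x1200080100040) (nat_lit 0x120080040060013ea006000002) (nat_lit 0x200100400b) (nat_lit 4097) (nat_lit 4120) (nat_lit 0x9004002001) (.dfs (nat_lit 1) (nat_lit 0x100200100400b) (nat_lit 0x100200100400a) (nat_lit 4104) (nat_lit 4105) (nat_lit 2) (nat_lit 0) (nat_lit 2) (nat_lit 0) (nat_lit 0) (nat_lit 24) (nat_lit 1) (nat_lit 0) (nat_lit 1) (nat_lit 0) (nat_lit 1) (nat_lit 0) .nil))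
theorem c25 : (chk [] [] p25).n x14 s25 = true := by decide +kernel
noncomputable def p26 : Pf := (.lft (nat_lit 0x10004008002013c071069001002001001) (nat_lit 0) (nat_lit 0x11dc1c019c18015c14011c100) (nat_lit 0x1000800400200101081f419e111) (.extn a23 (nat_lit 0x100080040020010008004002001) (nat_lit 0x1020080040100) (nat_lit 2) (nat_lit 0) (nat_lit 0) (nat_lit 0) (nat_lit 0x100000000000000000000000000000001) (.cE (nat_lit 0) b31 (nat_lit 0) (.cut (nat_lit 0)) .nil (.cE (nat_lit 128) b38 (nat_lit 0) (.cut (nat_lit 1)) .nil .nil))))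
theorem c26 : (chk [(x12, s24), (x14, s25)] [] p26).n x9 s26 = true := by decide +kernel
noncomputable def p27 : Pf := (.ext (nat_lit 0) (nat_lit 0) (nat_lit 0x110004008002000600a00c) (nat_lit 0x40020010008002004001001001) (nat_lit 0x8010020048) (nat_lit 0x1002001) (nat_lit 0x1001002) (nat_lit 0x7003001004f01d06c06602e03001005602d01b07f) (.dfs (nat_lit 1) (nat_lit 0x1008010020048) (nat_lit 0x1056010030078) (nat_lit 0x1040004002001) (nat_lit 0x102e02d01b07f) (nat_lit 15) (nat_lit 0) (nat_lit 2) (nat_lit 0) (nat_lit 0) (nat_lit 2) (nat_lit 1) (nat_lit 0) (nat_lit 4160) (nat_lit 64) (nat_lit 0x1000002) (nat_lit 4) (.cD (nat_lit 2) (.dfs (nat_lit 2) (nat_lit 0x1010020040090) (nat_lit 0x109e02006007e) (nat_lit 0x1080008004002001) (nat_lit 0x10e003a0d80cc0a5) (nat_lit 60) (nat_lit 0) (nat_lit 2) (nat_lit 0) (nat_lit 0) (nat_lit 1) (nat_lit 1) (nat_lit 0) (nat_lit 1) (nat_lit 0) (nat_lit 1) (nat_lit 0x200000000000000000000000000000002) (.cD (nat_lit 1) (.cut (nat_lit 1)) (.cD (nat_lit 129) (.cut (nat_lit 0))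 .nil))) .nil)))
theorem c27 : (chk [(x9, s19), (x9, s26)] [] p27).n x9 s27 = true := by decide +kernel
noncomputable def p28 : Pf := (.ext (nat_lit 0) (nat_lit 0) (nat_lit 0x1200080100040) (nat_lit 0x120080040060012ea006000002) (nat_lit 0x200100400b) (nat_lit 4097) (nat_lit 4120) (nat_lit 0x9004002001) (.dfs (nat_lit 1) (nat_lit 0x100200100400b) (nat_lit 0x100200100400a) (nat_lit 4104) (nat_lit 4105) (nat_lit 4) (nat_lit 0) (nat_lit 2) (nat_lit 0) (nat_lit 0) (nat_lit 24) (nat_lit 1) (nat_lit 0) (nat_lit 1) (nat_lit 0) (nat_lit 1) (nat_lit 0) .nil))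
theorem c28 : (chk [] [] p28).n x16 s28 = true := by decide +kernel
noncomputable def p29 : Pf := (.ext (nat_lit 0) (nat_lit 0) (nat_lit 0x1200080100040) (nat_lit 0x120080040060012ea006000002) (nat_lit 0x200100400b) (nat_lit 4097) (nat_lit 4120) (nat_lit 0x9004002001) (.dfs (nat_lit 1) (nat_lit 0x100200100400b) (nat_lit 0x100200100400a) (nat_lit 4104) (nat_lit 4105) (nat_lit 6) (nat_lit 0) (nat_lit 2) (nat_lit 0) (nat_lit 0) (nat_lit 24) (nat_lit 1) (nat_lit 0) (nat_lit 1) (nat_lit 0) (nat_lit 1) (nat_lit 0) .nil))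
theorem c29 : (chk [] [] p29).n x17 s29 = true := by decide +kernel
noncomputable def p30 : Pf := (.lft (nat_lit 0x10004008002013c071069001002001001) (nat_lit 64) (nat_lit 0x11dc1c019c18015c14011c100) (nat_lit 0x1000800400200101081f419e191) (.extn a37 (nat_lit 0x100080040020010008004002001) (nat_lit 0x1020080040100) (nat_lit 2) (nat_lit 0) (nat_lit 0) (nat_lit 0) (nat_lit 0x1000000000000000000000000000000010000000000000000) (.cE (nat_lit 64) b49 (nat_lit 0) (.cut (nat_lit 0)) .nil (.cE (nat_lit 192) b50 (nat_lit 0) (.cut (nat_lit 1)) .nil .nil))))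
theorem c30 : (chk [(x16, s28), (x17, s29)] [] p30).n x15 s30 = true := by decide +kernel
noncomputable def p31 : Pf := (.anz (nat_lit 256) (.iso x19 ⟨[([nat_lit 256, nat_lit 434, nat_lit 512, nat_lit 64, nat_lit 8, nat_lit 32, nat_lit 114], [nat_lit 512, nat_lit 506, nat_lit 256, nat_lit 8, nat_lit 64, nat_lit 32, nat_lit 58])], [], [], [], [], [], true, false, []⟩ (nat_lit 0) (nat_lit 0x100101802c04008002a10000a006002) (nat_lit 0x720080200400fc1391e31e5001200) [(nat_lit 0x40020010008004002001001001)] (.syr (nat_lit 114) false (nat_lit 2) (nat_lit 1) (nat_lit 103) (nat_lit 1) (nat_lit 0x1200040010004002001) (nat_lit 0x2000401b00ec136067) (nat_lit 0x10000140010140020140040140050140000200000400010400020400000600010600020600000c00010c00000c80010c800014000114000020000120000220000320000020800120800220800320800022000122000222000322000022800122800222800322800008000108000208000308000217c00417c00001c0001bc0011bc0041bc0051bc0001940011940041940051940011800011880011680003c40013c40023c40043c40053c40003e00013e00033e00003cc0013cc0023cc0043cc0053cc0003e80013e80033e80003ec0013ec0023ec0043ec0053ec0003c00013c00033c00003e40013e40023e40043e40053e40003c80013c80033c800003c0031c8000174000308003308002278000300003300002270000328003328002250000320003320002258)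 (nat_lit 0x1010000010100000000000000000000000000000000000000000000000100000000000000000000000000000101000000000000000000000001000000010000000100100100) (.cD (nat_lit 8) (.kc (nat_lit 114) (nat_lit 0x1001001)) (.cD (nat_lit 20) (.kc (nat_lit 114) (nat_lit 0x800313600200002c0031360020000530030670010000720030e5003000001001009)) (.cD (nat_lit 32) (.kb (nat_lit 32) (nat_lit 0x1002001) (nat_lit 0x1200100080040020010008)) (.cD (nat_lit 64) (.kc (nat_lit 114) (nat_lit 0x8003001001002)) (.cD (nat_lit 96) (.kb (nat_lit 96) (nat_lit 0x1002001) (nat_lit 0x12001000800400200083fa)) (.cD (nat_lit 192) (.kc (nat_lit 114) (nat_lit 0x800313600200002c0031b0010000063003001001006)) (.cD (nat_lit 200) (.kb (nat_lit 200) (nat_lit 0x1002001) (nat_lit 0x1200100080040020010008)) (.cD (nat_lit 320) (.kc (nat_lit 114) (nat_lit 0x800313600200002c0031b001000006300306700100005200313600200005e00313600200000900300100100c)) (.cD (nat_lit 512) (.kb (nat_lit 256) (nat_lit 0x1002004004002) (nat_lit 0x1200100080040020008006)) (.cD (nat_lit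 520) (.kc (nat_lit 114) (nat_lit 0x800313600200002c0031b001000006300306700100005200313600200005e00313600200000100100b)) (.cD (nat_lit 544) (.kc (nat_lit 114) (nat_lit 0x80031b0010000024003001001004)) (.cD (nat_lit 552) (.kc (nat_lit 114) (nat_lit 0x800313600200002c00313600200005300306700100007200313600200007e00313600200000100100b)) .nil)))))))))))))))
theorem c31 : (chk [] [g47] p31).n x18 s31 = true := by decide +kernel
noncomputable def p32 : Pf := (.clm (.cut (nat_lit 0)) (.dfs (nat_lit 512) (nat_lit 1) (nat_lit 1) (nat_lit 1) (nat_lit 1) (nat_lit 0) (nat_lit 0) (nat_lit 0) (nat_lit 0) (nat_lit 0) (nat_lit 0) (nat_lit 1) (nat_lit 0) (nat_lit 0x1200040020010008004002001) (nat_lit 0x2000400202103e833c322001) (nat_lit 0x100100100200100300100500100700100101800201800301800501800101900201900301900501900701900002000102000202000402000602000102c00202c00302c00502c00702c00102d00202d00302d00502d00702d00105800305800705800006b00106b00206b00306b00406b00606b00706b00106c00306c00706c0010800010ec0030ec0070ec00020000120000220000320000104b00204b00304b00404b00604b00704b0063470002670012670062670021a00041a00061a00010eb0020eb0030eb0040eb0060eb0070eb0063bf00029f00129f00629f00317800617800114c00214c00314c00414c00614c00714c0063f400037400137400637400123f00223f00323f00423f00623f00723f00616b0000cb0010cb0060cb00333f00433f00633f00733f0020810022550052950011cb0012400022400032400042400052400022b80032b80042b80043800043c00053c0)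 (nat_lit 0x100000000000000000000000000000000000000000000000000000000000000010000100000000000000000000000000100001800010000000000300103000002) (.cD (nat_lit 1) (.kb (nat_lit 24) (nat_lit 0x1002004004002) (nat_lit 0x110008004022001820c001)) (.cD (nat_lit 24) (.kb (nat_lit 24) (nat_lit 0x1002001) (nat_lit 0x110008004022001820c001)) (.cD (nat_lit 25) (.kc (nat_lit 512) (nat_lit 0x80032ea00600002c0032ea0060000530033220020000720030c60120000760032ea00600000100100b)) (.cD (nat_lit 32) (.kc (nat_lit 512) (nat_lit 0x8003210010000001001003)) (.cD (nat_lit 44) (.kc (nat_lit 512) (nat_lit 0x80032ea00600002c0032ea0060000530033220020000720032ea006000001001009)) (.cD (nat_lit 45) (.kc (nat_lit 512) (nat_lit 0x80032ea00600002c0032ea0060000530033220020000720032ea00600007e00302002000000100100b)) (.cD (nat_lit 88) (.kc (nat_lit 512) (nat_lit 0x80030c60120000240030c60120000630033220020000520032ea00600005e0032ea00600000900300100100c)) (.cD (nat_lit 107) (.kc (nat_lit 512) (nat_lit 0x80030c6012000024003322002000001001005))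 (.cD (nat_lit 108) (.kc (nat_lit 512) (nat_lit 0x80030c60120000240030c6012000063003001001006)) (.cD (nat_lit 128) (.kb (nat_lit 128) (nat_lit 0x1002001) (nat_lit 0x120010008004002001800c)) (.cD (nat_lit 236) (.kb (nat_lit 236) (nat_lit 0x1002001) (nat_lit 0x110008004002001800c206)) (.cD (nat_lit 256) (.kc (nat_lit 512) (nat_lit 0x1001001)) (.cD (nat_lit 512) (.kin (nat_lit 1) (nat_lit 0)) .nil)))))))))))))))
theorem c32 : (chk [(x18, s31)] [] p32).n x18 s32 = true := by decide +kernel
noncomputable def p33 : Pf := (.dfs (nat_lit 20) (nat_lit 0x1004002008016) (nat_lit 0x100400200801e) (nat_lit 0x1010001) (nat_lit 0x1018003) (nat_lit 8) (nat_lit 0) (nat_lit 2) (nat_lit 0) (nat_lit 0) (nat_lit 20) (nat_lit 1) (nat_lit 0) (nat_lit 1) (nat_lit 0) (nat_lit 1) (nat_lit 0x1000000000000000100000000000000010000000000000001000000000000000100000000000000010000000000000001000000000000000100000) (.cD (nat_lit 20) (.dfs (nat_lit 24) (nat_lit 0x100800401002c) (nat_lit 0x1008004010024) (nat_lit 0x1020002001) (nat_lit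 0x1028002009) (nat_lit 0) (nat_lit 0) (nat_lit 2) (nat_lit 0) (nat_lit 0) (nat_lit 1) (nat_lit 1) (nat_lit 0) (nat_lit 1) (nat_lit 0) (nat_lit 1) (nat_lit 0x20000000000000002000000000000000200000000000000020000000000000002000000000000000200000000000000020000000000000002) (.cD (nat_lit 1) (.kS (nat_lit 0) (nat_lit 0x8010020040001001) (nat_lit 4248) (nat_lit 0x8004002009) (nat_lit 0x10008020058001002008010020040004002002)) (.cD (nat_lit 65) (.kS (nat_lit 0) (nat_lit 0x8010020040001001) (nat_lit 4248) (nat_lit 0x8004002009) (nat_lit 0x10008020058011002008010020040004002002)) (.cD (nat_lit 129) (.kS (nat_lit 0) (nat_lit 0x8010020040001001) (nat_lit 4948) (nat_lit 0x8004002003) (nat_lit 0x3a602a000004006008010001004008010020040042002003)) (.cD (nat_lit 193) (.kS (nat_lit 0) (nat_lit 0x8010020040001001) (nat_lit 0x1098014) (nat_lit 0x8004002009010008004006011) (nat_lit 0x10008020058031002002008010020040004002002002)) (.cD (nat_lit 257) (.kS (nat_lit 0) (nat_lit 0x8010020040001001) (nat_lit 4248) (nat_lit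 0x8004002009) (nat_lit 0x10008020058009002008010020040004002002)) (.cD (nat_lit 321) (.kS (nat_lit 0) (nat_lit 0x8010020040001001) (nat_lit 4248) (nat_lit 0x8004002009) (nat_lit 0x10008020058019002008010020040004002002)) (.cD (nat_lit 385) (.kS (nat_lit 0) (nat_lit 0x8010020040001001) (nat_lit 4248) (nat_lit 0x8004002009) (nat_lit 0x10008020058029002008010020040004002002)) (.cD (nat_lit 449) (.kS (nat_lit 0) (nat_lit 0x8010020040001001) (nat_lit 4248) (nat_lit 0x8004002009) (nat_lit 0x10008020058039002008010020040004002002)) .nil))))))))) (.cD (nat_lit 84) (.dfs (nat_lit 24) (nat_lit 0x100800401002c) (nat_lit 0x1008004010024) (nat_lit 0x1020002001) (nat_lit 0x1028002009) (nat_lit 0) (nat_lit 0) (nat_lit 2) (nat_lit 0) (nat_lit 0) (nat_lit 1) (nat_lit 1) (nat_lit 0) (nat_lit 1) (nat_lit 0) (nat_lit 1) (nat_lit 0x20000000000000002000000000000000200000000000000020000000000000002000000000000000200000000000000020000000000000002) (.cD (nat_lit 1) (.kS (nat_lit 0) (nat_lit 0x8010020040001001) (nat_lit 4248)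 (nat_lit 0x8004002009) (nat_lit 0x10008020058001002008010020040004002002)) (.cD (nat_lit 65) (.kS (nat_lit 0) (nat_lit 0x8010020040001001) (nat_lit 4248) (nat_lit 0x8004002009) (nat_lit 0x10008020058011002008010020040004002002)) (.cD (nat_lit 129) (.kS (nat_lit 0) (nat_lit 0x8010020040001001) (nat_lit 0x1098054) (nat_lit 0x8004002009010008004006011) (nat_lit 0x10008020058021012002008010020040004002002002)) (.cD (nat_lit 193) (.kS (nat_lit 0) (nat_lit 0x8010020040001001) (nat_lit 0x1098054) (nat_lit 0x8004002009010008004006011) (nat_lit 0x10008020058031012002008010020040004002002002)) (.cD (nat_lit 257) (.kS (nat_lit 0) (nat_lit 0x8010020040001001) (nat_lit 4248) (nat_lit 0x8004002009) (nat_lit 0x10008020058009002008010020040004002002)) (.cD (nat_lit 321) (.kS (nat_lit 0) (nat_lit 0x8010020040001001) (nat_lit 4248) (nat_lit 0x8004002009) (nat_lit 0x10008020058019002008010020040004002002)) (.cD (nat_lit 385) (.kS (nat_lit 0) (nat_lit 0x8010020040001001) (nat_lit 4248) (nat_lit 0x8004002009) (nat_lit 0x10008020058029002008010020040004002002))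 (.cD (nat_lit 449) (.kS (nat_lit 0) (nat_lit 0x8010020040001001) (nat_lit 4248) (nat_lit 0x8004002009) (nat_lit 0x10008020058039002008010020040004002002)) .nil))))))))) (.cD (nat_lit 148) (.dfs (nat_lit 24) (nat_lit 0x100800401002c) (nat_lit 0x1008004010024) (nat_lit 0x1020002001) (nat_lit 0x1028002009) (nat_lit 0) (nat_lit 0) (nat_lit 2) (nat_lit 0) (nat_lit 0) (nat_lit 1) (nat_lit 1) (nat_lit 0) (nat_lit 1) (nat_lit 0) (nat_lit 1) (nat_lit 0x20000000000000002000000000000000200000000000000020000000000000002000000000000000200000000000000020000000000000002) (.cD (nat_lit 1) (.kS (nat_lit 0) (nat_lit 0x8010020040001001) (nat_lit 4248) (nat_lit 0x8004002009) (nat_lit 0x10008020058001002008010020040004002002)) (.cD (nat_lit 65) (.kS (nat_lit 0) (nat_lit 0x8010020040001001) (nat_lit 4248) (nat_lit 0x8004002009) (nat_lit 0x10008020058011002008010020040004002002)) (.cD (nat_lit 129) (.kS (nat_lit 0) (nat_lit 0x20020000018010020040001020020000003) (nat_lit 0x10410d4) (nat_lit 0x8004002009010008004006011) (nat_lit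 0x1001802004803103200102002000000801002004000400200102002000001801002004000d012002020020000006)) (.cD (nat_lit 193) (.kS (nat_lit 0) (nat_lit 0x8010020040001001) (nat_lit 0x1098094) (nat_lit 0x8004002009010008004006011) (nat_lit 0x10008020058031022002008010020040004002002002)) (.cD (nat_lit 257) (.kS (nat_lit 0) (nat_lit 0x8010020040001001) (nat_lit 4248) (nat_lit 0x8004002009) (nat_lit 0x10008020058009002008010020040004002002)) (.cD (nat_lit 321) (.kS (nat_lit 0) (nat_lit 0x8010020040001001) (nat_lit 4248) (nat_lit 0x8004002009) (nat_lit 0x10008020058019002008010020040004002002)) (.cD (nat_lit 385) (.kS (nat_lit 0) (nat_lit 0x8010020040001001) (nat_lit 4248) (nat_lit 0x8004002009) (nat_lit 0x10008020058029002008010020040004002002)) (.cD (nat_lit 449) (.kS (nat_lit 0) (nat_lit 0x8010020040001001) (nat_lit 4248) (nat_lit 0x8004002009) (nat_lit 0x10008020058039002008010020040004002002)) .nil))))))))) (.cD (nat_lit 212) (.dfs (nat_lit 24) (nat_lit 0x100800401002c) (nat_lit 0x1008004010024) (nat_lit 0x1020002001)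 (nat_lit 0x1028002009) (nat_lit 0) (nat_lit 0) (nat_lit 2) (nat_lit 0) (nat_lit 0) (nat_lit 1) (nat_lit 1) (nat_lit 0) (nat_lit 1) (nat_lit 0) (nat_lit 1) (nat_lit 0x20000000000000002000000000000000200000000000000020000000000000002000000000000000200000000000000020000000000000002) (.cD (nat_lit 1) (.kS (nat_lit 0) (nat_lit 0x8010020040001001) (nat_lit 4248) (nat_lit 0x8004002009) (nat_lit 0x10008020058001002008010020040004002002)) (.cD (nat_lit 65) (.kS (nat_lit 0) (nat_lit 0x8010020040001001) (nat_lit 4248) (nat_lit 0x8004002009) (nat_lit 0x10008020058011002008010020040004002002)) (.cD (nat_lit 129) (.kS (nat_lit 0) (nat_lit 0x8010020040001001) (nat_lit 0x10980d4) (nat_lit 0x8004002009010008004006011) (nat_lit 0x10008020058021032002008010020040004002002002)) (.cD (nat_lit 193) (.kS (nat_lit 0) (nat_lit 0x8010020040001001) (nat_lit 0x10980d4) (nat_lit 0x8004002009010008004006011) (nat_lit 0x10008020058031032002008010020040004002002002)) (.cD (nat_lit 257) (.kS (nat_lit 0) (nat_lit 0x8010020040001001)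 (nat_lit 4248) (nat_lit 0x8004002009) (nat_lit 0x10008020058009002008010020040004002002)) (.cD (nat_lit 321) (.kS (nat_lit 0) (nat_lit 0x8010020040001001) (nat_lit 4248) (nat_lit 0x8004002009) (nat_lit 0x10008020058019002008010020040004002002)) (.cD (nat_lit 385) (.kS (nat_lit 0) (nat_lit 0x8010020040001001) (nat_lit 4248) (nat_lit 0x8004002009) (nat_lit 0x10008020058029002008010020040004002002)) (.cD (nat_lit 449) (.kS (nat_lit 0) (nat_lit 0x8010020040001001) (nat_lit 4248) (nat_lit 0x8004002009) (nat_lit 0x10008020058039002008010020040004002002)) .nil))))))))) (.cD (nat_lit 276) (.dfs (nat_lit 24) (nat_lit 0x100800401002c) (nat_lit 0x1008004010024) (nat_lit 0x1020002001) (nat_lit 0x1028002009) (nat_lit 0) (nat_lit 0) (nat_lit 2) (nat_lit 0) (nat_lit 0) (nat_lit 1) (nat_lit 1) (nat_lit 0) (nat_lit 1) (nat_lit 0) (nat_lit 1) (nat_lit 0x20000000000000002000000000000000200000000000000020000000000000002000000000000000200000000000000020000000000000002) (.cD (nat_lit 1) (.kS (nat_lit 0) (nat_lit 0x8010020040001001)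 (nat_lit 4248) (nat_lit 0x8004002009) (nat_lit 0x10008020058001002008010020040004002002)) (.cD (nat_lit 65) (.kS (nat_lit 0) (nat_lit 0x8010020040001001) (nat_lit 4248) (nat_lit 0x8004002009) (nat_lit 0x10008020058011002008010020040004002002)) (.cD (nat_lit 129) (.kS (nat_lit 0) (nat_lit 0x8010020040001001) (nat_lit 0x1098114) (nat_lit 0x8004002009010008004006011) (nat_lit 0x1000802005802100a002008010020040004002002002)) (.cD (nat_lit 193) (.kS (nat_lit 0) (nat_lit 0x8010020040001001) (nat_lit 0x1098114) (nat_lit 0x8004002009010008004006011) (nat_lit 0x1000802005803100a002008010020040004002002002)) (.cD (nat_lit 257) (.kS (nat_lit 0) (nat_lit 0x8010020040001001) (nat_lit 4248) (nat_lit 0x8004002009) (nat_lit 0x10008020058009002008010020040004002002)) (.cD (nat_lit 321) (.kS (nat_lit 0) (nat_lit 0x8010020040001001) (nat_lit 4248) (nat_lit 0x8004002009) (nat_lit 0x10008020058019002008010020040004002002)) (.cD (nat_lit 385) (.kS (nat_lit 0) (nat_lit 0x8010020040001001) (nat_lit 4248) (nat_lit 0x8004002009)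 (nat_lit 0x10008020058029002008010020040004002002)) (.cD (nat_lit 449) (.kS (nat_lit 0) (nat_lit 0x8010020040001001) (nat_lit 4248) (nat_lit 0x8004002009) (nat_lit 0x10008020058039002008010020040004002002)) .nil))))))))) (.cD (nat_lit 340) (.dfs (nat_lit 24) (nat_lit 0x100800401002c) (nat_lit 0x1008004010024) (nat_lit 0x1020002001) (nat_lit 0x1028002009) (nat_lit 0) (nat_lit 0) (nat_lit 2) (nat_lit 0) (nat_lit 0) (nat_lit 1) (nat_lit 1) (nat_lit 0) (nat_lit 1) (nat_lit 0) (nat_lit 1) (nat_lit 0x20000000000000002000000000000000200000000000000020000000000000002000000000000000200000000000000020000000000000002) (.cD (nat_lit 1) (.kS (nat_lit 0) (nat_lit 0x8010020040001001) (nat_lit 4248) (nat_lit 0x8004002009) (nat_lit 0x10008020058001002008010020040004002002)) (.cD (nat_lit 65) (.kS (nat_lit 0) (nat_lit 0x8010020040001001) (nat_lit 4248) (nat_lit 0x8004002009) (nat_lit 0x10008020058011002008010020040004002002)) (.cD (nat_lit 129) (.iso x18 s32 (nat_lit 0) (nat_lit 0x1200100080040020010008004102081) (nat_lit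 0x200100080040020010008004102081) [(nat_lit 0x40020010008024002001001001)] (.cut (nat_lit 0))) (.cD (nat_lit 193) (.kS (nat_lit 0) (nat_lit 0x8010020040001001) (nat_lit 0x1098154) (nat_lit 0x8004002009010008004006011) (nat_lit 0x1000802005803101a002008010020040004002002002)) (.cD (nat_lit 257) (.kS (nat_lit 0) (nat_lit 0x8010020040001001) (nat_lit 4248) (nat_lit 0x8004002009) (nat_lit 0x10008020058009002008010020040004002002)) (.cD (nat_lit 321) (.kS (nat_lit 0) (nat_lit 0x8010020040001001) (nat_lit 4248) (nat_lit 0x8004002009) (nat_lit 0x10008020058019002008010020040004002002)) (.cD (nat_lit 385) (.kS (nat_lit 0) (nat_lit 0x8010020040001001) (nat_lit 4248) (nat_lit 0x8004002009) (nat_lit 0x10008020058029002008010020040004002002)) (.cD (nat_lit 449) (.kS (nat_lit 0) (nat_lit 0x8010020040001001) (nat_lit 4248) (nat_lit 0x8004002009) (nat_lit 0x10008020058039002008010020040004002002)) .nil))))))))) (.cD (nat_lit 404) (.dfs (nat_lit 24) (nat_lit 0x100800401002c) (nat_lit 0x1008004010024) (nat_lit 0x1020002001)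 (nat_lit 0x1028002009) (nat_lit 0) (nat_lit 0) (nat_lit 2) (nat_lit 0) (nat_lit 0) (nat_lit 1) (nat_lit 1) (nat_lit 0) (nat_lit 1) (nat_lit 0) (nat_lit 1) (nat_lit 0x20000000000000002000000000000000200000000000000020000000000000002000000000000000200000000000000020000000000000002) (.cD (nat_lit 1) (.kS (nat_lit 0) (nat_lit 0x8010020040001001) (nat_lit 4248) (nat_lit 0x8004002009) (nat_lit 0x10008020058001002008010020040004002002)) (.cD (nat_lit 65) (.kS (nat_lit 0) (nat_lit 0x8010020040001001) (nat_lit 4248) (nat_lit 0x8004002009) (nat_lit 0x10008020058011002008010020040004002002)) (.cD (nat_lit 129) (.kS (nat_lit 0) (nat_lit 0x8010020040001001) (nat_lit 0x1098194) (nat_lit 0x8004002009010008004006011) (nat_lit 0x1000802005802102a002008010020040004002002002)) (.cD (nat_lit 193) (.kS (nat_lit 0) (nat_lit 0x8010020040001001) (nat_lit 0x1098194) (nat_lit 0x8004002009010008004006011) (nat_lit 0x1000802005803102a002008010020040004002002002)) (.cD (nat_lit 257) (.kS (nat_lit 0) (nat_lit 0x8010020040001001)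 (nat_lit 4248) (nat_lit 0x8004002009) (nat_lit 0x10008020058009002008010020040004002002)) (.cD (nat_lit 321) (.kS (nat_lit 0) (nat_lit 0x8010020040001001) (nat_lit 4248) (nat_lit 0x8004002009) (nat_lit 0x10008020058019002008010020040004002002)) (.cD (nat_lit 385) (.kS (nat_lit 0) (nat_lit 0x8010020040001001) (nat_lit 4248) (nat_lit 0x8004002009) (nat_lit 0x10008020058029002008010020040004002002)) (.cD (nat_lit 449) (.kS (nat_lit 0) (nat_lit 0x8010020040001001) (nat_lit 4248) (nat_lit 0x8004002009) (nat_lit 0x10008020058039002008010020040004002002)) .nil))))))))) (.cD (nat_lit 468) (.dfs (nat_lit 24) (nat_lit 0x100800401002c) (nat_lit 0x1008004010024) (nat_lit 0x1020002001) (nat_lit 0x1028002009) (nat_lit 0) (nat_lit 0) (nat_lit 2) (nat_lit 0) (nat_lit 0) (nat_lit 1) (nat_lit 1) (nat_lit 0) (nat_lit 1) (nat_lit 0) (nat_lit 1) (nat_lit 0x20000000000000002000000000000000200000000000000020000000000000002000000000000000200000000000000020000000000000002) (.cD (nat_lit 1) (.kS (nat_lit 0) (nat_lit 0x8010020040001001)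 (nat_lit 4248) (nat_lit 0x8004002009) (nat_lit 0x10008020058001002008010020040004002002)) (.cD (nat_lit 65) (.kS (nat_lit 0) (nat_lit 0x8010020040001001) (nat_lit 4248) (nat_lit 0x8004002009) (nat_lit 0x10008020058011002008010020040004002002)) (.cD (nat_lit 129) (.kS (nat_lit 0) (nat_lit 0x20020000018010020040001020020000003) (nat_lit 0x1041094) (nat_lit 0x8004002009010008004006011) (nat_lit 0x1001802004803103a00102002000000801002004000400200102002000001801002004000d012002020020000006)) (.cD (nat_lit 193) (.kS (nat_lit 0) (nat_lit 0x8010020040001001) (nat_lit 0x10981d4) (nat_lit 0x8004002009010008004006011) (nat_lit 0x1000802005803103a002008010020040004002002002)) (.cD (nat_lit 257) (.kS (nat_lit 0) (nat_lit 0x8010020040001001) (nat_lit 4248) (nat_lit 0x8004002009) (nat_lit 0x10008020058009002008010020040004002002)) (.cD (nat_lit 321) (.kS (nat_lit 0) (nat_lit 0x8010020040001001) (nat_lit 4248) (nat_lit 0x8004002009) (nat_lit 0x10008020058019002008010020040004002002)) (.cD (nat_lit 385) (.kS (nat_lit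 0) (nat_lit 0x8010020040001001) (nat_lit 4248) (nat_lit 0x8004002009) (nat_lit 0x10008020058029002008010020040004002002)) (.cD (nat_lit 449) (.kS (nat_lit 0) (nat_lit 0x8010020040001001) (nat_lit 4248) (nat_lit 0x8004002009) (nat_lit 0x10008020058039002008010020040004002002)) .nil))))))))) .nil)))))))))
theorem c33 : (chk [(x18, s32)] [g42] p33).n x18 s33 = true := by decide +kernel
noncomputable def p34 : Pf := (.dfs (nat_lit 20) (nat_lit 0x1004002008016) (nat_lit 0x100400200801e) (nat_lit 0x1010001) (nat_lit 0x1018003) (nat_lit 8) (nat_lit 0) (nat_lit 2) (nat_lit 0) (nat_lit 0) (nat_lit 20) (nat_lit 1) (nat_lit 0) (nat_lit 1) (nat_lit 0) (nat_lit 1) (nat_lit 0x1000000000000000100000000000000010000000000000001000000000000000100000000000000010000000000000001000000000000000100000) (.cD (nat_lit 20) (.dfs (nat_lit 24) (nat_lit 0x100800401002c) (nat_lit 0x1008004010024) (nat_lit 0x1020002001) (nat_lit 0x1028002009) (nat_lit 0) (nat_lit 0) (nat_lit 2) (nat_lit 0) (nat_lit 0) (nat_lit 1) (nat_lit 1) (nat_lit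 0) (nat_lit 1) (nat_lit 0) (nat_lit 1) (nat_lit 0x20000000000000002000000000000000200000000000000020000000000000002000000000000000200000000000000020000000000000002) (.cD (nat_lit 1) (.kS (nat_lit 0) (nat_lit 0x8010020040001001) (nat_lit 4184) (nat_lit 0x8004002009) (nat_lit 0x10008020058001002008010020040004002002)) (.cD (nat_lit 65) (.kS (nat_lit 0) (nat_lit 0x8010020040001001) (nat_lit 4184) (nat_lit 0x8004002009) (nat_lit 0x10008020058011002008010020040004002002)) (.cD (nat_lit 129) (.kS (nat_lit 0) (nat_lit 0x8010020040001001) (nat_lit 4184) (nat_lit 0x8004002009) (nat_lit 0x10008020058021002008010020040004002002)) (.cD (nat_lit 193) (.kS (nat_lit 0) (nat_lit 0x8010020040001001) (nat_lit 4184) (nat_lit 0x8004002009) (nat_lit 0x10008020058031002008010020040004002002)) (.cD (nat_lit 257) (.kS (nat_lit 0) (nat_lit 0x8010020040001001) (nat_lit 4948) (nat_lit 0x8004002003) (nat_lit 0x3a602a000004006008010001004008010020040042002003)) (.cD (nat_lit 321) (.kS (nat_lit 0) (nat_lit 0x8010020040001001) (nat_lit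 0x1058014) (nat_lit 0x8004002009010008004006011) (nat_lit 0x10008020058019002002008010020040004002002002)) (.cD (nat_lit 385) (.kS (nat_lit 0) (nat_lit 0x8010020040001001) (nat_lit 4184) (nat_lit 0x8004002009) (nat_lit 0x10008020058029002008010020040004002002)) (.cD (nat_lit 449) (.kS (nat_lit 0) (nat_lit 0x8010020040001001) (nat_lit 4184) (nat_lit 0x8004002009) (nat_lit 0x10008020058039002008010020040004002002)) .nil))))))))) (.cD (nat_lit 84) (.dfs (nat_lit 24) (nat_lit 0x100800401002c) (nat_lit 0x1008004010024) (nat_lit 0x1020002001) (nat_lit 0x1028002009) (nat_lit 0) (nat_lit 0) (nat_lit 2) (nat_lit 0) (nat_lit 0) (nat_lit 1) (nat_lit 1) (nat_lit 0) (nat_lit 1) (nat_lit 0) (nat_lit 1) (nat_lit 0x20000000000000002000000000000000200000000000000020000000000000002000000000000000200000000000000020000000000000002) (.cD (nat_lit 1) (.kS (nat_lit 0) (nat_lit 0x8010020040001001) (nat_lit 4184) (nat_lit 0x8004002009) (nat_lit 0x10008020058001002008010020040004002002)) (.cD (nat_lit 65) (.kS (nat_lit 0) (nat_lit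 0x8010020040001001) (nat_lit 4184) (nat_lit 0x8004002009) (nat_lit 0x10008020058011002008010020040004002002)) (.cD (nat_lit 129) (.kS (nat_lit 0) (nat_lit 0x8010020040001001) (nat_lit 4184) (nat_lit 0x8004002009) (nat_lit 0x10008020058021002008010020040004002002)) (.cD (nat_lit 193) (.kS (nat_lit 0) (nat_lit 0x8010020040001001) (nat_lit 4184) (nat_lit 0x8004002009) (nat_lit 0x10008020058031002008010020040004002002)) (.cD (nat_lit 257) (.kS (nat_lit 0) (nat_lit 0x8010020040001001) (nat_lit 0x1058054) (nat_lit 0x8004002009010008004006011) (nat_lit 0x10008020058009012002008010020040004002002002)) (.cD (nat_lit 321) (.kS (nat_lit 0) (nat_lit 0x8010020040001001) (nat_lit 0x1058054) (nat_lit 0x8004002009010008004006011) (nat_lit 0x10008020058019012002008010020040004002002002)) (.cD (nat_lit 385) (.kS (nat_lit 0) (nat_lit 0x8010020040001001) (nat_lit 4184) (nat_lit 0x8004002009) (nat_lit 0x10008020058029002008010020040004002002)) (.cD (nat_lit 449) (.kS (nat_lit 0) (nat_lit 0x8010020040001001) (nat_lit 4184)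 (nat_lit 0x8004002009) (nat_lit 0x10008020058039002008010020040004002002)) .nil))))))))) (.cD (nat_lit 148) (.dfs (nat_lit 24) (nat_lit 0x100800401002c) (nat_lit 0x1008004010024) (nat_lit 0x1020002001) (nat_lit 0x1028002009) (nat_lit 0) (nat_lit 0) (nat_lit 2) (nat_lit 0) (nat_lit 0) (nat_lit 1) (nat_lit 1) (nat_lit 0) (nat_lit 1) (nat_lit 0) (nat_lit 1) (nat_lit 0x20000000000000002000000000000000200000000000000020000000000000002000000000000000200000000000000020000000000000002) (.cD (nat_lit 1) (.kS (nat_lit 0) (nat_lit 0x8010020040001001) (nat_lit 4184) (nat_lit 0x8004002009) (nat_lit 0x10008020058001002008010020040004002002)) (.cD (nat_lit 65) (.kS (nat_lit 0) (nat_lit 0x8010020040001001) (nat_lit 4184) (nat_lit 0x8004002009) (nat_lit 0x10008020058011002008010020040004002002)) (.cD (nat_lit 129) (.kS (nat_lit 0) (nat_lit 0x8010020040001001) (nat_lit 4184) (nat_lit 0x8004002009) (nat_lit 0x10008020058021002008010020040004002002)) (.cD (nat_lit 193) (.kS (nat_lit 0) (nat_lit 0x8010020040001001) (nat_lit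 4184) (nat_lit 0x8004002009) (nat_lit 0x10008020058031002008010020040004002002)) (.cD (nat_lit 257) (.kS (nat_lit 0) (nat_lit 0x20020000018010020040001020020000003) (nat_lit 0x10010d4) (nat_lit 0x8004002009010008004006011) (nat_lit 0x1001802004800903200102002000000801002004000400200102002000001801002004000d012002020020000006)) (.cD (nat_lit 321) (.kS (nat_lit 0) (nat_lit 0x8010020040001001) (nat_lit 0x1058094) (nat_lit 0x8004002009010008004006011) (nat_lit 0x10008020058019022002008010020040004002002002)) (.cD (nat_lit 385) (.kS (nat_lit 0) (nat_lit 0x8010020040001001) (nat_lit 4184) (nat_lit 0x8004002009) (nat_lit 0x10008020058029002008010020040004002002)) (.cD (nat_lit 449) (.kS (nat_lit 0) (nat_lit 0x8010020040001001) (nat_lit 4184) (nat_lit 0x8004002009) (nat_lit 0x10008020058039002008010020040004002002)) .nil))))))))) (.cD (nat_lit 212) (.dfs (nat_lit 24) (nat_lit 0x100800401002c) (nat_lit 0x1008004010024) (nat_lit 0x1020002001) (nat_lit 0x1028002009) (nat_lit 0) (nat_lit 0) (nat_lit 2) (nat_lit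 0) (nat_lit 0) (nat_lit 1) (nat_lit 1) (nat_lit 0) (nat_lit 1) (nat_lit 0) (nat_lit 1) (nat_lit 0x20000000000000002000000000000000200000000000000020000000000000002000000000000000200000000000000020000000000000002) (.cD (nat_lit 1) (.kS (nat_lit 0) (nat_lit 0x8010020040001001) (nat_lit 4184) (nat_lit 0x8004002009) (nat_lit 0x10008020058001002008010020040004002002)) (.cD (nat_lit 65) (.kS (nat_lit 0) (nat_lit 0x8010020040001001) (nat_lit 4184) (nat_lit 0x8004002009) (nat_lit 0x10008020058011002008010020040004002002)) (.cD (nat_lit 129) (.kS (nat_lit 0) (nat_lit 0x8010020040001001) (nat_lit 4184) (nat_lit 0x8004002009) (nat_lit 0x10008020058021002008010020040004002002)) (.cD (nat_lit 193) (.kS (nat_lit 0) (nat_lit 0x8010020040001001) (nat_lit 4184) (nat_lit 0x8004002009) (nat_lit 0x10008020058031002008010020040004002002)) (.cD (nat_lit 257) (.kS (nat_lit 0) (nat_lit 0x8010020040001001) (nat_lit 0x10580d4) (nat_lit 0x8004002009010008004006011) (nat_lit 0x10008020058009032002008010020040004002002002)) (.cD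 (nat_lit 321) (.kS (nat_lit 0) (nat_lit 0x8010020040001001) (nat_lit 0x10580d4) (nat_lit 0x8004002009010008004006011) (nat_lit 0x10008020058019032002008010020040004002002002)) (.cD (nat_lit 385) (.kS (nat_lit 0) (nat_lit 0x8010020040001001) (nat_lit 4184) (nat_lit 0x8004002009) (nat_lit 0x10008020058029002008010020040004002002)) (.cD (nat_lit 449) (.kS (nat_lit 0) (nat_lit 0x8010020040001001) (nat_lit 4184) (nat_lit 0x8004002009) (nat_lit 0x10008020058039002008010020040004002002)) .nil))))))))) (.cD (nat_lit 276) (.dfs (nat_lit 24) (nat_lit 0x100800401002c) (nat_lit 0x1008004010024) (nat_lit 0x1020002001) (nat_lit 0x1028002009) (nat_lit 0) (nat_lit 0) (nat_lit 2) (nat_lit 0) (nat_lit 0) (nat_lit 1) (nat_lit 1) (nat_lit 0) (nat_lit 1) (nat_lit 0) (nat_lit 1) (nat_lit 0x20000000000000002000000000000000200000000000000020000000000000002000000000000000200000000000000020000000000000002) (.cD (nat_lit 1) (.kS (nat_lit 0) (nat_lit 0x8010020040001001) (nat_lit 4184) (nat_lit 0x8004002009) (nat_lit 0x10008020058001002008010020040004002002))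 (.cD (nat_lit 65) (.kS (nat_lit 0) (nat_lit 0x8010020040001001) (nat_lit 4184) (nat_lit 0x8004002009) (nat_lit 0x10008020058011002008010020040004002002)) (.cD (nat_lit 129) (.kS (nat_lit 0) (nat_lit 0x8010020040001001) (nat_lit 4184) (nat_lit 0x8004002009) (nat_lit 0x10008020058021002008010020040004002002)) (.cD (nat_lit 193) (.kS (nat_lit 0) (nat_lit 0x8010020040001001) (nat_lit 4184) (nat_lit 0x8004002009) (nat_lit 0x10008020058031002008010020040004002002)) (.cD (nat_lit 257) (.kS (nat_lit 0) (nat_lit 0x8010020040001001) (nat_lit 0x1058114) (nat_lit 0x8004002009010008004006011) (nat_lit 0x1000802005800900a002008010020040004002002002)) (.cD (nat_lit 321) (.kS (nat_lit 0) (nat_lit 0x8010020040001001) (nat_lit 0x1058114) (nat_lit 0x8004002009010008004006011) (nat_lit 0x1000802005801900a002008010020040004002002002)) (.cD (nat_lit 385) (.kS (nat_lit 0) (nat_lit 0x8010020040001001) (nat_lit 4184) (nat_lit 0x8004002009) (nat_lit 0x10008020058029002008010020040004002002)) (.cD (nat_lit 449) (.kS (nat_lit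 0) (nat_lit 0x8010020040001001) (nat_lit 4184) (nat_lit 0x8004002009) (nat_lit 0x10008020058039002008010020040004002002)) .nil))))))))) (.cD (nat_lit 340) (.dfs (nat_lit 24) (nat_lit 0x100800401002c) (nat_lit 0x1008004010024) (nat_lit 0x1020002001) (nat_lit 0x1028002009) (nat_lit 0) (nat_lit 0) (nat_lit 2) (nat_lit 0) (nat_lit 0) (nat_lit 1) (nat_lit 1) (nat_lit 0) (nat_lit 1) (nat_lit 0) (nat_lit 1) (nat_lit 0x20000000000000002000000000000000200000000000000020000000000000002000000000000000200000000000000020000000000000002) (.cD (nat_lit 1) (.kS (nat_lit 0) (nat_lit 0x8010020040001001) (nat_lit 4184) (nat_lit 0x8004002009) (nat_lit 0x10008020058001002008010020040004002002)) (.cD (nat_lit 65) (.kS (nat_lit 0) (nat_lit 0x8010020040001001) (nat_lit 4184) (nat_lit 0x8004002009) (nat_lit 0x10008020058011002008010020040004002002)) (.cD (nat_lit 129) (.kS (nat_lit 0) (nat_lit 0x8010020040001001) (nat_lit 4184) (nat_lit 0x8004002009) (nat_lit 0x10008020058021002008010020040004002002)) (.cD (nat_lit 193) (.kS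 (nat_lit 0) (nat_lit 0x8010020040001001) (nat_lit 4184) (nat_lit 0x8004002009) (nat_lit 0x10008020058031002008010020040004002002)) (.cD (nat_lit 257) (.iso x18 s32 (nat_lit 0) (nat_lit 0x1200100080040020010008004002101) (nat_lit 0x200100080040020010008004002101) [(nat_lit 0x40020010008014002001001001)] (.cut (nat_lit 0))) (.cD (nat_lit 321) (.kS (nat_lit 0) (nat_lit 0x8010020040001001) (nat_lit 0x1058154) (nat_lit 0x8004002009010008004006011) (nat_lit 0x1000802005801901a002008010020040004002002002)) (.cD (nat_lit 385) (.kS (nat_lit 0) (nat_lit 0x8010020040001001) (nat_lit 4184) (nat_lit 0x8004002009) (nat_lit 0x10008020058029002008010020040004002002)) (.cD (nat_lit 449) (.kS (nat_lit 0) (nat_lit 0x8010020040001001) (nat_lit 4184) (nat_lit 0x8004002009) (nat_lit 0x10008020058039002008010020040004002002)) .nil))))))))) (.cD (nat_lit 404) (.dfs (nat_lit 24) (nat_lit 0x100800401002c) (nat_lit 0x1008004010024) (nat_lit 0x1020002001) (nat_lit 0x1028002009) (nat_lit 0) (nat_lit 0) (nat_lit 2) (nat_lit 0) (nat_lit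 0) (nat_lit 1) (nat_lit 1) (nat_lit 0) (nat_lit 1) (nat_lit 0) (nat_lit 1) (nat_lit 0x20000000000000002000000000000000200000000000000020000000000000002000000000000000200000000000000020000000000000002) (.cD (nat_lit 1) (.kS (nat_lit 0) (nat_lit 0x8010020040001001) (nat_lit 4184) (nat_lit 0x8004002009) (nat_lit 0x10008020058001002008010020040004002002)) (.cD (nat_lit 65) (.kS (nat_lit 0) (nat_lit 0x8010020040001001) (nat_lit 4184) (nat_lit 0x8004002009) (nat_lit 0x10008020058011002008010020040004002002)) (.cD (nat_lit 129) (.kS (nat_lit 0) (nat_lit 0x8010020040001001) (nat_lit 4184) (nat_lit 0x8004002009) (nat_lit 0x10008020058021002008010020040004002002)) (.cD (nat_lit 193) (.kS (nat_lit 0) (nat_lit 0x8010020040001001) (nat_lit 4184) (nat_lit 0x8004002009) (nat_lit 0x10008020058031002008010020040004002002)) (.cD (nat_lit 257) (.kS (nat_lit 0) (nat_lit 0x8010020040001001) (nat_lit 0x1058194) (nat_lit 0x8004002009010008004006011) (nat_lit 0x1000802005800902a002008010020040004002002002)) (.cD (nat_lit 321)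 (.kS (nat_lit 0) (nat_lit 0x8010020040001001) (nat_lit 0x1058194) (nat_lit 0x8004002009010008004006011) (nat_lit 0x1000802005801902a002008010020040004002002002)) (.cD (nat_lit 385) (.kS (nat_lit 0) (nat_lit 0x8010020040001001) (nat_lit 4184) (nat_lit 0x8004002009) (nat_lit 0x10008020058029002008010020040004002002)) (.cD (nat_lit 449) (.kS (nat_lit 0) (nat_lit 0x8010020040001001) (nat_lit 4184) (nat_lit 0x8004002009) (nat_lit 0x10008020058039002008010020040004002002)) .nil))))))))) (.cD (nat_lit 468) (.dfs (nat_lit 24) (nat_lit 0x100800401002c) (nat_lit 0x1008004010024) (nat_lit 0x1020002001) (nat_lit 0x1028002009) (nat_lit 0) (nat_lit 0) (nat_lit 2) (nat_lit 0) (nat_lit 0) (nat_lit 1) (nat_lit 1) (nat_lit 0) (nat_lit 1) (nat_lit 0) (nat_lit 1) (nat_lit 0x20000000000000002000000000000000200000000000000020000000000000002000000000000000200000000000000020000000000000002) (.cD (nat_lit 1) (.kS (nat_lit 0) (nat_lit 0x8010020040001001) (nat_lit 4184) (nat_lit 0x8004002009) (nat_lit 0x10008020058001002008010020040004002002))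 (.cD (nat_lit 65) (.kS (nat_lit 0) (nat_lit 0x8010020040001001) (nat_lit 4184) (nat_lit 0x8004002009) (nat_lit 0x10008020058011002008010020040004002002)) (.cD (nat_lit 129) (.kS (nat_lit 0) (nat_lit 0x8010020040001001) (nat_lit 4184) (nat_lit 0x8004002009) (nat_lit 0x10008020058021002008010020040004002002)) (.cD (nat_lit 193) (.kS (nat_lit 0) (nat_lit 0x8010020040001001) (nat_lit 4184) (nat_lit 0x8004002009) (nat_lit 0x10008020058031002008010020040004002002)) (.cD (nat_lit 257) (.kS (nat_lit 0) (nat_lit 0x20020000018010020040001020020000003) (nat_lit 0x1001094) (nat_lit 0x8004002009010008004006011) (nat_lit 0x1001802004800903a00102002000000801002004000400200102002000001801002004000d012002020020000006)) (.cD (nat_lit 321) (.kS (nat_lit 0) (nat_lit 0x8010020040001001) (nat_lit 0x10581d4) (nat_lit 0x8004002009010008004006011) (nat_lit 0x1000802005801903a002008010020040004002002002)) (.cD (nat_lit 385) (.kS (nat_lit 0) (nat_lit 0x8010020040001001) (nat_lit 4184) (nat_lit 0x8004002009) (nat_lit 0x10008020058029002008010020040004002002))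 (.cD (nat_lit 449) (.kS (nat_lit 0) (nat_lit 0x8010020040001001) (nat_lit 4184) (nat_lit 0x8004002009) (nat_lit 0x10008020058039002008010020040004002002)) .nil))))))))) .nil)))))))))
theorem c34 : (chk [(x18, s32)] [g42] p34).n x18 s34 = true := by decide +kernel
noncomputable def p35 : Pf := (.ext (nat_lit 0) (nat_lit 0) (nat_lit 0x1200080100040) (nat_lit 0x120080040060012ea006000002) (nat_lit 0x200100400b) (nat_lit 0x1018014001) (nat_lit 0x1001014018) (nat_lit 0xa00400200100c004002001009004002001) (.dfs (nat_lit 1) (nat_lit 0x100200100400b) (nat_lit 0x100200100400a) (nat_lit 4104) (nat_lit 4105) (nat_lit 0) (nat_lit 0) (nat_lit 2) (nat_lit 0) (nat_lit 0) (nat_lit 24) (nat_lit 1) (nat_lit 0) (nat_lit 4608) (nat_lit 512) (nat_lit 0x10000180000580000980000d8) (nat_lit 0x1000000000000000100000000000000010000000000000001000000) (.cD (nat_lit 24) (.dfs (nat_lit 20) (nat_lit 0x1004002008016) (nat_lit 0x100400200801e) (nat_lit 0x1010001) (nat_lit 0x1018003) (nat_lit 8) (nat_lit 0) (nat_lit 2) (nat_lit 0)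 (nat_lit 0) (nat_lit 20) (nat_lit 1) (nat_lit 0) (nat_lit 1) (nat_lit 0) (nat_lit 1) (nat_lit 0x1000000000000000100000000000000010000000000000001000000000000000100000000000000010000000000000001000000000000000100000) (.cD (nat_lit 20) (.dfs (nat_lit 24) (nat_lit 0x100800401002c) (nat_lit 0x1008004010024) (nat_lit 0x1020002001) (nat_lit 0x1028002009) (nat_lit 0) (nat_lit 0) (nat_lit 2) (nat_lit 0) (nat_lit 0) (nat_lit 1) (nat_lit 1) (nat_lit 0) (nat_lit 1) (nat_lit 0) (nat_lit 1) (nat_lit 0x20000000000000002000000000000000200000000000000020000000000000002000000000000000200000000000000020000000000000002) (.cD (nat_lit 1) (.kS (nat_lit 0) (nat_lit 0x8010020040001001) (nat_lit 4948) (nat_lit 0x8004002003) (nat_lit 0x3a602a000004006008010001004008010020040042002003)) (.cD (nat_lit 65) (.kS (nat_lit 0) (nat_lit 0x8010020040001001) (nat_lit 0x1018014) (nat_lit 0x8004002009010008004006011) (nat_lit 0x10008020058011002002008010020040004002002002)) (.cD (nat_lit 129) (.kS (nat_lit 0) (nat_lit 0x8010020040001001)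 (nat_lit 4120) (nat_lit 0x8004002009) (nat_lit 0x10008020058021002008010020040004002002)) (.cD (nat_lit 193) (.kS (nat_lit 0) (nat_lit 0x8010020040001001) (nat_lit 4120) (nat_lit 0x8004002009) (nat_lit 0x10008020058031002008010020040004002002)) (.cD (nat_lit 257) (.kS (nat_lit 0) (nat_lit 0x8010020040001001) (nat_lit 4120) (nat_lit 0x8004002009) (nat_lit 0x10008020058009002008010020040004002002)) (.cD (nat_lit 321) (.kS (nat_lit 0) (nat_lit 0x8010020040001001) (nat_lit 4120) (nat_lit 0x8004002009) (nat_lit 0x10008020058019002008010020040004002002)) (.cD (nat_lit 385) (.kS (nat_lit 0) (nat_lit 0x8010020040001001) (nat_lit 4120) (nat_lit 0x8004002009) (nat_lit 0x10008020058029002008010020040004002002)) (.cD (nat_lit 449) (.kS (nat_lit 0) (nat_lit 0x8010020040001001) (nat_lit 4120) (nat_lit 0x8004002009) (nat_lit 0x10008020058039002008010020040004002002)) .nil))))))))) (.cD (nat_lit 84) (.dfs (nat_lit 24) (nat_lit 0x100800401002c) (nat_lit 0x1008004010024) (nat_lit 0x1020002001) (nat_lit 0x1028002009)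 (nat_lit 0) (nat_lit 0) (nat_lit 2) (nat_lit 0) (nat_lit 0) (nat_lit 1) (nat_lit 1) (nat_lit 0) (nat_lit 1) (nat_lit 0) (nat_lit 1) (nat_lit 0x20000000000000002000000000000000200000000000000020000000000000002000000000000000200000000000000020000000000000002) (.cD (nat_lit 1) (.kS (nat_lit 0) (nat_lit 0x8010020040001001) (nat_lit 0x1018054) (nat_lit 0x8004002009010008004006011) (nat_lit 0x10008020058001012002008010020040004002002002)) (.cD (nat_lit 65) (.kS (nat_lit 0) (nat_lit 0x8010020040001001) (nat_lit 0x1018054) (nat_lit 0x8004002009010008004006011) (nat_lit 0x10008020058011012002008010020040004002002002)) (.cD (nat_lit 129) (.kS (nat_lit 0) (nat_lit 0x8010020040001001) (nat_lit 4120) (nat_lit 0x8004002009) (nat_lit 0x10008020058021002008010020040004002002)) (.cD (nat_lit 193) (.kS (nat_lit 0) (nat_lit 0x8010020040001001) (nat_lit 4120) (nat_lit 0x8004002009) (nat_lit 0x10008020058031002008010020040004002002)) (.cD (nat_lit 257) (.kS (nat_lit 0) (nat_lit 0x8010020040001001) (nat_lit 4120) (nat_lit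 0x8004002009) (nat_lit 0x10008020058009002008010020040004002002)) (.cD (nat_lit 321) (.kS (nat_lit 0) (nat_lit 0x8010020040001001) (nat_lit 4120) (nat_lit 0x8004002009) (nat_lit 0x10008020058019002008010020040004002002)) (.cD (nat_lit 385) (.kS (nat_lit 0) (nat_lit 0x8010020040001001) (nat_lit 4120) (nat_lit 0x8004002009) (nat_lit 0x10008020058029002008010020040004002002)) (.cD (nat_lit 449) (.kS (nat_lit 0) (nat_lit 0x8010020040001001) (nat_lit 4120) (nat_lit 0x8004002009) (nat_lit 0x10008020058039002008010020040004002002)) .nil))))))))) (.cD (nat_lit 148) (.dfs (nat_lit 24) (nat_lit 0x100800401002c) (nat_lit 0x1008004010024) (nat_lit 0x1020002001) (nat_lit 0x1028002009) (nat_lit 0) (nat_lit 0) (nat_lit 2) (nat_lit 0) (nat_lit 0) (nat_lit 1) (nat_lit 1) (nat_lit 0) (nat_lit 1) (nat_lit 0) (nat_lit 1) (nat_lit 0x20000000000000002000000000000000200000000000000020000000000000002000000000000000200000000000000020000000000000002) (.cD (nat_lit 1) (.kS (nat_lit 0) (nat_lit 0x20020000018010020040001020020000003)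 (nat_lit 0x10410d4) (nat_lit 0x8004002009010008004006011) (nat_lit 0x1001802004801103200102002000000801002004000400200102002000001801002004000d012002020020000006)) (.cD (nat_lit 65) (.kS (nat_lit 0) (nat_lit 0x8010020040001001) (nat_lit 0x1018094) (nat_lit 0x8004002009010008004006011) (nat_lit 0x10008020058011022002008010020040004002002002)) (.cD (nat_lit 129) (.kS (nat_lit 0) (nat_lit 0x8010020040001001) (nat_lit 4120) (nat_lit 0x8004002009) (nat_lit 0x10008020058021002008010020040004002002)) (.cD (nat_lit 193) (.kS (nat_lit 0) (nat_lit 0x8010020040001001) (nat_lit 4120) (nat_lit 0x8004002009) (nat_lit 0x10008020058031002008010020040004002002)) (.cD (nat_lit 257) (.kS (nat_lit 0) (nat_lit 0x8010020040001001) (nat_lit 4120) (nat_lit 0x8004002009) (nat_lit 0x10008020058009002008010020040004002002)) (.cD (nat_lit 321) (.kS (nat_lit 0) (nat_lit 0x8010020040001001) (nat_lit 4120) (nat_lit 0x8004002009) (nat_lit 0x10008020058019002008010020040004002002)) (.cD (nat_lit 385) (.kS (nat_lit 0) (nat_lit 0x8010020040001001)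 (nat_lit 4120) (nat_lit 0x8004002009) (nat_lit 0x10008020058029002008010020040004002002)) (.cD (nat_lit 449) (.kS (nat_lit 0) (nat_lit 0x8010020040001001) (nat_lit 4120) (nat_lit 0x8004002009) (nat_lit 0x10008020058039002008010020040004002002)) .nil))))))))) (.cD (nat_lit 212) (.dfs (nat_lit 24) (nat_lit 0x100800401002c) (nat_lit 0x1008004010024) (nat_lit 0x1020002001) (nat_lit 0x1028002009) (nat_lit 0) (nat_lit 0) (nat_lit 2) (nat_lit 0) (nat_lit 0) (nat_lit 1) (nat_lit 1) (nat_lit 0) (nat_lit 1) (nat_lit 0) (nat_lit 1) (nat_lit 0x20000000000000002000000000000000200000000000000020000000000000002000000000000000200000000000000020000000000000002) (.cD (nat_lit 1) (.kS (nat_lit 0) (nat_lit 0x8010020040001001) (nat_lit 0x10180d4) (nat_lit 0x8004002009010008004006011) (nat_lit 0x10008020058001032002008010020040004002002002)) (.cD (nat_lit 65) (.kS (nat_lit 0) (nat_lit 0x8010020040001001) (nat_lit 0x10180d4) (nat_lit 0x8004002009010008004006011) (nat_lit 0x10008020058011032002008010020040004002002002)) (.cD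 (nat_lit 129) (.kS (nat_lit 0) (nat_lit 0x8010020040001001) (nat_lit 4120) (nat_lit 0x8004002009) (nat_lit 0x10008020058021002008010020040004002002)) (.cD (nat_lit 193) (.kS (nat_lit 0) (nat_lit 0x8010020040001001) (nat_lit 4120) (nat_lit 0x8004002009) (nat_lit 0x10008020058031002008010020040004002002)) (.cD (nat_lit 257) (.kS (nat_lit 0) (nat_lit 0x8010020040001001) (nat_lit 4120) (nat_lit 0x8004002009) (nat_lit 0x10008020058009002008010020040004002002)) (.cD (nat_lit 321) (.kS (nat_lit 0) (nat_lit 0x8010020040001001) (nat_lit 4120) (nat_lit 0x8004002009) (nat_lit 0x10008020058019002008010020040004002002)) (.cD (nat_lit 385) (.kS (nat_lit 0) (nat_lit 0x8010020040001001) (nat_lit 4120) (nat_lit 0x8004002009) (nat_lit 0x10008020058029002008010020040004002002)) (.cD (nat_lit 449) (.kS (nat_lit 0) (nat_lit 0x8010020040001001) (nat_lit 4120) (nat_lit 0x8004002009) (nat_lit 0x10008020058039002008010020040004002002)) .nil))))))))) (.cD (nat_lit 276) (.dfs (nat_lit 24) (nat_lit 0x100800401002c) (nat_lit 0x1008004010024)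 (nat_lit 0x1020002001) (nat_lit 0x1028002009) (nat_lit 0) (nat_lit 0) (nat_lit 2) (nat_lit 0) (nat_lit 0) (nat_lit 1) (nat_lit 1) (nat_lit 0) (nat_lit 1) (nat_lit 0) (nat_lit 1) (nat_lit 0x20000000000000002000000000000000200000000000000020000000000000002000000000000000200000000000000020000000000000002) (.cD (nat_lit 1) (.kS (nat_lit 0) (nat_lit 0x8010020040001001) (nat_lit 0x1018114) (nat_lit 0x8004002009010008004006011) (nat_lit 0x1000802005800100a002008010020040004002002002)) (.cD (nat_lit 65) (.kS (nat_lit 0) (nat_lit 0x8010020040001001) (nat_lit 0x1018114) (nat_lit 0x8004002009010008004006011) (nat_lit 0x1000802005801100a002008010020040004002002002)) (.cD (nat_lit 129) (.kS (nat_lit 0) (nat_lit 0x8010020040001001) (nat_lit 4120) (nat_lit 0x8004002009) (nat_lit 0x10008020058021002008010020040004002002)) (.cD (nat_lit 193) (.kS (nat_lit 0) (nat_lit 0x8010020040001001) (nat_lit 4120) (nat_lit 0x8004002009) (nat_lit 0x10008020058031002008010020040004002002)) (.cD (nat_lit 257) (.kS (nat_lit 0) (nat_lit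 0x8010020040001001) (nat_lit 4120) (nat_lit 0x8004002009) (nat_lit 0x10008020058009002008010020040004002002)) (.cD (nat_lit 321) (.kS (nat_lit 0) (nat_lit 0x8010020040001001) (nat_lit 4120) (nat_lit 0x8004002009) (nat_lit 0x10008020058019002008010020040004002002)) (.cD (nat_lit 385) (.kS (nat_lit 0) (nat_lit 0x8010020040001001) (nat_lit 4120) (nat_lit 0x8004002009) (nat_lit 0x10008020058029002008010020040004002002)) (.cD (nat_lit 449) (.kS (nat_lit 0) (nat_lit 0x8010020040001001) (nat_lit 4120) (nat_lit 0x8004002009) (nat_lit 0x10008020058039002008010020040004002002)) .nil))))))))) (.cD (nat_lit 340) (.dfs (nat_lit 24) (nat_lit 0x100800401002c) (nat_lit 0x1008004010024) (nat_lit 0x1020002001) (nat_lit 0x1028002009) (nat_lit 0) (nat_lit 0) (nat_lit 2) (nat_lit 0) (nat_lit 0) (nat_lit 1) (nat_lit 1) (nat_lit 0) (nat_lit 1) (nat_lit 0) (nat_lit 1) (nat_lit 0x20000000000000002000000000000000200000000000000020000000000000002000000000000000200000000000000020000000000000002) (.cD (nat_lit 1) (.cut (nat_lit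 0)) (.cD (nat_lit 65) (.kS (nat_lit 0) (nat_lit 0x8010020040001001) (nat_lit 0x1018154) (nat_lit 0x8004002009010008004006011) (nat_lit 0x1000802005801101a002008010020040004002002002)) (.cD (nat_lit 129) (.kS (nat_lit 0) (nat_lit 0x8010020040001001) (nat_lit 4120) (nat_lit 0x8004002009) (nat_lit 0x10008020058021002008010020040004002002)) (.cD (nat_lit 193) (.kS (nat_lit 0) (nat_lit 0x8010020040001001) (nat_lit 4120) (nat_lit 0x8004002009) (nat_lit 0x10008020058031002008010020040004002002)) (.cD (nat_lit 257) (.kS (nat_lit 0) (nat_lit 0x8010020040001001) (nat_lit 4120) (nat_lit 0x8004002009) (nat_lit 0x10008020058009002008010020040004002002)) (.cD (nat_lit 321) (.kS (nat_lit 0) (nat_lit 0x8010020040001001) (nat_lit 4120) (nat_lit 0x8004002009) (nat_lit 0x10008020058019002008010020040004002002)) (.cD (nat_lit 385) (.kS (nat_lit 0) (nat_lit 0x8010020040001001) (nat_lit 4120) (nat_lit 0x8004002009) (nat_lit 0x10008020058029002008010020040004002002)) (.cD (nat_lit 449) (.kS (nat_lit 0) (nat_lit 0x8010020040001001)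 (nat_lit 4120) (nat_lit 0x8004002009) (nat_lit 0x10008020058039002008010020040004002002)) .nil))))))))) (.cD (nat_lit 404) (.dfs (nat_lit 24) (nat_lit 0x100800401002c) (nat_lit 0x1008004010024) (nat_lit 0x1020002001) (nat_lit 0x1028002009) (nat_lit 0) (nat_lit 0) (nat_lit 2) (nat_lit 0) (nat_lit 0) (nat_lit 1) (nat_lit 1) (nat_lit 0) (nat_lit 1) (nat_lit 0) (nat_lit 1) (nat_lit 0x20000000000000002000000000000000200000000000000020000000000000002000000000000000200000000000000020000000000000002) (.cD (nat_lit 1) (.kS (nat_lit 0) (nat_lit 0x8010020040001001) (nat_lit 0x1018194) (nat_lit 0x8004002009010008004006011) (nat_lit 0x1000802005800102a002008010020040004002002002)) (.cD (nat_lit 65) (.kS (nat_lit 0) (nat_lit 0x8010020040001001) (nat_lit 0x1018194) (nat_lit 0x8004002009010008004006011) (nat_lit 0x1000802005801102a002008010020040004002002002)) (.cD (nat_lit 129) (.kS (nat_lit 0) (nat_lit 0x8010020040001001) (nat_lit 4120) (nat_lit 0x8004002009) (nat_lit 0x10008020058021002008010020040004002002)) (.cD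 (nat_lit 193) (.kS (nat_lit 0) (nat_lit 0x8010020040001001) (nat_lit 4120) (nat_lit 0x8004002009) (nat_lit 0x10008020058031002008010020040004002002)) (.cD (nat_lit 257) (.kS (nat_lit 0) (nat_lit 0x8010020040001001) (nat_lit 4120) (nat_lit 0x8004002009) (nat_lit 0x10008020058009002008010020040004002002)) (.cD (nat_lit 321) (.kS (nat_lit 0) (nat_lit 0x8010020040001001) (nat_lit 4120) (nat_lit 0x8004002009) (nat_lit 0x10008020058019002008010020040004002002)) (.cD (nat_lit 385) (.kS (nat_lit 0) (nat_lit 0x8010020040001001) (nat_lit 4120) (nat_lit 0x8004002009) (nat_lit 0x10008020058029002008010020040004002002)) (.cD (nat_lit 449) (.kS (nat_lit 0) (nat_lit 0x8010020040001001) (nat_lit 4120) (nat_lit 0x8004002009) (nat_lit 0x10008020058039002008010020040004002002)) .nil))))))))) (.cD (nat_lit 468) (.dfs (nat_lit 24) (nat_lit 0x100800401002c) (nat_lit 0x1008004010024) (nat_lit 0x1020002001) (nat_lit 0x1028002009) (nat_lit 0) (nat_lit 0) (nat_lit 2) (nat_lit 0) (nat_lit 0) (nat_lit 1) (nat_lit 1) (nat_lit 0)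 (nat_lit 1) (nat_lit 0) (nat_lit 1) (nat_lit 0x20000000000000002000000000000000200000000000000020000000000000002000000000000000200000000000000020000000000000002) (.cD (nat_lit 1) (.kS (nat_lit 0) (nat_lit 0x20020000018010020040001020020000003) (nat_lit 0x1041094) (nat_lit 0x8004002009010008004006011) (nat_lit 0x1001802004801103a00102002000000801002004000400200102002000001801002004000d012002020020000006)) (.cD (nat_lit 65) (.kS (nat_lit 0) (nat_lit 0x8010020040001001) (nat_lit 0x10181d4) (nat_lit 0x8004002009010008004006011) (nat_lit 0x1000802005801103a002008010020040004002002002)) (.cD (nat_lit 129) (.kS (nat_lit 0) (nat_lit 0x8010020040001001) (nat_lit 4120) (nat_lit 0x8004002009) (nat_lit 0x10008020058021002008010020040004002002)) (.cD (nat_lit 193) (.kS (nat_lit 0) (nat_lit 0x8010020040001001) (nat_lit 4120) (nat_lit 0x8004002009) (nat_lit 0x10008020058031002008010020040004002002)) (.cD (nat_lit 257) (.kS (nat_lit 0) (nat_lit 0x8010020040001001) (nat_lit 4120) (nat_lit 0x8004002009) (nat_lit 0x10008020058009002008010020040004002002))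 (.cD (nat_lit 321) (.kS (nat_lit 0) (nat_lit 0x8010020040001001) (nat_lit 4120) (nat_lit 0x8004002009) (nat_lit 0x10008020058019002008010020040004002002)) (.cD (nat_lit 385) (.kS (nat_lit 0) (nat_lit 0x8010020040001001) (nat_lit 4120) (nat_lit 0x8004002009) (nat_lit 0x10008020058029002008010020040004002002)) (.cD (nat_lit 449) (.kS (nat_lit 0) (nat_lit 0x8010020040001001) (nat_lit 4120) (nat_lit 0x8004002009) (nat_lit 0x10008020058039002008010020040004002002)) .nil))))))))) .nil))))))))) (.cD (nat_lit 88) (.cut (nat_lit 2)) (.cD (nat_lit 152) (.cut (nat_lit 1)) (.cD (nat_lit 216) (.dfs (nat_lit 20) (nat_lit 0x1004002008016) (nat_lit 0x100400200801e) (nat_lit 0x1010001) (nat_lit 0x1018003) (nat_lit 8) (nat_lit 0) (nat_lit 2) (nat_lit 0) (nat_lit 0) (nat_lit 20) (nat_lit 1) (nat_lit 0) (nat_lit 1) (nat_lit 0) (nat_lit 1) (nat_lit 0x1000000000000000100000000000000010000000000000001000000000000000100000000000000010000000000000001000000000000000100000) (.cD (nat_lit 20) (.dfs (nat_lit 24) (nat_lit 0x100800401002c)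 (nat_lit 0x1008004010024) (nat_lit 0x1020002001) (nat_lit 0x1028002009) (nat_lit 0) (nat_lit 0) (nat_lit 2) (nat_lit 0) (nat_lit 0) (nat_lit 1) (nat_lit 1) (nat_lit 0) (nat_lit 1) (nat_lit 0) (nat_lit 1) (nat_lit 0x20000000000000002000000000000000200000000000000020000000000000002000000000000000200000000000000020000000000000002) (.cD (nat_lit 1) (.kS (nat_lit 0) (nat_lit 0x8010020040001001) (nat_lit 4312) (nat_lit 0x8004002009) (nat_lit 0x10008020058001002008010020040004002002)) (.cD (nat_lit 65) (.kS (nat_lit 0) (nat_lit 0x8010020040001001) (nat_lit 4312) (nat_lit 0x8004002009) (nat_lit 0x10008020058011002008010020040004002002)) (.cD (nat_lit 129) (.kS (nat_lit 0) (nat_lit 0x8010020040001001) (nat_lit 4312) (nat_lit 0x8004002009) (nat_lit 0x10008020058021002008010020040004002002)) (.cD (nat_lit 193) (.kS (nat_lit 0) (nat_lit 0x8010020040001001) (nat_lit 4312) (nat_lit 0x8004002009) (nat_lit 0x10008020058031002008010020040004002002)) (.cD (nat_lit 257) (.kS (nat_lit 0) (nat_lit 0x8010020040001001) (nat_lit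 4312) (nat_lit 0x8004002009) (nat_lit 0x10008020058009002008010020040004002002)) (.cD (nat_lit 321) (.kS (nat_lit 0) (nat_lit 0x8010020040001001) (nat_lit 4312) (nat_lit 0x8004002009) (nat_lit 0x10008020058019002008010020040004002002)) (.cD (nat_lit 385) (.kS (nat_lit 0) (nat_lit 0x8010020040001001) (nat_lit 4948) (nat_lit 0x8004002003) (nat_lit 0x3a602a000004006008010001004008010020040042002003)) (.cD (nat_lit 449) (.kS (nat_lit 0) (nat_lit 0x8010020040001001) (nat_lit 0x10d8014) (nat_lit 0x8004002009010008004006011) (nat_lit 0x10008020058039002002008010020040004002002002)) .nil))))))))) (.cD (nat_lit 84) (.dfs (nat_lit 24) (nat_lit 0x100800401002c) (nat_lit 0x1008004010024) (nat_lit 0x1020002001) (nat_lit 0x1028002009) (nat_lit 0) (nat_lit 0) (nat_lit 2) (nat_lit 0) (nat_lit 0) (nat_lit 1) (nat_lit 1) (nat_lit 0) (nat_lit 1) (nat_lit 0) (nat_lit 1) (nat_lit 0x20000000000000002000000000000000200000000000000020000000000000002000000000000000200000000000000020000000000000002) (.cD (nat_lit 1) (.kS (nat_lit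 0) (nat_lit 0x8010020040001001) (nat_lit 4312) (nat_lit 0x8004002009) (nat_lit 0x10008020058001002008010020040004002002)) (.cD (nat_lit 65) (.kS (nat_lit 0) (nat_lit 0x8010020040001001) (nat_lit 4312) (nat_lit 0x8004002009) (nat_lit 0x10008020058011002008010020040004002002)) (.cD (nat_lit 129) (.kS (nat_lit 0) (nat_lit 0x8010020040001001) (nat_lit 4312) (nat_lit 0x8004002009) (nat_lit 0x10008020058021002008010020040004002002)) (.cD (nat_lit 193) (.kS (nat_lit 0) (nat_lit 0x8010020040001001) (nat_lit 4312) (nat_lit 0x8004002009) (nat_lit 0x10008020058031002008010020040004002002)) (.cD (nat_lit 257) (.kS (nat_lit 0) (nat_lit 0x8010020040001001) (nat_lit 4312) (nat_lit 0x8004002009) (nat_lit 0x10008020058009002008010020040004002002)) (.cD (nat_lit 321) (.kS (nat_lit 0) (nat_lit 0x8010020040001001) (nat_lit 4312) (nat_lit 0x8004002009) (nat_lit 0x10008020058019002008010020040004002002)) (.cD (nat_lit 385) (.kS (nat_lit 0) (nat_lit 0x8010020040001001) (nat_lit 0x10d8054) (nat_lit 0x8004002009010008004006011)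 (nat_lit 0x10008020058029012002008010020040004002002002)) (.cD (nat_lit 449) (.kS (nat_lit 0) (nat_lit 0x8010020040001001) (nat_lit 0x10d8054) (nat_lit 0x8004002009010008004006011) (nat_lit 0x10008020058039012002008010020040004002002002)) .nil))))))))) (.cD (nat_lit 148) (.dfs (nat_lit 24) (nat_lit 0x100800401002c) (nat_lit 0x1008004010024) (nat_lit 0x1020002001) (nat_lit 0x1028002009) (nat_lit 0) (nat_lit 0) (nat_lit 2) (nat_lit 0) (nat_lit 0) (nat_lit 1) (nat_lit 1) (nat_lit 0) (nat_lit 1) (nat_lit 0) (nat_lit 1) (nat_lit 0x20000000000000002000000000000000200000000000000020000000000000002000000000000000200000000000000020000000000000002) (.cD (nat_lit 1) (.kS (nat_lit 0) (nat_lit 0x8010020040001001) (nat_lit 4312) (nat_lit 0x8004002009) (nat_lit 0x10008020058001002008010020040004002002)) (.cD (nat_lit 65) (.kS (nat_lit 0) (nat_lit 0x8010020040001001) (nat_lit 4312) (nat_lit 0x8004002009) (nat_lit 0x10008020058011002008010020040004002002)) (.cD (nat_lit 129) (.kS (nat_lit 0) (nat_lit 0x8010020040001001)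 (nat_lit 4312) (nat_lit 0x8004002009) (nat_lit 0x10008020058021002008010020040004002002)) (.cD (nat_lit 193) (.kS (nat_lit 0) (nat_lit 0x8010020040001001) (nat_lit 4312) (nat_lit 0x8004002009) (nat_lit 0x10008020058031002008010020040004002002)) (.cD (nat_lit 257) (.kS (nat_lit 0) (nat_lit 0x8010020040001001) (nat_lit 4312) (nat_lit 0x8004002009) (nat_lit 0x10008020058009002008010020040004002002)) (.cD (nat_lit 321) (.kS (nat_lit 0) (nat_lit 0x8010020040001001) (nat_lit 4312) (nat_lit 0x8004002009) (nat_lit 0x10008020058019002008010020040004002002)) (.cD (nat_lit 385) (.kS (nat_lit 0) (nat_lit 0x20020000018010020040001020020000003) (nat_lit 0x10010d4) (nat_lit 0x8004002009010008004006011) (nat_lit 0x1001802004802903200102002000000801002004000400200102002000001801002004000d012002020020000006)) (.cD (nat_lit 449) (.kS (nat_lit 0) (nat_lit 0x8010020040001001) (nat_lit 0x10d8094) (nat_lit 0x8004002009010008004006011) (nat_lit 0x10008020058039022002008010020040004002002002)) .nil))))))))) (.cD (nat_lit 212)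 (.dfs (nat_lit 24) (nat_lit 0x100800401002c) (nat_lit 0x1008004010024) (nat_lit 0x1020002001) (nat_lit 0x1028002009) (nat_lit 0) (nat_lit 0) (nat_lit 2) (nat_lit 0) (nat_lit 0) (nat_lit 1) (nat_lit 1) (nat_lit 0) (nat_lit 1) (nat_lit 0) (nat_lit 1) (nat_lit 0x20000000000000002000000000000000200000000000000020000000000000002000000000000000200000000000000020000000000000002) (.cD (nat_lit 1) (.kS (nat_lit 0) (nat_lit 0x8010020040001001) (nat_lit 4312) (nat_lit 0x8004002009) (nat_lit 0x10008020058001002008010020040004002002)) (.cD (nat_lit 65) (.kS (nat_lit 0) (nat_lit 0x8010020040001001) (nat_lit 4312) (nat_lit 0x8004002009) (nat_lit 0x10008020058011002008010020040004002002)) (.cD (nat_lit 129) (.kS (nat_lit 0) (nat_lit 0x8010020040001001) (nat_lit 4312) (nat_lit 0x8004002009) (nat_lit 0x10008020058021002008010020040004002002)) (.cD (nat_lit 193) (.kS (nat_lit 0) (nat_lit 0x8010020040001001) (nat_lit 4312) (nat_lit 0x8004002009) (nat_lit 0x10008020058031002008010020040004002002)) (.cD (nat_lit 257) (.kS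 (nat_lit 0) (nat_lit 0x8010020040001001) (nat_lit 4312) (nat_lit 0x8004002009) (nat_lit 0x10008020058009002008010020040004002002)) (.cD (nat_lit 321) (.kS (nat_lit 0) (nat_lit 0x8010020040001001) (nat_lit 4312) (nat_lit 0x8004002009) (nat_lit 0x10008020058019002008010020040004002002)) (.cD (nat_lit 385) (.kS (nat_lit 0) (nat_lit 0x8010020040001001) (nat_lit 0x10d80d4) (nat_lit 0x8004002009010008004006011) (nat_lit 0x10008020058029032002008010020040004002002002)) (.cD (nat_lit 449) (.kS (nat_lit 0) (nat_lit 0x8010020040001001) (nat_lit 0x10d80d4) (nat_lit 0x8004002009010008004006011) (nat_lit 0x10008020058039032002008010020040004002002002)) .nil))))))))) (.cD (nat_lit 276) (.dfs (nat_lit 24) (nat_lit 0x100800401002c) (nat_lit 0x1008004010024) (nat_lit 0x1020002001) (nat_lit 0x1028002009) (nat_lit 0) (nat_lit 0) (nat_lit 2) (nat_lit 0) (nat_lit 0) (nat_lit 1) (nat_lit 1) (nat_lit 0) (nat_lit 1) (nat_lit 0) (nat_lit 1) (nat_lit 0x20000000000000002000000000000000200000000000000020000000000000002000000000000000200000000000000020000000000000002)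 (.cD (nat_lit 1) (.kS (nat_lit 0) (nat_lit 0x8010020040001001) (nat_lit 4312) (nat_lit 0x8004002009) (nat_lit 0x10008020058001002008010020040004002002)) (.cD (nat_lit 65) (.kS (nat_lit 0) (nat_lit 0x8010020040001001) (nat_lit 4312) (nat_lit 0x8004002009) (nat_lit 0x10008020058011002008010020040004002002)) (.cD (nat_lit 129) (.kS (nat_lit 0) (nat_lit 0x8010020040001001) (nat_lit 4312) (nat_lit 0x8004002009) (nat_lit 0x10008020058021002008010020040004002002)) (.cD (nat_lit 193) (.kS (nat_lit 0) (nat_lit 0x8010020040001001) (nat_lit 4312) (nat_lit 0x8004002009) (nat_lit 0x10008020058031002008010020040004002002)) (.cD (nat_lit 257) (.kS (nat_lit 0) (nat_lit 0x8010020040001001) (nat_lit 4312) (nat_lit 0x8004002009) (nat_lit 0x10008020058009002008010020040004002002)) (.cD (nat_lit 321) (.kS (nat_lit 0) (nat_lit 0x8010020040001001) (nat_lit 4312) (nat_lit 0x8004002009) (nat_lit 0x10008020058019002008010020040004002002)) (.cD (nat_lit 385) (.kS (nat_lit 0) (nat_lit 0x8010020040001001) (nat_lit 0x10d8114) (nat_lit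 0x8004002009010008004006011) (nat_lit 0x1000802005802900a002008010020040004002002002)) (.cD (nat_lit 449) (.kS (nat_lit 0) (nat_lit 0x8010020040001001) (nat_lit 0x10d8114) (nat_lit 0x8004002009010008004006011) (nat_lit 0x1000802005803900a002008010020040004002002002)) .nil))))))))) (.cD (nat_lit 340) (.dfs (nat_lit 24) (nat_lit 0x100800401002c) (nat_lit 0x1008004010024) (nat_lit 0x1020002001) (nat_lit 0x1028002009) (nat_lit 0) (nat_lit 0) (nat_lit 2) (nat_lit 0) (nat_lit 0) (nat_lit 1) (nat_lit 1) (nat_lit 0) (nat_lit 1) (nat_lit 0) (nat_lit 1) (nat_lit 0x20000000000000002000000000000000200000000000000020000000000000002000000000000000200000000000000020000000000000002) (.cD (nat_lit 1) (.kS (nat_lit 0) (nat_lit 0x8010020040001001) (nat_lit 4312) (nat_lit 0x8004002009) (nat_lit 0x10008020058001002008010020040004002002)) (.cD (nat_lit 65) (.kS (nat_lit 0) (nat_lit 0x8010020040001001) (nat_lit 4312) (nat_lit 0x8004002009) (nat_lit 0x10008020058011002008010020040004002002)) (.cD (nat_lit 129) (.kS (nat_lit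 0) (nat_lit 0x8010020040001001) (nat_lit 4312) (nat_lit 0x8004002009) (nat_lit 0x10008020058021002008010020040004002002)) (.cD (nat_lit 193) (.kS (nat_lit 0) (nat_lit 0x8010020040001001) (nat_lit 4312) (nat_lit 0x8004002009) (nat_lit 0x10008020058031002008010020040004002002)) (.cD (nat_lit 257) (.kS (nat_lit 0) (nat_lit 0x8010020040001001) (nat_lit 4312) (nat_lit 0x8004002009) (nat_lit 0x10008020058009002008010020040004002002)) (.cD (nat_lit 321) (.kS (nat_lit 0) (nat_lit 0x8010020040001001) (nat_lit 4312) (nat_lit 0x8004002009) (nat_lit 0x10008020058019002008010020040004002002)) (.cD (nat_lit 385) (.iso x18 s32 (nat_lit 0) (nat_lit 0x1200100080040020010008004102181) (nat_lit 0x200100080040020010008004102181) [(nat_lit 0x40020010008034002001001001)] (.cut (nat_lit 0))) (.cD (nat_lit 449) (.kS (nat_lit 0) (nat_lit 0x8010020040001001) (nat_lit 0x10d8154) (nat_lit 0x8004002009010008004006011) (nat_lit 0x1000802005803901a002008010020040004002002002)) .nil))))))))) (.cD (nat_lit 404) (.dfs (nat_lit 24) (nat_lit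 0x100800401002c) (nat_lit 0x1008004010024) (nat_lit 0x1020002001) (nat_lit 0x1028002009) (nat_lit 0) (nat_lit 0) (nat_lit 2) (nat_lit 0) (nat_lit 0) (nat_lit 1) (nat_lit 1) (nat_lit 0) (nat_lit 1) (nat_lit 0) (nat_lit 1) (nat_lit 0x20000000000000002000000000000000200000000000000020000000000000002000000000000000200000000000000020000000000000002) (.cD (nat_lit 1) (.kS (nat_lit 0) (nat_lit 0x8010020040001001) (nat_lit 4312) (nat_lit 0x8004002009) (nat_lit 0x10008020058001002008010020040004002002)) (.cD (nat_lit 65) (.kS (nat_lit 0) (nat_lit 0x8010020040001001) (nat_lit 4312) (nat_lit 0x8004002009) (nat_lit 0x10008020058011002008010020040004002002)) (.cD (nat_lit 129) (.kS (nat_lit 0) (nat_lit 0x8010020040001001) (nat_lit 4312) (nat_lit 0x8004002009) (nat_lit 0x10008020058021002008010020040004002002)) (.cD (nat_lit 193) (.kS (nat_lit 0) (nat_lit 0x8010020040001001) (nat_lit 4312) (nat_lit 0x8004002009) (nat_lit 0x10008020058031002008010020040004002002)) (.cD (nat_lit 257) (.kS (nat_lit 0) (nat_lit 0x8010020040001001)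 (nat_lit 4312) (nat_lit 0x8004002009) (nat_lit 0x10008020058009002008010020040004002002)) (.cD (nat_lit 321) (.kS (nat_lit 0) (nat_lit 0x8010020040001001) (nat_lit 4312) (nat_lit 0x8004002009) (nat_lit 0x10008020058019002008010020040004002002)) (.cD (nat_lit 385) (.kS (nat_lit 0) (nat_lit 0x8010020040001001) (nat_lit 0x10d8194) (nat_lit 0x8004002009010008004006011) (nat_lit 0x1000802005802902a002008010020040004002002002)) (.cD (nat_lit 449) (.kS (nat_lit 0) (nat_lit 0x8010020040001001) (nat_lit 0x10d8194) (nat_lit 0x8004002009010008004006011) (nat_lit 0x1000802005803902a002008010020040004002002002)) .nil))))))))) (.cD (nat_lit 468) (.dfs (nat_lit 24) (nat_lit 0x100800401002c) (nat_lit 0x1008004010024) (nat_lit 0x1020002001) (nat_lit 0x1028002009) (nat_lit 0) (nat_lit 0) (nat_lit 2) (nat_lit 0) (nat_lit 0) (nat_lit 1) (nat_lit 1) (nat_lit 0) (nat_lit 1) (nat_lit 0) (nat_lit 1) (nat_lit 0x20000000000000002000000000000000200000000000000020000000000000002000000000000000200000000000000020000000000000002)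 (.cD (nat_lit 1) (.kS (nat_lit 0) (nat_lit 0x8010020040001001) (nat_lit 4312) (nat_lit 0x8004002009) (nat_lit 0x10008020058001002008010020040004002002)) (.cD (nat_lit 65) (.kS (nat_lit 0) (nat_lit 0x8010020040001001) (nat_lit 4312) (nat_lit 0x8004002009) (nat_lit 0x10008020058011002008010020040004002002)) (.cD (nat_lit 129) (.kS (nat_lit 0) (nat_lit 0x8010020040001001) (nat_lit 4312) (nat_lit 0x8004002009) (nat_lit 0x10008020058021002008010020040004002002)) (.cD (nat_lit 193) (.kS (nat_lit 0) (nat_lit 0x8010020040001001) (nat_lit 4312) (nat_lit 0x8004002009) (nat_lit 0x10008020058031002008010020040004002002)) (.cD (nat_lit 257) (.kS (nat_lit 0) (nat_lit 0x8010020040001001) (nat_lit 4312) (nat_lit 0x8004002009) (nat_lit 0x10008020058009002008010020040004002002)) (.cD (nat_lit 321) (.kS (nat_lit 0) (nat_lit 0x8010020040001001) (nat_lit 4312) (nat_lit 0x8004002009) (nat_lit 0x10008020058019002008010020040004002002)) (.cD (nat_lit 385) (.kS (nat_lit 0) (nat_lit 0x20020000018010020040001020020000003) (nat_lit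 0x1001094) (nat_lit 0x8004002009010008004006011) (nat_lit 0x1001802004802903a00102002000000801002004000400200102002000001801002004000d012002020020000006)) (.cD (nat_lit 449) (.kS (nat_lit 0) (nat_lit 0x8010020040001001) (nat_lit 0x10d81d4) (nat_lit 0x8004002009010008004006011) (nat_lit 0x1000802005803903a002008010020040004002002002)) .nil))))))))) .nil))))))))) .nil))))))
theorem c35 : (chk [(x18, s32), (x18, s33), (x18, s34)] [g42] p35).n x18 s35 = true := by decide +kernel
noncomputable def p36 : Pf := (.ext (nat_lit 0) (nat_lit 0) (nat_lit 0x1200080100040) (nat_lit 0x120080040060012ea006000002) (nat_lit 0x200100400b) (nat_lit 4097) (nat_lit 4120) (nat_lit 0x9004002001) (.dfs (nat_lit 1) (nat_lit 0x100200100400b) (nat_lit 0x100200100400a) (nat_lit 4104) (nat_lit 4105) (nat_lit 2) (nat_lit 0) (nat_lit 2) (nat_lit 0) (nat_lit 0) (nat_lit 24) (nat_lit 1) (nat_lit 0) (nat_lit 1) (nat_lit 0) (nat_lit 1) (nat_lit 0) .nil))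
theorem c36 : (chk [] [] p36).n x20 s36 = true := by decide +kernel
noncomputable def p37 : Pf := (.lft (nat_lit 0x10004008002013c071069001002001001) (nat_lit 0) (nat_lit 0x11dc1c019c18015c14011c100) (nat_lit 0x1000800400200101081f419e191) (.extn a31 (nat_lit 0x100080040020010008004002001) (nat_lit 0x1020080040100) (nat_lit 2) (nat_lit 0) (nat_lit 0) (nat_lit 0) (nat_lit 0x100000000000000000000000000000001) (.cE (nat_lit 0) b42 (nat_lit 0) (.cut (nat_lit 0)) .nil (.cE (nat_lit 128) b48 (nat_lit 0) (.cut (nat_lit 1)) .nil .nil))))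
theorem c37 : (chk [(x18, s35), (x20, s36)] [] p37).n x15 s37 = true := by decide +kernel
noncomputable def p38 : Pf := (.ext (nat_lit 0) (nat_lit 0) (nat_lit 0x110004008002000600a00c) (nat_lit 0x40020010008002004001001001) (nat_lit 0x8010020048) (nat_lit 0x1002001) (nat_lit 0x1001002) (nat_lit 0x7003001004f01d06c06602e03001005602d01b07f) (.dfs (nat_lit 1) (nat_lit 0x1008010020048) (nat_lit 0x1056010030078) (nat_lit 0x1040004002001) (nat_lit 0x102e02d01b07f) (nat_lit 31) (nat_lit 0) (nat_lit 2) (nat_lit 0) (nat_lit 0) (nat_lit 2) (nat_lit 1) (nat_lit 0) (nat_lit 4160) (nat_lit 64) (nat_lit 0x1000042) (nat_lit 0x40000000000000000) (.cD (nat_lit 66) (.dfs (nat_lit 2) (nat_lit 0x1010020040090) (nat_lit 0x109e02006007e) (nat_lit 0x1080008004002001) (nat_lit 0x10e003a0d80cc0a5) (nat_lit 60) (nat_lit 0) (nat_lit 2) (nat_lit 0) (nat_lit 0) (nat_lit 1) (nat_lit 1) (nat_lit 0) (nat_lit 1) (nat_lit 0) (nat_lit 1) (nat_lit 0x2000000000000000000000000000000020000000000000000) (.cD (nat_lit 65) (.cut (nat_lit 1))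 (.cD (nat_lit 193) (.cut (nat_lit 0)) .nil))) .nil)))
theorem c38 : (chk [(x15, s30), (x15, s37)] [] p38).n x15 s38 = true := by decide +kernel
noncomputable def p39 : Pf := (.lft (nat_lit 0x8002004001009e039035001001001) (nat_lit 136) (nat_lit 0x10e00c00a0080) (nat_lit 0x800400200100080840fa0cf) (.extn a22 (nat_lit 0x80040020010008004002001) (nat_lit 0x1010040020080) (nat_lit 2) (nat_lit 0) (nat_lit 0) (nat_lit 8) (nat_lit 0x100000000000000010000000000000000000000000000000000) (.cE (nat_lit 136) b30 (nat_lit 0) (.cut (nat_lit 0)) .nil (.cE (nat_lit 200) b41 (nat_lit 0) (.cut (nat_lit 1)) .nil .nil))))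
theorem c39 : (chk [(x9, s27), (x15, s38)] [] p39).n x8 s39 = true := by decide +kernel
noncomputable def p40 : Pf := (.ext (nat_lit 0) (nat_lit 0) (nat_lit 0x1080020040010003005006) (nat_lit 0x1f03001006f0320150460010cf001000040020010008002004001001003) (nat_lit 0x4601003002e) (nat_lit 4097) (nat_lit 4242) (nat_lit 0x7003001004f01d06c066) (.dfs (nat_lit 1) (nat_lit 0x104601003002e) (nat_lit 0x103101002003e) (nat_lit 0x1040020008004002001) (nat_lit 0x107003004f01d06c066) (nat_lit 30) (nat_lit 0) (nat_lit 2) (nat_lit 0) (nat_lit 0) (nat_lit 18) (nat_lit 1) (nat_lit 0) (nat_lit 4128) (nat_lit 32) (nat_lit 0x1000092) (nat_lit 0x4000000000000000000000000000000000000) (.cD (nat_lit 146) (.cut (nat_lit 0)) .nil)))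
theorem c40 : (chk [(x8, s39)] [] p40).n x8 s40 = true := by decide +kernel
noncomputable def p41 : Pf := (.ext (nat_lit 0) (nat_lit 0) (nat_lit 0x1080020040010005) (nat_lit 0x14008006004015003010010000010008006004011004003) (nat_lit 0x2004008012) (nat_lit 0x1006003) (nat_lit 0x100608d) (nat_lit 0x1400800400200501c008004006009) (.dfs (nat_lit 3) (nat_lit 0x1002004008012) (nat_lit 0x100600400801a) (nat_lit 0x1010001) (nat_lit 0x101c009) (nat_lit 4) (nat_lit 0) (nat_lit 2) (nat_lit 0) (nat_lit 0) (nat_lit 13) (nat_lit 1) (nat_lit 0) (nat_lit 4112) (nat_lit 16) (nat_lit 0x100008d0000ad) (nat_lit 0x20000000200000000000000000000000000000000000) (.cD (nat_lit 141) (.kA false (nat_lit 0x1700801802c00702b00801802c0020fa002000003)) (.cD (nat_lit 173) (.dfs (nat_lit 6) (nat_lit 0x1004008010024) (nat_lit 0x100400801002c) (nat_lit 0x1020002001) (nat_lit 0x102800a009) (nat_lit 0) (nat_lit 0) (nat_lit 2) (nat_lit 0) (nat_lit 0) (nat_lit 6) (nat_lit 1) (nat_lit 0) (nat_lit 1) (nat_lit 0) (nat_lit 1) (nat_lit 0x40000000400000004000000040)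 (.cD (nat_lit 6) (.cut (nat_lit 0)) (.cD (nat_lit 38) (.kA false (nat_lit 0x1700801802c00706f0100300500010fa002000003)) (.cD (nat_lit 70) (.kS (nat_lit 0) (nat_lit 0xfa002000008010020040001002) (nat_lit 0x10030bb) (nat_lit 0xc004002007010008004006005) (nat_lit 0x6601003007801207b00306f01003007001b06a0010cf0010000080100200400020040020020fa000005)) (.cD (nat_lit 102) (.kA false (nat_lit 0x1f00801802c00706f0100300500010fa002000003)) .nil))))) .nil))))
theorem c41 : (chk [(x8, s40)] [] p41).n x8 s41 = true := by decide +kernel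
noncomputable def p42 : Pf := (.ext (nat_lit 0) (nat_lit 0x4006008010002001) (nat_lit 0x1080020040010005) (nat_lit 0x1a00800400201700200800800001c008002004011001025005000010008006004011002005) (nat_lit 0x400600801a) (nat_lit 0x1006003) (nat_lit 0x1010003) (nat_lit 0x1400800400200501c008004006009) (.dfs (nat_lit 3) (nat_lit 0x1002004008010) (nat_lit 0x100600400801c) (nat_lit 4097) (nat_lit 4105) (nat_lit 4) (nat_lit 0) (nat_lit 2) (nat_lit 0) (nat_lit 0x2004008010001001) (nat_lit 3) (nat_lit 1) (nat_lit 0) (nat_lit 4134) (nat_lit 38) (nat_lit 0x1000003000023) (nat_lit 0x800000008) (.cD (nat_lit 3) (.dfs (nat_lit 6) (nat_lit 0x1033008018007) (nat_lit 0x103b008018007) (nat_lit 0x1020010004002001) (nat_lit 0x102801000400a009) (nat_lit 0) (nat_lit 0) (nat_lit 2) (nat_lit 1) (nat_lit 0) (nat_lit 16) (nat_lit 1) (nat_lit 0) (nat_lit 1) (nat_lit 0) (nat_lit 1) (nat_lit 0x10000000100000001000000010000) (.cD (nat_lit 16) (.kA false (nat_lit 0x5601003000e00106f0100300700010cf001000003)) (.cD (nat_lit 48) (.cut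 (nat_lit 0)) (.cD (nat_lit 80) (.kA false (nat_lit 0x4601003000e00106f0100300700010cf001000003)) (.cD (nat_lit 112) (.kS (nat_lit 0) (nat_lit 0x6601003003e0020cf001000002) (nat_lit 0x10ad0eb) (nat_lit 0xc004002007010008004006005) (nat_lit 0xcf0010000080100200400020040010010cf00006601003003e01b01d001004)) .nil))))) (.cD (nat_lit 35) (.kA false (nat_lit 0x140080100200020fa00200002300801800f0020cf001000004)) .nil))))
theorem c42 : (chk [(x8, s41)] [] p42).n x8 s42 = true := by decide +kernel
noncomputable def p43 : Pf := (.ext (nat_lit 0) (nat_lit 0) (nat_lit 0x1088020040066) (nat_lit 0x100080040020010010cf0000380180080010040010cf000004) (nat_lit 0x2003004008) (nat_lit 4107) (nat_lit 4101) (nat_lit 0xc004002001) (.dfs (nat_lit 11) (nat_lit 0x1002003004008) (nat_lit 0x100200300400c) (nat_lit 4097) (nat_lit 4097) (nat_lit 0) (nat_lit 0) (nat_lit 2) (nat_lit 0) (nat_lit 0) (nat_lit 5) (nat_lit 1) (nat_lit 0) (nat_lit 4224) (nat_lit 128) (nat_lit 0x10000850000950000c50000d5) (nat_lit 0x200020000000000020002000000000000000000000000000000000)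 (.cD (nat_lit 133) (.cut (nat_lit 1)) (.cD (nat_lit 149) (.cut (nat_lit 0)) (.cD (nat_lit 197) (.kS (nat_lit 0) (nat_lit 0x2004008010003001) (nat_lit 4229) (nat_lit 0x8004002003) (nat_lit 0x8008000004002008010005001008008000004006008010001002002004008010015004005)) (.cD (nat_lit 213) (.kS (nat_lit 0) (nat_lit 0x2004008010003001) (nat_lit 4309) (nat_lit 0x8004002003) (nat_lit 0x8008000004002008010005001008008000004006008010001002002004008010017004005)) .nil))))))
theorem c43 : (chk [(x8, s16), (x8, s42)] [] p43).n x8 s43 = true := by decide +kernel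
noncomputable def p44 : Pf := (.ext (nat_lit 0) (nat_lit 0) (nat_lit 0x1080020040010) (nat_lit 0x1002004008003001) (nat_lit 0x2003004008) (nat_lit 4101) (nat_lit 4101) (nat_lit 0xc004002001) (.dfs (nat_lit 5) (nat_lit 0x1002003004008) (nat_lit 0x100200300400c) (nat_lit 4097) (nat_lit 4097) (nat_lit 4) (nat_lit 0) (nat_lit 2) (nat_lit 0) (nat_lit 0) (nat_lit 5) (nat_lit 1) (nat_lit 0) (nat_lit 4224) (nat_lit 128) (nat_lit 0x1000005000015000045000055) (nat_lit 0x2000200000000000200020) (.cD (nat_lit 5) (.kS (nat_lit 0) (nat_lit 0x2006008010002008008000002) (nat_lit 4181) (nat_lit 0x8004002003) (nat_lit 0x8008000002004008010001001008008000002006008010007001004)) (.cD (nat_lit 21) (.cut (nat_lit 0)) (.cD (nat_lit 69) (.iso x8 s43 (nat_lit 0) (nat_lit 0x1080040020010008004002041) (nat_lit 0x80040020010008004002041) [(nat_lit 0x10008004002005001001), (nat_lit 0x20010008004002001003001)] (.cut (nat_lit 0))) (.cD (nat_lit 85) (.kS (nat_lit 0) (nat_lit 0x2006008010002008008000002) (nat_lit 4165) (nat_lit 0x8004002003)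 (nat_lit 0x8008000002004008010001001008008000002006008010005001004)) .nil))))))
theorem c44 : (chk [(x8, s43)] [g29] p44).n x8 s44 = true := by decide +kernel
noncomputable def p45 : Pf := (.lft (nat_lit 0x4001002000800206f001001001) (nat_lit 71) (nat_lit 0x1060040) (nat_lit 0x4002001000800404207d) (.extn a21 (nat_lit 0x40020010008004002001) (nat_lit 0x1008020010040) (nat_lit 2) (nat_lit 0) (nat_lit 0) (nat_lit 7) (nat_lit 0x80000000800000000000000000) (.cE (nat_lit 71) b28 (nat_lit 0) (.cut (nat_lit 0)) .nil (.cE (nat_lit 103) b29 (nat_lit 0) (.cut (nat_lit 1)) .nil .nil))))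
theorem c45 : (chk [(x7, s12), (x8, s44)] [] p45).n x2 s45 = true := by decide +kernel
noncomputable def p46 : Pf := (.ext (nat_lit 0) (nat_lit 0) (nat_lit 0x1040010020008003004) (nat_lit 0x3401800800f01100c00107d00100003b01000801201c00f00107d00100002101800800101701200107d001000020010008004002001001007) (nat_lit 0x9008018030) (nat_lit 4097) (nat_lit 4166) (nat_lit 0x2801800800101700c) (.dfs (nat_lit 1) (nat_lit 0x1009008018030) (nat_lit 0x1004008010030) (nat_lit 0x1020010004002001) (nat_lit 0x102801800101700c) (nat_lit 53) (nat_lit 0) (nat_lit 2) (nat_lit 0) (nat_lit 0) (nat_lit 2) (nat_lit 1) (nat_lit 0) (nat_lit 4112) (nat_lit 16) (nat_lit 0x1000056) (nat_lit 0x4000000000000000000000) (.cD (nat_lit 86) (.cut (nat_lit 0)) .nil)))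
theorem c46 : (chk [(x2, s45)] [] p46).n x2 s46 = true := by decide +kernel
noncomputable def p47 : Pf := (.ext (nat_lit 0) (nat_lit 0) (nat_lit 0x1040010020008) (nat_lit 0xd002004008002003003000001002004008001003) (nat_lit 0x100200400b) (nat_lit 0x1004003) (nat_lit 0x1007003) (nat_lit 0x800400200300a004002001) (.dfs (nat_lit 3) (nat_lit 0x100100200400b) (nat_lit 0x1001002004009) (nat_lit 4104) (nat_lit 4106) (nat_lit 0) (nat_lit 0) (nat_lit 2) (nat_lit 0) (nat_lit 0) (nat_lit 3) (nat_lit 1) (nat_lit 0) (nat_lit 4160) (nat_lit 64) (nat_lit 0x100000300000b00001300001b) (nat_lit 0x8080808) (.cD (nat_lit 3) (.dfs (nat_lit 4) (nat_lit 0x1002004008016) (nat_lit 0x1006004008012) (nat_lit 0x1010001) (nat_lit 0x1010005) (nat_lit 0) (nat_lit 0) (nat_lit 2) (nat_lit 0) (nat_lit 0) (nat_lit 7) (nat_lit 1) (nat_lit 0) (nat_lit 4104) (nat_lit 8) (nat_lit 0x100000f00001f) (nat_lit 0x80008000) (.cD (nat_lit 15) (.cut (nat_lit 1)) (.cD (nat_lit 31) (.iso x2 s46 (nat_lit 0) (nat_lit 0x1040020010008004042051) (nat_lit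 0x40020010008004042051) [(nat_lit 0x2001000800401a009001008008000002), (nat_lit 0x8004002001003001)] (.cut (nat_lit 1))) .nil))) (.cD (nat_lit 11) (.dfs (nat_lit 4) (nat_lit 0x1002004008016) (nat_lit 0x1006004008012) (nat_lit 0x1010001) (nat_lit 0x1010005) (nat_lit 0) (nat_lit 0) (nat_lit 2) (nat_lit 0) (nat_lit 0) (nat_lit 7) (nat_lit 1) (nat_lit 0) (nat_lit 4104) (nat_lit 8) (nat_lit 0x1000047000057) (nat_lit 0x8000800000000000000000) (.cD (nat_lit 71) (.cut (nat_lit 0)) (.cD (nat_lit 87) (.iso x2 s11 (nat_lit 0) (nat_lit 0x1040020010008004042051) (nat_lit 0x40020010008004042051) [(nat_lit 0x2001000800401a009001008008000002), (nat_lit 0x8004002001003001)] (.cut (nat_lit 0))) .nil))) (.cD (nat_lit 19) (.dfs (nat_lit 4) (nat_lit 0x1002004008016) (nat_lit 0x1006004008012) (nat_lit 0x1010001) (nat_lit 0x1010005) (nat_lit 0) (nat_lit 0) (nat_lit 2) (nat_lit 0) (nat_lit 0) (nat_lit 7) (nat_lit 1) (nat_lit 0) (nat_lit 4104) (nat_lit 8) (nat_lit 0x100000f00001f) (nat_lit 0x80008000) (.cD (nat_lit 15) (.kA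 false (nat_lit 0xf00801802c001001008018020001042002000003)) (.cD (nat_lit 31) (.kA false (nat_lit 0x1f00801802c001001008018020001042002000003)) .nil))) (.cD (nat_lit 27) (.dfs (nat_lit 4) (nat_lit 0x1002004008016) (nat_lit 0x1006004008012) (nat_lit 0x1010001) (nat_lit 0x1010005) (nat_lit 0) (nat_lit 0) (nat_lit 2) (nat_lit 0) (nat_lit 0) (nat_lit 7) (nat_lit 1) (nat_lit 0) (nat_lit 4104) (nat_lit 8) (nat_lit 0x1000047000057) (nat_lit 0x8000800000000000000000) (.cD (nat_lit 71) (.kA false (nat_lit 0x2b00801802c001001008018020001042002000003)) (.cD (nat_lit 87) (.kA false (nat_lit 0x3b00801802c001001008018020001042002000003)) .nil))) .nil))))))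
theorem c47 : (chk [(x2, s11), (x2, s46)] [g27] p47).n x2 s47 = true := by decide +kernel
noncomputable def p48 : Pf := (.anc (nat_lit 80) (nat_lit 0x1600101c001042002000003) (nat_lit 0x1001004020010008) (.dfs (nat_lit 8) (nat_lit 1) (nat_lit 1) (nat_lit 4097) (nat_lit 4097) (nat_lit 0) (nat_lit 0) (nat_lit 0) (nat_lit 0) (nat_lit 0) (nat_lit 0) (nat_lit 1) (nat_lit 0) (nat_lit 0x1008004002) (nat_lit 0x8004042) (nat_lit 0x1000004002004000010000014002014000044002044000050000054002054001008001038001048001078) (nat_lit 0x1001100110000000100110010) (.cD (nat_lit 4) (.czs (nat_lit 4) z2 (nat_lit 16) (.dfs (nat_lit 16) (nat_lit 4097) (nat_lit 4097) (nat_lit 4098) (nat_lit 4098) (nat_lit 0) (nat_lit 0) (nat_lit 3) (nat_lit 0) (nat_lit 0) (nat_lit 0) (nat_lit 1) (nat_lit 0) (nat_lit 1) (nat_lit 0) (nat_lit 1) (nat_lit 0x110011001100110011001100110010) (.cD (nat_lit 4) (.kc (nat_lit 24) (nat_lit 0x3001001)) (.cD (nat_lit 16) (.kF (nat_lit 8) (nat_lit 0xe01600300201c003042002000002005001004)) (.cD (nat_lit 20)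 (.kF (nat_lit 8) (nat_lit 0xe01000403d001000002005001003)) (.cD (nat_lit 32) (.kF (nat_lit 8) (nat_lit 0x3d001000002005001002)) (.cD (nat_lit 36) (.kF (nat_lit 8) (nat_lit 0x2016003042002000002005001003)) (.cD (nat_lit 48) (.dfs (nat_lit 32) (nat_lit 4098) (nat_lit 4098) (nat_lit 0x1004001) (nat_lit 0x1004001) (nat_lit 0) (nat_lit 0) (nat_lit 3) (nat_lit 0) (nat_lit 0) (nat_lit 0) (nat_lit 1) (nat_lit 0) (nat_lit 1) (nat_lit 0) (nat_lit 1) (nat_lit 0x110011001100110011001100110010) (.cD (nat_lit 4) (.kc (nat_lit 40) (nat_lit 0x5001001)) (.cD (nat_lit 16) (.kA false (nat_lit 0x3d00100000500300200b00203d001000003)) (.cD (nat_lit 20) (.kA false (nat_lit 0x400e00801600300100700200f00203d001000003)) (.cD (nat_lit 32) (.dfs (nat_lit 4) (nat_lit 0x1004001002008) (nat_lit 0x1005001002008) (nat_lit 1) (nat_lit 1) (nat_lit 0) (nat_lit 0) (nat_lit 2) (nat_lit 1) (nat_lit 0) (nat_lit 8) (nat_lit 1) (nat_lit 0) (nat_lit 4100) (nat_lit 4) (nat_lit 0x1000008000018000048000058) (nat_lit 0x10001000000000001000100) (.cD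 (nat_lit 8) (.kA false (nat_lit 0xe00200401000100500200601600103d001000003)) (.cD (nat_lit 24) (.dfs (nat_lit 1) (nat_lit 0x1007002006010) (nat_lit 0x1008002004010) (nat_lit 0x1008004001) (nat_lit 0x100500600c) (nat_lit 13) (nat_lit 0) (nat_lit 2) (nat_lit 0) (nat_lit 0) (nat_lit 2) (nat_lit 1) (nat_lit 0) (nat_lit 1) (nat_lit 0) (nat_lit 1) (nat_lit 0) .nil) (.cD (nat_lit 72) (.kc (nat_lit 64) (nat_lit 0xc00501300103d001000010003004)) (.cD (nat_lit 88) (.kc (nat_lit 64) (nat_lit 0xc005015001042002000010003004)) .nil))))) (.cD (nat_lit 36) (.dfs (nat_lit 4) (nat_lit 4101) (nat_lit 4100) (nat_lit 1) (nat_lit 1) (nat_lit 0) (nat_lit 0) (nat_lit 1) (nat_lit 4128) (nat_lit 0x4002001000800404203d) (nat_lit 0) (nat_lit 1) (nat_lit 0) (nat_lit 1) (nat_lit 0) (nat_lit 1) (nat_lit 0) .nil) (.cD (nat_lit 48) (.kc (nat_lit 48) (nat_lit 0x3001001)) (.cD (nat_lit 52) (.kc (nat_lit 56) (nat_lit 0x7001001)) (.cD (nat_lit 64) (.kc (nat_lit 112) (nat_lit 0x9001001)) (.cD (nat_lit 68) (.kc (nat_lit 120) (nat_lit 0xd001001))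 (.cD (nat_lit 80) (.kc (nat_lit 64) (nat_lit 0xb00103d001000002)) (.cD (nat_lit 84) (.kc (nat_lit 64) (nat_lit 0xf001016004002)) (.cD (nat_lit 96) (.kc (nat_lit 64) (nat_lit 0x100203d001000002)) (.cD (nat_lit 100) (.kc (nat_lit 64) (nat_lit 0xc00500500203d001000003)) (.cD (nat_lit 112) (.kc (nat_lit 96) (nat_lit 0xb001001)) (.cD (nat_lit 116) (.kc (nat_lit 104) (nat_lit 0xf001001)) .nil)))))))))))))))) (.cD (nat_lit 52) (.dfs (nat_lit 32) (nat_lit 4098) (nat_lit 4098) (nat_lit 0x1004001) (nat_lit 0x1004001) (nat_lit 0) (nat_lit 0) (nat_lit 3) (nat_lit 0) (nat_lit 0) (nat_lit 0) (nat_lit 1) (nat_lit 0) (nat_lit 1) (nat_lit 0) (nat_lit 1) (nat_lit 0x110011001100110011001100110010) (.cD (nat_lit 4) (.kc (nat_lit 40) (nat_lit 0x5001001)) (.cD (nat_lit 16) (.kA false (nat_lit 0x600e00a01600300500700600f00203d001000003)) (.cD (nat_lit 20) (.kA false (nat_lit 0x3d00100000100300600b00203d001000003)) (.cD (nat_lit 32) (.kA false (nat_lit 0xa00400201600303d00100000400100200a001003)) (.cD (nat_lit 36) (.kA false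 (nat_lit 0xa00e00201600303d00100000400100200a001003)) (.cD (nat_lit 48) (.kc (nat_lit 56) (nat_lit 0x7001001)) (.cD (nat_lit 52) (.kc (nat_lit 48) (nat_lit 0x3001001)) (.cD (nat_lit 64) (.kc (nat_lit 112) (nat_lit 0x9001001)) (.cD (nat_lit 68) (.kc (nat_lit 120) (nat_lit 0xd001001)) (.cD (nat_lit 80) (.kc (nat_lit 64) (nat_lit 0x1002008002002)) (.cD (nat_lit 84) (.kc (nat_lit 64) (nat_lit 0xb00103d001000002)) (.cD (nat_lit 96) (.kc (nat_lit 64) (nat_lit 0x100203d001000002)) (.cD (nat_lit 100) (.kc (nat_lit 64) (nat_lit 0xc00500500203d001000003)) (.cD (nat_lit 112) (.kc (nat_lit 104) (nat_lit 0xf001001)) (.cD (nat_lit 116) (.kc (nat_lit 96) (nat_lit 0xb001001)) .nil)))))))))))))))) (.cD (nat_lit 64) (.kc (nat_lit 64) (nat_lit 0x5001001)) (.cD (nat_lit 68) (.kc (nat_lit 72) (nat_lit 0x7001001)) (.cD (nat_lit 80) (.kc (nat_lit 64) (nat_lit 0xc00303d001000005001003)) (.cD (nat_lit 84) (.kc (nat_lit 64) (nat_lit 0xc00503d001000005001003)) (.cD (nat_lit 96) (.kc (nat_lit 64) (nat_lit 0x5001001)) (.cD (nat_lit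 100) (.kc (nat_lit 64) (nat_lit 0x7001010003002)) (.cD (nat_lit 112) (.kc (nat_lit 64) (nat_lit 0xc003005001002)) (.cD (nat_lit 116) (.kc (nat_lit 64) (nat_lit 0x400603d001000005001003)) .nil))))))))))))))))) (.cD (nat_lit 16) (.kF (nat_lit 16) (nat_lit 0x3d00100000e01a003002018003001002002004)) (.cD (nat_lit 20) (.kF (nat_lit 20) (nat_lit 0x3d00100000e01a003002018003001002002004)) (.cD (nat_lit 32) (.dfs (nat_lit 16) (nat_lit 1) (nat_lit 1) (nat_lit 0x1002001) (nat_lit 0x1002001) (nat_lit 0) (nat_lit 0) (nat_lit 0) (nat_lit 0) (nat_lit 0) (nat_lit 0) (nat_lit 1) (nat_lit 0) (nat_lit 0x1008004002) (nat_lit 0x8004042) (nat_lit 0x1000004002004000010000014002014000044002044000050000054002054001008001038001048001078) (nat_lit 0x1001100110000000100110010) (.cD (nat_lit 4) (.kF (nat_lit 8) (nat_lit 0xc010004042002000002005001003)) (.cD (nat_lit 16) (.dfs (nat_lit 32) (nat_lit 1) (nat_lit 1) (nat_lit 0x1004002001) (nat_lit 0x1004002001) (nat_lit 0) (nat_lit 0) (nat_lit 0) (nat_lit 0) (nat_lit 0) (nat_lit 0)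 (nat_lit 1) (nat_lit 0) (nat_lit 0x1008004) (nat_lit 32772) (nat_lit 0x1001004000008001014000018001044000048001054000058) (nat_lit 0x10001011101110001000101110110) (.cD (nat_lit 4) (.kA false (nat_lit 0x100600300800103d00100000400100200a001003)) (.cD (nat_lit 8) (.dfs (nat_lit 4) (nat_lit 4100) (nat_lit 4101) (nat_lit 1) (nat_lit 1) (nat_lit 0) (nat_lit 0) (nat_lit 1) (nat_lit 4128) (nat_lit 0x4002001000800404203d) (nat_lit 0) (nat_lit 1) (nat_lit 0) (nat_lit 1) (nat_lit 0) (nat_lit 1) (nat_lit 0) .nil) (.cD (nat_lit 16) (.kc (nat_lit 48) (nat_lit 0x3001001)) (.cD (nat_lit 20) (.kA false (nat_lit 0x100500300800103d00100000400100200a001003)) (.cD (nat_lit 24) (.kA false (nat_lit 0x100600200800100400100200a001002)) (.cD (nat_lit 32) (.kc (nat_lit 40) (nat_lit 0x5001001)) (.cD (nat_lit 48) (.kc (nat_lit 56) (nat_lit 0x7001001)) (.cD (nat_lit 64) (.kc (nat_lit 112) (nat_lit 0x9001001)) (.cD (nat_lit 68) (.kc (nat_lit 64) (nat_lit 0x1002042002000010003003)) (.cD (nat_lit 72) (.kc (nat_lit 64) (nat_lit 0x1002010003002))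 (.cD (nat_lit 80) (.kc (nat_lit 96) (nat_lit 0xb001001)) (.cD (nat_lit 84) (.kc (nat_lit 64) (nat_lit 0x100203d001000016004003)) (.cD (nat_lit 88) (.kc (nat_lit 64) (nat_lit 0x400100b00103d001000003)) (.cD (nat_lit 96) (.kc (nat_lit 120) (nat_lit 0xd001001)) (.cD (nat_lit 112) (.kc (nat_lit 104) (nat_lit 0xf001001)) .nil)))))))))))))))) (.cD (nat_lit 20) (.kF (nat_lit 8) (nat_lit 0xc01000403d001000002005001003)) (.cD (nat_lit 32) (.kc (nat_lit 24) (nat_lit 0x3001001)) (.cD (nat_lit 64) (.kc (nat_lit 64) (nat_lit 0x5001001)) (.cD (nat_lit 68) (.kc (nat_lit 64) (nat_lit 0x2001042002000005001003)) (.cD (nat_lit 80) (.kc (nat_lit 64) (nat_lit 0xc00303d001000005001003)) (.cD (nat_lit 84) (.kc (nat_lit 64) (nat_lit 0xc00503d001000005001003)) (.cD (nat_lit 96) (.kc (nat_lit 72) (nat_lit 0x7001001)) .nil)))))))))) (.cD (nat_lit 64) (.kc (nat_lit 88) (nat_lit 0x3001001)) (.cD (nat_lit 68) (.kc (nat_lit 64) (nat_lit 0x4006001002042002000010003004)) (.cD (nat_lit 80) (.kc (nat_lit 64) (nat_lit 0x4006001002002002003))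 (.cD (nat_lit 84) (.kc (nat_lit 64) (nat_lit 0x400600100203d001000016004004)) (.cD (nat_lit 96) (.kc (nat_lit 64) (nat_lit 0x400600100203d001000003)) .nil)))))))))))
theorem c48 : (chk [] [] p48).n x21 s48 = true := by decide +kernel
noncomputable def p49 : Pf := (.ext (nat_lit 0) (nat_lit 0) (nat_lit 0x1040010020008) (nat_lit 0x500200e00a001023003000001002004008001003) (nat_lit 0x300600400b) (nat_lit 4103) (nat_lit 4103) (nat_lit 0xa004002005) (.dfs (nat_lit 7) (nat_lit 0x100300600400b) (nat_lit 0x100700600400d) (nat_lit 0x1008002001) (nat_lit 0x100a002005) (nat_lit 4) (nat_lit 0) (nat_lit 2) (nat_lit 0) (nat_lit 0) (nat_lit 7) (nat_lit 1) (nat_lit 0) (nat_lit 0x1040008) (nat_lit 0x40008) (nat_lit 0x1000007001007001017) (nat_lit 128) (.cD (nat_lit 7) (.cut (nat_lit 0)) .nil)))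
theorem c49 : (chk [(x21, s48)] [] p49).n x21 s49 = true := by decide +kernel
noncomputable def p50 : Pf := (.ext (nat_lit 0) (nat_lit 0) (nat_lit 0x110004008002000200c010) (nat_lit 0x40020010008004002001001001) (nat_lit 0x6f020030065) (nat_lit 4101) (nat_lit 4155) (nat_lit 0xa02001003c03404c06f) (.dfs (nat_lit 5) (nat_lit 0x106f020030065) (nat_lit 0x1011020030051) (nat_lit 0x1040010008004002001) (nat_lit 0x100a01003c03404c06f) (nat_lit 73) (nat_lit 0) (nat_lit 2) (nat_lit 0) (nat_lit 0) (nat_lit 5) (nat_lit 1) (nat_lit 0) (nat_lit 1) (nat_lit 0) (nat_lit 1) (nat_lit 0) .nil))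
theorem c50 : (chk [] [] p50).n x24 s50 = true := by decide +kernel
noncomputable def p51 : Pf := (.ext (nat_lit 0) (nat_lit 0x8010020040001001) (nat_lit 0x110004008002001e) (nat_lit 0x40020008018037001010008004002001003002) (nat_lit 0x4006008010) (nat_lit 4098) (nat_lit 4115) (nat_lit 0x1c00800400a001) (.dfs (nat_lit 2) (nat_lit 0x1002004008010) (nat_lit 0x100a00400801c) (nat_lit 4097) (nat_lit 4097) (nat_lit 8) (nat_lit 0) (nat_lit 2) (nat_lit 0) (nat_lit 0x2004008010001001) (nat_lit 19) (nat_lit 1) (nat_lit 0) (nat_lit 1) (nat_lit 0) (nat_lit 1) (nat_lit 0) .nil))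
theorem c51 : (chk [] [] p51).n x25 s51 = true := by decide +kernel
noncomputable def p52 : Pf := (.lft (nat_lit 0x800200400100020f7001008001001) (nat_lit 0) (nat_lit 0x10e00c00a0080) (nat_lit 0x800400200100080840da021) (.extn a18 (nat_lit 0x80040020010008004002001) (nat_lit 0x1010040020080) (nat_lit 2) (nat_lit 0) (nat_lit 0) (nat_lit 0) (nat_lit 0x10000000000000001) (.cE (nat_lit 0) (nat_lit 0x700a70ea0e50fb09404f0b80410b60f50da0a40eb07e0a90af0580830ec0f20fd0b00670be0690fc0b30cd0e20a10560100c708a08509b0f402f0d80210d60950ba0c408b01e0c90cf0380e308c09209d0d00070de00909c0d30ad0820c10360300e70aa0a50bb0d400f0f80010f60b509a0e40ab03e0e90ef0180c30ac0b20bd0f00270fe0290bc0f308d0a20e10160500870ca0c50db0b406f0980610960d50fa0840cb05e08908f0780a30cc0d20dd09004709e0490dc0930ed0c20810760660f102406b05507a03908e03708001b07402a0250680ff09902e06d04207c0330e60710e807f03203d06300c09702000609104400b03501a0590ee0570e007b01404a04500809f0f904e00d02201c05308601108801f05205d00306c0f70400260b106402b01503a0790ce0770c005b03406a0650280bf0d906e02d00203c0730a60310a803f07207d02304c0d70600460d100404b07505a0190ae0170a003b05400a0050480df0b900e04d06205c0130c60510c805f01201d04302c0b7000)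 (nat_lit 0) (.iso x24 s50 (nat_lit 0) (nat_lit 0x1100080040020010008004082033) (nat_lit 0x1000800400200100080040820b3) [(nat_lit 0x1b400400005501002001d04a04c06f0061b4004000003)] (.cut (nat_lit 0))) .nil (.cE (nat_lit 64) b23 (nat_lit 0) (.cut (nat_lit 1)) .nil .nil))))
theorem c52 : (chk [(x24, s50), (x25, s51)] [g11] p52).n x23 s52 = true := by decide +kernel
noncomputable def p53 : Pf := (.ext (nat_lit 0) (nat_lit 0) (nat_lit 0x1080020040010001006008) (nat_lit 0x4301003006400201c001001001) (nat_lit 0x6f01003003a) (nat_lit 4098) (nat_lit 4108) (nat_lit 0x5003001002107e01b028) (.dfs (nat_lit 2) (nat_lit 0x106f01003003a) (nat_lit 0x101c01002003a) (nat_lit 0x1040020008004002001) (nat_lit 0x105003002107e01b028) (nat_lit 73) (nat_lit 0) (nat_lit 2) (nat_lit 0) (nat_lit 0) (nat_lit 4) (nat_lit 1) (nat_lit 0) (nat_lit 4128) (nat_lit 32) (nat_lit 0x100002c) (nat_lit 0x100000000000) (.cD (nat_lit 44) (.cut (nat_lit 0)) .nil)))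
theorem c53 : (chk [(x23, s52)] [] p53).n x23 s53 = true := by decide +kernel
noncomputable def p54 : Pf := (.anz (nat_lit 128) (.anc (nat_lit 28) (nat_lit 0x400010300041b400400000d0031b4004000062003006) (nat_lit 0x100d006) (.dfs (nat_lit 13) (nat_lit 1) (nat_lit 1) (nat_lit 4097) (nat_lit 4097) (nat_lit 0) (nat_lit 2) (nat_lit 0) (nat_lit 0) (nat_lit 0) (nat_lit 0) (nat_lit 1) (nat_lit 0) (nat_lit 0x1100040020010008004002001) (nat_lit 0x1000400200101081b404211f) (nat_lit 0x100000d00100d00200d00300d00400d00500d00600d00700d00000400100400300400500400600400000500300500400500500500700500000700200700300700400700500700700700000900100900200900300900400900500900700900000b00100b00200b00300b00400b00500b00700b00001800101800301800601800002900102900202900302900402900502900702900002b00102b00202b00302b00402b00502b00702b0000bf0010bf0020bf0030bf0001e10021e10031e10051e10061e10000110060110070110000e30020e300003f00203f00503f0011d30011580031580041580061580020580030580040580000f400007400015900115900315900415900515900715900215b00515b00715b00018700218700518700718700314700414700514700714700210500117b00417b00517b00308900408900508900708900512700116500216500416500716500208b00508b00708b0071bb0001840011840021840031840051840030c40040c40000280020280021a90041a90071a90000e90030e90040e90050e90051f50021770041770071770000eb0030eb0040eb0050eb00516b0020cd0030cd00110f0041fd0061fd006144007059000044003118)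 (nat_lit 0xa0001002ab0) (.cD (nat_lit 13) (.mulh (nat_lit 1) (nat_lit 1) (.mulh (nat_lit 1) (nat_lit 1) (.czs (nat_lit 13) z8 (nat_lit 16) (.dfs (nat_lit 6) (nat_lit 4109) (nat_lit 4103) (nat_lit 0x1008002001) (nat_lit 0x1008003001) (nat_lit 9) (nat_lit 0) (nat_lit 3) (nat_lit 0) (nat_lit 0) (nat_lit 44) (nat_lit 1) (nat_lit 0) (nat_lit 0x116c121) (nat_lit 0x1ec08d) (nat_lit 0x100006100106100002c00102c0011cd001140) (nat_lit 0x2000000000000100000000000) (.cD (nat_lit 97) (.kc (nat_lit 156) (nat_lit 0x12001001)) (.cD (nat_lit 44) (.kc (nat_lit 156) (nat_lit 0x12001001)) .nil)))))) (.cD (nat_lit 4) (.mulh (nat_lit 1) (nat_lit 1) (.mulh (nat_lit 1) (nat_lit 1) (.czs (nat_lit 4) z7 (nat_lit 32) (.dfs (nat_lit 6) (nat_lit 4109) (nat_lit 4103) (nat_lit 0x1008002001) (nat_lit 0x1008003001) (nat_lit 9) (nat_lit 0) (nat_lit 3) (nat_lit 0) (nat_lit 0) (nat_lit 19) (nat_lit 1) (nat_lit 0) (nat_lit 0x1140130018004) (nat_lit 0x1401b01281b4) (nat_lit 0x100001300101300201300301300003b00103b00203b00303b0031230031a300309300318b00310b0030bb)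 (nat_lit 0x800000000080000) (.cD (nat_lit 19) (.kc (nat_lit 156) (nat_lit 0x12001001)) (.cD (nat_lit 59) (.kc (nat_lit 156) (nat_lit 0x12001001)) .nil)))))) (.cD (nat_lit 5) (.mulh (nat_lit 1) (nat_lit 1) (.mulh (nat_lit 1) (nat_lit 1) (.dfs (nat_lit 6) (nat_lit 4100) (nat_lit 4110) (nat_lit 1) (nat_lit 1) (nat_lit 9) (nat_lit 0) (nat_lit 1) (nat_lit 0x11c719b19918515b1591451070db0c709b087059045019005) (nat_lit 0x1000800400200101081b404211f) (nat_lit 0) (nat_lit 1) (nat_lit 0) (nat_lit 1) (nat_lit 0) (nat_lit 1) (nat_lit 0) .nil))) (.cD (nat_lit 7) (.mulh (nat_lit 1) (nat_lit 1) (.mulh (nat_lit 1) (nat_lit 1) (.dfs (nat_lit 6) (nat_lit 4100) (nat_lit 4110) (nat_lit 1) (nat_lit 1) (nat_lit 9) (nat_lit 0) (nat_lit 1) (nat_lit 0x11db1d91c518714711b1191050d90c509908505b04701b007) (nat_lit 0x1000800400200101081b404211f) (nat_lit 0) (nat_lit 1) (nat_lit 0) (nat_lit 1) (nat_lit 0) (nat_lit 1) (nat_lit 0) .nil))) (.cD (nat_lit 9) (.mulh (nat_lit 1) (nat_lit 1) (.mulh (nat_lit 1) (nat_lit 1) (.czs (nat_lit 9)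 z6 (nat_lit 32) (.dfs (nat_lit 6) (nat_lit 4109) (nat_lit 4103) (nat_lit 0x1008002001) (nat_lit 0x1008003001) (nat_lit 9) (nat_lit 0) (nat_lit 3) (nat_lit 0) (nat_lit 0) (nat_lit 39) (nat_lit 1) (nat_lit 0) (nat_lit 0x112c09e009) (nat_lit 0x1ac0de015) (nat_lit 0x100003200103200203200002700102700202700010900110900210900002c00102c00202c0011de0021de0020720010bb0020bb0020670011150021150021490011c00021c000206c00219e0020fb002155002180) (nat_lit 0x2000000000000000000000000000000000000000000000000000004108000000000) (.cD (nat_lit 50) (.kc (nat_lit 156) (nat_lit 0x12001001)) (.cD (nat_lit 39) (.kc (nat_lit 156) (nat_lit 0x12001001)) (.cD (nat_lit 265) (.kc (nat_lit 156) (nat_lit 0x12001001)) (.cD (nat_lit 44) (.kc (nat_lit 156) (nat_lit 0x12001001)) .nil)))))))) (.cD (nat_lit 11) (.mulh (nat_lit 1) (nat_lit 1) (.mulh (nat_lit 1) (nat_lit 1) (.czs (nat_lit 11) z5 (nat_lit 32) (.dfs (nat_lit 6) (nat_lit 4109) (nat_lit 4103) (nat_lit 0x1008002001) (nat_lit 0x1008003001) (nat_lit 9) (nat_lit 0) (nat_lit 3) (nat_lit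 0) (nat_lit 0) (nat_lit 37) (nat_lit 1) (nat_lit 0) (nat_lit 0x112c09e00b) (nat_lit 0x1ac0de057) (nat_lit 0x100003200103200203200002500102500202500010b00110b00210b00002c00102c00202c00119e00219e0020720010f90020f900206500115700215700214b00118000218000206c0021de0020b90021170021c0) (nat_lit 0x8000000000000000000000000000000000000000000000000000004102000000000) (.cD (nat_lit 50) (.kc (nat_lit 156) (nat_lit 0x12001001)) (.cD (nat_lit 37) (.kc (nat_lit 156) (nat_lit 0x12001001)) (.cD (nat_lit 267) (.kc (nat_lit 156) (nat_lit 0x12001001)) (.cD (nat_lit 44) (.kc (nat_lit 156) (nat_lit 0x12001001)) .nil)))))))) (.cD (nat_lit 24) (.mulh (nat_lit 1) (nat_lit 1) (.mulh (nat_lit 1) (nat_lit 1) (.czs (nat_lit 24) z4 (nat_lit 32) (.dfs (nat_lit 6) (nat_lit 4109) (nat_lit 4103) (nat_lit 0x1008002001) (nat_lit 0x1008003001) (nat_lit 9) (nat_lit 0) (nat_lit 3) (nat_lit 0) (nat_lit 0) (nat_lit 11) (nat_lit 1) (nat_lit 0) (nat_lit 0x1100030118004) (nat_lit 0x1000b00281b4) (nat_lit 0x100001300101300201300301300003b00103b00203b00303b00012300312300304f00018b00318b003157)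 (nat_lit 0x800000000080000) (.cD (nat_lit 19) (.kc (nat_lit 156) (nat_lit 0x12001001)) (.cD (nat_lit 59) (.kc (nat_lit 156) (nat_lit 0x12001001)) .nil)))))) (.cD (nat_lit 41) (.mulh (nat_lit 1) (nat_lit 1) (.mulh (nat_lit 1) (nat_lit 1) (.dfs (nat_lit 6) (nat_lit 4100) (nat_lit 4110) (nat_lit 1) (nat_lit 1) (nat_lit 9) (nat_lit 0) (nat_lit 1) (nat_lit 0x11f71f51eb1e91b71b51ab1a90f70f50e90ab06b037035029) (nat_lit 0x1000800400200101081b404211f) (nat_lit 0) (nat_lit 1) (nat_lit 0) (nat_lit 1) (nat_lit 0) (nat_lit 1) (nat_lit 0) .nil))) (.cD (nat_lit 43) (.mulh (nat_lit 1) (nat_lit 1) (.mulh (nat_lit 1) (nat_lit 1) (.dfs (nat_lit 6) (nat_lit 4100) (nat_lit 4110) (nat_lit 1) (nat_lit 1) (nat_lit 9) (nat_lit 0) (nat_lit 1) (nat_lit 0x117717516b16913713512b1290eb0b70b50a907707506902b) (nat_lit 0x1000800400200101081b404211f) (nat_lit 0) (nat_lit 1) (nat_lit 0) (nat_lit 1) (nat_lit 0) (nat_lit 1) (nat_lit 0) .nil))) .nil))))))))))))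
theorem c54 : (chk [] [] p54).n x26 s54 = true := by decide +kernel
noncomputable def p55 : Pf := (.clm (.cut (nat_lit 0)) (.dfs (nat_lit 256) (nat_lit 1) (nat_lit 1) (nat_lit 1) (nat_lit 1) (nat_lit 0) (nat_lit 0) (nat_lit 0) (nat_lit 0) (nat_lit 0) (nat_lit 0) (nat_lit 1) (nat_lit 0) (nat_lit 0x1100040020010008004002001) (nat_lit 0x1000400200101081b404211f) (nat_lit 0x100000e00100e00200e00300e00400e00001000101000201000301000001300101300201300301300401300501300601300701300001c00501c00701c00002500102500202500402500502500702500002c00102c00202c00302c00003200203200303200004000119000219000319000519000208e00308e00408e00011200015200004e00006200106200206200306200706200009000209000309000306000002000214d0001ff0021ff0031ff00012300612300712300014b00114b00414b00514b00714b0000650020650040650050650011090021090041090000270050270070270070fb0000390011400031400000ec0000f20020f20030f200219e00302200007900207900307900407900507900310b007189000117) (nat_lit 0x100000000000000010004102010094000) (.cD (nat_lit 14) (.kn (nat_lit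 1) (nat_lit 0x1100080040020010008) false (nat_lit 0x1010008004002001) (nat_lit 0x101081b404211f) (nat_lit 0x100000e00100e00200e00300e00400e001190002190003190)) (.cD (nat_lit 16) (.kc (nat_lit 256) (nat_lit 0x400030300060500031b4004000001001005)) (.cD (nat_lit 19) (.kc (nat_lit 256) (nat_lit 0x400030300061b4004000033006001001005)) (.cD (nat_lit 28) (.kc (nat_lit 256) (nat_lit 0x400030300061b400400000d0051b4004000062005001001007)) (.cD (nat_lit 37) (.kn (nat_lit 1) (nat_lit 0x1100080040020010008) false (nat_lit 0x1100020010004002001) (nat_lit 0x1000200101b404211f) (nat_lit 0x100002500102500202500302500402500502500014b00114b)) (.cD (nat_lit 44) (.kin (nat_lit 1) (nat_lit 1)) (.cD (nat_lit 50) (.kc (nat_lit 256) (nat_lit 0x200040100061b4004000001001004)) (.cD (nat_lit 64) (.kc (nat_lit 256) (nat_lit 0x40003001001002)) (.cD (nat_lit 128) (.kc (nat_lit 256) (nat_lit 0x1001001)) .nil)))))))))))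
theorem c55 : (chk [(x26, s54)] [] p55).n x26 s55 = true := by decide +kernel
noncomputable def p56 : Pf := (.ext (nat_lit 0) (nat_lit 0) (nat_lit 0x110004008002000200c010) (nat_lit 0x40020010008004002001003001) (nat_lit 0x5f020030075) (nat_lit 4101) (nat_lit 4117) (nat_lit 0x1a02001001c00404c05f) (.dfs (nat_lit 5) (nat_lit 0x105f020030075) (nat_lit 0x1011020030051) (nat_lit 0x1040010008004002001) (nat_lit 0x101a01001c00404c05f) (nat_lit 52) (nat_lit 0) (nat_lit 2) (nat_lit 0) (nat_lit 0) (nat_lit 21) (nat_lit 1) (nat_lit 0) (nat_lit 1) (nat_lit 0) (nat_lit 1) (nat_lit 0x200000000000000020000000000000002000000000000000200000) (.cD (nat_lit 21) (.kS (nat_lit 0) (nat_lit 0x8e04002008200211f001000002) (nat_lit 0x116c00c1bb) (nat_lit 0xa00400200701c00800400a009032010008031002026) (nat_lit 0x11f00100001002004008000800400100100111f00008e0400200820d40040f9001004)) (.cD (nat_lit 85) (.kS (nat_lit 0) (nat_lit 0x8e04002008200211f001000002) (nat_lit 0x116c00c17b) (nat_lit 0xa00400200701c00800400a009032010008031002026)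 (nat_lit 0x11f00100001002004008000800400100100111f00008e0400200820d4004099001004)) (.cD (nat_lit 149) (.cut (nat_lit 0)) (.cD (nat_lit 213) (.iso x26 s55 (nat_lit 0) (nat_lit 0x1100080040020010008004002081) (nat_lit 0x100080040020010008004002081) [(nat_lit 0x80040020010008004002021001001), (nat_lit 0x40040000040020010008004002001003040040000003)] (.cut (nat_lit 0))) .nil))))))
theorem c56 : (chk [(x26, s55)] [g21] p56).n x26 s56 = true := by decide +kernel
noncomputable def p57 : Pf := (.ext (nat_lit 0) (nat_lit 0x8010020040001001) (nat_lit 0x108e0800c015e) (nat_lit 0x40020008018001010008004002003040020010008002003) (nat_lit 0x2003004008) (nat_lit 0x1020012001) (nat_lit 0x1020033012) (nat_lit 0xc00400200100a00400200500b004006005) (.dfs (nat_lit 1) (nat_lit 0x1002003004008) (nat_lit 0x100600300400b) (nat_lit 4097) (nat_lit 4101) (nat_lit 7) (nat_lit 0) (nat_lit 2) (nat_lit 0) (nat_lit 0x8010020040003001) (nat_lit 18) (nat_lit 1) (nat_lit 0) (nat_lit 0x111019e) (nat_lit 0x11019e) (nat_lit 0x100010c00110c00118c)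 (nat_lit 0x10000000000000000000000000000000000000000000000000000000000000000000) (.cD (nat_lit 268) (.dfs (nat_lit 18) (nat_lit 0x1004006008010) (nat_lit 0x100400e008014) (nat_lit 0x1002001) (nat_lit 0x100a003) (nat_lit 4) (nat_lit 0) (nat_lit 2) (nat_lit 0) (nat_lit 0x8010020040003001) (nat_lit 51) (nat_lit 1) (nat_lit 0) (nat_lit 4160) (nat_lit 64) (nat_lit 0x1000073) (nat_lit 0x80000000000000000000000000000) (.cD (nat_lit 115) (.dfs (nat_lit 32) (nat_lit 0x100800c010020) (nat_lit 0x100800c010030) (nat_lit 0x1004002001) (nat_lit 0x100400e009) (nat_lit 0) (nat_lit 0) (nat_lit 2) (nat_lit 0) (nat_lit 0x8010020040003001) (nat_lit 32) (nat_lit 1) (nat_lit 0) (nat_lit 1) (nat_lit 0) (nat_lit 1) (nat_lit 0x100000000000000000000000000000001000000000000000000000000) (.cD (nat_lit 96) (.kS (nat_lit 0) (nat_lit 0x10018020040002008010020040003002) (nat_lit 0x10b31df13e) (nat_lit 0xa00600200d01400800400a01102001000800c032011) (nat_lit 0x1800802004003a01703100100801002004000400200100101001802004000702c039001003))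 (.cD (nat_lit 224) (.cut (nat_lit 0)) .nil))) .nil)) .nil)))
theorem c57 : (chk [(x26, s56)] [] p57).n x26 s57 = true := by decide +kernel
noncomputable def p58 : Pf := (.ext (nat_lit 0) (nat_lit 0) (nat_lit 0x110004008002000200c010) (nat_lit 0x40020010008004002001001001) (nat_lit 0x5f020030075) (nat_lit 4101) (nat_lit 4117) (nat_lit 0x1a02001001c00404c05f) (.dfs (nat_lit 5) (nat_lit 0x105f020030075) (nat_lit 0x1011020030051) (nat_lit 0x1040010008004002001) (nat_lit 0x101a01001c00404c05f) (nat_lit 36) (nat_lit 0) (nat_lit 2) (nat_lit 0) (nat_lit 0) (nat_lit 21) (nat_lit 1) (nat_lit 0) (nat_lit 1) (nat_lit 0) (nat_lit 1) (nat_lit 0) .nil))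
theorem c58 : (chk [] [] p58).n x27 s58 = true := by decide +kernel
noncomputable def p59 : Pf := (.ext (nat_lit 0) (nat_lit 0x8010020040001001) (nat_lit 0x108e0800c015e) (nat_lit 0x40020008018001010008004002003040020010008002003) (nat_lit 0x2003004008) (nat_lit 0x1020012001) (nat_lit 0x1020033012) (nat_lit 0xc00400200100a00400200500b004006005) (.dfs (nat_lit 1) (nat_lit 0x1002003004008) (nat_lit 0x100600300400b) (nat_lit 4097) (nat_lit 4101) (nat_lit 3) (nat_lit 0) (nat_lit 2) (nat_lit 0) (nat_lit 0x8010020040003001) (nat_lit 18) (nat_lit 1) (nat_lit 0) (nat_lit 0x111019e) (nat_lit 0x11019e) (nat_lit 0x1000012001012001092) (nat_lit 0x40000) (.cD (nat_lit 18) (.dfs (nat_lit 18) (nat_lit 0x1004006008010) (nat_lit 0x100400e008014) (nat_lit 0x1002001) (nat_lit 0x100a003) (nat_lit 4) (nat_lit 0) (nat_lit 2) (nat_lit 0) (nat_lit 0x8010020040003001) (nat_lit 51) (nat_lit 1) (nat_lit 0) (nat_lit 4160) (nat_lit 64) (nat_lit 0x100016d) (nat_lit 0x20000000000000000000000000000000000000000000000000000000000000000000000000000000000000000000)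 (.cD (nat_lit 365) (.dfs (nat_lit 32) (nat_lit 0x100800c010020) (nat_lit 0x100800c010030) (nat_lit 0x1004002001) (nat_lit 0x100400e009) (nat_lit 0) (nat_lit 0) (nat_lit 2) (nat_lit 0) (nat_lit 0x8010020040003001) (nat_lit 32) (nat_lit 1) (nat_lit 0) (nat_lit 1) (nat_lit 0) (nat_lit 1) (nat_lit 0x100000000000000000000000000000001000000000000000000000000) (.cD (nat_lit 96) (.cut (nat_lit 0)) (.cD (nat_lit 224) (.kS (nat_lit 0) (nat_lit 0x10018020040002008010020040003002) (nat_lit 0x10b30011be) (nat_lit 0xa00600200d01400800400a01102001000800c032011) (nat_lit 0x1800802004000202f011001008010020040004002001001010018020040007004019001003)) .nil))) .nil)) .nil)))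
theorem c59 : (chk [(x27, s58)] [] p59).n x27 s59 = true := by decide +kernel
noncomputable def p60 : Pf := (.lft (nat_lit 0x800200400100020f7001008001001) (nat_lit 143) (nat_lit 0x10e00c00a0080) (nat_lit 0x800400200100080840da021) (.extn a17 (nat_lit 0x80040020010008004002001) (nat_lit 0x1010040020080) (nat_lit 2) (nat_lit 0) (nat_lit 0) (nat_lit 15) (nat_lit 0x8000000000000000800000000000000000000000000000000000) (.cE (nat_lit 143) b21 (nat_lit 0) (.cut (nat_lit 0)) .nil (.cE (nat_lit 207) b22 (nat_lit 0) (.cut (nat_lit 1)) .nil .nil))))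
theorem c60 : (chk [(x26, s57), (x27, s59)] [] p60).n x23 s60 = true := by decide +kernel
noncomputable def p61 : Pf := (.ext (nat_lit 0) (nat_lit 0) (nat_lit 0x1080020040010001006008) (nat_lit 0x4301003006400201c001001001) (nat_lit 0x6f01003003a) (nat_lit 4098) (nat_lit 4236) (nat_lit 0x5003001002107e01b028) (.dfs (nat_lit 2) (nat_lit 0x106f01003003a) (nat_lit 0x101c01002003a) (nat_lit 0x1040020008004002001) (nat_lit 0x105003002107e01b028) (nat_lit 73) (nat_lit 0) (nat_lit 2) (nat_lit 0) (nat_lit 0) (nat_lit 4) (nat_lit 1) (nat_lit 0) (nat_lit 4128) (nat_lit 32) (nat_lit 0x10000ac) (nat_lit 0x10000000000000000000000000000000000000000000) (.cD (nat_lit 172) (.cut (nat_lit 0)) .nil)))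
theorem c61 : (chk [(x23, s60)] [] p61).n x23 s61 = true := by decide +kernel
noncomputable def p62 : Pf := (.ext (nat_lit 0) (nat_lit 0) (nat_lit 0x10a90600200bf0b9) (nat_lit 0x1e00800c00a00100402100100001000800400200100307503002005f07d001004) (nat_lit 0xa00c00801e) (nat_lit 0x1008001) (nat_lit 0x1001087) (nat_lit 0x1c00800400a00101400800400e001) (.dfs (nat_lit 1) (nat_lit 0x100a00c00801e) (nat_lit 0x100600c008016) (nat_lit 0x1010004002001) (nat_lit 0x101400400e001) (nat_lit 4) (nat_lit 0) (nat_lit 2) (nat_lit 0) (nat_lit 0) (nat_lit 7) (nat_lit 1) (nat_lit 0) (nat_lit 4112) (nat_lit 16) (nat_lit 0x10000970000b7) (nat_lit 0x8000000080000000000000000000000000000000000000) (.cD (nat_lit 151) (.kA false (nat_lit 0x2b01800803c0010da00200001401801003c002003)) (.cD (nat_lit 183) (.dfs (nat_lit 8) (nat_lit 0x101401801003c) (nat_lit 0x1004018010034) (nat_lit 0x1020008004002001) (nat_lit 0x1038008014002019) (nat_lit 0) (nat_lit 0) (nat_lit 2) (nat_lit 0) (nat_lit 0) (nat_lit 1) (nat_lit 1) (nat_lit 0) (nat_lit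 1) (nat_lit 0) (nat_lit 1) (nat_lit 0x20000000200000002000000020000) (.cD (nat_lit 17) (.kA false (nat_lit 0x460300100780010110300200730010da002000003)) (.cD (nat_lit 49) (.cut (nat_lit 1)) (.cD (nat_lit 81) (.cut (nat_lit 0)) (.cD (nat_lit 113) (.kA false (nat_lit 0x8030020078001074030010063001021001000003)) .nil))))) .nil))))
theorem c62 : (chk [(x23, s53), (x23, s61)] [] p62).n x23 s62 = true := by decide +kernel
noncomputable def p63 : Pf := (.ext (nat_lit 0) (nat_lit 0x13004002010002001) (nat_lit 0x1080020040010) (nat_lit 0x3002006015002010008004002005002) (nat_lit 0x300600400b) (nat_lit 0x1008006001) (nat_lit 0x1011018019) (nat_lit 0x800400200300a00400200700e004002005) (.dfs (nat_lit 1) (nat_lit 0x1001002004008) (nat_lit 0x100500200400e) (nat_lit 1) (nat_lit 1) (nat_lit 4) (nat_lit 0) (nat_lit 2) (nat_lit 0) (nat_lit 0x1002004008001001) (nat_lit 25) (nat_lit 1) (nat_lit 0) (nat_lit 0x1088007) (nat_lit 0x88007) (nat_lit 0x10000960010960010b6) (nat_lit 0x40000000000000000000000000000000000000) (.cD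 (nat_lit 150) (.dfs (nat_lit 6) (nat_lit 0x1002004008010) (nat_lit 0x100e004008014) (nat_lit 4097) (nat_lit 4101) (nat_lit 12) (nat_lit 0) (nat_lit 2) (nat_lit 0) (nat_lit 0x2004008010001001) (nat_lit 24) (nat_lit 1) (nat_lit 0) (nat_lit 1) (nat_lit 0) (nat_lit 1) (nat_lit 0x80000000800000008000000080000000) (.cD (nat_lit 31) (.dfs (nat_lit 8) (nat_lit 0x1004008010020) (nat_lit 0x100c008010020) (nat_lit 0x1002001) (nat_lit 0x100a019) (nat_lit 0) (nat_lit 0) (nat_lit 2) (nat_lit 0) (nat_lit 0x4008010020001001) (nat_lit 17) (nat_lit 1) (nat_lit 0) (nat_lit 1) (nat_lit 0) (nat_lit 1) (nat_lit 0x20000000200000002000000020000) (.cD (nat_lit 17) (.kA false (nat_lit 0xd02001004500101c0300200360010210100300500010da002000004)) (.cD (nat_lit 49) (.kS (nat_lit 0) (nat_lit 0x4f020030065002021001000002) (nat_lit 0x10d7037) (nat_lit 0xa00400200701c00800400a009) (nat_lit 0x5703001000604a03f00100801002004000400200100102100004f02003006504e03e001004)) (.cD (nat_lit 81) (.kA false (nat_lit 0xd020010065001084004000008010020040001003))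 (.cD (nat_lit 113) (.kA false (nat_lit 0x1d020010055001084004000028010020070001021001000004)) .nil))))) (.cD (nat_lit 63) (.dfs (nat_lit 8) (nat_lit 0x1004008010020) (nat_lit 0x100c008010020) (nat_lit 0x1002001) (nat_lit 0x100a019) (nat_lit 0) (nat_lit 0) (nat_lit 2) (nat_lit 0) (nat_lit 0x4008010020001001) (nat_lit 17) (nat_lit 1) (nat_lit 0) (nat_lit 1) (nat_lit 0) (nat_lit 1) (nat_lit 0x20000000200000002000000020000) (.cD (nat_lit 17) (.kA false (nat_lit 0x4f020030045001057030010006001008010020040001003)) (.cD (nat_lit 49) (.kA false (nat_lit 0x2101003004000203c0300200060020da002000008010020040001004)) (.cD (nat_lit 81) (.kA false (nat_lit 0xd020010065001084004000008010020040001003)) (.cD (nat_lit 113) (.kA false (nat_lit 0x310100300400020da00200006f020030055002003)) .nil))))) (.cD (nat_lit 95) (.dfs (nat_lit 8) (nat_lit 0x1004008010020) (nat_lit 0x100c008010020) (nat_lit 0x1002001) (nat_lit 0x100a019) (nat_lit 0) (nat_lit 0) (nat_lit 2) (nat_lit 0) (nat_lit 0x4008010020001001) (nat_lit 17) (nat_lit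 1) (nat_lit 0) (nat_lit 1) (nat_lit 0) (nat_lit 1) (nat_lit 0x20000000200000002000000020000) (.cD (nat_lit 17) (.kA false (nat_lit 0x5f020030045001067030010016001021001000008010020040001004)) (.cD (nat_lit 49) (.cut (nat_lit 0)) (.cD (nat_lit 81) (.kA false (nat_lit 0xd020010065001084004000008010020040001003)) (.cD (nat_lit 113) (.kA false (nat_lit 0x1d020010055001084004000028010020070001021001000004)) .nil))))) (.cD (nat_lit 127) (.dfs (nat_lit 8) (nat_lit 0x1004008010020) (nat_lit 0x100c008010020) (nat_lit 0x1002001) (nat_lit 0x100a019) (nat_lit 0) (nat_lit 0) (nat_lit 2) (nat_lit 0) (nat_lit 0x4008010020001001) (nat_lit 17) (nat_lit 1) (nat_lit 0) (nat_lit 1) (nat_lit 0) (nat_lit 1) (nat_lit 0x20000000200000002000000020000) (.cD (nat_lit 17) (.kA false (nat_lit 0x6f020030045001047030010026001028010020070001021001000004)) (.cD (nat_lit 49) (.kA false (nat_lit 0x1d02001007500103c0300200360010210100300500010da002000004)) (.cD (nat_lit 81) (.kA false (nat_lit 0xd020010065001084004000008010020040001003))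 (.cD (nat_lit 113) (.kA false (nat_lit 0x210100300400020da00200004f020030055002003)) .nil))))) .nil))))) .nil)))
theorem c63 : (chk [(x23, s62)] [] p63).n x23 s63 = true := by decide +kernel
noncomputable def p64 : Pf := (.ext (nat_lit 0) (nat_lit 0x8010020040001001) (nat_lit 0x110004008002001e) (nat_lit 0x40020008018037001010008004002001003002) (nat_lit 0x4006008010) (nat_lit 4098) (nat_lit 4143) (nat_lit 0x1c00800400a001) (.dfs (nat_lit 2) (nat_lit 0x1002004008010) (nat_lit 0x100a00400801c) (nat_lit 4097) (nat_lit 4097) (nat_lit 8) (nat_lit 0) (nat_lit 2) (nat_lit 0) (nat_lit 0x2004008010001001) (nat_lit 33) (nat_lit 1) (nat_lit 0) (nat_lit 1) (nat_lit 0) (nat_lit 1) (nat_lit 0) .nil))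
theorem c64 : (chk [] [] p64).n x28 s64 = true := by decide +kernel
noncomputable def p65 : Pf := (.ext (nat_lit 0) (nat_lit 0x8010020040001001) (nat_lit 0x110004008002001e) (nat_lit 0x40020008018037001010008004002001003002) (nat_lit 0x4006008010) (nat_lit 4098) (nat_lit 4143) (nat_lit 0x1c00800400a001) (.dfs (nat_lit 2) (nat_lit 0x1002004008010) (nat_lit 0x100a00400801c) (nat_lit 4097) (nat_lit 4097) (nat_lit 8) (nat_lit 0) (nat_lit 2) (nat_lit 0) (nat_lit 0x2004008010001001) (nat_lit 33) (nat_lit 1) (nat_lit 0) (nat_lit 1) (nat_lit 0) (nat_lit 1) (nat_lit 0) .nil))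
theorem c65 : (chk [] [] p65).n x29 s65 = true := by decide +kernel
noncomputable def p66 : Pf := (.lft (nat_lit 0x800200400100020f7001008001001) (nat_lit 175) (nat_lit 0x10e00c00a0080) (nat_lit 0x800400200100080840da021) (.extn a16 (nat_lit 0x80040020010008004002001) (nat_lit 0x1010040020080) (nat_lit 2) (nat_lit 0) (nat_lit 0) (nat_lit 15) (nat_lit 0x800000000000000080000000000000000000000000000000000000000000) (.cE (nat_lit 175) b19 (nat_lit 0) (.cut (nat_lit 0)) .nil (.cE (nat_lit 239) b20 (nat_lit 0) (.cut (nat_lit 1)) .nil .nil))))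
theorem c66 : (chk [(x28, s64), (x29, s65)] [] p66).n x23 s66 = true := by decide +kernel
noncomputable def p67 : Pf := (.ext (nat_lit 0) (nat_lit 0) (nat_lit 0x1080020040010001006008) (nat_lit 0x7301003007400201c001001001) (nat_lit 0x5f01003001a) (nat_lit 4098) (nat_lit 4226) (nat_lit 0x5003001002107e01b028) (.dfs (nat_lit 2) (nat_lit 0x105f01003001a) (nat_lit 0x103c01002000a) (nat_lit 0x1040020008004002001) (nat_lit 0x105003002107e01b028) (nat_lit 73) (nat_lit 0) (nat_lit 2) (nat_lit 0) (nat_lit 0) (nat_lit 2) (nat_lit 1) (nat_lit 0) (nat_lit 4128) (nat_lit 32) (nat_lit 0x10000a2) (nat_lit 0x40000000000000000000000000000000000000000) (.cD (nat_lit 162) (.cut (nat_lit 0)) .nil)))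
theorem c67 : (chk [(x23, s66)] [] p67).n x23 s67 = true := by decide +kernel
noncomputable def p68 : Pf := (.ext (nat_lit 0) (nat_lit 0x8010020040001001) (nat_lit 0x100e0800c01de) (nat_lit 0x40020008018001010008004002003040020010008002003) (nat_lit 0x2003004008) (nat_lit 0x1020012001) (nat_lit 0x1020001033) (nat_lit 0xc00400200100a004002005009004006001) (.dfs (nat_lit 1) (nat_lit 0x1002003004008) (nat_lit 0x1006007004009) (nat_lit 4097) (nat_lit 4097) (nat_lit 0) (nat_lit 0) (nat_lit 2) (nat_lit 0) (nat_lit 0x8010020040003001) (nat_lit 51) (nat_lit 1) (nat_lit 0) (nat_lit 0x1040110) (nat_lit 0x40110) (nat_lit 0x100003300103300112d) (nat_lit 0x8000000000000) (.cD (nat_lit 51) (.dfs (nat_lit 18) (nat_lit 0x1004006008010) (nat_lit 0x100400e008014) (nat_lit 0x1002001) (nat_lit 0x100a00b) (nat_lit 4) (nat_lit 0) (nat_lit 2) (nat_lit 0) (nat_lit 0x8010020040003001) (nat_lit 1) (nat_lit 1) (nat_lit 0) (nat_lit 4510) (nat_lit 414) (nat_lit 0x1000151) (nat_lit 0x2000000000000000000000000000000000000000000000000000000000000000000000000000000000000)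 (.cD (nat_lit 337) (.dfs (nat_lit 32) (nat_lit 0x100800c010020) (nat_lit 0x100800c010030) (nat_lit 0x1004002001) (nat_lit 0x1004016009) (nat_lit 0) (nat_lit 0) (nat_lit 2) (nat_lit 0) (nat_lit 0x8010020040003001) (nat_lit 32) (nat_lit 1) (nat_lit 0) (nat_lit 1) (nat_lit 0) (nat_lit 1) (nat_lit 0x40000000000000000000000000000000400000000000000000000000000000000000000000000000000000000000000000000000000000000000000000000000) (.cD (nat_lit 382) (.cut (nat_lit 0)) (.cD (nat_lit 510) (.kS (nat_lit 0) (nat_lit 0x10018020040002008010020040003002) (nat_lit 0x105c0bd0e0) (nat_lit 0x800600200901400800400a01502001000800c02a011) (nat_lit 0x1800802004003706c009001008010020040004002001001010018020040072077011001003)) .nil))) .nil)) .nil)))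
theorem c68 : (chk [(x24, s50)] [] p68).n x24 s68 = true := by decide +kernel
noncomputable def p69 : Pf := (.anz (nat_lit 128) (.iso x31 ⟨[([nat_lit 33, nat_lit 256, nat_lit 2, nat_lit 4, nat_lit 148, nat_lit 448, nat_lit 16, nat_lit 462], [nat_lit 369, nat_lit 128, nat_lit 66, nat_lit 136, nat_lit 216, nat_lit 464, nat_lit 448, nat_lit 454]), ([nat_lit 148, nat_lit 260, nat_lit 32, nat_lit 216, nat_lit 464, nat_lit 448, nat_lit 454], [nat_lit 412, nat_lit 366, nat_lit 96, nat_lit 264, nat_lit 216, nat_lit 448, nat_lit 454])], [], [], [], [], [], true, false, []⟩ (nat_lit 0) (nat_lit 0x101002203200104010e00200c004) (nat_lit 0x1ce1c0010094100049001004020) [(nat_lit 0x80040020010008004002001001001), (nat_lit 0x40020010008004002001003001)] (.syr (nat_lit 462) false (nat_lit 2) (nat_lit 1) (nat_lit 91) (nat_lit 1) (nat_lit 0x1080040020008004002001) (nat_lit 0x800401e00180141d205b) (nat_lit 0x100001000003000103000203000603000004000104000204000004c00204c00304c00404c00504c0021f000007000313800111800311800511800218000108000308000408000018c00418c00419c001144004090004150002100)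 (nat_lit 0x10000000000000000000000000000000000000000000000000000000000000000000000000000000000000000000010010001000000010000) (.cD (nat_lit 448) (.kc (nat_lit 462) (nat_lit 0x1001001)) (.cD (nat_lit 16) (.kc (nat_lit 462) (nat_lit 0x40003001001002)) (.cD (nat_lit 48) (.kb (nat_lit 194) (nat_lit 0x1002062005002) (nat_lit 0x11c006001008800402a001)) (.cD (nat_lit 64) (.kc (nat_lit 462) (nat_lit 0x4000303000605b001000001001004)) (.cD (nat_lit 76) (.kc (nat_lit 462) (nat_lit 0x200040180050ee004001001004)) .nil))))))))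
theorem c69 : (chk [] [g18] p69).n x30 s69 = true := by decide +kernel
noncomputable def p70 : Pf := (.clm (.cut (nat_lit 0)) (.dfs (nat_lit 256) (nat_lit 1) (nat_lit 1) (nat_lit 1) (nat_lit 1) (nat_lit 0) (nat_lit 0) (nat_lit 0) (nat_lit 0) (nat_lit 0) (nat_lit 0) (nat_lit 1) (nat_lit 0) (nat_lit 0x1100020010008004002001) (nat_lit 0x1000200101081b4042081) (nat_lit 0x100000e00100e00200e00300e00400e00001000101000201000301000001c00301c00501c00001d00101d00301d00401d00501d00601d00002c00102c00202c00302c0010320020320030320000400000410010410030410050410011d00021d00031d00051d000208e00308e00408e00004e00102200202200302200602200009000209000309000306000002000202000509d0011800021800000ec0000f20020f20030f200315e0010c10030c10050c10011a0001160003062) (nat_lit 0x100000000000000030004100030014000) (.cD (nat_lit 14) (.kn (nat_lit 1) (nat_lit 0x1100080040020010008) false (nat_lit 0x1010008004002001) (nat_lit 0x101081b4042081) (nat_lit 0x100000e00100e00200e00300e00400e0011d00021d00031d0)) (.cD (nat_lit 16) (.kc (nat_lit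 256) (nat_lit 0x400030300060500031b4004000001001005)) (.cD (nat_lit 28) (.kb (nat_lit 28) (nat_lit 0x1002001) (nat_lit 0x1080040130018004002029)) (.cD (nat_lit 29) (.kc (nat_lit 256) (nat_lit 0x200040180051b400400006e005001001005)) (.cD (nat_lit 44) (.kin (nat_lit 1) (nat_lit 5)) (.cD (nat_lit 50) (.kc (nat_lit 256) (nat_lit 0x400030300061b4004000001001004)) (.cD (nat_lit 64) (.kc (nat_lit 256) (nat_lit 0x40003001001002)) (.cD (nat_lit 65) (.kb (nat_lit 28) (nat_lit 0x1002042005002) (nat_lit 0x1080040130018004002029)) (.cD (nat_lit 128) (.kc (nat_lit 256) (nat_lit 0x1001001)) .nil)))))))))))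
theorem c70 : (chk [(x30, s69)] [] p70).n x30 s70 = true := by decide +kernel
noncomputable def p71 : Pf := (.ext (nat_lit 0) (nat_lit 0) (nat_lit 0x110004008002000200c010) (nat_lit 0x40020010008004002001003001) (nat_lit 0x6f020030065) (nat_lit 4101) (nat_lit 4155) (nat_lit 0xa02001003c03404c06f) (.dfs (nat_lit 5) (nat_lit 0x106f020030065) (nat_lit 0x1011020030051) (nat_lit 0x1040010008004002001) (nat_lit 0x100a01003c03404c06f) (nat_lit 89) (nat_lit 0) (nat_lit 2) (nat_lit 0) (nat_lit 0) (nat_lit 5) (nat_lit 1) (nat_lit 0) (nat_lit 1) (nat_lit 0) (nat_lit 1) (nat_lit 0x800000000000000080000000000000008000000000000000800000000000000) (.cD (nat_lit 59) (.cut (nat_lit 0)) (.cD (nat_lit 123) (.iso x30 s70 (nat_lit 0) (nat_lit 0x1100080040020010008004002081) (nat_lit 0x100080040020010008004002081) [(nat_lit 0x80040020010008004002021001001), (nat_lit 0x40040000040020010008004002001003040040000003)] (.cut (nat_lit 0))) (.cD (nat_lit 187) (.kS (nat_lit 0) (nat_lit 0x8e0400200e2002081001000002) (nat_lit 0x11ac00c010095)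 (nat_lit 0xa00400200701c00800400a00903001000800401201907402001004203404c05f) (nat_lit 0x8100100001002004008000800400200100100108100008e0400200e20b4004002023001004)) (.cD (nat_lit 251) (.kS (nat_lit 0) (nat_lit 0x8e0400200e2002081001000002) (nat_lit 0x11ac00c010055) (nat_lit 0xa00400200701c00800400a00903001000800401201907402001004203404c05f) (nat_lit 0x8100100001002004008000800400200100100108100008e0400200e20b4004002043001004)) .nil))))))
theorem c71 : (chk [(x30, s70)] [g12] p71).n x30 s71 = true := by decide +kernel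
noncomputable def p72 : Pf := (.ext (nat_lit 0) (nat_lit 0x8010020040001001) (nat_lit 0x100e0800c01de) (nat_lit 0x40020008018001010008004002003040020010008002003) (nat_lit 0x2003004008) (nat_lit 0x1020012001) (nat_lit 0x1020001033) (nat_lit 0xc00400200100a004002005009004006001) (.dfs (nat_lit 1) (nat_lit 0x1002003004008) (nat_lit 0x1006007004009) (nat_lit 4097) (nat_lit 4097) (nat_lit 4) (nat_lit 0) (nat_lit 2) (nat_lit 0) (nat_lit 0x8010020040003001) (nat_lit 51) (nat_lit 1) (nat_lit 0) (nat_lit 0x1040110) (nat_lit 0x40110) (nat_lit 0x100003300103300112d) (nat_lit 0x8000000000000) (.cD (nat_lit 51) (.dfs (nat_lit 18) (nat_lit 0x1004006008010) (nat_lit 0x100400e008014) (nat_lit 0x1002001) (nat_lit 0x100a00b) (nat_lit 4) (nat_lit 0) (nat_lit 2) (nat_lit 0) (nat_lit 0x8010020040003001) (nat_lit 1) (nat_lit 1) (nat_lit 0) (nat_lit 4510) (nat_lit 414) (nat_lit 0x100004f) (nat_lit 0x80000000000000000000) (.cD (nat_lit 79) (.dfs (nat_lit 32) (nat_lit 0x100800c010020) (nat_lit 0x100800c010030) (nat_lit 0x1004002001)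 (nat_lit 0x1004016009) (nat_lit 0) (nat_lit 0) (nat_lit 2) (nat_lit 0) (nat_lit 0x8010020040003001) (nat_lit 32) (nat_lit 1) (nat_lit 0) (nat_lit 1) (nat_lit 0) (nat_lit 1) (nat_lit 0x40000000000000000000000000000000400000000000000000000000000000000000000000000000000000000000000000000000000000000000000000000000) (.cD (nat_lit 382) (.kS (nat_lit 0) (nat_lit 0x10018020040002008010020040003002) (nat_lit 0x1182163060) (nat_lit 0x800600200901400800400a01502001000800c02a011) (nat_lit 0x1800802004003707402900100801002004000400200100101001802004007a07f031001003)) (.cD (nat_lit 510) (.cut (nat_lit 0)) .nil))) .nil)) .nil)))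
theorem c72 : (chk [(x30, s71)] [] p72).n x30 s72 = true := by decide +kernel
noncomputable def p73 : Pf := (.lft (nat_lit 0x800200400100020f7001008001001) (nat_lit 0) (nat_lit 0x10e00c00a0080) (nat_lit 0x800400200100080840da021) (.extn a9 (nat_lit 0x80040020010008004002001) (nat_lit 0x1010040020080) (nat_lit 2) (nat_lit 0) (nat_lit 0) (nat_lit 0) (nat_lit 0x10000000000000001) (.cE (nat_lit 0) b11 (nat_lit 0) (.cut (nat_lit 0)) .nil (.cE (nat_lit 64) b12 (nat_lit 0) (.cut (nat_lit 1)) .nil .nil))))
theorem c73 : (chk [(x24, s68), (x30, s72)] [] p73).n x23 s73 = true := by decide +kernel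
noncomputable def p74 : Pf := (.ext (nat_lit 0) (nat_lit 0) (nat_lit 0x1080020040010001006008) (nat_lit 0x7301003007400201c001001001) (nat_lit 0x5f01003001a) (nat_lit 4098) (nat_lit 4098) (nat_lit 0x5003001002107e01b028) (.dfs (nat_lit 2) (nat_lit 0x105f01003001a) (nat_lit 0x103c01002000a) (nat_lit 0x1040020008004002001) (nat_lit 0x105003002107e01b028) (nat_lit 73) (nat_lit 0) (nat_lit 2) (nat_lit 0) (nat_lit 0) (nat_lit 2) (nat_lit 1) (nat_lit 0) (nat_lit 4128) (nat_lit 32) (nat_lit 0x1000002) (nat_lit 4) (.cD (nat_lit 2) (.cut (nat_lit 0)) .nil)))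
theorem c74 : (chk [(x23, s73)] [] p74).n x23 s74 = true := by decide +kernel
noncomputable def p75 : Pf := (.ext (nat_lit 0) (nat_lit 0) (nat_lit 0x10e90600200df0d9) (nat_lit 0x1e00800c00a00100602100100001000800400200100506503002006f04d001004) (nat_lit 0xa00c00801e) (nat_lit 0x1008001) (nat_lit 0x1001087) (nat_lit 0x1c00800400a00101400800400e001) (.dfs (nat_lit 1) (nat_lit 0x100a00c00801e) (nat_lit 0x100600c008016) (nat_lit 0x1010004002001) (nat_lit 0x101400400e001) (nat_lit 4) (nat_lit 0) (nat_lit 2) (nat_lit 0) (nat_lit 0) (nat_lit 7) (nat_lit 1) (nat_lit 0) (nat_lit 4112) (nat_lit 16) (nat_lit 0x10000970000b7) (nat_lit 0x8000000080000000000000000000000000000000000000) (.cD (nat_lit 151) (.dfs (nat_lit 8) (nat_lit 0x101401801003c) (nat_lit 0x1004018010034) (nat_lit 0x1020008004002001) (nat_lit 0x1038008014002019) (nat_lit 0) (nat_lit 0) (nat_lit 2) (nat_lit 0) (nat_lit 0) (nat_lit 1) (nat_lit 1) (nat_lit 0) (nat_lit 1) (nat_lit 0) (nat_lit 1) (nat_lit 0x20000000200000002000000020000) (.cD (nat_lit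 17) (.cut (nat_lit 1)) (.cD (nat_lit 49) (.kA false (nat_lit 0x8030020078001064030010053001021001000003)) (.cD (nat_lit 81) (.kA false (nat_lit 0x660300100780010110300200430010da002000003)) (.cD (nat_lit 113) (.cut (nat_lit 0)) .nil))))) (.cD (nat_lit 183) (.kA false (nat_lit 0x17004002010005036008018039002008010020040003003)) .nil))))
theorem c75 : (chk [(x23, s67), (x23, s74)] [] p75).n x23 s75 = true := by decide +kernel
noncomputable def p76 : Pf := (.ext (nat_lit 0) (nat_lit 0x11004002010002001) (nat_lit 0x1080020040010) (nat_lit 0x1002006017002010008004002005002) (nat_lit 0x300600400b) (nat_lit 0x1008006001) (nat_lit 0x1011018019) (nat_lit 0x800400200300a00400200700e004002005) (.dfs (nat_lit 1) (nat_lit 0x1001002004008) (nat_lit 0x100500200400e) (nat_lit 1) (nat_lit 1) (nat_lit 4) (nat_lit 0) (nat_lit 2) (nat_lit 0) (nat_lit 0x1002004008001001) (nat_lit 25) (nat_lit 1) (nat_lit 0) (nat_lit 0x1088007) (nat_lit 0x88007) (nat_lit 0x10000960010960010b6) (nat_lit 0x40000000000000000000000000000000000000)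 (.cD (nat_lit 150) (.dfs (nat_lit 6) (nat_lit 0x1002004008010) (nat_lit 0x100e004008014) (nat_lit 4097) (nat_lit 4101) (nat_lit 12) (nat_lit 0) (nat_lit 2) (nat_lit 0) (nat_lit 0x2004008010001001) (nat_lit 24) (nat_lit 1) (nat_lit 0) (nat_lit 1) (nat_lit 0) (nat_lit 1) (nat_lit 0x80000000800000008000000080000000) (.cD (nat_lit 31) (.dfs (nat_lit 8) (nat_lit 0x1004008010020) (nat_lit 0x100c008010020) (nat_lit 0x1002001) (nat_lit 0x100a019) (nat_lit 0) (nat_lit 0) (nat_lit 2) (nat_lit 0) (nat_lit 0x4008010020001001) (nat_lit 17) (nat_lit 1) (nat_lit 0) (nat_lit 1) (nat_lit 0) (nat_lit 1) (nat_lit 0x20000000200000002000000020000) (.cD (nat_lit 17) (.kS (nat_lit 0) (nat_lit 0x47030010016001008010020040001002) (nat_lit 0x10b7077) (nat_lit 0xa00400200701c00800400a009) (nat_lit 0x1001000004f02003006504e03e00200801002004000400200204703001001604a03f002004)) (.cD (nat_lit 49) (.kA false (nat_lit 0x6f020030055001047030010016001008010020040001003)) (.cD (nat_lit 81) (.kA false (nat_lit 0xd020010045001084004000028010020070001021001000004))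 (.cD (nat_lit 113) (.kA false (nat_lit 0x1d020010075001084004000008010020040001003)) .nil))))) (.cD (nat_lit 63) (.dfs (nat_lit 8) (nat_lit 0x1004008010020) (nat_lit 0x100c008010020) (nat_lit 0x1002001) (nat_lit 0x100a019) (nat_lit 0) (nat_lit 0) (nat_lit 2) (nat_lit 0) (nat_lit 0x4008010020001001) (nat_lit 17) (nat_lit 1) (nat_lit 0) (nat_lit 1) (nat_lit 0) (nat_lit 1) (nat_lit 0x20000000200000002000000020000) (.cD (nat_lit 17) (.kA false (nat_lit 0x2101003004000201c030020016002084004000008010020040001004)) (.cD (nat_lit 49) (.kA false (nat_lit 0x310100300400020da00200007f020030045002021001000004)) (.cD (nat_lit 81) (.kA false (nat_lit 0x310100300400020da00200005f020030045002003)) (.cD (nat_lit 113) (.kA false (nat_lit 0x1d020010075001084004000008010020040001003)) .nil))))) (.cD (nat_lit 95) (.dfs (nat_lit 8) (nat_lit 0x1004008010020) (nat_lit 0x100c008010020) (nat_lit 0x1002001) (nat_lit 0x100a019) (nat_lit 0) (nat_lit 0) (nat_lit 2) (nat_lit 0) (nat_lit 0x4008010020001001) (nat_lit 17) (nat_lit 1)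 (nat_lit 0) (nat_lit 1) (nat_lit 0) (nat_lit 1) (nat_lit 0x20000000200000002000000020000) (.cD (nat_lit 17) (.cut (nat_lit 0)) (.cD (nat_lit 49) (.kA false (nat_lit 0x4f020030055001057030010036001028010020070001021001000004)) (.cD (nat_lit 81) (.kA false (nat_lit 0xd020010045001084004000028010020070001021001000004)) (.cD (nat_lit 113) (.kA false (nat_lit 0x1d020010075001084004000008010020040001003)) .nil))))) (.cD (nat_lit 127) (.dfs (nat_lit 8) (nat_lit 0x1004008010020) (nat_lit 0x100c008010020) (nat_lit 0x1002001) (nat_lit 0x100a019) (nat_lit 0) (nat_lit 0) (nat_lit 2) (nat_lit 0) (nat_lit 0x4008010020001001) (nat_lit 17) (nat_lit 1) (nat_lit 0) (nat_lit 1) (nat_lit 0) (nat_lit 1) (nat_lit 0x20000000200000002000000020000) (.cD (nat_lit 17) (.kA false (nat_lit 0x2d02001006500100c030020016001001010030040001084004000004)) (.cD (nat_lit 49) (.kA false (nat_lit 0x210100300400020da00200005f020030045002021001000004)) (.cD (nat_lit 81) (.kA false (nat_lit 0x210100300400020da00200007f020030045002003)) (.cD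 (nat_lit 113) (.kA false (nat_lit 0x1d020010075001084004000008010020040001003)) .nil))))) .nil))))) .nil)))
theorem c76 : (chk [(x23, s75)] [] p76).n x23 s76 = true := by decide +kernel
noncomputable def p77 : Pf := (.anc (nat_lit 136) (nat_lit 0x10004084004000002) (nat_lit 0x1007040020008) (.czp (nat_lit 128) (nat_lit 0) (nat_lit 0x1080040020010008004) z3 (.dfs (nat_lit 8) (nat_lit 4097) (nat_lit 4097) (nat_lit 1) (nat_lit 1) (nat_lit 0) (nat_lit 0) (nat_lit 3) (nat_lit 0) (nat_lit 0) (nat_lit 0) (nat_lit 1) (nat_lit 0) (nat_lit 0x1010008004) (nat_lit 0x10008084) (nat_lit 0x10000080020080000200000280020280000880020880000a00000a80020a80010100010700010900010f0) (nat_lit 0x1000001010000010100000000000000010000010100000100) (.cD (nat_lit 8) (.dfs (nat_lit 32) (nat_lit 4098) (nat_lit 4098) (nat_lit 4097) (nat_lit 4097) (nat_lit 0) (nat_lit 0) (nat_lit 3) (nat_lit 0) (nat_lit 0) (nat_lit 0) (nat_lit 1) (nat_lit 0) (nat_lit 1) (nat_lit 0) (nat_lit 1) (nat_lit 0x10100000101000001010000010100000101000001010000010100000100)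 (.cD (nat_lit 8) (.kc (nat_lit 40) (nat_lit 0x3001001)) (.cD (nat_lit 32) (.kF (nat_lit 32) (nat_lit 0x4010006084004000001006001003)) (.cD (nat_lit 40) (.kF (nat_lit 32) (nat_lit 0x2010006084004000001006001003)) (.cD (nat_lit 64) (.dfs (nat_lit 64) (nat_lit 4100) (nat_lit 4100) (nat_lit 0x1002001) (nat_lit 0x1002001) (nat_lit 0) (nat_lit 0) (nat_lit 3) (nat_lit 0) (nat_lit 0) (nat_lit 0) (nat_lit 1) (nat_lit 0) (nat_lit 1) (nat_lit 0) (nat_lit 1) (nat_lit 0x10100000101000001010000010100000101000001010000010100000100) (.cD (nat_lit 8) (.kc (nat_lit 72) (nat_lit 0x5001001)) (.cD (nat_lit 32) (.dfs (nat_lit 7) (nat_lit 0x1004002003008) (nat_lit 0x1006002003008) (nat_lit 4097) (nat_lit 4097) (nat_lit 0) (nat_lit 0) (nat_lit 2) (nat_lit 1) (nat_lit 0) (nat_lit 16) (nat_lit 1) (nat_lit 0) (nat_lit 4104) (nat_lit 8) (nat_lit 0x10000100000300000900000b0) (nat_lit 0x100000001000000000000000000000001000000010000) (.cD (nat_lit 16) (.kA false (nat_lit 0x3004002010001011011000003004002016002021001000004)) (.cD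 (nat_lit 48) (.kA false (nat_lit 0x1004002010001011011000001004002016002021001000004)) (.cD (nat_lit 144) (.cut (nat_lit 1)) (.cD (nat_lit 176) (.cut (nat_lit 0)) .nil))))) (.cD (nat_lit 40) (.kA false (nat_lit 0x6002003008001084004000002004008010005003)) (.cD (nat_lit 64) (.kc (nat_lit 96) (nat_lit 0x3001001)) (.cD (nat_lit 72) (.kc (nat_lit 104) (nat_lit 0x7001001)) (.cD (nat_lit 96) (.kA false (nat_lit 0x400300200800100400100300c001084004000003)) (.cD (nat_lit 104) (.kA false (nat_lit 0x2100100000600100300d0010da002000003)) (.cD (nat_lit 128) (.kc (nat_lit 200) (nat_lit 0x9001001)) (.cD (nat_lit 136) (.kc (nat_lit 192) (nat_lit 0xd001001)) (.cD (nat_lit 160) (.kc (nat_lit 128) (nat_lit 0x10020eb005000002)) (.cD (nat_lit 168) (.kc (nat_lit 128) (nat_lit 0xc00500f001021001000003)) (.cD (nat_lit 192) (.kc (nat_lit 232) (nat_lit 0xb001001)) (.cD (nat_lit 200) (.kc (nat_lit 224) (nat_lit 0xf001001)) (.cD (nat_lit 224) (.kc (nat_lit 128) (nat_lit 0x1002021001000002)) (.cD (nat_lit 232) (.kc (nat_lit 128)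 (nat_lit 0x200100f001021001000003)) .nil)))))))))))))))) (.cD (nat_lit 72) (.dfs (nat_lit 64) (nat_lit 4100) (nat_lit 4100) (nat_lit 0x1002001) (nat_lit 0x1002001) (nat_lit 0) (nat_lit 0) (nat_lit 3) (nat_lit 0) (nat_lit 0) (nat_lit 0) (nat_lit 1) (nat_lit 0) (nat_lit 1) (nat_lit 0) (nat_lit 1) (nat_lit 0x10100000101000001010000010100000101000001010000010100000100) (.cD (nat_lit 8) (.kc (nat_lit 72) (nat_lit 0x5001001)) (.cD (nat_lit 32) (.kA false (nat_lit 0x6002003008001084004000002004008010005003)) (.cD (nat_lit 40) (.dfs (nat_lit 7) (nat_lit 4102) (nat_lit 4100) (nat_lit 1) (nat_lit 1) (nat_lit 0) (nat_lit 0) (nat_lit 1) (nat_lit 4160) (nat_lit 0x800400200100080840da021) (nat_lit 0) (nat_lit 1) (nat_lit 0) (nat_lit 1) (nat_lit 0) (nat_lit 1) (nat_lit 0) .nil) (.cD (nat_lit 64) (.kc (nat_lit 104) (nat_lit 0x7001001)) (.cD (nat_lit 72) (.kc (nat_lit 96) (nat_lit 0x3001001)) (.cD (nat_lit 96) (.kA false (nat_lit 0x400300600800100400100300c001084004000003)) (.cD (nat_lit 104) (.kA false (nat_lit 0x2100100000600100300d0010da002000003))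 (.cD (nat_lit 128) (.kc (nat_lit 200) (nat_lit 0x9001001)) (.cD (nat_lit 136) (.kc (nat_lit 192) (nat_lit 0xd001001)) (.cD (nat_lit 160) (.kc (nat_lit 128) (nat_lit 0x10020eb005000002)) (.cD (nat_lit 168) (.kc (nat_lit 128) (nat_lit 0xc005003002021001000003)) (.cD (nat_lit 192) (.kc (nat_lit 224) (nat_lit 0xf001001)) (.cD (nat_lit 200) (.kc (nat_lit 232) (nat_lit 0xb001001)) (.cD (nat_lit 224) (.kc (nat_lit 128) (nat_lit 0x1002021001000002)) (.cD (nat_lit 232) (.kc (nat_lit 128) (nat_lit 0x600100f001021001000003)) .nil)))))))))))))))) (.cD (nat_lit 96) (.kF (nat_lit 8) (nat_lit 0x210010000010050010da00200000c0160040da002000005)) (.cD (nat_lit 104) (.kF (nat_lit 8) (nat_lit 0x21001000003007001007007000003)) (.cD (nat_lit 128) (.kc (nat_lit 168) (nat_lit 0x5001001)) (.cD (nat_lit 136) (.kc (nat_lit 160) (nat_lit 0x7001001)) (.cD (nat_lit 160) (.kc (nat_lit 128) (nat_lit 0x60030da0020000070010eb005000004)) (.cD (nat_lit 168) (.kc (nat_lit 128) (nat_lit 0xc0050da0020000070010eb005000004)) (.cD (nat_lit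 192) (.kc (nat_lit 128) (nat_lit 0x5001021001000006001003)) (.cD (nat_lit 200) (.kc (nat_lit 128) (nat_lit 0x70010eb005000002)) (.cD (nat_lit 224) (.kc (nat_lit 128) (nat_lit 0xc0050da002000001002021001000004)) (.cD (nat_lit 232) (.kc (nat_lit 128) (nat_lit 0xc0050070010eb005000003)) .nil)))))))))))))))) (.cD (nat_lit 32) (.kF (nat_lit 8) (nat_lit 0xd5003000001003001002)) (.cD (nat_lit 40) (.kF (nat_lit 8) (nat_lit 0xa0100060da002000001003001003)) (.cD (nat_lit 64) (.dfs (nat_lit 32) (nat_lit 4098) (nat_lit 4098) (nat_lit 4097) (nat_lit 4097) (nat_lit 0) (nat_lit 0) (nat_lit 3) (nat_lit 0) (nat_lit 0) (nat_lit 0) (nat_lit 1) (nat_lit 0) (nat_lit 0x1010008084) (nat_lit 0x10008004) (nat_lit 0x10000080020080000200000280020280000880020880000a00000a80020a80010100010700010900010f0) (nat_lit 0x1000001010000010100000000000000010000010100000100) (.cD (nat_lit 8) (.dfs (nat_lit 64) (nat_lit 4100) (nat_lit 4100) (nat_lit 0x1002001) (nat_lit 0x1002001) (nat_lit 0) (nat_lit 0) (nat_lit 3) (nat_lit 0) (nat_lit 0)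 (nat_lit 0) (nat_lit 1) (nat_lit 0) (nat_lit 1) (nat_lit 0) (nat_lit 1) (nat_lit 0x10100000101000001010000010100000101000001010000010100000100) (.cD (nat_lit 8) (.kc (nat_lit 96) (nat_lit 0x3001001)) (.cD (nat_lit 32) (.kA false (nat_lit 0x300400500c0020da002000002)) (.cD (nat_lit 40) (.kA false (nat_lit 0x100400700c0020da002000002)) (.cD (nat_lit 64) (.kc (nat_lit 72) (nat_lit 0x5001001)) (.cD (nat_lit 72) (.kc (nat_lit 104) (nat_lit 0x7001001)) (.cD (nat_lit 96) (.kA false (nat_lit 0x700400100c0020da002000002)) (.cD (nat_lit 104) (.dfs (nat_lit 7) (nat_lit 4100) (nat_lit 4102) (nat_lit 1) (nat_lit 1) (nat_lit 0) (nat_lit 0) (nat_lit 1) (nat_lit 4160) (nat_lit 0x800400200100080840da021) (nat_lit 0) (nat_lit 1) (nat_lit 0) (nat_lit 1) (nat_lit 0) (nat_lit 1) (nat_lit 0) .nil) (.cD (nat_lit 128) (.kc (nat_lit 200) (nat_lit 0x9001001)) (.cD (nat_lit 136) (.kc (nat_lit 232) (nat_lit 0xb001001)) (.cD (nat_lit 160) (.kc (nat_lit 128) (nat_lit 0x10020eb005000002)) (.cD (nat_lit 168) (.kc (nat_lit 128) (nat_lit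 0xc00500f001021001000003)) (.cD (nat_lit 192) (.kc (nat_lit 192) (nat_lit 0xd001001)) (.cD (nat_lit 200) (.kc (nat_lit 224) (nat_lit 0xf001001)) (.cD (nat_lit 224) (.kc (nat_lit 128) (nat_lit 0x1002021001000002)) (.cD (nat_lit 232) (.kc (nat_lit 128) (nat_lit 0xc005003002021001000003)) .nil)))))))))))))))) (.cD (nat_lit 32) (.kF (nat_lit 8) (nat_lit 0x21001000003007001007007000003)) (.cD (nat_lit 40) (.kF (nat_lit 32) (nat_lit 0xda002000001006001002)) (.cD (nat_lit 64) (.kc (nat_lit 40) (nat_lit 0x3001001)) (.cD (nat_lit 128) (.kc (nat_lit 168) (nat_lit 0x5001001)) (.cD (nat_lit 136) (.kc (nat_lit 128) (nat_lit 0x2001005001021001000004002004)) (.cD (nat_lit 160) (.kc (nat_lit 128) (nat_lit 0xc0050070010eb005000003)) (.cD (nat_lit 168) (.kc (nat_lit 128) (nat_lit 0x40040da0020000070010eb005000004)) (.cD (nat_lit 192) (.kc (nat_lit 160) (nat_lit 0x7001001)) .nil)))))))))) (.cD (nat_lit 128) (.kc (nat_lit 128) (nat_lit 0x3001001)) (.cD (nat_lit 136) (.kc (nat_lit 128) (nat_lit 0x4004084004000003001003))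 (.cD (nat_lit 160) (.kc (nat_lit 128) (nat_lit 0xc0050da002000003001003)) (.cD (nat_lit 168) (.kc (nat_lit 128) (nat_lit 0x60030da002000003001003)) (.cD (nat_lit 192) (.kc (nat_lit 128) (nat_lit 0x3001001)) .nil))))))))))))
theorem c77 : (chk [(x23, s63), (x23, s76)] [] p77).n x23 s77 = true := by decide +kernel
noncomputable def p78 : Pf := (.ext (nat_lit 0) (nat_lit 0) (nat_lit 0x1080020040010) (nat_lit 0x1002004008003001) (nat_lit 0x2003004008) (nat_lit 4111) (nat_lit 4111) (nat_lit 0xc004002001) (.dfs (nat_lit 15) (nat_lit 0x1002003004008) (nat_lit 0x100200300400c) (nat_lit 4097) (nat_lit 4097) (nat_lit 4) (nat_lit 0) (nat_lit 2) (nat_lit 0) (nat_lit 0) (nat_lit 15) (nat_lit 1) (nat_lit 0) (nat_lit 4224) (nat_lit 128) (nat_lit 0x100000f00001f00004f00005f) (nat_lit 0x800080000000000080008000) (.cD (nat_lit 15) (.cut (nat_lit 0)) (.cD (nat_lit 31) (.kS (nat_lit 0) (nat_lit 0x2006008010002008008000002) (nat_lit 4207) (nat_lit 0x8004002003) (nat_lit 0x800800000200400801000100100800800000200600801000d001004))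 (.cD (nat_lit 79) (.kS (nat_lit 0) (nat_lit 0x2006008010002008008000002) (nat_lit 4223) (nat_lit 0x8004002003) (nat_lit 0x800800000200400801000100100800800000200600801000f001004)) (.cD (nat_lit 95) (.iso x23 s77 (nat_lit 0) (nat_lit 0x1080040020010008004002041) (nat_lit 0x80040020010008004002041) [(nat_lit 0x10008004002005001001), (nat_lit 0x10008004002001003001)] (.cut (nat_lit 0))) .nil))))))
theorem c78 : (chk [(x23, s77)] [g10] p78).n x23 s78 = true := by decide +kernel
noncomputable def p79 : Pf := (.anc (nat_lit 136) (nat_lit 0x10002084004000002) (nat_lit 0x1007040020008) (.czp (nat_lit 128) (nat_lit 0) (nat_lit 0x1080040020010008004) z3 (.dfs (nat_lit 8) (nat_lit 4097) (nat_lit 4097) (nat_lit 1) (nat_lit 1) (nat_lit 0) (nat_lit 0) (nat_lit 3) (nat_lit 0) (nat_lit 0) (nat_lit 0) (nat_lit 1) (nat_lit 0) (nat_lit 0x1010008004) (nat_lit 0x10008084) (nat_lit 0x10000080020080000200000280020280000880020880000a00000a80020a80010100010700010900010f0) (nat_lit 0x1000001010000010100000000000000010000010100000100)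 (.cD (nat_lit 8) (.dfs (nat_lit 32) (nat_lit 4098) (nat_lit 4098) (nat_lit 4097) (nat_lit 4097) (nat_lit 0) (nat_lit 0) (nat_lit 3) (nat_lit 0) (nat_lit 0) (nat_lit 0) (nat_lit 1) (nat_lit 0) (nat_lit 1) (nat_lit 0) (nat_lit 1) (nat_lit 0x10100000101000001010000010100000101000001010000010100000100) (.cD (nat_lit 8) (.kc (nat_lit 40) (nat_lit 0x3001001)) (.cD (nat_lit 32) (.kF (nat_lit 32) (nat_lit 0x4010004084004000001006001003)) (.cD (nat_lit 40) (.kF (nat_lit 32) (nat_lit 0x2010004084004000001006001003)) (.cD (nat_lit 64) (.dfs (nat_lit 64) (nat_lit 4100) (nat_lit 4100) (nat_lit 0x1002001) (nat_lit 0x1002001) (nat_lit 0) (nat_lit 0) (nat_lit 3) (nat_lit 0) (nat_lit 0) (nat_lit 0) (nat_lit 1) (nat_lit 0) (nat_lit 1) (nat_lit 0) (nat_lit 1) (nat_lit 0x10100000101000001010000010100000101000001010000010100000100) (.cD (nat_lit 8) (.kc (nat_lit 72) (nat_lit 0x5001001)) (.cD (nat_lit 32) (.dfs (nat_lit 7) (nat_lit 0x1004002003008) (nat_lit 0x1006002003008) (nat_lit 4097) (nat_lit 4097) (nat_lit 1) (nat_lit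 0) (nat_lit 2) (nat_lit 1) (nat_lit 0) (nat_lit 16) (nat_lit 1) (nat_lit 0) (nat_lit 1) (nat_lit 0) (nat_lit 1) (nat_lit 0) .nil) (.cD (nat_lit 40) (.kA false (nat_lit 0x6002003008001084004000002004008010003003)) (.cD (nat_lit 64) (.kc (nat_lit 96) (nat_lit 0x3001001)) (.cD (nat_lit 72) (.kc (nat_lit 104) (nat_lit 0x7001001)) (.cD (nat_lit 96) (.kA false (nat_lit 0x400300200800100400100300c001084004000003)) (.cD (nat_lit 104) (.kA false (nat_lit 0x6100100000600100300d0010da002000003)) (.cD (nat_lit 128) (.kc (nat_lit 200) (nat_lit 0x9001001)) (.cD (nat_lit 136) (.kc (nat_lit 192) (nat_lit 0xd001001)) (.cD (nat_lit 160) (.kc (nat_lit 128) (nat_lit 0x10020ab005000002)) (.cD (nat_lit 168) (.kc (nat_lit 128) (nat_lit 0xc00300f001061001000003)) (.cD (nat_lit 192) (.kc (nat_lit 232) (nat_lit 0xb001001)) (.cD (nat_lit 200) (.kc (nat_lit 224) (nat_lit 0xf001001)) (.cD (nat_lit 224) (.kc (nat_lit 128) (nat_lit 0x1002061001000002)) (.cD (nat_lit 232) (.kc (nat_lit 128) (nat_lit 0x200100f001061001000003)) .nil))))))))))))))))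 (.cD (nat_lit 72) (.dfs (nat_lit 64) (nat_lit 4100) (nat_lit 4100) (nat_lit 0x1002001) (nat_lit 0x1002001) (nat_lit 0) (nat_lit 0) (nat_lit 3) (nat_lit 0) (nat_lit 0) (nat_lit 0) (nat_lit 1) (nat_lit 0) (nat_lit 1) (nat_lit 0) (nat_lit 1) (nat_lit 0x10100000101000001010000010100000101000001010000010100000100) (.cD (nat_lit 8) (.kc (nat_lit 72) (nat_lit 0x5001001)) (.cD (nat_lit 32) (.kA false (nat_lit 0x6002003008001084004000002004008010003003)) (.cD (nat_lit 40) (.dfs (nat_lit 7) (nat_lit 4102) (nat_lit 4100) (nat_lit 1) (nat_lit 1) (nat_lit 1) (nat_lit 0) (nat_lit 1) (nat_lit 4160) (nat_lit 0x800400200100080840da061) (nat_lit 0) (nat_lit 1) (nat_lit 0) (nat_lit 1) (nat_lit 0) (nat_lit 1) (nat_lit 0) .nil) (.cD (nat_lit 64) (.kc (nat_lit 104) (nat_lit 0x7001001)) (.cD (nat_lit 72) (.kc (nat_lit 96) (nat_lit 0x3001001)) (.cD (nat_lit 96) (.kA false (nat_lit 0x400300600800100400100300c001084004000003)) (.cD (nat_lit 104) (.kA false (nat_lit 0x6100100000600100300d0010da002000003)) (.cD (nat_lit 128) (.kc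 (nat_lit 200) (nat_lit 0x9001001)) (.cD (nat_lit 136) (.kc (nat_lit 192) (nat_lit 0xd001001)) (.cD (nat_lit 160) (.kc (nat_lit 128) (nat_lit 0x10020ab005000002)) (.cD (nat_lit 168) (.kc (nat_lit 128) (nat_lit 0xc003003002061001000003)) (.cD (nat_lit 192) (.kc (nat_lit 224) (nat_lit 0xf001001)) (.cD (nat_lit 200) (.kc (nat_lit 232) (nat_lit 0xb001001)) (.cD (nat_lit 224) (.kc (nat_lit 128) (nat_lit 0x1002061001000002)) (.cD (nat_lit 232) (.kc (nat_lit 128) (nat_lit 0x600100f001061001000003)) .nil)))))))))))))))) (.cD (nat_lit 96) (.kF (nat_lit 8) (nat_lit 0x610010000010050010da00200000600d0060da002000005)) (.cD (nat_lit 104) (.kF (nat_lit 8) (nat_lit 0x61001000003007001047007000003)) (.cD (nat_lit 128) (.kc (nat_lit 168) (nat_lit 0x5001001)) (.cD (nat_lit 136) (.kc (nat_lit 160) (nat_lit 0x7001001)) (.cD (nat_lit 160) (.kc (nat_lit 128) (nat_lit 0xc0050da0020000070010ab005000004)) (.cD (nat_lit 168) (.kc (nat_lit 128) (nat_lit 0xc0030da0020000070010ab005000004)) (.cD (nat_lit 192) (.kc (nat_lit 128)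 (nat_lit 0x5001061001000006001003)) (.cD (nat_lit 200) (.kc (nat_lit 128) (nat_lit 0x70010ab005000002)) (.cD (nat_lit 224) (.kc (nat_lit 128) (nat_lit 0xc0030da002000001002061001000004)) (.cD (nat_lit 232) (.kc (nat_lit 128) (nat_lit 0xc0030070010ab005000003)) .nil)))))))))))))))) (.cD (nat_lit 32) (.kF (nat_lit 8) (nat_lit 0x95003000001003001002)) (.cD (nat_lit 40) (.kF (nat_lit 8) (nat_lit 0xa0100040da002000001003001003)) (.cD (nat_lit 64) (.dfs (nat_lit 32) (nat_lit 4098) (nat_lit 4098) (nat_lit 4097) (nat_lit 4097) (nat_lit 0) (nat_lit 0) (nat_lit 3) (nat_lit 0) (nat_lit 0) (nat_lit 0) (nat_lit 1) (nat_lit 0) (nat_lit 0x1010008084) (nat_lit 0x10008004) (nat_lit 0x10000080020080000200000280020280000880020880000a00000a80020a80010100010700010900010f0) (nat_lit 0x1000001010000010100000000000000010000010100000100) (.cD (nat_lit 8) (.dfs (nat_lit 64) (nat_lit 4100) (nat_lit 4100) (nat_lit 0x1002001) (nat_lit 0x1002001) (nat_lit 0) (nat_lit 0) (nat_lit 3) (nat_lit 0) (nat_lit 0) (nat_lit 0) (nat_lit 1)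 (nat_lit 0) (nat_lit 1) (nat_lit 0) (nat_lit 1) (nat_lit 0x10100000101000001010000010100000101000001010000010100000100) (.cD (nat_lit 8) (.kc (nat_lit 96) (nat_lit 0x3001001)) (.cD (nat_lit 32) (.kA false (nat_lit 0x300400500c0020da002000002)) (.cD (nat_lit 40) (.kA false (nat_lit 0x100400700c0020da002000002)) (.cD (nat_lit 64) (.kc (nat_lit 72) (nat_lit 0x5001001)) (.cD (nat_lit 72) (.kc (nat_lit 104) (nat_lit 0x7001001)) (.cD (nat_lit 96) (.kA false (nat_lit 0x700400100c0020da002000002)) (.cD (nat_lit 104) (.dfs (nat_lit 7) (nat_lit 4100) (nat_lit 4102) (nat_lit 1) (nat_lit 1) (nat_lit 1) (nat_lit 0) (nat_lit 1) (nat_lit 4160) (nat_lit 0x800400200100080840da061) (nat_lit 0) (nat_lit 1) (nat_lit 0) (nat_lit 1) (nat_lit 0) (nat_lit 1) (nat_lit 0) .nil) (.cD (nat_lit 128) (.kc (nat_lit 200) (nat_lit 0x9001001)) (.cD (nat_lit 136) (.kc (nat_lit 232) (nat_lit 0xb001001)) (.cD (nat_lit 160) (.kc (nat_lit 128) (nat_lit 0x10020ab005000002)) (.cD (nat_lit 168) (.kc (nat_lit 128) (nat_lit 0xc00300f001061001000003))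 (.cD (nat_lit 192) (.kc (nat_lit 192) (nat_lit 0xd001001)) (.cD (nat_lit 200) (.kc (nat_lit 224) (nat_lit 0xf001001)) (.cD (nat_lit 224) (.kc (nat_lit 128) (nat_lit 0x1002061001000002)) (.cD (nat_lit 232) (.kc (nat_lit 128) (nat_lit 0xc003003002061001000003)) .nil)))))))))))))))) (.cD (nat_lit 32) (.kF (nat_lit 8) (nat_lit 0x61001000003007001047007000003)) (.cD (nat_lit 40) (.kF (nat_lit 32) (nat_lit 0xda002000001006001002)) (.cD (nat_lit 64) (.kc (nat_lit 40) (nat_lit 0x3001001)) (.cD (nat_lit 128) (.kc (nat_lit 168) (nat_lit 0x5001001)) (.cD (nat_lit 136) (.kc (nat_lit 128) (nat_lit 0x2001005001061001000004002004)) (.cD (nat_lit 160) (.kc (nat_lit 128) (nat_lit 0xc0030070010ab005000003)) (.cD (nat_lit 168) (.kc (nat_lit 128) (nat_lit 0x40060da0020000070010ab005000004)) (.cD (nat_lit 192) (.kc (nat_lit 160) (nat_lit 0x7001001)) .nil)))))))))) (.cD (nat_lit 128) (.kc (nat_lit 128) (nat_lit 0x3001001)) (.cD (nat_lit 136) (.kc (nat_lit 128) (nat_lit 0x4006084004000003001003)) (.cD (nat_lit 160) (.kc (nat_lit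 128) (nat_lit 0xc0030da002000003001003)) (.cD (nat_lit 168) (.kc (nat_lit 128) (nat_lit 0xc0050da002000003001003)) (.cD (nat_lit 192) (.kc (nat_lit 128) (nat_lit 0x3001001)) .nil))))))))))))
theorem c79 : (chk [] [] p79).n x32 s79 = true := by decide +kernel
noncomputable def p80 : Pf := (.lft (nat_lit 0x4001002000800207f001001001) (nat_lit 16) (nat_lit 0x1060040) (nat_lit 0x4002001000800404206d) (.extn a8 (nat_lit 0x40020010008004002001) (nat_lit 0x1008020010040) (nat_lit 2) (nat_lit 0) (nat_lit 0) (nat_lit 0) (nat_lit 0x1000000010000) (.cE (nat_lit 16) b10 (nat_lit 0) (.cut (nat_lit 0)) .nil (.cE (nat_lit 48) b25 (nat_lit 0) (.cut (nat_lit 1)) .nil .nil))))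
theorem c80 : (chk [(x23, s78), (x32, s79)] [] p80).n x22 s80 = true := by decide +kernel
noncomputable def p81 : Pf := (.ext (nat_lit 0) (nat_lit 0) (nat_lit 0x1040010020008003004) (nat_lit 0x2001000800400101b001001) (nat_lit 0x14008010038) (nat_lit 4097) (nat_lit 4102) (nat_lit 0x2801800801100f014) (.dfs (nat_lit 1) (nat_lit 0x1014008010038) (nat_lit 0x1009008018038) (nat_lit 0x1020004002001) (nat_lit 0x102801100f014) (nat_lit 37) (nat_lit 0) (nat_lit 2) (nat_lit 0) (nat_lit 0) (nat_lit 2) (nat_lit 1) (nat_lit 0) (nat_lit 4112) (nat_lit 16) (nat_lit 0x1000016) (nat_lit 0x400000) (.cD (nat_lit 22) (.cut (nat_lit 0)) .nil)))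
theorem c81 : (chk [(x22, s80)] [] p81).n x22 s81 = true := by decide +kernel
noncomputable def p82 : Pf := (.anc (nat_lit 136) (nat_lit 0x10002084004000002) (nat_lit 0x1017040020008) (.czp (nat_lit 128) (nat_lit 0) (nat_lit 0x1080040020010008004) z3 (.dfs (nat_lit 8) (nat_lit 4097) (nat_lit 4097) (nat_lit 1) (nat_lit 1) (nat_lit 0) (nat_lit 0) (nat_lit 3) (nat_lit 0) (nat_lit 0) (nat_lit 0) (nat_lit 1) (nat_lit 0) (nat_lit 0x1010008004) (nat_lit 0x10008084) (nat_lit 0x10000080020080000200000280020280000880020880000a00000a80020a80010100010700010900010f0) (nat_lit 0x1000001010000010100000000000000010000010100000100) (.cD (nat_lit 8) (.dfs (nat_lit 32) (nat_lit 4098) (nat_lit 4098) (nat_lit 4097) (nat_lit 4097) (nat_lit 0) (nat_lit 0) (nat_lit 3) (nat_lit 0) (nat_lit 0) (nat_lit 0) (nat_lit 1) (nat_lit 0) (nat_lit 1) (nat_lit 0) (nat_lit 1) (nat_lit 0x10100000101000001010000010100000101000001010000010100000100) (.cD (nat_lit 8) (.kc (nat_lit 40) (nat_lit 0x3001001)) (.cD (nat_lit 32) (.kF (nat_lit 32)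 (nat_lit 0x4010004084004000001006001003)) (.cD (nat_lit 40) (.kF (nat_lit 32) (nat_lit 0x2010004084004000001006001003)) (.cD (nat_lit 64) (.dfs (nat_lit 64) (nat_lit 4100) (nat_lit 4100) (nat_lit 0x1002001) (nat_lit 0x1002001) (nat_lit 0) (nat_lit 0) (nat_lit 3) (nat_lit 0) (nat_lit 0) (nat_lit 0) (nat_lit 1) (nat_lit 0) (nat_lit 1) (nat_lit 0) (nat_lit 1) (nat_lit 0x10100000101000001010000010100000101000001010000010100000100) (.cD (nat_lit 8) (.kc (nat_lit 72) (nat_lit 0x5001001)) (.cD (nat_lit 32) (.dfs (nat_lit 23) (nat_lit 0x1004002003008) (nat_lit 0x1006002003008) (nat_lit 4097) (nat_lit 4097) (nat_lit 2) (nat_lit 0) (nat_lit 2) (nat_lit 1) (nat_lit 0) (nat_lit 16) (nat_lit 1) (nat_lit 0) (nat_lit 4104) (nat_lit 8) (nat_lit 0x10000180000380000980000b8) (nat_lit 0x10000000100000000000000000000000100000001000000) (.cD (nat_lit 24) (.kA false (nat_lit 0xb00400201000100100100000f004002016002001001000004)) (.cD (nat_lit 56) (.kA false (nat_lit 0x900400201000100100100000d004002016002001001000004)) (.cD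 (nat_lit 152) (.kA false (nat_lit 0xda00200001d00400201400101001000001f004002016002001001000005)) (.cD (nat_lit 184) (.kA false (nat_lit 0xda00200001f00400201400101001000001d004002016002001001000005)) .nil))))) (.cD (nat_lit 40) (.kA false (nat_lit 0x6002003008001084004000002004008010003003)) (.cD (nat_lit 64) (.kc (nat_lit 96) (nat_lit 0x3001001)) (.cD (nat_lit 72) (.kc (nat_lit 104) (nat_lit 0x7001001)) (.cD (nat_lit 96) (.kA false (nat_lit 0x400300200800100400100300c001084004000003)) (.cD (nat_lit 104) (.kA false (nat_lit 0x100100000600100300d0010da002000003)) (.cD (nat_lit 128) (.kc (nat_lit 200) (nat_lit 0x9001001)) (.cD (nat_lit 136) (.kc (nat_lit 192) (nat_lit 0xd001001)) (.cD (nat_lit 160) (.kc (nat_lit 128) (nat_lit 0x1002013005000002)) (.cD (nat_lit 168) (.kc (nat_lit 128) (nat_lit 0xc00300f001001001000003)) (.cD (nat_lit 192) (.kc (nat_lit 232) (nat_lit 0xb001001)) (.cD (nat_lit 200) (.kc (nat_lit 224) (nat_lit 0xf001001)) (.cD (nat_lit 224) (.kc (nat_lit 128) (nat_lit 0x1002001001000002))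 (.cD (nat_lit 232) (.kc (nat_lit 128) (nat_lit 0x200100f001001001000003)) .nil)))))))))))))))) (.cD (nat_lit 72) (.dfs (nat_lit 64) (nat_lit 4100) (nat_lit 4100) (nat_lit 0x1002001) (nat_lit 0x1002001) (nat_lit 0) (nat_lit 0) (nat_lit 3) (nat_lit 0) (nat_lit 0) (nat_lit 0) (nat_lit 1) (nat_lit 0) (nat_lit 1) (nat_lit 0) (nat_lit 1) (nat_lit 0x10100000101000001010000010100000101000001010000010100000100) (.cD (nat_lit 8) (.kc (nat_lit 72) (nat_lit 0x5001001)) (.cD (nat_lit 32) (.kA false (nat_lit 0x6002003008001084004000002004008010003003)) (.cD (nat_lit 40) (.dfs (nat_lit 23) (nat_lit 4102) (nat_lit 4100) (nat_lit 1) (nat_lit 1) (nat_lit 2) (nat_lit 0) (nat_lit 1) (nat_lit 4160) (nat_lit 0x800400200100080840da001) (nat_lit 0) (nat_lit 1) (nat_lit 0) (nat_lit 1) (nat_lit 0) (nat_lit 1) (nat_lit 0) .nil) (.cD (nat_lit 64) (.kc (nat_lit 104) (nat_lit 0x7001001)) (.cD (nat_lit 72) (.kc (nat_lit 96) (nat_lit 0x3001001)) (.cD (nat_lit 96) (.kA false (nat_lit 0x400300600800100400100300c001084004000003)) (.cD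 (nat_lit 104) (.kA false (nat_lit 0x100100000600100300d0010da002000003)) (.cD (nat_lit 128) (.kc (nat_lit 200) (nat_lit 0x9001001)) (.cD (nat_lit 136) (.kc (nat_lit 192) (nat_lit 0xd001001)) (.cD (nat_lit 160) (.kc (nat_lit 128) (nat_lit 0x1002013005000002)) (.cD (nat_lit 168) (.kc (nat_lit 128) (nat_lit 0xc003003002001001000003)) (.cD (nat_lit 192) (.kc (nat_lit 224) (nat_lit 0xf001001)) (.cD (nat_lit 200) (.kc (nat_lit 232) (nat_lit 0xb001001)) (.cD (nat_lit 224) (.kc (nat_lit 128) (nat_lit 0x1002001001000002)) (.cD (nat_lit 232) (.kc (nat_lit 128) (nat_lit 0x600100f001001001000003)) .nil)))))))))))))))) (.cD (nat_lit 96) (.kF (nat_lit 8) (nat_lit 0x10010000010050010da00200000600d0060da002000005)) (.cD (nat_lit 104) (.kF (nat_lit 8) (nat_lit 0x100100000300700103f03f000003)) (.cD (nat_lit 128) (.kc (nat_lit 168) (nat_lit 0x5001001)) (.cD (nat_lit 136) (.kc (nat_lit 160) (nat_lit 0x7001001)) (.cD (nat_lit 160) (.kc (nat_lit 128) (nat_lit 0xc0050da002000007001013005000004)) (.cD (nat_lit 168) (.kc (nat_lit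 128) (nat_lit 0xc0030da002000007001013005000004)) (.cD (nat_lit 192) (.kc (nat_lit 128) (nat_lit 0x50010da002000016004003)) (.cD (nat_lit 200) (.kc (nat_lit 128) (nat_lit 0x7001013005000002)) (.cD (nat_lit 224) (.kc (nat_lit 128) (nat_lit 0xc0030da002000001002001001000004)) (.cD (nat_lit 232) (.kc (nat_lit 128) (nat_lit 0xc003007001013005000003)) .nil)))))))))))))))) (.cD (nat_lit 32) (.kF (nat_lit 8) (nat_lit 0x6d003000001003001002)) (.cD (nat_lit 40) (.kF (nat_lit 8) (nat_lit 0xa0100040da002000001003001003)) (.cD (nat_lit 64) (.dfs (nat_lit 32) (nat_lit 4098) (nat_lit 4098) (nat_lit 4097) (nat_lit 4097) (nat_lit 0) (nat_lit 0) (nat_lit 3) (nat_lit 0) (nat_lit 0) (nat_lit 0) (nat_lit 1) (nat_lit 0) (nat_lit 0x1010008084) (nat_lit 0x10008004) (nat_lit 0x10000080020080000200000280020280000880020880000a00000a80020a80010100010700010900010f0) (nat_lit 0x1000001010000010100000000000000010000010100000100) (.cD (nat_lit 8) (.dfs (nat_lit 64) (nat_lit 4100) (nat_lit 4100) (nat_lit 0x1002001) (nat_lit 0x1002001)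 (nat_lit 0) (nat_lit 0) (nat_lit 3) (nat_lit 0) (nat_lit 0) (nat_lit 0) (nat_lit 1) (nat_lit 0) (nat_lit 1) (nat_lit 0) (nat_lit 1) (nat_lit 0x10100000101000001010000010100000101000001010000010100000100) (.cD (nat_lit 8) (.kc (nat_lit 96) (nat_lit 0x3001001)) (.cD (nat_lit 32) (.kA false (nat_lit 0x300400500c0020da002000002)) (.cD (nat_lit 40) (.kA false (nat_lit 0x100400700c0020da002000002)) (.cD (nat_lit 64) (.kc (nat_lit 72) (nat_lit 0x5001001)) (.cD (nat_lit 72) (.kc (nat_lit 104) (nat_lit 0x7001001)) (.cD (nat_lit 96) (.kA false (nat_lit 0x700400100c0020da002000002)) (.cD (nat_lit 104) (.dfs (nat_lit 23) (nat_lit 4100) (nat_lit 4102) (nat_lit 1) (nat_lit 1) (nat_lit 2) (nat_lit 0) (nat_lit 1) (nat_lit 4160) (nat_lit 0x800400200100080840da001) (nat_lit 0) (nat_lit 1) (nat_lit 0) (nat_lit 1) (nat_lit 0) (nat_lit 1) (nat_lit 0) .nil) (.cD (nat_lit 128) (.kc (nat_lit 200) (nat_lit 0x9001001)) (.cD (nat_lit 136) (.kc (nat_lit 232) (nat_lit 0xb001001)) (.cD (nat_lit 160) (.kc (nat_lit 128) (nat_lit 0x1002013005000002))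 (.cD (nat_lit 168) (.kc (nat_lit 128) (nat_lit 0xc00300f001001001000003)) (.cD (nat_lit 192) (.kc (nat_lit 192) (nat_lit 0xd001001)) (.cD (nat_lit 200) (.kc (nat_lit 224) (nat_lit 0xf001001)) (.cD (nat_lit 224) (.kc (nat_lit 128) (nat_lit 0x1002001001000002)) (.cD (nat_lit 232) (.kc (nat_lit 128) (nat_lit 0xc003003002001001000003)) .nil)))))))))))))))) (.cD (nat_lit 32) (.kF (nat_lit 8) (nat_lit 0x100100000300700103f03f000003)) (.cD (nat_lit 40) (.kF (nat_lit 32) (nat_lit 0xda002000001006001002)) (.cD (nat_lit 64) (.kc (nat_lit 40) (nat_lit 0x3001001)) (.cD (nat_lit 128) (.kc (nat_lit 168) (nat_lit 0x5001001)) (.cD (nat_lit 136) (.kc (nat_lit 128) (nat_lit 0xc0030da002000001002004002004)) (.cD (nat_lit 160) (.kc (nat_lit 128) (nat_lit 0xc003007001013005000003)) (.cD (nat_lit 168) (.kc (nat_lit 128) (nat_lit 0x40060da002000007001013005000004)) (.cD (nat_lit 192) (.kc (nat_lit 160) (nat_lit 0x7001001)) .nil)))))))))) (.cD (nat_lit 128) (.kc (nat_lit 128) (nat_lit 0x3001001)) (.cD (nat_lit 136) (.kc (nat_lit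 128) (nat_lit 0x4006084004000003001003)) (.cD (nat_lit 160) (.kc (nat_lit 128) (nat_lit 0xc0030da002000003001003)) (.cD (nat_lit 168) (.kc (nat_lit 128) (nat_lit 0xc0050da002000003001003)) (.cD (nat_lit 192) (.kc (nat_lit 128) (nat_lit 0x3001001)) .nil))))))))))))
theorem c82 : (chk [] [] p82).n x33 s82 = true := by decide +kernel
noncomputable def p83 : Pf := (.anc (nat_lit 136) (nat_lit 0x10002084004000002) (nat_lit 0x1017040020008) (.czp (nat_lit 128) (nat_lit 0) (nat_lit 0x1080040020010008004) z3 (.dfs (nat_lit 8) (nat_lit 4097) (nat_lit 4097) (nat_lit 1) (nat_lit 1) (nat_lit 0) (nat_lit 0) (nat_lit 3) (nat_lit 0) (nat_lit 0) (nat_lit 0) (nat_lit 1) (nat_lit 0) (nat_lit 0x1010008004) (nat_lit 0x10008084) (nat_lit 0x10000080020080000200000280020280000880020880000a00000a80020a80010100010700010900010f0) (nat_lit 0x1000001010000010100000000000000010000010100000100) (.cD (nat_lit 8) (.dfs (nat_lit 32) (nat_lit 4098) (nat_lit 4098) (nat_lit 4097) (nat_lit 4097) (nat_lit 0) (nat_lit 0) (nat_lit 3) (nat_lit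 0) (nat_lit 0) (nat_lit 0) (nat_lit 1) (nat_lit 0) (nat_lit 1) (nat_lit 0) (nat_lit 1) (nat_lit 0x10100000101000001010000010100000101000001010000010100000100) (.cD (nat_lit 8) (.kc (nat_lit 40) (nat_lit 0x3001001)) (.cD (nat_lit 32) (.kF (nat_lit 32) (nat_lit 0x4010004084004000001006001003)) (.cD (nat_lit 40) (.kF (nat_lit 32) (nat_lit 0x2010004084004000001006001003)) (.cD (nat_lit 64) (.dfs (nat_lit 64) (nat_lit 4100) (nat_lit 4100) (nat_lit 0x1002001) (nat_lit 0x1002001) (nat_lit 0) (nat_lit 0) (nat_lit 3) (nat_lit 0) (nat_lit 0) (nat_lit 0) (nat_lit 1) (nat_lit 0) (nat_lit 1) (nat_lit 0) (nat_lit 1) (nat_lit 0x10100000101000001010000010100000101000001010000010100000100) (.cD (nat_lit 8) (.kc (nat_lit 72) (nat_lit 0x5001001)) (.cD (nat_lit 32) (.dfs (nat_lit 23) (nat_lit 0x1004002003008) (nat_lit 0x1006002003008) (nat_lit 4097) (nat_lit 4097) (nat_lit 3) (nat_lit 0) (nat_lit 2) (nat_lit 1) (nat_lit 0) (nat_lit 16) (nat_lit 1) (nat_lit 0) (nat_lit 1) (nat_lit 0) (nat_lit 1) (nat_lit 0) .nil) (.cD (nat_lit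 40) (.kA false (nat_lit 0x6002003008001084004000002004008010003003)) (.cD (nat_lit 64) (.kc (nat_lit 96) (nat_lit 0x3001001)) (.cD (nat_lit 72) (.kc (nat_lit 104) (nat_lit 0x7001001)) (.cD (nat_lit 96) (.kA false (nat_lit 0x400300200800100400100300c001084004000003)) (.cD (nat_lit 104) (.kA false (nat_lit 0x4100100000600100300d0010da002000003)) (.cD (nat_lit 128) (.kc (nat_lit 200) (nat_lit 0x9001001)) (.cD (nat_lit 136) (.kc (nat_lit 192) (nat_lit 0xd001001)) (.cD (nat_lit 160) (.kc (nat_lit 128) (nat_lit 0x1002053005000002)) (.cD (nat_lit 168) (.kc (nat_lit 128) (nat_lit 0xc00300f001041001000003)) (.cD (nat_lit 192) (.kc (nat_lit 232) (nat_lit 0xb001001)) (.cD (nat_lit 200) (.kc (nat_lit 224) (nat_lit 0xf001001)) (.cD (nat_lit 224) (.kc (nat_lit 128) (nat_lit 0x1002041001000002)) (.cD (nat_lit 232) (.kc (nat_lit 128) (nat_lit 0x200100f001041001000003)) .nil)))))))))))))))) (.cD (nat_lit 72) (.dfs (nat_lit 64) (nat_lit 4100) (nat_lit 4100) (nat_lit 0x1002001) (nat_lit 0x1002001) (nat_lit 0) (nat_lit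 0) (nat_lit 3) (nat_lit 0) (nat_lit 0) (nat_lit 0) (nat_lit 1) (nat_lit 0) (nat_lit 1) (nat_lit 0) (nat_lit 1) (nat_lit 0x10100000101000001010000010100000101000001010000010100000100) (.cD (nat_lit 8) (.kc (nat_lit 72) (nat_lit 0x5001001)) (.cD (nat_lit 32) (.kA false (nat_lit 0x6002003008001084004000002004008010003003)) (.cD (nat_lit 40) (.dfs (nat_lit 23) (nat_lit 4102) (nat_lit 4100) (nat_lit 1) (nat_lit 1) (nat_lit 3) (nat_lit 0) (nat_lit 1) (nat_lit 4160) (nat_lit 0x800400200100080840da041) (nat_lit 0) (nat_lit 1) (nat_lit 0) (nat_lit 1) (nat_lit 0) (nat_lit 1) (nat_lit 0) .nil) (.cD (nat_lit 64) (.kc (nat_lit 104) (nat_lit 0x7001001)) (.cD (nat_lit 72) (.kc (nat_lit 96) (nat_lit 0x3001001)) (.cD (nat_lit 96) (.kA false (nat_lit 0x400300600800100400100300c001084004000003)) (.cD (nat_lit 104) (.kA false (nat_lit 0x4100100000600100300d0010da002000003)) (.cD (nat_lit 128) (.kc (nat_lit 200) (nat_lit 0x9001001)) (.cD (nat_lit 136) (.kc (nat_lit 192) (nat_lit 0xd001001)) (.cD (nat_lit 160) (.kc (nat_lit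 128) (nat_lit 0x1002053005000002)) (.cD (nat_lit 168) (.kc (nat_lit 128) (nat_lit 0xc003003002041001000003)) (.cD (nat_lit 192) (.kc (nat_lit 224) (nat_lit 0xf001001)) (.cD (nat_lit 200) (.kc (nat_lit 232) (nat_lit 0xb001001)) (.cD (nat_lit 224) (.kc (nat_lit 128) (nat_lit 0x1002041001000002)) (.cD (nat_lit 232) (.kc (nat_lit 128) (nat_lit 0x600100f001041001000003)) .nil)))))))))))))))) (.cD (nat_lit 96) (.kF (nat_lit 8) (nat_lit 0x410010000010050010da00200000600d0060da002000005)) (.cD (nat_lit 104) (.kF (nat_lit 8) (nat_lit 0x4100100000300700107f03f000003)) (.cD (nat_lit 128) (.kc (nat_lit 168) (nat_lit 0x5001001)) (.cD (nat_lit 136) (.kc (nat_lit 160) (nat_lit 0x7001001)) (.cD (nat_lit 160) (.kc (nat_lit 128) (nat_lit 0xc0050da002000007001053005000004)) (.cD (nat_lit 168) (.kc (nat_lit 128) (nat_lit 0xc0030da002000007001053005000004)) (.cD (nat_lit 192) (.kc (nat_lit 128) (nat_lit 0x50010da002000016004003)) (.cD (nat_lit 200) (.kc (nat_lit 128) (nat_lit 0x7001053005000002)) (.cD (nat_lit 224) (.kc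 (nat_lit 128) (nat_lit 0xc0030da002000001002041001000004)) (.cD (nat_lit 232) (.kc (nat_lit 128) (nat_lit 0xc003007001053005000003)) .nil)))))))))))))))) (.cD (nat_lit 32) (.kF (nat_lit 8) (nat_lit 0x2d003000001003001002)) (.cD (nat_lit 40) (.kF (nat_lit 8) (nat_lit 0xa0100040da002000001003001003)) (.cD (nat_lit 64) (.dfs (nat_lit 32) (nat_lit 4098) (nat_lit 4098) (nat_lit 4097) (nat_lit 4097) (nat_lit 0) (nat_lit 0) (nat_lit 3) (nat_lit 0) (nat_lit 0) (nat_lit 0) (nat_lit 1) (nat_lit 0) (nat_lit 0x1010008084) (nat_lit 0x10008004) (nat_lit 0x10000080020080000200000280020280000880020880000a00000a80020a80010100010700010900010f0) (nat_lit 0x1000001010000010100000000000000010000010100000100) (.cD (nat_lit 8) (.dfs (nat_lit 64) (nat_lit 4100) (nat_lit 4100) (nat_lit 0x1002001) (nat_lit 0x1002001) (nat_lit 0) (nat_lit 0) (nat_lit 3) (nat_lit 0) (nat_lit 0) (nat_lit 0) (nat_lit 1) (nat_lit 0) (nat_lit 1) (nat_lit 0) (nat_lit 1) (nat_lit 0x10100000101000001010000010100000101000001010000010100000100) (.cD (nat_lit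 8) (.kc (nat_lit 96) (nat_lit 0x3001001)) (.cD (nat_lit 32) (.kA false (nat_lit 0x300400500c0020da002000002)) (.cD (nat_lit 40) (.kA false (nat_lit 0x100400700c0020da002000002)) (.cD (nat_lit 64) (.kc (nat_lit 72) (nat_lit 0x5001001)) (.cD (nat_lit 72) (.kc (nat_lit 104) (nat_lit 0x7001001)) (.cD (nat_lit 96) (.kA false (nat_lit 0x700400100c0020da002000002)) (.cD (nat_lit 104) (.dfs (nat_lit 23) (nat_lit 4100) (nat_lit 4102) (nat_lit 1) (nat_lit 1) (nat_lit 3) (nat_lit 0) (nat_lit 1) (nat_lit 4160) (nat_lit 0x800400200100080840da041) (nat_lit 0) (nat_lit 1) (nat_lit 0) (nat_lit 1) (nat_lit 0) (nat_lit 1) (nat_lit 0) .nil) (.cD (nat_lit 128) (.kc (nat_lit 200) (nat_lit 0x9001001)) (.cD (nat_lit 136) (.kc (nat_lit 232) (nat_lit 0xb001001)) (.cD (nat_lit 160) (.kc (nat_lit 128) (nat_lit 0x1002053005000002)) (.cD (nat_lit 168) (.kc (nat_lit 128) (nat_lit 0xc00300f001041001000003)) (.cD (nat_lit 192) (.kc (nat_lit 192) (nat_lit 0xd001001)) (.cD (nat_lit 200) (.kc (nat_lit 224) (nat_lit 0xf001001)) (.cD (nat_lit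 224) (.kc (nat_lit 128) (nat_lit 0x1002041001000002)) (.cD (nat_lit 232) (.kc (nat_lit 128) (nat_lit 0xc003003002041001000003)) .nil)))))))))))))))) (.cD (nat_lit 32) (.kF (nat_lit 8) (nat_lit 0x4100100000300700107f03f000003)) (.cD (nat_lit 40) (.kF (nat_lit 32) (nat_lit 0xda002000001006001002)) (.cD (nat_lit 64) (.kc (nat_lit 40) (nat_lit 0x3001001)) (.cD (nat_lit 128) (.kc (nat_lit 168) (nat_lit 0x5001001)) (.cD (nat_lit 136) (.kc (nat_lit 128) (nat_lit 0xc0030da002000001002004002004)) (.cD (nat_lit 160) (.kc (nat_lit 128) (nat_lit 0xc003007001053005000003)) (.cD (nat_lit 168) (.kc (nat_lit 128) (nat_lit 0x40060da002000007001053005000004)) (.cD (nat_lit 192) (.kc (nat_lit 160) (nat_lit 0x7001001)) .nil)))))))))) (.cD (nat_lit 128) (.kc (nat_lit 128) (nat_lit 0x3001001)) (.cD (nat_lit 136) (.kc (nat_lit 128) (nat_lit 0x4006084004000003001003)) (.cD (nat_lit 160) (.kc (nat_lit 128) (nat_lit 0xc0030da002000003001003)) (.cD (nat_lit 168) (.kc (nat_lit 128) (nat_lit 0xc0050da002000003001003)) (.cD (nat_lit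 192) (.kc (nat_lit 128) (nat_lit 0x3001001)) .nil))))))))))))
theorem c83 : (chk [] [] p83).n x34 s83 = true := by decide +kernel
noncomputable def p84 : Pf := (.lft (nat_lit 0x4001002000800207f001001001) (nat_lit 0) (nat_lit 0x1060040) (nat_lit 0x4002001000800404206d) (.extn a7 (nat_lit 0x40020010008004002001) (nat_lit 0x1008020010040) (nat_lit 2) (nat_lit 0) (nat_lit 0) (nat_lit 0) (nat_lit 0x100000001) (.cE (nat_lit 0) b8 (nat_lit 0) (.cut (nat_lit 0)) .nil (.cE (nat_lit 32) b9 (nat_lit 0) (.cut (nat_lit 1)) .nil .nil))))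
theorem c84 : (chk [(x33, s82), (x34, s83)] [] p84).n x22 s84 = true := by decide +kernel
noncomputable def p85 : Pf := (.ext (nat_lit 0) (nat_lit 0) (nat_lit 0x1040010020008003004) (nat_lit 0x2001000800400101b001001) (nat_lit 0x14008010038) (nat_lit 4097) (nat_lit 4170) (nat_lit 0x2801800801100f014) (.dfs (nat_lit 1) (nat_lit 0x1014008010038) (nat_lit 0x1009008018038) (nat_lit 0x1020004002001) (nat_lit 0x102801100f014) (nat_lit 37) (nat_lit 0) (nat_lit 2) (nat_lit 0) (nat_lit 0) (nat_lit 10) (nat_lit 1) (nat_lit 0) (nat_lit 4112) (nat_lit 16) (nat_lit 0x100005a) (nat_lit 0x40000000000000000000000) (.cD (nat_lit 90) (.cut (nat_lit 0)) .nil)))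
theorem c85 : (chk [(x22, s84)] [] p85).n x22 s85 = true := by decide +kernel
noncomputable def p86 : Pf := (.ext (nat_lit 0) (nat_lit 0) (nat_lit 0x1040010020008007) (nat_lit 0x1200800c00e001001010008004002001001002) (nat_lit 0xa00400801c) (nat_lit 4099) (nat_lit 4099) (nat_lit 0x1400800400e00d) (.dfs (nat_lit 3) (nat_lit 0x100a00400801c) (nat_lit 0x1006004008018) (nat_lit 0x1010002001) (nat_lit 0x101400e00d) (nat_lit 12) (nat_lit 0) (nat_lit 2) (nat_lit 0) (nat_lit 0) (nat_lit 3) (nat_lit 1) (nat_lit 0) (nat_lit 1) (nat_lit 0) (nat_lit 1) (nat_lit 0x8000800080008) (.cD (nat_lit 3) (.cut (nat_lit 1)) (.cD (nat_lit 19) (.kA false (nat_lit 0x1300801803800106d001000004008010020001003)) (.cD (nat_lit 35) (.cut (nat_lit 0)) (.cD (nat_lit 51) (.kA false (nat_lit 0x1300801803800106d001000004008010020001003)) .nil))))))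
theorem c86 : (chk [(x22, s81), (x22, s85)] [] p86).n x22 s86 = true := by decide +kernel
noncomputable def p87 : Pf := (.ext (nat_lit 0) (nat_lit 0) (nat_lit 0x1040010020008) (nat_lit 0x500200e00a001033003000001002004008001003) (nat_lit 0x300600400b) (nat_lit 4103) (nat_lit 4103) (nat_lit 0xa004002005) (.dfs (nat_lit 7) (nat_lit 0x100300600400b) (nat_lit 0x100700600400d) (nat_lit 0x1008002001) (nat_lit 0x100a002005) (nat_lit 0) (nat_lit 0) (nat_lit 2) (nat_lit 0) (nat_lit 0) (nat_lit 7) (nat_lit 1) (nat_lit 0) (nat_lit 0x1040008) (nat_lit 0x40008) (nat_lit 0x1000007001007001017) (nat_lit 128) (.cD (nat_lit 7) (.cut (nat_lit 0)) .nil)))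
theorem c87 : (chk [(x22, s86)] [] p87).n x22 s87 = true := by decide +kernel
noncomputable def p88 : Pf := (.clm (.cut (nat_lit 0)) (.dfs (nat_lit 32) (nat_lit 1) (nat_lit 1) (nat_lit 1) (nat_lit 1) (nat_lit 0) (nat_lit 0) (nat_lit 0) (nat_lit 0) (nat_lit 0) (nat_lit 0) (nat_lit 1) (nat_lit 0) (nat_lit 0x1004002001) (nat_lit 0x4002021) (nat_lit 0x100000200200200000800000a00200a00002200202200002800002a00202a00100400101c00102400103c) (nat_lit 0x1050500010504) (.cD (nat_lit 2) (.kc (nat_lit 32) (nat_lit 0x4004021001000001001003)) (.cD (nat_lit 8) (.kn (nat_lit 1) (nat_lit 0x1020010008004002001) false (nat_lit 4097) (nat_lit 33) (nat_lit 0x1000008)) (.cD (nat_lit 10) (.kn (nat_lit 1) (nat_lit 0x1020010008004002001) false (nat_lit 4097) (nat_lit 33) (nat_lit 0x100000a)) (.cD (nat_lit 16) (.kc (nat_lit 32) (nat_lit 0x1001001)) (.cD (nat_lit 32) (.kin (nat_lit 1) (nat_lit 0)) (.cD (nat_lit 34) (.kn (nat_lit 1) (nat_lit 0x1020010008004002001) false (nat_lit 4097) (nat_lit 33) (nat_lit 0x1000022)) (.cD (nat_lit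 40) (.kn (nat_lit 1) (nat_lit 0x1020010008004002001) false (nat_lit 4097) (nat_lit 33) (nat_lit 0x1000028)) (.cD (nat_lit 42) (.kn (nat_lit 1) (nat_lit 0x1020010008004002001) false (nat_lit 4097) (nat_lit 33) (nat_lit 0x100002a)) (.cD (nat_lit 48) (.dfs (nat_lit 3) (nat_lit 1) (nat_lit 1) (nat_lit 4097) (nat_lit 4097) (nat_lit 0) (nat_lit 2) (nat_lit 0) (nat_lit 0) (nat_lit 0) (nat_lit 0) (nat_lit 1) (nat_lit 0) (nat_lit 0x1008002001) (nat_lit 0x8002021) (nat_lit 0x100000300200300000b00100b00200b00002300202300002b00102b00202b002005002025) (nat_lit 0x80800000808) (.cD (nat_lit 3) (.mulh (nat_lit 1) (nat_lit 1) (.mulh (nat_lit 1) (nat_lit 1) (.czs (nat_lit 3) z1 (nat_lit 16) (.dfs (nat_lit 4) (nat_lit 4100) (nat_lit 4111) (nat_lit 0x1008002001) (nat_lit 0x1008003001) (nat_lit 0) (nat_lit 0) (nat_lit 3) (nat_lit 0) (nat_lit 0) (nat_lit 9) (nat_lit 1) (nat_lit 0) (nat_lit 0x1006003) (nat_lit 90149) (nat_lit 0x100000a00100a00002a00102a00100c00102c) (nat_lit 0x40000000400) (.cD (nat_lit 10) (.dfs (nat_lit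 8) (nat_lit 4104) (nat_lit 4106) (nat_lit 0x1010004002001) (nat_lit 0x1010004002001) (nat_lit 0) (nat_lit 0) (nat_lit 3) (nat_lit 0) (nat_lit 0) (nat_lit 8) (nat_lit 1) (nat_lit 0) (nat_lit 1) (nat_lit 0) (nat_lit 1) (nat_lit 0x100010001000100) (.cD (nat_lit 8) (.kA false (nat_lit 0x600100502400100c00200600500400400102a00f00102100100000400600800b00402b02a02f00a00102100100000a00400600500302a00400502000102100100000a)) (.cD (nat_lit 24) (.extn a6 (nat_lit 0x2000400100202a012) (nat_lit 0x1004010008020) (nat_lit 2) (nat_lit 0) (nat_lit 0) (nat_lit 2) (nat_lit 0x40004000000000) (.cE (nat_lit 38) b7 (nat_lit 0) (.cut (nat_lit 4)) .nil (.cE (nat_lit 54) (nat_lit 0x1700800b01400d00200100e00f01001300c01501a01901600701801b00401d01201101e01f00000301c00500a00900602703803b02403d03203103e03f02002303c02502a02902603702802b03402d02202102e02f03003302c03503a039036) (nat_lit 0) (.iso x22 s87 (nat_lit 3) (nat_lit 0x1040020010008004002041) (nat_lit 0x40020010008004002041) [(nat_lit 0x8004002001003001)] (.cut (nat_lit 4)))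 .nil .nil))) (.cD (nat_lit 40) (.kc (nat_lit 32) (nat_lit 0x400400f001022001005003020001005)) (.cD (nat_lit 56) (.kc (nat_lit 32) (nat_lit 0xc00300f001022001005003020001005)) .nil))))) (.cD (nat_lit 42) (.dfs (nat_lit 8) (nat_lit 4104) (nat_lit 4106) (nat_lit 0x1010004002001) (nat_lit 0x1010004002001) (nat_lit 0) (nat_lit 0) (nat_lit 3) (nat_lit 0) (nat_lit 0) (nat_lit 8) (nat_lit 1) (nat_lit 0) (nat_lit 1) (nat_lit 0) (nat_lit 1) (nat_lit 0x100010001000100) (.cD (nat_lit 8) (.extn (nat_lit 0x103e03d00202b00400702800903603500a02300c00f02001102e02d01203b01401703801902602501a03301c01f03003100e00d03201b03403701803900600503a01303c03f01002101e01d02200b02402700802901601502a00302c02f000) (nat_lit 0x2000400100202a012) (nat_lit 0x1004010008020) (nat_lit 2) (nat_lit 0) (nat_lit 0) (nat_lit 2) (nat_lit 0x40004000000000) (.cE (nat_lit 38) (nat_lit 0x3700800b03400d02202100e03f00000303c00502a02900602701801b02401d03203101e02f01001302c01503a03901600703803b00403d01201103e00f03003300c03501a01903601702802b01402d00200102e01f02002301c02500a009026)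 (nat_lit 0) (.iso x22 s87 (nat_lit 3) (nat_lit 0x1040020050008004002001) (nat_lit 0x40020050008004002001) [(nat_lit 0x8004003001003001)] (.cut (nat_lit 4))) .nil (.cE (nat_lit 54) (nat_lit 0x2701801b02401d03203101e02f01001302c01503a03901603700800b03400d02202100e03f00000303c00502a02900601702802b01402d00200102e01f02002301c02500a00902600703803b00403d01201103e00f03003300c03501a019036) (nat_lit 0) (.iso x22 s87 (nat_lit 3) (nat_lit 0x1040020050008004002041) (nat_lit 0x40020050008004002041) [(nat_lit 0x8004003001003001)] (.cut (nat_lit 4))) .nil .nil))) (.cD (nat_lit 24) (.kA false (nat_lit 0x602100102400100c00300200500400402100502f00102100100000400700200a00400b02a00500a00102100100000b00400200500302a00400502000102100100000a)) (.cD (nat_lit 40) (.kc (nat_lit 32) (nat_lit 0xc00302f001022001005003020001005)) (.cD (nat_lit 56) (.kc (nat_lit 32) (nat_lit 0x400402f001022001005003020001005)) .nil))))) .nil)))))) (.cD (nat_lit 11) (.mulh (nat_lit 1) (nat_lit 1) (.mulh (nat_lit 1) (nat_lit 1) (.czs (nat_lit 11) z0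 (nat_lit 16) (.dfs (nat_lit 4) (nat_lit 4100) (nat_lit 4111) (nat_lit 0x1008002001) (nat_lit 0x1008003001) (nat_lit 0) (nat_lit 0) (nat_lit 3) (nat_lit 0) (nat_lit 0) (nat_lit 2) (nat_lit 1) (nat_lit 0) (nat_lit 0x102603b) (nat_lit 0x3600d) (nat_lit 0x1000002001002000022001022001014001034) (nat_lit 0x400000004) (.cD (nat_lit 2) (.dfs (nat_lit 8) (nat_lit 4104) (nat_lit 4106) (nat_lit 0x1010004002001) (nat_lit 0x1010004002001) (nat_lit 0) (nat_lit 0) (nat_lit 3) (nat_lit 0) (nat_lit 0) (nat_lit 3) (nat_lit 1) (nat_lit 0) (nat_lit 1) (nat_lit 0) (nat_lit 1) (nat_lit 0x100010001000100) (.cD (nat_lit 8) (.extn a19 (nat_lit 0x2000400100202a012) (nat_lit 0x1004010008020) (nat_lit 2) (nat_lit 0) (nat_lit 0) (nat_lit 2) (nat_lit 0x400040) (.cE (nat_lit 6) b26 (nat_lit 0) (.cut (nat_lit 1)) .nil (.cE (nat_lit 22) (nat_lit 0x2702802302c03502a02103e02f02002b02403d02202903603703803303c02503a03102e03f03003b03402d03203902601701801301c00501a01100e01f01001b01400d01201900600700800300c01500a00101e00f00000b00401d002009016)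 (nat_lit 0) (.iso x1 s1 (nat_lit 0) (nat_lit 0x1040020010008004002041) (nat_lit 0x40020010008004002041) [(nat_lit 0x8004002001003001)] (.cut (nat_lit 1))) .nil .nil))) (.cD (nat_lit 24) (.extn a20 (nat_lit 0x2000400100202a012) (nat_lit 0x1004010008020) (nat_lit 2) (nat_lit 0) (nat_lit 0) (nat_lit 2) (nat_lit 0x4000400000000000) (.cE (nat_lit 46) b27 t27 (.cut (nat_lit 2)) .nil (.cE (nat_lit 62) (nat_lit 0xf01000b01401d01200900601700801300c00500a01101e01f00001b00400d00201901600701800301c01501a00100e03f02003b02402d02203903602703802303c03503a02102e02f03002b03403d03202902603702803302c02502a03103e) (nat_lit 0) (.iso x2 s47 (nat_lit 1) (nat_lit 0x1040020010008004002041) (nat_lit 0x40020010008004002041) [(nat_lit 0x8004002001003001)] (.cut (nat_lit 2))) .nil .nil))) (.cD (nat_lit 40) (.kA false (nat_lit 0x2a004021024001002004001020001002)) (.cD (nat_lit 56) (.kA false (nat_lit 0x2a004025024001002004001020001002)) .nil))))) (.cD (nat_lit 34) (.kc (nat_lit 32) (nat_lit 0x4004005001021001000005003010001005))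 .nil)))))) (.cD (nat_lit 35) (.mulh (nat_lit 1) (nat_lit 1) (.mulh (nat_lit 1) (nat_lit 1) (.czs (nat_lit 35) z1 (nat_lit 16) (.dfs (nat_lit 4) (nat_lit 4100) (nat_lit 4111) (nat_lit 0x1008002001) (nat_lit 0x1008003001) (nat_lit 0) (nat_lit 0) (nat_lit 3) (nat_lit 0) (nat_lit 0) (nat_lit 9) (nat_lit 1) (nat_lit 0) (nat_lit 0x1006003) (nat_lit 90149) (nat_lit 0x100000a00100a00002a00102a00100c00102c) (nat_lit 0x40000000400) (.cD (nat_lit 10) (.dfs (nat_lit 8) (nat_lit 4104) (nat_lit 4106) (nat_lit 0x1010004002001) (nat_lit 0x1010004002001) (nat_lit 0) (nat_lit 0) (nat_lit 3) (nat_lit 0) (nat_lit 0) (nat_lit 8) (nat_lit 1) (nat_lit 0) (nat_lit 1) (nat_lit 0) (nat_lit 1) (nat_lit 0x100010001000100) (.cD (nat_lit 8) (.kA false (nat_lit 0x600100502400100c00200600500400400102a00f00102100100000400600800b00402b02a02f00a00102100100000a00400600500302a00400502000102100100000a)) (.cD (nat_lit 24) (.extn a40 (nat_lit 0x2000400100202a012) (nat_lit 0x1004010008020) (nat_lit 2) (nat_lit 0) (nat_lit 0) (nat_lit 2) (nat_lit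 0x40004000) (.cE (nat_lit 14) b55 (nat_lit 0) (.cut (nat_lit 3)) .nil (.cE (nat_lit 30) (nat_lit 0xf02001303c01502a01902601703800b02400d03200103e01f03000302c00503a00903600702801b03401d02201102e03f01002300c02501a02901602700803b01403d00203100e02f00003301c03500a03900603701802b00402d01202101e) (nat_lit 0) (.iso x21 s49 (nat_lit 2) (nat_lit 0x1040020010008004002041) (nat_lit 0x40020010008004002041) [(nat_lit 0x8004002001003001)] (.cut (nat_lit 3))) .nil .nil))) (.cD (nat_lit 40) (.kc (nat_lit 32) (nat_lit 0x400400f001022001005003020001005)) (.cD (nat_lit 56) (.kc (nat_lit 32) (nat_lit 0xc00300f001022001005003020001005)) .nil))))) (.cD (nat_lit 42) (.dfs (nat_lit 8) (nat_lit 4104) (nat_lit 4106) (nat_lit 0x1010004002001) (nat_lit 0x1010004002001) (nat_lit 0) (nat_lit 0) (nat_lit 3) (nat_lit 0) (nat_lit 0) (nat_lit 8) (nat_lit 1) (nat_lit 0) (nat_lit 1) (nat_lit 0) (nat_lit 1) (nat_lit 0x100010001000100) (.cD (nat_lit 8) (.extn (nat_lit 0x2103e01d00200b00402702802903601500a00300c02f02003102e00d01201b01403703803902600501a01301c03f03001100e02d03203b03401701801900602503a03303c01f01000101e03d02202b02400700800901603502a02302c00f000)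 (nat_lit 0x2000400100202a012) (nat_lit 0x1004010008020) (nat_lit 2) (nat_lit 0) (nat_lit 0) (nat_lit 2) (nat_lit 0x4000400000000000) (.cE (nat_lit 46) (nat_lit 0xf00003303c03502a01900600700803b03403d02201100e01f01002302c02503a00901601701802b02402d03200101e03f03000300c00501a02903603703800b00400d01202103e02f02001301c01500a03902602702801b01401d00203102e) (nat_lit 0) (.iso x21 s49 (nat_lit 2) (nat_lit 0x1040020050008004002001) (nat_lit 0x40020050008004002001) [(nat_lit 0x8004003001003001)] (.cut (nat_lit 3))) .nil (.cE (nat_lit 62) (nat_lit 0x1f01002302c02503a00901601701802b02402d03200101e00f00003303c03502a01900600700803b03403d02201100e02f02001301c01500a03902602702801b01401d00203102e03f03000300c00501a02903603703800b00400d01202103e) (nat_lit 0) (.iso x21 s49 (nat_lit 2) (nat_lit 0x1040020050008004002041) (nat_lit 0x40020050008004002041) [(nat_lit 0x8004003001003001)] (.cut (nat_lit 3))) .nil .nil))) (.cD (nat_lit 24) (.kA false (nat_lit 0x602100102400100c00300200500400402100502f00102100100000400700200a00400b02a00500a00102100100000b00400200500302a00400502000102100100000a))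 (.cD (nat_lit 40) (.kc (nat_lit 32) (nat_lit 0xc00302f001022001005003020001005)) (.cD (nat_lit 56) (.kc (nat_lit 32) (nat_lit 0x400402f001022001005003020001005)) .nil))))) .nil)))))) (.cD (nat_lit 43) (.mulh (nat_lit 1) (nat_lit 1) (.mulh (nat_lit 1) (nat_lit 1) (.czs (nat_lit 43) z0 (nat_lit 16) (.dfs (nat_lit 4) (nat_lit 4100) (nat_lit 4111) (nat_lit 0x1008002001) (nat_lit 0x1008003001) (nat_lit 0) (nat_lit 0) (nat_lit 3) (nat_lit 0) (nat_lit 0) (nat_lit 2) (nat_lit 1) (nat_lit 0) (nat_lit 0x102603b) (nat_lit 0x3600d) (nat_lit 0x1000002001002000022001022001014001034) (nat_lit 0x400000004) (.cD (nat_lit 2) (.dfs (nat_lit 8) (nat_lit 4104) (nat_lit 4106) (nat_lit 0x1010004002001) (nat_lit 0x1010004002001) (nat_lit 0) (nat_lit 0) (nat_lit 3) (nat_lit 0) (nat_lit 0) (nat_lit 3) (nat_lit 1) (nat_lit 0) (nat_lit 1) (nat_lit 0) (nat_lit 1) (nat_lit 0x100010001000100) (.cD (nat_lit 8) (.extn (nat_lit 0x102e00502a00303c01702800902600d02200b03401f02001103e01503a01302c00703801903601d03201b02400f03003101e03501a03300c02701803901603d01203b00402f01002100e02500a02301c03700802900602d00202b01403f000)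 (nat_lit 0x2000400100202a012) (nat_lit 0x1004010008020) (nat_lit 2) (nat_lit 0) (nat_lit 0) (nat_lit 2) (nat_lit 0x40004000) (.cE (nat_lit 14) (nat_lit 0xf03000b03401d03200902600703800303c01503a00102e01f02001b02400d02201903601702801302c00502a01103e03f00003b00402d00203901603700803300c02500a03101e02f01002b01403d01202900602701802301c03501a02100e) (nat_lit 0) (.iso x2 s47 (nat_lit 1) (nat_lit 0x1040020050008004002001) (nat_lit 0x40020050008004002001) [(nat_lit 0x8004003001003001)] (.cut (nat_lit 2))) .nil (.cE (nat_lit 30) (nat_lit 0x1f02001b02400d02201903601702801302c00502a01103e00f03000b03401d03200902600703800303c01503a00102e02f01002b01403d01202900602701802301c03501a02100e03f00003b00402d00203901603700803300c02500a03101e) (nat_lit 0) (.iso x2 s47 (nat_lit 1) (nat_lit 0x1040020050008004002041) (nat_lit 0x40020050008004002041) [(nat_lit 0x8004003001003001)] (.cut (nat_lit 2))) .nil .nil))) (.cD (nat_lit 24) (.extn (nat_lit 0x1103e01503a01302c00703800902600d02200b03401f02000102e00502a00303c01702801903601d03201b02400f03002100e02500a02301c03700803901603d01203b00402f01003101e03501a03300c02701802900602d00202b01403f000)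 (nat_lit 0x2000400100202a012) (nat_lit 0x1004010008020) (nat_lit 2) (nat_lit 0) (nat_lit 0) (nat_lit 2) (nat_lit 0x400040) (.cE (nat_lit 6) (nat_lit 0x702800302c01502a00103e01f03001b03400d03201902601703801303c00503a01102e00f02000b02401d02200903603701803301c02501a03100e02f00002b00403d00202901602700802300c03500a02101e03f01003b01402d012039006) (nat_lit 0) (.iso x1 s1 (nat_lit 0) (nat_lit 0x1040020050008004002001) (nat_lit 0x40020050008004002001) [(nat_lit 0x8004003001003001)] (.cut (nat_lit 1))) .nil (.cE (nat_lit 22) (nat_lit 0x1703801303c00503a01102e00f02000b02401d02200903600702800302c01502a00103e01f03001b03400d03201902602700802300c03500a02101e03f01003b01402d01203900603701803301c02501a03100e02f00002b00403d002029016) (nat_lit 0) (.iso x1 s1 (nat_lit 0) (nat_lit 0x1040020050008004002041) (nat_lit 0x40020050008004002041) [(nat_lit 0x8004003001003001)] (.cut (nat_lit 1))) .nil .nil))) (.cD (nat_lit 40) (.kA false (nat_lit 0x2a004021024001002004001020001002)) (.cD (nat_lit 56) (.kA false (nat_lit 0x2a004025024001002004001020001002))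 .nil))))) (.cD (nat_lit 34) (.kc (nat_lit 32) (nat_lit 0x4004005001021001000005003010001005)) .nil)))))) .nil))))) .nil)))))))))))
theorem c88 : (chk [(x0, s0), (x1, s1), (x2, s47), (x21, s49), (x22, s87)] [g26, g27, g55, g7] p88).n x0 s88 = true := by decide +kernel
noncomputable def p89 : Pf := (.cut (nat_lit 0))
theorem c89 : (chk [(x0, s88)] [] p89).n x0 s89 = true := by decide +kernel

end Cfsg.Lib.D8.T2I
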