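import Cfsg.Agent.Lib.D8.CkZ
import Cfsg.Agent.Lib.D8.T.T2IC0

/-! The chain (generated, helper29). -/

set_option maxRecDepth 100000
set_option Elab.async false

namespace Cfsg.Lib.D8.T2I

universe u

theorem k0 : TabOK.{u} g0 := .triv
theorem k1 : TabOK.{u} g1 := k0.ext ha0 hb1
theorem k2 : TabOK.{u} g2 := k1.ext ha1 hb2
theorem k3 : TabOK.{u} g3 := k2.ext ha2 hb3
theorem k4 : TabOK.{u} g4 := k3.ext ha3 hb4
theorem k5 : TabOK.{u} g5 := (k4.ext ha4 hb5).tb ht5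
theorem k6 : TabOK.{u} g6 := (k5.ext ha5 hb6).tb ht6
theorem k7 : TabOK.{u} g7 := k6.ext ha6 hb7
theorem k10 : TabOK.{u} g10 := k7.ext ha8 hb10
theorem k11 : TabOK.{u} g11 := k10.ext ha9 hb11
theorem k12 : TabOK.{u} g12 := k10.ext ha9 hb12
theorem k13 : TabOK.{u} g13 := (k3.ext ha10 hb13).tb ht13
theorem k14 : TabOK.{u} g14 := k13.ext ha11 hb14
theorem k15 : TabOK.{u} g15 := k14.ext ha12 hb15
theorem k16 : TabOK.{u} g16 := k15.ext ha13 hb16
theorem k17 : TabOK.{u} g17 := k16.ext ha14 hb17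
theorem k18 : TabOK.{u} g18 := k17.ext ha15 hb18
theorem k21 : TabOK.{u} g21 := k10.ext ha17 hb21
theorem k26 : TabOK.{u} g26 := k6.ext ha19 hb26
theorem k27 : TabOK.{u} g27 := (k6.ext ha20 hb27).tb ht27
theorem k29 : TabOK.{u} g29 := k27.ext ha21 hb29
theorem k30 : TabOK.{u} g30 := k29.ext ha22 hb30
theorem k31 : TabOK.{u} g31 := k30.ext ha23 hb31
theorem k32 : TabOK.{u} g32 := (k4.ext ha24 hb32).tb ht32
theorem k33 : TabOK.{u} g33 := k32.ext ha25 hb33
theorem k34 : TabOK.{u} g34 := k33.ext ha26 hb34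
theorem k35 : TabOK.{u} g35 := k34.ext ha27 hb35
theorem k36 : TabOK.{u} g36 := k35.ext ha28 hb36
theorem k37 : TabOK.{u} g37 := k36.ext ha29 hb37
theorem k41 : TabOK.{u} g41 := k29.ext ha22 hb41
theorem k42 : TabOK.{u} g42 := k41.ext ha31 hb42
theorem k43 : TabOK.{u} g43 := k32.ext ha32 hb43
theorem k44 : TabOK.{u} g44 := k43.ext ha33 hb44
theorem k45 : TabOK.{u} g45 := k44.ext ha34 hb45
theorem k46 : TabOK.{u} g46 := k45.ext ha35 hb46
theorem k47 : TabOK.{u} g47 := k46.ext ha36 hb47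
theorem k51 : TabOK.{u} g51 := k27.ext ha38 hb51
theorem k55 : TabOK.{u} g55 := k6.ext ha40 hb55
theorem v0 : Valid.{u} x0 s0 := chk_ok .nil .nil c0
theorem v1 : Valid.{u} x1 s1 := chk_ok .nil .nil c1
theorem v2 : Valid.{u} x4 s2 := chk_ok .nil .nil c2
theorem v3 : Valid.{u} x5 s3 := chk_ok .nil .nil c3
theorem v4 : Valid.{u} x3 s4 := chk_ok (.cons v2 (.cons v3 .nil)) .nil c4
theorem v5 : Valid.{u} x3 s5 := chk_ok (.cons v4 .nil) .nil c5
theorem v6 : Valid.{u} x3 s6 := chk_ok (.cons v5 .nil) .nil c6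
theorem v7 : Valid.{u} x3 s7 := chk_ok (.cons v6 .nil) (.cons k51 .nil) c7
theorem v8 : Valid.{u} x3 s8 := chk_ok (.cons v7 .nil) .nil c8
theorem v9 : Valid.{u} x6 s9 := chk_ok .nil .nil c9
theorem v10 : Valid.{u} x2 s10 := chk_ok (.cons v8 (.cons v9 .nil)) .nil c10
theorem v11 : Valid.{u} x2 s11 := chk_ok (.cons v10 .nil) .nil c11
theorem v12 : Valid.{u} x7 s12 := chk_ok .nil .nil c12
theorem v13 : Valid.{u} x8 s13 := chk_ok .nil .nil c13
theorem v14 : Valid.{u} x8 s14 := chk_ok (.cons v13 .nil) .nil c14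
theorem v15 : Valid.{u} x8 s15 := chk_ok (.cons v14 .nil) .nil c15
theorem v16 : Valid.{u} x8 s16 := chk_ok (.cons v15 .nil) .nil c16
theorem v17 : Valid.{u} x10 s17 := chk_ok .nil .nil c17
theorem v18 : Valid.{u} x11 s18 := chk_ok .nil .nil c18
theorem v19 : Valid.{u} x9 s19 := chk_ok (.cons v17 (.cons v18 .nil)) .nil c19
theorem v20 : Valid.{u} x12 s20 := chk_ok .nil (.cons k37 .nil) c20
theorem v21 : Valid.{u} x12 s21 := chk_ok (.cons v20 .nil) .nil c21
theorem v22 : Valid.{u} x12 s22 := chk_ok (.cons v21 .nil) (.cons k31 .nil) c22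
theorem v23 : Valid.{u} x12 s23 := chk_ok (.cons v21 .nil) (.cons k31 .nil) c23
theorem v24 : Valid.{u} x12 s24 := chk_ok (.cons v21 (.cons v22 (.cons v23 .nil))) (.cons k31 .nil) c24
theorem v25 : Valid.{u} x14 s25 := chk_ok .nil .nil c25
theorem v26 : Valid.{u} x9 s26 := chk_ok (.cons v24 (.cons v25 .nil)) .nil c26
theorem v27 : Valid.{u} x9 s27 := chk_ok (.cons v19 (.cons v26 .nil)) .nil c27
theorem v28 : Valid.{u} x16 s28 := chk_ok .nil .nil c28
theorem v29 : Valid.{u} x17 s29 := chk_ok .nil .nil c29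
theorem v30 : Valid.{u} x15 s30 := chk_ok (.cons v28 (.cons v29 .nil)) .nil c30
theorem v31 : Valid.{u} x18 s31 := chk_ok .nil (.cons k47 .nil) c31
theorem v32 : Valid.{u} x18 s32 := chk_ok (.cons v31 .nil) .nil c32
theorem v33 : Valid.{u} x18 s33 := chk_ok (.cons v32 .nil) (.cons k42 .nil) c33
theorem v34 : Valid.{u} x18 s34 := chk_ok (.cons v32 .nil) (.cons k42 .nil) c34
theorem v35 : Valid.{u} x18 s35 := chk_ok (.cons v32 (.cons v33 (.cons v34 .nil))) (.cons k42 .nil) c35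
theorem v36 : Valid.{u} x20 s36 := chk_ok .nil .nil c36
theorem v37 : Valid.{u} x15 s37 := chk_ok (.cons v35 (.cons v36 .nil)) .nil c37
theorem v38 : Valid.{u} x15 s38 := chk_ok (.cons v30 (.cons v37 .nil)) .nil c38
theorem v39 : Valid.{u} x8 s39 := chk_ok (.cons v27 (.cons v38 .nil)) .nil c39
theorem v40 : Valid.{u} x8 s40 := chk_ok (.cons v39 .nil) .nil c40
theorem v41 : Valid.{u} x8 s41 := chk_ok (.cons v40 .nil) .nil c41
theorem v42 : Valid.{u} x8 s42 := chk_ok (.cons v41 .nil) .nil c42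
theorem v43 : Valid.{u} x8 s43 := chk_ok (.cons v16 (.cons v42 .nil)) .nil c43
theorem v44 : Valid.{u} x8 s44 := chk_ok (.cons v43 .nil) (.cons k29 .nil) c44
theorem v45 : Valid.{u} x2 s45 := chk_ok (.cons v12 (.cons v44 .nil)) .nil c45
theorem v46 : Valid.{u} x2 s46 := chk_ok (.cons v45 .nil) .nil c46
theorem v47 : Valid.{u} x2 s47 := chk_ok (.cons v11 (.cons v46 .nil)) (.cons k27 .nil) c47
theorem v48 : Valid.{u} x21 s48 := chk_ok .nil .nil c48
theorem v49 : Valid.{u} x21 s49 := chk_ok (.cons v48 .nil) .nil c49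
theorem v50 : Valid.{u} x24 s50 := chk_ok .nil .nil c50
theorem v51 : Valid.{u} x25 s51 := chk_ok .nil .nil c51
theorem v52 : Valid.{u} x23 s52 := chk_ok (.cons v50 (.cons v51 .nil)) (.cons k11 .nil) c52
theorem v53 : Valid.{u} x23 s53 := chk_ok (.cons v52 .nil) .nil c53
theorem v54 : Valid.{u} x26 s54 := chk_ok .nil .nil c54
theorem v55 : Valid.{u} x26 s55 := chk_ok (.cons v54 .nil) .nil c55
theorem v56 : Valid.{u} x26 s56 := chk_ok (.cons v55 .nil) (.cons k21 .nil) c56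
theorem v57 : Valid.{u} x26 s57 := chk_ok (.cons v56 .nil) .nil c57
theorem v58 : Valid.{u} x27 s58 := chk_ok .nil .nil c58
theorem v59 : Valid.{u} x27 s59 := chk_ok (.cons v58 .nil) .nil c59
theorem v60 : Valid.{u} x23 s60 := chk_ok (.cons v57 (.cons v59 .nil)) .nil c60
theorem v61 : Valid.{u} x23 s61 := chk_ok (.cons v60 .nil) .nil c61
theorem v62 : Valid.{u} x23 s62 := chk_ok (.cons v53 (.cons v61 .nil)) .nil c62
theorem v63 : Valid.{u} x23 s63 := chk_ok (.cons v62 .nil) .nil c63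
theorem v64 : Valid.{u} x28 s64 := chk_ok .nil .nil c64
theorem v65 : Valid.{u} x29 s65 := chk_ok .nil .nil c65
theorem v66 : Valid.{u} x23 s66 := chk_ok (.cons v64 (.cons v65 .nil)) .nil c66
theorem v67 : Valid.{u} x23 s67 := chk_ok (.cons v66 .nil) .nil c67
theorem v68 : Valid.{u} x24 s68 := chk_ok (.cons v50 .nil) .nil c68
theorem v69 : Valid.{u} x30 s69 := chk_ok .nil (.cons k18 .nil) c69
theorem v70 : Valid.{u} x30 s70 := chk_ok (.cons v69 .nil) .nil c70
theorem v71 : Valid.{u} x30 s71 := chk_ok (.cons v70 .nil) (.cons k12 .nil) c71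
theorem v72 : Valid.{u} x30 s72 := chk_ok (.cons v71 .nil) .nil c72
theorem v73 : Valid.{u} x23 s73 := chk_ok (.cons v68 (.cons v72 .nil)) .nil c73
theorem v74 : Valid.{u} x23 s74 := chk_ok (.cons v73 .nil) .nil c74
theorem v75 : Valid.{u} x23 s75 := chk_ok (.cons v67 (.cons v74 .nil)) .nil c75
theorem v76 : Valid.{u} x23 s76 := chk_ok (.cons v75 .nil) .nil c76
theorem v77 : Valid.{u} x23 s77 := chk_ok (.cons v63 (.cons v76 .nil)) .nil c77
theorem v78 : Valid.{u} x23 s78 := chk_ok (.cons v77 .nil) (.cons k10 .nil) c78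
theorem v79 : Valid.{u} x32 s79 := chk_ok .nil .nil c79
theorem v80 : Valid.{u} x22 s80 := chk_ok (.cons v78 (.cons v79 .nil)) .nil c80
theorem v81 : Valid.{u} x22 s81 := chk_ok (.cons v80 .nil) .nil c81
theorem v82 : Valid.{u} x33 s82 := chk_ok .nil .nil c82
theorem v83 : Valid.{u} x34 s83 := chk_ok .nil .nil c83
theorem v84 : Valid.{u} x22 s84 := chk_ok (.cons v82 (.cons v83 .nil)) .nil c84
theorem v85 : Valid.{u} x22 s85 := chk_ok (.cons v84 .nil) .nil c85
theorem v86 : Valid.{u} x22 s86 := chk_ok (.cons v81 (.cons v85 .nil)) .nil c86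
theorem v87 : Valid.{u} x22 s87 := chk_ok (.cons v86 .nil) .nil c87
theorem v88 : Valid.{u} x0 s88 := chk_ok (.cons v0 (.cons v1 (.cons v47 (.cons v49 (.cons v87 .nil))))) (.cons k26 (.cons k27 (.cons k55 (.cons k7 .nil)))) c88
theorem v89 : Valid.{u} x0 s89 := chk_ok (.cons v88 .nil) .nil c89

end Cfsg.Lib.D8.T2I
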